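import Mathlib

/-!
# Conjugates of subgroups written as `H.map (MulAut.conj k).toMonoidHom`

* `mem_map_conj`            : `x ∈ H.map (conj k) ↔ k⁻¹ * x * k ∈ H`;
* `card_map_conj`           : conjugates have the same cardinality;
* `map_conj_eq_of_le`       : (finite) a conjugate contained in `H` equals `H`;
* `mem_normalizer_of_conj_mem` : (finite) if `g * r * g⁻¹ ∈ R` for all `r ∈ R` then `g ∈ N(R)`;
* `mem_normalizer_of_conj_mem'`: same with `g⁻¹ * r * g`.
-/

set_option autoImplicit false

namespace Cfsg.Agent.Lib.Lead.Conj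

variable {G : Type*} [Group G]

theorem mem_map_conj (H : Subgroup G) (k x : G) :
    x ∈ H.map (MulAut.conj k).toMonoidHom ↔ k⁻¹ * x * k ∈ H := by
  constructor
  · rintro ⟨t, ht, rfl⟩
    have : k⁻¹ * ((MulAut.conj k).toMonoidHom t) * k = t := by
      show k⁻¹ * (k * t * k⁻¹) * k = t
      group
    rw [this]; exact ht
  · intro h
    refine ⟨k⁻¹ * x * k, h, ?_⟩
    show k * (k⁻¹ * x * k) * k⁻¹ = x
    group

theorem conj_mem_map_conj (H : Subgroup G) (k : G) {x : G} (hx : x ∈ H) :
    k * x * k⁻¹ ∈ H.map (MulAut.conj k).toMonoidHom := by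
  rw [mem_map_conj]
  have : k⁻¹ * (k * x * k⁻¹) * k = x := by group
  rw [this]; exact hx

theorem card_map_conj (H : Subgroup G) (k : G) :
    Nat.card ↥(H.map (MulAut.conj k).toMonoidHom) = Nat.card ↥H :=
  Nat.card_congr (H.equivMapOfInjective _ (MulAut.conj k).injective).symm.toEquiv

theorem map_conj_eq_of_le [Finite G] (H : Subgroup G) (k : G)
    (h : H.map (MulAut.conj k).toMonoidHom ≤ H) : H.map (MulAut.conj k).toMonoidHom = H :=
  Subgroup.eq_of_le_of_card_ge h (le_of_eq (card_map_conj H k).symm)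

theorem orderOf_conj (k x : G) : orderOf (k * x * k⁻¹) = orderOf x :=
  orderOf_injective (MulAut.conj k).toMonoidHom (MulAut.conj k).injective x

theorem orderOf_conj' (k x : G) : orderOf (k⁻¹ * x * k) = orderOf x := by
  have := orderOf_conj k⁻¹ x
  rwa [inv_inv] at this

/-- In a finite group, `g R g⁻¹ ⊆ R` already gives `g ∈ N(R)`. -/
theorem mem_normalizer_of_conj_mem [Finite G] (R : Subgroup G) (g : G)
    (h : ∀ r ∈ R, g * r * g⁻¹ ∈ R) : g ∈ Subgroup.normalizer (R : Set G) := by
  have hle : R.map (MulAut.conj g).toMonoidHom ≤ R := by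
    rintro _ ⟨r, hr, rfl⟩
    exact h r hr
  have heq := map_conj_eq_of_le R g hle
  rw [Subgroup.mem_normalizer_iff]
  intro y
  constructor
  · exact h y
  · intro hy
    rw [← heq, mem_map_conj] at hy
    have : g⁻¹ * (g * y * g⁻¹) * g = y := by group
    rwa [this] at hy

theorem mem_normalizer_of_conj_mem' [Finite G] (R : Subgroup G) (g : G)
    (h : ∀ r ∈ R, g⁻¹ * r * g ∈ R) : g ∈ Subgroup.normalizer (R : Set G) := by
  have : g⁻¹ ∈ Subgroup.normalizer (R : Set G) := by
    apply mem_normalizer_of_conj_mem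
    intro r hr
    rw [inv_inv]
    exact h r hr
  simpa using Subgroup.inv_mem _ this

end Cfsg.Agent.Lib.Lead.Conj
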