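import Mathlib
import Cfsg.Prelude.Def_OddOrderLocal
import Cfsg.Prelude.Def_Solvable

/-!
# The `π`-core `O_π(G)` (`Cfsg.piCore`), `O_{p'}(G)` (`Cfsg.pPrimeCore`) and subnormal subgroups

`IsPiNat π n` : every prime divisor of `n` lies in `π`.

For a finite group `G`:
* `piCore_isPiNat`          : `O_π(G)` is a `π`-group;
* `le_piCore`               : a normal `π`-subgroup lies in `O_π(G)` (no finiteness needed);
* `piCore_characteristic`, `piCore_map_equiv`;
* `map_subtype_piCore_le_of_normal` : `O_π(N) ≤ O_π(G)` for `N ⊴ G`;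
* `map_subtype_piCore_le_of_subnormal` : `O_π(H) ≤ O_π(G)` for `H` subnormal in `G`;
* `subnormal_le_piCore`     : a subnormal `π`-subgroup lies in `O_π(G)`;
* `piCore_quotient_eq_bot`  : `O_π(G / O_π(G)) = 1`;
* `not_dvd_card_of_normal_nilpotent` : if `O_π(G) = 1`, no prime of `π` divides `|N|`, `N` normal nilpotent;
* `piCore_eq_bot_of_subnormal` : if `O_π(G) = 1` and `H` subnormal then `O_π(H) = 1`;
* `pPrimeCore_eq_piCore`    : `O_{p'}(G) = O_π(G)` for `π = {q | q ≠ p}` (`p` prime);
* `pCore_eq_piCore`         : `O_p(G) = O_{{p}}(G)`;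
and the corresponding statements for `pPrimeCore`:
`pPrimeCore_coprime`, `le_pPrimeCore`, `subnormal_le_pPrimeCore`, `pPrimeCore_quotient_eq_bot`.
-/

set_option autoImplicit false
set_option linter.style.haveILetI false

namespace Cfsg.Agent.Lib.Lead.PiCore

open Cfsg

universe u

/-- every prime divisor of `n` lies in `π`. -/
def IsPiNat (π : Set ℕ) (n : ℕ) : Prop := ∀ p : ℕ, p.Prime → p ∣ n → p ∈ π

theorem IsPiNat.mul {π : Set ℕ} {m n : ℕ} (hm : IsPiNat π m) (hn : IsPiNat π n) : IsPiNat π (m * n) := by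
  intro p hp hdvd
  rcases (Nat.Prime.dvd_mul hp).mp hdvd with h | h
  · exact hm p hp h
  · exact hn p hp h

theorem IsPiNat.of_dvd {π : Set ℕ} {m n : ℕ} (hn : IsPiNat π n) (h : m ∣ n) : IsPiNat π m :=
  fun p hp hdvd => hn p hp (dvd_trans hdvd h)

theorem isPiNat_one (π : Set ℕ) : IsPiNat π 1 := by
  intro p hp hdvd
  exact absurd (Nat.dvd_one.mp hdvd) hp.one_lt.ne'

section
variable {G : Type u} [Group G]

theorem card_sup_dvd [Finite G] (H N : Subgroup G) [hN : N.Normal] :
    Nat.card ↥(H ⊔ N) ∣ Nat.card ↥H * Nat.card ↥N := by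
  have h1 := Subgroup.card_mul_index (N.subgroupOf (H ⊔ N))
  have h2 : Nat.card ↥(N.subgroupOf (H ⊔ N)) = Nat.card ↥N :=
    Nat.card_congr (Subgroup.subgroupOfEquivOfLe (le_sup_right : N ≤ H ⊔ N)).toEquiv
  have h3 : (N.subgroupOf (H ⊔ N)).index = N.relIndex H := by
    have := Subgroup.relIndex_sup_right (H := H) (K := N)
    exact this
  rw [h2, h3] at h1
  rw [← h1, mul_comm]
  exact Nat.mul_dvd_mul_right (Subgroup.relIndex_dvd_card N H) _

theorem le_piCore {π : Set ℕ} {N : Subgroup G} (hn : N.Normal) (hπ : IsPiNat π (Nat.card ↥N)) :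
    N ≤ piCore π G :=
  le_sSup ⟨hn, hπ⟩

theorem piCore_isPiNat [Finite G] (π : Set ℕ) : IsPiNat π (Nat.card ↥(piCore π G)) := by
  have key : ∀ T : Set (Subgroup G), T.Finite → T ⊆ {N : Subgroup G | N.Normal ∧ IsPiNat π (Nat.card ↥N)} →
      (sSup T).Normal ∧ IsPiNat π (Nat.card ↥(sSup T)) := by
    intro T hT
    induction T, hT using Set.Finite.induction_on with
    | empty =>
      intro _
      rw [sSup_empty]
      refine ⟨inferInstance, ?_⟩
      rw [Subgroup.card_bot]
      exact isPiNat_one π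
    | insert ha hT ih =>
      intro hsub
      rename_i a T
      have ha' := hsub (Set.mem_insert a T)
      have ih' := ih (fun x hx => hsub (Set.mem_insert_of_mem a hx))
      rw [sSup_insert]
      haveI := ih'.1
      haveI := ha'.1
      refine ⟨inferInstance, ?_⟩
      exact (ha'.2.mul ih'.2).of_dvd (card_sup_dvd a (sSup T))
  exact (key _ (Set.toFinite _) (fun N hN => hN)).2

theorem piCore_map_le {H : Type u} [Group H] [Finite G] (π : Set ℕ) (e : G ≃* H) :
    (piCore π G).map e.toMonoidHom ≤ piCore π H := by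
  refine le_piCore ?_ ?_
  · exact Subgroup.Normal.map (piCore_normal π G) e.toMonoidHom e.surjective
  · rw [Nat.card_congr ((piCore π G).equivMapOfInjective _ e.injective).symm.toEquiv]
    exact piCore_isPiNat π

theorem piCore_characteristic [Finite G] (π : Set ℕ) : (piCore π G).Characteristic := by
  rw [Subgroup.characteristic_iff_map_le]
  intro φ
  exact piCore_map_le π φ

theorem piCore_map_equiv {H : Type u} [Group H] [Finite G] (π : Set ℕ) (e : G ≃* H) :
    (piCore π G).map e.toMonoidHom = piCore π H := by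
  haveI : Finite H := Finite.of_equiv G e.toEquiv
  apply le_antisymm (piCore_map_le π e)
  intro x hx
  refine ⟨e.symm x, piCore_map_le π e.symm ⟨x, hx, rfl⟩, ?_⟩
  simp

/-- `O_π(N) ≤ O_π(G)` for a normal subgroup `N`. -/
theorem map_subtype_piCore_le_of_normal [Finite G] (π : Set ℕ) (N : Subgroup G) [N.Normal] :
    (piCore π ↥N).map N.subtype ≤ piCore π G := by
  haveI := piCore_characteristic (G := ↥N) π
  refine le_piCore ConjAct.normal_of_characteristic_of_normal ?_
  rw [Nat.card_congr ((piCore π ↥N).equivMapOfInjective _ N.subtype_injective).symm.toEquiv]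
  exact piCore_isPiNat π

/-- `O_π(H) ≤ O_π(G)` for a subnormal subgroup `H`. -/
theorem map_subtype_piCore_le_of_subnormal [Finite G] (π : Set ℕ) {H : Subgroup G} (hH : H.IsSubnormal) :
    (piCore π ↥H).map H.subtype ≤ piCore π G := by
  induction hH with
  | top =>
    have := piCore_map_equiv π (Subgroup.topEquiv : (⊤ : Subgroup G) ≃* G)
    rw [← this]
    exact le_of_eq rfl
  | step H K hle hK hN ih =>
    haveI := hN
    -- `O_π(H.subgroupOf K) ≤ O_π(K)`
    have h1 := map_subtype_piCore_le_of_normal π (H.subgroupOf K)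
    -- transport along `H.subgroupOf K ≃* H`
    have h2 := piCore_map_equiv π (Subgroup.subgroupOfEquivOfLe hle)
    rw [← h2]
    intro x hx
    obtain ⟨y, hy, rfl⟩ := hx
    obtain ⟨z, hz, rfl⟩ := hy
    apply ih
    refine ⟨(H.subgroupOf K).subtype z, h1 ⟨z, hz, rfl⟩, rfl⟩

/-- A subnormal `π`-subgroup lies in `O_π(G)`. -/
theorem subnormal_le_piCore [Finite G] {π : Set ℕ} {H : Subgroup G} (hH : H.IsSubnormal)
    (hπ : IsPiNat π (Nat.card ↥H)) : H ≤ piCore π G := by
  have htop : piCore π ↥H = ⊤ := by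
    rw [eq_top_iff]
    refine le_piCore inferInstance ?_
    rw [Subgroup.card_top]
    exact hπ
  have := map_subtype_piCore_le_of_subnormal π hH
  rw [htop] at this
  intro x hx
  exact this ⟨⟨x, hx⟩, Subgroup.mem_top _, rfl⟩

/-- `O_π(G / O_π(G)) = 1`. -/
theorem piCore_quotient_eq_bot [Finite G] (π : Set ℕ) : piCore π (G ⧸ piCore π G) = ⊥ := by
  have hQπ : IsPiNat π (Nat.card ↥(piCore π (G ⧸ piCore π G))) := piCore_isPiNat π
  have hOπ : IsPiNat π (Nat.card ↥(piCore π G)) := piCore_isPiNat π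
  -- the preimage of `Q` is a normal `π`-subgroup
  have hM : (piCore π (G ⧸ piCore π G)).comap (QuotientGroup.mk' (piCore π G)) ≤ piCore π G := by
    refine le_piCore (Subgroup.Normal.comap (piCore_normal π _) _) ?_
    intro p hp hdvd
    haveI : Fact p.Prime := ⟨hp⟩
    obtain ⟨x, hx⟩ := exists_prime_orderOf_dvd_card' p hdvd
    by_cases hxO : (x : G) ∈ piCore π G
    · apply hOπ p hp
      have : orderOf (⟨x, hxO⟩ : ↥(piCore π G)) = p := by
        rw [← hx, Subgroup.orderOf_mk, Subgroup.orderOf_coe]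
      rw [← this]
      exact orderOf_dvd_natCard _
    · apply hQπ p hp
      have hxQ : (QuotientGroup.mk' (piCore π G)) (x : G) ∈ piCore π (G ⧸ piCore π G) := x.2
      have hne : (QuotientGroup.mk' (piCore π G)) (x : G) ≠ 1 := by
        intro h
        apply hxO
        exact (QuotientGroup.eq_one_iff _).mp h
      have hpow : ((QuotientGroup.mk' (piCore π G)) (x : G)) ^ p = 1 := by
        rw [← map_pow]
        have hxp : x ^ p = 1 := by rw [← hx]; exact pow_orderOf_eq_one x
        have : (x : G) ^ p = 1 := by rw [← Subgroup.coe_pow, hxp, Subgroup.coe_one]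
        rw [this, map_one]
      have hord : orderOf ((QuotientGroup.mk' (piCore π G)) (x : G)) = p := orderOf_eq_prime hpow hne
      have : orderOf (⟨_, hxQ⟩ : ↥(piCore π (G ⧸ piCore π G))) = p := by rw [Subgroup.orderOf_mk, hord]
      rw [← this]
      exact orderOf_dvd_natCard _
  rw [eq_bot_iff]
  intro y hy
  obtain ⟨x, rfl⟩ := QuotientGroup.mk'_surjective (piCore π G) y
  have : x ∈ piCore π G := hM hy
  rw [Subgroup.mem_bot]
  exact (QuotientGroup.eq_one_iff x).mpr this

/-- If `O_π(G) = 1`, no prime of `π` divides the order of a normal nilpotent subgroup. -/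
theorem not_dvd_card_of_normal_nilpotent [Finite G] {π : Set ℕ} (hbot : piCore π G = ⊥) (N : Subgroup G)
    [hN : N.Normal] [hnil : Group.IsNilpotent ↥N] {q : ℕ} (hq : q.Prime) (hqπ : q ∈ π) :
    ¬ q ∣ Nat.card ↥N := by
  intro hqN
  haveI : Fact q.Prime := ⟨hq⟩
  obtain ⟨P⟩ : Nonempty (Sylow q ↥N) := inferInstance
  haveI : (P : Subgroup ↥N).Normal := inferInstance
  haveI : (P : Subgroup ↥N).Characteristic := Sylow.characteristic_of_normal P inferInstance
  have hPn : ((P : Subgroup ↥N).map N.subtype).Normal := ConjAct.normal_of_characteristic_of_normal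
  have hcard : Nat.card ↥((P : Subgroup ↥N).map N.subtype) = Nat.card ↥(P : Subgroup ↥N) :=
    Nat.card_congr ((P : Subgroup ↥N).equivMapOfInjective _ N.subtype_injective).symm.toEquiv
  have hPπ : IsPiNat π (Nat.card ↥((P : Subgroup ↥N).map N.subtype)) := by
    rw [hcard]
    intro r hr hrdvd
    obtain ⟨n, hn⟩ := IsPGroup.iff_card.mp P.isPGroup'
    rw [hn] at hrdvd
    have := (Nat.prime_dvd_prime_iff_eq hr hq).mp (hr.dvd_of_dvd_pow hrdvd)
    rw [this]; exact hqπ
  have hle := le_piCore hPn hPπ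
  rw [hbot, le_bot_iff] at hle
  have h1 : Nat.card ↥(P : Subgroup ↥N) = 1 := by
    rw [← hcard, hle]; exact Subgroup.card_bot
  have h2 := P.card_eq_multiplicity
  rw [h1] at h2
  have hpos : 0 < (Nat.card ↥N).factorization q :=
    hq.factorization_pos_of_dvd Nat.card_pos.ne' hqN
  have : 1 < q ^ (Nat.card ↥N).factorization q := Nat.one_lt_pow hpos.ne' hq.one_lt
  omega

/-- If `O_π(G) = 1` and `H` is subnormal in `G` then `O_π(H) = 1`. -/
theorem piCore_eq_bot_of_subnormal [Finite G] {π : Set ℕ} (hbot : piCore π G = ⊥) {H : Subgroup G}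
    (hH : H.IsSubnormal) : piCore π ↥H = ⊥ := by
  have := map_subtype_piCore_le_of_subnormal π hH
  rw [hbot, le_bot_iff] at this
  exact (Subgroup.map_eq_bot_iff_of_injective _ H.subtype_injective).mp this

theorem piCore_quotient_eq_bot' [Finite G] (π : Set ℕ) (N : Subgroup G) [N.Normal] (h : N = piCore π G) :
    piCore π (G ⧸ N) = ⊥ := by
  subst h
  exact piCore_quotient_eq_bot π

end

section pPrime
variable {G : Type u} [Group G]

theorem coprime_iff_isPiNat {p : ℕ} (hp : p.Prime) (n : ℕ) :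
    n.Coprime p ↔ IsPiNat {q | q ≠ p} n := by
  constructor
  · intro h q hq hdvd
    rintro rfl
    have := Nat.Coprime.eq_one_of_dvd h.symm hdvd
    exact hq.one_lt.ne' this
  · intro h
    rw [Nat.coprime_comm, hp.coprime_iff_not_dvd]
    intro hdvd
    exact h p hp hdvd rfl

/-- `O_{p'}(G) = O_π(G)` with `π` the set of numbers other than `p`. -/
theorem pPrimeCore_eq_piCore {p : ℕ} (hp : p.Prime) : pPrimeCore p G = piCore {q | q ≠ p} G := by
  unfold pPrimeCore piCore
  congr 1
  ext N
  simp only [Set.mem_ofPred_eq]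
  rw [coprime_iff_isPiNat hp]
  rfl

theorem pPrimeCore_normal (p : ℕ) : (pPrimeCore p G).Normal :=
  Subgroup.sSup_normal _ (fun _ h => h.1)

theorem le_pPrimeCore {p : ℕ} {N : Subgroup G} (hn : N.Normal) (hc : (Nat.card ↥N).Coprime p) :
    N ≤ pPrimeCore p G :=
  le_sSup ⟨hn, hc⟩

theorem pPrimeCore_coprime [Finite G] {p : ℕ} (hp : p.Prime) : (Nat.card ↥(pPrimeCore p G)).Coprime p := by
  rw [pPrimeCore_eq_piCore hp, coprime_iff_isPiNat hp]
  exact piCore_isPiNat _

theorem pPrimeCore_characteristic [Finite G] {p : ℕ} (hp : p.Prime) : (pPrimeCore p G).Characteristic := by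
  rw [pPrimeCore_eq_piCore hp]
  exact piCore_characteristic _

theorem subnormal_le_pPrimeCore [Finite G] {p : ℕ} (hp : p.Prime) {H : Subgroup G} (hH : H.IsSubnormal)
    (hc : (Nat.card ↥H).Coprime p) : H ≤ pPrimeCore p G := by
  rw [pPrimeCore_eq_piCore hp]
  exact subnormal_le_piCore hH ((coprime_iff_isPiNat hp _).mp hc)

theorem pPrimeCore_quotient_eq_bot [Finite G] {p : ℕ} (hp : p.Prime) :
    pPrimeCore p (G ⧸ pPrimeCore p G) = ⊥ := by
  rw [pPrimeCore_eq_piCore (G := G ⧸ pPrimeCore p G) hp]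
  exact piCore_quotient_eq_bot' _ _ (pPrimeCore_eq_piCore hp)

end pPrime

end Cfsg.Agent.Lib.Lead.PiCore
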