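import Mathlib
import Cfsg.Prelude.Def_Transfer
import Cfsg.Agent.Lib.Lead.PiCore

/-!
# Normal `p`-complements

* `hasNormalPComplement_of_normal` : a normal subgroup of order prime to `p` and index a power of `p` is a normal
  `p`-complement;
* `isPGroup_quotient_of_coprime_mem` : if every `p'`-element lies in the normal subgroup `C`, then `G / C` is a `p`-group;
* `card_eq_card_pPrimeCore_mul_of_central_sylow` : if a Sylow `p`-subgroup `P` is central, `|G| = |O_{p'}(G)| · |P|`
  (Burnside);
* `hasNormalPComplement_of_normal_of_central_sylow` : if `C ⊴ G` has a central Sylow `p`-subgroup and `G / C` is a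
  `p`-group, then `G` has a normal `p`-complement.
-/

set_option autoImplicit false
set_option linter.style.haveILetI false

namespace Cfsg.Agent.Lib.Lead.PComplement

open Cfsg Cfsg.Agent.Lib.Lead.PiCore

universe u

variable {G : Type u} [Group G] [Finite G] {p : ℕ} [hp : Fact p.Prime]

theorem hasNormalPComplement_of_normal (K : Subgroup G) [hK : K.Normal] (hc : (Nat.card ↥K).Coprime p)
    {n : ℕ} (hidx : K.index = p ^ n) : HasNormalPComplement p G := by
  obtain ⟨P⟩ : Nonempty (Sylow p G) := inferInstance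
  refine ⟨P, K, hK, ?_⟩
  obtain ⟨c, hcP⟩ := IsPGroup.iff_card.mp P.isPGroup'
  have h1 := K.card_mul_index
  have h2 := (P : Subgroup G).card_mul_index
  rw [hidx] at h1
  rw [hcP] at h2
  have hidxP : (P : Subgroup G).index.Coprime p :=
    (Nat.Coprime.symm ((Nat.Prime.coprime_iff_not_dvd hp.out).mpr P.not_dvd_index))
  -- `p ^ c = p ^ n`
  have h3 : p ^ c ∣ p ^ n := by
    have : p ^ c ∣ Nat.card ↥K * p ^ n := by rw [h1, ← h2]; exact dvd_mul_right _ _
    exact (Nat.Coprime.pow_left c (Nat.Coprime.symm hc)).dvd_of_dvd_mul_left this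
  have h4 : p ^ n ∣ p ^ c := by
    have : p ^ n ∣ p ^ c * (P : Subgroup G).index := by rw [h2, ← h1]; exact dvd_mul_left _ _
    exact (Nat.Coprime.pow_left n (Nat.Coprime.symm hidxP)).dvd_of_dvd_mul_right this
  have h5 : p ^ c = p ^ n := Nat.dvd_antisymm h3 h4
  apply Subgroup.isComplement'_of_coprime
  · rw [hcP, h5, h1]
  · rw [hcP]; exact Nat.Coprime.pow_right c hc

omit [Finite G] in
theorem isPGroup_quotient_of_coprime_mem [Finite G] (C : Subgroup G) [C.Normal]
    (h : ∀ g : G, (orderOf g).Coprime p → g ∈ C) : IsPGroup p (G ⧸ C) := by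
  intro x
  induction x using QuotientGroup.induction_on with
  | H g =>
    obtain ⟨e, m, hm, hgm⟩ := Nat.exists_eq_pow_mul_and_not_dvd (orderOf_pos g).ne' p hp.out.ne_one
    refine ⟨e, ?_⟩
    rw [← QuotientGroup.mk_pow, QuotientGroup.eq_one_iff]
    apply h
    have hord : orderOf (g ^ p ^ e) = m := by
      rw [orderOf_pow_of_dvd (pow_ne_zero e hp.out.ne_zero) (Dvd.intro _ hgm.symm), hgm,
        Nat.mul_div_cancel_left _ (pow_pos hp.out.pos e)]
    rw [hord]
    exact (Nat.Coprime.symm ((Nat.Prime.coprime_iff_not_dvd hp.out).mpr hm))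

/-- Burnside: a central Sylow `p`-subgroup `P` gives `|G| = |O_{p'}(G)| * |P|`. -/
theorem card_eq_card_pPrimeCore_mul_of_central_sylow (P : Sylow p G) (hP : (P : Subgroup G) ≤ Subgroup.center G) :
    Nat.card G = Nat.card ↥(pPrimeCore p G) * Nat.card ↥(P : Subgroup G) := by
  have hNC : Subgroup.normalizer ((P : Subgroup G) : Set G) ≤ Subgroup.centralizer ((P : Subgroup G) : Set G) := by
    intro g _
    rw [Subgroup.mem_centralizer_iff]
    intro x hx
    exact (Subgroup.mem_center_iff.mp (hP hx) g).symm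
  have hcompl := MonoidHom.ker_transferSylow_isComplement' P hNC
  have hcard := hcompl.card_mul_card
  have hK₀p : ¬ p ∣ Nat.card ↥(MonoidHom.transferSylow P hNC).ker :=
    MonoidHom.not_dvd_card_ker_transferSylow P hNC
  have hK₀c : (Nat.card ↥(MonoidHom.transferSylow P hNC).ker).Coprime p :=
    (Nat.Coprime.symm ((Nat.Prime.coprime_iff_not_dvd hp.out).mpr hK₀p))
  have hle : (MonoidHom.transferSylow P hNC).ker ≤ pPrimeCore p G :=
    le_pPrimeCore inferInstance hK₀c
  have hOc : (Nat.card ↥(pPrimeCore p G)).Coprime p := pPrimeCore_coprime hp.out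
  obtain ⟨c, hcP⟩ := IsPGroup.iff_card.mp P.isPGroup'
  have h1 : Nat.card ↥(MonoidHom.transferSylow P hNC).ker ∣ Nat.card ↥(pPrimeCore p G) :=
    Subgroup.card_dvd_of_le hle
  have h2 : Nat.card ↥(pPrimeCore p G) ∣ Nat.card ↥(MonoidHom.transferSylow P hNC).ker := by
    have : Nat.card ↥(pPrimeCore p G) ∣ Nat.card ↥(MonoidHom.transferSylow P hNC).ker * p ^ c := by
      rw [← hcP, hcard]; exact Subgroup.card_subgroup_dvd_card _
    exact (Nat.Coprime.pow_right c hOc).dvd_of_dvd_mul_right this
  have h3 := Nat.dvd_antisymm h1 h2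
  rw [← hcard, h3]

/-- If `C ⊴ G` has a central Sylow `p`-subgroup and `G / C` is a `p`-group, then `G` has a normal `p`-complement
(namely `O_{p'}(C)`). -/
theorem hasNormalPComplement_of_normal_of_central_sylow (C : Subgroup G) [hC : C.Normal]
    (hq : IsPGroup p (G ⧸ C)) (P : Sylow p ↥C) (hP : (P : Subgroup ↥C) ≤ Subgroup.center ↥C) :
    HasNormalPComplement p G := by
  haveI := pPrimeCore_characteristic (G := ↥C) hp.out
  haveI hKn : ((pPrimeCore p ↥C).map C.subtype).Normal := ConjAct.normal_of_characteristic_of_normal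
  have hKcard : Nat.card ↥((pPrimeCore p ↥C).map C.subtype) = Nat.card ↥(pPrimeCore p ↥C) :=
    Nat.card_congr ((pPrimeCore p ↥C).equivMapOfInjective _ C.subtype_injective).symm.toEquiv
  obtain ⟨a, ha⟩ := IsPGroup.iff_card.mp hq
  obtain ⟨b, hb⟩ := IsPGroup.iff_card.mp P.isPGroup'
  have h1 := card_eq_card_pPrimeCore_mul_of_central_sylow P hP
  have h2 := C.card_mul_index
  rw [Subgroup.index_eq_card, ha, h1, hb] at h2
  have h3 := ((pPrimeCore p ↥C).map C.subtype).card_mul_index
  rw [hKcard, ← h2] at h3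
  have hpos : 0 < Nat.card ↥(pPrimeCore p ↥C) := Nat.card_pos
  have h4 : ((pPrimeCore p ↥C).map C.subtype).index = p ^ (b + a) := by
    rw [pow_add]
    have : Nat.card ↥(pPrimeCore p ↥C) * ((pPrimeCore p ↥C).map C.subtype).index =
        Nat.card ↥(pPrimeCore p ↥C) * (p ^ b * p ^ a) := by rw [h3, mul_assoc]
    exact Nat.eq_of_mul_eq_mul_left hpos this
  refine hasNormalPComplement_of_normal _ ?_ h4
  rw [hKcard]
  exact pPrimeCore_coprime hp.out

end Cfsg.Agent.Lib.Lead.PComplement
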