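import Mathlib
import Cfsg.Prelude.Def_Transfer

/-!
Facts about `Cfsg.pResidual` (the subgroup `O^p(G)` generated by the `p'`-elements); author: lead.
-/

set_option autoImplicit false

namespace Cfsg.Agent.Lib.Lead.PResidual

/-- `O^p(G)` is normal. -/
theorem normal (p : ℕ) (G : Type*) [Group G] : (Cfsg.pResidual p G).Normal := by
  constructor
  intro n hn g
  unfold Cfsg.pResidual at hn ⊢
  induction hn using Subgroup.closure_induction with
  | mem x hx =>
    apply Subgroup.subset_closure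
    show Nat.Coprime (orderOf (g * x * g⁻¹)) p
    have : orderOf (g * x * g⁻¹) = orderOf x := by
      have := orderOf_injective (MulAut.conj g).toMonoidHom (MulAut.conj g).injective x
      simpa using this
    rw [this]; exact hx
  | one => simp
  | mul a b _ _ ha hb =>
    have : g * (a * b) * g⁻¹ = (g * a * g⁻¹) * (g * b * g⁻¹) := by group
    rw [this]; exact Subgroup.mul_mem _ ha hb
  | inv a _ ha =>
    have : g * a⁻¹ * g⁻¹ = (g * a * g⁻¹)⁻¹ := by group
    rw [this]; exact Subgroup.inv_mem _ ha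

/-- For every element `g` of a finite group some `p`-power of `g` lies in `O^p(G)`. -/
theorem exists_pow_mem {p : ℕ} [Fact p.Prime] {G : Type*} [Group G] [Finite G] (g : G) :
    ∃ k : ℕ, g ^ (p ^ k) ∈ Cfsg.pResidual p G := by
  have hp : p.Prime := Fact.out
  have hpos : orderOf g ≠ 0 := (orderOf_pos g).ne'
  obtain ⟨k, m, hm, hkm⟩ := Nat.exists_eq_pow_mul_and_not_dvd hpos p hp.ne_one
  refine ⟨k, Subgroup.subset_closure ?_⟩
  show Nat.Coprime (orderOf (g ^ (p ^ k))) p
  have hdvd : p ^ k ∣ orderOf g := ⟨m, hkm⟩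
  rw [orderOf_pow_of_dvd (pow_ne_zero k hp.ne_zero) hdvd, hkm,
    Nat.mul_div_cancel_left m (pow_pos hp.pos k)]
  exact (Nat.Prime.coprime_iff_not_dvd hp).mpr hm |>.symm

/-- The quotient by `O^p(G)` is a `p`-group. -/
theorem isPGroup_quotient {p : ℕ} [Fact p.Prime] {G : Type*} [Group G] [Finite G]
    [(Cfsg.pResidual p G).Normal] : IsPGroup p (G ⧸ Cfsg.pResidual p G) := by
  intro x
  obtain ⟨g, rfl⟩ := QuotientGroup.mk_surjective x
  obtain ⟨k, hk⟩ := exists_pow_mem (p := p) g
  refine ⟨k, ?_⟩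
  rw [← QuotientGroup.mk_pow]
  exact (QuotientGroup.eq_one_iff _).mpr hk

/-- A subgroup of index prime to `p` (e.g. a Sylow `p`-subgroup) together with `O^p(G)` generates `G`. -/
theorem sup_eq_top {p : ℕ} [Fact p.Prime] {G : Type*} [Group G] [Finite G] (R : Subgroup G)
    (hR : ¬ p ∣ R.index) : R ⊔ Cfsg.pResidual p G = ⊤ := by
  have hp : p.Prime := Fact.out
  haveI := normal p G
  have h1 : (R ⊔ Cfsg.pResidual p G).index ∣ R.index := Subgroup.index_dvd_of_le le_sup_left
  have h2 : (R ⊔ Cfsg.pResidual p G).index ∣ (Cfsg.pResidual p G).index :=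
    Subgroup.index_dvd_of_le le_sup_right
  obtain ⟨n, hn⟩ := IsPGroup.iff_card.mp (isPGroup_quotient (p := p) (G := G))
  rw [← Subgroup.index_eq_card] at hn
  rw [hn] at h2
  obtain ⟨j, _, hj⟩ := (Nat.dvd_prime_pow hp).mp h2
  rw [← Subgroup.index_eq_one]
  rcases Nat.eq_zero_or_pos j with h0 | h0
  · rw [hj, h0, pow_zero]
  · exfalso
    apply hR
    have : p ∣ (R ⊔ Cfsg.pResidual p G).index := by
      rw [hj]; exact dvd_pow_self p h0.ne'
    exact this.trans h1

/-- Every element of `G` is a product `r * m` with `r` in a given subgroup of index prime to `p`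
and `m ∈ O^p(G)`. -/
theorem exists_mul {p : ℕ} [Fact p.Prime] {G : Type*} [Group G] [Finite G] (R : Subgroup G)
    (hR : ¬ p ∣ R.index) (g : G) : ∃ r ∈ R, ∃ m ∈ Cfsg.pResidual p G, g = r * m := by
  haveI := normal p G
  have : g ∈ ((R ⊔ Cfsg.pResidual p G : Subgroup G) : Set G) := by
    rw [sup_eq_top R hR]; trivial
  rw [Subgroup.mul_normal] at this
  obtain ⟨r, hr, m, hm, rfl⟩ := this
  exact ⟨r, hr, m, hm, rfl⟩

end Cfsg.Agent.Lib.Lead.PResidual
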