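import Mathlib
import Cfsg.Prelude.Def_Transfer
import Cfsg.Agent.Lib.Lead.Conj
import Cfsg.Agent.Lib.Lead.PComplement
import Cfsg.Agent.Lib.Lead.PResidual
import Cfsg.Agent.Lib.Helper7.SylowLib
import Cfsg.Agent.S1963

/-!
# Frobenius' normal `p`-complement theorem (fusion form)

* `Controls P` : the subgroup `P` controls its own fusion in `G` (elementwise);
* `isSylowIn_centralizer` : under control, `C_P(x)` is a Sylow subgroup of `C_G(x)` for every `x ∈ P`;
* `Controls.of_normal` : control descends to a normal subgroup of `p`-power index;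
* `hasNormalPComplement_of_hasNormalPComplement` : a normal `p`-complement of a normal subgroup of `p`-power index
  gives one of `G`;
* `hasNormalPComplement_of_controls` : if a Sylow `p`-subgroup controls its own fusion, `G` has a normal
  `p`-complement.
-/

set_option autoImplicit false
set_option linter.style.haveILetI false
set_option linter.unusedVariables false

namespace Cfsg.Agent.Lib.Lead.Frobenius

open Cfsg Cfsg.Agent.Lib.Lead.Conj Cfsg.Agent.Lib.Helper7 Cfsg.Agent.Lib.Lead.PiCore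
  Cfsg.Agent.Lib.Lead.PComplement

open scoped commutatorElement Pointwise

universe u

variable {G : Type u} [Group G]

/-- `P` controls its own fusion in `G`. -/
def Controls (P : Subgroup G) : Prop :=
  ∀ x ∈ P, ∀ g : G, g * x * g⁻¹ ∈ P → ∃ s ∈ P, s * x * s⁻¹ = g * x * g⁻¹

/-- a `p`-subgroup can be conjugated into a given Sylow subgroup -/
theorem exists_conj_mem_sylow [Finite G] {p : ℕ} [Fact p.Prime] (P : Sylow p G) {R : Subgroup G}
    (hR : IsPGroup p ↥R) : ∃ g : G, ∀ r ∈ R, g * r * g⁻¹ ∈ (P : Subgroup G) := by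
  obtain ⟨Q, hQ⟩ := hR.exists_le_sylow
  obtain ⟨g, hg⟩ := MulAction.exists_smul_eq G Q P
  refine ⟨g, fun r hr => ?_⟩
  have h1 : MulAut.conj g • r ∈ MulAut.conj g • (Q : Subgroup G) :=
    Subgroup.smul_mem_pointwise_smul _ _ _ (hQ hr)
  rw [← Sylow.coe_subgroup_smul, hg] at h1
  simpa [MulAut.conj_apply] using h1

/-- under control of fusion every element of `P` is fully centralized -/
theorem isSylowIn_centralizer [Finite G] {p : ℕ} [Fact p.Prime] (P : Sylow p G)
    (h : Controls (P : Subgroup G)) {x : G} (hx : x ∈ (P : Subgroup G)) :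
    IsSylowIn p ((P : Subgroup G) ⊓ Subgroup.centralizer {x}) (Subgroup.centralizer {x}) := by
  set C := Subgroup.centralizer ({x} : Set G) with hC
  have hPC : IsPGroup p ↥((P : Subgroup G) ⊓ C) := P.isPGroup'.to_le inf_le_left
  obtain ⟨R, hR, hle⟩ := exists_isSylowIn_ge (H := C) hPC inf_le_right
  obtain ⟨g, hg⟩ := exists_conj_mem_sylow P hR.isPGroup
  have hxC : x ∈ C := by rw [hC, Subgroup.mem_centralizer_singleton_iff]
  have hxR : x ∈ R := hle ⟨hx, hxC⟩
  obtain ⟨s, hs, hsx⟩ := h x hx g (hg x hxR)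
  have hhC : s⁻¹ * g ∈ C := by
    rw [hC, Subgroup.mem_centralizer_singleton_iff]
    have e : g * x = s * x * s⁻¹ * g := by rw [hsx]; group
    calc s⁻¹ * g * x = s⁻¹ * (g * x) := by group
      _ = s⁻¹ * (s * x * s⁻¹ * g) := by rw [e]
      _ = x * (s⁻¹ * g) := by group
  have hmap : R.map (MulAut.conj (s⁻¹ * g)).toMonoidHom ≤ (P : Subgroup G) ⊓ C := by
    rintro _ ⟨r, hr, rfl⟩
    refine ⟨?_, ?_⟩
    · show s⁻¹ * g * r * (s⁻¹ * g)⁻¹ ∈ (P : Subgroup G)
      have e : s⁻¹ * g * r * (s⁻¹ * g)⁻¹ = s⁻¹ * (g * r * g⁻¹) * s := by group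
      rw [e]
      exact Subgroup.mul_mem _ (Subgroup.mul_mem _ (Subgroup.inv_mem _ hs) (hg r hr)) hs
    · show s⁻¹ * g * r * (s⁻¹ * g)⁻¹ ∈ C
      exact C.mul_mem (C.mul_mem hhC (hR.1 hr)) (C.inv_mem hhC)
  have hcard : Nat.card ↥R ≤ Nat.card ↥((P : Subgroup G) ⊓ C : Subgroup G) := by
    rw [← card_map_conj R (s⁻¹ * g)]
    exact Subgroup.card_le_of_le hmap
  have heq : (P : Subgroup G) ⊓ C = R := Subgroup.eq_of_le_of_card_ge hle hcard
  rw [heq]
  exact hR

/-- in a group with `p`-group quotient `G ⧸ K`, elements of order prime to `p` lie in `K` -/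
theorem mem_of_coprime_of_isPGroup_quotient {p : ℕ} [Fact p.Prime] (K : Subgroup G) [K.Normal]
    (hK : IsPGroup p (G ⧸ K)) {y : G} (hy : (orderOf y).Coprime p) : y ∈ K := by
  obtain ⟨k, hk⟩ := hK (y : G ⧸ K)
  have h1 : orderOf (y : G ⧸ K) ∣ p ^ k := orderOf_dvd_of_pow_eq_one hk
  have h2 : orderOf (y : G ⧸ K) ∣ orderOf y := by
    apply orderOf_dvd_of_pow_eq_one
    rw [← QuotientGroup.mk_pow, pow_orderOf_eq_one, QuotientGroup.mk_one]
  have h3 : orderOf (y : G ⧸ K) = 1 :=
    Nat.Coprime.eq_one_of_dvd (Nat.Coprime.coprime_dvd_left h2 (hy.pow_right k)) h1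
  exact (QuotientGroup.eq_one_iff y).1 (orderOf_eq_one_iff.1 h3)

/-- control of fusion descends to normal subgroups of `p`-power index -/
theorem Controls.of_normal [Finite G] {p : ℕ} [Fact p.Prime] (P : Sylow p G)
    (h : Controls (P : Subgroup G)) (K : Subgroup G) [K.Normal] (hK : IsPGroup p (G ⧸ K))
    {x : G} (hx : x ∈ (P : Subgroup G)) {k : G} (hk : k ∈ K) (hkx : k * x * k⁻¹ ∈ (P : Subgroup G)) :
    ∃ s ∈ (P : Subgroup G) ⊓ K, s * x * s⁻¹ = k * x * k⁻¹ := by
  obtain ⟨s, hs, hsx⟩ := h x hx k hkx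
  set C := Subgroup.centralizer ({x} : Set G) with hC
  have hcC : s⁻¹ * k ∈ C := by
    rw [hC, Subgroup.mem_centralizer_singleton_iff]
    have e : k * x = s * x * s⁻¹ * k := by rw [hsx]; group
    calc s⁻¹ * k * x = s⁻¹ * (k * x) := by group
      _ = s⁻¹ * (s * x * s⁻¹ * k) := by rw [e]
      _ = x * (s⁻¹ * k) := by group
  have hSyl := isSylowIn_centralizer P h hx
  have hidx : ¬ p ∣ (((P : Subgroup G) ⊓ C).subgroupOf C).index :=
    Cfsg.Agent.S1963.not_dvd_relIndex_of_isSylowIn hSyl
  obtain ⟨r, hr, m, hm, hrm⟩ := Cfsg.Agent.Lib.Lead.PResidual.exists_mul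
    (((P : Subgroup G) ⊓ C).subgroupOf C) hidx ⟨s⁻¹ * k, hcC⟩
  have hmK : (m : G) ∈ K := by
    have hle : Cfsg.pResidual p ↥C ≤ K.subgroupOf C := by
      unfold Cfsg.pResidual
      rw [Subgroup.closure_le]
      intro y hy
      have hy' : Nat.Coprime (orderOf y) p := hy
      rw [SetLike.mem_coe, Subgroup.mem_subgroupOf]
      apply mem_of_coprime_of_isPGroup_quotient K hK
      rwa [Subgroup.orderOf_coe]
    exact Subgroup.mem_subgroupOf.1 (hle hm)
  have hrP : (r : G) ∈ (P : Subgroup G) ⊓ C := Subgroup.mem_subgroupOf.1 hr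
  have hrm' : s⁻¹ * k = (r : G) * (m : G) := by
    have := congrArg Subtype.val hrm
    simpa using this
  refine ⟨s * r, ⟨Subgroup.mul_mem _ hs hrP.1, ?_⟩, ?_⟩
  · have e : s * (r : G) = k * (m : G)⁻¹ := by
      have : (r : G) = s⁻¹ * k * (m : G)⁻¹ := by rw [hrm']; group
      rw [this]; group
    rw [e]
    exact K.mul_mem hk (K.inv_mem hmK)
  · have hrx : (r : G) * x = x * r := by
      exact Subgroup.mem_centralizer_singleton_iff.1 hrP.2
    calc s * r * x * (s * r)⁻¹ = s * ((r : G) * x) * (r : G)⁻¹ * s⁻¹ := by group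
      _ = s * (x * r) * (r : G)⁻¹ * s⁻¹ := by rw [hrx]
      _ = s * x * s⁻¹ := by group
      _ = k * x * k⁻¹ := hsx

/-- a normal `p`-complement of a normal subgroup of `p`-power index gives one of `G` -/
theorem hasNormalPComplement_of_hasNormalPComplement [Finite G] {p : ℕ} [hp : Fact p.Prime]
    (K : Subgroup G) [hKn : K.Normal] (hq : IsPGroup p (G ⧸ K)) (hK : HasNormalPComplement p ↥K) :
    HasNormalPComplement p G := by
  obtain ⟨P', N, hN, hcompl⟩ := hK
  haveI := pPrimeCore_characteristic (G := ↥K) hp.out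
  haveI hMn : ((pPrimeCore p ↥K).map K.subtype).Normal := ConjAct.normal_of_characteristic_of_normal
  have hMcard : Nat.card ↥((pPrimeCore p ↥K).map K.subtype) = Nat.card ↥(pPrimeCore p ↥K) :=
    Nat.card_congr ((pPrimeCore p ↥K).equivMapOfInjective _ K.subtype_injective).symm.toEquiv
  obtain ⟨a, ha⟩ := IsPGroup.iff_card.mp hq
  obtain ⟨b, hb⟩ := IsPGroup.iff_card.mp P'.isPGroup'
  have hcard := hcompl.card_mul_card
  -- `|N|` is prime to `p`
  have hNidx : (P' : Subgroup ↥K).index = Nat.card ↥N := by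
    have h1 := (P' : Subgroup ↥K).card_mul_index
    rw [← hcard, mul_comm] at h1
    exact Nat.eq_of_mul_eq_mul_right Nat.card_pos h1
  have hNc : (Nat.card ↥N).Coprime p := by
    rw [← hNidx]
    exact (Nat.Coprime.symm ((Nat.Prime.coprime_iff_not_dvd hp.out).mpr P'.not_dvd_index))
  have hle : N ≤ pPrimeCore p ↥K := le_pPrimeCore hN hNc
  have hOc : (Nat.card ↥(pPrimeCore p ↥K)).Coprime p := pPrimeCore_coprime hp.out
  have h1 : Nat.card ↥N ∣ Nat.card ↥(pPrimeCore p ↥K) := Subgroup.card_dvd_of_le hle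
  have h2 : Nat.card ↥(pPrimeCore p ↥K) ∣ Nat.card ↥N := by
    have : Nat.card ↥(pPrimeCore p ↥K) ∣ Nat.card ↥N * p ^ b := by
      rw [← hb, hcard]; exact Subgroup.card_subgroup_dvd_card _
    exact (Nat.Coprime.pow_right b hOc).dvd_of_dvd_mul_right this
  have h3 := Nat.dvd_antisymm h1 h2
  have h4 := K.card_mul_index
  rw [Subgroup.index_eq_card, ha, ← hcard, hb, h3] at h4
  have h5 := ((pPrimeCore p ↥K).map K.subtype).card_mul_index
  rw [hMcard, ← h4] at h5
  have hpos : 0 < Nat.card ↥(pPrimeCore p ↥K) := Nat.card_pos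
  have h6 : ((pPrimeCore p ↥K).map K.subtype).index = p ^ (b + a) := by
    rw [pow_add]
    have : Nat.card ↥(pPrimeCore p ↥K) * ((pPrimeCore p ↥K).map K.subtype).index =
        Nat.card ↥(pPrimeCore p ↥K) * (p ^ b * p ^ a) := by rw [h5, mul_assoc]
    exact Nat.eq_of_mul_eq_mul_left hpos this
  refine hasNormalPComplement_of_normal _ ?_ h6
  rw [hMcard]
  exact hOc

/-- under control of fusion the focal subgroup is the derived subgroup of `P` -/
theorem focalSubgroup_le_of_controls {P : Subgroup G} (h : Controls P) :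
    P.focalSubgroup ≤ ⁅P, P⁆ := by
  rw [Subgroup.focalSubgroup_def, Subgroup.closure_le]
  rintro g ⟨hgP, x, hxP, u, rfl⟩
  -- `⁅x, u⁆ = x * (u * x⁻¹ * u⁻¹)`
  have h1 : u * x⁻¹ * u⁻¹ ∈ P := by
    have e : u * x⁻¹ * u⁻¹ = x⁻¹ * ⁅x, u⁆ := by rw [commutatorElement_def]; group
    rw [e]
    exact P.mul_mem (P.inv_mem hxP) hgP
  obtain ⟨s, hs, hsx⟩ := h x⁻¹ (P.inv_mem hxP) u h1
  have e2 : ⁅x, u⁆ = ⁅x, s⁆ := by
    rw [commutatorElement_def, commutatorElement_def]
    calc x * u * x⁻¹ * u⁻¹ = x * (u * x⁻¹ * u⁻¹) := by group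
      _ = x * (s * x⁻¹ * s⁻¹) := by rw [hsx]
      _ = x * s * x⁻¹ * s⁻¹ := by group
  rw [SetLike.mem_coe, e2]
  exact Subgroup.commutator_mem_commutator hxP hs

/-- **Frobenius**: if a Sylow `p`-subgroup controls its own fusion then `G` has a normal `p`-complement. -/
theorem hasNormalPComplement_of_controls_aux {p : ℕ} [hp : Fact p.Prime] :
    ∀ (n : ℕ) (G : Type u) [Group G] [Finite G] (P : Sylow p G), Nat.card G = n →
      Controls (P : Subgroup G) → HasNormalPComplement p G := by
  intro n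
  induction n using Nat.strong_induction_on with
  | _ n ih =>
  intro G _ _ P hn hctl
  by_cases hbot : (P : Subgroup G) = ⊥
  · -- `p ∤ |G|`
    have h1 := P.card_eq_multiplicity
    rw [hbot, Subgroup.card_bot] at h1
    have h2 : (Nat.card G).factorization p = 0 := by
      by_contra hne
      have : 1 < p ^ (Nat.card G).factorization p := Nat.one_lt_pow hne hp.out.one_lt
      omega
    have h3 : ¬ p ∣ Nat.card G := by
      intro hd
      have := (hp.out.dvd_iff_one_le_factorization Nat.card_pos.ne').1 hd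
      omega
    refine hasNormalPComplement_of_normal (⊤ : Subgroup G) ?_ (n := 0) ?_
    · rw [Subgroup.card_top]
      exact (Nat.Coprime.symm ((Nat.Prime.coprime_iff_not_dvd hp.out).mpr h3))
    · rw [Subgroup.index_top, pow_zero]
  · -- the kernel of the transfer into `P / P*`
    set K : Subgroup G := (P : Subgroup G).transferFocal.ker with hK
    haveI hKn : K.Normal := MonoidHom.normal_ker _
    have hKP : K ⊓ (P : Subgroup G) = (P : Subgroup G).focalSubgroup :=
      Subgroup.ker_transferFocal_inf_eq_focalSubgroup P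
    have hq : IsPGroup p (G ⧸ K) := by
      have e := Subgroup.transferFocal.quotientKerMulEquivQuotientFocalSubroupOf P
      exact IsPGroup.of_equiv (P.isPGroup'.to_quotient _) e.symm
    -- `K` is proper
    have hlt : K ⊓ (P : Subgroup G) < (P : Subgroup G) := by
      refine lt_of_le_of_ne inf_le_right ?_
      intro heq
      rw [hKP] at heq
      have h1 : (P : Subgroup G) ≤ ⁅(P : Subgroup G), (P : Subgroup G)⁆ := by
        conv_lhs => rw [← heq]
        exact focalSubgroup_le_of_controls hctl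
      rw [← Subgroup.map_subtype_commutator] at h1
      have h2 : commutator ↥(P : Subgroup G) = ⊤ := by
        rw [eq_top_iff]
        intro y _
        obtain ⟨z, hz, hzy⟩ := h1 y.2
        have : z = y := Subtype.ext hzy
        rwa [← this]
      haveI : Nontrivial ↥(P : Subgroup G) := (Subgroup.nontrivial_iff_ne_bot _).2 hbot
      haveI : Group.IsNilpotent ↥(P : Subgroup G) := P.isPGroup'.isNilpotent
      have h3 := Group.IsSolvable.commutator_lt_top_of_nontrivial ↥(P : Subgroup G)
      exact (ne_of_lt h3) h2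
    have hKtop : K ≠ ⊤ := by
      intro h
      rw [h, top_inf_eq] at hlt
      exact lt_irrefl _ hlt
    have hcardK : Nat.card ↥K < n := by
      rw [← hn]
      have h1 := K.card_mul_index
      have h2 : K.index ≠ 1 := fun h => hKtop (Subgroup.index_eq_one.1 h)
      have h3 : K.index ≠ 0 := Subgroup.index_ne_zero_of_finite
      have h4 : 0 < Nat.card ↥K := Nat.card_pos
      nlinarith [Nat.two_le_iff K.index |>.2 ⟨h3, h2⟩]
    -- the Sylow subgroup of `K`
    have hSyl : IsSylowIn p ((P : Subgroup G) ⊓ K) K :=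
      (IsSylowIn.of_sylow_top P).inf_normal K le_top
        (fun g _ => by
          rw [Subgroup.mem_normalizer_iff]
          intro y
          exact ⟨fun hy => hKn.conj_mem y hy g, fun hy => by
            have := hKn.conj_mem _ hy g⁻¹
            have e : g⁻¹ * (g * y * g⁻¹) * g⁻¹⁻¹ = y := by group
            rwa [e] at this⟩)
    obtain ⟨R, hR⟩ := hSyl.exists_sylow
    have hctlK : Controls (R : Subgroup ↥K) := by
      intro x hx g hgx
      rw [hR, Subgroup.mem_subgroupOf] at hx hgx
      have hgx' : (g : G) * (x : G) * (g : G)⁻¹ ∈ (P : Subgroup G) := by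
        have := hgx.1
        simp only [Subgroup.coe_mul, Subgroup.coe_inv] at this
        exact this
      obtain ⟨s, hs, hsx⟩ := Controls.of_normal P hctl K hq hx.1 g.2 hgx'
      refine ⟨⟨s, hs.2⟩, ?_, ?_⟩
      · rw [hR, Subgroup.mem_subgroupOf]
        exact hs
      · apply Subtype.ext
        simpa using hsx
    have := ih (Nat.card ↥K) hcardK ↥K R rfl hctlK
    exact hasNormalPComplement_of_hasNormalPComplement K hq this

/-- **Frobenius**: if a Sylow `p`-subgroup controls its own fusion then `G` has a normal `p`-complement. -/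
theorem hasNormalPComplement_of_controls [Finite G] {p : ℕ} [hp : Fact p.Prime] (P : Sylow p G)
    (h : Controls (P : Subgroup G)) : HasNormalPComplement p G :=
  hasNormalPComplement_of_controls_aux (Nat.card G) G P rfl h

end Cfsg.Agent.Lib.Lead.Frobenius
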