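import Mathlib
import Cfsg.Prelude.Def_ConjugacyFunctors
import Cfsg.Agent.Lib.Helper7.SylowLib
import Cfsg.Agent.Lib.Lead.Conj

/-!
# Conjugation families (Alperin–Goldschmidt): list form of the chain condition

`rc g A = g⁻¹ A g` (right conjugation of a set).
`DecL 𝓕 l A` for a list `l` of pairs `(T, x)`: `T ∈ 𝓕`, `x ∈ N(T)`, `A ⊆ T`, and recursively for `A^x`.
`isConjugationFamily_of_decL` converts the list form into `Cfsg.IsConjugationFamily`.
-/

set_option autoImplicit false
set_option linter.style.haveILetI false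

namespace Cfsg.Agent.Lib.Lead.ConjFamily

open Cfsg Cfsg.Agent.Lib.Helper7 Cfsg.Agent.Lib.Lead.Conj

variable {G : Type*} [Group G]

/-- right conjugation of a set: `g⁻¹ A g`. -/
def rc (g : G) (A : Set G) : Set G := (fun a => g⁻¹ * a * g) '' A

theorem mem_rc {g : G} {A : Set G} {y : G} : y ∈ rc g A ↔ g * y * g⁻¹ ∈ A := by
  constructor
  · rintro ⟨a, ha, rfl⟩
    have e : g * (g⁻¹ * a * g) * g⁻¹ = a := by group
    rw [e]; exact ha
  · intro h
    exact ⟨g * y * g⁻¹, h, by group⟩

theorem rc_one (A : Set G) : rc 1 A = A := by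
  ext y; rw [mem_rc]; simp

theorem rc_mul (g h : G) (A : Set G) : rc (g * h) A = rc h (rc g A) := by
  ext y
  rw [mem_rc, mem_rc, mem_rc]
  have e : g * h * y * (g * h)⁻¹ = g * (h * y * h⁻¹) * g⁻¹ := by group
  rw [e]

theorem rc_mono (g : G) {A B : Set G} (h : A ⊆ B) : rc g A ⊆ rc g B := Set.image_mono h

theorem rc_inv_rc (g : G) (A : Set G) : rc g⁻¹ (rc g A) = A := by
  rw [← rc_mul, mul_inv_cancel, rc_one]

/-- right conjugation by a normalizing element preserves a subgroup. -/
theorem rc_normalizer {T : Subgroup G} {x : G} (hx : x ∈ Subgroup.normalizer (T : Set G)) :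
    rc x (T : Set G) = (T : Set G) := by
  ext y
  rw [mem_rc]
  exact ((Subgroup.mem_normalizer_iff.mp hx) y).symm

/-- `rc g T` for a subgroup is the conjugate subgroup `g⁻¹ T g`. -/
theorem rc_coe (g : G) (T : Subgroup G) :
    rc g (T : Set G) = ((T.map (MulAut.conj g⁻¹).toMonoidHom : Subgroup G) : Set G) := by
  ext y
  rw [mem_rc]
  show g * y * g⁻¹ ∈ T ↔ y ∈ T.map (MulAut.conj g⁻¹).toMonoidHom
  rw [mem_map_conj, inv_inv]

variable (𝓕 : Set (Subgroup G))

/-- the chain condition, in list form. -/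
def DecL : List (Subgroup G × G) → Set G → Prop
  | [], _ => True
  | (T, x) :: l, A => T ∈ 𝓕 ∧ x ∈ Subgroup.normalizer (T : Set G) ∧ A ⊆ (T : Set G) ∧ DecL l (rc x A)

/-- product of the elements of the chain. -/
def prodL (l : List (Subgroup G × G)) : G := (l.map Prod.snd).prod

@[simp] theorem prodL_nil : prodL ([] : List (Subgroup G × G)) = 1 := rfl

@[simp] theorem prodL_cons (T : Subgroup G) (x : G) (l : List (Subgroup G × G)) :
    prodL ((T, x) :: l) = x * prodL l := by
  simp [prodL]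

theorem prodL_append (l₁ l₂ : List (Subgroup G × G)) : prodL (l₁ ++ l₂) = prodL l₁ * prodL l₂ := by
  simp [prodL]

variable {𝓕}

theorem DecL.mono {l : List (Subgroup G × G)} {A B : Set G} (hBA : B ⊆ A) (h : DecL 𝓕 l A) : DecL 𝓕 l B := by
  induction l generalizing A B with
  | nil => trivial
  | cons a l ih =>
    obtain ⟨T, x⟩ := a
    obtain ⟨h1, h2, h3, h4⟩ := h
    exact ⟨h1, h2, hBA.trans h3, ih (rc_mono x hBA) h4⟩

theorem DecL.append {l₁ l₂ : List (Subgroup G × G)} {A : Set G} (h₁ : DecL 𝓕 l₁ A)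
    (h₂ : DecL 𝓕 l₂ (rc (prodL l₁) A)) : DecL 𝓕 (l₁ ++ l₂) A := by
  induction l₁ generalizing A with
  | nil => simpa [rc_one] using h₂
  | cons a l ih =>
    obtain ⟨T, x⟩ := a
    obtain ⟨h1, h2, h3, h4⟩ := h₁
    refine ⟨h1, h2, h3, ih h4 ?_⟩
    rw [prodL_cons, rc_mul] at h₂
    exact h₂

/-- the reversed chain. -/
def revL (l : List (Subgroup G × G)) : List (Subgroup G × G) :=
  (l.map (fun a => (a.1, a.2⁻¹))).reverse

theorem revL_cons (T : Subgroup G) (x : G) (l : List (Subgroup G × G)) :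
    revL ((T, x) :: l) = revL l ++ [(T, x⁻¹)] := by
  simp [revL]

theorem prodL_revL (l : List (Subgroup G × G)) : prodL (revL l) = (prodL l)⁻¹ := by
  induction l with
  | nil => simp [revL, prodL]
  | cons a l ih =>
    obtain ⟨T, x⟩ := a
    rw [revL_cons, prodL_append, ih, prodL_cons]
    simp [prodL]

theorem DecL.rev {l : List (Subgroup G × G)} {A : Set G} (h : DecL 𝓕 l A) :
    DecL 𝓕 (revL l) (rc (prodL l) A) := by
  induction l generalizing A with
  | nil => trivial
  | cons a l ih =>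
    obtain ⟨T, x⟩ := a
    obtain ⟨h1, h2, h3, h4⟩ := h
    rw [revL_cons]
    apply DecL.append
    · have := ih h4
      rw [prodL_cons, rc_mul]
      exact this
    · rw [prodL_revL, prodL_cons, rc_mul, rc_inv_rc]
      refine ⟨h1, Subgroup.inv_mem _ h2, ?_, trivial⟩
      calc rc x A ⊆ rc x (T : Set G) := rc_mono x h3
        _ = (T : Set G) := rc_normalizer h2

/-- In a chain, the `i`-th subgroup contains the set conjugated by the first `i` elements. -/
theorem DecL.get {l : List (Subgroup G × G)} {A : Set G} (h : DecL 𝓕 l A) (i : ℕ) (hi : i < l.length) :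
    (l.get ⟨i, hi⟩).1 ∈ 𝓕 ∧ (l.get ⟨i, hi⟩).2 ∈ Subgroup.normalizer (((l.get ⟨i, hi⟩).1 : Subgroup G) : Set G) ∧
      rc ((l.map Prod.snd).take i).prod A ⊆ (((l.get ⟨i, hi⟩).1 : Subgroup G) : Set G) := by
  induction l generalizing A i with
  | nil => exact absurd hi (Nat.not_lt_zero _)
  | cons a l ih =>
    obtain ⟨T, x⟩ := a
    obtain ⟨h1, h2, h3, h4⟩ := h
    cases i with
    | zero =>
      refine ⟨h1, h2, ?_⟩
      simpa [rc_one] using h3
    | succ i =>
      have hi' : i < l.length := Nat.lt_of_succ_lt_succ hi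
      obtain ⟨g1, g2, g3⟩ := ih h4 i hi'
      refine ⟨g1, g2, ?_⟩
      have e : (((T, x) :: l).map Prod.snd).take (i + 1) = x :: (l.map Prod.snd).take i := by simp
      rw [e, List.prod_cons, rc_mul]
      exact g3

/-- From the list form to `IsConjugationFamily`. -/
theorem isConjugationFamily_of_decL (S : Subgroup G) (h𝓕 : ∀ T ∈ 𝓕, T ≤ S)
    (h : ∀ (A : Set G) (g : G), A ⊆ S → rc g A ⊆ S → ∃ l : List (Subgroup G × G), prodL l = g ∧ DecL 𝓕 l A) :
    IsConjugationFamily 𝓕 S := by
  refine ⟨h𝓕, fun A g _ hA hAg => ?_⟩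
  obtain ⟨l, hl, hdec⟩ := h A g hA hAg
  refine ⟨l.length, fun i => (l.get i).1, fun i => (l.get i).2, ?_, ?_, ?_, ?_, ?_⟩
  · have e : List.ofFn (fun i => (l.get i).2) = l.map Prod.snd := by
      apply List.ext_get
      · simp
      · intro n h1 h2
        simp
    rw [e]; exact hl
  · intro i; exact (hdec.get i.1 i.2).1
  · intro i; exact (hdec.get i.1 i.2).2.1
  · intro h0
    have := (hdec.get 0 h0).2.2
    simpa [rc_one] using this
  · intro i hi
    have e : List.ofFn (fun i => (l.get i).2) = l.map Prod.snd := by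
      apply List.ext_get
      · simp
      · intro n h1 h2
        simp
    rw [e]
    exact (hdec.get (i.1 + 1) hi).2.2

end Cfsg.Agent.Lib.Lead.ConjFamily
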