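import Mathlib
import Cfsg.Agent.S1959
import Cfsg.Agent.Lib.Lead.Frobenius

/-!
# Local control of fusion implies global control (via Alperin's theorem)

* `alperin_F0` : Alperin's fusion theorem for the family `F0 S` of fully normalized subgroups of `S`
  (`N_S(U)` Sylow in `N_G(U)`), in list form;
* `control_of_local` : if conjugation by each `n ∈ N_G(U)` (`U` fully normalized) on `U` is induced by an element of
  a subgroup `X`, then `X` controls strong fusion in `S`;
* `normalizer_decomp` : if the `p'`-elements of `N_G(U)` centralize `U` and `U ∈ F0 S`, conjugation by `n ∈ N_G(U)` on `U` is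
  induced by an element of `N_S(U)`;
* `controls_of_p'_centralize` : hence `S` controls its own fusion.
-/

set_option autoImplicit false
set_option linter.style.haveILetI false
set_option linter.unusedSectionVars false
set_option linter.unusedVariables false

namespace Cfsg.Agent.Lib.Lead.LocalControl

open Cfsg Cfsg.Agent.Lib.Helper7 Cfsg.Agent.Lib.Lead.Conj Cfsg.Agent.Lib.Lead.ConjFamily Cfsg.Agent.S1963
  Cfsg.Agent.S1965 Cfsg.Agent.S1961 Cfsg.Agent.S1959 Cfsg.Agent.Lib.Lead.Frobenius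

universe u
variable {G : Type u} [Group G] [Finite G] {p : ℕ} [hp : Fact p.Prime] (S : Sylow p G)

/-- Alperin's fusion theorem for the family of fully normalized subgroups. -/
theorem alperin_F0 (A : Set G) (g : G) (hA : A ⊆ ((S : Subgroup G) : Set G))
    (hrc : rc g A ⊆ ((S : Subgroup G) : Set G)) :
    ∃ l : List (Subgroup G × G), prodL l = g ∧ DecL (F0 S) l A :=
  Cfsg.Agent.S1965.main S (F0 S) (fun U hU => hU.1)
    (fun T hT => by
      obtain ⟨g, hg1, hg2, -⟩ := extremal S T hT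
      exact ⟨cj g T, mem_F0_of_extremal S hg1 hg2, ⟨g, rfl⟩, not_dvd_relIndex_of_isSylowIn hg2⟩)
    _ A g hA hrc rfl

/-- local control gives global control -/
theorem control_of_decL (X : Subgroup G)
    (hloc : ∀ U ∈ F0 S, ∀ n ∈ Subgroup.normalizer (U : Set G),
      ∃ y ∈ X, ∀ u ∈ U, n⁻¹ * u * n = y⁻¹ * u * y) :
    ∀ (l : List (Subgroup G × G)) (A : Set G), DecL (F0 S) l A →
      ∃ y ∈ X, ∀ a ∈ A, (prodL l)⁻¹ * a * prodL l = y⁻¹ * a * y := by
  intro l
  induction l with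
  | nil =>
    intro A _
    exact ⟨1, X.one_mem, fun a _ => by simp⟩
  | cons c l ih =>
    obtain ⟨T, x⟩ := c
    rintro A ⟨hT, hx, hAT, hdec⟩
    obtain ⟨y₁, hy₁, h1⟩ := hloc T hT x hx
    obtain ⟨y₂, hy₂, h2⟩ := ih (rc x A) hdec
    refine ⟨y₁ * y₂, X.mul_mem hy₁ hy₂, fun a ha => ?_⟩
    have hb : x⁻¹ * a * x ∈ rc x A := ⟨a, ha, rfl⟩
    have h3 := h2 _ hb
    rw [h1 a (hAT ha)] at h3
    rw [prodL_cons]
    calc (x * prodL l)⁻¹ * a * (x * prodL l) = (prodL l)⁻¹ * (x⁻¹ * a * x) * prodL l := by group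
      _ = y₂⁻¹ * (y₁⁻¹ * a * y₁) * y₂ := by rw [h1 a (hAT ha)]; exact h3
      _ = (y₁ * y₂)⁻¹ * a * (y₁ * y₂) := by group

/-- local control gives global control -/
theorem control_of_local (X : Subgroup G)
    (hloc : ∀ U ∈ F0 S, ∀ n ∈ Subgroup.normalizer (U : Set G),
      ∃ y ∈ X, ∀ u ∈ U, n⁻¹ * u * n = y⁻¹ * u * y)
    (A : Set G) (g : G) (hA : A ⊆ ((S : Subgroup G) : Set G))
    (hrc : rc g A ⊆ ((S : Subgroup G) : Set G)) :
    ∃ y ∈ X, ∀ a ∈ A, g⁻¹ * a * g = y⁻¹ * a * y := by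
  obtain ⟨l, hl, hdec⟩ := alperin_F0 S A g hA hrc
  have := control_of_decL S X hloc l A hdec
  rwa [hl] at this

/-- if the `p'`-elements of `N_G(U)` centralize `U`, conjugation by `N_G(U)` on `U` is induced by `N_S(U)`,
for `U` fully normalized -/
theorem normalizer_decomp {U : Subgroup G} (hU : U ∈ F0 S)
    (hcent : ∀ g ∈ Subgroup.normalizer (U : Set G), Nat.Coprime (orderOf g) p →
      g ∈ Subgroup.centralizer (U : Set G))
    {n : G} (hn : n ∈ Subgroup.normalizer (U : Set G)) :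
    ∃ y ∈ (S : Subgroup G) ⊓ Subgroup.normalizer (U : Set G), ∀ u ∈ U, n⁻¹ * u * n = y⁻¹ * u * y := by
  set N := Subgroup.normalizer (U : Set G) with hN
  have hidx : ¬ p ∣ (((S : Subgroup G) ⊓ N).subgroupOf N).index := hU.2
  obtain ⟨r, hr, m, hm, hrm⟩ := Cfsg.Agent.Lib.Lead.PResidual.exists_mul
    (((S : Subgroup G) ⊓ N).subgroupOf N) hidx ⟨n, hn⟩
  have hmC : (m : G) ∈ Subgroup.centralizer (U : Set G) := by
    have hle : Cfsg.pResidual p ↥N ≤ (Subgroup.centralizer (U : Set G)).subgroupOf N := by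
      unfold Cfsg.pResidual
      rw [Subgroup.closure_le]
      intro y hy
      have hy' : Nat.Coprime (orderOf y) p := hy
      rw [SetLike.mem_coe, Subgroup.mem_subgroupOf]
      apply hcent _ y.2
      rwa [Subgroup.orderOf_coe]
    exact Subgroup.mem_subgroupOf.1 (hle hm)
  have hrS : (r : G) ∈ (S : Subgroup G) ⊓ N := Subgroup.mem_subgroupOf.1 hr
  have hrm' : n = (r : G) * (m : G) := by
    have := congrArg Subtype.val hrm
    simpa using this
  refine ⟨r, hrS, fun u hu => ?_⟩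
  have hru : (r : G)⁻¹ * u * r ∈ U := by
    have h1 : (r : G)⁻¹ ∈ N := N.inv_mem hrS.2
    have := (Subgroup.mem_normalizer_iff.1 h1 u).1 hu
    rwa [inv_inv] at this
  have hc := (Subgroup.mem_centralizer_iff.1 hmC) _ hru
  rw [hrm']
  calc ((r : G) * (m : G))⁻¹ * u * ((r : G) * m) = (m : G)⁻¹ * (((r : G)⁻¹ * u * r) * m) := by group
    _ = (m : G)⁻¹ * ((m : G) * ((r : G)⁻¹ * u * r)) := by rw [hc]
    _ = (r : G)⁻¹ * u * r := by group

/-- Frobenius' criterion gives control of fusion -/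
theorem controls_of_p'_centralize
    (hcent : ∀ Q : Subgroup G, Q ≤ (S : Subgroup G) → ∀ g ∈ Subgroup.normalizer (Q : Set G),
      Nat.Coprime (orderOf g) p → g ∈ Subgroup.centralizer (Q : Set G)) :
    Controls (S : Subgroup G) := by
  intro x hx g hgx
  have hA : ({x} : Set G) ⊆ ((S : Subgroup G) : Set G) := by
    rintro _ rfl; exact hx
  have hrc : rc g⁻¹ ({x} : Set G) ⊆ ((S : Subgroup G) : Set G) := by
    rintro _ ⟨a, rfl, rfl⟩
    show g⁻¹⁻¹ * a * g⁻¹ ∈ (S : Subgroup G)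
    rw [inv_inv]; exact hgx
  obtain ⟨y, hy, h⟩ := control_of_local S (S : Subgroup G)
    (fun U hU n hn => by
      obtain ⟨y, hy, h⟩ := normalizer_decomp S hU (hcent U hU.1) hn
      exact ⟨y, hy.1, h⟩) {x} g⁻¹ hA hrc
  refine ⟨y⁻¹, Subgroup.inv_mem _ hy, ?_⟩
  have := h x rfl
  rw [inv_inv] at this ⊢
  exact this.symm

end Cfsg.Agent.Lib.Lead.LocalControl
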