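import Mathlib
import Cfsg.Agent.Lib.Lead.LocalControl

/-!
# Normal `p`-complements: numerical form, subgroups, Frobenius' criteria

* `hasNormalPComplement_iff` : `G` has a normal `p`-complement iff it has a normal subgroup of order prime to `p` and
  index a power of `p`;
* `hasNormalPComplement_subgroup` : subgroups inherit normal `p`-complements;
* `centralizes_of_normal` : if `N ⊴ G` is a `p'`-group with `G / N` a `p`-group, the `p'`-elements normalizing a
  `p`-subgroup `Q` centralize it;
* `hasNormalPComplement_of_p'_centralize` : Frobenius' criterion.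
-/

set_option autoImplicit false
set_option linter.style.haveILetI false
set_option linter.unusedSectionVars false
set_option linter.unusedVariables false

namespace Cfsg.Agent.Lib.Lead.NormalPComplement

open Cfsg Cfsg.Agent.Lib.Lead.Frobenius Cfsg.Agent.Lib.Lead.LocalControl Cfsg.Agent.Lib.Lead.PComplement

universe u
variable {G : Type u} [Group G] [Finite G] {p : ℕ} [hp : Fact p.Prime]

theorem exists_normal_of_hasNormalPComplement (h : HasNormalPComplement p G) :
    ∃ N : Subgroup G, N.Normal ∧ (Nat.card ↥N).Coprime p ∧ ∃ k : ℕ, N.index = p ^ k := by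
  obtain ⟨P, N, hN, hc⟩ := h
  refine ⟨N, hN, ?_, ?_⟩
  · have h1 := hc.card_mul_card
    have h2 : (P : Subgroup G).index = Nat.card ↥N := by
      have h3 := (P : Subgroup G).card_mul_index
      rw [← h1, mul_comm] at h3
      exact Nat.eq_of_mul_eq_mul_right Nat.card_pos h3
    rw [← h2]
    exact (Nat.Coprime.symm ((Nat.Prime.coprime_iff_not_dvd hp.out).mpr P.not_dvd_index))
  · obtain ⟨k, hk⟩ := IsPGroup.iff_card.mp P.isPGroup'
    refine ⟨k, ?_⟩
    have h1 := hc.card_mul_card
    have h2 := N.card_mul_index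
    rw [← h1] at h2
    rw [← hk]
    exact Nat.eq_of_mul_eq_mul_left Nat.card_pos h2

theorem hasNormalPComplement_iff :
    HasNormalPComplement p G ↔
      ∃ N : Subgroup G, N.Normal ∧ (Nat.card ↥N).Coprime p ∧ ∃ k : ℕ, N.index = p ^ k := by
  constructor
  · exact exists_normal_of_hasNormalPComplement
  · rintro ⟨N, hN, hc, k, hk⟩
    haveI := hN
    exact hasNormalPComplement_of_normal N hc hk

/-- subgroups inherit normal `p`-complements -/
theorem hasNormalPComplement_subgroup (h : HasNormalPComplement p G) (H : Subgroup G) :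
    HasNormalPComplement p ↥H := by
  obtain ⟨N, hN, hc, k, hk⟩ := exists_normal_of_hasNormalPComplement h
  haveI := hN
  haveI : (N.subgroupOf H).Normal := Subgroup.normal_subgroupOf
  have h1 : (N.subgroupOf H).index ∣ p ^ k := by
    rw [← hk]
    exact Subgroup.relIndex_dvd_index_of_normal N H
  obtain ⟨j, -, hj⟩ := (Nat.dvd_prime_pow hp.out).1 h1
  refine hasNormalPComplement_of_normal (N.subgroupOf H) ?_ hj
  have h2 : Nat.card ↥(N.subgroupOf H) ∣ Nat.card ↥N := by
    have e : Nat.card ↥(N.subgroupOf H) = Nat.card ↥(N ⊓ H : Subgroup G) := by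
      rw [← Subgroup.inf_subgroupOf_right]
      exact Cfsg.Agent.Lib.Helper7.card_subgroupOf_of_le inf_le_right
    rw [e]
    exact Subgroup.card_dvd_of_le inf_le_left
  exact Nat.Coprime.coprime_dvd_left h2 hc

/-- if `N ⊴ G` is a `p'`-group with `G / N` a `p`-group, the `p'`-elements normalizing a `p`-subgroup centralize it -/
theorem centralizes_of_normal (N : Subgroup G) [hN : N.Normal] (hc : (Nat.card ↥N).Coprime p)
    {k : ℕ} (hk : N.index = p ^ k) (Q : Subgroup G) (hQ : IsPGroup p ↥Q) (g : G)
    (hg : g ∈ Subgroup.normalizer (Q : Set G)) (hgp : Nat.Coprime (orderOf g) p) :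
    g ∈ Subgroup.centralizer (Q : Set G) := by
  have hq : IsPGroup p (G ⧸ N) := by
    apply IsPGroup.of_card (n := k)
    rw [← Subgroup.index_eq_card, hk]
  have hgN : g ∈ N := mem_of_coprime_of_isPGroup_quotient N hq hgp
  rw [Subgroup.mem_centralizer_iff]
  intro q hqQ
  have h1 : g * q * g⁻¹ * q⁻¹ ∈ N := by
    have : g * q * g⁻¹ * q⁻¹ = g * (q * g⁻¹ * q⁻¹) := by group
    rw [this]
    exact N.mul_mem hgN (hN.conj_mem _ (N.inv_mem hgN) q)
  have h2 : g * q * g⁻¹ * q⁻¹ ∈ Q :=
    Q.mul_mem ((Subgroup.mem_normalizer_iff.1 hg q).1 hqQ) (Q.inv_mem hqQ)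
  have h3 : g * q * g⁻¹ * q⁻¹ = 1 := by
    set y := g * q * g⁻¹ * q⁻¹ with hy
    obtain ⟨j, hj⟩ := hQ ⟨y, h2⟩
    have hj' : y ^ p ^ j = 1 := by
      have := congrArg Subtype.val hj
      simpa using this
    have d1 : orderOf y ∣ p ^ j := orderOf_dvd_of_pow_eq_one hj'
    have d2 : orderOf y ∣ Nat.card ↥N := by
      have := orderOf_dvd_natCard (⟨y, h1⟩ : ↥N)
      rwa [← Subgroup.orderOf_coe] at this
    have d3 : orderOf y = 1 :=
      Nat.Coprime.eq_one_of_dvd (Nat.Coprime.coprime_dvd_left d2 (hc.pow_right j)) d1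
    exact orderOf_eq_one_iff.1 d3
  calc q * g = (g * q * g⁻¹ * q⁻¹)⁻¹ * (g * q) := by group
    _ = g * q := by rw [h3]; group

/-- **Frobenius' criterion**: if for every subgroup `Q` of a Sylow `p`-subgroup `P` the `p'`-elements of `N_G(Q)`
centralize `Q`, then `G` has a normal `p`-complement. -/
theorem hasNormalPComplement_of_p'_centralize (P : Sylow p G)
    (h : ∀ Q : Subgroup G, Q ≤ (P : Subgroup G) → ∀ g ∈ Subgroup.normalizer (Q : Set G),
      Nat.Coprime (orderOf g) p → g ∈ Subgroup.centralizer (Q : Set G)) :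
    HasNormalPComplement p G :=
  hasNormalPComplement_of_controls P (controls_of_p'_centralize P h)

end Cfsg.Agent.Lib.Lead.NormalPComplement
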