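import Mathlib

/-!
Basic facts on finite `p`-groups that Mathlib lacks (author: lead).
-/

set_option autoImplicit false

namespace Cfsg.Agent.Lib.Lead.PGroup

/-- A nontrivial normal subgroup of a finite `p`-group meets the centre nontrivially. -/
theorem exists_mem_center_of_normal {G : Type*} [Group G] [Finite G] {p : ℕ} [Fact p.Prime]
    (hG : IsPGroup p G) (H : Subgroup G) [H.Normal] (hH : H ≠ ⊥) :
    ∃ z : G, z ∈ H ∧ z ∈ Subgroup.center G ∧ z ≠ 1 := by
  have hp : p ∣ Nat.card H := by
    have hHp : IsPGroup p H := hG.to_subgroup H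
    haveI : Nontrivial H := (Subgroup.nontrivial_iff_ne_bot H).mpr hH
    obtain ⟨n, hn0, hn⟩ := hHp.nontrivial_iff_card.mp inferInstance
    rw [hn]
    exact dvd_pow_self _ (ne_of_gt hn0)
  have hfix : (1 : H) ∈ MulAction.fixedPoints (ConjAct G) H := by
    intro g
    exact smul_one g
  obtain ⟨b, hb, hb1⟩ :=
    (hG.of_equiv ConjAct.toConjAct).exists_fixed_point_of_prime_dvd_card_of_fixed_point H hp hfix
  refine ⟨(b : G), b.2, ?_, ?_⟩
  · rw [Subgroup.mem_center_iff]
    intro g
    have := hb (ConjAct.toConjAct g)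
    have h2 : g * (b : G) * g⁻¹ = (b : G) := by
      have h3 := congrArg Subtype.val this
      rw [ConjAct.Subgroup.val_conj_smul, ConjAct.toConjAct_smul] at h3
      exact h3
    calc g * (b : G) = (g * (b : G) * g⁻¹) * g := by group
      _ = (b : G) * g := by rw [h2]
  · intro h
    apply hb1
    exact Subtype.ext h.symm

/-- A nontrivial normal subgroup of a finite `p`-group meets the centre nontrivially. -/
theorem normal_inf_center_ne_bot {G : Type*} [Group G] [Finite G] {p : ℕ} [Fact p.Prime]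
    (hG : IsPGroup p G) (H : Subgroup G) [H.Normal] (hH : H ≠ ⊥) :
    H ⊓ Subgroup.center G ≠ ⊥ := by
  obtain ⟨z, hzH, hzZ, hz1⟩ := exists_mem_center_of_normal hG H hH
  intro h
  have : z ∈ H ⊓ Subgroup.center G := Subgroup.mem_inf.mpr ⟨hzH, hzZ⟩
  rw [h, Subgroup.mem_bot] at this
  exact hz1 this

end Cfsg.Agent.Lib.Lead.PGroup
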