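import Mathlib

/-!
# The averaging (norm) endomorphism for a finite group acting on a commutative group

For `φ : A →* MulAut W` with `W` commutative and `A` finite, `avg φ : W →* W` is
`w ↦ ∏ a, φ a w`.

* `avg_apply`, `map_avg` (`φ b (avg φ w) = avg φ w`), `avg_map` (`avg φ (φ b w) = avg φ w`),
  `avg_comm_eq_one` (`avg φ (w * (φ a w)⁻¹) = 1`), `avg_fixed` (`avg φ w = w ^ |A|` on fixed
  points), `pow_card_eq_avg_mul` (`w ^ |A| = avg φ w * ∏ a, w * (φ a w)⁻¹`).
-/

set_option autoImplicit false

namespace Cfsg.Agent.Lib.Lead.Avg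

variable {A W : Type*} [Group A] [Fintype A] [CommGroup W] (φ : A →* MulAut W)

/-- the norm map -/
noncomputable def avg : W →* W := ∏ a : A, (φ a).toMonoidHom

theorem avg_apply (w : W) : avg φ w = ∏ a : A, φ a w := by
  rw [avg, MonoidHom.finsetProd_apply]
  rfl

theorem map_avg (b : A) (w : W) : φ b (avg φ w) = avg φ w := by
  rw [avg_apply, map_prod]
  refine Fintype.prod_equiv (Equiv.mulLeft b) _ _ ?_
  intro a
  rw [Equiv.coe_mulLeft, map_mul, MulAut.mul_apply]

theorem avg_map (b : A) (w : W) : avg φ (φ b w) = avg φ w := by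
  rw [avg_apply, avg_apply]
  refine Fintype.prod_equiv (Equiv.mulRight b) _ _ ?_
  intro a
  rw [Equiv.coe_mulRight, map_mul, MulAut.mul_apply]

theorem avg_comm_eq_one (a : A) (w : W) : avg φ (w * (φ a w)⁻¹) = 1 := by
  rw [map_mul, map_inv, avg_map, mul_inv_cancel]

theorem avg_fixed {w : W} (h : ∀ a : A, φ a w = w) : avg φ w = w ^ Fintype.card A := by
  rw [avg_apply, Finset.prod_congr rfl (fun a _ => h a), Finset.prod_const, Finset.card_univ]

theorem pow_card_eq_avg_mul (w : W) :
    w ^ Fintype.card A = avg φ w * ∏ a : A, (w * (φ a w)⁻¹) := by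
  rw [avg_apply, ← Finset.prod_mul_distrib]
  rw [Finset.prod_congr rfl (fun a _ => show φ a w * (w * (φ a w)⁻¹) = w by
    rw [mul_comm w, mul_inv_cancel_left])]
  rw [Finset.prod_const, Finset.card_univ]

/-- the norm over a subgroup `B` of `A`, written as a product over a filter -/
noncomputable def normOn (B : Subgroup A) (w : W) : W := by
  classical exact ∏ a ∈ Finset.univ.filter (fun a => a ∈ B), φ a w

theorem map_normOn (B : Subgroup A) {b : A} (hb : b ∈ B) (w : W) :
    φ b (normOn φ B w) = normOn φ B w := by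
  classical
  rw [normOn, map_prod]
  refine Finset.prod_equiv (Equiv.mulLeft b) ?_ ?_
  · intro a
    simp only [Finset.mem_filter, Finset.mem_univ, true_and, Equiv.coe_mulLeft]
    exact (B.mul_mem_cancel_left hb).symm
  · intro a _
    rw [Equiv.coe_mulLeft, map_mul, MulAut.mul_apply]

/-- **Partition identity**: if the subgroups `B i` partition `A` (every non-identity element lies
in exactly one of them), then `(∏ i, N_{B i}(w)) * w = w ^ (number of parts) * N_A(w)`. -/
theorem partition_identity {ι : Type*} [Fintype ι] (B : ι → Subgroup A)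
    (hpart : ∀ a : A, a ≠ 1 → ∃! i, a ∈ B i) (w : W) :
    (∏ i, normOn φ (B i) w) * w = w ^ Fintype.card ι * avg φ w := by
  classical
  have h1 : ∀ i, normOn φ (B i) w = ∏ a : A, if a ∈ B i then φ a w else 1 := by
    intro i
    rw [normOn, Finset.prod_filter]
  simp_rw [h1]
  rw [Finset.prod_comm]
  have h2 : ∀ a : A, ∏ i, (if a ∈ B i then φ a w else 1) =
      (φ a w) ^ (Finset.univ.filter (fun i => a ∈ B i)).card := by
    intro a
    rw [Finset.prod_ite, Finset.prod_const, Finset.prod_const_one, mul_one]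
  simp_rw [h2]
  rw [← Finset.mul_prod_erase Finset.univ _ (Finset.mem_univ (1 : A))]
  rw [avg_apply, ← Finset.mul_prod_erase Finset.univ (fun a => φ a w) (Finset.mem_univ (1 : A))]
  have h3 : (Finset.univ.filter (fun i => (1 : A) ∈ B i)).card = Fintype.card ι := by
    rw [Finset.filter_true_of_mem (fun i _ => (B i).one_mem), Finset.card_univ]
  have h4 : ∀ a ∈ Finset.univ.erase (1 : A),
      (φ a w) ^ (Finset.univ.filter (fun i => a ∈ B i)).card = φ a w := by
    intro a ha
    have ha1 : a ≠ 1 := Finset.ne_of_mem_erase ha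
    obtain ⟨i, hi, huniq⟩ := hpart a ha1
    have : Finset.univ.filter (fun j => a ∈ B j) = {i} := by
      ext j
      simp only [Finset.mem_filter, Finset.mem_univ, true_and, Finset.mem_singleton]
      constructor
      · exact fun h => huniq j h
      · rintro rfl; exact hi
    rw [this, Finset.card_singleton, pow_one]
  rw [Finset.prod_congr rfl h4, h3, map_one, MulAut.one_apply]
  rw [mul_assoc, mul_comm _ w]

omit [Fintype A] in
/-- the norm over the cyclic group generated by `c`, `c ^ p = 1`, indexed by `ZMod p` -/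
theorem map_cyc_norm {p : ℕ} [Fact p.Prime] {c : A} (hc : c ^ p = 1) (w : W) :
    φ c (∏ i : ZMod p, φ (c ^ i.val) w) = ∏ i : ZMod p, φ (c ^ i.val) w := by
  rw [map_prod]
  refine Fintype.prod_equiv (Equiv.addRight (1 : ZMod p)) _ _ ?_
  intro i
  have h1p : ((1 : ZMod p)).val = 1 := by
    haveI : Fact (1 < p) := ⟨(Fact.out : p.Prime).one_lt⟩
    exact ZMod.val_one p
  have : c ^ (i + 1).val = c * c ^ i.val := by
    rw [ZMod.val_add, ← pow_eq_pow_mod _ hc, h1p, pow_succ']
  rw [Equiv.coe_addRight, this, map_mul, MulAut.mul_apply]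

end Cfsg.Agent.Lib.Lead.Avg
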