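import Mathlib

/-!
# Automorphisms of `p`-groups of order prime to `p` that fix the small elements

* `eq_one_of_step` : if `a x = x * d`, `a d = d`, `d` a `p`-element and `a` of order prime to `p`, then `d = 1`;
* `class_two_pow` : the power formula `(a b)^n = a^n b^n z^(0+1+…+(n-1))` when `b a = a b z` with `z` commuting
  with `a` and `b`;
* `fixes_of_fixes_small` : a `p'`-automorphism of a finite `p`-group fixing all `x` with `x ^ p = 1`
  (or `x ^ 4 = 1` when `p = 2`) is trivial;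
* `eq_one_of_fixes_small` : the same, as `a = 1`;
* `centralizes_of_fixes_small` : inner form: a `p'`-element `g` normalizing the `p`-subgroup `Q` and commuting with
  all its small elements centralizes `Q`.
-/

set_option autoImplicit false
set_option linter.unusedSectionVars false
set_option linter.unusedVariables false
set_option linter.style.haveILetI false

namespace Cfsg.Agent.Lib.Lead.OmegaFaithful

open scoped commutatorElement

variable {P : Type*} [Group P]

theorem pow_apply_step (a : MulAut P) {x d : P} (hx : a x = x * d) (hd : a d = d) :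
    ∀ k : ℕ, (a ^ k) x = x * d ^ k := by
  intro k
  induction k with
  | zero => simp
  | succ k ih =>
    rw [pow_succ', MulAut.mul_apply, ih, map_mul, map_pow, hx, hd, pow_succ', mul_assoc]

/-- the basic coprime-action step -/
theorem eq_one_of_step {p : ℕ} [Fact p.Prime] (a : MulAut P) (ha : Nat.Coprime (orderOf a) p)
    {x d : P} (hx : a x = x * d) (hd : a d = d) {j : ℕ} (hdp : d ^ p ^ j = 1) : d = 1 := by
  have h1 := pow_apply_step a hx hd (orderOf a)
  rw [pow_orderOf_eq_one, MulAut.one_apply] at h1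
  have h2 : d ^ orderOf a = 1 := by
    have : x * 1 = x * d ^ orderOf a := by rw [mul_one]; exact h1
    exact (mul_left_cancel this).symm
  have d1 : orderOf d ∣ orderOf a := orderOf_dvd_of_pow_eq_one h2
  have d2 : orderOf d ∣ p ^ j := orderOf_dvd_of_pow_eq_one hdp
  have d3 : orderOf d = 1 :=
    Nat.Coprime.eq_one_of_dvd (Nat.Coprime.coprime_dvd_left d1 (ha.pow_right j)) d2
  exact orderOf_eq_one_iff.1 d3

/-- commutation of a power in class two -/
theorem class_two_pow_comm {a b z : P} (h : b * a = a * b * z) (hza : z * a = a * z) (hzb : z * b = b * z) :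
    ∀ n : ℕ, b ^ n * a = a * b ^ n * z ^ n := by
  intro n
  induction n with
  | zero => simp
  | succ n ih =>
    have hzbn : ∀ m : ℕ, z ^ m * b = b * z ^ m := fun m => ((Commute.pow_left (show Commute z b from hzb) m)).eq
    calc b ^ (n + 1) * a = b * (b ^ n * a) := by rw [pow_succ', mul_assoc]
      _ = b * (a * b ^ n * z ^ n) := by rw [ih]
      _ = (b * a) * b ^ n * z ^ n := by simp only [mul_assoc]
      _ = a * b * z * b ^ n * z ^ n := by rw [h]
      _ = a * b * (z * b ^ n) * z ^ n := by simp only [mul_assoc]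
      _ = a * b * (b ^ n * z) * z ^ n := by
          rw [((Commute.pow_right (show Commute z b from hzb) n)).eq]
      _ = a * (b * b ^ n) * (z * z ^ n) := by simp only [mul_assoc]
      _ = a * b ^ (n + 1) * z ^ (n + 1) := by rw [← pow_succ', ← pow_succ']

/-- the power formula in class two -/
theorem class_two_pow {a b z : P} (h : b * a = a * b * z) (hza : z * a = a * z) (hzb : z * b = b * z) :
    ∀ n : ℕ, (a * b) ^ n = a ^ n * b ^ n * z ^ (∑ i ∈ Finset.range n, i) := by
  intro n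
  induction n with
  | zero => simp
  | succ n ih =>
    have hc := class_two_pow_comm h hza hzb n
    have hzT : ∀ m : ℕ, z ^ m * a = a * z ^ m := fun m => ((Commute.pow_left (show Commute z a from hza) m)).eq
    have hzTb : ∀ m : ℕ, z ^ m * b = b * z ^ m := fun m => ((Commute.pow_left (show Commute z b from hzb) m)).eq
    calc (a * b) ^ (n + 1) = (a * b) ^ n * (a * b) := pow_succ _ _
      _ = a ^ n * b ^ n * z ^ (∑ i ∈ Finset.range n, i) * (a * b) := by rw [ih]
      _ = a ^ n * b ^ n * (z ^ (∑ i ∈ Finset.range n, i) * a) * b := by simp only [mul_assoc]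
      _ = a ^ n * b ^ n * (a * z ^ (∑ i ∈ Finset.range n, i)) * b := by rw [hzT]
      _ = a ^ n * (b ^ n * a) * (z ^ (∑ i ∈ Finset.range n, i) * b) := by simp only [mul_assoc]
      _ = a ^ n * (a * b ^ n * z ^ n) * (b * z ^ (∑ i ∈ Finset.range n, i)) := by rw [hc, hzTb]
      _ = (a ^ n * a) * b ^ n * (z ^ n * b) * z ^ (∑ i ∈ Finset.range n, i) := by simp only [mul_assoc]
      _ = (a ^ n * a) * b ^ n * (b * z ^ n) * z ^ (∑ i ∈ Finset.range n, i) := by rw [hzTb]
      _ = (a ^ n * a) * (b ^ n * b) * (z ^ n * z ^ (∑ i ∈ Finset.range n, i)) := by simp only [mul_assoc]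
      _ = a ^ (n + 1) * b ^ (n + 1) * z ^ (∑ i ∈ Finset.range (n + 1), i) := by
          rw [← pow_succ, ← pow_succ, ← pow_add, Finset.sum_range_succ, add_comm (∑ i ∈ Finset.range n, i) n]


/-- the subgroup generated by the `p`-th powers and the commutators of `H` -/
def agemo (p : ℕ) (H : Subgroup P) : Subgroup P :=
  Subgroup.closure ({y | ∃ x ∈ H, y = x ^ p} ∪ {y | ∃ x ∈ H, ∃ z ∈ H, y = ⁅x, z⁆})

theorem agemo_le (p : ℕ) (H : Subgroup P) : agemo p H ≤ H := by
  rw [agemo, Subgroup.closure_le]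
  rintro y (⟨x, hx, rfl⟩ | ⟨x, hx, z, hz, rfl⟩)
  · exact H.pow_mem hx p
  · rw [SetLike.mem_coe, commutatorElement_def]
    exact H.mul_mem (H.mul_mem (H.mul_mem hx hz) (H.inv_mem hx)) (H.inv_mem hz)

theorem pow_mem_agemo {p : ℕ} {H : Subgroup P} {x : P} (hx : x ∈ H) : x ^ p ∈ agemo p H :=
  Subgroup.subset_closure (Or.inl ⟨x, hx, rfl⟩)

theorem comm_mem_agemo {p : ℕ} {H : Subgroup P} {x z : P} (hx : x ∈ H) (hz : z ∈ H) : ⁅x, z⁆ ∈ agemo p H :=
  Subgroup.subset_closure (Or.inr ⟨x, hx, z, hz, rfl⟩)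

theorem agemo_invariant {p : ℕ} (a : MulAut P) (H : Subgroup P) (hH : ∀ x ∈ H, a x ∈ H) :
    ∀ y ∈ agemo p H, a y ∈ agemo p H := by
  have : agemo p H ≤ (agemo p H).comap a.toMonoidHom := by
    rw [agemo, Subgroup.closure_le]
    rintro y (⟨x, hx, rfl⟩ | ⟨x, hx, z, hz, rfl⟩)
    · rw [SetLike.mem_coe, Subgroup.mem_comap]
      show a (x ^ p) ∈ agemo p H
      rw [map_pow]
      exact pow_mem_agemo (hH x hx)
    · rw [SetLike.mem_coe, Subgroup.mem_comap]
      show a ⁅x, z⁆ ∈ agemo p H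
      rw [map_commutatorElement]
      exact comm_mem_agemo (hH x hx) (hH z hz)
  exact fun y hy => this hy

theorem conj_mem_agemo {p : ℕ} {H : Subgroup P} {x n : P} (hx : x ∈ H) (hn : n ∈ agemo p H) :
    x * n * x⁻¹ ∈ agemo p H := by
  have e : x * n * x⁻¹ = ⁅x, n⁆ * n := by rw [commutatorElement_def]; group
  rw [e]
  exact (agemo p H).mul_mem (comm_mem_agemo hx (agemo_le p H hn)) hn

theorem card_agemo_lt' [Finite P] {p : ℕ} [hp : Fact p.Prime] (H : Subgroup P) (hHp : IsPGroup p ↥H)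
    (hH : H ≠ ⊥) : Nat.card ↥(agemo p H) < Nat.card ↥H := by
  obtain ⟨n, hn⟩ := IsPGroup.iff_card.mp hHp
  have hn0 : n ≠ 0 := by
    rintro rfl
    rw [pow_zero, Subgroup.card_eq_one] at hn
    exact hH hn
  obtain ⟨m, rfl⟩ := Nat.exists_eq_succ_of_ne_zero hn0
  obtain ⟨M, hM⟩ := Sylow.exists_subgroup_card_pow_prime (G := ↥H) p
    (show p ^ m ∣ Nat.card ↥H by rw [hn]; exact pow_dvd_pow p (Nat.le_succ m))
  have hidx : M.index = p := by
    have h1 := M.card_mul_index
    rw [hM, hn, pow_succ] at h1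
    exact Nat.eq_of_mul_eq_mul_left (pow_pos hp.out.pos m) h1
  haveI hMn : M.Normal := by
    apply Subgroup.normal_of_index_eq_minFac_card
    rw [hidx, hn, Nat.pow_minFac (Nat.succ_ne_zero m), Nat.Prime.minFac_eq hp.out]
  have hcomm : commutator ↥H ≤ M := by
    rw [← Subgroup.Normal.quotient_commutative_iff_commutator_le]
    have hc : Nat.card (↥H ⧸ M) = p := by rw [← Subgroup.index_eq_card, hidx]
    haveI : IsCyclic (↥H ⧸ M) := isCyclic_of_prime_card hc
    letI := IsCyclic.commGroup (α := ↥H ⧸ M)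
    exact ⟨⟨fun x y => mul_comm x y⟩⟩
  have hle : agemo p H ≤ M.map H.subtype := by
    rw [agemo, Subgroup.closure_le]
    rintro y (⟨x, hx, rfl⟩ | ⟨x, hx, z, hz, rfl⟩)
    · have h1 : (⟨x, hx⟩ : ↥H) ^ M.index ∈ M := Subgroup.pow_index_mem M _
      rw [hidx] at h1
      exact ⟨_, h1, rfl⟩
    · have h1 : ⁅(⟨x, hx⟩ : ↥H), (⟨z, hz⟩ : ↥H)⁆ ∈ commutator ↥H := by
        rw [commutator_def]
        exact Subgroup.commutator_mem_commutator (Subgroup.mem_top _) (Subgroup.mem_top _)
      exact ⟨_, hcomm h1, rfl⟩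
  have h2 : Nat.card ↥(M.map H.subtype) = p ^ m := by
    rw [Subgroup.card_map_of_injective H.subtype_injective, hM]
  calc Nat.card ↥(agemo p H) ≤ Nat.card ↥(M.map H.subtype) := Subgroup.card_le_of_le hle
    _ = p ^ m := h2
    _ < p ^ (m + 1) := Nat.pow_lt_pow_right hp.out.one_lt (Nat.lt_succ_self m)
    _ = Nat.card ↥H := hn.symm

theorem card_agemo_lt [Finite P] {p : ℕ} [hp : Fact p.Prime] (hP : IsPGroup p P) (H : Subgroup P)
    (hH : H ≠ ⊥) : Nat.card ↥(agemo p H) < Nat.card ↥H :=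
  card_agemo_lt' H (hP.to_subgroup H) hH

theorem sum_range_prime_odd {p : ℕ} (hodd : p % 2 = 1) : ∑ i ∈ Finset.range p, i = p * (p / 2) := by
  have h1 := Finset.sum_range_id_mul_two p
  have h2 : p - 1 = 2 * (p / 2) := by omega
  rw [h2] at h1
  have h3 : p * (2 * (p / 2)) = p * (p / 2) * 2 := by ring
  rw [h3] at h1
  exact Nat.eq_of_mul_eq_mul_right two_pos h1

theorem fixes_aux [Finite P] {p : ℕ} [hp : Fact p.Prime] (hP : IsPGroup p P) (a : MulAut P)
    (ha : Nat.Coprime (orderOf a) p)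
    (h : ∀ x : P, x ^ p = 1 ∨ (p = 2 ∧ x ^ 4 = 1) → a x = x) :
    ∀ n : ℕ, ∀ H : Subgroup P, Nat.card ↥H = n → (∀ x ∈ H, a x ∈ H) → ∀ x ∈ H, a x = x := by
  intro n
  induction n using Nat.strong_induction_on with
  | _ n ih =>
  intro H hcard hinv x hx
  by_cases hbot : H = ⊥
  · subst hbot
    rw [Subgroup.mem_bot] at hx
    rw [hx, map_one]
  have hNlt : Nat.card ↥(agemo p H) < n := hcard ▸ card_agemo_lt hP H hbot
  have hNfix : ∀ y ∈ agemo p H, a y = y := ih _ hNlt (agemo p H) rfl (agemo_invariant a H hinv)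
  have hCinv : ∀ c ∈ H ⊓ Subgroup.centralizer ((agemo p H : Subgroup P) : Set P),
      a c ∈ H ⊓ Subgroup.centralizer ((agemo p H : Subgroup P) : Set P) := by
    intro c hc
    rw [Subgroup.mem_inf] at hc ⊢
    obtain ⟨hcH, hcN⟩ := hc
    refine ⟨hinv c hcH, ?_⟩
    rw [Subgroup.mem_centralizer_iff] at hcN ⊢
    intro y hy
    have := congrArg a (hcN y hy)
    rw [map_mul, map_mul, hNfix y hy] at this
    exact this
  have hdH : x⁻¹ * a x ∈ H := H.mul_mem (H.inv_mem hx) (hinv x hx)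
  have hax : a x = x * (x⁻¹ * a x) := by group
  obtain ⟨j, hj⟩ := hP (x⁻¹ * a x)
  suffices hfix : a (x⁻¹ * a x) = x⁻¹ * a x by
    have := eq_one_of_step a ha hax hfix hj
    rw [hax, this, mul_one]
  by_cases hC : H ⊓ Subgroup.centralizer ((agemo p H : Subgroup P) : Set P) = H
  · have hcent : ∀ y ∈ agemo p H, ∀ w ∈ H, y * w = w * y := by
      intro y hy w hw
      have hwC : w ∈ H ⊓ Subgroup.centralizer ((agemo p H : Subgroup P) : Set P) := by rw [hC]; exact hw
      exact (Subgroup.mem_centralizer_iff.1 hwC.2) y hy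
    have hbH : a x ∈ H := hinv x hx
    have hzN : ⁅(a x)⁻¹, x⁆ ∈ agemo p H := comm_mem_agemo (H.inv_mem hbH) hx
    have hrel : a x * x⁻¹ = x⁻¹ * a x * ⁅(a x)⁻¹, x⁆ := by rw [commutatorElement_def]; group
    have hza : ⁅(a x)⁻¹, x⁆ * x⁻¹ = x⁻¹ * ⁅(a x)⁻¹, x⁆ := hcent _ hzN _ (H.inv_mem hx)
    have hzb : ⁅(a x)⁻¹, x⁆ * a x = a x * ⁅(a x)⁻¹, x⁆ := hcent _ hzN _ hbH
    have hpow := class_two_pow hrel hza hzb
    have hcomm := class_two_pow_comm hrel hza hzb p
    have hbp : (a x) ^ p ∈ agemo p H := pow_mem_agemo hbH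
    have hzp : ⁅(a x)⁻¹, x⁆ ^ p = 1 := by
      have h1 : (a x) ^ p * x⁻¹ = x⁻¹ * (a x) ^ p := hcent _ hbp _ (H.inv_mem hx)
      rw [h1] at hcomm
      have : x⁻¹ * (a x) ^ p * 1 = x⁻¹ * (a x) ^ p * ⁅(a x)⁻¹, x⁆ ^ p := by rw [mul_one]; exact hcomm
      exact (mul_left_cancel this).symm
    have hxp : (x⁻¹) ^ p * (a x) ^ p = 1 := by
      have h1 : a (x ^ p) = x ^ p := hNfix _ (pow_mem_agemo hx)
      rw [map_pow] at h1
      rw [h1, inv_pow, inv_mul_cancel]
    rcases Nat.Prime.eq_two_or_odd hp.out with h2 | hodd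
    · apply h; right
      refine ⟨h2, ?_⟩
      have e2 := hpow 2
      rw [h2] at hxp hzp
      rw [hxp, one_mul] at e2
      have e3 : ∑ i ∈ Finset.range 2, i = 1 := by decide
      rw [e3, pow_one] at e2
      calc (x⁻¹ * a x) ^ 4 = ((x⁻¹ * a x) ^ 2) ^ 2 := by rw [← pow_mul]
        _ = 1 := by rw [e2, hzp]
    · apply h; left
      have e2 := hpow p
      rw [hxp, one_mul, sum_range_prime_odd hodd, pow_mul, hzp, one_pow] at e2
      exact e2
  · have hClt : Nat.card ↥(H ⊓ Subgroup.centralizer ((agemo p H : Subgroup P) : Set P)) < n := by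
      rw [← hcard]
      apply lt_of_le_of_ne (Subgroup.card_le_of_le inf_le_left)
      intro hEq
      exact hC (Subgroup.eq_of_le_of_card_ge inf_le_left hEq.ge)
    have hCfix := ih _ hClt _ rfl hCinv
    apply hCfix
    rw [Subgroup.mem_inf]
    refine ⟨hdH, ?_⟩
    rw [Subgroup.mem_centralizer_iff]
    intro y hy
    have hconj : x * y * x⁻¹ ∈ agemo p H := conj_mem_agemo hx hy
    have h1 := hNfix _ hconj
    rw [map_mul, map_mul, map_inv, hNfix y hy] at h1
    calc y * (x⁻¹ * a x) = x⁻¹ * (x * y * x⁻¹) * a x := by group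
      _ = x⁻¹ * (a x * y * (a x)⁻¹) * a x := by rw [h1]
      _ = x⁻¹ * a x * y := by group

/-- a `p'`-automorphism of a finite `p`-group fixing every `x` with `x ^ p = 1` (or `x ^ 4 = 1` when `p = 2`)
is trivial -/
theorem fixes_of_fixes_small [Finite P] {p : ℕ} [hp : Fact p.Prime] (hP : IsPGroup p P) (a : MulAut P)
    (ha : Nat.Coprime (orderOf a) p)
    (h : ∀ x : P, x ^ p = 1 ∨ (p = 2 ∧ x ^ 4 = 1) → a x = x) (x : P) : a x = x :=
  fixes_aux hP a ha h _ ⊤ rfl (fun _ _ => Subgroup.mem_top _) x (Subgroup.mem_top x)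

theorem eq_one_of_fixes_small [Finite P] {p : ℕ} [hp : Fact p.Prime] (hP : IsPGroup p P) (a : MulAut P)
    (ha : Nat.Coprime (orderOf a) p)
    (h : ∀ x : P, x ^ p = 1 ∨ (p = 2 ∧ x ^ 4 = 1) → a x = x) : a = 1 := by
  ext x
  exact fixes_of_fixes_small hP a ha h x


/-- inner form: a `p'`-element normalizing the `p`-subgroup `Q` and commuting with its small elements
centralizes `Q` -/
theorem centralizes_of_fixes_small {G : Type*} [Group G] [Finite G] {p : ℕ} [hp : Fact p.Prime]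
    (Q : Subgroup G) (hQ : IsPGroup p ↥Q) (g : G) (hg : g ∈ Subgroup.normalizer (Q : Set G))
    (hgp : Nat.Coprime (orderOf g) p)
    (h : ∀ x ∈ Q, x ^ p = 1 ∨ (p = 2 ∧ x ^ 4 = 1) → g * x * g⁻¹ = x) :
    g ∈ Subgroup.centralizer (Q : Set G) := by
  haveI : (Q.subgroupOf (Subgroup.normalizer (Q : Set G))).Normal := Subgroup.normal_in_normalizer
  set a : MulAut ↥(Q.subgroupOf (Subgroup.normalizer (Q : Set G))) :=
    MulAut.conjNormal (⟨g, hg⟩ : ↥(Subgroup.normalizer (Q : Set G))) with ha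
  have hP : IsPGroup p ↥(Q.subgroupOf (Subgroup.normalizer (Q : Set G))) := hQ.comap_subtype
  have hord : Nat.Coprime (orderOf a) p := by
    have d1 : orderOf a ∣ orderOf (⟨g, hg⟩ : ↥(Subgroup.normalizer (Q : Set G))) := orderOf_map_dvd _ _
    rw [Subgroup.orderOf_mk] at d1
    exact Nat.Coprime.coprime_dvd_left d1 hgp
  have hval : ∀ x : ↥(Q.subgroupOf (Subgroup.normalizer (Q : Set G))),
      (((a x : ↥(Q.subgroupOf (Subgroup.normalizer (Q : Set G)))) : ↥(Subgroup.normalizer (Q : Set G))) : G) =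
        g * ((x : ↥(Subgroup.normalizer (Q : Set G))) : G) * g⁻¹ := by
    intro x
    rw [ha, MulAut.conjNormal_apply]
    rfl
  have hfix : ∀ x : ↥(Q.subgroupOf (Subgroup.normalizer (Q : Set G))),
      x ^ p = 1 ∨ (p = 2 ∧ x ^ 4 = 1) → a x = x := by
    intro x hx
    apply Subtype.ext
    apply Subtype.ext
    rw [hval]
    apply h _ (Subgroup.mem_subgroupOf.1 x.2)
    rcases hx with hx | ⟨h2, hx⟩
    · left
      have := congrArg (fun y : ↥(Q.subgroupOf (Subgroup.normalizer (Q : Set G))) =>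
        ((y : ↥(Subgroup.normalizer (Q : Set G))) : G)) hx
      simpa using this
    · right
      refine ⟨h2, ?_⟩
      have := congrArg (fun y : ↥(Q.subgroupOf (Subgroup.normalizer (Q : Set G))) =>
        ((y : ↥(Subgroup.normalizer (Q : Set G))) : G)) hx
      simpa using this
  rw [Subgroup.mem_centralizer_iff]
  intro q hq
  have h1 := fixes_of_fixes_small hP a hord hfix
    ⟨⟨q, Subgroup.le_normalizer hq⟩, Subgroup.mem_subgroupOf.2 hq⟩
  have h2 := hval ⟨⟨q, Subgroup.le_normalizer hq⟩, Subgroup.mem_subgroupOf.2 hq⟩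
  rw [h1] at h2
  have h3 : q = g * q * g⁻¹ := h2
  calc q * g = (g * q * g⁻¹) * g := by rw [← h3]
    _ = g * q := by group

end Cfsg.Agent.Lib.Lead.OmegaFaithful
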