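import Mathlib
import Cfsg.Agent.Lib.Lead.OmegaFaithful

/-!
# The conjugation action of `N_G(Q)` on `Q`, and coprime automorphisms of cyclic `p`-groups

* `conjAut Q : ↥(N_G(Q)) →* MulAut ↥Q`;
* `exists_mulAut`: for `g ∈ N_G(Q)` there is `a : MulAut ↥Q` with `a q = g q g⁻¹` and
  `orderOf a ∣ orderOf g`;
* `mem_zpowers_of_pow_eq_one`: in a cyclic `p`-group, every `d` with `d ^ p = 1` lies in `⟨x⟩`
  for every `x ≠ 1`;
* `cyclic_fix`: a `p'`-automorphism of a cyclic `p`-group fixing some `x ≠ 1` is trivial;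
* `mem_sylow_of_mem_normalizer`: a `p`-element of `N_G(P)`, `P` Sylow, lies in `P`.
-/

set_option autoImplicit false

namespace Cfsg.Agent.Lib.Lead.ConjAut

variable {G : Type*} [Group G]

/-- conjugation action of the normalizer on a subgroup -/
def conjAut (Q : Subgroup G) : ↥(Subgroup.normalizer (Q : Set G)) →* MulAut ↥Q where
  toFun g :=
    { toFun := fun q => ⟨(g : G) * q * (g : G)⁻¹, (Subgroup.mem_normalizer_iff.1 g.2 q).1 q.2⟩
      invFun := fun q => ⟨(g : G)⁻¹ * q * (g : G), by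
        apply (Subgroup.mem_normalizer_iff.1 g.2 _).2
        have e : (g : G) * ((g : G)⁻¹ * q * (g : G)) * (g : G)⁻¹ = q := by group
        rw [e]; exact q.2⟩
      left_inv := fun q => by
        apply Subtype.ext
        show (g : G)⁻¹ * ((g : G) * q * (g : G)⁻¹) * (g : G) = q
        group
      right_inv := fun q => by
        apply Subtype.ext
        show (g : G) * ((g : G)⁻¹ * q * (g : G)) * (g : G)⁻¹ = q
        group
      map_mul' := fun q r => by
        apply Subtype.ext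
        show (g : G) * ((q : G) * (r : G)) * (g : G)⁻¹ = ((g : G) * q * (g : G)⁻¹) * ((g : G) * r * (g : G)⁻¹)
        group }
  map_one' := by
    ext q
    show ((1 : ↥(Subgroup.normalizer (Q : Set G))) : G) * q * ((1 : ↥(Subgroup.normalizer (Q : Set G))) : G)⁻¹ = q
    simp
  map_mul' := fun g h => by
    ext q
    show ((g * h : ↥(Subgroup.normalizer (Q : Set G))) : G) * q * ((g * h : ↥(Subgroup.normalizer (Q : Set G))) : G)⁻¹
      = (g : G) * ((h : G) * q * (h : G)⁻¹) * (g : G)⁻¹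
    rw [Subgroup.coe_mul]
    group

theorem conjAut_apply (Q : Subgroup G) (g : ↥(Subgroup.normalizer (Q : Set G))) (q : ↥Q) :
    ((conjAut Q g q : ↥Q) : G) = (g : G) * q * (g : G)⁻¹ := rfl

theorem exists_mulAut (Q : Subgroup G) (g : G) (hg : g ∈ Subgroup.normalizer (Q : Set G)) :
    ∃ a : MulAut ↥Q, (∀ q : ↥Q, ((a q : ↥Q) : G) = g * q * g⁻¹) ∧ orderOf a ∣ orderOf g := by
  refine ⟨conjAut Q ⟨g, hg⟩, fun q => rfl, ?_⟩
  have d1 : orderOf (conjAut Q ⟨g, hg⟩) ∣ orderOf (⟨g, hg⟩ : ↥(Subgroup.normalizer (Q : Set G))) :=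
    orderOf_map_dvd _ _
  rwa [Subgroup.orderOf_mk] at d1

theorem mem_zpowers_of_pow_eq_one_aux {P : Type*} [CommGroup P] [Finite P] [IsCyclic P] {p : ℕ}
    [hp : Fact p.Prime] (hP : IsPGroup p P) {x d : P} (hx : x ≠ 1) (hd : d ^ p = 1) :
    d ∈ Subgroup.zpowers x := by
  obtain ⟨k, hk⟩ := IsPGroup.iff_orderOf.1 hP x
  have hk0 : k ≠ 0 := by
    rintro rfl
    rw [pow_zero, orderOf_eq_one_iff] at hk
    exact hx hk
  have hpdvd : p ∣ orderOf x := by rw [hk]; exact dvd_pow_self p hk0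
  set e := x ^ (orderOf x / p) with he
  have hoe : orderOf e = p := orderOf_pow_orderOf_div (orderOf_pos x).ne' hpdvd
  set K := (powMonoidHom p : P →* P).ker with hK
  have hKcard : Nat.card ↥K = p := by
    rw [hK, IsCyclic.card_powMonoidHom_ker]
    apply Nat.gcd_eq_right
    rw [← hoe]; exact orderOf_dvd_natCard e
  have heK : Subgroup.zpowers e ≤ K := by
    rw [Subgroup.zpowers_le, hK, MonoidHom.mem_ker, powMonoidHom_apply, ← hoe]
    exact pow_orderOf_eq_one e
  have hcard : Nat.card ↥(Subgroup.zpowers e) = p := by rw [Nat.card_zpowers, hoe]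
  have hKe : Subgroup.zpowers e = K :=
    Subgroup.eq_of_le_of_card_ge heK (by rw [hcard, hKcard])
  have hdK : d ∈ K := by rw [hK, MonoidHom.mem_ker, powMonoidHom_apply]; exact hd
  rw [← hKe] at hdK
  exact (Subgroup.zpowers_le.2 (Subgroup.pow_mem _ (Subgroup.mem_zpowers x) _)) hdK

theorem mem_zpowers_of_pow_eq_one {P : Type*} [Group P] [Finite P] [IsCyclic P] {p : ℕ}
    [hp : Fact p.Prime] (hP : IsPGroup p P) {x d : P} (hx : x ≠ 1) (hd : d ^ p = 1) :
    d ∈ Subgroup.zpowers x :=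
  @mem_zpowers_of_pow_eq_one_aux P IsCyclic.commGroup _ _ p hp hP x d hx hd

/-- a `p'`-automorphism of a cyclic `p`-group fixing a non-identity element is trivial -/
theorem cyclic_fix {P : Type*} [Group P] [Finite P] [IsCyclic P] {p : ℕ}
    [hp : Fact p.Prime] (hP : IsPGroup p P) (a : MulAut P) (ha : Nat.Coprime (orderOf a) p)
    {x : P} (hx : x ≠ 1) (hax : a x = x) : ∀ y : P, a y = y := by
  have hpow : ∀ d ∈ Subgroup.zpowers x, a d = d := by
    intro d hd
    obtain ⟨k, rfl⟩ := Subgroup.mem_zpowers_iff.1 hd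
    rw [map_zpow, hax]
  have hcomm : ∀ u v : P, u * v = v * u := fun u v => Std.Commutative.comm u v
  have main : ∀ j : ℕ, ∀ y : P, y ^ p ^ j = 1 → a y = y := by
    intro j
    induction j with
    | zero =>
      intro y hy
      rw [pow_zero, pow_one] at hy
      rw [hy, map_one]
    | succ j ih =>
      intro y hy
      have h1 : a (y ^ p) = y ^ p := ih _ (by rw [← pow_mul, ← pow_succ']; exact hy)
      set d := y⁻¹ * a y with hd
      have hay : a y = y * d := by rw [hd]; group
      have hdp : d ^ p = 1 := by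
        have hc : Commute y⁻¹ (a y) := hcomm _ _
        rw [hd, hc.mul_pow, inv_pow, ← map_pow, h1]; group
      have hdx := mem_zpowers_of_pow_eq_one hP hx hdp
      have := Cfsg.Agent.Lib.Lead.OmegaFaithful.eq_one_of_step a ha hay (hpow d hdx) (j := 1)
        (by simpa using hdp)
      rw [hay, this, mul_one]
  intro y
  obtain ⟨k, hk⟩ := hP y
  exact main k y hk

/-- a `p`-element normalizing a Sylow `p`-subgroup lies in it -/
theorem mem_sylow_of_mem_normalizer [Finite G] {p : ℕ} [hp : Fact p.Prime] (P : Sylow p G) {s : G}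
    (hs : s ∈ Subgroup.normalizer ((P : Subgroup G) : Set G)) {k : ℕ} (hsk : s ^ p ^ k = 1) :
    s ∈ (P : Subgroup G) := by
  have hz : IsPGroup p ↥(Subgroup.zpowers s) := by
    rw [IsPGroup.iff_card]
    have : orderOf s ∣ p ^ k := orderOf_dvd_of_pow_eq_one hsk
    obtain ⟨j, _, hj⟩ := (Nat.dvd_prime_pow hp.out).1 this
    exact ⟨j, by rw [Nat.card_zpowers, hj]⟩
  have hle : Subgroup.zpowers s ≤ Subgroup.normalizer ((P : Subgroup G) : Set G) :=
    Subgroup.zpowers_le.2 hs
  have hsup := hz.to_sup_of_normal_right' P.isPGroup' hle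
  have heq := P.is_maximal' hsup le_sup_right
  rw [← heq]
  exact (le_sup_left : Subgroup.zpowers s ≤ _) (Subgroup.mem_zpowers s)

end Cfsg.Agent.Lib.Lead.ConjAut
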