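import Mathlib

/-!
# Wielandt's join theorem for subnormal subgroups (finite groups)

* `IsMinNormal K`       : `K` is a minimal normal subgroup;
* `minNormal_le_normalizer` : a minimal normal subgroup normalizes every subnormal subgroup;
* `sup_isSubnormal`     : the join of two subnormal subgroups is subnormal;
* `sSup_isSubnormal`    : the join of a family of subnormal subgroups is subnormal;
* `exists_conj_le_normalizer` : a subnormal, non-normal subgroup `H` has a conjugate `≠ H`
  inside `N(H)`;
* `isSubnormal_of_normalizerCondition` : in a finite nilpotent group all subgroups are subnormal.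
-/

set_option autoImplicit false

namespace Cfsg.Agent.Lib.Lead.Subnormal

universe u

open scoped Pointwise

section basic

variable {G : Type*} [Group G]

theorem mem_conj_smul (x y : G) (H : Subgroup G) :
    y ∈ MulAut.conj x • H ↔ x⁻¹ * y * x ∈ H := by
  rw [Subgroup.mem_pointwise_smul_iff_inv_smul_mem]
  simp [MulAut.smul_def]

theorem conj_mem_conj_smul (x y : G) (H : Subgroup G) (hy : y ∈ H) :
    x * y * x⁻¹ ∈ MulAut.conj x • H := by
  rw [mem_conj_smul]
  have : x⁻¹ * (x * y * x⁻¹) * x = y := by group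
  rw [this]; exact hy

theorem card_conj_smul (x : G) (H : Subgroup G) :
    Nat.card ↥(MulAut.conj x • H) = Nat.card ↥H :=
  Nat.card_congr (H.equivMapOfInjective _ (MulAut.conj x).injective).symm.toEquiv

theorem conj_smul_eq_of_le [Finite G] (x : G) (H : Subgroup G) (h : MulAut.conj x • H ≤ H) :
    MulAut.conj x • H = H :=
  Subgroup.eq_of_le_of_card_ge h (le_of_eq (card_conj_smul x H).symm)

theorem conj_smul_le_of_mem_normalizer (x : G) (H : Subgroup G)
    (hx : x ∈ Subgroup.normalizer (H : Set G)) : MulAut.conj x • H ≤ H := by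
  intro y hy
  rw [mem_conj_smul] at hy
  have h1 := (Subgroup.mem_normalizer_iff.mp hx (x⁻¹ * y * x)).mp hy
  have : x * (x⁻¹ * y * x) * x⁻¹ = y := by group
  rwa [this] at h1

theorem conj_smul_eq_of_mem_normalizer (x : G) (H : Subgroup G)
    (hx : x ∈ Subgroup.normalizer (H : Set G)) : MulAut.conj x • H = H := by
  apply le_antisymm (conj_smul_le_of_mem_normalizer x H hx)
  intro y hy
  rw [mem_conj_smul]
  have hx' := Subgroup.inv_mem _ hx
  have h1 := (Subgroup.mem_normalizer_iff.mp hx' y).mp hy
  simpa using h1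

theorem mem_normalizer_of_conj_smul_le [Finite G] (x : G) (H : Subgroup G)
    (h : MulAut.conj x • H ≤ H) : x ∈ Subgroup.normalizer (H : Set G) := by
  have heq := conj_smul_eq_of_le x H h
  rw [Subgroup.mem_normalizer_iff]
  intro y
  constructor
  · intro hy
    rw [← heq]
    exact conj_mem_conj_smul x y H hy
  · intro hy
    rw [← heq, mem_conj_smul] at hy
    have : x⁻¹ * (x * y * x⁻¹) * x = y := by group
    rwa [this] at hy

theorem normalizer_inf_le_normalizer_sup (A B : Subgroup G) :
    Subgroup.normalizer (A : Set G) ⊓ Subgroup.normalizer (B : Set G) ≤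
      Subgroup.normalizer ((A ⊔ B : Subgroup G) : Set G) := by
  intro m hm
  obtain ⟨hA, hB⟩ := Subgroup.mem_inf.mp hm
  have key : ∀ m : G, m ∈ Subgroup.normalizer (A : Set G) → m ∈ Subgroup.normalizer (B : Set G) →
      ∀ y ∈ A ⊔ B, m * y * m⁻¹ ∈ A ⊔ B := by
    intro m hA hB
    have hle : A ⊔ B ≤ (A ⊔ B).comap (MulAut.conj m).toMonoidHom := by
      apply sup_le
      · intro a ha
        show m * a * m⁻¹ ∈ A ⊔ B
        exact Subgroup.mem_sup_left ((Subgroup.mem_normalizer_iff.mp hA a).mp ha)
      · intro b hb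
        show m * b * m⁻¹ ∈ A ⊔ B
        exact Subgroup.mem_sup_right ((Subgroup.mem_normalizer_iff.mp hB b).mp hb)
    intro y hy
    exact hle hy
  rw [Subgroup.mem_normalizer_iff]
  intro y
  constructor
  · exact key m hA hB y
  · intro hy
    have := key m⁻¹ (Subgroup.inv_mem _ hA) (Subgroup.inv_mem _ hB) _ hy
    have e : m⁻¹ * (m * y * m⁻¹) * m⁻¹⁻¹ = y := by group
    rwa [e] at this

end basic

/-- `K` is a minimal normal subgroup. -/
def IsMinNormal {X : Type*} [Group X] (K : Subgroup X) : Prop :=
  K.Normal ∧ K ≠ ⊥ ∧ ∀ K' : Subgroup X, K'.Normal → K' ≤ K → K' ≠ ⊥ → K' = K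

theorem IsMinNormal.map {X Y : Type*} [Group X] [Group Y] (e : X ≃* Y) {K : Subgroup X}
    (hK : IsMinNormal K) : IsMinNormal (K.map e.toMonoidHom) := by
  refine ⟨hK.1.map _ e.surjective, ?_, ?_⟩
  · intro h
    exact hK.2.1 ((Subgroup.map_eq_bot_iff_of_injective _ e.injective).mp h)
  · intro K' hK'n hle hne
    have h1 : (K'.comap e.toMonoidHom).Normal := hK'n.comap _
    have h2 : K'.comap e.toMonoidHom ≤ K := by
      have := Subgroup.comap_mono (f := e.toMonoidHom) hle
      rwa [Subgroup.comap_map_eq_self_of_injective e.injective] at this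
    have h4 : (K'.comap e.toMonoidHom).map e.toMonoidHom = K' :=
      Subgroup.map_comap_eq_self_of_surjective e.surjective K'
    have h3 : K'.comap e.toMonoidHom ≠ ⊥ := by
      intro h
      rw [h, Subgroup.map_bot] at h4
      exact hne h4.symm
    have := hK.2.2 _ h1 h2 h3
    rw [← h4, this]

theorem exists_isMinNormal_le {X : Type*} [Group X] [Finite X] (M : Subgroup X) (hM : M.Normal)
    (hM1 : M ≠ ⊥) : ∃ K : Subgroup X, IsMinNormal K ∧ K ≤ M := by
  let S : Set (Subgroup X) := {K | K.Normal ∧ K ≤ M ∧ K ≠ ⊥}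
  haveI : Nonempty S := ⟨⟨M, hM, le_rfl, hM1⟩⟩
  obtain ⟨K, hK⟩ := Finite.exists_min (fun A : S => Nat.card ↥A.1)
  refine ⟨K.1, ⟨K.2.1, K.2.2.2, ?_⟩, K.2.2.1⟩
  intro K' hK'n hle hne
  have h1 := hK ⟨K', hK'n, hle.trans K.2.2.1, hne⟩
  exact Subgroup.eq_of_le_of_card_ge hle h1

/-- Isaacs FGT 2.6: a minimal normal subgroup normalizes every subnormal subgroup. -/
theorem minNormal_le_normalizer_aux (n : ℕ) : ∀ (G : Type u) [Group G] [Finite G],
    Nat.card G = n → ∀ (H M : Subgroup G), H.IsSubnormal → IsMinNormal M →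
      M ≤ Subgroup.normalizer (H : Set G) := by
  induction n using Nat.strong_induction_on with
  | _ n ih =>
  intro G _ _ hcard H M hH hM
  obtain ⟨hMn, hM1, hMmin⟩ := hM
  by_cases hHtop : H = ⊤
  · subst hHtop
    intro x _
    rw [Subgroup.mem_normalizer_iff]
    intro y; simp
  obtain ⟨N, hNn, hHN, hNtop⟩ := hH.exists_normal_and_le_and_lt_top_of_ne hHtop
  by_cases hMN : M ⊓ N = ⊥
  · -- `M` centralizes `N`
    intro m hm
    rw [Subgroup.mem_normalizer_iff]
    have hcomm : ∀ y ∈ H, m * y = y * m := by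
      intro y hy
      have := Subgroup.commute_of_normal_of_disjoint M N hMn hNn (disjoint_iff.mpr hMN) m y hm
        (hHN hy)
      exact this
    intro y
    constructor
    · intro hy
      have : m * y * m⁻¹ = y := by rw [hcomm y hy]; group
      rw [this]; exact hy
    · intro hy
      have h1 := hcomm _ hy
      have h2 : y = m⁻¹ * ((m * y * m⁻¹) * m) := by group
      rw [← h1] at h2
      have h3 : m⁻¹ * (m * (m * y * m⁻¹)) = m * y * m⁻¹ := by group
      rw [h3] at h2
      rw [h2]; exact hy
  · have hMleN : M ≤ N := by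
      haveI := hMn
      haveI := hNn
      have := hMmin (M ⊓ N) inferInstance inf_le_left hMN
      rw [← this]; exact inf_le_right
    -- the socle of `N`
    let S : Subgroup ↥N := sSup {K : Subgroup ↥N | IsMinNormal K}
    have hcardN : Nat.card ↥N < n := by
      rw [← hcard]
      by_contra hge
      push Not at hge
      have : N = ⊤ := Subgroup.eq_top_of_card_eq N
        (le_antisymm (Subgroup.card_le_card_group N) hge)
      exact hNtop.ne this
    have hS1 : S ≤ Subgroup.normalizer ((H.subgroupOf N : Subgroup ↥N) : Set ↥N) := by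
      apply sSup_le
      intro K hK
      exact ih _ hcardN ↥N rfl (H.subgroupOf N) K hH.subgroupOf hK
    have hJ1 : S.map N.subtype ≤ Subgroup.normalizer (H : Set G) := by
      have h1 := Subgroup.map_mono (f := N.subtype) hS1
      have h2 := Subgroup.le_normalizer_map (H := H.subgroupOf N) N.subtype
      rw [Subgroup.map_subgroupOf_eq_of_le hHN] at h2
      exact h1.trans h2
    have hSconj : ∀ g : G, S.map (MulAut.conjNormal g : ↥N ≃* ↥N).toMonoidHom ≤ S := by
      intro g
      rw [Subgroup.map_le_iff_le_comap]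
      apply sSup_le
      intro K hK
      rw [← Subgroup.map_le_iff_le_comap]
      exact le_sSup (hK.map _)
    have hJn : (S.map N.subtype).Normal := by
      constructor
      rintro _ ⟨s, hs, rfl⟩ g
      refine ⟨MulAut.conjNormal g s, hSconj g ⟨s, hs, rfl⟩, ?_⟩
      simp [MulAut.conjNormal_apply]
    have hMsub : (M.subgroupOf N) ≠ ⊥ := by
      intro h
      rw [Subgroup.subgroupOf_eq_bot] at h
      rw [disjoint_iff] at h
      exact hMN h
    obtain ⟨K, hK, hKM⟩ := exists_isMinNormal_le (M.subgroupOf N) (hMn.subgroupOf N) hMsub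
    have hKS : K ≤ S := le_sSup hK
    have hne : M ⊓ S.map N.subtype ≠ ⊥ := by
      intro h
      apply hK.2.1
      rw [eq_bot_iff]
      intro k hk
      have h1 : (k : G) ∈ M ⊓ S.map N.subtype :=
        Subgroup.mem_inf.mpr ⟨hKM hk, ⟨k, hKS hk, rfl⟩⟩
      rw [h] at h1
      rw [Subgroup.mem_bot] at h1 ⊢
      exact Subtype.ext h1
    haveI := hMn
    haveI := hJn
    have := hMmin (M ⊓ S.map N.subtype) inferInstance inf_le_left hne
    have hMJ : M ≤ S.map N.subtype := by rw [← this]; exact inf_le_right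
    exact hMJ.trans hJ1

theorem minNormal_le_normalizer {G : Type u} [Group G] [Finite G] {H M : Subgroup G}
    (hH : H.IsSubnormal) (hM : IsMinNormal M) : M ≤ Subgroup.normalizer (H : Set G) :=
  minNormal_le_normalizer_aux _ G rfl H M hH hM

/-- Wielandt's join theorem. -/
theorem sup_isSubnormal_aux (n : ℕ) : ∀ (G : Type u) [Group G] [Finite G],
    Nat.card G = n → ∀ (H K : Subgroup G), H.IsSubnormal → K.IsSubnormal →
      (H ⊔ K).IsSubnormal := by
  induction n using Nat.strong_induction_on with
  | _ n ih =>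
  intro G _ _ hcard H K hH hK
  by_cases htriv : (⊤ : Subgroup G) = ⊥
  · have : H ⊔ K = ⊥ := by rw [eq_bot_iff, ← htriv]; exact le_top
    rw [this]; exact Subgroup.IsSubnormal.bot
  obtain ⟨M, hM, -⟩ := exists_isMinNormal_le (⊤ : Subgroup G) inferInstance htriv
  haveI := hM.1
  have hcardQ : Nat.card (G ⧸ M) < n := by
    rw [← hcard]
    have h1 : Nat.card G = Nat.card (G ⧸ M) * Nat.card ↥M := Subgroup.card_eq_card_quotient_mul_card_subgroup M
    have h2 : 1 < Nat.card ↥M := by
      rw [Subgroup.one_lt_card_iff_ne_bot]; exact hM.2.1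
    have h3 : 0 < Nat.card (G ⧸ M) := Nat.card_pos
    nlinarith
  have h1 : ((H ⊔ K).map (QuotientGroup.mk' M)).IsSubnormal := by
    rw [Subgroup.map_sup]
    exact ih _ hcardQ (G ⧸ M) rfl _ _ (hH.map (QuotientGroup.mk'_surjective M))
      (hK.map (QuotientGroup.mk'_surjective M))
  have h2 := h1.comap (QuotientGroup.mk' M)
  rw [Subgroup.comap_map_eq, QuotientGroup.ker_mk'] at h2
  apply Subgroup.IsSubnormal.step (H ⊔ K) (H ⊔ K ⊔ M) le_sup_left h2
  apply Subgroup.normal_subgroupOf_of_le_normalizer
  apply sup_le Subgroup.le_normalizer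
  exact (le_inf (minNormal_le_normalizer hH hM) (minNormal_le_normalizer hK hM)).trans
    (normalizer_inf_le_normalizer_sup H K)

theorem sup_isSubnormal {G : Type u} [Group G] [Finite G] {H K : Subgroup G}
    (hH : H.IsSubnormal) (hK : K.IsSubnormal) : (H ⊔ K).IsSubnormal :=
  sup_isSubnormal_aux _ G rfl H K hH hK

theorem sSup_isSubnormal {G : Type u} [Group G] [Finite G] (S : Set (Subgroup G))
    (h : ∀ U ∈ S, U.IsSubnormal) : (sSup S).IsSubnormal := by
  have hfin : S.Finite := S.toFinite
  induction S, hfin using Set.Finite.induction_on with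
  | empty => rw [sSup_empty]; exact Subgroup.IsSubnormal.bot
  | insert _ _ ih =>
    rw [sSup_insert]
    exact sup_isSubnormal (h _ (Set.mem_insert _ _))
      (ih (fun U hU => h U (Set.mem_insert_of_mem _ hU)))

end Cfsg.Agent.Lib.Lead.Subnormal
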