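import Mathlib
import Cfsg.Prelude.Def_CaseTheorems

/-!
Transport of `Cfsg.IsQuasisimple` along group isomorphisms; author: lead.
-/

set_option autoImplicit false

namespace Cfsg.Agent.Lib.Lead.Quasisimple

/-- An isomorphism maps the centre onto the centre. -/
theorem map_center {H H' : Type*} [Group H] [Group H'] (e : H ≃* H') :
    (Subgroup.center H).map e.toMonoidHom = Subgroup.center H' := by
  ext x
  constructor
  · rintro ⟨z, hz, rfl⟩
    have hz : z ∈ Subgroup.center H := hz
    rw [Subgroup.mem_center_iff] at hz ⊢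
    intro g
    obtain ⟨g', rfl⟩ := e.surjective g
    show e g' * e z = e z * e g'
    rw [← map_mul, ← map_mul, hz g']
  · intro hx
    refine ⟨e.symm x, ?_, by simp⟩
    show e.symm x ∈ Subgroup.center H
    rw [Subgroup.mem_center_iff] at hx ⊢
    intro g
    apply e.injective
    rw [map_mul, map_mul, e.apply_symm_apply]
    exact hx (e g)

/-- The quotients by the centres of isomorphic groups are isomorphic. -/
noncomputable def quotientCenterCongr {H H' : Type*} [Group H] [Group H'] (e : H ≃* H') :
    H ⧸ Subgroup.center H ≃* H' ⧸ Subgroup.center H' :=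
  QuotientGroup.congr (Subgroup.center H) (Subgroup.center H') e (map_center e)

/-- Quasisimplicity is invariant under isomorphism. -/
theorem of_mulEquiv {H H' : Type*} [Group H] [Group H'] (e : H ≃* H') (h : Cfsg.IsQuasisimple H) :
    Cfsg.IsQuasisimple H' := by
  obtain ⟨hp, hs⟩ := h
  refine ⟨?_, ?_⟩
  · exact Group.IsPerfect.ofSurjective (f := e.toMonoidHom) e.surjective
  · exact (quotientCenterCongr e).symm.isSimpleGroup

/-- A quasisimple group is nontrivial. -/
theorem nontrivial {H : Type*} [Group H] (h : Cfsg.IsQuasisimple H) : Nontrivial H := by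
  obtain ⟨-, hs⟩ := h
  have : Nontrivial (H ⧸ Subgroup.center H) := hs.toNontrivial
  obtain ⟨x, y, hxy⟩ := this
  obtain ⟨x', rfl⟩ := QuotientGroup.mk_surjective x
  obtain ⟨y', rfl⟩ := QuotientGroup.mk_surjective y
  exact ⟨⟨x', y', fun h => hxy (by rw [h])⟩⟩

end Cfsg.Agent.Lib.Lead.Quasisimple
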