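import Mathlib

/-!
# TI Sylow subgroups

* `mem_conj_smul`  : `x ∈ MulAut.conj g • H ↔ g⁻¹ * x * g ∈ H`;
* `mem_sylow_smul` : `x ∈ g • P ↔ g⁻¹ * x * g ∈ P`;
* `ti_all`         : if `P ∩ gPg⁻¹ = 1` for all `g ∉ N(P)` then any two distinct Sylow
  `p`-subgroups meet trivially;
* `ti_of_all`      : the converse.
-/

set_option autoImplicit false

namespace Cfsg.Agent.Lib.Lead.TISylow

open scoped Pointwise

theorem mem_conj_smul {G : Type*} [Group G] (H : Subgroup G) (g x : G) :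
    x ∈ MulAut.conj g • H ↔ g⁻¹ * x * g ∈ H := by
  rw [Subgroup.mem_pointwise_smul_iff_inv_smul_mem]
  have h2 : (MulAut.conj g)⁻¹ • x = g⁻¹ * x * g := by
    simp [MulAut.smul_def]
  rw [h2]

theorem mem_sylow_smul {G : Type*} [Group G] {p : ℕ} (P : Sylow p G) (g x : G) :
    x ∈ ((g • P : Sylow p G) : Subgroup G) ↔ g⁻¹ * x * g ∈ (P : Subgroup G) := by
  rw [Sylow.coe_subgroup_smul, mem_conj_smul]

theorem ti_all {G : Type*} [Group G] [Finite G] {p : ℕ} [Fact p.Prime] (P : Sylow p G)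
    (hTI : ∀ g : G, g ∉ Subgroup.normalizer ((P : Subgroup G) : Set G) →
      (P : Subgroup G) ⊓ (MulAut.conj g • (P : Subgroup G)) = ⊥) :
    ∀ R R' : Sylow p G, R ≠ R' → (R : Subgroup G) ⊓ (R' : Subgroup G) = ⊥ := by
  intro R R' hne
  obtain ⟨a, ha⟩ := MulAction.exists_smul_eq G P R
  obtain ⟨b, hb⟩ := MulAction.exists_smul_eq G P R'
  have hab : a⁻¹ * b ∉ Subgroup.normalizer ((P : Subgroup G) : Set G) := by
    intro h
    have h1 : (a⁻¹ * b) • P = P := Sylow.smul_eq_iff_mem_normalizer.2 h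
    apply hne
    rw [← ha, ← hb]
    rw [mul_smul] at h1
    have h2 : a • (a⁻¹ • b • P) = a • P := by rw [h1]
    rw [smul_inv_smul] at h2
    exact h2.symm
  have h0 := hTI _ hab
  rw [eq_bot_iff]
  intro x hx
  have hx1 : a⁻¹ * x * a ∈ (P : Subgroup G) := by
    have h5 : x ∈ (R : Subgroup G) := hx.1
    rw [← ha, mem_sylow_smul] at h5
    exact h5
  have hx2 : a⁻¹ * x * a ∈ MulAut.conj (a⁻¹ * b) • (P : Subgroup G) := by
    have h5 : x ∈ (R' : Subgroup G) := hx.2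
    rw [← hb, mem_sylow_smul] at h5
    rw [mem_conj_smul]
    have e : (a⁻¹ * b)⁻¹ * (a⁻¹ * x * a) * (a⁻¹ * b) = b⁻¹ * x * b := by group
    rw [e]; exact h5
  have h3 : a⁻¹ * x * a ∈ (⊥ : Subgroup G) := by
    rw [← h0]; exact ⟨hx1, hx2⟩
  rw [Subgroup.mem_bot] at h3 ⊢
  have e : x = a * (a⁻¹ * x * a) * a⁻¹ := by group
  rw [e, h3]; group

theorem ti_of_all {G : Type*} [Group G] [Finite G] {p : ℕ} [Fact p.Prime] (P : Sylow p G)
    (h : ∀ R : Sylow p G, R ≠ P → (P : Subgroup G) ⊓ (R : Subgroup G) = ⊥) :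
    ∀ g : G, g ∉ Subgroup.normalizer ((P : Subgroup G) : Set G) →
      (P : Subgroup G) ⊓ (MulAut.conj g • (P : Subgroup G)) = ⊥ := by
  intro g hg
  have hne : g • P ≠ P := fun h1 => hg (Sylow.smul_eq_iff_mem_normalizer.1 h1)
  have := h _ hne
  rwa [Sylow.coe_subgroup_smul] at this

end Cfsg.Agent.Lib.Lead.TISylow
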