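import Mathlib
import Cfsg.Prelude.Def_Local
import Cfsg.Agent.H1.Cores
import Cfsg.Agent.H2.PPrimeCore
import Cfsg.Agent.Lib.Lead.PComplement
import Cfsg.Agent.Lib.Helper7.CharP
import Cfsg.Agent.Lib.Lead.TISylow
import Cfsg.Agent.S3800

/-!
# `p`-solvable groups

* `PP p n` : `n` is a power of `p` or prime to `p`;
* `IsPSolvable.of_surjective`, `IsPSolvable.quotient`, `IsPSolvable.subgroup`, `IsPSolvable.of_mulEquiv`;
* `IsPSolvable.exists_normal` : a nontrivial `p`-solvable group has a nontrivial normal subgroup which is a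
  `p`-group or a `p'`-group;
* `centralizer_pCore_le` : Hall–Higman 1.2.3: `p`-solvable and `O_{p'}(G) = 1` imply `C_G(O_p(G)) ≤ O_p(G)`;
* `centralizer_pCore_le'` : the same if only `C_G(O_p(G))` is assumed `p`-solvable;
* `pCore_ne_bot` : `p`-solvable, nontrivial and `O_{p'}(G) = 1` imply `O_p(G) ≠ 1`.
-/

set_option autoImplicit false
set_option linter.style.haveILetI false
set_option linter.unusedSectionVars false

namespace Cfsg.Agent.Lib.Lead.PSolvable

open Cfsg

variable {G : Type*} [Group G] {p : ℕ}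

/-- a power of `p` or prime to `p` -/
def PP (p n : ℕ) : Prop := (∃ m : ℕ, n = p ^ m) ∨ n.Coprime p

theorem PP.of_dvd (hp : p.Prime) {d n : ℕ} (hd : d ∣ n) (h : PP p n) : PP p d := by
  rcases h with ⟨m, rfl⟩ | h
  · obtain ⟨j, -, rfl⟩ := (Nat.dvd_prime_pow hp).1 hd
    exact Or.inl ⟨j, rfl⟩
  · exact Or.inr (Nat.Coprime.coprime_dvd_left hd h)

/-- `H ⊴ G`, `H ≤ K`, `D ≤ K`: `|D : H ∩ D|` divides `|K : H|`. -/
theorem relIndex_dvd_relIndex_of_le {H K D : Subgroup G} [hH : H.Normal] (hHK : H ≤ K) (hDK : D ≤ K) :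
    H.relIndex D ∣ H.relIndex K := by
  have h1 : H.relIndex (D ⊔ H) = H.relIndex D := Subgroup.relIndex_sup_right D H
  have h2 := Subgroup.relIndex_mul_relIndex H (D ⊔ H) K le_sup_right (sup_le hDK hHK)
  rw [← h1, ← h2]
  exact dvd_mul_right _ _

/-- images: `|f K : f H|` divides `|K : H|`. -/
theorem relIndex_map_dvd {G' : Type*} [Group G'] (f : G →* G') {H K : Subgroup G} [hH : H.Normal]
    (hHK : H ≤ K) : (H.map f).relIndex (K.map f) ∣ H.relIndex K := by
  rw [Subgroup.relIndex_map_map]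
  haveI : (H ⊔ f.ker).Normal := Subgroup.sup_normal H f.ker
  have e : K ⊔ f.ker = K ⊔ (H ⊔ f.ker) := by
    rw [← sup_assoc, sup_eq_left.2 hHK]
  rw [e, Subgroup.relIndex_sup_right]
  exact Subgroup.relIndex_dvd_of_le_left K le_sup_left

/-- subgroups: `|K ∩ L : H ∩ L|` divides `|K : H|`. -/
theorem relIndex_subgroupOf_dvd (L : Subgroup G) {H K : Subgroup G} [hH : H.Normal] (hHK : H ≤ K) :
    (H.subgroupOf L).relIndex (K.subgroupOf L) ∣ H.relIndex K := by
  have e : K.subgroupOf L = (K ⊓ L).subgroupOf L := (Subgroup.inf_subgroupOf_right K L).symm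
  rw [e, Subgroup.relIndex_subgroupOf inf_le_right]
  have h1 : H.relIndex (K ⊓ L) = (H ⊓ (K ⊓ L)).relIndex (K ⊓ L) := (Subgroup.inf_relIndex_right _ _).symm
  have h2 : H ⊓ (K ⊓ L) ≤ H := inf_le_left
  have h3 := relIndex_dvd_relIndex_of_le (H := H) (K := K) (D := K ⊓ L) hHK inf_le_left
  exact h3

theorem IsPSolvable.of_surjective [hp : Fact p.Prime] {G' : Type*} [Group G'] (f : G →* G')
    (hf : Function.Surjective f) (h : IsPSolvable p G) : IsPSolvable p G' := by
  obtain ⟨n, H, h0, hlast, hmono, hnorm, hfac⟩ := h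
  refine ⟨n, fun i => (H i).map f, ?_, ?_, ?_, ?_, ?_⟩
  · show (H 0).map f = ⊥
    rw [h0, Subgroup.map_bot]
  · show (H (Fin.last n)).map f = ⊤
    rw [hlast, Subgroup.map_top_of_surjective f hf]
  · intro i j hij
    exact Subgroup.map_mono (hmono hij)
  · intro i
    exact (hnorm i).map f hf
  · intro i
    haveI := hnorm i.castSucc
    have hd : ((H i.castSucc).map f).relIndex ((H i.succ).map f) ∣ (H i.castSucc).relIndex (H i.succ) :=
      relIndex_map_dvd f (hmono (Fin.castSucc_lt_succ (i := i)).le)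
    exact PP.of_dvd hp.out hd (hfac i)

theorem IsPSolvable.quotient [hp : Fact p.Prime] (N : Subgroup G) [N.Normal] (h : IsPSolvable p G) :
    IsPSolvable p (G ⧸ N) :=
  IsPSolvable.of_surjective (QuotientGroup.mk' N) (QuotientGroup.mk'_surjective N) h

theorem IsPSolvable.of_mulEquiv [hp : Fact p.Prime] {G' : Type*} [Group G'] (e : G ≃* G')
    (h : IsPSolvable p G) : IsPSolvable p G' :=
  IsPSolvable.of_surjective e.toMonoidHom e.surjective h

theorem IsPSolvable.subgroup [hp : Fact p.Prime] (L : Subgroup G) (h : IsPSolvable p G) :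
    IsPSolvable p ↥L := by
  obtain ⟨n, H, h0, hlast, hmono, hnorm, hfac⟩ := h
  refine ⟨n, fun i => (H i).subgroupOf L, ?_, ?_, ?_, ?_, ?_⟩
  · show (H 0).subgroupOf L = ⊥
    rw [h0, Subgroup.bot_subgroupOf]
  · show (H (Fin.last n)).subgroupOf L = ⊤
    rw [hlast, Subgroup.top_subgroupOf]
  · intro i j hij
    exact Subgroup.comap_mono (hmono hij)
  · intro i
    exact (hnorm i).subgroupOf L
  · intro i
    haveI := hnorm i.castSucc
    have hd : ((H i.castSucc).subgroupOf L).relIndex ((H i.succ).subgroupOf L) ∣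
        (H i.castSucc).relIndex (H i.succ) :=
      relIndex_subgroupOf_dvd L (hmono (Fin.castSucc_lt_succ (i := i)).le)
    exact PP.of_dvd hp.out hd (hfac i)

/-- the image of a `p`-solvable subgroup is `p`-solvable -/
theorem IsPSolvable.map [hp : Fact p.Prime] {G' : Type*} [Group G'] (f : G →* G') (L : Subgroup G)
    (h : IsPSolvable p ↥L) : IsPSolvable p ↥(L.map f) :=
  IsPSolvable.of_surjective (f.subgroupMap L) (f.subgroupMap_surjective L) h

theorem IsPSolvable.exists_normal [hp : Fact p.Prime] [Nontrivial G] (h : IsPSolvable p G) :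
    ∃ M : Subgroup G, M.Normal ∧ M ≠ ⊥ ∧ (IsPGroup p ↥M ∨ (Nat.card ↥M).Coprime p) := by
  obtain ⟨n, H, h0, hlast, hmono, hnorm, hfac⟩ := h
  have key : ∀ i : Fin (n + 1),
      (∃ M : Subgroup G, M.Normal ∧ M ≠ ⊥ ∧ (IsPGroup p ↥M ∨ (Nat.card ↥M).Coprime p)) ∨ H i = ⊥ := by
    intro i
    induction i using Fin.induction with
    | zero => exact Or.inr h0
    | succ i ih =>
      rcases ih with ih | ih
      · exact Or.inl ih
      · by_cases hb : H i.succ = ⊥
        · exact Or.inr hb
        · left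
          refine ⟨H i.succ, hnorm _, hb, ?_⟩
          have := hfac i
          rw [ih, Subgroup.relIndex_bot_left] at this
          rcases this with ⟨m, hm⟩ | hc
          · exact Or.inl (IsPGroup.of_card hm)
          · exact Or.inr hc
  rcases key (Fin.last n) with h | h
  · exact h
  · rw [hlast] at h
    exact absurd h top_ne_bot

/-- a normal subgroup with a central Sylow `p`-subgroup `D₀` in a group with `O_{p'}(G) = 1` equals `D₀` -/
theorem eq_of_central_sylow [Finite G] [hp : Fact p.Prime] (hbot : pPrimeCore p G = ⊥)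
    {D D₀ : Subgroup G} [hD : D.Normal] (hle : D₀ ≤ D) (hD₀ : IsPGroup p ↥D₀)
    (hidx : (D₀.relIndex D).Coprime p) (hcen : ∀ x ∈ D₀, ∀ d ∈ D, d * x = x * d) : D ≤ D₀ := by
  have hT : IsPGroup p ↥(D₀.subgroupOf D) := hD₀.comap_subtype
  have hidx' : ¬ p ∣ (D₀.subgroupOf D).index := by
    intro h
    have h1 : p ∣ D₀.relIndex D := h
    have := Nat.Coprime.eq_one_of_dvd hidx.symm h1
    exact hp.out.one_lt.ne' this
  set T : Sylow p ↥D := hT.toSylow hidx' with hTdef
  have hTcoe : (T : Subgroup ↥D) = D₀.subgroupOf D := rfl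
  have hTc : (T : Subgroup ↥D) ≤ Subgroup.center ↥D := by
    intro x hx
    rw [hTcoe, Subgroup.mem_subgroupOf] at hx
    rw [Subgroup.mem_center_iff]
    intro d
    apply Subtype.ext
    rw [Subgroup.coe_mul, Subgroup.coe_mul]
    exact hcen x.1 hx d.1 d.2
  have hcard := Cfsg.Agent.Lib.Lead.PComplement.card_eq_card_pPrimeCore_mul_of_central_sylow T hTc
  have hO : pPrimeCore p ↥D = ⊥ := by
    have := Cfsg.Agent.H2.pPrimeCore_map_subtype_le_of_isSubnormal p hD.isSubnormal
    rw [hbot, le_bot_iff] at this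
    exact (Subgroup.map_eq_bot_iff_of_injective _ D.subtype_injective).1 this
  rw [hO, Subgroup.card_bot, one_mul] at hcard
  have hTtop : (T : Subgroup ↥D) = ⊤ := (Subgroup.card_eq_iff_eq_top _).1 hcard.symm
  intro x hx
  have : (⟨x, hx⟩ : ↥D) ∈ (T : Subgroup ↥D) := hTtop ▸ Subgroup.mem_top _
  rw [hTcoe, Subgroup.mem_subgroupOf] at this
  exact this

/-- **Hall–Higman Lemma 1.2.3**: in a `p`-solvable group with `O_{p'}(G) = 1`, `C_G(O_p(G)) ≤ O_p(G)`. -/
theorem centralizer_pCore_le [Finite G] [hp : Fact p.Prime] (hsol : IsPSolvable p G)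
    (hbot : pPrimeCore p G = ⊥) :
    Subgroup.centralizer ((pCore p G : Subgroup G) : Set G) ≤ pCore p G := by
  obtain ⟨n, H, h0, hlast, hmono, hnorm, hfac⟩ := hsol
  haveI hPn : (pCore p G).Normal := Cfsg.Agent.H1.pCore_normal p
  haveI hCn : (Subgroup.centralizer ((pCore p G : Subgroup G) : Set G)).Normal := Subgroup.normal_centralizer
  have hPp : IsPGroup p ↥(pCore p G) := Cfsg.Agent.H1.pCore_isPGroup p
  have key : ∀ i : Fin (n + 1),
      Subgroup.centralizer ((pCore p G : Subgroup G) : Set G) ⊓ H i ≤ pCore p G := by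
    intro i
    induction i using Fin.induction with
    | zero => rw [h0, inf_bot_eq]; exact bot_le
    | succ i ih =>
      haveI := hnorm i.succ
      haveI := hnorm i.castSucc
      have hHle : H i.castSucc ≤ H i.succ := hmono (Fin.castSucc_lt_succ (i := i)).le
      set C := Subgroup.centralizer ((pCore p G : Subgroup G) : Set G) with hC
      haveI hDn : (C ⊓ H i.succ).Normal := Subgroup.normal_inf_normal C (H i.succ)
      have hD₀D : C ⊓ H i.castSucc ≤ C ⊓ H i.succ := inf_le_inf_left C hHle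
      have hD₀eq : C ⊓ H i.castSucc = H i.castSucc ⊓ (C ⊓ H i.succ) := by
        apply le_antisymm
        · exact le_inf inf_le_right hD₀D
        · exact le_inf (inf_le_right.trans inf_le_left) inf_le_left
      have hrel : (C ⊓ H i.castSucc).relIndex (C ⊓ H i.succ) ∣ (H i.castSucc).relIndex (H i.succ) := by
        rw [hD₀eq, Subgroup.inf_relIndex_right]
        exact relIndex_dvd_relIndex_of_le hHle inf_le_right
      have hD₀p : IsPGroup p ↥(C ⊓ H i.castSucc) := hPp.to_le ih
      have hcardD : Nat.card ↥(C ⊓ H i.castSucc) * (C ⊓ H i.castSucc).relIndex (C ⊓ H i.succ) =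
          Nat.card ↥(C ⊓ H i.succ) := by
        have := Subgroup.relIndex_mul_relIndex ⊥ (C ⊓ H i.castSucc) (C ⊓ H i.succ) bot_le hD₀D
        rwa [Subgroup.relIndex_bot_left, Subgroup.relIndex_bot_left] at this
      rcases PP.of_dvd hp.out hrel (hfac i) with ⟨m, hm⟩ | hcop
      · obtain ⟨a, ha⟩ := IsPGroup.iff_card.1 hD₀p
        rw [ha, hm, ← pow_add] at hcardD
        exact Cfsg.Agent.H1.le_pCore hDn (IsPGroup.of_card hcardD.symm)
      · have := eq_of_central_sylow hbot hD₀D hD₀p hcop (fun x hx d hd => by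
          have hxP : x ∈ pCore p G := ih hx
          have hdC : d ∈ C := (Subgroup.mem_inf.1 hd).1
          exact (Subgroup.mem_centralizer_iff.1 hdC x hxP).symm)
        exact this.trans ih
  have := key (Fin.last n)
  rwa [hlast, inf_top_eq] at this

/-- a nontrivial `p`-solvable group with `O_{p'}(G) = 1` has `O_p(G) ≠ 1` -/
theorem pCore_ne_bot [Finite G] [hp : Fact p.Prime] [Nontrivial G] (hsol : IsPSolvable p G)
    (hbot : pPrimeCore p G = ⊥) : pCore p G ≠ ⊥ := by
  intro h
  have := centralizer_pCore_le hsol hbot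
  rw [h] at this
  have htop : Subgroup.centralizer (((⊥ : Subgroup G) : Subgroup G) : Set G) = ⊤ := by
    rw [Subgroup.coe_bot]
    exact Subgroup.centralizer_eq_top_iff_subset.2 (by simp)
  rw [htop, top_le_iff] at this
  exact bot_ne_top this

/-- Hall–Higman 1.2.3 assuming only that `C_G(O_p(G))` is `p`-solvable. -/
theorem centralizer_pCore_le' [Finite G] [hp : Fact p.Prime]
    (hsol : IsPSolvable p ↥(Subgroup.centralizer ((pCore p G : Subgroup G) : Set G)))
    (hbot : pPrimeCore p G = ⊥) :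
    Subgroup.centralizer ((pCore p G : Subgroup G) : Set G) ≤ pCore p G := by
  haveI hPn : (pCore p G).Normal := Cfsg.Agent.H1.pCore_normal p
  set C := Subgroup.centralizer ((pCore p G : Subgroup G) : Set G) with hC
  haveI hCn : C.Normal := Subgroup.normal_centralizer
  have hO : pPrimeCore p ↥C = ⊥ := by
    have := Cfsg.Agent.H2.pPrimeCore_map_subtype_le_of_isSubnormal p hCn.isSubnormal
    rw [hbot, le_bot_iff] at this
    exact (Subgroup.map_eq_bot_iff_of_injective _ C.subtype_injective).1 this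
  have hHH := centralizer_pCore_le hsol hO
  have hle : (pCore p ↥C).map C.subtype ≤ pCore p G :=
    Cfsg.Agent.Lib.Helper7.pCore_map_subtype_le_of_normal C
  -- `O_p(C)` is central in `C`
  have hcen : Subgroup.centralizer ((pCore p ↥C : Subgroup ↥C) : Set ↥C) = ⊤ := by
    rw [eq_top_iff]
    intro c _
    rw [Subgroup.mem_centralizer_iff]
    intro x hx
    apply Subtype.ext
    rw [Subgroup.coe_mul, Subgroup.coe_mul]
    have hxP : (x : G) ∈ pCore p G := hle (Subgroup.mem_map_of_mem C.subtype hx)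
    exact Subgroup.mem_centralizer_iff.1 c.2 x.1 hxP
  rw [hcen] at hHH
  intro x hx
  have : (⟨x, hx⟩ : ↥C) ∈ pCore p ↥C := hHH (Subgroup.mem_top _)
  exact hle (Subgroup.mem_map_of_mem C.subtype this)

/-! ### `O_{p',p}(G)` and `p`-constraint -/

theorem mem_pPrimePCore_iff (x : G) :
    x ∈ pPrimePCore p G ↔ QuotientGroup.mk' (pPrimeCore p G) x ∈ pCore p (G ⧸ pPrimeCore p G) := Iff.rfl

theorem pPrimeCore_le_pPrimePCore [Finite G] : pPrimeCore p G ≤ pPrimePCore p G := by
  intro x hx
  rw [mem_pPrimePCore_iff]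
  have : QuotientGroup.mk' (pPrimeCore p G) x = 1 := (QuotientGroup.eq_one_iff x).2 hx
  rw [this]
  exact one_mem _

instance pPrimePCore_normal [Finite G] : (pPrimePCore p G).Normal := by
  unfold pPrimePCore
  exact Subgroup.Normal.comap (Cfsg.Agent.H1.pCore_normal p) _

/-- `O_{p',p}(G) = P O_{p'}(G)` for a Sylow `p`-subgroup `P` of `O_{p',p}(G)`. -/
theorem sylow_sup_pPrimeCore [Finite G] [hp : Fact p.Prime] (P : Sylow p ↥(pPrimePCore p G)) :
    (P : Subgroup ↥(pPrimePCore p G)).map (pPrimePCore p G).subtype ⊔ pPrimeCore p G = pPrimePCore p G := by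
  have hp' := hp.out
  have hKc : (Nat.card ↥(pPrimeCore p G)).Coprime p := Cfsg.Agent.H1.pPrimeCore_coprime p
  apply Subgroup.eq_of_le_of_card_ge (sup_le (Subgroup.map_subtype_le _) pPrimeCore_le_pPrimePCore)
  have hMcard : Nat.card ↥(pPrimePCore p G) =
      Nat.card ↥(pCore p (G ⧸ pPrimeCore p G)) * Nat.card ↥(pPrimeCore p G) :=
    Cfsg.Agent.H2.card_comap_mk' (pPrimeCore p G) (pCore p (G ⧸ pPrimeCore p G))
  obtain ⟨a, ha⟩ := IsPGroup.iff_card.mp (Cfsg.Agent.H1.pCore_isPGroup (G := G ⧸ pPrimeCore p G) p)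
  have hKndvd : ¬ p ∣ Nat.card ↥(pPrimeCore p G) := (Nat.Prime.coprime_iff_not_dvd hp').1 hKc.symm
  have hfac : (Nat.card ↥(pPrimePCore p G)).factorization p = a := by
    rw [hMcard, ha, Nat.factorization_mul (pow_ne_zero a hp'.ne_zero) Nat.card_pos.ne',
      Finsupp.add_apply, hp'.factorization_pow, Finsupp.single_eq_same,
      Nat.factorization_eq_zero_of_not_dvd hKndvd, add_zero]
  have hPcard : Nat.card ↥((P : Subgroup ↥(pPrimePCore p G)).map (pPrimePCore p G).subtype) = p ^ a := by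
    rw [Subgroup.card_map_of_injective (Subgroup.subtype_injective _), P.card_eq_multiplicity, hfac]
  have h1 : p ^ a ∣ Nat.card ↥((P : Subgroup ↥(pPrimePCore p G)).map (pPrimePCore p G).subtype ⊔
      pPrimeCore p G) := by
    rw [← hPcard]
    exact Subgroup.card_dvd_of_le le_sup_left
  have h2 : Nat.card ↥(pPrimeCore p G) ∣
      Nat.card ↥((P : Subgroup ↥(pPrimePCore p G)).map (pPrimePCore p G).subtype ⊔ pPrimeCore p G) :=
    Subgroup.card_dvd_of_le le_sup_right
  have h3 := Nat.Coprime.mul_dvd_of_dvd_of_dvd (Nat.Coprime.pow_left a hKc.symm) h1 h2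
  rw [hMcard, ha]
  exact Nat.le_of_dvd Nat.card_pos h3

/-- the image in `G / O_{p'}(G)` of a Sylow `p`-subgroup of `O_{p',p}(G)` is `O_p(G / O_{p'}(G))` -/
theorem map_sylow_eq_pCore [Finite G] [hp : Fact p.Prime] (P : Sylow p ↥(pPrimePCore p G)) :
    ((P : Subgroup ↥(pPrimePCore p G)).map (pPrimePCore p G).subtype).map
      (QuotientGroup.mk' (pPrimeCore p G)) = pCore p (G ⧸ pPrimeCore p G) := by
  apply le_antisymm
  · rintro _ ⟨x, hx, rfl⟩
    exact (mem_pPrimePCore_iff x).1 (Subgroup.map_subtype_le _ hx)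
  · intro y hy
    obtain ⟨x, rfl⟩ := QuotientGroup.mk'_surjective (pPrimeCore p G) y
    have hxM : x ∈ pPrimePCore p G := (mem_pPrimePCore_iff x).2 hy
    rw [← sylow_sup_pPrimeCore P] at hxM
    haveI : (pPrimeCore p G).Normal := Cfsg.Agent.H1.pPrimeCore_normal p
    obtain ⟨a, ha, k, hk, rfl⟩ := Subgroup.mem_sup_of_normal_right.1 hxM
    refine ⟨a, ha, ?_⟩
    have hk1 : QuotientGroup.mk' (pPrimeCore p G) k = 1 := (QuotientGroup.eq_one_iff k).2 hk
    rw [map_mul, hk1, mul_one]

/-- it suffices to check `p`-constraint on one Sylow `p`-subgroup of `O_{p',p}(G)` -/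
theorem isPConstrained_of_sylow [Finite G] [hp : Fact p.Prime] (P : Sylow p ↥(pPrimePCore p G))
    (h : Subgroup.centralizer (((P : Subgroup ↥(pPrimePCore p G)).map (pPrimePCore p G).subtype :
      Subgroup G) : Set G) ≤ pPrimePCore p G) : IsPConstrained p G := by
  intro P'
  obtain ⟨m, hm⟩ := MulAction.exists_smul_eq ↥(pPrimePCore p G) P P'
  intro x hx
  have hx' : (m : G)⁻¹ * x * m ∈ Subgroup.centralizer
      (((P : Subgroup ↥(pPrimePCore p G)).map (pPrimePCore p G).subtype : Subgroup G) : Set G) := by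
    rw [Subgroup.mem_centralizer_iff]
    rintro _ ⟨y, hy, rfl⟩
    have hy' : m * y * m⁻¹ ∈ (P' : Subgroup ↥(pPrimePCore p G)) := by
      rw [← hm, Cfsg.Agent.Lib.Lead.TISylow.mem_sylow_smul]
      have e : m⁻¹ * (m * y * m⁻¹) * m = y := by group
      rw [e]; exact hy
    have hc := Subgroup.mem_centralizer_iff.1 hx _ (Subgroup.mem_map_of_mem (pPrimePCore p G).subtype hy')
    simp only [Subgroup.subtype_apply, Subgroup.coe_mul, Subgroup.coe_inv] at hc ⊢
    calc (y : G) * ((m : G)⁻¹ * x * m) = (m : G)⁻¹ * ((m : G) * y * (m : G)⁻¹ * x) * m := by group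
      _ = (m : G)⁻¹ * (x * ((m : G) * y * (m : G)⁻¹)) * m := by rw [hc]
      _ = (m : G)⁻¹ * x * m * y := by group
  have h1 := h hx'
  have e : x = (m : G) * ((m : G)⁻¹ * x * m) * (m : G)⁻¹ := by group
  rw [e]
  exact mul_mem (mul_mem m.2 h1) (inv_mem m.2)

/-- **`p`-constraint from a `p`-solvable centralizer** -/
theorem isPConstrained_of_isPSolvable_centralizer [Finite G] [hp : Fact p.Prime]
    (P : Sylow p ↥(pPrimePCore p G))
    (hsol : IsPSolvable p ↥(Subgroup.centralizer
      (((P : Subgroup ↥(pPrimePCore p G)).map (pPrimePCore p G).subtype : Subgroup G) : Set G))) :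
    IsPConstrained p G := by
  apply isPConstrained_of_sylow P
  haveI hKn : (pPrimeCore p G).Normal := Cfsg.Agent.H1.pPrimeCore_normal p
  have hKc : (Nat.card ↥(pPrimeCore p G)).Coprime p := Cfsg.Agent.H1.pPrimeCore_coprime p
  have hP₁ : IsPGroup p ↥((P : Subgroup ↥(pPrimePCore p G)).map (pPrimePCore p G).subtype) :=
    P.isPGroup'.map _
  have h3800 := (Cfsg.Agent.S3800.result (pPrimeCore p G) hKc _ hP₁).2
  rw [map_sylow_eq_pCore P] at h3800
  have hsol' := IsPSolvable.map (QuotientGroup.mk' (pPrimeCore p G)) _ hsol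
  rw [← h3800] at hsol'
  have hHH := centralizer_pCore_le' hsol' (Cfsg.Agent.H2.pPrimeCore_quotient_eq_bot p)
  intro x hx
  rw [mem_pPrimePCore_iff]
  apply hHH
  rw [h3800]
  exact Subgroup.mem_map_of_mem _ hx

/-- every `p`-solvable group is `p`-constrained -/
theorem IsPSolvable.isPConstrained [Finite G] [hp : Fact p.Prime] (hsol : IsPSolvable p G) :
    IsPConstrained p G := by
  obtain ⟨P⟩ : Nonempty (Sylow p ↥(pPrimePCore p G)) := inferInstance
  exact isPConstrained_of_isPSolvable_centralizer P (IsPSolvable.subgroup _ hsol)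

end Cfsg.Agent.Lib.Lead.PSolvable
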