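import Mathlib
import Cfsg.Prelude.Def_EvenType
import Cfsg.Agent.Lib.Lead.Conj

/-!
# Basic facts on strongly `p`-embedded subgroups (`Cfsg.IsStronglyPEmbedded`)

`M` strongly `p`-embedded in the finite group `G`: `p ∣ |G|`, `M ≠ ⊤`, and for some Sylow `p`-subgroup `P`,
`N_G(Q) ≤ M` for all `Q ≤ P` that contain an element of order `p`.

Main results (all for `[Finite G] [Fact p.Prime]`, `hM : IsStronglyPEmbedded p M`):
* `sylow_le`            : the Sylow subgroup `P` of the definition is inside `M`;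
* `normalizer_le`       : `N_G(Q) ≤ M` for every nontrivial `p`-subgroup `Q ≤ M`;
* `centralizer_le`      : `C_G(t) ≤ M` for `t ∈ M` of order `p`;
* `pgroup_le`           : every `p`-subgroup `R` of `G` containing an element of order `p` of `M` lies in `M`;
* `mem_of_conj_mem`     : if `t, h⁻¹ t h ∈ M` with `t` of order `p`, then `h ∈ M`.
Also: `exists_conj_mem_sylow` (Sylow's theorem inside a subgroup `M`, stated in `G`),
`not_pRankLE_zero_of_mem`, `ne_bot_of_not_pRankLE_zero`, `exists_orderOf_eq_of_ne_bot`.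
-/

set_option autoImplicit false

namespace Cfsg.Agent.Lib.Lead.StronglyEmbedded

open Cfsg Cfsg.Agent.Lib.Lead.Conj

variable {G : Type*} [Group G]

/-- A subgroup with an element of order `p` has `p`-rank not `≤ 0`. -/
theorem not_pRankLE_zero_of_mem {p : ℕ} [hp : Fact p.Prime] (Q : Subgroup G) {x : G} (hx : x ∈ Q)
    (hox : orderOf x = p) : ¬ PRankLE p 0 ↥Q := by
  intro h
  have hord : orderOf (⟨x, hx⟩ : ↥Q) = p := by rw [← hox]; exact Subgroup.orderOf_mk x hx
  have := h (Subgroup.zpowers (⟨x, hx⟩ : ↥Q)) inferInstance ?_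
  · rw [Nat.card_zpowers, pow_zero, hord] at this
    exact absurd this (by have := hp.out.two_le; omega)
  · rintro a ⟨k, rfl⟩
    rw [← zpow_natCast, ← zpow_mul, mul_comm, zpow_mul, zpow_natCast, ← hord, pow_orderOf_eq_one, one_zpow]

/-- The trivial subgroup has `p`-rank `≤ 0`. -/
theorem ne_bot_of_not_pRankLE_zero {p : ℕ} (Q : Subgroup G) (h : ¬ PRankLE p 0 ↥Q) : Q ≠ ⊥ := by
  rintro rfl
  apply h
  intro A _ _
  rw [pow_zero]
  have : Subsingleton ↥(⊥ : Subgroup G) := inferInstance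
  have : Subsingleton ↥A := inferInstance
  exact le_of_eq Nat.card_unique

/-- A nontrivial finite `p`-subgroup has an element of order `p`. -/
theorem exists_orderOf_eq_of_ne_bot [Finite G] {p : ℕ} [hp : Fact p.Prime] {Q : Subgroup G} (hQ : IsPGroup p ↥Q)
    (hne : Q ≠ ⊥) : ∃ x ∈ Q, orderOf x = p := by
  have hnt : Nontrivial ↥Q := (Subgroup.nontrivial_iff_ne_bot Q).mpr hne
  obtain ⟨n, hn⟩ := IsPGroup.iff_card.mp hQ
  have hn0 : n ≠ 0 := by
    rintro rfl
    rw [pow_zero] at hn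
    have := Finite.one_lt_card_iff_nontrivial.mpr hnt
    omega
  have hdvd : p ∣ Nat.card ↥Q := by rw [hn]; exact dvd_pow_self p hn0
  obtain ⟨x, hx⟩ := exists_prime_orderOf_dvd_card' p hdvd
  exact ⟨x, x.2, by rw [← hx]; exact (Subgroup.orderOf_coe x)⟩

/-- Sylow's theorem inside a subgroup `M`, stated in `G`: if the Sylow `p`-subgroup `P` of `G` lies in `M`,
every `p`-subgroup `Q ≤ M` is `M`-conjugate into `P`. -/
theorem exists_conj_mem_sylow [Finite G] {p : ℕ} [hp : Fact p.Prime] {M : Subgroup G} (P : Sylow p G)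
    (hPM : (P : Subgroup G) ≤ M) {Q : Subgroup G} (hQM : Q ≤ M) (hQ : IsPGroup p ↥Q) :
    ∃ m ∈ M, ∀ q ∈ Q, m⁻¹ * q * m ∈ (P : Subgroup G) := by
  have hQ' : IsPGroup p ↥(Q.subgroupOf M) := hQ.comap_subtype
  obtain ⟨R, hR⟩ := hQ'.exists_le_sylow
  obtain ⟨m, hm⟩ := MulAction.exists_smul_eq ↥M (P.subtype hPM) R
  refine ⟨m, m.2, fun q hq => ?_⟩
  have h1 : (⟨q, hQM hq⟩ : ↥M) ∈ (R : Subgroup ↥M) := hR (by simpa [Subgroup.mem_subgroupOf] using hq)
  rw [← hm, Sylow.coe_subgroup_smul, Subgroup.mem_pointwise_smul_iff_inv_smul_mem, Sylow.coe_subtype,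
    Subgroup.mem_subgroupOf] at h1
  simpa [MulAut.smul_def] using h1

section

variable [Finite G] {p : ℕ} [hp : Fact p.Prime] {M : Subgroup G}

theorem isPGroup_zpowers {t : G} (hot : orderOf t = p) : IsPGroup p ↥(Subgroup.zpowers t) := by
  rw [IsPGroup.iff_card]
  exact ⟨1, by rw [Nat.card_zpowers, hot, pow_one]⟩

omit [Finite G] in
theorem ne_one_of_orderOf {t : G} (hot : orderOf t = p) : t ≠ 1 := by
  rintro rfl
  rw [orderOf_one] at hot
  exact hp.out.one_lt.ne hot

/-- The Sylow subgroup in the definition of a strongly `p`-embedded subgroup lies in it. -/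
theorem sylow_le_of_core_le (hdvd : p ∣ Nat.card G) (P : Sylow p G)
    (hP : kGeneratedCore p 1 (P : Subgroup G) ≤ M) : (P : Subgroup G) ≤ M := by
  have hne : (P : Subgroup G) ≠ ⊥ := by
    intro h
    have h1 : Nat.card ↥(P : Subgroup G) = 1 := by rw [h]; exact Subgroup.card_bot
    have h2 := P.card_eq_multiplicity
    rw [h1] at h2
    have hpos : 0 < (Nat.card G).factorization p :=
      (hp.out.factorization_pos_of_dvd Nat.card_pos.ne' hdvd)
    have : 1 < p ^ (Nat.card G).factorization p := Nat.one_lt_pow hpos.ne' hp.out.one_lt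
    omega
  obtain ⟨x, hx, hox⟩ := exists_orderOf_eq_of_ne_bot P.isPGroup' hne
  refine le_trans Subgroup.le_normalizer (le_trans ?_ hP)
  exact le_iSup_of_le ⟨(P : Subgroup G), le_rfl, not_pRankLE_zero_of_mem _ hx hox⟩ le_rfl

/-- Key property: if `Γ_{P,1}(G) ≤ M` then `N_G(Q) ≤ M` for every nontrivial `p`-subgroup `Q` of `M`. -/
theorem normalizer_le_of_core_le (hdvd : p ∣ Nat.card G) (P : Sylow p G)
    (hP : kGeneratedCore p 1 (P : Subgroup G) ≤ M) {Q : Subgroup G} (hQM : Q ≤ M) (hQ : IsPGroup p ↥Q)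
    (hne : Q ≠ ⊥) : Subgroup.normalizer (Q : Set G) ≤ M := by
  have hPM := sylow_le_of_core_le hdvd P hP
  obtain ⟨m, hmM, hm⟩ := exists_conj_mem_sylow P hPM hQM hQ
  obtain ⟨x, hx, hox⟩ := exists_orderOf_eq_of_ne_bot hQ hne
  -- the conjugate `Q' = m⁻¹ Q m`
  set Q' : Subgroup G := Q.map (MulAut.conj m⁻¹).toMonoidHom with hQ'
  have hmem : ∀ y, y ∈ Q' ↔ m * y * m⁻¹ ∈ Q := by
    intro y
    rw [hQ', mem_map_conj, inv_inv]
  have hQ'P : Q' ≤ (P : Subgroup G) := by
    intro y hy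
    have := hm _ ((hmem y).mp hy)
    have e : m⁻¹ * (m * y * m⁻¹) * m = y := by group
    rwa [e] at this
  have hx' : m⁻¹ * x * m ∈ Q' := by
    rw [hmem]
    have e : m * (m⁻¹ * x * m) * m⁻¹ = x := by group
    rw [e]; exact hx
  have hox' : orderOf (m⁻¹ * x * m) = p := by rw [orderOf_conj', hox]
  have hN : Subgroup.normalizer (Q' : Set G) ≤ M :=
    le_trans (le_iSup_of_le ⟨Q', hQ'P, not_pRankLE_zero_of_mem _ hx' hox'⟩ le_rfl) hP
  intro n hn
  have hn' : m⁻¹ * n * m ∈ Subgroup.normalizer (Q' : Set G) := by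
    rw [Subgroup.mem_normalizer_iff]
    intro y
    rw [hmem, hmem]
    rw [Subgroup.mem_normalizer_iff] at hn
    rw [hn (m * y * m⁻¹)]
    have : m * (m⁻¹ * n * m * y * (m⁻¹ * n * m)⁻¹) * m⁻¹ = n * (m * y * m⁻¹) * n⁻¹ := by group
    rw [this]
  have := hN hn'
  have h2 : n = m * (m⁻¹ * n * m) * m⁻¹ := by group
  rw [h2]
  exact M.mul_mem (M.mul_mem hmM this) (M.inv_mem hmM)

theorem sylow_le (hM : IsStronglyPEmbedded p M) :
    ∃ P : Sylow p G, (P : Subgroup G) ≤ M ∧ kGeneratedCore p 1 (P : Subgroup G) ≤ M := by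
  obtain ⟨hdvd, _, P, hP⟩ := hM
  exact ⟨P, sylow_le_of_core_le hdvd P hP, hP⟩

/-- `N_G(Q) ≤ M` for every nontrivial `p`-subgroup `Q` of the strongly `p`-embedded subgroup `M`. -/
theorem normalizer_le (hM : IsStronglyPEmbedded p M) {Q : Subgroup G} (hQM : Q ≤ M) (hQ : IsPGroup p ↥Q)
    (hne : Q ≠ ⊥) : Subgroup.normalizer (Q : Set G) ≤ M := by
  obtain ⟨hdvd, _, P, hP⟩ := hM
  exact normalizer_le_of_core_le hdvd P hP hQM hQ hne

/-- `C_G(t) ≤ M` for every element `t` of order `p` of the strongly `p`-embedded subgroup `M`. -/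
theorem centralizer_le (hM : IsStronglyPEmbedded p M) {t : G} (htM : t ∈ M) (hot : orderOf t = p) :
    Subgroup.centralizer ({t} : Set G) ≤ M := by
  have hne : Subgroup.zpowers t ≠ ⊥ := by
    rw [Ne, Subgroup.zpowers_eq_bot]
    exact ne_one_of_orderOf hot
  refine le_trans ?_ (normalizer_le hM (Subgroup.zpowers_le.mpr htM) (isPGroup_zpowers hot) hne)
  rw [Subgroup.le_normalizer_iff]
  rintro g hg _ ⟨k, rfl⟩
  rw [Subgroup.mem_centralizer_singleton_iff] at hg
  have hc : Commute g t := hg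
  have : g * t ^ k * g⁻¹ = t ^ k := by
    rw [(hc.zpow_right k).eq, mul_inv_cancel_right]
  rw [this]
  exact ⟨k, rfl⟩

/-- A `p`-subgroup of `G` containing an element of order `p` of the strongly `p`-embedded subgroup `M` lies in `M`. -/
theorem pgroup_le (hM : IsStronglyPEmbedded p M) {R : Subgroup G} (hR : IsPGroup p ↥R) {t : G} (htR : t ∈ R)
    (htM : t ∈ M) (hot : orderOf t = p) : R ≤ M := by
  have hne : R ≠ ⊥ := by
    intro h
    rw [h, Subgroup.mem_bot] at htR
    exact ne_one_of_orderOf hot htR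
  have hnt : Nontrivial ↥R := (Subgroup.nontrivial_iff_ne_bot R).mpr hne
  -- an element of order `p` in the centre of `R`
  have hcne : Subgroup.center ↥R ≠ ⊥ := by
    have := hR.center_nontrivial
    exact (Subgroup.nontrivial_iff_ne_bot _).mp this
  have hcp : IsPGroup p ↥(Subgroup.center ↥R) := hR.to_subgroup _
  obtain ⟨z, hz, hoz⟩ := exists_orderOf_eq_of_ne_bot hcp hcne
  have hzt : (z : G) ∈ Subgroup.centralizer ({t} : Set G) := by
    rw [Subgroup.mem_centralizer_singleton_iff]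
    have := Subgroup.mem_center_iff.mp hz ⟨t, htR⟩
    exact (congrArg Subtype.val this).symm
  have hzM : (z : G) ∈ M := centralizer_le hM htM hot hzt
  have hozG : orderOf (z : G) = p := by rw [← hoz]; exact Subgroup.orderOf_coe z
  refine le_trans ?_ (centralizer_le hM hzM hozG)
  intro r hr
  rw [Subgroup.mem_centralizer_singleton_iff]
  have := Subgroup.mem_center_iff.mp hz ⟨r, hr⟩
  exact (congrArg Subtype.val this)

/-- Fusion of elements of order `p` of `M` is controlled by `M`, in the strong sense: if `t` and `h⁻¹ t h` both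
lie in `M`, with `t` of order `p`, then `h ∈ M`. -/
theorem mem_of_conj_mem (hM : IsStronglyPEmbedded p M) {t h : G} (htM : t ∈ M) (hot : orderOf t = p)
    (hth : h⁻¹ * t * h ∈ M) : h ∈ M := by
  obtain ⟨R, hR⟩ := (isPGroup_zpowers hot).exists_le_sylow
  have htR : t ∈ (R : Subgroup G) := hR (Subgroup.mem_zpowers t)
  have hRM : (R : Subgroup G) ≤ M := pgroup_le hM R.isPGroup' htR htM hot
  -- the conjugate `R' = h⁻¹ R h`
  have hR' : IsPGroup p ↥((R : Subgroup G).map (MulAut.conj h⁻¹).toMonoidHom) := R.isPGroup'.map _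
  have hot' : orderOf (h⁻¹ * t * h) = p := by rw [orderOf_conj', hot]
  have hthR' : h⁻¹ * t * h ∈ (R : Subgroup G).map (MulAut.conj h⁻¹).toMonoidHom := by
    have := conj_mem_map_conj (R : Subgroup G) h⁻¹ htR
    rwa [inv_inv] at this
  have hR'M : (R : Subgroup G).map (MulAut.conj h⁻¹).toMonoidHom ≤ M :=
    pgroup_le hM hR' hthR' hth hot'
  obtain ⟨m, hmM, hm⟩ := exists_conj_mem_sylow R hRM hR'M hR'
  -- `h * m` normalizes `R`
  have hne : (R : Subgroup G) ≠ ⊥ := by
    intro hb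
    rw [hb, Subgroup.mem_bot] at htR
    exact ne_one_of_orderOf hot htR
  have hnorm : h * m ∈ Subgroup.normalizer ((R : Subgroup G) : Set G) := by
    apply mem_normalizer_of_conj_mem'
    intro r hr
    have h1 : h⁻¹ * r * h ∈ (R : Subgroup G).map (MulAut.conj h⁻¹).toMonoidHom := by
      have := conj_mem_map_conj (R : Subgroup G) h⁻¹ hr
      rwa [inv_inv] at this
    have := hm _ h1
    have e : (h * m)⁻¹ * r * (h * m) = m⁻¹ * (h⁻¹ * r * h) * m := by group
    rw [e]; exact this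
  have h1 : h * m ∈ M := normalizer_le hM hRM R.isPGroup' hne hnorm
  have : h = h * m * m⁻¹ := by group
  rw [this]
  exact M.mul_mem h1 (M.inv_mem hmM)

end

end Cfsg.Agent.Lib.Lead.StronglyEmbedded
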