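import Mathlib
import Cfsg.Prelude.Def_Solvable
import Cfsg.Prelude.Def_Local
import Cfsg.Agent.H1.Cores
import Cfsg.Agent.H2.PPrimeCore
import Cfsg.Agent.S0044
import Cfsg.Agent.S3800
import Cfsg.Agent.Lib.Helper7.PQLemma

/-!
# Solvable groups are balanced

* `cent_pCore_le`   : solvable `H` with `O_{p'}(H) = 1` has `C_H(O_p(H)) ≤ O_p(H)`;
* `eq_one_of_coprime` : an element of a `p`-group and of a subgroup of order prime to `p` is `1`;
* `solvable_balance` : for `H` solvable and `x` of order `p`, `O_{p'}(C_H(x)) ≤ O_{p'}(H)`;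
* `balance_le`      : for commuting `x, y` of order `p` in `G` with `C_G(y)` solvable,
  `O_{p'}(C_G(x)) ∩ C_G(y) ≤ O_{p'}(C_G(y))`.
-/

set_option autoImplicit false

namespace Cfsg.Agent.Lib.Lead.SolvableBalance

open Cfsg

theorem cent_pCore_le {H : Type*} [Group H] [Finite H] [Group.IsSolvable H] (p : ℕ)
    [hp : Fact p.Prime] (h : pPrimeCore p H = ⊥) :
    Subgroup.centralizer (pCore p H : Set H) ≤ pCore p H := by
  have hF : fittingSubgroup H = pCore p H := by
    rw [Cfsg.Agent.H1.fittingSubgroup_eq_iSup_pCore]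
    apply le_antisymm
    · apply iSup_le
      intro q
      by_cases hq : (q : ℕ) = p
      · rw [hq]
      · have := Cfsg.Agent.H1.le_pPrimeCore (inferInstance : (pCore (q : ℕ) H).Normal)
          (Cfsg.Agent.H1.pCore_coprime_of_ne hp.out q.2 hq)
        rw [h] at this
        exact this.trans bot_le
    · exact le_iSup (fun q : Nat.Primes => pCore (q : ℕ) H) ⟨p, hp.out⟩
  have := Cfsg.Agent.S0044.result (G := H)
  rwa [hF] at this

theorem eq_one_of_coprime {H : Type*} [Group H] [Finite H] {p : ℕ} [hp : Fact p.Prime]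
    {U Q : Subgroup H} (hU : IsPGroup p ↥U) (hQ : (Nat.card ↥Q).Coprime p) {w : H} (hwU : w ∈ U)
    (hwQ : w ∈ Q) : w = 1 := by
  obtain ⟨k, hk⟩ := hU ⟨w, hwU⟩
  have hk' : w ^ p ^ k = 1 := by
    have := congrArg Subtype.val hk
    simpa using this
  have d1 : orderOf w ∣ p ^ k := orderOf_dvd_of_pow_eq_one hk'
  have d2 : orderOf w ∣ Nat.card ↥Q := by
    have := orderOf_dvd_natCard (⟨w, hwQ⟩ : ↥Q)
    rwa [Subgroup.orderOf_mk] at this
  exact orderOf_eq_one_iff.1 (Nat.Coprime.eq_one_of_dvd ((hQ.pow_right k).coprime_dvd_left d2) d1)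

/-- `O_{p'}(C_H(x)) ≤ O_{p'}(H)` for `H` solvable and `x` of order `p`. -/
theorem solvable_balance {H : Type*} [Group H] [Finite H] [Group.IsSolvable H] (p : ℕ)
    [hp : Fact p.Prime] (x : H) (hx : orderOf x = p) :
    centralizerPPrimeCore p x ≤ pPrimeCore p H := by
  classical
  set C : Subgroup H := Subgroup.centralizer ({x} : Set H) with hC
  set D : Subgroup H := centralizerPPrimeCore p x with hD
  set N : Subgroup H := pPrimeCore p H with hN
  set π : H →* H ⧸ N := QuotientGroup.mk' N with hπ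
  have hDC : D ≤ C := by
    rintro _ ⟨d, -, rfl⟩
    exact d.2
  have hDcard : (Nat.card ↥D).Coprime p := by
    have h1 : Nat.card ↥D = Nat.card ↥(pPrimeCore p ↥C) :=
      Nat.card_congr ((pPrimeCore p ↥C).equivMapOfInjective _ C.subtype_injective).symm.toEquiv
    rw [h1]
    exact Cfsg.Agent.H1.pPrimeCore_coprime p
  have hDnorm : ∀ u ∈ C, ∀ d ∈ D, u * d * u⁻¹ ∈ D := by
    rintro u hu _ ⟨d, hd, rfl⟩
    have hn : (pPrimeCore p ↥C).Normal := inferInstance
    exact ⟨⟨u, hu⟩ * d * (⟨u, hu⟩ : ↥C)⁻¹, hn.conj_mem d hd ⟨u, hu⟩, rfl⟩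
  have hDx : ∀ d ∈ D, d * x = x * d := fun d hd =>
    Subgroup.mem_centralizer_singleton_iff.1 (hDC hd)
  -- the quotient
  have hbot : pPrimeCore p (H ⧸ N) = ⊥ := Cfsg.Agent.H2.pPrimeCore_quotient_eq_bot p
  have hcent := cent_pCore_le (H := H ⧸ N) p hbot
  set Pbar : Subgroup (H ⧸ N) := pCore p (H ⧸ N) with hPbar
  have hPbarp : IsPGroup p ↥Pbar := Cfsg.Agent.H1.pCore_isPGroup p
  have hPbarn : Pbar.Normal := inferInstance
  set Q : Subgroup (H ⧸ N) := D.map π with hQ
  set Pg : Subgroup (H ⧸ N) := Subgroup.zpowers (π x) with hPg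
  have hQcard : (Nat.card ↥Q).Coprime p :=
    Nat.Coprime.coprime_dvd_left (Subgroup.card_map_dvd D π) hDcard
  have hPgp : IsPGroup p ↥Pg := by
    rw [IsPGroup.iff_card]
    have hxp : x ^ p = 1 := by rw [← hx]; exact pow_orderOf_eq_one x
    have h1 : (π x) ^ p = 1 := by rw [← map_pow, hxp, map_one]
    have : orderOf (π x) ∣ p := orderOf_dvd_of_pow_eq_one h1
    rcases (Nat.dvd_prime hp.out).1 this with h | h
    · exact ⟨0, by rw [Nat.card_zpowers, h, pow_zero]⟩
    · exact ⟨1, by rw [Nat.card_zpowers, h, pow_one]⟩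
  have hPQ : Pg ≤ Subgroup.centralizer (Q : Set (H ⧸ N)) := by
    rw [hPg, Subgroup.zpowers_le, Subgroup.mem_centralizer_iff]
    rintro _ ⟨d, hd, rfl⟩
    rw [← map_mul, ← map_mul, hDx d hd]
  have hnormtop : Subgroup.normalizer (Pbar : Set (H ⧸ N)) = ⊤ :=
    Subgroup.normalizer_eq_top_iff.2 hPbarn
  have hCle : Pbar ⊓ Subgroup.centralizer (Pg : Set (H ⧸ N)) ≤
      Subgroup.centralizer (Q : Set (H ⧸ N)) := by
    rintro ubar ⟨huP, huC⟩
    -- lift `ubar`
    have hlift := (Cfsg.Agent.S3800.result (p := p) N (Cfsg.Agent.H1.pPrimeCore_coprime p)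
      (Subgroup.zpowers x) (by
        rw [IsPGroup.iff_card]
        exact ⟨1, by rw [Nat.card_zpowers, hx, pow_one]⟩)).2
    have hmapz : (Subgroup.zpowers x).map π = Pg := by
      rw [hPg, MonoidHom.map_zpowers]
    have hu' : ubar ∈ Subgroup.centralizer (((Subgroup.zpowers x).map (QuotientGroup.mk' N) :
        Subgroup (H ⧸ N)) : Set (H ⧸ N)) := by
      rw [show QuotientGroup.mk' N = π from rfl, hmapz]; exact huC
    rw [hlift] at hu'
    obtain ⟨u, hu, rfl⟩ := hu'
    have huC' : u ∈ C := by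
      rw [hC, Subgroup.mem_centralizer_singleton_iff]
      exact ((Subgroup.mem_centralizer_iff.1 hu) x (Subgroup.mem_zpowers x)).symm
    rw [Subgroup.mem_centralizer_iff]
    rintro _ ⟨d, hd, rfl⟩
    -- the commutator lies in `Pbar ⊓ Q`
    set w : H ⧸ N := (QuotientGroup.mk' N u) * π d * (QuotientGroup.mk' N u)⁻¹ * (π d)⁻¹ with hw
    have hwQ : w ∈ Q := by
      refine ⟨u * d * u⁻¹ * d⁻¹, D.mul_mem (hDnorm u huC' d hd) (D.inv_mem hd), ?_⟩
      rw [hw]
      simp only [map_mul, map_inv]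
      rfl
    have hwP : w ∈ Pbar := by
      have h1 : π d * (QuotientGroup.mk' N u)⁻¹ * (π d)⁻¹ ∈ Pbar :=
        hPbarn.conj_mem _ (Pbar.inv_mem huP) (π d)
      have e : w = (QuotientGroup.mk' N u) * (π d * (QuotientGroup.mk' N u)⁻¹ * (π d)⁻¹) := by
        rw [hw]; group
      rw [e]
      exact Pbar.mul_mem huP h1
    have hw1 : w = 1 := eq_one_of_coprime hPbarp hQcard hwP hwQ
    have e2 : π d * (QuotientGroup.mk' N u) = w⁻¹ * ((QuotientGroup.mk' N u) * π d) := by
      rw [hw]; group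
    rw [e2, hw1, inv_one, one_mul]
  have hQcent : Q ≤ Subgroup.centralizer (Pbar : Set (H ⧸ N)) :=
    Cfsg.Agent.Lib.Helper7.pq_lemma p Pg Q hPgp hQcard hPQ _ Pbar rfl hPbarp
      (by rw [hnormtop]; exact le_top) (by rw [hnormtop]; exact le_top) hCle
  have hQbot : ∀ q ∈ Q, q = 1 := fun q hq =>
    eq_one_of_coprime hPbarp hQcard (hcent (hQcent hq)) hq
  intro d hd
  have := hQbot (π d) ⟨d, hd, rfl⟩
  exact (QuotientGroup.eq_one_iff d).1 this

theorem centralizerPPrimeCore_le {G : Type*} [Group G] (p : ℕ) (x : G) :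
    centralizerPPrimeCore p x ≤ Subgroup.centralizer ({x} : Set G) := by
  rintro _ ⟨d, -, rfl⟩
  exact d.2

theorem centralizerPPrimeCore_coprime {G : Type*} [Group G] [Finite G] (p : ℕ) (x : G) :
    (Nat.card ↥(centralizerPPrimeCore p x)).Coprime p := by
  have h1 : Nat.card ↥(centralizerPPrimeCore p x) =
      Nat.card ↥(pPrimeCore p ↥(Subgroup.centralizer ({x} : Set G))) :=
    Nat.card_congr ((pPrimeCore p ↥(Subgroup.centralizer ({x} : Set G))).equivMapOfInjective _
      (Subgroup.centralizer ({x} : Set G)).subtype_injective).symm.toEquiv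
  rw [h1]
  exact Cfsg.Agent.H1.pPrimeCore_coprime p

theorem centralizerPPrimeCore_conj {G : Type*} [Group G] [Finite G] (p : ℕ) (x : G) {u d : G}
    (hu : u ∈ Subgroup.centralizer ({x} : Set G)) (hd : d ∈ centralizerPPrimeCore p x) :
    u * d * u⁻¹ ∈ centralizerPPrimeCore p x := by
  obtain ⟨d, hd, rfl⟩ := hd
  have hn : (pPrimeCore p ↥(Subgroup.centralizer ({x} : Set G))).Normal := inferInstance
  exact ⟨⟨u, hu⟩ * d * (⟨u, hu⟩ : ↥(Subgroup.centralizer ({x} : Set G)))⁻¹,
    hn.conj_mem d hd ⟨u, hu⟩, rfl⟩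

/-- balance: `O_{p'}(C_G(x)) ∩ C_G(y) ≤ O_{p'}(C_G(y))` for commuting `x`, `y`, `x` of order `p`,
`C_G(y)` solvable. -/
theorem balance_le {G : Type*} [Group G] [Finite G] (p : ℕ) [Fact p.Prime] (x y : G)
    (hx : orderOf x = p) (hxy : x * y = y * x)
    (hCy : Group.IsSolvable ↥(Subgroup.centralizer ({y} : Set G))) :
    centralizerPPrimeCore p x ⊓ Subgroup.centralizer {y} ≤ centralizerPPrimeCore p y := by
  classical
  haveI := hCy
  set Cx := Subgroup.centralizer ({x} : Set G) with hCx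
  set Cy := Subgroup.centralizer ({y} : Set G) with hCyd
  have hxCy : x ∈ Cy := Subgroup.mem_centralizer_singleton_iff.2 hxy
  set x' : ↥Cy := ⟨x, hxCy⟩ with hx'd
  have hx' : orderOf x' = p := by rw [← hx]; exact Subgroup.orderOf_mk x hxCy
  have hB := solvable_balance (H := ↥Cy) p x' hx'
  rintro g ⟨hgx, hgy⟩
  have hgCy : g ∈ Cy := hgy
  set g' : ↥Cy := ⟨g, hgCy⟩ with hg'
  suffices h : g' ∈ centralizerPPrimeCore p x' from ⟨g', hB h, rfl⟩
  set E : Subgroup G := centralizerPPrimeCore p x ⊓ Cy with hE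
  set Cx' : Subgroup ↥Cy := Subgroup.centralizer ({x'} : Set ↥Cy) with hCx'
  set ι : ↥Cx' →* G := Cy.subtype.comp Cx'.subtype with hι
  have hιinj : Function.Injective ι := Cy.subtype_injective.comp Cx'.subtype_injective
  have hιx : ∀ c : ↥Cx', ι c ∈ Cx := by
    intro c
    rw [hCx, Subgroup.mem_centralizer_singleton_iff]
    have := Subgroup.mem_centralizer_singleton_iff.1 c.2
    exact congrArg Subtype.val this
  have hιy : ∀ c : ↥Cx', ι c ∈ Cy := fun c => (c : ↥Cy).2
  set E'' : Subgroup ↥Cx' := E.comap ι with hE''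
  have hE''n : E''.Normal := by
    constructor
    intro e he c
    show ι (c * e * c⁻¹) ∈ E
    rw [map_mul, map_mul, map_inv]
    have he' : ι e ∈ E := he
    exact ⟨centralizerPPrimeCore_conj p x (hιx c) he'.1,
      Cy.mul_mem (Cy.mul_mem (hιy c) he'.2) (Cy.inv_mem (hιy c))⟩
  have hE''c : (Nat.card ↥E'').Coprime p := by
    have h1 : Nat.card ↥E'' ∣ Nat.card ↥E := Subgroup.card_comap_dvd_of_injective E ι hιinj
    have h2 : Nat.card ↥E ∣ Nat.card ↥(centralizerPPrimeCore p x) :=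
      Subgroup.card_dvd_of_le inf_le_left
    exact ((centralizerPPrimeCore_coprime p x).coprime_dvd_left h2).coprime_dvd_left h1
  have hle := Cfsg.Agent.H1.le_pPrimeCore hE''n hE''c
  have hgx' : g' ∈ Cx' := by
    rw [hCx', Subgroup.mem_centralizer_singleton_iff]
    apply Subtype.ext
    show g * x = x * g
    exact Subgroup.mem_centralizer_singleton_iff.1 (centralizerPPrimeCore_le p x hgx)
  refine ⟨⟨g', hgx'⟩, hle ?_, rfl⟩
  show ι ⟨g', hgx'⟩ ∈ E
  exact ⟨hgx, hgy⟩

end Cfsg.Agent.Lib.Lead.SolvableBalance
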