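import Mathlib

/-!
# The product formula `|A| |B| = |AB| |A ∩ B|` for subgroups of a finite group
-/

set_option autoImplicit false
set_option linter.style.haveILetI false

namespace Cfsg.Agent.Lib.Lead.ProdCard

open scoped Pointwise

theorem card_mul_card_eq {G : Type*} [Group G] [Finite G] (A B : Subgroup G) :
    Nat.card ↥A * Nat.card ↥B = ((A : Set G) * (B : Set G)).ncard * Nat.card ↥(A ⊓ B) := by
  classical
  haveI := Fintype.ofFinite G
  let φ : ↥A × ↥B → G := fun x => (x.1 : G) * x.2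
  have h1 : Nat.card (↥A × ↥B) = ∑ y : G, Nat.card {x : ↥A × ↥B // φ x = y} := by
    rw [← Nat.card_congr (Equiv.sigmaFiberEquiv φ), Nat.card_sigma]
  have h2 : ∀ y : G, Nat.card {x : ↥A × ↥B // φ x = y} =
      if y ∈ (A : Set G) * (B : Set G) then Nat.card ↥(A ⊓ B) else 0 := by
    intro y
    split_ifs with hy
    · obtain ⟨a, ha, b, hb, rfl⟩ := Set.mem_mul.1 hy
      refine Nat.card_congr ?_
      refine
        { toFun := fun x => ⟨a⁻¹ * (x.1.1 : G), ?_⟩
          invFun := fun c => ⟨(⟨a * c, mul_mem ha (Subgroup.mem_inf.1 c.2).1⟩,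
            ⟨(c : G)⁻¹ * b, mul_mem (inv_mem (Subgroup.mem_inf.1 c.2).2) hb⟩), ?_⟩
          left_inv := ?_
          right_inv := ?_ }
      · have hx : (x.1.1 : G) * x.1.2 = a * b := x.2
        refine Subgroup.mem_inf.2 ⟨mul_mem (inv_mem ha) x.1.1.2, ?_⟩
        have e : a⁻¹ * (x.1.1 : G) = b * (x.1.2 : G)⁻¹ := by
          calc a⁻¹ * (x.1.1 : G) = a⁻¹ * ((x.1.1 : G) * x.1.2) * (x.1.2 : G)⁻¹ := by group
            _ = b * (x.1.2 : G)⁻¹ := by rw [hx]; group
        rw [e]
        exact mul_mem hb (inv_mem x.1.2.2)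
      · show a * (c : G) * ((c : G)⁻¹ * b) = a * b
        group
      · rintro ⟨⟨⟨a', ha'⟩, ⟨b', hb'⟩⟩, hx⟩
        have hx' : a' * b' = a * b := hx
        apply Subtype.ext
        apply Prod.ext
        · apply Subtype.ext
          show a * (a⁻¹ * a') = a'
          group
        · apply Subtype.ext
          show (a⁻¹ * a')⁻¹ * b = b'
          calc (a⁻¹ * a')⁻¹ * b = a'⁻¹ * (a * b) := by group
            _ = b' := by rw [← hx']; group
      · rintro ⟨c, hc⟩
        apply Subtype.ext
        show a⁻¹ * (a * c) = c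
        group
    · rw [Nat.card_eq_zero]
      left
      constructor
      rintro ⟨x, hx⟩
      exact hy (Set.mem_mul.2 ⟨x.1, x.1.2, x.2, x.2.2, hx⟩)
  rw [Nat.card_prod] at h1
  rw [h1]
  simp_rw [h2]
  rw [Finset.sum_ite, Finset.sum_const_zero, add_zero, Finset.sum_const, smul_eq_mul]
  congr 1
  have : (Finset.univ.filter fun y => y ∈ (A : Set G) * (B : Set G)) =
      ((A : Set G) * (B : Set G)).toFinset := by
    ext y
    simp only [Finset.mem_filter, Finset.mem_univ, true_and, Set.mem_toFinset]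
  rw [this, Set.ncard_eq_toFinset_card']

end Cfsg.Agent.Lib.Lead.ProdCard
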