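import Mathlib
import Cfsg.Agent.Lib.Lead.Subnormal

/-!
# Wielandt's zipper lemma and subnormality criterion (finite groups)

* `exists_conj_le_normalizer(_rel)` : a subnormal, non-normal subgroup `H` has a conjugate `≠ H`
  inside `N(H)`;
* `isSubnormal_restrict`, `isSubnormal_of_le`, `isSubnormal_conj` : transport of relative
  subnormality `(A.subgroupOf B).IsSubnormal`;
* `isSubnormal_of_isNilpotent` : in a finite nilpotent group all subgroups are subnormal;
* `zipper` : Wielandt's zipper lemma;
* `wielandt` : if `A ⊲⊲ ⟨A, A^y⟩` for all conjugates `y` of elements of `A`, then `A ⊲⊲ G`.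
-/

set_option autoImplicit false

namespace Cfsg.Agent.Lib.Lead.Subnormal

universe u

open scoped Pointwise

section

variable {G : Type u} [Group G]

theorem card_lt_card_of_lt [Finite G] {B D : Subgroup G} (h : B < D) :
    Nat.card ↥B < Nat.card ↥D := by
  by_contra hge
  push Not at hge
  exact h.ne (Subgroup.eq_of_le_of_card_ge h.le hge)

theorem card_lt_of_ne_top [Finite G] {H : Subgroup G} (h : H ≠ ⊤) : Nat.card ↥H < Nat.card G := by
  by_contra hge
  push Not at hge
  exact h (Subgroup.eq_top_of_card_eq H (le_antisymm (Subgroup.card_le_card_group H) hge))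

theorem exists_conj_aux [Finite G] {K : Subgroup G} (hK : K.IsSubnormal) :
    ∀ H : Subgroup G, H ≤ K → K ≤ Subgroup.normalizer (H : Set G) → ¬ H.Normal →
      ∃ x : G, MulAut.conj x • H ≠ H ∧ MulAut.conj x • H ≤ Subgroup.normalizer (H : Set G) := by
  induction hK with
  | top =>
    intro H _ hn hnn
    exfalso; apply hnn
    rw [← Subgroup.normalizer_eq_top_iff]
    exact top_le_iff.mp hn
  | step K L hKL hL hN ih =>
    intro H hHK hKn hnn
    by_cases hLn : L ≤ Subgroup.normalizer (H : Set G)
    · exact ih H (hHK.trans hKL) hLn hnn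
    · obtain ⟨x, hxL, hxn⟩ := SetLike.not_le_iff_exists.mp hLn
      have hKL' : L ≤ Subgroup.normalizer (K : Set G) :=
        (Subgroup.normal_subgroupOf_iff_le_normalizer hKL).mp hN
      refine ⟨x, ?_, ?_⟩
      · intro h
        exact hxn (mem_normalizer_of_conj_smul_le x H h.le)
      · have h1 : MulAut.conj x • H ≤ MulAut.conj x • K := by
          intro z hz
          rw [mem_conj_smul] at hz ⊢
          exact hHK hz
        rw [conj_smul_eq_of_mem_normalizer x K (hKL' hxL)] at h1
        exact h1.trans hKn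

/-- A subnormal, non-normal subgroup has a conjugate different from itself inside its
normalizer. -/
theorem exists_conj_le_normalizer [Finite G] {H : Subgroup G} (hH : H.IsSubnormal)
    (hn : ¬ H.Normal) :
    ∃ x : G, MulAut.conj x • H ≠ H ∧ MulAut.conj x • H ≤ Subgroup.normalizer (H : Set G) := by
  rcases Subgroup.IsSubnormal.iff_eq_top_or_exists.mp hH with rfl | ⟨K, hlt, hK, hN⟩
  · exact absurd (inferInstance : (⊤ : Subgroup G).Normal) hn
  · exact exists_conj_aux hK H hlt.le
      ((Subgroup.normal_subgroupOf_iff_le_normalizer hlt.le).mp hN) hn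

theorem exists_conj_le_normalizer_rel [Finite G] {S K : Subgroup G} (hSK : S ≤ K)
    (hsn : (S.subgroupOf K).IsSubnormal) (hn : ¬ K ≤ Subgroup.normalizer (S : Set G)) :
    ∃ x ∈ K, MulAut.conj x • S ≠ S ∧ MulAut.conj x • S ≤ Subgroup.normalizer (S : Set G) := by
  have hn' : ¬ (S.subgroupOf K).Normal := fun h =>
    hn ((Subgroup.normal_subgroupOf_iff_le_normalizer hSK).mp h)
  obtain ⟨x, hx1, hx2⟩ := exists_conj_le_normalizer hsn hn'
  have key : ∀ z : ↥K, z ∈ MulAut.conj x • S.subgroupOf K ↔ (z : G) ∈ MulAut.conj (x : G) • S := by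
    intro z
    rw [mem_conj_smul, mem_conj_smul, Subgroup.mem_subgroupOf]
    simp
  refine ⟨x, x.2, ?_, ?_⟩
  · intro h
    apply hx1
    ext z
    rw [key, h, Subgroup.mem_subgroupOf]
  · intro z hz
    have hzK : z ∈ K := by
      have hz' := (mem_conj_smul _ _ _).mp hz
      have := K.mul_mem (K.mul_mem x.2 (hSK hz')) (K.inv_mem x.2)
      have e : (x : G) * ((x : G)⁻¹ * z * x) * (x : G)⁻¹ = z := by group
      rwa [e] at this
    have h1 : (⟨z, hzK⟩ : ↥K) ∈
        Subgroup.normalizer ((S.subgroupOf K : Subgroup ↥K) : Set ↥K) :=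
      hx2 ((key ⟨z, hzK⟩).mpr hz)
    have h2 := Subgroup.le_normalizer_map (H := S.subgroupOf K) K.subtype
    rw [Subgroup.map_subgroupOf_eq_of_le hSK] at h2
    exact h2 ⟨⟨z, hzK⟩, h1, rfl⟩

theorem isSubnormal_restrict {A B : Subgroup G} (h : (A.subgroupOf B).IsSubnormal)
    (H : Subgroup G) (B' : Subgroup ↥H) (hle : B'.map H.subtype ≤ B) :
    ((A.subgroupOf H).subgroupOf B').IsSubnormal := by
  let φ : ↥B' →* ↥B := MonoidHom.codRestrict (H.subtype.comp B'.subtype) B
    (fun x => hle ⟨x.1, x.2, rfl⟩)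
  have : (A.subgroupOf H).subgroupOf B' = (A.subgroupOf B).comap φ := by
    ext x
    simp [Subgroup.mem_subgroupOf, φ]
  rw [this]; exact h.comap φ

theorem isSubnormal_of_le {A B C : Subgroup G} (h : (A.subgroupOf B).IsSubnormal)
    (hCB : C ≤ B) : (A.subgroupOf C).IsSubnormal := by
  have : A.subgroupOf C = (A.subgroupOf B).comap (Subgroup.inclusion hCB) := by
    ext x
    simp [Subgroup.mem_subgroupOf]
  rw [this]; exact h.comap _

theorem isSubnormal_conj {A B : Subgroup G} (h : (A.subgroupOf B).IsSubnormal) (g : G) :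
    ((MulAut.conj g • A).subgroupOf (MulAut.conj g • B)).IsSubnormal := by
  let φ : ↥(MulAut.conj g • B) →* ↥B :=
    MonoidHom.codRestrict ((MulAut.conj g⁻¹).toMonoidHom.comp (MulAut.conj g • B).subtype) B
      (fun z => by
        have := (mem_conj_smul g z.1 B).mp z.2
        simpa [mul_assoc] using this)
  have : (MulAut.conj g • A).subgroupOf (MulAut.conj g • B) = (A.subgroupOf B).comap φ := by
    ext z
    rw [Subgroup.mem_subgroupOf, Subgroup.mem_comap, Subgroup.mem_subgroupOf, mem_conj_smul]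
    simp [φ, mul_assoc]
  rw [this]; exact h.comap φ

theorem isSubnormal_of_top {A : Subgroup G} (h : (A.subgroupOf ⊤).IsSubnormal) :
    A.IsSubnormal :=
  Subgroup.IsSubnormal.trans le_top h Subgroup.IsSubnormal.top

theorem isSubnormal_of_normalizerCondition [Finite G] (hNC : NormalizerCondition G)
    (B : Subgroup G) : B.IsSubnormal := by
  induction hn : Nat.card G - Nat.card ↥B using Nat.strong_induction_on generalizing B with
  | _ n ih =>
    by_cases htop : B = ⊤
    · rw [htop]; exact Subgroup.IsSubnormal.top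
    · have hlt : B < Subgroup.normalizer (B : Set G) := hNC B (lt_top_iff_ne_top.mpr htop)
      have hcard := card_lt_card_of_lt hlt
      have hle : Nat.card ↥(Subgroup.normalizer (B : Set G)) ≤ Nat.card G :=
        Subgroup.card_le_card_group _
      have hsn : (Subgroup.normalizer (B : Set G)).IsSubnormal :=
        ih (Nat.card G - Nat.card ↥(Subgroup.normalizer (B : Set G))) (by omega) _ rfl
      exact Subgroup.IsSubnormal.step B _ hlt.le hsn Subgroup.normal_in_normalizer

theorem isSubnormal_of_isNilpotent [Finite G] [Group.IsNilpotent G] (B : Subgroup G) :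
    B.IsSubnormal :=
  isSubnormal_of_normalizerCondition Group.normalizerCondition_of_isNilpotent B

theorem conj_smul_ne_top [Finite G] (x : G) {H : Subgroup G} (h : H ≠ ⊤) :
    MulAut.conj x • H ≠ ⊤ := by
  intro h'
  apply h
  apply Subgroup.eq_top_of_card_eq
  rw [← card_conj_smul x H, h', Subgroup.card_top]

theorem conj_smul_conj_inv_smul (x : G) (H : Subgroup G) :
    MulAut.conj x • MulAut.conj x⁻¹ • H = H := by
  rw [smul_smul, ← map_mul, mul_inv_cancel, map_one, one_smul]

theorem conj_inv_smul_conj_smul (x : G) (H : Subgroup G) :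
    MulAut.conj x⁻¹ • MulAut.conj x • H = H := by
  rw [smul_smul, ← map_mul, inv_mul_cancel, map_one, one_smul]

theorem le_conj_inv_smul_of_conj_smul_le {x : G} {S H : Subgroup G}
    (h : MulAut.conj x • S ≤ H) : S ≤ MulAut.conj x⁻¹ • H := by
  intro s hs
  rw [mem_conj_smul]; simp only [inv_inv]
  exact h (conj_mem_conj_smul x s S hs)

/-- Wielandt's zipper lemma. -/
theorem zipper_aux [Finite G] (n : ℕ) : ∀ (S : Subgroup G), Nat.card G - Nat.card ↥S = n →
    (∀ H : Subgroup G, S ≤ H → H ≠ ⊤ → (S.subgroupOf H).IsSubnormal) → ¬ S.IsSubnormal →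
    ∀ M K : Subgroup G, IsCoatom M → IsCoatom K → S ≤ M → S ≤ K → M = K := by
  induction n using Nat.strong_induction_on with
  | _ n ih =>
  intro S hn hS hnot
  have hSn : ¬ S.Normal := fun h => hnot h.isSubnormal
  have hNtop : Subgroup.normalizer (S : Set G) ≠ ⊤ := fun h =>
    hSn (Subgroup.normalizer_eq_top_iff.mp h)
  obtain ⟨M₀, hM₀, hNM₀⟩ := (eq_top_or_exists_le_coatom _).resolve_left hNtop
  have key : ∀ K : Subgroup G, IsCoatom K → S ≤ K → K = M₀ := by
    intro K hK hSK
    by_contra hne
    have hKn : ¬ K ≤ Subgroup.normalizer (S : Set G) := by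
      intro h
      exact hne ((hK.le_iff_eq hM₀.1).mp (h.trans hNM₀)).symm
    obtain ⟨x, hxK, hx1, hx2⟩ := exists_conj_le_normalizer_rel hSK (hS K hSK hK.1) hKn
    have hST : S ≤ S ⊔ MulAut.conj x • S := le_sup_left
    have hTN : S ⊔ MulAut.conj x • S ≤ Subgroup.normalizer (S : Set G) :=
      sup_le Subgroup.le_normalizer hx2
    have hTM : S ⊔ MulAut.conj x • S ≤ M₀ := hTN.trans hNM₀
    have hxSK : MulAut.conj x • S ≤ K := by
      intro z hz
      have hz' := (mem_conj_smul _ _ _).mp hz
      have := K.mul_mem (K.mul_mem hxK (hSK hz')) (K.inv_mem hxK)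
      have e : x * (x⁻¹ * z * x) * x⁻¹ = z := by group
      rwa [e] at this
    have hTK : S ⊔ MulAut.conj x • S ≤ K := sup_le hSK hxSK
    have hSltT : S < S ⊔ MulAut.conj x • S := by
      refine lt_of_le_of_ne hST ?_
      intro h
      apply hx1
      apply conj_smul_eq_of_le
      calc MulAut.conj x • S ≤ S ⊔ MulAut.conj x • S := le_sup_right
        _ = S := h.symm
    have hcardlt := card_lt_card_of_lt hSltT
    have hTnot : ¬ (S ⊔ MulAut.conj x • S).IsSubnormal := by
      intro h
      exact hnot (Subgroup.IsSubnormal.step S _ hST h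
        (Subgroup.normal_subgroupOf_of_le_normalizer hTN))
    have hTS : ∀ H : Subgroup G, S ⊔ MulAut.conj x • S ≤ H → H ≠ ⊤ →
        ((S ⊔ MulAut.conj x • S).subgroupOf H).IsSubnormal := by
      intro H hTH hH
      have h1 : (S.subgroupOf H).IsSubnormal := hS H (hST.trans hTH) hH
      have hxSH : MulAut.conj x • S ≤ H := le_sup_right.trans hTH
      have h2 : ((MulAut.conj x • S).subgroupOf H).IsSubnormal := by
        have h3 : S ≤ MulAut.conj x⁻¹ • H := le_conj_inv_smul_of_conj_smul_le hxSH
        have h4 : MulAut.conj x⁻¹ • H ≠ ⊤ := conj_smul_ne_top _ hH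
        have h5 := isSubnormal_conj (hS _ h3 h4) x
        rwa [conj_smul_conj_inv_smul] at h5
      have := sup_isSubnormal h1 h2
      rwa [← Subgroup.subgroupOf_sup (hST.trans hTH) hxSH] at this
    have hlt : Nat.card G - Nat.card ↥(S ⊔ MulAut.conj x • S : Subgroup G) < n := by
      have : Nat.card ↥(S ⊔ MulAut.conj x • S : Subgroup G) ≤ Nat.card G :=
        Subgroup.card_le_card_group _
      omega
    exact hne (ih _ hlt _ rfl hTS hTnot M₀ K hM₀ hK hTM hTK).symm
  intro M K hM hK hSM hSK
  rw [key M hM hSM, key K hK hSK]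

theorem zipper [Finite G] {S : Subgroup G}
    (hS : ∀ H : Subgroup G, S ≤ H → H ≠ ⊤ → (S.subgroupOf H).IsSubnormal)
    (hnot : ¬ S.IsSubnormal) {M K : Subgroup G} (hM : IsCoatom M) (hK : IsCoatom K)
    (hSM : S ≤ M) (hSK : S ≤ K) : M = K :=
  zipper_aux _ S rfl hS hnot M K hM hK hSM hSK

theorem isCoatom_conj_smul [Finite G] (x : G) {M : Subgroup G} (hM : IsCoatom M) :
    IsCoatom (MulAut.conj x • M) := by
  refine ⟨conj_smul_ne_top x hM.1, ?_⟩
  intro L hL
  have h1 : M < MulAut.conj x⁻¹ • L := by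
    refine lt_of_le_of_ne ?_ ?_
    · have := le_conj_inv_smul_of_conj_smul_le hL.le
      exact this
    · intro h
      apply hL.ne
      rw [h, conj_smul_conj_inv_smul]
  have h2 := hM.2 _ h1
  by_contra hne
  exact conj_smul_ne_top x⁻¹ hne h2

end

/-- Wielandt: if `A ⊲⊲ ⟨A, A^y⟩` for every conjugate `y` of an element of `A`, then `A ⊲⊲ G`. -/
theorem wielandt_aux (n : ℕ) : ∀ (G : Type u) [Group G] [Finite G], Nat.card G = n →
    ∀ A : Subgroup G,
    (∀ a ∈ A, ∀ g : G, (A.subgroupOf (A ⊔ MulAut.conj (g⁻¹ * a * g) • A)).IsSubnormal) →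
    A.IsSubnormal := by
  induction n using Nat.strong_induction_on with
  | _ n ih =>
  intro G _ _ hcard A hA
  by_contra hnot
  have hS : ∀ H : Subgroup G, A ≤ H → H ≠ ⊤ → (A.subgroupOf H).IsSubnormal := by
    intro H hAH hH
    have hc : Nat.card ↥H < n := by rw [← hcard]; exact card_lt_of_ne_top hH
    apply ih _ hc ↥H rfl (A.subgroupOf H)
    intro a ha g
    have h0 := hA (a : G) ha (g : G)
    apply isSubnormal_restrict h0 H
    rw [Subgroup.map_sup]
    apply sup_le_sup
    · rw [Subgroup.map_subgroupOf_eq_of_le hAH]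
    · rintro _ ⟨z, hz, rfl⟩
      have hz' := (mem_conj_smul _ _ _).mp (SetLike.mem_coe.mp hz)
      rw [Subgroup.mem_subgroupOf] at hz'
      rw [mem_conj_smul]
      simpa using hz'
  have hAtop : A ≠ ⊤ := by
    rintro rfl
    exact hnot Subgroup.IsSubnormal.top
  obtain ⟨M, hM, hAM⟩ := (eq_top_or_exists_le_coatom A).resolve_left hAtop
  have huniq : ∀ K : Subgroup G, IsCoatom K → A ≤ K → K = M := fun K hK hAK =>
    zipper hS hnot hK hM hAK hAM
  have hconj : ∀ a ∈ A, ∀ g : G, MulAut.conj (g⁻¹ * a * g) • A ≤ M := by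
    intro a ha g
    have hne : A ⊔ MulAut.conj (g⁻¹ * a * g) • A ≠ ⊤ := by
      intro h
      have := hA a ha g
      rw [h] at this
      exact hnot (isSubnormal_of_top this)
    obtain ⟨K, hK, hle⟩ := (eq_top_or_exists_le_coatom _).resolve_left hne
    have := huniq K hK (le_sup_left.trans hle)
    rw [← this]
    exact le_sup_right.trans hle
  have hNM : Subgroup.normalClosure (A : Set G) ≤ M := by
    by_cases hMn : M.Normal
    · exact Subgroup.normalClosure_le_normal hAM
    · have hnM : Subgroup.normalizer (M : Set G) = M := by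
        have h1 : Subgroup.normalizer (M : Set G) ≠ ⊤ := fun h =>
          hMn (Subgroup.normalizer_eq_top_iff.mp h)
        exact (hM.le_iff_eq h1).mp Subgroup.le_normalizer
      rw [Subgroup.normalClosure, Subgroup.closure_le]
      intro y hy
      obtain ⟨a, ha, hconjy⟩ := Group.mem_conjugatesOfSet_iff.mp hy
      obtain ⟨c, hc⟩ := isConj_iff.mp hconjy
      have hy' : y = c⁻¹⁻¹ * a * c⁻¹ := by rw [inv_inv]; exact hc.symm
      have h1 : MulAut.conj y⁻¹ • M = M := by
        apply huniq _ (isCoatom_conj_smul _ hM)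
        apply le_conj_inv_smul_of_conj_smul_le
        rw [hy']
        exact hconj a ha c⁻¹
      have h2 : y⁻¹ ∈ Subgroup.normalizer (M : Set G) :=
        mem_normalizer_of_conj_smul_le _ _ h1.le
      rw [hnM] at h2
      simpa using M.inv_mem h2
  have hNtop : Subgroup.normalClosure (A : Set G) ≠ ⊤ := by
    intro h
    rw [h] at hNM
    exact hM.1 (top_le_iff.mp hNM)
  have h1 := hS _ Subgroup.le_normalClosure hNtop
  exact hnot (Subgroup.IsSubnormal.trans Subgroup.le_normalClosure h1
    Subgroup.normalClosure_normal.isSubnormal)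

theorem wielandt {G : Type u} [Group G] [Finite G] (A : Subgroup G)
    (hA : ∀ a ∈ A, ∀ g : G, (A.subgroupOf (A ⊔ MulAut.conj (g⁻¹ * a * g) • A)).IsSubnormal) :
    A.IsSubnormal :=
  wielandt_aux _ G rfl A hA

end Cfsg.Agent.Lib.Lead.Subnormal
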