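import Mathlib
import Cfsg.Agent.Lib.Lead.Subnormal
import Cfsg.Agent.Lib.Lead.Subnormal2
import Cfsg.Agent.Lib.Lead.ProdCard
import Cfsg.Agent.H1.FrattiniExtra
import Cfsg.Agent.S0003
import Cfsg.Agent.S0004
import Cfsg.Agent.S0043
import Cfsg.Agent.S0539
import Cfsg.Agent.S0544

/-!
# Carter subgroups of finite solvable groups: existence and conjugacy

`Car C` : `C` is nilpotent and self-normalizing.  `RelCar C K` : `C ≤ K` is a Carter subgroup of
`K`, phrased inside the ambient group.  Main result `carter_aux`.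
-/

set_option autoImplicit false
open Pointwise

namespace Cfsg.Agent.Lib.Lead.Carter

open Cfsg.Agent.Lib.Lead.Subnormal

universe u

section basic

variable {G : Type u} [Group G]

/-- Carter subgroup (absolute). -/
def Car (C : Subgroup G) : Prop :=
  Group.IsNilpotent C ∧ Subgroup.normalizer (C : Set G) = C

/-- `C` is a Carter subgroup of `K`. -/
def RelCar (C K : Subgroup G) : Prop :=
  C ≤ K ∧ Group.IsNilpotent C ∧ ∀ x ∈ K, x ∈ Subgroup.normalizer (C : Set G) → x ∈ C

theorem relCar_top {C : Subgroup G} (h : Car C) : RelCar C ⊤ :=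
  ⟨le_top, h.1, fun x _ hx => by rw [h.2] at hx; exact hx⟩

theorem RelCar.of_car {C K : Subgroup G} (h : Car C) (hCK : C ≤ K) : RelCar C K :=
  ⟨hCK, h.1, fun x _ hx => by rw [h.2] at hx; exact hx⟩

theorem RelCar.mono {C K M : Subgroup G} (h : RelCar C K) (hCM : C ≤ M) (hMK : M ≤ K) :
    RelCar C M :=
  ⟨hCM, h.2.1, fun x hx hn => h.2.2 x (hMK hx) hn⟩

theorem RelCar.subgroupOf {C K : Subgroup G} (h : RelCar C K) : Car (C.subgroupOf K) := by
  refine ⟨?_, ?_⟩
  · haveI := h.2.1
    exact Group.nilpotent_of_mulEquiv (Subgroup.subgroupOfEquivOfLe h.1).symm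
  · rw [← Subgroup.subgroupOf_normalizer_eq h.1]
    ext ⟨x, hx⟩
    rw [Subgroup.mem_subgroupOf, Subgroup.mem_subgroupOf]
    exact ⟨fun hn => h.2.2 x hx hn, fun hc => Subgroup.le_normalizer hc⟩

theorem relCar_map_subtype {K : Subgroup G} {C' : Subgroup ↥K} (h : Car C') :
    RelCar (C'.map K.subtype) K := by
  have hle : C'.map K.subtype ≤ K := by
    rintro _ ⟨y, -, rfl⟩
    exact y.2
  have hso : (C'.map K.subtype).subgroupOf K = C' :=
    Subgroup.comap_map_eq_self_of_injective K.subtype_injective C'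
  refine ⟨hle, ?_, ?_⟩
  · haveI := h.1
    exact Group.nilpotent_of_mulEquiv (Subgroup.equivMapOfInjective C' K.subtype K.subtype_injective)
  · intro x hx hn
    have h1 : (⟨x, hx⟩ : ↥K) ∈
        (Subgroup.normalizer ((C'.map K.subtype : Subgroup G) : Set G)).subgroupOf K := by
      rw [Subgroup.mem_subgroupOf]
      exact hn
    rw [Subgroup.subgroupOf_normalizer_eq hle, hso, h.2] at h1
    exact ⟨⟨x, hx⟩, h1, rfl⟩

theorem normalizer_conj_smul (x : G) (C : Subgroup G) :
    Subgroup.normalizer ((MulAut.conj x • C : Subgroup G) : Set G)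
      = MulAut.conj x • Subgroup.normalizer (C : Set G) :=
  (Subgroup.map_equiv_normalizer_eq C (MulAut.conj x)).symm

theorem car_conj {C : Subgroup G} (h : Car C) (x : G) : Car (MulAut.conj x • C) := by
  refine ⟨?_, ?_⟩
  · haveI := h.1
    exact Group.nilpotent_of_mulEquiv (Subgroup.equivSMul (MulAut.conj x) C)
  · rw [normalizer_conj_smul, h.2]

theorem map_conj_smul_hom {H : Type*} [Group H] (f : G →* H) (g : G) (C : Subgroup G) :
    (MulAut.conj g • C).map f = MulAut.conj (f g) • C.map f := by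
  show (C.map (MulAut.conj g).toMonoidHom).map f = (C.map f).map (MulAut.conj (f g)).toMonoidHom
  rw [Subgroup.map_map, Subgroup.map_map]
  congr 1
  ext x
  simp

theorem card_quotient_lt [Finite G] {N : Subgroup G} (hN : N ≠ ⊥) :
    Nat.card (G ⧸ N) < Nat.card G := by
  have h1 := Subgroup.card_eq_card_quotient_mul_card_subgroup N
  have h2 : 1 < Nat.card N := N.one_lt_card_iff_ne_bot.mpr hN
  have h3 : 0 < Nat.card (G ⧸ N) := Nat.card_pos
  nlinarith

/-- the sup of a (relative) Carter subgroup with a normal subgroup is (relatively)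
self-normalizing, given conjugacy in proper subgroups -/
theorem selfNormalizing_sup [Finite G]
    (hconj : ∀ M : Subgroup G, M ≠ ⊤ → ∀ C D, RelCar C M → RelCar D M →
      ∃ k ∈ M, MulAut.conj k • C = D)
    {C K N : Subgroup G} [N.Normal] (hC : RelCar C K) (hNK : N ≤ K) :
    ∀ x ∈ K, x ∈ Subgroup.normalizer ((C ⊔ N : Subgroup G) : Set G) → x ∈ C ⊔ N := by
  intro x hxK hxn
  by_cases hM : C ⊔ N = ⊤
  · rw [hM]
    exact Subgroup.mem_top x
  have hMK : C ⊔ N ≤ K := sup_le hC.1 hNK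
  have hCM : RelCar C (C ⊔ N) := hC.mono le_sup_left hMK
  have hxM : MulAut.conj x • (C ⊔ N) = C ⊔ N := conj_smul_eq_of_mem_normalizer x _ hxn
  have hC'le : MulAut.conj x • C ≤ C ⊔ N := by
    rw [← hxM]
    exact Subgroup.pointwise_smul_le_pointwise_smul_iff.mpr le_sup_left
  have hC'M : RelCar (MulAut.conj x • C) (C ⊔ N) := by
    refine ⟨hC'le, ?_, ?_⟩
    · haveI := hC.2.1
      exact Group.nilpotent_of_mulEquiv (Subgroup.equivSMul (MulAut.conj x) C)
    · intro y hyM hyn
      rw [mem_conj_smul]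
      rw [normalizer_conj_smul, mem_conj_smul] at hyn
      exact hC.2.2 (x⁻¹ * y * x) (K.mul_mem (K.mul_mem (K.inv_mem hxK) (hMK hyM)) hxK) hyn
  obtain ⟨k, hkM, hk⟩ := hconj _ hM _ _ hCM hC'M
  have h1 : MulAut.conj (k⁻¹ * x) • C = C := by
    rw [map_mul, mul_smul, ← hk, ← mul_smul, ← map_mul, inv_mul_cancel, map_one, one_smul]
  have h2 : k⁻¹ * x ∈ Subgroup.normalizer (C : Set G) :=
    mem_normalizer_of_conj_smul_le _ _ h1.le
  have h3 : k⁻¹ * x ∈ C := hC.2.2 _ (K.mul_mem (K.inv_mem (hMK hkM)) hxK) h2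
  have h4 : x = k * (k⁻¹ * x) := by group
  rw [h4]
  exact (C ⊔ N).mul_mem hkM ((le_sup_left : C ≤ C ⊔ N) h3)

theorem car_map_mk' {C N : Subgroup G} [N.Normal] (hC : Car C)
    (hsn : Subgroup.normalizer ((C ⊔ N : Subgroup G) : Set G) = C ⊔ N) :
    Car (C.map (QuotientGroup.mk' N)) := by
  refine ⟨?_, ?_⟩
  · haveI := hC.1
    exact Group.nilpotent_of_surjective _ ((QuotientGroup.mk' N).subgroupMap_surjective C)
  · have hsurj := QuotientGroup.mk'_surjective N
    have h1 := Subgroup.map_comap_eq_self_of_surjective hsurj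
      (Subgroup.normalizer ((C.map (QuotientGroup.mk' N) : Subgroup (G ⧸ N)) : Set (G ⧸ N)))
    rw [Subgroup.comap_normalizer_eq_of_surjective _ hsurj, QuotientGroup.comap_map_mk',
      sup_comm, hsn, Subgroup.map_sup, QuotientGroup.map_mk'_self, sup_bot_eq] at h1
    exact h1.symm

theorem exists_conj_sup_eq [Finite G] [Group.IsSolvable G] {C D N : Subgroup G} [N.Normal]
    (hN : N ≠ ⊥)
    (hconj : ∀ (H : Type u) [Group H] [Finite H] [Group.IsSolvable H], Nat.card H < Nat.card G →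
      ∀ C D : Subgroup H, Car C → Car D → ∃ g : H, MulAut.conj g • C = D)
    (hC : Car C) (hD : Car D)
    (hsnC : Subgroup.normalizer ((C ⊔ N : Subgroup G) : Set G) = C ⊔ N)
    (hsnD : Subgroup.normalizer ((D ⊔ N : Subgroup G) : Set G) = D ⊔ N) :
    ∃ g : G, MulAut.conj g • C ⊔ N = D ⊔ N := by
  obtain ⟨q, hq⟩ := hconj (G ⧸ N) (card_quotient_lt hN) _ _ (car_map_mk' hC hsnC)
    (car_map_mk' hD hsnD)
  obtain ⟨g, rfl⟩ := QuotientGroup.mk'_surjective N q
  refine ⟨g, ?_⟩
  have h1 : (MulAut.conj g • C).map (QuotientGroup.mk' N) = D.map (QuotientGroup.mk' N) := by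
    rw [← hq]
    exact map_conj_smul_hom _ _ _
  have h2 := congrArg (Subgroup.comap (QuotientGroup.mk' N)) h1
  rw [QuotientGroup.comap_map_mk', QuotientGroup.comap_map_mk'] at h2
  rw [sup_comm, h2, sup_comm]

/-- a subgroup containing `N`, self-normalizing inside the preimage `K` of a nilpotent subgroup
of `G ⧸ N`, equals `K` -/
theorem eq_comap_of_selfNormalizing [Finite G] {N X : Subgroup G} [N.Normal]
    (Kb : Subgroup (G ⧸ N)) (hnil : Group.IsNilpotent Kb) (hNX : N ≤ X)
    (hXK : X ≤ Kb.comap (QuotientGroup.mk' N))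
    (hsn : ∀ x ∈ Kb.comap (QuotientGroup.mk' N), x ∈ Subgroup.normalizer (X : Set G) → x ∈ X) :
    X = Kb.comap (QuotientGroup.mk' N) := by
  have hNC : NormalizerCondition Kb := Group.normalizerCondition_of_isNilpotent
  rw [normalizerCondition_iff_only_full_group_self_normalizing] at hNC
  have hcm : (X.map (QuotientGroup.mk' N)).comap (QuotientGroup.mk' N) = X := by
    rw [QuotientGroup.comap_map_mk', sup_eq_right.mpr hNX]
  have htop : (X.map (QuotientGroup.mk' N)).subgroupOf Kb = ⊤ := by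
    apply hNC
    apply le_antisymm _ Subgroup.le_normalizer
    rintro ⟨q, hq⟩ hqn
    obtain ⟨y, rfl⟩ := QuotientGroup.mk'_surjective N q
    have hyK : y ∈ Kb.comap (QuotientGroup.mk' N) := hq
    have hyn : y ∈ Subgroup.normalizer (X : Set G) := by
      apply mem_normalizer_of_conj_smul_le
      intro z hz
      rw [mem_conj_smul] at hz
      have hwK : QuotientGroup.mk' N (y⁻¹ * z * y) ∈ Kb := hXK hz
      have h1 := (Subgroup.mem_normalizer_iff.mp hqn
        ⟨QuotientGroup.mk' N (y⁻¹ * z * y), hwK⟩).mp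
        (by rw [Subgroup.mem_subgroupOf]; exact Subgroup.mem_map_of_mem _ hz)
      rw [Subgroup.mem_subgroupOf] at h1
      have h2 : QuotientGroup.mk' N z ∈ X.map (QuotientGroup.mk' N) := by
        have h3 : ((⟨QuotientGroup.mk' N y, hq⟩ * ⟨QuotientGroup.mk' N (y⁻¹ * z * y), hwK⟩ *
          (⟨QuotientGroup.mk' N y, hq⟩ : ↥Kb)⁻¹ : ↥Kb) : G ⧸ N) = QuotientGroup.mk' N z := by
          simp only [Subgroup.coe_mul, Subgroup.coe_inv, ← map_inv, ← map_mul]
          congr 1
          group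
        rwa [h3] at h1
      have h4 : z ∈ (X.map (QuotientGroup.mk' N)).comap (QuotientGroup.mk' N) := h2
      rwa [hcm] at h4
    rw [Subgroup.mem_subgroupOf]
    exact Subgroup.mem_map_of_mem _ (hsn y hyK hyn)
  apply le_antisymm hXK
  intro x hx
  have h1 : (⟨QuotientGroup.mk' N x, hx⟩ : ↥Kb) ∈ (X.map (QuotientGroup.mk' N)).subgroupOf Kb := by
    rw [htop]
    trivial
  rw [Subgroup.mem_subgroupOf] at h1
  have h2 : x ∈ (X.map (QuotientGroup.mk' N)).comap (QuotientGroup.mk' N) := h1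
  rwa [hcm] at h2

end basic


section main

variable {G : Type u} [Group G]

theorem exists_relCar [Finite G] [Group.IsSolvable G]
    (hex : ∀ (H : Type u) [Group H] [Finite H] [Group.IsSolvable H], Nat.card H < Nat.card G →
      ∃ C : Subgroup H, Car C) {K : Subgroup G} (hK : K ≠ ⊤) :
    ∃ C, RelCar C K := by
  obtain ⟨C', hC'⟩ := hex ↥K (card_lt_of_ne_top hK)
  exact ⟨_, relCar_map_subtype hC'⟩

theorem conj_relCar [Finite G] [Group.IsSolvable G]
    (hconj : ∀ (H : Type u) [Group H] [Finite H] [Group.IsSolvable H], Nat.card H < Nat.card G →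
      ∀ C D : Subgroup H, Car C → Car D → ∃ g : H, MulAut.conj g • C = D)
    {K C D : Subgroup G} (hK : K ≠ ⊤) (hC : RelCar C K) (hD : RelCar D K) :
    ∃ k ∈ K, MulAut.conj k • C = D := by
  obtain ⟨k, hk⟩ := hconj ↥K (card_lt_of_ne_top hK) _ _ hC.subgroupOf hD.subgroupOf
  refine ⟨(k : G), k.2, ?_⟩
  have h1 := congrArg (Subgroup.map K.subtype) hk
  rw [Cfsg.Agent.S0539.map_conj_smul_subtype, Subgroup.map_subgroupOf_eq_of_le hC.1,
    Subgroup.map_subgroupOf_eq_of_le hD.1] at h1
  exact h1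

theorem normalizer_normalizer_of_hall {H : Type*} [Group H] [Finite H] (Q : Subgroup H)
    (hc : (Nat.card Q).Coprime Q.index) :
    Subgroup.normalizer ((Subgroup.normalizer (Q : Set H) : Subgroup H) : Set H)
      = Subgroup.normalizer (Q : Set H) := by
  apply le_antisymm _ Subgroup.le_normalizer
  intro y hy
  apply mem_normalizer_of_conj_smul_le
  intro z hz
  have hzT : z ∈ Subgroup.normalizer (Q : Set H) := by
    have h1 : MulAut.conj y • Q ≤ MulAut.conj y • Subgroup.normalizer (Q : Set H) :=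
      Subgroup.pointwise_smul_le_pointwise_smul_iff.mpr Subgroup.le_normalizer
    rw [conj_smul_eq_of_mem_normalizer y _ hy] at h1
    exact h1 hz
  apply Cfsg.Agent.S0544.mem_of_coprime_index Q hzT
  have h2 : orderOf z ∣ Nat.card Q := by
    have h3 := Subgroup.orderOf_dvd_natCard _ hz
    rwa [card_conj_smul] at h3
  exact Nat.Coprime.coprime_dvd_left h2 hc

theorem hall_normal_of_nilpotent {H : Type*} [Group H] [Finite H] [Group.IsNilpotent H]
    (Q : Subgroup H) (hc : (Nat.card Q).Coprime Q.index) : Q.Normal := by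
  rw [← Subgroup.normalizer_eq_top_iff]
  have hNC : NormalizerCondition H := Group.normalizerCondition_of_isNilpotent
  rw [normalizerCondition_iff_only_full_group_self_normalizing] at hNC
  exact hNC _ (normalizer_normalizer_of_hall Q hc)

theorem exists_car_of_quotient_nilpotent [Finite G] [Group.IsSolvable G] {N : Subgroup G}
    [N.Normal] {p : ℕ} (hp : p.Prime) (hNp : IsPGroup p N)
    (hnil : Group.IsNilpotent (G ⧸ N)) : ∃ C : Subgroup G, Car C := by
  haveI : Fact p.Prime := ⟨hp⟩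
  obtain ⟨a, m, hpm, hG⟩ := Nat.exists_eq_pow_mul_and_not_dvd (n := Nat.card G)
    Nat.card_pos.ne' p hp.ne_one
  have hcopp : m.Coprime p := (hp.coprime_iff_not_dvd.mpr hpm).symm
  have hcop : m.Coprime (p ^ a) := hcopp.pow_right a
  have hm0 : 0 < m := by
    rcases Nat.eq_zero_or_pos m with h | h
    · exfalso
      rw [h, mul_zero] at hG
      exact Nat.card_pos.ne' hG
    · exact h
  obtain ⟨Q, hQ⟩ := Cfsg.Agent.S0003.result (G := G) m (p ^ a) (by rw [hG, mul_comm]) hcop
  have hQi : Q.index = p ^ a := by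
    have h1 := Q.card_mul_index
    rw [hQ, hG, mul_comm (p ^ a) m] at h1
    exact Nat.eq_of_mul_eq_mul_left hm0 h1
  refine ⟨Subgroup.normalizer (Q : Set G), ?_,
    normalizer_normalizer_of_hall Q (by rw [hQ, hQi]; exact hcop)⟩
  obtain ⟨C, hCdef⟩ : ∃ C : Subgroup G, C = Subgroup.normalizer (Q : Set G) := ⟨_, rfl⟩
  rw [← hCdef]
  have hQC : Q ≤ C := hCdef ▸ Subgroup.le_normalizer
  haveI hQn : (Q.subgroupOf C).Normal := by
    rw [hCdef]
    exact Subgroup.normal_in_normalizer
  have hcard : Nat.card (↥C ⧸ Q.subgroupOf C) ∣ p ^ a := by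
    have h1 := Subgroup.card_eq_card_quotient_mul_card_subgroup (Q.subgroupOf C)
    have h2 : Nat.card (Q.subgroupOf C) = m := by
      rw [← hQ]
      exact Nat.card_congr (Subgroup.subgroupOfEquivOfLe hQC).toEquiv
    have h3 : Nat.card C ∣ Nat.card G := Subgroup.card_subgroup_dvd_card C
    rw [h1, h2, hG] at h3
    exact Nat.dvd_of_mul_dvd_mul_right hm0 h3
  obtain ⟨j, -, hj⟩ := (Nat.dvd_prime_pow hp).mp hcard
  haveI : Group.IsNilpotent (↥C ⧸ Q.subgroupOf C) := (IsPGroup.of_card hj).isNilpotent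
  haveI := hnil
  let f : ↥C →* (↥C ⧸ Q.subgroupOf C) × (G ⧸ N) :=
    (QuotientGroup.mk' (Q.subgroupOf C)).prod ((QuotientGroup.mk' N).comp C.subtype)
  have hinj : Function.Injective f := by
    rw [← MonoidHom.ker_eq_bot_iff, eq_bot_iff]
    intro x hx
    rw [MonoidHom.mem_ker] at hx
    have hx1 : QuotientGroup.mk' (Q.subgroupOf C) x = 1 := congrArg Prod.fst hx
    have hx2 : QuotientGroup.mk' N (x : G) = 1 := congrArg Prod.snd hx
    have hxQ : (x : G) ∈ Q := (QuotientGroup.eq_one_iff x).mp hx1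
    have hxN : (x : G) ∈ N := (QuotientGroup.eq_one_iff (x : G)).mp hx2
    have h1 : orderOf (x : G) ∣ m := hQ ▸ Subgroup.orderOf_dvd_natCard _ hxQ
    obtain ⟨k, hk⟩ := IsPGroup.iff_card.mp hNp
    have h2 : orderOf (x : G) ∣ p ^ k := hk ▸ Subgroup.orderOf_dvd_natCard _ hxN
    have h3 : orderOf (x : G) = 1 := Nat.eq_one_of_dvd_coprimes (hcopp.pow_right k) h1 h2
    rw [Subgroup.mem_bot]
    exact Subtype.ext (orderOf_eq_one_iff.mp h3)
  exact Group.nilpotent_of_mulEquiv (MonoidHom.ofInjective hinj).symm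

theorem exists_car_step [Finite G] [Group.IsSolvable G]
    (hex : ∀ (H : Type u) [Group H] [Finite H] [Group.IsSolvable H], Nat.card H < Nat.card G →
      ∃ C : Subgroup H, Car C)
    (hconj : ∀ (H : Type u) [Group H] [Finite H] [Group.IsSolvable H], Nat.card H < Nat.card G →
      ∀ C D : Subgroup H, Car C → Car D → ∃ g : H, MulAut.conj g • C = D) :
    ∃ C : Subgroup G, Car C := by
  by_cases htop : (⊤ : Subgroup G) = ⊥
  · haveI : Subsingleton G := Subgroup.subsingleton_iff.mp (subsingleton_of_bot_eq_top htop.symm)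
    haveI : Group.IsNilpotent G := Group.isNilpotent_of_subsingleton
    exact ⟨⊤, Group.nilpotent_of_mulEquiv Subgroup.topEquiv.symm,
      top_le_iff.mp Subgroup.le_normalizer⟩
  obtain ⟨N, hNn, hNne, -, hNmin⟩ :=
    Cfsg.Agent.H1.exists_minimal_normal_le (⊤ : Subgroup G) htop
  haveI := hNn
  obtain ⟨-, p, hp, hexp⟩ := Cfsg.Agent.S0043.result N hNne hNmin
  have hNp : IsPGroup p N := by
    rintro ⟨x, hx⟩
    refine ⟨1, ?_⟩
    rw [pow_one]
    exact Subtype.ext (hexp x hx)
  obtain ⟨Kb, hKb⟩ := hex (G ⧸ N) (card_quotient_lt hNne)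
  have hsurj := QuotientGroup.mk'_surjective N
  by_cases hK : Kb.comap (QuotientGroup.mk' N) = ⊤
  · have hKb' : Kb = ⊤ := by
      rw [← Subgroup.map_comap_eq_self_of_surjective hsurj Kb, hK,
        Subgroup.map_top_of_surjective _ hsurj]
    subst hKb'
    haveI := hKb.1
    exact exists_car_of_quotient_nilpotent hp hNp (Group.nilpotent_of_mulEquiv Subgroup.topEquiv)
  · have hconj' : ∀ M : Subgroup G, M ≠ ⊤ → ∀ C D, RelCar C M → RelCar D M →
        ∃ k ∈ M, MulAut.conj k • C = D := fun M hM C D hC hD => conj_relCar hconj hM hC hD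
    obtain ⟨C, hC⟩ := exists_relCar hex hK
    have hNK : N ≤ Kb.comap (QuotientGroup.mk' N) := by
      intro x hx
      show QuotientGroup.mk' N x ∈ Kb
      have h1 : QuotientGroup.mk' N x = 1 := (QuotientGroup.eq_one_iff x).mpr hx
      rw [h1]
      exact Kb.one_mem
    have hsn := selfNormalizing_sup hconj' hC hNK
    have hCN : C ⊔ N = Kb.comap (QuotientGroup.mk' N) :=
      eq_comap_of_selfNormalizing Kb hKb.1 le_sup_right (sup_le hC.1 hNK) hsn
    refine ⟨C, hC.2.1, le_antisymm ?_ Subgroup.le_normalizer⟩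
    intro x hx
    refine hC.2.2 x ?_ hx
    have h1 : MulAut.conj x • (C ⊔ N) = C ⊔ N := by
      rw [Subgroup.smul_sup, conj_smul_eq_of_mem_normalizer x C hx,
        Subgroup.Normal.conj_smul_eq_self]
    have h2 : x ∈ Subgroup.normalizer
        ((Kb.comap (QuotientGroup.mk' N) : Subgroup G) : Set G) := by
      rw [← hCN]
      exact mem_normalizer_of_conj_smul_le _ _ h1.le
    rw [← Subgroup.comap_normalizer_eq_of_surjective _ hsurj, hKb.2] at h2
    exact h2

theorem exists_hall_normalized [Finite G] [Group.IsSolvable G] {C N : Subgroup G} [N.Normal]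
    {p a m k : ℕ} (hp : p.Prime) (hG : Nat.card G = p ^ a * m) (hpm : ¬ p ∣ m)
    (hN : Nat.card N = p ^ k) (hCnil : Group.IsNilpotent C) (hCN : C ⊔ N = ⊤) :
    ∃ Q : Subgroup G, Nat.card Q = m ∧ Q ≤ C ∧ C ≤ Subgroup.normalizer (Q : Set G) := by
  have hm0 : 0 < m := by
    rcases Nat.eq_zero_or_pos m with h | h
    · exfalso
      rw [h, mul_zero] at hG
      exact Nat.card_pos.ne' hG
    · exact h
  have hcopp : m.Coprime p := (hp.coprime_iff_not_dvd.mpr hpm).symm
  have h1 := Cfsg.Agent.Lib.Lead.ProdCard.card_mul_card_eq C N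
  rw [← Subgroup.mul_normal, hCN, Subgroup.coe_top, Set.ncard_univ, hN, hG] at h1
  have hmC : m ∣ Nat.card C := by
    apply (hcopp.pow_right k).dvd_of_dvd_mul_right
    rw [h1]
    exact (dvd_mul_left m (p ^ a)).mul_right _
  obtain ⟨c, hc⟩ := hmC
  have hcpa : c ∣ p ^ a := by
    have h3 : Nat.card C ∣ Nat.card G := Subgroup.card_subgroup_dvd_card C
    rw [hc, hG, mul_comm (p ^ a) m] at h3
    exact Nat.dvd_of_mul_dvd_mul_left hm0 h3
  have hcop : m.Coprime c := Nat.Coprime.coprime_dvd_right hcpa (hcopp.pow_right a)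
  obtain ⟨Q', hQ'⟩ := Cfsg.Agent.S0003.result (G := ↥C) m c hc hcop
  haveI := hCnil
  have hQ'i : Q'.index = c := by
    have h4 := Q'.card_mul_index
    rw [hQ', hc] at h4
    exact Nat.eq_of_mul_eq_mul_left hm0 h4
  haveI hQ'n : Q'.Normal := hall_normal_of_nilpotent Q' (by rw [hQ', hQ'i]; exact hcop)
  refine ⟨Q'.map C.subtype, ?_, Subgroup.map_subtype_le Q', ?_⟩
  · rw [Subgroup.card_map_of_injective C.subtype_injective, hQ']
  · intro x hx
    apply mem_normalizer_of_conj_smul_le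
    have h5 := Cfsg.Agent.S0539.map_conj_smul_subtype C ⟨x, hx⟩ Q'
    rw [Subgroup.Normal.conj_smul_eq_self] at h5
    exact h5.symm.le

theorem conj_of_sup_eq_top [Finite G] [Group.IsSolvable G]
    (hconj : ∀ M : Subgroup G, M ≠ ⊤ → ∀ C D, RelCar C M → RelCar D M →
      ∃ k ∈ M, MulAut.conj k • C = D)
    {C D N : Subgroup G} [N.Normal] {p : ℕ} (hp : p.Prime) (hNp : IsPGroup p N)
    (hC : Car C) (hD : Car D) (hCN : C ⊔ N = ⊤) (hDN : D ⊔ N = ⊤) :
    ∃ g : G, MulAut.conj g • C = D := by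
  haveI : Fact p.Prime := ⟨hp⟩
  obtain ⟨a, m, hpm, hG⟩ := Nat.exists_eq_pow_mul_and_not_dvd (n := Nat.card G)
    Nat.card_pos.ne' p hp.ne_one
  obtain ⟨k, hk⟩ := IsPGroup.iff_card.mp hNp
  have hcop : m.Coprime (p ^ a) := ((hp.coprime_iff_not_dvd.mpr hpm).symm).pow_right a
  have hm0 : 0 < m := by
    rcases Nat.eq_zero_or_pos m with h | h
    · exfalso
      rw [h, mul_zero] at hG
      exact Nat.card_pos.ne' hG
    · exact h
  obtain ⟨QC, hQCc, hQCle, hQCn⟩ := exists_hall_normalized hp hG hpm hk hC.1 hCN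
  obtain ⟨QD, hQDc, hQDle, hQDn⟩ := exists_hall_normalized hp hG hpm hk hD.1 hDN
  obtain ⟨g, hg⟩ := Cfsg.Agent.S0004.result (G := G) m (p ^ a) (by rw [hG, mul_comm]) hcop
    QC QD hQCc hQDc
  have hC₁ : Car (MulAut.conj g • C) := car_conj hC g
  have hQle : QD ≤ MulAut.conj g • C := by
    rw [← hg]
    exact Subgroup.pointwise_smul_le_pointwise_smul_iff.mpr hQCle
  have hC₁T : MulAut.conj g • C ≤ Subgroup.normalizer (QD : Set G) := by
    rw [← hg, normalizer_conj_smul]
    exact Subgroup.pointwise_smul_le_pointwise_smul_iff.mpr hQCn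
  suffices h : ∃ h : G, MulAut.conj h • (MulAut.conj g • C) = D by
    obtain ⟨h, hh⟩ := h
    exact ⟨h * g, by rw [map_mul, mul_smul]; exact hh⟩
  by_cases hT : Subgroup.normalizer (QD : Set G) = ⊤
  · haveI hQn : QD.Normal := Subgroup.normalizer_eq_top_iff.mp hT
    have hcq : Nat.card (G ⧸ QD) = p ^ a := by
      have h1 := Subgroup.card_eq_card_quotient_mul_card_subgroup QD
      rw [hQDc, hG] at h1
      exact (Nat.eq_of_mul_eq_mul_right hm0 h1).symm
    haveI : Group.IsNilpotent (G ⧸ QD) := (IsPGroup.of_card hcq).isNilpotent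
    have e1 : MulAut.conj g • C = ⊤ := by
      have h2 := eq_comap_of_selfNormalizing (N := QD) (X := MulAut.conj g • C) ⊤ inferInstance
        hQle (by rw [Subgroup.comap_top]; exact le_top)
        (fun x _ hx => by rw [hC₁.2] at hx; exact hx)
      rw [h2, Subgroup.comap_top]
    have e2 : D = ⊤ := by
      have h2 := eq_comap_of_selfNormalizing (N := QD) (X := D) ⊤ inferInstance
        hQDle (by rw [Subgroup.comap_top]; exact le_top)
        (fun x _ hx => by rw [hD.2] at hx; exact hx)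
      rw [h2, Subgroup.comap_top]
    exact ⟨1, by rw [map_one, one_smul, e1, e2]⟩
  · obtain ⟨k', -, hk'⟩ := hconj _ hT _ _ (RelCar.of_car hC₁ hC₁T) (RelCar.of_car hD hQDn)
    exact ⟨k', hk'⟩

theorem conj_step [Finite G] [Group.IsSolvable G]
    (hconj : ∀ (H : Type u) [Group H] [Finite H] [Group.IsSolvable H], Nat.card H < Nat.card G →
      ∀ C D : Subgroup H, Car C → Car D → ∃ g : H, MulAut.conj g • C = D)
    {C D : Subgroup G} (hC : Car C) (hD : Car D) : ∃ g : G, MulAut.conj g • C = D := by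
  by_cases htop : (⊤ : Subgroup G) = ⊥
  · haveI : Subsingleton (Subgroup G) := subsingleton_of_bot_eq_top htop.symm
    exact ⟨1, Subsingleton.elim _ _⟩
  obtain ⟨N, hNn, hNne, -, hNmin⟩ :=
    Cfsg.Agent.H1.exists_minimal_normal_le (⊤ : Subgroup G) htop
  haveI := hNn
  obtain ⟨-, p, hp, hexp⟩ := Cfsg.Agent.S0043.result N hNne hNmin
  have hNp : IsPGroup p N := by
    rintro ⟨x, hx⟩
    refine ⟨1, ?_⟩
    rw [pow_one]
    exact Subtype.ext (hexp x hx)
  have hconj' : ∀ M : Subgroup G, M ≠ ⊤ → ∀ C D, RelCar C M → RelCar D M →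
      ∃ k ∈ M, MulAut.conj k • C = D := fun M hM C D hC hD => conj_relCar hconj hM hC hD
  have hsn : ∀ C : Subgroup G, Car C →
      Subgroup.normalizer ((C ⊔ N : Subgroup G) : Set G) = C ⊔ N := by
    intro C hC
    apply le_antisymm _ Subgroup.le_normalizer
    intro x hx
    exact selfNormalizing_sup hconj' (relCar_top hC) le_top x (Subgroup.mem_top x) hx
  obtain ⟨g, hg⟩ := exists_conj_sup_eq hNne hconj hC hD (hsn C hC) (hsn D hD)
  have hC₁ : Car (MulAut.conj g • C) := car_conj hC g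
  suffices h : ∃ h : G, MulAut.conj h • (MulAut.conj g • C) = D by
    obtain ⟨h, hh⟩ := h
    exact ⟨h * g, by rw [map_mul, mul_smul]; exact hh⟩
  by_cases hK : D ⊔ N = ⊤
  · exact conj_of_sup_eq_top hconj' hp hNp hC₁ hD (hg.trans hK) hK
  · obtain ⟨k, -, hk⟩ := hconj' (D ⊔ N) hK _ _
      (RelCar.of_car hC₁ (hg ▸ le_sup_left)) (RelCar.of_car hD le_sup_left)
    exact ⟨k, hk⟩

/-- Carter's theorem. -/
theorem carter_aux (n : ℕ) : ∀ (G : Type u) [Group G] [Finite G] [Group.IsSolvable G],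
    Nat.card G = n →
    (∃ C : Subgroup G, Car C) ∧
      ∀ C D : Subgroup G, Car C → Car D → ∃ g : G, MulAut.conj g • C = D := by
  induction n using Nat.strong_induction_on with
  | _ n ih =>
    intro G _ _ _ hn
    have hex : ∀ (H : Type u) [Group H] [Finite H] [Group.IsSolvable H],
        Nat.card H < Nat.card G → ∃ C : Subgroup H, Car C :=
      fun H _ _ _ hlt => (ih (Nat.card H) (hn ▸ hlt) H rfl).1
    have hconj : ∀ (H : Type u) [Group H] [Finite H] [Group.IsSolvable H],
        Nat.card H < Nat.card G →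
        ∀ C D : Subgroup H, Car C → Car D → ∃ g : H, MulAut.conj g • C = D :=
      fun H _ _ _ hlt => (ih (Nat.card H) (hn ▸ hlt) H rfl).2
    exact ⟨exists_car_step hex hconj, fun C D hC hD => conj_step hconj hC hD⟩

theorem carter {G : Type u} [Group G] [Finite G] [Group.IsSolvable G] :
    (∃ C : Subgroup G, Car C) ∧
      ∀ C D : Subgroup G, Car C → Car D → ∃ g : G, MulAut.conj g • C = D :=
  carter_aux (Nat.card G) G rfl

end main

end Cfsg.Agent.Lib.Lead.Carter
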