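import Mathlib
import Cfsg.Agent.Lib.Lead.ProdCard

/-!
# Subgroups of coprime indices; common elements of cosets
-/

set_option autoImplicit false

namespace Cfsg.Agent.Lib.Lead.HallSystem

open scoped Pointwise

variable {G : Type*} [Group G] [Finite G]

theorem index_inf_of_coprime (A B : Subgroup G) (h : Nat.Coprime A.index B.index) :
    (A ⊓ B).index = A.index * B.index := by
  apply le_antisymm Subgroup.index_inf_le
  apply Nat.le_of_dvd (Nat.pos_of_ne_zero Subgroup.index_ne_zero_of_finite)
  exact Nat.Coprime.mul_dvd_of_dvd_of_dvd h (Subgroup.index_dvd_of_le inf_le_left)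
    (Subgroup.index_dvd_of_le inf_le_right)

theorem exists_mul_of_coprime (A B : Subgroup G) (h : Nat.Coprime A.index B.index) (g : G) :
    ∃ a ∈ A, ∃ b ∈ B, g = a * b := by
  have h1 := Cfsg.Agent.Lib.Lead.ProdCard.card_mul_card_eq A B
  have h2 := index_inf_of_coprime A B h
  have hA := A.card_mul_index
  have hB := B.card_mul_index
  have hAB := (A ⊓ B).card_mul_index
  have hn : ((A : Set G) * (B : Set G)).ncard = Nat.card G := by
    have : ((A : Set G) * (B : Set G)).ncard * Nat.card G = Nat.card G * Nat.card G := by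
      calc ((A : Set G) * (B : Set G)).ncard * Nat.card G
          = ((A : Set G) * (B : Set G)).ncard * (Nat.card ↥(A ⊓ B) * (A ⊓ B).index) := by
            rw [hAB]
        _ = (((A : Set G) * (B : Set G)).ncard * Nat.card ↥(A ⊓ B)) * (A.index * B.index) := by
            rw [h2]; ring
        _ = (Nat.card ↥A * Nat.card ↥B) * (A.index * B.index) := by rw [h1]
        _ = (Nat.card ↥A * A.index) * (Nat.card ↥B * B.index) := by ring
        _ = Nat.card G * Nat.card G := by rw [hA, hB]
    exact Nat.eq_of_mul_eq_mul_right Nat.card_pos this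
  have huniv : (A : Set G) * (B : Set G) = Set.univ := by
    apply Set.eq_of_subset_of_ncard_le (Set.subset_univ _)
    rw [hn, Set.ncard_univ]
  have hg : g ∈ (A : Set G) * (B : Set G) := by rw [huniv]; trivial
  obtain ⟨a, ha, b, hb, rfl⟩ := hg
  exact ⟨a, ha, b, hb, rfl⟩

/-- Cosets of subgroups with pairwise coprime prime-power indices have a common element. -/
theorem exists_common (I : Finset ℕ) (hI : ∀ p ∈ I, p.Prime) (N : ℕ → Subgroup G) (e : ℕ → ℕ)
    (hN : ∀ p ∈ I, (N p).index = p ^ e p) (x : ℕ → G) :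
    (∃ g : G, ∀ p ∈ I, (x p)⁻¹ * g ∈ N p) ∧ (⨅ p ∈ I, N p).index = ∏ p ∈ I, p ^ e p := by
  classical
  induction I using Finset.induction_on with
  | empty =>
    refine ⟨⟨1, fun p hp => absurd hp (Finset.notMem_empty p)⟩, ?_⟩
    simp
  | insert q I hq ih =>
    obtain ⟨⟨g₀, hg₀⟩, hidx⟩ := ih (fun p hp => hI p (Finset.mem_insert_of_mem hp))
      (fun p hp => hN p (Finset.mem_insert_of_mem hp))
    have hcop : Nat.Coprime (⨅ p ∈ I, N p).index (N q).index := by
      rw [hidx, hN q (Finset.mem_insert_self q I)]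
      apply Nat.Coprime.prod_left
      intro p hp
      apply Nat.Coprime.pow
      apply (Nat.coprime_primes (hI p (Finset.mem_insert_of_mem hp))
        (hI q (Finset.mem_insert_self q I))).mpr
      intro h
      exact hq (h ▸ hp)
    constructor
    · obtain ⟨m, hm, n, hn, hmn⟩ := exists_mul_of_coprime (⨅ p ∈ I, N p) (N q) hcop (g₀⁻¹ * x q)
      refine ⟨g₀ * m, ?_⟩
      intro p hp
      rw [Finset.mem_insert] at hp
      rcases hp with rfl | hp
      · have hx : x p = g₀ * (m * n) := by rw [← hmn]; group
        have : (x p)⁻¹ * (g₀ * m) = n⁻¹ := by rw [hx]; group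
        rw [this]; exact Subgroup.inv_mem _ hn
      · have hm' : m ∈ N p := by
          simp only [Subgroup.mem_iInf] at hm
          exact hm p hp
        have : (x p)⁻¹ * (g₀ * m) = ((x p)⁻¹ * g₀) * m := by group
        rw [this]; exact Subgroup.mul_mem _ (hg₀ p hp) hm'
    · rw [Finset.iInf_insert, Finset.prod_insert hq, index_inf_of_coprime _ _ hcop.symm, hidx,
        hN q (Finset.mem_insert_self q I)]

end Cfsg.Agent.Lib.Lead.HallSystem
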