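import Mathlib
import Cfsg.Prelude.Def_SolvableStructure
import Cfsg.Agent.S0043
import Cfsg.Agent.S0544
import Cfsg.Agent.S0545
import Cfsg.Agent.H1.FrattiniExtra

/-! System normalizers avoid eccentric minimal normal subgroups (lead). -/

set_option autoImplicit false

namespace Cfsg.Agent.Lib.Lead.SysNorm

open scoped Pointwise

universe u

variable {G : Type u} [Group G]

theorem sup_eq_of_coprime_relIndex (X Y F : Subgroup G) (hX : X ≤ F) (hY : Y ≤ F)
    (hcop : (X.relIndex F).Coprime (Y.relIndex F)) : X ⊔ Y = F := by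
  apply le_antisymm (sup_le hX hY)
  rw [← Subgroup.relIndex_eq_one]
  have h1 : (X ⊔ Y).relIndex F ∣ X.relIndex F := Subgroup.relIndex_dvd_of_le_left F le_sup_left
  have h2 : (X ⊔ Y).relIndex F ∣ Y.relIndex F := Subgroup.relIndex_dvd_of_le_left F le_sup_right
  exact Nat.eq_one_of_dvd_coprimes hcop h1 h2

theorem commute_of_mem_sup (X Y : Subgroup G) (d : G) (hX : ∀ x ∈ X, x * d = d * x)
    (hY : ∀ y ∈ Y, y * d = d * y) : ∀ f ∈ X ⊔ Y, f * d = d * f := by
  intro f hf
  have hle : X ⊔ Y ≤ Subgroup.centralizer ({d} : Set G) := by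
    apply sup_le
    · intro x hx
      rw [Subgroup.mem_centralizer_iff]
      intro h hh
      rw [Set.mem_singleton_iff] at hh
      rw [hh]; exact (hX x hx).symm
    · intro x hx
      rw [Subgroup.mem_centralizer_iff]
      intro h hh
      rw [Set.mem_singleton_iff] at hh
      rw [hh]; exact (hY x hx).symm
  have := Subgroup.mem_centralizer_iff.mp (hle hf) d (Set.mem_singleton d)
  exact this.symm

theorem exists_commuting_of_pgroup [Finite G] {p : ℕ} [hp : Fact p.Prime] (P M : Subgroup G)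
    [hMn : M.Normal] (hP : IsPGroup p ↥P) (hM : IsPGroup p ↥M) (hMne : M ≠ ⊥) :
    ∃ m ∈ M, m ≠ 1 ∧ ∀ x ∈ P, x * m = m * x := by
  letI act : MulAction ↥P ↥M :=
    { smul := fun z w => ⟨(z : G) * (w : G) * (z : G)⁻¹, hMn.conj_mem _ w.2 _⟩
      one_smul := fun w => Subtype.ext (by
        show ((1 : ↥P) : G) * (w : G) * ((1 : ↥P) : G)⁻¹ = w
        simp)
      mul_smul := fun z z' w => Subtype.ext (by
        show ((z * z' : ↥P) : G) * (w : G) * ((z * z' : ↥P) : G)⁻¹ =
          (z : G) * ((z' : G) * (w : G) * (z' : G)⁻¹) * (z : G)⁻¹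
        simp [mul_assoc]) }
  have hsmul : ∀ (z : ↥P) (w : ↥M), ((z • w : ↥M) : G) = (z : G) * (w : G) * (z : G)⁻¹ :=
    fun z w => rfl
  have hdvd : p ∣ Nat.card ↥M := by
    rcases hM.card_eq_or_dvd with h | h
    · exact absurd (Subgroup.card_eq_one.mp h) hMne
    · exact h
  have h1fix : (1 : ↥M) ∈ MulAction.fixedPoints ↥P ↥M := by
    intro z
    apply Subtype.ext
    rw [hsmul]
    simp
  obtain ⟨b, hb, hb1⟩ := hP.exists_fixed_point_of_prime_dvd_card_of_fixed_point ↥M hdvd h1fix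
  refine ⟨(b : G), b.2, fun h => hb1 (Subtype.ext h).symm, ?_⟩
  intro x hx
  have := hb ⟨x, hx⟩
  have h' := congrArg Subtype.val this
  rw [hsmul] at h'
  have h'' : x * (b : G) * x⁻¹ = b := h'
  calc x * (b : G) = x * b * x⁻¹ * x := by group
    _ = b * x := by rw [h'']

/-- A system normalizer meets an eccentric minimal normal subgroup trivially. -/
theorem minimal_normal_avoid {H : Type u} [Group H] [Finite H] [Group.IsSolvable H]
    (L : Nat.Primes → Subgroup H) (hL : Cfsg.IsComplementSystem L)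
    (M : Subgroup H) [hMn : M.Normal] (hMne : M ≠ ⊥)
    (hmin : ∀ N : Subgroup H, N.Normal → N ≤ M → N = ⊥ ∨ N = M)
    (hnc : ¬ M ≤ Subgroup.center H) : M ⊓ Cfsg.systemNormalizer L = ⊥ := by
  classical
  obtain ⟨hMcomm, p, hp, hexp⟩ := Cfsg.Agent.S0043.result M hMne hmin
  haveI : Fact p.Prime := ⟨hp⟩
  have hMp : IsPGroup p ↥M := by
    intro x
    refine ⟨1, ?_⟩
    rw [pow_one]
    apply Subtype.ext
    rw [Subgroup.coe_pow]
    exact hexp x x.2
  obtain ⟨C, hC⟩ : ∃ C, C = Subgroup.centralizer (M : Set H) := ⟨_, rfl⟩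
  haveI hCn : C.Normal := by rw [hC]; infer_instance
  have hCmem : ∀ g, g ∈ C ↔ ∀ m ∈ M, m * g = g * m := by
    intro g; rw [hC]; exact Subgroup.mem_centralizer_iff
  have hCtop : C ≠ ⊤ := by
    intro h
    apply hnc
    intro m hm
    rw [Subgroup.mem_center_iff]
    intro g
    have hg : g ∈ C := by rw [h]; exact Subgroup.mem_top g
    exact ((hCmem g).mp hg m hm).symm
  have hQne : (⊤ : Subgroup (H ⧸ C)) ≠ ⊥ := by
    intro h
    apply hCtop
    rw [eq_top_iff]
    intro g _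
    have : (QuotientGroup.mk' C g) ∈ (⊤ : Subgroup (H ⧸ C)) := Subgroup.mem_top _
    rw [h, Subgroup.mem_bot] at this
    exact (QuotientGroup.eq_one_iff g).mp this
  obtain ⟨Nb, hNbn, hNbne, -, hNbmin⟩ :=
    Cfsg.Agent.H1.exists_minimal_normal_le (⊤ : Subgroup (H ⧸ C)) hQne
  haveI := hNbn
  obtain ⟨-, r, hr, hrexp⟩ := Cfsg.Agent.S0043.result Nb hNbne hNbmin
  haveI : Fact r.Prime := ⟨hr⟩
  obtain ⟨π, hπ⟩ : ∃ π : H →* H ⧸ C, π = QuotientGroup.mk' C := ⟨_, rfl⟩
  have hπs : Function.Surjective π := by rw [hπ]; exact QuotientGroup.mk'_surjective C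
  have hker : ∀ g, π g = 1 ↔ g ∈ C := by
    intro g; rw [hπ]; exact QuotientGroup.eq_one_iff g
  obtain ⟨F, hF⟩ : ∃ F, F = Nb.comap π := ⟨_, rfl⟩
  haveI hFn : F.Normal := by rw [hF]; exact hNbn.comap π
  have hFmem : ∀ g, g ∈ F ↔ π g ∈ Nb := by
    intro g; rw [hF]; exact Subgroup.mem_comap
  have hCF : C ≤ F := by
    intro c hc
    rw [hFmem, (hker c).mpr hc]
    exact Nb.one_mem
  have hFC : ¬ F ≤ C := by
    intro h
    apply hNbne
    rw [eq_bot_iff]
    intro x hx
    obtain ⟨g, rfl⟩ := hπs x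
    have : g ∈ C := h ((hFmem g).mpr hx)
    rw [Subgroup.mem_bot]
    exact (hker g).mpr this
  have hrel : ∃ k, C.relIndex F = r ^ k := by
    have hNbr : IsPGroup r ↥Nb := by
      intro x
      refine ⟨1, ?_⟩
      rw [pow_one]
      apply Subtype.ext
      rw [Subgroup.coe_pow]
      exact hrexp x x.2
    obtain ⟨k, hk⟩ := IsPGroup.iff_card.mp hNbr
    refine ⟨k, ?_⟩
    have h1 : C = (⊥ : Subgroup (H ⧸ C)).comap π := by
      ext g
      rw [Subgroup.mem_comap, Subgroup.mem_bot, hker]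
    have h2 : ((⊥ : Subgroup (H ⧸ C)).comap π).relIndex F = Nat.card ↥Nb := by
      rw [Subgroup.relIndex_comap, hF, Subgroup.map_comap_eq_self_of_surjective hπs,
        Subgroup.relIndex_bot_left]
    rw [← hk, ← h2]
    exact congrArg (fun X => Subgroup.relIndex X F) h1
  have hZ : ∀ z ∈ M, (∀ f ∈ F, f * z = z * f) → z = 1 := by
    intro z hzM hzF
    haveI : (Subgroup.centralizer (F : Set H)).Normal := inferInstance
    haveI hZn : (M ⊓ Subgroup.centralizer (F : Set H)).Normal := inferInstance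
    have hzZ : z ∈ M ⊓ Subgroup.centralizer (F : Set H) :=
      ⟨hzM, Subgroup.mem_centralizer_iff.mpr hzF⟩
    rcases hmin _ hZn inf_le_left with h | h
    · rw [h, Subgroup.mem_bot] at hzZ; exact hzZ
    · exfalso
      apply hFC
      intro f hf
      rw [hCmem]
      intro m hm
      have hmZ : m ∈ M ⊓ Subgroup.centralizer (F : Set H) := by rw [h]; exact hm
      have := Subgroup.mem_centralizer_iff.mp hmZ.2 f hf
      exact this.symm
  have hrp : r ≠ p := by
    intro hrp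
    obtain ⟨k, hk⟩ := hrel
    obtain ⟨P⟩ : Nonempty (Sylow p H) := inferInstance
    have hcop : (((P : Subgroup H) ⊓ F).relIndex F).Coprime (C.relIndex F) := by
      rw [Subgroup.inf_relIndex_right, hk, hrp]
      apply Nat.Coprime.pow_right
      have h1 := Cfsg.Agent.S0545.relIndex_dvd_of_normal (P : Subgroup H) F
      have h2 : ¬ p ∣ (P : Subgroup H).index := P.not_dvd_index
      rw [Nat.coprime_comm]
      exact (Nat.Prime.coprime_iff_not_dvd hp).mpr (fun h => h2 (h.trans h1))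
    have hsup := sup_eq_of_coprime_relIndex ((P : Subgroup H) ⊓ F) C F inf_le_right hCF hcop
    obtain ⟨m, hmM, hm1, hmP⟩ :=
      exists_commuting_of_pgroup (P : Subgroup H) M P.isPGroup' hMp hMne
    apply hm1
    apply hZ m hmM
    intro f hf
    apply commute_of_mem_sup ((P : Subgroup H) ⊓ F) C m
    · intro x hx; exact hmP x hx.1
    · intro c hc; exact ((hCmem c).mp hc m hmM).symm
    · rw [hsup]; exact hf
  obtain ⟨Q, hQ⟩ : ∃ Q, Q = L ⟨p, hp⟩ := ⟨_, rfl⟩
  have hQidx : Q.index = p ^ (Nat.card H).factorization p := by rw [hQ]; exact hL ⟨p, hp⟩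
  have hsupQ : (Q ⊓ F) ⊔ C = F := by
    obtain ⟨k, hk⟩ := hrel
    apply sup_eq_of_coprime_relIndex _ _ _ inf_le_right hCF
    rw [Subgroup.inf_relIndex_right, hk]
    have h1 := Cfsg.Agent.S0545.relIndex_dvd_of_normal Q F
    rw [hQidx] at h1
    apply Nat.Coprime.coprime_dvd_left h1
    apply Nat.Coprime.pow
    exact (Nat.coprime_primes hp hr).mpr (Ne.symm hrp)
  rw [eq_bot_iff]
  intro d hd
  rw [Subgroup.mem_bot]
  obtain ⟨hdM, hdD⟩ := hd
  apply hZ d hdM
  have hdQ : d ∈ Subgroup.normalizer (Q : Set H) := by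
    have this : d ∈ ⨅ q : Nat.Primes, Subgroup.normalizer (L q : Set H) := hdD
    rw [Subgroup.mem_iInf] at this
    rw [hQ]
    exact this ⟨p, hp⟩
  have hQM : ∀ x, x ∈ Q → x ∈ M → x = 1 := by
    intro x hxQ hxM
    have h1 : orderOf x ∣ Nat.card ↥Q := by
      have := orderOf_dvd_natCard (⟨x, hxQ⟩ : ↥Q)
      rwa [Subgroup.orderOf_mk] at this
    have h2 : x ^ p = 1 := hexp x hxM
    have h3 : orderOf x ∣ p := orderOf_dvd_of_pow_eq_one h2
    rcases (Nat.dvd_prime hp).mp h3 with h | h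
    · exact orderOf_eq_one_iff.mp h
    · exfalso
      have h4 := Cfsg.Agent.S0544.not_dvd_card_complement L hL ⟨p, hp⟩
      apply h4
      rw [← hQ]
      show p ∣ Nat.card ↥Q
      rw [← h]; exact h1
  have hdq : ∀ q ∈ Q, q * d = d * q := by
    intro q hq
    have h1 : d * q * d⁻¹ ∈ Q := (Subgroup.mem_normalizer_iff.mp hdQ q).mp hq
    have h2 : d * q * d⁻¹ * q⁻¹ ∈ Q := Q.mul_mem h1 (Q.inv_mem hq)
    have h3 : d * q * d⁻¹ * q⁻¹ ∈ M := by
      have : q * d⁻¹ * q⁻¹ ∈ M := hMn.conj_mem _ (M.inv_mem hdM) q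
      have h := M.mul_mem hdM this
      have e : d * (q * d⁻¹ * q⁻¹) = d * q * d⁻¹ * q⁻¹ := by group
      rwa [e] at h
    have h4 := hQM _ h2 h3
    have : d * q = q * d := by
      calc d * q = (d * q * d⁻¹ * q⁻¹) * (q * d) := by group
        _ = q * d := by rw [h4, one_mul]
    exact this.symm
  intro f hf
  apply commute_of_mem_sup (Q ⊓ F) C d
  · intro x hx; exact hdq x hx.1
  · intro c hc; exact ((hCmem c).mp hc d hdM).symm
  · rw [hsupQ]; exact hf

end Cfsg.Agent.Lib.Lead.SysNorm
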