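import Mathlib
import Cfsg.Agent.Lib.Lead.Carter
import Cfsg.Agent.Lib.Lead.SysNorm
import Cfsg.Agent.S0543
import Cfsg.Agent.S0544
import Cfsg.Agent.S0545
import Cfsg.Agent.S0568

/-!
# Carter subgroups and system normalizers

In a nilpotent-by-nilpotent finite group the system normalizers are self-normalizing, hence are
exactly the Carter subgroups.
-/

set_option autoImplicit false
open Pointwise
open scoped commutatorElement

namespace Cfsg.Agent.Lib.Lead.CarterSys

open Cfsg.Agent.Lib.Lead.Subnormal Cfsg.Agent.Lib.Lead.Carter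

universe u

theorem normal_inf_center_ne_bot_of_nilpotent {H : Type*} [Group H] [Group.IsNilpotent H]
    (N : Subgroup H) [hNn : N.Normal] (hN : N ≠ ⊥) : N ⊓ Subgroup.center H ≠ ⊥ := by
  classical
  obtain ⟨c, hc⟩ := Group.IsNilpotent.nilpotent H
  have hex : ∃ i, N ⊓ Subgroup.upperCentralSeries H i ≠ ⊥ :=
    ⟨c, by rw [hc, inf_top_eq]; exact hN⟩
  obtain ⟨i, hi, himin⟩ : ∃ i, N ⊓ Subgroup.upperCentralSeries H i ≠ ⊥ ∧
      ∀ j < i, N ⊓ Subgroup.upperCentralSeries H j = ⊥ :=
    ⟨Nat.find hex, Nat.find_spec hex, fun j hj => not_not.mp (Nat.find_min hex hj)⟩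
  cases i with
  | zero =>
    exfalso
    apply hi
    rw [Subgroup.upperCentralSeries_zero, inf_bot_eq]
  | succ i =>
    intro hbot
    apply hi
    rw [eq_bot_iff]
    intro x hx
    have hxc : x ∈ N ⊓ Subgroup.center H := by
      refine Subgroup.mem_inf.mpr ⟨(Subgroup.mem_inf.mp hx).1, ?_⟩
      rw [Subgroup.mem_center_iff]
      intro y
      have h1 : ⁅x, y⁆ ∈ N ⊓ Subgroup.upperCentralSeries H i := by
        refine Subgroup.mem_inf.mpr
          ⟨?_, Subgroup.mem_upperCentralSeries_succ_iff.mp (Subgroup.mem_inf.mp hx).2 y⟩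
        rw [commutatorElement_def]
        have h2 : x * y * x⁻¹ * y⁻¹ = x * (y * x⁻¹ * y⁻¹) := by group
        rw [h2]
        exact N.mul_mem (Subgroup.mem_inf.mp hx).1
          (hNn.conj_mem _ (N.inv_mem (Subgroup.mem_inf.mp hx).1) y)
      rw [himin i (Nat.lt_succ_self i), Subgroup.mem_bot,
        commutatorElement_eq_one_iff_mul_comm] at h1
      exact h1.symm
    rw [hbot] at hxc
    exact hxc

theorem sysNorm_eq_top_of_nilpotent {G : Type*} [Group G] [Finite G] [Group.IsNilpotent G]
    (K : Nat.Primes → Subgroup G) (hK : Cfsg.IsComplementSystem K) :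
    Cfsg.systemNormalizer K = ⊤ := by
  unfold Cfsg.systemNormalizer
  rw [iInf_eq_top]
  intro p
  rw [Subgroup.normalizer_eq_top_iff]
  apply hall_normal_of_nilpotent
  rw [hK p]
  exact Nat.Coprime.pow_right _ ((Nat.Prime.coprime_iff_not_dvd p.2).mpr
    (Cfsg.Agent.S0544.not_dvd_card_complement K hK p)).symm

theorem exists_complementSystem {G : Type*} [Group G] [Finite G] [Group.IsSolvable G] :
    ∃ K : Nat.Primes → Subgroup G, Cfsg.IsComplementSystem K := by
  have h : ∀ p : Nat.Primes, ∃ H : Subgroup G,
      H.index = (p : ℕ) ^ (Nat.card G).factorization p := by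
    intro p
    have hn : Nat.card G ≠ 0 := Nat.card_pos.ne'
    have h1 := Nat.ordProj_mul_ordCompl_eq_self (Nat.card G) p
    have h2 := Nat.coprime_ordCompl p.2 hn
    obtain ⟨H, hH⟩ := Cfsg.Agent.S0003.result (G := G)
      (Nat.card G / (p : ℕ) ^ (Nat.card G).factorization p)
      ((p : ℕ) ^ (Nat.card G).factorization p) (by rw [mul_comm]; exact h1.symm)
      (Nat.Coprime.pow_right _ h2.symm)
    refine ⟨H, ?_⟩
    have h3 := H.card_mul_index
    rw [hH] at h3
    have hpos : 0 < Nat.card G / (p : ℕ) ^ (Nat.card G).factorization p := by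
      apply Nat.pos_of_ne_zero
      intro h0
      rw [h0, mul_zero] at h1
      exact hn h1.symm
    apply Nat.eq_of_mul_eq_mul_left hpos
    rw [h3, mul_comm]
    exact h1.symm
  choose K hK using h
  exact ⟨K, hK⟩

theorem index_conj_smul {G : Type*} [Group G] [Finite G] (g : G) (H : Subgroup G) :
    (MulAut.conj g • H).index = H.index := by
  have h1 := (MulAut.conj g • H).card_mul_index
  have h2 := H.card_mul_index
  rw [card_conj_smul] at h1
  exact Nat.eq_of_mul_eq_mul_left Nat.card_pos (h1.trans h2.symm)

theorem conj_complementSystem {G : Type*} [Group G] [Finite G] {K : Nat.Primes → Subgroup G}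
    (hK : Cfsg.IsComplementSystem K) (g : G) :
    Cfsg.IsComplementSystem (fun p => MulAut.conj g • K p) := by
  intro p
  show (MulAut.conj g • K p).index = _
  rw [index_conj_smul, hK p]

theorem sysNorm_conj {G : Type u} [Group G] (K : Nat.Primes → Subgroup G) (g : G) :
    Cfsg.systemNormalizer (fun p => MulAut.conj g • K p)
      = MulAut.conj g • Cfsg.systemNormalizer K := by
  ext x
  unfold Cfsg.systemNormalizer
  rw [mem_conj_smul, Subgroup.mem_iInf, Subgroup.mem_iInf]
  constructor
  · intro h p
    have h1 := h p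
    rw [normalizer_conj_smul, mem_conj_smul] at h1
    exact h1
  · intro h p
    rw [normalizer_conj_smul, mem_conj_smul]
    exact h p

/-- In a nilpotent-by-nilpotent group, system normalizers are self-normalizing. -/
theorem sysNorm_selfNormalizing_aux (n : ℕ) : ∀ (G : Type u) [Group G] [Finite G]
    [Group.IsSolvable G] (F : Subgroup G) [F.Normal], Nat.card G = n → Group.IsNilpotent F →
    Group.IsNilpotent (G ⧸ F) → ∀ K : Nat.Primes → Subgroup G, Cfsg.IsComplementSystem K →
      Subgroup.normalizer ((Cfsg.systemNormalizer K : Subgroup G) : Set G)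
        = Cfsg.systemNormalizer K := by
  induction n using Nat.strong_induction_on with
  | _ n ih =>
    intro G _ _ _ F _ hn hF hGF K hK
    by_cases hFbot : F = ⊥
    · subst hFbot
      haveI : Group.IsNilpotent G := by
        haveI := hGF
        exact Group.nilpotent_of_mulEquiv QuotientGroup.quotientBot
      rw [sysNorm_eq_top_of_nilpotent K hK]
      exact top_le_iff.mp Subgroup.le_normalizer
    obtain ⟨M, hMn, hMne, hMF, hMmin⟩ := Cfsg.Agent.H1.exists_minimal_normal_le F hFbot
    haveI := hMn
    obtain ⟨D, hD⟩ : ∃ D, D = Cfsg.systemNormalizer K := ⟨_, rfl⟩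
    rw [← hD]
    have hsurj := QuotientGroup.mk'_surjective M
    haveI hFbn : (F.map (QuotientGroup.mk' M)).Normal :=
      Subgroup.Normal.map inferInstance _ hsurj
    have hFbnil : Group.IsNilpotent (F.map (QuotientGroup.mk' M)) := by
      haveI := hF
      exact Group.nilpotent_of_surjective _ ((QuotientGroup.mk' M).subgroupMap_surjective F)
    have hQnil : Group.IsNilpotent ((G ⧸ M) ⧸ F.map (QuotientGroup.mk' M)) := by
      haveI := hGF
      have hle : F ≤ (F.map (QuotientGroup.mk' M)).comap (QuotientGroup.mk' M) :=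
        Subgroup.le_comap_map _ _
      refine Group.nilpotent_of_surjective
        (QuotientGroup.map F (F.map (QuotientGroup.mk' M)) (QuotientGroup.mk' M) hle) ?_
      intro q
      obtain ⟨q', rfl⟩ := QuotientGroup.mk'_surjective _ q
      obtain ⟨g, rfl⟩ := hsurj q'
      exact ⟨QuotientGroup.mk' F g, rfl⟩
    obtain ⟨hKb, hDb⟩ := Cfsg.Agent.S0545.result K hK M
    have hIH := ih (Nat.card (G ⧸ M)) (hn ▸ card_quotient_lt hMne) (G ⧸ M)
      (F.map (QuotientGroup.mk' M)) rfl hFbnil hQnil _ hKb
    rw [hDb, ← hD] at hIH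
    have hND : Subgroup.normalizer (D : Set G) ≤ D ⊔ M := by
      intro x hx
      have h1 : QuotientGroup.mk' M x ∈ Subgroup.normalizer
          ((D.map (QuotientGroup.mk' M) : Subgroup (G ⧸ M)) : Set (G ⧸ M)) :=
        Subgroup.le_normalizer_map _ (Subgroup.mem_map_of_mem _ hx)
      rw [hIH] at h1
      have h2 : x ∈ (D.map (QuotientGroup.mk' M)).comap (QuotientGroup.mk' M) := h1
      rw [QuotientGroup.comap_map_mk', sup_comm] at h2
      exact h2
    have hchief := Cfsg.Agent.S0568.result K hK ⊥ M (bot_lt_iff_ne_bot.mpr hMne)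
      (fun N hN _ hNM => hMmin N hN hNM)
    rw [← hD] at hchief
    apply le_antisymm _ Subgroup.le_normalizer
    by_cases hcen : ⁅M, (⊤ : Subgroup G)⁆ ≤ ⊥
    · have hMD : M ≤ D := by
        have h1 := hchief.1 hcen
        rwa [bot_sup_eq] at h1
      rw [sup_eq_left.mpr hMD] at hND
      exact hND
    · have hav : M ⊓ D ≤ ⊥ := hchief.2 hcen
      intro x hx
      have hxs : x ∈ ((D ⊔ M : Subgroup G) : Set G) := hND hx
      rw [Subgroup.mul_normal] at hxs
      obtain ⟨d, hd, m, hm, rfl⟩ := Set.mem_mul.mp hxs
      have hmN : m ∈ Subgroup.normalizer (D : Set G) := by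
        have h1 : m = d⁻¹ * (d * m) := by group
        rw [h1]
        exact Subgroup.mul_mem _ (Subgroup.inv_mem _ (Subgroup.le_normalizer hd)) hx
      have hmD : ∀ d' ∈ D, d' * m = m * d' := by
        intro d' hd'
        have h1 : m * d' * m⁻¹ * d'⁻¹ ∈ M ⊓ D := by
          constructor
          · have h2 : m * d' * m⁻¹ * d'⁻¹ = m * (d' * m⁻¹ * d'⁻¹) := by group
            rw [h2]
            exact M.mul_mem hm (hMn.conj_mem _ (M.inv_mem hm) d')
          · exact D.mul_mem ((Subgroup.mem_normalizer_iff.mp hmN d').mp hd') (D.inv_mem hd')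
        have h2 := hav h1
        rw [Subgroup.mem_bot] at h2
        have h3 : m * d' * m⁻¹ * d'⁻¹ * d' * m = d' * m := by rw [h2, one_mul]
        rw [← h3]
        group
      have hMF' : M ≤ Subgroup.centralizer (F : Set G) := by
        haveI := hF
        haveI : (M.subgroupOf F).Normal := hMn.subgroupOf F
        have hne : M.subgroupOf F ≠ ⊥ := by
          intro h
          rw [Subgroup.subgroupOf_eq_bot, disjoint_iff, inf_eq_left.mpr hMF] at h
          exact hMne h
        have h1 := normal_inf_center_ne_bot_of_nilpotent (M.subgroupOf F) hne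
        rcases Subgroup.bot_or_exists_ne_one (M.subgroupOf F ⊓ Subgroup.center ↥F) with
          h2 | ⟨z, hz, hz1⟩
        · exact absurd h2 h1
        have hzM : (z : G) ∈ M := hz.1
        have hzC : (z : G) ∈ Subgroup.centralizer (F : Set G) := by
          rw [Subgroup.mem_centralizer_iff]
          intro f hf
          have h3 := Subgroup.mem_center_iff.mp hz.2 ⟨f, hf⟩
          exact congrArg Subtype.val h3
        rcases hMmin (M ⊓ Subgroup.centralizer (F : Set G)) inferInstance inf_le_left with
          h | h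
        · exfalso
          have h4 : (z : G) ∈ M ⊓ Subgroup.centralizer (F : Set G) := ⟨hzM, hzC⟩
          rw [h, Subgroup.mem_bot] at h4
          exact hz1 (Subtype.ext h4)
        · rw [← h]
          exact inf_le_right
      have hDF : D ⊔ F = ⊤ := by
        obtain ⟨hKF, hDF⟩ := Cfsg.Agent.S0545.result K hK F
        haveI := hGF
        rw [sysNorm_eq_top_of_nilpotent _ hKF, ← hD] at hDF
        have h2 := congrArg (Subgroup.comap (QuotientGroup.mk' F)) hDF
        rw [QuotientGroup.comap_map_mk', Subgroup.comap_top, sup_comm] at h2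
        exact h2.symm
      have hmZ : m ∈ Subgroup.center G := by
        rw [Subgroup.mem_center_iff]
        intro g
        have hg : g ∈ D ⊔ F := hDF ▸ Subgroup.mem_top g
        exact Cfsg.Agent.Lib.Lead.SysNorm.commute_of_mem_sup D F m hmD
          (fun f hf => Subgroup.mem_centralizer_iff.mp (hMF' hm) f hf) g hg
      have hm1 : m = 1 := by
        by_contra hne
        rcases hMmin (M ⊓ Subgroup.center G) inferInstance inf_le_left with h | h
        · have h5 : m ∈ M ⊓ Subgroup.center G := ⟨hm, hmZ⟩
          rw [h, Subgroup.mem_bot] at h5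
          exact hne h5
        · apply hcen
          rw [Subgroup.commutator_le]
          intro g₁ hg₁ g₂ _
          rw [Subgroup.mem_bot, commutatorElement_eq_one_iff_mul_comm]
          have h6 : g₁ ∈ M ⊓ Subgroup.center G := by
            rw [h]
            exact hg₁
          exact (Subgroup.mem_center_iff.mp h6.2 g₂).symm
      rw [hm1, mul_one]
      exact hd

theorem sysNorm_selfNormalizing {G : Type u} [Group G] [Finite G] [Group.IsSolvable G]
    (F : Subgroup G) [F.Normal] (hF : Group.IsNilpotent F) (hGF : Group.IsNilpotent (G ⧸ F))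
    (K : Nat.Primes → Subgroup G) (hK : Cfsg.IsComplementSystem K) :
    Subgroup.normalizer ((Cfsg.systemNormalizer K : Subgroup G) : Set G)
      = Cfsg.systemNormalizer K :=
  sysNorm_selfNormalizing_aux (Nat.card G) G F rfl hF hGF K hK

end Cfsg.Agent.Lib.Lead.CarterSys
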