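import Mathlib
import Cfsg.Prelude.Def_Transfer
import Cfsg.Agent.H2.CyclicIndexTwo
import Cfsg.Agent.Lib.Lead.LocalControl
import Cfsg.Agent.S0257
import Cfsg.Agent.S1303

/-!
# Groups with generalized quaternion Sylow 2-subgroups

(author: lead)  Either a normal 2-complement or a section isomorphic to `SL(2,3)`.
-/

set_option autoImplicit false

namespace Cfsg.Agent.Lead.QSyl

open Cfsg.Agent.H2 Cfsg.Agent.S0257 Cfsg.Agent.S1303

variable {G : Type*} [Group G]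

/-- structure of a generalized quaternion subgroup -/
theorem quat_structure (T : Subgroup G) (n : ℕ) (e : ↥T ≃* QuaternionGroup (2 ^ n)) :
    ∃ t ∈ T, orderOf t = 2 ^ (n + 1) ∧
      (∀ x ∈ T, x ∉ Subgroup.zpowers t → x * x = t ^ (2 ^ n) ∧ x * t * x⁻¹ = t⁻¹) ∧
      (∀ x ∈ T, ∀ y ∈ T, x ∉ Subgroup.zpowers t → y ∉ Subgroup.zpowers t →
        x⁻¹ * y ∈ Subgroup.zpowers t) := by
  haveI : NeZero (2 ^ n) := ⟨by positivity⟩
  obtain ⟨t', ht'⟩ : ∃ t' : ↥T, t' = e.symm (QuaternionGroup.a 1) := ⟨_, rfl⟩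
  have het : e t' = QuaternionGroup.a 1 := by rw [ht', MulEquiv.apply_symm_apply]
  have hak : ∀ k : ZMod (2 * 2 ^ n), e.symm (QuaternionGroup.a k) = t' ^ k.val := by
    intro k
    rw [ht', ← map_pow, QuaternionGroup.a_one_pow, ZMod.natCast_zmod_val]
  -- elements mapping to `a k` lie in `⟨t⟩`
  have hmemA : ∀ x : ↥T, ∀ k, e x = QuaternionGroup.a k → (x : G) ∈ Subgroup.zpowers (t' : G) := by
    intro x k hk
    have : x = t' ^ k.val := by rw [← hak, ← hk, MulEquiv.symm_apply_apply]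
    rw [this, Subgroup.coe_pow]
    exact Subgroup.pow_mem _ (Subgroup.mem_zpowers _) _
  have hout : ∀ x : ↥T, (x : G) ∉ Subgroup.zpowers (t' : G) → ∃ k, e x = QuaternionGroup.xa k := by
    intro x hx
    rcases h : e x with k | k
    · exact absurd (hmemA x k h) hx
    · exact ⟨k, rfl⟩
  refine ⟨(t' : G), t'.2, ?_, ?_, ?_⟩
  · rw [Subgroup.orderOf_coe, ← e.orderOf_eq, het, QuaternionGroup.orderOf_a_one, pow_succ']
  · intro x hx hxA
    obtain ⟨k, hk⟩ := hout ⟨x, hx⟩ hxA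
    constructor
    · have h1 : (⟨x, hx⟩ : ↥T) * ⟨x, hx⟩ = t' ^ (2 ^ n) := by
        apply e.injective
        rw [map_mul, hk, map_pow, het, QuaternionGroup.xa_mul_xa, QuaternionGroup.a_one_pow]
        congr 1
        push_cast
        ring
      have := congrArg Subtype.val h1
      simpa using this
    · have h1 : t' * (⟨x, hx⟩ : ↥T) * t' = ⟨x, hx⟩ := by
        apply e.injective
        rw [map_mul, map_mul, hk, het, QuaternionGroup.a_mul_xa, QuaternionGroup.xa_mul_a,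
          sub_add_cancel]
      have h2' : (t' : G) * x * (t' : G) = x := by
        have := congrArg Subtype.val h1
        simpa using this
      have h2 : (t' : G) * x = x * (t' : G)⁻¹ := eq_mul_inv_of_mul_eq h2'
      calc x * (t' : G) * x⁻¹ = (x * (t' : G)⁻¹ * x⁻¹)⁻¹ := by group
        _ = ((t' : G) * x * x⁻¹)⁻¹ := by rw [h2]
        _ = (t' : G)⁻¹ := by group
  · intro x hx y hy hxA hyA
    obtain ⟨k, hk⟩ := hout ⟨x, hx⟩ hxA
    obtain ⟨l, hl⟩ := hout ⟨y, hy⟩ hyA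
    have h1 : (⟨y, hy⟩ : ↥T) = ⟨x, hx⟩ * e.symm (QuaternionGroup.a (l - k)) := by
      apply e.injective
      rw [map_mul, MulEquiv.apply_symm_apply, hk, hl, QuaternionGroup.xa_mul_a,
        add_sub_cancel]
    have h2 : (e.symm (QuaternionGroup.a (l - k)) : G) ∈ Subgroup.zpowers (t' : G) :=
      hmemA _ (l - k) (MulEquiv.apply_symm_apply e _)
    have h3 : y = x * (e.symm (QuaternionGroup.a (l - k)) : G) := by
      have := congrArg Subtype.val h1
      simpa using this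
    rw [h3, inv_mul_cancel_left]
    exact h2

/-- an element of odd order normalizing a cyclic `2`-group centralizes it -/
theorem odd_centralizes_cyclic [Finite G] (c g : G) (k : ℕ) (hc : orderOf c = 2 ^ k)
    (hg : Odd (orderOf g)) (hn : g * c * g⁻¹ ∈ Subgroup.zpowers c) : g * c * g⁻¹ = c := by
  rw [← mem_powers_iff_mem_zpowers] at hn
  obtain ⟨r, hr'⟩ := hn
  have hr : c ^ r = g * c * g⁻¹ := hr'
  have hs : (g⁻¹)⁻¹ * c * g⁻¹ = c ^ r := by rw [inv_inv]; exact hr.symm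
  have h1 := UOP.conj_pow_formula hs (orderOf g)
  rw [inv_pow, pow_orderOf_eq_one, inv_one, inv_one, one_mul, mul_one] at h1
  -- c = c ^ (r ^ m)
  have h2 : r ^ orderOf g ≡ 1 [MOD 2 ^ k] := by
    rw [← hc]
    apply pow_eq_pow_iff_modEq.mp
    rw [pow_one]; exact h1.symm
  have h3 : ((r : ZMod (2 ^ k)) ^ orderOf g) = 1 := by
    have := (ZMod.natCast_eq_natCast_iff _ _ _).mpr h2
    push_cast at this
    exact this
  have hm0 : orderOf g ≠ 0 := (orderOf_pos g).ne'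
  obtain ⟨ρ, hρ⟩ : ∃ ρ : (ZMod (2 ^ k))ˣ, (ρ : ZMod (2 ^ k)) = r :=
    ⟨Units.ofPowEqOne _ _ h3 hm0, rfl⟩
  have h4 : ρ ^ orderOf g = 1 := by
    apply Units.ext
    rw [Units.val_pow_eq_pow_val, hρ, h3, Units.val_one]
  have h5 : ρ ^ (2 ^ k) = 1 := by
    have h6 : ρ ^ Nat.card (ZMod (2 ^ k))ˣ = 1 := pow_card_eq_one'
    have h7 : Nat.card (ZMod (2 ^ k))ˣ ∣ 2 ^ k := by
      haveI : NeZero (2 ^ k) := ⟨by positivity⟩
      rw [Nat.card_eq_fintype_card, ZMod.card_units_eq_totient]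
      rcases Nat.eq_zero_or_pos k with rfl | hk
      · simp
      · rw [Nat.totient_prime_pow Nat.prime_two hk]
        norm_num
        exact pow_dvd_pow 2 (Nat.sub_le k 1)
    obtain ⟨q, hq⟩ := h7
    have h8 : ρ ^ (2 ^ k) = ρ ^ (Nat.card (ZMod (2 ^ k))ˣ * q) := congrArg (fun e => ρ ^ e) hq
    rw [h8, pow_mul, h6, one_pow]
  have hcop : Nat.Coprime (orderOf g) (2 ^ k) :=
    Nat.Coprime.pow_right k (Nat.coprime_two_right.mpr hg)
  have h6 := (pow_gcd_eq_one (a := ρ)).2 ⟨h4, h5⟩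
  rw [Nat.Coprime.gcd_eq_one hcop, pow_one] at h6
  have h7 : (r : ZMod (2 ^ k)) = ((1 : ℕ) : ZMod (2 ^ k)) := by
    rw [← hρ, h6]; simp
  have h8 : r ≡ 1 [MOD 2 ^ k] := (ZMod.natCast_eq_natCast_iff _ _ _).mp h7
  rw [← hr]
  rw [← hc] at h8
  have := pow_eq_pow_iff_modEq.mpr h8
  rw [this, pow_one]

/-- an element of odd order centralizing a subgroup of index two in a `2`-group centralizes it -/
theorem odd_centralizes_index_two [Finite G] (Q C : Subgroup G)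
    (hidx : ∀ x ∈ Q, ∀ y ∈ Q, x ∉ C → y ∉ C → x⁻¹ * y ∈ C) (g : G)
    (hgQ : ∀ q ∈ Q, g * q * g⁻¹ ∈ Q) (hgC : ∀ c ∈ C, g * c * g⁻¹ = c) (hg : Odd (orderOf g))
    (hC2 : ∀ c ∈ C, ∃ k : ℕ, c ^ (2 ^ k) = 1) : ∀ y ∈ Q, g * y * g⁻¹ = y := by
  intro y hy
  by_cases hyC : y ∈ C
  · exact hgC y hyC
  have hy' : g * y * g⁻¹ ∉ C := by
    intro h
    apply hyC
    have h1 := hgC _ h
    have h2 : g * y * g⁻¹ = y := by
      calc g * y * g⁻¹ = g⁻¹ * (g * (g * y * g⁻¹) * g⁻¹) * g := by group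
        _ = g⁻¹ * (g * y * g⁻¹) * g := by rw [h1]
        _ = y := by group
    rw [← h2]; exact h
  obtain ⟨d, hd⟩ : ∃ d, d = y⁻¹ * (g * y * g⁻¹) := ⟨_, rfl⟩
  have hdC : d ∈ C := hd ▸ hidx y hy _ (hgQ y hy) hyC hy'
  have hgy : g * y * g⁻¹ = y * d := by rw [hd]; group
  have hgd : g * d * g⁻¹ = d := hgC d hdC
  have hpow : ∀ k : ℕ, g ^ k * y * (g ^ k)⁻¹ = y * d ^ k := by
    intro k
    induction k with
    | zero => simp
    | succ k ih =>
      have hgdk : g * d ^ k * g⁻¹ = d ^ k := by rw [← conj_pow, hgd]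
      calc g ^ (k + 1) * y * (g ^ (k + 1))⁻¹ = g * (g ^ k * y * (g ^ k)⁻¹) * g⁻¹ := by
            rw [pow_succ']; group
        _ = g * (y * d ^ k) * g⁻¹ := by rw [ih]
        _ = (g * y * g⁻¹) * (g * d ^ k * g⁻¹) := by group
        _ = y * d ^ (k + 1) := by rw [hgy, hgdk, pow_succ', mul_assoc]
  have h1 := hpow (orderOf g)
  rw [pow_orderOf_eq_one, one_mul, inv_one, mul_one] at h1
  have h2 : d ^ orderOf g = 1 := by
    calc d ^ orderOf g = y⁻¹ * (y * d ^ orderOf g) := by group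
      _ = 1 := by rw [← h1]; group
  obtain ⟨k, hk⟩ := hC2 d hdC
  have hcop : Nat.Coprime (orderOf g) (2 ^ k) :=
    Nat.Coprime.pow_right k (Nat.coprime_two_right.mpr hg)
  have h3 := (pow_gcd_eq_one (a := d)).2 ⟨h2, hk⟩
  rw [Nat.Coprime.gcd_eq_one hcop, pow_one] at h3
  rw [hgy, h3, mul_one]

theorem qf_a_one : qfHom (QuaternionGroup.a 1) = mA := by decide +kernel
theorem qf_xa_zero : qfHom (QuaternionGroup.xa 0) = mB := by decide +kernel
theorem u3_mA : u3 * mA * u3⁻¹ = mB := by decide +kernel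
theorem u3_mB : u3 * mB * u3⁻¹ = mA * mB := by decide +kernel

/-- homomorphisms out of a quaternion group are determined by the images of `a 1` and `xa 0` -/
theorem quat_hom_ext {M : Type*} [Monoid M] (n : ℕ) [NeZero n] (F₁ F₂ : QuaternionGroup n →* M)
    (ha : F₁ (QuaternionGroup.a 1) = F₂ (QuaternionGroup.a 1))
    (hxa : F₁ (QuaternionGroup.xa 0) = F₂ (QuaternionGroup.xa 0)) : F₁ = F₂ := by
  have hak : ∀ k : ZMod (2 * n), F₁ (QuaternionGroup.a k) = F₂ (QuaternionGroup.a k) := by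
    intro k
    have : (QuaternionGroup.a k : QuaternionGroup n) = QuaternionGroup.a 1 ^ k.val := by
      rw [QuaternionGroup.a_one_pow, ZMod.natCast_zmod_val]
    rw [this, map_pow, map_pow, ha]
  ext x
  rcases x with k | k
  · exact hak k
  · have : (QuaternionGroup.xa k : QuaternionGroup n) =
        QuaternionGroup.xa 0 * QuaternionGroup.a k := by
      rw [QuaternionGroup.xa_mul_a, zero_add]
    rw [this, map_mul, map_mul, hxa, hak]

/-- from a quaternion subgroup `Q = ⟨I, J⟩` of order 8 and an element `g` of odd order with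
`g I g⁻¹ = J`, `g J g⁻¹ = I J`: a section isomorphic to `SL(2,3)` -/
theorem section_of_data [Finite G] (Q : Subgroup G) (I J g : G) (hIQ : I ∈ Q) (hJQ : J ∈ Q)
    (hI4 : orderOf I = 4) (hJJ : J * J = I ^ 2) (hIJ : I * J = J * I⁻¹)
    (hJI : J ∉ Subgroup.zpowers I)
    (hcover : ∀ y ∈ Q, y ∈ Subgroup.zpowers I ∨ J⁻¹ * y ∈ Subgroup.zpowers I)
    (hQ2 : ∀ q ∈ Q, ∃ k : ℕ, q ^ (2 ^ k) = 1)
    (hgN : g ∈ Subgroup.normalizer (Q : Set G))
    (hgodd : Odd (orderOf g)) (hgI : g * I * g⁻¹ = J) (hgJ : g * J * g⁻¹ = I * J) :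
    ∃ (H K : Subgroup G) (hK : (K.subgroupOf H).Normal),
      Nonempty ((H ⧸ K.subgroupOf H) ≃* Matrix.SpecialLinearGroup (Fin 2) (ZMod 3)) := by
  -- `3 ∣ orderOf g`
  have hg3 : g ^ 3 * I * (g ^ 3)⁻¹ = I := by
    have h1 : J * I * J = I := by
      calc J * I * J = J * (I * J) := by group
        _ = J * (J * I⁻¹) := by rw [hIJ]
        _ = (J * J) * I⁻¹ := by group
        _ = I := by rw [hJJ, pow_two]; group
    calc g ^ 3 * I * (g ^ 3)⁻¹ = g * (g * (g * I * g⁻¹) * g⁻¹) * g⁻¹ := by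
          rw [pow_succ, pow_two]; group
      _ = g * (g * J * g⁻¹) * g⁻¹ := by rw [hgI]
      _ = g * (I * J) * g⁻¹ := by rw [hgJ]
      _ = (g * I * g⁻¹) * (g * J * g⁻¹) := by group
      _ = J * (I * J) := by rw [hgI, hgJ]
      _ = I := by rw [← mul_assoc]; exact h1
  have hIJne : J ≠ I := fun h => hJI (h ▸ Subgroup.mem_zpowers I)
  have h3m : 3 ∣ orderOf g := by
    by_contra h3
    have hcop : Nat.Coprime 3 (orderOf g) := (Nat.Prime.coprime_iff_not_dvd Nat.prime_three).mpr h3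
    have hcomm3 : Commute (g ^ 3) I := by
      show g ^ 3 * I = I * g ^ 3
      calc g ^ 3 * I = (g ^ 3 * I * (g ^ 3)⁻¹) * g ^ 3 := by group
        _ = I * g ^ 3 := by rw [hg3]
    have hcomm : Commute g I := by
      rcases Nat.lt_or_ge 1 (orderOf g) with h1 | h1
      · obtain ⟨s, -, hs⟩ := Nat.exists_mul_mod_eq_one_of_coprime hcop h1
        have h2 : g = (g ^ 3) ^ s := by
          rw [← pow_mul, ← pow_mod_orderOf, hs, pow_one]
        rw [h2]
        exact hcomm3.pow_left s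
      · have h2 : orderOf g = 1 := le_antisymm h1 (orderOf_pos g)
        rw [orderOf_eq_one_iff] at h2
        rw [h2]; exact Commute.one_left I
    apply hIJne
    rw [← hgI, hcomm.eq]; group
  -- the quaternion group structure of `Q`
  obtain ⟨I', hI'⟩ : ∃ I' : ↥Q, I' = ⟨I, hIQ⟩ := ⟨_, rfl⟩
  obtain ⟨J', hJ'⟩ : ∃ J' : ↥Q, J' = ⟨J, hJQ⟩ := ⟨_, rfl⟩
  have hI'o : orderOf I' = 2 * 2 := by rw [hI', Subgroup.orderOf_mk, hI4]
  have hx : I' ^ (2 * 2) = 1 := by rw [← hI'o]; exact pow_orderOf_eq_one I'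
  have hy : J' * J' = I' ^ 2 := by
    rw [hI', hJ']; apply Subtype.ext
    rw [Subgroup.coe_mul, Subgroup.coe_pow]; exact hJJ
  have hxy : I' * J' = J' * I'⁻¹ := by
    rw [hI', hJ']; apply Subtype.ext
    rw [Subgroup.coe_mul, Subgroup.coe_mul, Subgroup.coe_inv]; exact hIJ
  obtain ⟨f, hfa, hfxa⟩ := UOP.quatHom 2 I' J' hx hy hxy
  have hJ'I' : J' ∉ Subgroup.zpowers I' := by
    intro h
    obtain ⟨k, hk⟩ := Subgroup.mem_zpowers_iff.mp h
    apply hJI
    have := congrArg Subtype.val hk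
    rw [Subgroup.coe_zpow, hI', hJ'] at this
    exact Subgroup.mem_zpowers_iff.mpr ⟨k, this⟩
  have hinj := UOP.quatHom_injective 2 I' J' f hfa hfxa hI'o hJ'I'
  have hpowI : ∀ e : ℕ, f (QuaternionGroup.a (e : ZMod (2 * 2))) = I' ^ e := by
    intro e
    rw [hfa, ZMod.val_natCast, ← hI'o, pow_mod_orderOf]
  have hsurj : Function.Surjective f := by
    intro y
    rcases hcover y y.2 with h | h
    · rw [← mem_powers_iff_mem_zpowers] at h
      obtain ⟨e, he⟩ := h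
      refine ⟨QuaternionGroup.a (e : ZMod (2 * 2)), ?_⟩
      rw [hpowI, hI']
      apply Subtype.ext
      rw [Subgroup.coe_pow]; exact he
    · rw [← mem_powers_iff_mem_zpowers] at h
      obtain ⟨e, he⟩ := h
      have he' : I ^ e = J⁻¹ * (y : G) := he
      refine ⟨QuaternionGroup.xa (e : ZMod (2 * 2)), ?_⟩
      rw [hfxa, ZMod.val_natCast, ← hI'o, pow_mod_orderOf, hI', hJ']
      apply Subtype.ext
      rw [Subgroup.coe_mul, Subgroup.coe_pow]
      show J * I ^ e = y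
      rw [he']; group
  obtain ⟨eQ, heQ⟩ : ∃ eQ : QuaternionGroup 2 ≃* ↥Q, ∀ x, eQ x = f x :=
    ⟨MulEquiv.ofBijective f ⟨hinj, hsurj⟩, fun x => rfl⟩
  have heI : eQ.symm I' = QuaternionGroup.a 1 := by
    rw [MulEquiv.symm_apply_eq, heQ, hfa]
    have : (1 : ZMod (2 * 2)).val = 1 := by decide
    rw [this, pow_one]
  have heJ : eQ.symm J' = QuaternionGroup.xa 0 := by
    rw [MulEquiv.symm_apply_eq, heQ, hfxa]
    have : (0 : ZMod (2 * 2)).val = 0 := by decide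
    rw [this, pow_zero, mul_one]
  obtain ⟨fn, hfn⟩ : ∃ fn : ↥Q →* SL3, ∀ q, fn q = qfHom (eQ.symm q) :=
    ⟨qfHom.comp eQ.symm.toMonoidHom, fun q => rfl⟩
  have hfnI : fn I' = mA := by rw [hfn, heI, qf_a_one]
  have hfnJ : fn J' = mB := by rw [hfn, heJ, qf_xa_zero]
  -- the acting cyclic group
  have hle : Subgroup.zpowers g ≤ Subgroup.normalizer (Q : Set G) := Subgroup.zpowers_le.mpr hgN
  obtain ⟨γ₀, hγ₀⟩ : ∃ γ₀ : ↥(Subgroup.zpowers g), γ₀ = ⟨g, Subgroup.mem_zpowers g⟩ := ⟨_, rfl⟩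
  have hgen : ∀ x : ↥(Subgroup.zpowers g), x ∈ Subgroup.zpowers γ₀ := by
    intro x
    obtain ⟨k, hk⟩ := Subgroup.mem_zpowers_iff.mp x.2
    refine Subgroup.mem_zpowers_iff.mpr ⟨k, ?_⟩
    apply Subtype.ext
    rw [Subgroup.coe_zpow, hγ₀]; exact hk
  have hγo : orderOf γ₀ = orderOf g := by rw [hγ₀, Subgroup.orderOf_mk]
  have hdvd : orderOf u3 ∣ orderOf γ₀ := by rw [u3_order, hγo]; exact h3m
  obtain ⟨fg, hfg⟩ : ∃ fg : ↥(Subgroup.zpowers g) →* SL3, fg γ₀ = u3 :=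
    ⟨monoidHomOfForallMemZpowers hgen hdvd, monoidHomOfForallMemZpowers_apply_gen hgen hdvd⟩
  obtain ⟨φ, hφ⟩ : ∃ φ : ↥(Subgroup.zpowers g) →* MulAut ↥Q,
      φ = (Q.normalizerMonoidHom).comp (Subgroup.inclusion hle) := ⟨_, rfl⟩
  have hφapp : ∀ (γ : ↥(Subgroup.zpowers g)) (q : ↥Q), ((φ γ q : ↥Q) : G) = γ * q * (γ : G)⁻¹ := by
    intro γ q
    rw [hφ]
    rfl
  -- compatibility for the generator
  have hbase : ∀ q : ↥Q, fn (φ γ₀ q) = u3 * fn q * u3⁻¹ := by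
    have hF : (fn.comp (φ γ₀).toMonoidHom).comp eQ.toMonoidHom =
        ((MulAut.conj u3).toMonoidHom.comp fn).comp eQ.toMonoidHom := by
      apply quat_hom_ext
      · show fn (φ γ₀ (eQ (QuaternionGroup.a 1))) = u3 * fn (eQ (QuaternionGroup.a 1)) * u3⁻¹
        rw [← heI, MulEquiv.apply_symm_apply, hfnI, u3_mA]
        have : φ γ₀ I' = J' := by
          apply Subtype.ext
          rw [hφapp, hγ₀, hI', hJ']
          exact hgI
        rw [this, hfnJ]
      · show fn (φ γ₀ (eQ (QuaternionGroup.xa 0))) = u3 * fn (eQ (QuaternionGroup.xa 0)) * u3⁻¹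
        rw [← heJ, MulEquiv.apply_symm_apply, hfnJ, u3_mB]
        have : φ γ₀ J' = I' * J' := by
          apply Subtype.ext
          rw [hφapp, hγ₀, hI', hJ']
          exact hgJ
        rw [this, map_mul, hfnI, hfnJ]
    intro q
    have := DFunLike.congr_fun hF (eQ.symm q)
    simpa using this
  have hpowP : ∀ (k : ℕ) (q : ↥Q), fn (φ (γ₀ ^ k) q) = fg (γ₀ ^ k) * fn q * (fg (γ₀ ^ k))⁻¹ := by
    intro k
    induction k with
    | zero => intro q; simp
    | succ k ih =>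
      intro q
      rw [pow_succ', map_mul, map_mul, MulAut.mul_apply, hbase, ih, hfg]
      group
  have hP : ∀ (γ : ↥(Subgroup.zpowers g)) (q : ↥Q), fn (φ γ q) = fg γ * fn q * (fg γ)⁻¹ := by
    intro γ q
    have h1 := hgen γ
    rw [← mem_powers_iff_mem_zpowers] at h1
    obtain ⟨k, hk⟩ := h1
    have hk' : γ₀ ^ k = γ := hk
    rw [← hk']
    exact hpowP k q
  obtain ⟨Ψ, hΨl, hΨr⟩ : ∃ Ψ : ↥Q ⋊[φ] ↥(Subgroup.zpowers g) →* SL3,
      (∀ q, Ψ (SemidirectProduct.inl q) = fn q) ∧ (∀ γ, Ψ (SemidirectProduct.inr γ) = fg γ) := by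
    refine ⟨SemidirectProduct.lift fn fg (fun γ => ?_), fun q => SemidirectProduct.lift_inl _ _ _ q,
      fun γ => SemidirectProduct.lift_inr _ _ _ γ⟩
    refine MonoidHom.ext (fun q => ?_)
    simp only [MonoidHom.comp_apply, MulEquiv.coe_toMonoidHom, MulAut.conj_apply]
    exact hP γ q
  -- surjectivity of `Ψ`
  have hΨsurj : Function.Surjective Ψ := by
    rw [← MonoidHom.range_eq_top]
    apply Subgroup.eq_top_of_card_eq
    have h8 : 8 ∣ Nat.card Ψ.range := by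
      rw [← card_range]
      apply Subgroup.card_dvd_of_le
      rintro _ ⟨x, rfl⟩
      refine ⟨SemidirectProduct.inl (eQ x), ?_⟩
      rw [hΨl, hfn, MulEquiv.symm_apply_apply]
    have h3 : 3 ∣ Nat.card Ψ.range := by
      have hu : u3 ∈ Ψ.range := ⟨SemidirectProduct.inr γ₀, by rw [hΨr, hfg]⟩
      have := Subgroup.orderOf_dvd_natCard Ψ.range hu
      rwa [u3_order] at this
    have h24 : 24 ∣ Nat.card Ψ.range :=
      (Nat.Coprime.mul_dvd_of_dvd_of_dvd (by norm_num : Nat.Coprime 8 3) h8 h3)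
    have hle24 : Nat.card Ψ.range ≤ Nat.card SL3 := Subgroup.card_le_card_group _
    have hc : Nat.card SL3 = 24 := by rw [Nat.card_eq_fintype_card]; exact card_SL3
    have hpos : 0 < Nat.card Ψ.range := Nat.card_pos
    obtain ⟨q, hq⟩ := h24
    rw [hc] at hle24 ⊢
    rcases q with _ | _ | q
    · omega
    · omega
    · omega
  -- the map into `G`
  obtain ⟨μ, hμ⟩ : ∃ μ : ↥Q ⋊[φ] ↥(Subgroup.zpowers g) →* G,
      ∀ x, μ x = (x.left : G) * (x.right : G) := by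
    subst hφ
    exact ⟨SemidirectProduct.monoidHomSubgroup hle, fun x => rfl⟩
  have hμinj : Function.Injective μ := by
    rw [injective_iff_map_eq_one]
    intro x hx1
    rw [hμ] at hx1
    have hw : (x.left : G) = (x.right : G)⁻¹ := eq_inv_of_mul_eq_one_left hx1
    have hw1 : (x.left : G) ^ orderOf g = 1 := by
      have h1 : (x.left : G) ∈ Subgroup.zpowers g := by
        rw [hw]; exact inv_mem x.right.2
      exact orderOf_dvd_iff_pow_eq_one.mp (orderOf_dvd_of_mem_zpowers h1)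
    obtain ⟨k, hk⟩ := hQ2 _ x.left.2
    have hcop : Nat.Coprime (orderOf g) (2 ^ k) :=
      Nat.Coprime.pow_right k (Nat.coprime_two_right.mpr hgodd)
    have h3 := (pow_gcd_eq_one (a := (x.left : G))).2 ⟨hw1, hk⟩
    rw [Nat.Coprime.gcd_eq_one hcop, pow_one] at h3
    have h4 : (x.right : G) = 1 := by
      rw [h3] at hw
      exact inv_eq_one.mp hw.symm
    apply SemidirectProduct.ext
    · exact Subtype.ext h3
    · exact Subtype.ext h4
  obtain ⟨ε, -⟩ : ∃ ε : ↥Q ⋊[φ] ↥(Subgroup.zpowers g) ≃* ↥μ.range, True :=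
    ⟨MonoidHom.ofInjective hμinj, trivial⟩
  obtain ⟨ψ, hψ⟩ : ∃ ψ : ↥μ.range →* SL3, ψ = Ψ.comp ε.symm.toMonoidHom := ⟨_, rfl⟩
  have hψsurj : Function.Surjective ψ := by
    rw [hψ]
    exact hΨsurj.comp ε.symm.surjective
  have heq : ((ψ.ker).map μ.range.subtype).subgroupOf μ.range = ψ.ker := by
    ext x
    rw [Subgroup.mem_subgroupOf, Subgroup.mem_map]
    constructor
    · rintro ⟨y, hy, hyx⟩
      have : y = x := Subtype.ext hyx
      rwa [← this]
    · intro hx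
      exact ⟨x, hx, rfl⟩
  have hK : (((ψ.ker).map μ.range.subtype).subgroupOf μ.range).Normal := by
    rw [heq]; infer_instance
  exact ⟨μ.range, (ψ.ker).map μ.range.subtype, hK,
    ⟨(QuotientGroup.quotientMulEquivOfEq heq).trans
      (QuotientGroup.quotientKerEquivOfSurjective ψ hψsurj)⟩⟩

/-- if `k` is prime to the order of `g` then `g` is a power of `g ^ k` -/
theorem exists_pow_eq_self [Finite G] (g : G) (k : ℕ) (hcop : Nat.Coprime k (orderOf g)) :
    ∃ s : ℕ, g = (g ^ k) ^ s := by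
  rcases Nat.lt_or_ge 1 (orderOf g) with h1 | h1
  · obtain ⟨s, -, hs⟩ := Nat.exists_mul_mod_eq_one_of_coprime hcop h1
    refine ⟨s, ?_⟩
    rw [← pow_mul, ← pow_mod_orderOf, hs, pow_one]
  · have h2 : orderOf g = 1 := le_antisymm h1 (orderOf_pos g)
    rw [orderOf_eq_one_iff] at h2
    exact ⟨0, by rw [h2]; simp⟩

/-- **Main theorem**: quaternion Sylow 2-subgroups -/
theorem main [Finite G] (T : Sylow 2 G) (n : ℕ)
    (hT : Nonempty ((T : Subgroup G) ≃* QuaternionGroup (2 ^ n))) :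
    Cfsg.HasNormalPComplement 2 G ∨ ∃ (H K : Subgroup G) (hK : (K.subgroupOf H).Normal),
      Nonempty ((H ⧸ K.subgroupOf H) ≃* Matrix.SpecialLinearGroup (Fin 2) (ZMod 3)) := by
  haveI : Fact (Nat.Prime 2) := ⟨Nat.prime_two⟩
  by_contra hcon
  obtain ⟨hnc, hns⟩ := not_or.mp hcon
  obtain ⟨e⟩ := hT
  obtain ⟨t, htT, hto, hout, hidx⟩ := quat_structure (T : Subgroup G) n e
  have hctl : ¬ Cfsg.Agent.Lib.Lead.Frobenius.Controls (T : Subgroup G) :=
    fun h => hnc (Cfsg.Agent.Lib.Lead.Frobenius.hasNormalPComplement_of_controls T h)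
  have hfrob : ¬ ∀ Q : Subgroup G, Q ≤ (T : Subgroup G) →
      ∀ g ∈ Subgroup.normalizer (Q : Set G),
      Nat.Coprime (orderOf g) 2 → g ∈ Subgroup.centralizer (Q : Set G) :=
    fun h => hctl (Cfsg.Agent.Lib.Lead.LocalControl.controls_of_p'_centralize T h)
  push_neg at hfrob
  obtain ⟨Q, hQT, g, hgN, hgcop, hgC⟩ := hfrob
  have hgodd : Odd (orderOf g) := Nat.coprime_two_right.mp hgcop
  have hgQ : ∀ q ∈ Q, g * q * g⁻¹ ∈ Q := fun q hq => (Subgroup.mem_normalizer_iff.mp hgN q).mp hq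
  have hT2 : ∀ q ∈ (T : Subgroup G), ∃ k : ℕ, q ^ (2 ^ k) = 1 := by
    intro q hq
    obtain ⟨k, hk⟩ := T.isPGroup' ⟨q, hq⟩
    refine ⟨k, ?_⟩
    have := congrArg Subtype.val hk
    simpa using this
  have hTord : ∀ q ∈ (T : Subgroup G), ∃ k : ℕ, orderOf q = 2 ^ k := by
    intro q hq
    obtain ⟨k, hk⟩ := hT2 q hq
    obtain ⟨l, -, hl⟩ := (Nat.dvd_prime_pow Nat.prime_two).mp (orderOf_dvd_of_pow_eq_one hk)
    exact ⟨l, hl⟩
  have hQ2 : ∀ q ∈ Q, ∃ k : ℕ, q ^ (2 ^ k) = 1 := fun q hq => hT2 q (hQT hq)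
  have hfalse : (∀ y ∈ Q, g * y * g⁻¹ = y) → False := by
    intro h
    apply hgC
    rw [Subgroup.mem_centralizer_iff]
    intro y hy
    have := h y hy
    calc y * g = (g * y * g⁻¹) * g := by rw [this]
      _ = g * y := by group
  -- the cyclic case
  have hcyc : ∀ c : G, Subgroup.zpowers c = Q → False := by
    intro c hc
    have hcQ : c ∈ Q := hc ▸ Subgroup.mem_zpowers c
    obtain ⟨k, hk⟩ := hTord c (hQT hcQ)
    have h1 := odd_centralizes_cyclic c g k hk hgodd (by rw [hc]; exact hgQ c hcQ)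
    apply hfalse
    intro y hy
    rw [← hc] at hy
    obtain ⟨l, rfl⟩ := Subgroup.mem_zpowers_iff.mp hy
    rw [← conj_zpow, h1]
  by_cases hQA : Q ≤ Subgroup.zpowers t
  · obtain ⟨c, hc⟩ := (Q.isCyclic_iff_exists_zpowers_eq_top).mp (Subgroup.isCyclic_of_le hQA)
    exact hcyc c hc
  obtain ⟨j, hjQ, hjA⟩ : ∃ j ∈ Q, j ∉ Subgroup.zpowers t := by
    by_contra hcon'
    push_neg at hcon'
    exact hQA hcon'
  obtain ⟨z, hz⟩ : ∃ z : G, z = t ^ (2 ^ n) := ⟨_, rfl⟩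
  rw [← hz] at hout
  have hzA : z ∈ Subgroup.zpowers t := by
    rw [hz]; exact Subgroup.pow_mem _ (Subgroup.mem_zpowers t) _
  have hzQ : z ∈ Q := by
    rw [← (hout j (hQT hjQ) hjA).1]; exact Q.mul_mem hjQ hjQ
  have hzz : z * z = 1 := by
    rw [hz, ← pow_add, ← two_mul, ← pow_succ', ← hto]; exact pow_orderOf_eq_one t
  have hz1 : z ≠ 1 := by
    intro h
    rw [hz] at h
    have h3 := orderOf_dvd_of_pow_eq_one h
    rw [hto] at h3
    have := (Nat.pow_dvd_pow_iff_le_right (by norm_num)).mp h3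
    omega
  -- elements outside `⟨t⟩` invert `⟨t⟩`
  have hrel : ∀ x ∈ (T : Subgroup G), x ∉ Subgroup.zpowers t → ∀ a ∈ Subgroup.zpowers t,
      a * x = x * a⁻¹ := by
    intro x hx hxA a ha
    obtain ⟨l, rfl⟩ := Subgroup.mem_zpowers_iff.mp ha
    have h1 : x * t * x⁻¹ = t⁻¹ := (hout x hx hxA).2
    have h2 : x * (t ^ l)⁻¹ * x⁻¹ = t ^ l := by
      rw [← inv_zpow, ← conj_zpow]
      have : x * t⁻¹ * x⁻¹ = t := by
        calc x * t⁻¹ * x⁻¹ = (x * t * x⁻¹)⁻¹ := by group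
          _ = t := by rw [h1, inv_inv]
      rw [this]
    calc t ^ l * x = (x * (t ^ l)⁻¹ * x⁻¹) * x := by rw [h2]
      _ = x * (t ^ l)⁻¹ := by group
  obtain ⟨c, hc⟩ := ((Q ⊓ Subgroup.zpowers t).isCyclic_iff_exists_zpowers_eq_top).mp
    (Subgroup.isCyclic_of_le (inf_le_right : Q ⊓ Subgroup.zpowers t ≤ Subgroup.zpowers t))
  have hCmem : ∀ y, y ∈ Subgroup.zpowers c ↔ y ∈ Q ∧ y ∈ Subgroup.zpowers t := by
    intro y; rw [hc, Subgroup.mem_inf]
  have hcQ : c ∈ Q := ((hCmem c).mp (Subgroup.mem_zpowers c)).1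
  have hcA : c ∈ Subgroup.zpowers t := ((hCmem c).mp (Subgroup.mem_zpowers c)).2
  have hidx2 : ∀ x ∈ Q, ∀ y ∈ Q, x ∉ Subgroup.zpowers c → y ∉ Subgroup.zpowers c →
      x⁻¹ * y ∈ Subgroup.zpowers c := by
    intro x hx y hy hxC hyC
    have hxA : x ∉ Subgroup.zpowers t := fun h => hxC ((hCmem x).mpr ⟨hx, h⟩)
    have hyA : y ∉ Subgroup.zpowers t := fun h => hyC ((hCmem y).mpr ⟨hy, h⟩)
    exact (hCmem _).mpr ⟨Q.mul_mem (Q.inv_mem hx) hy, hidx x (hQT hx) y (hQT hy) hxA hyA⟩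
  have hC2 : ∀ d ∈ Subgroup.zpowers c, ∃ k : ℕ, d ^ (2 ^ k) = 1 :=
    fun d hd => hQ2 d ((hCmem d).mp hd).1
  -- `h` centralizing `c` and normalizing `Q` centralizes `Q`
  have hcentQ : ∀ h : G, (∀ q ∈ Q, h * q * h⁻¹ ∈ Q) → Odd (orderOf h) → h * c * h⁻¹ = c →
      ∀ y ∈ Q, h * y * h⁻¹ = y := by
    intro h hhQ hhodd hhc
    apply odd_centralizes_index_two Q (Subgroup.zpowers c) hidx2 h hhQ _ hhodd hC2
    intro d hd
    obtain ⟨l, rfl⟩ := Subgroup.mem_zpowers_iff.mp hd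
    rw [← conj_zpow, hhc]
  obtain ⟨k, hk⟩ := hTord c (hQT hcQ)
  by_cases hgc : g * c * g⁻¹ ∈ Subgroup.zpowers c
  · exact hfalse (hcentQ g hgQ hgodd (odd_centralizes_cyclic c g k hk hgodd hgc))
  -- now `J = g c g⁻¹ ∉ ⟨t⟩`
  obtain ⟨J, hJ⟩ : ∃ J : G, J = g * c * g⁻¹ := ⟨_, rfl⟩
  rw [← hJ] at hgc
  have hJQ : J ∈ Q := hJ ▸ hgQ c hcQ
  have hJA : J ∉ Subgroup.zpowers t := fun h => hgc ((hCmem J).mpr ⟨hJQ, h⟩)
  have hJJ : J * J = z := (hout J (hQT hJQ) hJA).1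
  have hccz : g * (c * c) * g⁻¹ = z := by
    rw [← hJJ, hJ]; group
  have hcc1 : c * c ≠ 1 := by
    intro h
    rw [h] at hccz
    apply hz1
    rw [← hccz]; group
  have hc4' : (c * c) * (c * c) = 1 := by
    have h1 : c * c = g⁻¹ * z * g := by rw [← hccz]; group
    rw [h1]
    calc g⁻¹ * z * g * (g⁻¹ * z * g) = g⁻¹ * (z * z) * g := by group
      _ = 1 := by rw [hzz]; group
  have hc4 : orderOf c = 4 := by
    have := orderOf_eq_prime_pow (x := c) (p := 2) (n := 1)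
      (by rw [pow_one, pow_two]; exact hcc1)
      (by
        rw [show (2 : ℕ) ^ (1 + 1) = 2 + 2 by norm_num, pow_add, pow_two]; exact hc4')
    rw [this]; norm_num
  -- the final data
  have hfinal : ∀ I J' : G, I ∈ Subgroup.zpowers c → orderOf I = 4 →
      Subgroup.zpowers I = Subgroup.zpowers c → J' ∈ Q → J' ∉ Subgroup.zpowers t →
      g * I * g⁻¹ = J' → g * J' * g⁻¹ = I * J' → False := by
    intro I J' hIC hI4 hIeq hJ'Q hJ'A hgI hgJ'
    have hIQ : I ∈ Q := ((hCmem I).mp hIC).1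
    have hIA : I ∈ Subgroup.zpowers t := ((hCmem I).mp hIC).2
    have hzI : z ∈ Subgroup.zpowers I := by rw [hIeq]; exact (hCmem z).mpr ⟨hzQ, hzA⟩
    have hzI2 : z = I ^ 2 := by
      rcases CycIdxTwo.involution_zpowers 3 (le_refl 3) I (by rw [hI4]; norm_num) z hzI hzz with h | h
      · exact absurd h hz1
      · rw [h]; norm_num
    have hJ'C : J' ∉ Subgroup.zpowers c := fun h => hJ'A ((hCmem J').mp h).2
    apply hns
    apply section_of_data Q I J' g hIQ hJ'Q hI4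
      (by rw [← hzI2]; exact (hout J' (hQT hJ'Q) hJ'A).1)
      (hrel J' (hQT hJ'Q) hJ'A I hIA)
      (by rw [hIeq]; exact hJ'C)
      (by
        intro y hy
        by_cases hyC : y ∈ Subgroup.zpowers c
        · left; rw [hIeq]; exact hyC
        · right; rw [hIeq]; exact hidx2 J' hJ'Q y hy hJ'C hyC)
      hQ2 hgN hgodd hgI hgJ'
  -- the second conjugate
  obtain ⟨J₂, hJ₂⟩ : ∃ J₂ : G, J₂ = g * J * g⁻¹ := ⟨_, rfl⟩
  have hJ₂Q : J₂ ∈ Q := hJ₂ ▸ hgQ J hJQ
  have hJ₂C : J₂ ∉ Subgroup.zpowers c := by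
    intro h
    have hg2 : g ^ 2 * c * (g ^ 2)⁻¹ = J₂ := by
      rw [hJ₂, hJ, pow_two]; group
    have hodd2 : Odd (orderOf (g ^ 2)) := Odd.of_dvd_nat hgodd (orderOf_pow_dvd 2)
    have hg2Q : ∀ q ∈ Q, g ^ 2 * q * (g ^ 2)⁻¹ ∈ Q := by
      intro q hq
      have : g ^ 2 * q * (g ^ 2)⁻¹ = g * (g * q * g⁻¹) * g⁻¹ := by rw [pow_two]; group
      rw [this]; exact hgQ _ (hgQ q hq)
    have h1 := odd_centralizes_cyclic c (g ^ 2) k hk hodd2 (by rw [hg2]; exact h)
    have h2 := hcentQ (g ^ 2) hg2Q hodd2 h1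
    obtain ⟨s, hs⟩ := exists_pow_eq_self g 2
      ((Nat.coprime_comm).mp (Nat.coprime_two_right.mpr hgodd))
    apply hfalse
    intro y hy
    have hcomm : Commute (g ^ 2) y := by
      show g ^ 2 * y = y * g ^ 2
      calc g ^ 2 * y = (g ^ 2 * y * (g ^ 2)⁻¹) * g ^ 2 := by group
        _ = y * g ^ 2 := by rw [h2 y hy]
    have hcomm' : Commute g y := by rw [hs]; exact hcomm.pow_left s
    rw [hcomm'.eq]; group
  have hJ₂J : J₂ ∉ Subgroup.zpowers J := by
    intro h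
    obtain ⟨l, hl⟩ := Subgroup.mem_zpowers_iff.mp h
    apply hgc
    have h1 : g * J * g⁻¹ = g * c ^ l * g⁻¹ := by
      rw [← hJ₂, ← hl, hJ, conj_zpow]
    have h2 : J = c ^ l := by
      calc J = g⁻¹ * (g * J * g⁻¹) * g := by group
        _ = g⁻¹ * (g * c ^ l * g⁻¹) * g := by rw [h1]
        _ = c ^ l := by group
    rw [h2]; exact Subgroup.zpow_mem _ (Subgroup.mem_zpowers c) l
  have hJC : J ∉ Subgroup.zpowers c := hgc
  have hc4pow : c ^ 4 = 1 := by rw [← hc4]; exact pow_orderOf_eq_one c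
  have hzc2 : z = c ^ 2 := by
    have hzC : z ∈ Subgroup.zpowers c := (hCmem z).mpr ⟨hzQ, hzA⟩
    rcases CycIdxTwo.involution_zpowers 3 (le_refl 3) c (by rw [hc4]; norm_num) z hzC hzz with h | h
    · exact absurd h hz1
    · rw [h]; norm_num
  have hcases : J₂ = c * J ∨ J₂ = J * c := by
    have h1 := hidx2 J hJQ J₂ hJ₂Q hJC hJ₂C
    rw [← mem_powers_iff_mem_zpowers] at h1
    obtain ⟨e', he'⟩ := h1
    have he : c ^ e' = J⁻¹ * J₂ := he'
    have hJ₂e : J₂ = J * c ^ (e' % 4) := by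
      rw [← hc4, pow_mod_orderOf, he]; group
    have hlt : e' % 4 < 4 := Nat.mod_lt _ (by norm_num)
    obtain ⟨r, hr⟩ : ∃ r, r = e' % 4 := ⟨_, rfl⟩
    rw [← hr] at hJ₂e hlt
    interval_cases r
    · exfalso; apply hJ₂J
      rw [hJ₂e, pow_zero, mul_one]; exact Subgroup.mem_zpowers J
    · right; rw [hJ₂e, pow_one]
    · exfalso; apply hJ₂J
      rw [hJ₂e, ← hzc2, ← hJJ]
      have : J * (J * J) = J ^ 3 := by rw [pow_succ, pow_two]; group
      rw [this]; exact Subgroup.pow_mem _ (Subgroup.mem_zpowers J) 3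
    · left
      have h3 : c ^ 3 = c⁻¹ := by
        apply eq_inv_of_mul_eq_one_left
        rw [← pow_succ]; exact hc4pow
      rw [hJ₂e, h3]
      exact (hrel J (hQT hJQ) hJA c hcA).symm
  rcases hcases with h | h
  · exact hfinal c J (Subgroup.mem_zpowers c) hc4 rfl hJQ hJA hJ.symm (by rw [← hJ₂, h])
  · have hJinvA : J⁻¹ ∉ Subgroup.zpowers t := fun h' => hJA (inv_mem_iff.mp h')
    apply hfinal c⁻¹ J⁻¹ (inv_mem (Subgroup.mem_zpowers c)) (by rw [orderOf_inv, hc4])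
      Subgroup.zpowers_inv (Q.inv_mem hJQ) hJinvA
    · rw [hJ]; group
    · calc g * J⁻¹ * g⁻¹ = (g * J * g⁻¹)⁻¹ := by group
        _ = (J * c)⁻¹ := by rw [← hJ₂, h]
        _ = c⁻¹ * J⁻¹ := by group

end Cfsg.Agent.Lead.QSyl
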