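import Mathlib
import Cfsg.Prelude.Def_Local
import Cfsg.Agent.H1.PLength
import Cfsg.Agent.H1.Cores
import Cfsg.Agent.Lib.Lead.PiCore
import Cfsg.Agent.S0017
import Cfsg.Agent.S0144

/-! Groups of exponent dividing six have `2`-length and `3`-length at most one (lead). -/

set_option autoImplicit false

namespace Cfsg.Agent.Lead.ExpSix

open Cfsg Cfsg.Agent.H1

universe u

section key

variable {K : Type*} [Group K]

/-- conjugation -/
def cj (g u : K) : K := g * u * g⁻¹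

theorem cj_mul (g u v : K) : cj g (u * v) = cj g u * cj g v := by unfold cj; group

theorem cj_inv (g u : K) : cj g u⁻¹ = (cj g u)⁻¹ := by unfold cj; group

theorem cj_one (g : K) : cj g 1 = 1 := by unfold cj; group

theorem cj_cj (g h u : K) : cj g (cj h u) = cj (g * h) u := by unfold cj; group

theorem cj_mem (X : Subgroup K) [hX : X.Normal] (g : K) {u : K} (hu : u ∈ X) : cj g u ∈ X :=
  hX.conj_mem u hu g

theorem cj_eq_one {g u : K} (h : cj g u = 1) : u = 1 := by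
  unfold cj at h
  have : u = g⁻¹ * (g * u * g⁻¹) * g := by group
  rw [this, h]; group

theorem eq_one_of_sq_of_cube {u : K} (h2 : u * u = 1) (h3 : u ^ 3 = 1) : u = 1 := by
  have : u ^ 3 = u * u * u := by rw [pow_succ, pow_two]
  rw [this, h2, one_mul] at h3
  exact h3

variable (hexp : ∀ k : K, k ^ 6 = 1) (X : Subgroup K) [hXn : X.Normal]
  (hXc : ∀ u ∈ X, ∀ v ∈ X, u * v = v * u) (hX3 : ∀ u ∈ X, u ^ 3 = 1)
  (a x : K) (ha : a * a = 1) (hx : x * x * x = 1)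
  (hcomm : ∀ u ∈ X, cj a (cj (x⁻¹ * a * x) u) = cj (x⁻¹ * a * x) (cj a u))
  (hprod : ∀ u ∈ X, cj a (cj (x⁻¹ * a * x) (cj (x * a * x⁻¹) u)) = u)

include hexp hX3 hx in
theorem relE (v : K) (hv : v ∈ X) : cj x v * cj (x * x) v * v = 1 := by
  have h1 : cj x v * cj (x * x) v * v = (x * v) ^ 3 := by
    have e : (x * v) ^ 3 = (x * v * x⁻¹) * (x * x * v * (x * x)⁻¹) * (x * x * x) * v := by
      rw [pow_succ, pow_two]; group
    rw [e, hx]
    unfold cj
    group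
  have hmem : cj x v * cj (x * x) v * v ∈ X :=
    X.mul_mem (X.mul_mem (cj_mem X x hv) (cj_mem X (x * x) hv)) hv
  apply eq_one_of_sq_of_cube _ (hX3 _ hmem)
  rw [h1, ← pow_add]
  exact hexp _

include ha in
theorem cj_a_a (u : K) : cj a (cj a u) = u := by
  rw [cj_cj, ha]; unfold cj; group

include ha in
theorem cj_b_b (u : K) : cj (x⁻¹ * a * x) (cj (x⁻¹ * a * x) u) = u := by
  rw [cj_cj]
  have : x⁻¹ * a * x * (x⁻¹ * a * x) = x⁻¹ * (a * a) * x := by group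
  rw [this, ha]; unfold cj; group

include ha hprod in
theorem cj_c_eq (u : K) (hu : u ∈ X) :
    cj (x * a * x⁻¹) u = cj (x⁻¹ * a * x) (cj a u) := by
  have h1 := hprod u hu
  have h2 : cj (x⁻¹ * a * x) (cj a (cj a (cj (x⁻¹ * a * x) (cj (x * a * x⁻¹) u)))) =
      cj (x⁻¹ * a * x) (cj a u) := by rw [h1]
  rw [cj_a_a a ha, cj_b_b a x ha] at h2
  exact h2

theorem cj_a_x (u : K) : cj a (cj x u) = cj x (cj (x⁻¹ * a * x) u) := by
  rw [cj_cj, cj_cj]
  congr 1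
  group

include hx in
theorem cj_a_xx (u : K) : cj a (cj (x * x) u) = cj (x * x) (cj (x * a * x⁻¹) u) := by
  rw [cj_cj, cj_cj]
  congr 1
  have h1 : x * x * (x * a * x⁻¹) = (x * x * x) * a * x⁻¹ := by group
  have h2 : a * (x * x) = a * (x * x * x) * x⁻¹ := by group
  rw [h1, h2, hx]
  group

include hexp hXc hX3 ha hx hprod in
theorem caseA (w : K) (hw : w ∈ X) (h1 : cj a w = w⁻¹) (h2 : cj (x⁻¹ * a * x) w = w) : w = 1 := by
  have h3 : cj (x * a * x⁻¹) w = w⁻¹ := by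
    rw [cj_c_eq X a x ha hprod w hw, h1, cj_inv, h2]
  have hE := relE hexp X hX3 x hx w hw
  have hP : cj x w ∈ X := cj_mem X x hw
  have hQ : cj (x * x) w ∈ X := cj_mem X (x * x) hw
  have hE' : cj a (cj x w * cj (x * x) w * w) = 1 := by rw [hE, cj_one]
  rw [cj_mul, cj_mul, cj_a_x, cj_a_xx a x hx, h2, h3, h1, cj_inv] at hE'
  -- `P * Q⁻¹ * w⁻¹ = 1`
  have hPe : cj x w = w * cj (x * x) w := by
    have : cj x w = (cj x w * (cj (x * x) w)⁻¹ * w⁻¹) * (w * cj (x * x) w) := by group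
    rw [this, hE', one_mul]
  rw [hPe] at hE
  have hwQ : w * cj (x * x) w ∈ X := X.mul_mem hw hQ
  have hsq : (w * cj (x * x) w) * (w * cj (x * x) w) = 1 := by
    have hc : w * cj (x * x) w = cj (x * x) w * w := hXc _ hw _ hQ
    calc (w * cj (x * x) w) * (w * cj (x * x) w)
        = (w * cj (x * x) w) * (cj (x * x) w * w) := by rw [← hc]
      _ = w * cj (x * x) w * cj (x * x) w * w := by group
      _ = 1 := hE
  have h4 := eq_one_of_sq_of_cube hsq (hX3 _ hwQ)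
  rw [h4] at hPe
  exact cj_eq_one hPe

include hexp hXc hX3 ha hx hprod in
theorem caseB (w : K) (hw : w ∈ X) (h1 : cj a w = w⁻¹) (h2 : cj (x⁻¹ * a * x) w = w⁻¹) : w = 1 := by
  have h3 : cj (x * a * x⁻¹) w = w := by
    rw [cj_c_eq X a x ha hprod w hw, h1, cj_inv, h2, inv_inv]
  have hE := relE hexp X hX3 x hx w hw
  have hP : cj x w ∈ X := cj_mem X x hw
  have hQ : cj (x * x) w ∈ X := cj_mem X (x * x) hw
  have hE' : cj a (cj x w * cj (x * x) w * w) = 1 := by rw [hE, cj_one]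
  rw [cj_mul, cj_mul, cj_a_x, cj_a_xx a x hx, h2, h3, h1, cj_inv] at hE'
  -- `P⁻¹ * Q * w⁻¹ = 1`
  have hQe : cj (x * x) w = cj x w * w := by
    have : cj (x * x) w = cj x w * ((cj x w)⁻¹ * cj (x * x) w * w⁻¹) * w := by group
    rw [this, hE', mul_one]
  rw [hQe] at hE
  have hPw : cj x w * w ∈ X := X.mul_mem hP hw
  have hsq : (cj x w * w) * (cj x w * w) = 1 := by
    have hc : w * cj x w = cj x w * w := hXc _ hw _ hP
    calc (cj x w * w) * (cj x w * w) = cj x w * (w * cj x w) * w := by group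
      _ = cj x w * (cj x w * w) * w := by rw [hc]
      _ = 1 := hE
  have h4 := eq_one_of_sq_of_cube hsq (hX3 _ hPw)
  rw [h4] at hQe
  exact cj_eq_one hQe

include hexp hXc hX3 ha hx hcomm hprod in
theorem key_lemma (u : K) (hu : u ∈ X) : cj a u = u := by
  by_contra hne
  obtain ⟨w, hwdef⟩ : ∃ w : K, w = u⁻¹ * cj a u := ⟨_, rfl⟩
  have hw : w ∈ X := by rw [hwdef]; exact X.mul_mem (X.inv_mem hu) (cj_mem X a hu)
  have hw1 : w ≠ 1 := by
    intro h
    apply hne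
    rw [hwdef] at h
    have : cj a u = u * (u⁻¹ * cj a u) := by group
    rw [this, h, mul_one]
  have hwa : cj a w = w⁻¹ := by
    rw [hwdef, cj_mul, cj_inv, cj_a_a a ha]
    group
  have hbw : cj (x⁻¹ * a * x) w ∈ X := cj_mem X _ hw
  -- `w₂ = w * β w`
  have h2 : w * cj (x⁻¹ * a * x) w = 1 := by
    apply caseA hexp X hXc hX3 a x ha hx hprod _ (X.mul_mem hw hbw)
    · rw [cj_mul, hcomm w hw, hwa, cj_inv, hXc _ hw _ hbw]
      group
    · rw [cj_mul, cj_b_b a x ha, hXc _ hw _ hbw]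
  have h3 : w * (cj (x⁻¹ * a * x) w)⁻¹ = 1 := by
    apply caseB hexp X hXc hX3 a x ha hx hprod _ (X.mul_mem hw (X.inv_mem hbw))
    · rw [cj_mul, cj_inv, hcomm w hw, hwa, cj_inv, inv_inv, hXc _ (X.inv_mem hw) _ hbw]
      group
    · rw [cj_mul, cj_inv, cj_b_b a x ha]
      group
  have h4 : w * w = 1 := by
    have e1 : cj (x⁻¹ * a * x) w = w⁻¹ := by
      have : cj (x⁻¹ * a * x) w = w⁻¹ * (w * cj (x⁻¹ * a * x) w) := by group
      rw [this, h2, mul_one]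
    rw [e1, inv_inv] at h3
    exact h3
  exact hw1 (eq_one_of_sq_of_cube h4 (hX3 _ hw))

end key

section main

variable {H : Type u} [Group H] [Finite H]

theorem card_eq_two_pow_mul_three_pow (hexp : ∀ h : H, h ^ 6 = 1) :
    ∃ a b : ℕ, Nat.card H = 2 ^ a * 3 ^ b := by
  obtain ⟨a, m, hm, hn⟩ :=
    Nat.exists_eq_pow_mul_and_not_dvd (Nat.card_pos (α := H)).ne' 2 (by norm_num)
  have hm0 : m ≠ 0 := by
    rintro rfl
    rw [mul_zero] at hn
    exact Nat.card_pos.ne' hn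
  obtain ⟨b, m', hm', hn'⟩ := Nat.exists_eq_pow_mul_and_not_dvd hm0 3 (by norm_num)
  refine ⟨a, b, ?_⟩
  have h1 : m' = 1 := by
    by_contra h1
    obtain ⟨q, hq, hqd⟩ := Nat.exists_prime_and_dvd h1
    have hqn : q ∣ Nat.card H := by
      rw [hn, hn']
      exact dvd_mul_of_dvd_right (dvd_mul_of_dvd_right hqd _) _
    haveI := Fact.mk hq
    obtain ⟨g, hg⟩ := exists_prime_orderOf_dvd_card' q hqn
    have h6 : q ∣ 2 * 3 := by rw [← hg]; exact orderOf_dvd_of_pow_eq_one (hexp g)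
    rcases (Nat.Prime.dvd_mul hq).mp h6 with h | h
    · have : q = 2 := (Nat.prime_dvd_prime_iff_eq hq Nat.prime_two).mp h
      subst this
      apply hm
      rw [hn']
      exact dvd_mul_of_dvd_right hqd _
    · have : q = 3 := (Nat.prime_dvd_prime_iff_eq hq Nat.prime_three).mp h
      subst this
      exact hm' hqd
  rw [hn, hn', h1, mul_one]

theorem isSolvable_of_exp (hexp : ∀ h : H, h ^ 6 = 1) : Group.IsSolvable H := by
  obtain ⟨a, b, hab⟩ := card_eq_two_pow_mul_three_pow hexp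
  exact Cfsg.Agent.S0144.result 2 3 a b Nat.prime_two Nat.prime_three hab

omit [Finite H] in
theorem cube_eq_one_of_isPGroup (hexp : ∀ h : H, h ^ 6 = 1) {N : Subgroup H} (hN : IsPGroup 3 N)
    {t : H} (ht : t ∈ N) : t ^ 3 = 1 := by
  obtain ⟨k, hk⟩ := hN ⟨t, ht⟩
  have hk' : t ^ 3 ^ k = 1 := by simpa using congrArg Subtype.val hk
  have h1 : orderOf t ∣ 3 ^ k := orderOf_dvd_of_pow_eq_one hk'
  have h2 : orderOf t ∣ 2 * 3 := orderOf_dvd_of_pow_eq_one (hexp t)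
  have h3 : (orderOf t).Coprime 2 :=
    Nat.Coprime.coprime_dvd_left h1 (Nat.Coprime.pow_left k (by norm_num))
  exact orderOf_dvd_iff_pow_eq_one.mp ((Nat.Coprime.dvd_mul_left h3).mp h2)

omit [Finite H] in
theorem sq_eq_one_of_isPGroup (hexp : ∀ h : H, h ^ 6 = 1) {N : Subgroup H} (hN : IsPGroup 2 N)
    {t : H} (ht : t ∈ N) : t * t = 1 := by
  obtain ⟨k, hk⟩ := hN ⟨t, ht⟩
  have hk' : t ^ 2 ^ k = 1 := by simpa using congrArg Subtype.val hk
  have h1 : orderOf t ∣ 2 ^ k := orderOf_dvd_of_pow_eq_one hk'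
  have h2 : orderOf t ∣ 2 * 3 := orderOf_dvd_of_pow_eq_one (hexp t)
  have h3 : (orderOf t).Coprime 3 :=
    Nat.Coprime.coprime_dvd_left h1 (Nat.Coprime.pow_left k (by norm_num))
  rw [← pow_two]
  exact orderOf_dvd_iff_pow_eq_one.mp ((Nat.Coprime.dvd_mul_right h3).mp h2)

theorem isPGroup_three_of_coprime (hexp : ∀ h : H, h ^ 6 = 1) (N : Subgroup H)
    (hc : (Nat.card N).Coprime 2) : IsPGroup 3 N := by
  intro g
  refine ⟨1, ?_⟩
  have h1 : orderOf g ∣ 2 * 3 := by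
    apply orderOf_dvd_of_pow_eq_one
    apply Subtype.ext
    simpa using hexp (g : H)
  have h2 : orderOf g ∣ Nat.card N := orderOf_dvd_natCard g
  have h3 : (orderOf g).Coprime 2 := Nat.Coprime.coprime_dvd_left h2 hc
  rw [pow_one]
  exact orderOf_dvd_iff_pow_eq_one.mp ((Nat.Coprime.dvd_mul_left h3).mp h1)

theorem isPGroup_two_of_coprime (hexp : ∀ h : H, h ^ 6 = 1) (N : Subgroup H)
    (hc : (Nat.card N).Coprime 3) : IsPGroup 2 N := by
  intro g
  refine ⟨1, ?_⟩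
  have h1 : orderOf g ∣ 2 * 3 := by
    apply orderOf_dvd_of_pow_eq_one
    apply Subtype.ext
    simpa using hexp (g : H)
  have h2 : orderOf g ∣ Nat.card N := orderOf_dvd_natCard g
  have h3 : (orderOf g).Coprime 3 := Nat.Coprime.coprime_dvd_left h2 hc
  rw [pow_one]
  exact orderOf_dvd_iff_pow_eq_one.mp ((Nat.Coprime.dvd_mul_right h3).mp h1)

theorem pPrimeCore_three_eq_bot (hexp : ∀ h : H, h ^ 6 = 1) (h2 : pCore 2 H = ⊥) :
    pPrimeCore 3 H = ⊥ := by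
  have hc := pPrimeCore_coprime (G := H) 3
  have hp : IsPGroup 2 (pPrimeCore 3 H) := isPGroup_two_of_coprime hexp _ hc
  have h1 := le_pCore (inferInstance : (pPrimeCore 3 H).Normal) hp
  rw [h2] at h1
  exact le_bot_iff.mp h1

theorem pPrimeCore_two_eq_bot (hexp : ∀ h : H, h ^ 6 = 1) (h3 : pCore 3 H = ⊥) :
    pPrimeCore 2 H = ⊥ := by
  have hc := pPrimeCore_coprime (G := H) 2
  have hp : IsPGroup 3 (pPrimeCore 2 H) := isPGroup_three_of_coprime hexp _ hc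
  have h1 := le_pCore (inferInstance : (pPrimeCore 2 H).Normal) hp
  rw [h3] at h1
  exact le_bot_iff.mp h1

omit [Finite H] in
theorem comm_of_sq_eq_one {P : Subgroup H} (hP : ∀ g ∈ P, g * g = 1) {u v : H} (hu : u ∈ P)
    (hv : v ∈ P) : u * v = v * u := by
  have h1 := hP _ (P.mul_mem hu hv)
  have hu' : u⁻¹ = u := inv_eq_of_mul_eq_one_right (hP u hu)
  have hv' : v⁻¹ = v := inv_eq_of_mul_eq_one_right (hP v hv)
  calc u * v = (u * v)⁻¹ := (inv_eq_of_mul_eq_one_right h1).symm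
    _ = v⁻¹ * u⁻¹ := mul_inv_rev _ _
    _ = v * u := by rw [hu', hv']

theorem pCore_quotient_self_eq_bot {p : ℕ} (V : Subgroup H) [V.Normal] (hV : V = pCore p H) :
    pCore p (H ⧸ V) = ⊥ := by
  haveI hn : ((pCore p (H ⧸ V)).comap (QuotientGroup.mk' V)).Normal :=
    (inferInstance : (pCore p (H ⧸ V)).Normal).comap _
  have hp : IsPGroup p ↥((pCore p (H ⧸ V)).comap (QuotientGroup.mk' V)) := by
    apply IsPGroup.comap_of_ker_isPGroup (pCore_isPGroup p)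
    rw [QuotientGroup.ker_mk', hV]
    exact pCore_isPGroup p
  have hle := le_pCore hn hp
  rw [eq_bot_iff]
  intro x hx
  obtain ⟨g, rfl⟩ := QuotientGroup.mk_surjective x
  rw [Subgroup.mem_bot]
  have h1 : g ∈ pCore p H := hle hx
  rw [← hV] at h1
  exact (QuotientGroup.eq_one_iff g).mpr h1

/-- in a nilpotent group `Q`, a nontrivial subgroup `Z` normalized by `Q` has `⁅Z, Q⁆ < Z`
(after helper2, `H2/CoprimeFactor`) -/
theorem commutator_ne_of_nilpotent {Q Z : Subgroup H} (hQ : Group.IsNilpotent ↥Q) (hZQ : Z ≤ Q)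
    (hZ : Z ≠ ⊥) : ⁅Z, Q⁆ ≠ Z := by
  intro heq
  apply hZ
  have key : ∀ n : ℕ, Z ≤ Q.lowerCentralSeries n := by
    intro n
    induction n with
    | zero => exact hZQ
    | succ n ih =>
      rw [Subgroup.lowerCentralSeries_succ]
      calc Z = ⁅Z, Q⁆ := heq.symm
        _ ≤ ⁅Q.lowerCentralSeries n, Q⁆ := Subgroup.commutator_mono ih le_rfl
  obtain ⟨n, hn⟩ := (Subgroup.isNilpotent_iff_lowerCentralSeries Q).1 hQ
  exact le_bot_iff.1 (hn ▸ key n)

theorem coprime_two (hexp : ∀ h : H, h ^ 6 = 1) (h3 : pCore 3 H = ⊥) :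
    (Nat.card (H ⧸ pCore 2 H)).Coprime 2 := by
  haveI := isSolvable_of_exp hexp
  haveI : Fact (Nat.Prime 2) := ⟨Nat.prime_two⟩
  have hpp : pPrimeCore 2 H = ⊥ := pPrimeCore_two_eq_bot hexp h3
  have hC := Cfsg.Agent.S0017.result (G := H) 2 hpp
  obtain ⟨P⟩ : Nonempty (Sylow 2 H) := inferInstance
  have hWP : pCore 2 H ≤ P := pCore_le_sylow P
  have hP2 : ∀ g ∈ (P : Subgroup H), g * g = 1 := fun g hg =>
    sq_eq_one_of_isPGroup hexp P.isPGroup' hg
  have hPW : (P : Subgroup H) ≤ pCore 2 H := by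
    refine le_trans ?_ hC
    intro y hy
    rw [Subgroup.mem_centralizer_iff]
    intro w hw
    exact comm_of_sq_eq_one hP2 (hWP hw) hy
  have hWeq : pCore 2 H = P := le_antisymm hWP hPW
  rw [← Subgroup.index_eq_card, hWeq, Nat.coprime_comm, Nat.Prime.coprime_iff_not_dvd Nat.prime_two]
  exact P.not_dvd_index

omit [Finite H] in
theorem card_lt_of_lt_aux [Finite H] {U W : Subgroup H} (h : U < W) : Nat.card ↥U < Nat.card ↥W :=
  lt_of_le_of_ne (Subgroup.card_le_of_le h.le)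
    (fun e => h.ne (Subgroup.eq_of_le_of_card_ge h.le e.ge))

theorem coprime_three (hexp : ∀ h : H, h ^ 6 = 1) (h2 : pCore 2 H = ⊥) :
    (Nat.card (H ⧸ pCore 3 H)).Coprime 3 := by
  haveI hsol := isSolvable_of_exp hexp
  haveI : Fact (Nat.Prime 2) := ⟨Nat.prime_two⟩
  haveI : Fact (Nat.Prime 3) := ⟨Nat.prime_three⟩
  obtain ⟨V, hVdef⟩ : ∃ V : Subgroup H, V = pCore 3 H := ⟨_, rfl⟩
  haveI hVn : V.Normal := by rw [hVdef]; infer_instance
  have hV3 : IsPGroup 3 V := by rw [hVdef]; exact pCore_isPGroup 3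
  have hCV : Subgroup.centralizer (V : Set H) ≤ V := by
    rw [hVdef]; exact Cfsg.Agent.S0017.result 3 (pPrimeCore_three_eq_bot hexp h2)
  rw [← hVdef]
  rw [Nat.coprime_comm, Nat.Prime.coprime_iff_not_dvd Nat.prime_three]
  intro hdvd
  -- an element of order three outside `V`
  obtain ⟨y, hy⟩ := exists_prime_orderOf_dvd_card' 3 hdvd
  obtain ⟨x₀, rfl⟩ := QuotientGroup.mk_surjective y
  obtain ⟨x, hxdef⟩ : ∃ x : H, x = x₀ ^ 4 := ⟨_, rfl⟩
  have hx3 : x * x * x = 1 := by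
    rw [hxdef, ← pow_add, ← pow_add]
    have : x₀ ^ (4 + 4 + 4) = (x₀ ^ 6) ^ 2 := by rw [← pow_mul]
    rw [this, hexp, one_pow]
  have hmk3 : (QuotientGroup.mk x₀ : H ⧸ V) ^ 3 = 1 := by rw [← hy]; exact pow_orderOf_eq_one _
  have hmkx : (QuotientGroup.mk x : H ⧸ V) = QuotientGroup.mk x₀ := by
    rw [hxdef, QuotientGroup.mk_pow]
    have : (QuotientGroup.mk x₀ : H ⧸ V) ^ 4 =
        (QuotientGroup.mk x₀ : H ⧸ V) ^ 3 * QuotientGroup.mk x₀ := pow_succ _ 3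
    rw [this, hmk3, one_mul]
  have hmkx1 : (QuotientGroup.mk x : H ⧸ V) ≠ 1 := by
    rw [hmkx]
    intro h
    rw [h, orderOf_one] at hy
    norm_num at hy
  have hxK3 : (QuotientGroup.mk x : H ⧸ V) * QuotientGroup.mk x * QuotientGroup.mk x = 1 := by
    rw [← QuotientGroup.mk_mul, ← QuotientGroup.mk_mul, hx3]; rfl
  -- the quotient `H / V`
  have hQ3 : pCore 3 (H ⧸ V) = ⊥ := pCore_quotient_self_eq_bot V hVdef
  have hexpQ : ∀ k : H ⧸ V, k ^ 6 = 1 := by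
    intro k
    obtain ⟨g, rfl⟩ := QuotientGroup.mk_surjective k
    rw [← QuotientGroup.mk_pow, hexp]; rfl
  haveI : Group.IsSolvable (H ⧸ V) := inferInstance
  have hCF : Subgroup.centralizer (pCore 2 (H ⧸ V) : Set (H ⧸ V)) ≤ pCore 2 (H ⧸ V) :=
    Cfsg.Agent.S0017.result 2 (pPrimeCore_two_eq_bot hexpQ hQ3)
  have hF2 : ∀ g ∈ pCore 2 (H ⧸ V), g * g = 1 := fun g hg =>
    sq_eq_one_of_isPGroup hexpQ (pCore_isPGroup 2) hg
  have hFn : (pCore 2 (H ⧸ V)).Normal := inferInstance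
  have hxF : (QuotientGroup.mk x : H ⧸ V) ∉ pCore 2 (H ⧸ V) := by
    intro hmem
    have h1 := hF2 _ hmem
    have h3 := hxK3
    rw [h1, one_mul] at h3
    exact hmkx1 h3
  have hxC : (QuotientGroup.mk x : H ⧸ V) ∉
      Subgroup.centralizer (pCore 2 (H ⧸ V) : Set (H ⧸ V)) := fun h => hxF (hCF h)
  obtain ⟨f, hf, hfx⟩ : ∃ f ∈ pCore 2 (H ⧸ V),
      f * (QuotientGroup.mk x : H ⧸ V) ≠ QuotientGroup.mk x * f := by
    by_contra hcon
    apply hxC
    rw [Subgroup.mem_centralizer_iff]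
    intro f hf
    by_contra h
    exact hcon ⟨f, hf, h⟩
  obtain ⟨n, rfl⟩ := QuotientGroup.mk_surjective f
  obtain ⟨a₀, ha₀def⟩ : ∃ a₀ : H, a₀ = n⁻¹ * (x⁻¹ * n * x) := ⟨_, rfl⟩
  obtain ⟨a, hadef⟩ : ∃ a : H, a = a₀ ^ 3 := ⟨_, rfl⟩
  have hmka₀ : (QuotientGroup.mk a₀ : H ⧸ V) = (QuotientGroup.mk n : H ⧸ V)⁻¹ *
      ((QuotientGroup.mk x : H ⧸ V)⁻¹ * QuotientGroup.mk n * QuotientGroup.mk x) := by
    rw [ha₀def]; rfl
  have hconjF : (QuotientGroup.mk x : H ⧸ V)⁻¹ * QuotientGroup.mk n * QuotientGroup.mk x ∈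
      pCore 2 (H ⧸ V) := by
    have := hFn.conj_mem _ hf (QuotientGroup.mk x : H ⧸ V)⁻¹
    rwa [inv_inv] at this
  have ha₀F : (QuotientGroup.mk a₀ : H ⧸ V) ∈ pCore 2 (H ⧸ V) := by
    rw [hmka₀]
    exact Subgroup.mul_mem _ (Subgroup.inv_mem _ hf) hconjF
  have ha₀1 : (QuotientGroup.mk a₀ : H ⧸ V) ≠ 1 := by
    intro h
    apply hfx
    rw [hmka₀] at h
    have e : (QuotientGroup.mk n : H ⧸ V) * QuotientGroup.mk x = QuotientGroup.mk x *
        (QuotientGroup.mk n * ((QuotientGroup.mk n : H ⧸ V)⁻¹ *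
          ((QuotientGroup.mk x : H ⧸ V)⁻¹ * QuotientGroup.mk n * QuotientGroup.mk x))) := by group
    rw [e, h, mul_one]
  have hmka : (QuotientGroup.mk a : H ⧸ V) = QuotientGroup.mk a₀ := by
    rw [hadef, QuotientGroup.mk_pow, pow_succ, pow_two, hF2 _ ha₀F, one_mul]
  have haV : a ∉ V := by
    intro h
    apply ha₀1
    rw [← hmka]
    exact (QuotientGroup.eq_one_iff a).mpr h
  have haa : a * a = 1 := by
    rw [hadef, ← pow_add]
    exact hexp a₀
  have haF : (QuotientGroup.mk a : H ⧸ V) ∈ pCore 2 (H ⧸ V) := by rw [hmka]; exact ha₀F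
  -- `a b c ∈ V`
  have habcV : a * (x⁻¹ * a * x) * (x * a * x⁻¹) ∈ V := by
    rw [← QuotientGroup.eq_one_iff]
    have e0 : ((a * (x⁻¹ * a * x) * (x * a * x⁻¹) : H) : H ⧸ V) =
        QuotientGroup.mk a * ((QuotientGroup.mk x : H ⧸ V)⁻¹ * QuotientGroup.mk a *
          QuotientGroup.mk x) * (QuotientGroup.mk x * QuotientGroup.mk a *
          (QuotientGroup.mk x : H ⧸ V)⁻¹) := rfl
    rw [e0, hmka, hmka₀]
    obtain ⟨X, hXdef⟩ : ∃ X : H ⧸ V, X = QuotientGroup.mk x := ⟨_, rfl⟩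
    obtain ⟨F, hFdef⟩ : ∃ F : H ⧸ V, F = QuotientGroup.mk n := ⟨_, rfl⟩
    rw [← hXdef, ← hFdef]
    rw [← hXdef] at hxK3
    have e1 : F⁻¹ * (X⁻¹ * F * X) * (X⁻¹ * (F⁻¹ * (X⁻¹ * F * X)) * X) *
        (X * (F⁻¹ * (X⁻¹ * F * X)) * X⁻¹) =
        F⁻¹ * X⁻¹ * X⁻¹ * F * (X * X * X) * F⁻¹ * X⁻¹ * F := by group
    rw [e1, hxK3]
    have e2 : F⁻¹ * X⁻¹ * X⁻¹ * F * 1 * F⁻¹ * X⁻¹ * F = F⁻¹ * (X * X * X)⁻¹ * F := by group
    rw [e2, hxK3]
    group
  have habV : ((x⁻¹ * a * x) * a)⁻¹ * (a * (x⁻¹ * a * x)) ∈ V := by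
    rw [← QuotientGroup.eq]
    have hbF : (QuotientGroup.mk x : H ⧸ V)⁻¹ * QuotientGroup.mk a * QuotientGroup.mk x ∈
        pCore 2 (H ⧸ V) := by
      have := hFn.conj_mem _ haF (QuotientGroup.mk x : H ⧸ V)⁻¹
      rwa [inv_inv] at this
    exact comm_of_sq_eq_one hF2 hbF haF
  -- the minimal normal subgroup `T`
  have haC : a ∉ Subgroup.centralizer (V : Set H) := fun h => haV (hCV h)
  obtain ⟨T, ⟨hTn, hTV, hTa⟩, hTmin⟩ := Set.exists_min_image
    {T : Subgroup H | T.Normal ∧ T ≤ V ∧ a ∉ Subgroup.centralizer (T : Set H)}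
    (fun T => Nat.card T) (Set.toFinite _) ⟨V, hVn, le_rfl, haC⟩
  haveI := hTn
  have hTne : T ≠ ⊥ := by
    rintro rfl
    apply hTa
    rw [Subgroup.mem_centralizer_iff]
    intro h hh
    rw [SetLike.mem_coe, Subgroup.mem_bot] at hh
    rw [hh, one_mul, mul_one]
  obtain ⟨R, hRdef⟩ : ∃ R : Subgroup H, R = sSup {Y : Subgroup H | Y.Normal ∧ Y ≤ T ∧ Y ≠ T} :=
    ⟨_, rfl⟩
  haveI hRn : R.Normal := by
    rw [hRdef]; exact Subgroup.sSup_normal _ (fun _ h => h.1)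
  have hRT : R ≤ T := by
    rw [hRdef]; exact sSup_le (fun Y hY => hY.2.1)
  have hRa : ∀ r ∈ R, r * a = a * r := by
    have hle : R ≤ Subgroup.centralizer ({a} : Set H) := by
      rw [hRdef]
      apply sSup_le
      intro Y hY y hy
      rw [Subgroup.mem_centralizer_singleton_iff]
      have hYa : a ∈ Subgroup.centralizer (Y : Set H) := by
        by_contra hcon
        have h1 := hTmin Y ⟨hY.1, hY.2.1.trans hTV, hcon⟩
        have h2 := card_lt_of_lt_aux (lt_of_le_of_ne hY.2.1 hY.2.2)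
        exact absurd h1 (not_le.mpr h2)
      exact Subgroup.mem_centralizer_iff.mp hYa y hy
    intro r hr
    exact Subgroup.mem_centralizer_singleton_iff.mp (hle hr)
  have hVnil : Group.IsNilpotent ↥V := hV3.isNilpotent
  have hTVR : ⁅T, V⁆ ≤ R := by
    rw [hRdef]
    apply le_sSup
    exact ⟨Subgroup.commutator_normal T V, Subgroup.commutator_le_left T V,
      commutator_ne_of_nilpotent hVnil hTV hTne⟩
  have hT3 : ∀ t ∈ T, t ^ 3 = 1 := fun t ht => cube_eq_one_of_isPGroup hexp hV3 (hTV ht)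
  -- the quotient `H / R`
  have hL : ∀ v ∈ V, ∀ t ∈ T, (QuotientGroup.mk (v * t * v⁻¹) : H ⧸ R) = QuotientGroup.mk t := by
    intro v hv t ht
    rw [QuotientGroup.eq]
    apply hTVR
    rw [Subgroup.commutator_comm]
    have h := Subgroup.commutator_mem_commutator hv (T.inv_mem ht)
    rw [commutatorElement_def] at h
    have e : (v * t * v⁻¹)⁻¹ * t = v * t⁻¹ * v⁻¹ * t⁻¹⁻¹ := by group
    rw [e]
    exact h
  have hL' : ∀ g₁ g₂ : H, g₂⁻¹ * g₁ ∈ V → ∀ t ∈ T,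
      cj (QuotientGroup.mk g₁ : H ⧸ R) (QuotientGroup.mk t) =
        cj (QuotientGroup.mk g₂ : H ⧸ R) (QuotientGroup.mk t) := by
    intro g₁ g₂ hg t ht
    have h1 := hL _ hg t ht
    unfold cj
    have e : (QuotientGroup.mk g₁ : H ⧸ R) * QuotientGroup.mk t * (QuotientGroup.mk g₁)⁻¹ =
        QuotientGroup.mk g₂ * (QuotientGroup.mk (g₂⁻¹ * g₁ * t * (g₂⁻¹ * g₁)⁻¹) : H ⧸ R) *
          (QuotientGroup.mk g₂)⁻¹ := by
      simp only [QuotientGroup.mk_mul, QuotientGroup.mk_inv]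
      group
    rw [e, h1]
  obtain ⟨X, hXdef⟩ : ∃ X : Subgroup (H ⧸ R), X = T.map (QuotientGroup.mk' R) := ⟨_, rfl⟩
  haveI hXn : X.Normal := by
    rw [hXdef]; exact Subgroup.Normal.map hTn _ (QuotientGroup.mk'_surjective R)
  have hexpK : ∀ k : H ⧸ R, k ^ 6 = 1 := by
    intro k
    obtain ⟨g, rfl⟩ := QuotientGroup.mk_surjective k
    rw [← QuotientGroup.mk_pow, hexp]; rfl
  have hXc : ∀ u ∈ X, ∀ v ∈ X, u * v = v * u := by
    intro u hu v hv
    rw [hXdef] at hu hv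
    obtain ⟨t, ht, rfl⟩ := hu
    obtain ⟨t', ht', rfl⟩ := hv
    have h1 := hL t (hTV ht) t' ht'
    simp only [QuotientGroup.mk'_apply]
    rw [QuotientGroup.mk_mul, QuotientGroup.mk_mul, QuotientGroup.mk_inv] at h1
    calc (QuotientGroup.mk t : H ⧸ R) * QuotientGroup.mk t'
        = ((QuotientGroup.mk t : H ⧸ R) * QuotientGroup.mk t' * (QuotientGroup.mk t)⁻¹) *
            QuotientGroup.mk t := by group
      _ = QuotientGroup.mk t' * QuotientGroup.mk t := by rw [h1]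
  have hX3 : ∀ u ∈ X, u ^ 3 = 1 := by
    intro u hu
    rw [hXdef] at hu
    obtain ⟨t, ht, rfl⟩ := hu
    rw [QuotientGroup.mk'_apply, ← QuotientGroup.mk_pow, hT3 t ht]; rfl
  have haK : (QuotientGroup.mk a : H ⧸ R) * QuotientGroup.mk a = 1 := by
    rw [← QuotientGroup.mk_mul, haa]; rfl
  have hxK : (QuotientGroup.mk x : H ⧸ R) * QuotientGroup.mk x * QuotientGroup.mk x = 1 := by
    rw [← QuotientGroup.mk_mul, ← QuotientGroup.mk_mul, hx3]; rfl
  have hcommK : ∀ u ∈ X, cj (QuotientGroup.mk a : H ⧸ R)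
      (cj ((QuotientGroup.mk x : H ⧸ R)⁻¹ * QuotientGroup.mk a * QuotientGroup.mk x) u) =
      cj ((QuotientGroup.mk x : H ⧸ R)⁻¹ * QuotientGroup.mk a * QuotientGroup.mk x)
        (cj (QuotientGroup.mk a) u) := by
    intro u hu
    rw [hXdef] at hu
    obtain ⟨t, ht, rfl⟩ := hu
    rw [cj_cj, cj_cj, QuotientGroup.mk'_apply]
    exact hL' (a * (x⁻¹ * a * x)) ((x⁻¹ * a * x) * a) habV t ht
  have hprodK : ∀ u ∈ X, cj (QuotientGroup.mk a : H ⧸ R)
      (cj ((QuotientGroup.mk x : H ⧸ R)⁻¹ * QuotientGroup.mk a * QuotientGroup.mk x)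
        (cj (QuotientGroup.mk x * QuotientGroup.mk a * (QuotientGroup.mk x : H ⧸ R)⁻¹) u)) = u := by
    intro u hu
    rw [hXdef] at hu
    obtain ⟨t, ht, rfl⟩ := hu
    rw [cj_cj, cj_cj, QuotientGroup.mk'_apply]
    have h1 := hL' (a * (x⁻¹ * a * x) * (x * a * x⁻¹)) 1 (by rw [inv_one, one_mul]; exact habcV) t ht
    have e : cj (QuotientGroup.mk (1 : H) : H ⧸ R) (QuotientGroup.mk t) = QuotientGroup.mk t := by
      unfold cj
      rw [QuotientGroup.mk_one]; group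
    rw [e] at h1
    exact h1
  have hkey := key_lemma hexpK X hXc hX3 (QuotientGroup.mk a) (QuotientGroup.mk x) haK hxK
    hcommK hprodK
  -- `a` centralizes `T`
  apply hTa
  rw [Subgroup.mem_centralizer_iff]
  intro t ht
  have ht' : t ∈ T := ht
  have h1 := hkey (QuotientGroup.mk t) (by rw [hXdef]; exact ⟨t, ht', rfl⟩)
  unfold cj at h1
  rw [← QuotientGroup.mk_inv, ← QuotientGroup.mk_mul, ← QuotientGroup.mk_mul, QuotientGroup.eq] at h1
  -- `r = (a t a⁻¹)⁻¹ t ∈ R`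
  obtain ⟨r, hrdef⟩ : ∃ r : H, r = (a * t * a⁻¹)⁻¹ * t := ⟨_, rfl⟩
  rw [← hrdef] at h1
  have hra := hRa r h1
  have hainv : a⁻¹ = a := inv_eq_of_mul_eq_one_right haa
  have hrr : r * r = 1 := by
    -- `a t a⁻¹ = t r⁻¹`, conjugate again
    have e1 : a * t * a⁻¹ = t * r⁻¹ := by rw [hrdef]; group
    have e2 : a * (a * t * a⁻¹) * a⁻¹ = t := by
      have : a * (a * t * a⁻¹) * a⁻¹ = (a * a) * t * (a * a)⁻¹ := by group
      rw [this, haa]; group
    rw [e1] at e2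
    have e3 : a * (t * r⁻¹) * a⁻¹ = (a * t * a⁻¹) * (a * r * a⁻¹)⁻¹ := by group
    have e4 : a * r * a⁻¹ = r := by rw [← hra]; group
    rw [e3, e4, e1] at e2
    -- `t r⁻¹ r⁻¹ = t`
    have e5 : t * (r⁻¹ * r⁻¹) = t * 1 := by rw [← mul_assoc, e2, mul_one]
    have e6 : r⁻¹ * r⁻¹ = 1 := mul_left_cancel e5
    have e7 : r * r = (r⁻¹ * r⁻¹)⁻¹ := by rw [mul_inv_rev, inv_inv]
    rw [e7, e6, inv_one]
  have hr1 : r = 1 := eq_one_of_sq_of_cube hrr (hT3 r (hRT h1))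
  rw [hr1] at hrdef
  have : a * t * a⁻¹ = t := by
    have e : a * t * a⁻¹ = t * ((a * t * a⁻¹)⁻¹ * t)⁻¹ := by group
    rw [e, ← hrdef]; group
  calc t * a = (a * t * a⁻¹) * a := by rw [this]
    _ = a * t := by group

end main

section final

variable {G : Type u} [Group G] [Finite G]

theorem plength_three (hexp : ∀ x : G, x ^ 6 = 1) : PLengthLE 3 1 G := by
  haveI : Fact (Nat.Prime 3) := ⟨Nat.prime_three⟩
  have h0 : PLengthLE 3 0 ↥(pPrimeCore 3 G) := plength_zero_of_coprime (pPrimeCore_coprime 3)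
  have hexpQ : ∀ k : G ⧸ pPrimeCore 3 G, k ^ 6 = 1 := by
    intro k
    obtain ⟨g, rfl⟩ := QuotientGroup.mk_surjective k
    rw [← QuotientGroup.mk_pow, hexp]; rfl
  have hpp : pPrimeCore 3 (G ⧸ pPrimeCore 3 G) = ⊥ :=
    Cfsg.Agent.Lib.Lead.PiCore.pPrimeCore_quotient_eq_bot Nat.prime_three
  have h2 : pCore 2 (G ⧸ pPrimeCore 3 G) = ⊥ := by
    have hc : (Nat.card (pCore 2 (G ⧸ pPrimeCore 3 G))).Coprime 3 := by
      haveI : Fact (Nat.Prime 2) := ⟨Nat.prime_two⟩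
      obtain ⟨k, hk⟩ := IsPGroup.iff_card.mp (pCore_isPGroup 2 (G := G ⧸ pPrimeCore 3 G))
      rw [hk]; exact Nat.Coprime.pow_left k (by norm_num)
    have h := le_pPrimeCore (inferInstance : (pCore 2 (G ⧸ pPrimeCore 3 G)).Normal) hc
    rw [hpp] at h
    exact le_bot_iff.mp h
  have hc3 := coprime_three hexpQ h2
  have h1 : PLengthLE 3 1 (G ⧸ pPrimeCore 3 G) := by
    have ha : PLengthLE 3 1 ↥(pCore 3 (G ⧸ pPrimeCore 3 G)) :=
      plength_one_of_isPGroup (pCore_isPGroup 3)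
    have hb : PLengthLE 3 0 ((G ⧸ pPrimeCore 3 G) ⧸ pCore 3 (G ⧸ pPrimeCore 3 G)) :=
      plength_zero_of_coprime hc3
    exact plength_extension (pCore 3 (G ⧸ pPrimeCore 3 G)) ha hb
  exact plength_extension (pPrimeCore 3 G) h0 h1

theorem plength_two (hexp : ∀ x : G, x ^ 6 = 1) : PLengthLE 2 1 G := by
  haveI : Fact (Nat.Prime 2) := ⟨Nat.prime_two⟩
  have h0 : PLengthLE 2 0 ↥(pPrimeCore 2 G) := plength_zero_of_coprime (pPrimeCore_coprime 2)
  have hexpQ : ∀ k : G ⧸ pPrimeCore 2 G, k ^ 6 = 1 := by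
    intro k
    obtain ⟨g, rfl⟩ := QuotientGroup.mk_surjective k
    rw [← QuotientGroup.mk_pow, hexp]; rfl
  have hpp : pPrimeCore 2 (G ⧸ pPrimeCore 2 G) = ⊥ :=
    Cfsg.Agent.Lib.Lead.PiCore.pPrimeCore_quotient_eq_bot Nat.prime_two
  have h3 : pCore 3 (G ⧸ pPrimeCore 2 G) = ⊥ := by
    have hc : (Nat.card (pCore 3 (G ⧸ pPrimeCore 2 G))).Coprime 2 := by
      haveI : Fact (Nat.Prime 3) := ⟨Nat.prime_three⟩
      obtain ⟨k, hk⟩ := IsPGroup.iff_card.mp (pCore_isPGroup 3 (G := G ⧸ pPrimeCore 2 G))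
      rw [hk]; exact Nat.Coprime.pow_left k (by norm_num)
    have h := le_pPrimeCore (inferInstance : (pCore 3 (G ⧸ pPrimeCore 2 G)).Normal) hc
    rw [hpp] at h
    exact le_bot_iff.mp h
  have hc2 := coprime_two hexpQ h3
  have h1 : PLengthLE 2 1 (G ⧸ pPrimeCore 2 G) := by
    have ha : PLengthLE 2 1 ↥(pCore 2 (G ⧸ pPrimeCore 2 G)) :=
      plength_one_of_isPGroup (pCore_isPGroup 2)
    have hb : PLengthLE 2 0 ((G ⧸ pPrimeCore 2 G) ⧸ pCore 2 (G ⧸ pPrimeCore 2 G)) :=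
      plength_zero_of_coprime hc2
    exact plength_extension (pCore 2 (G ⧸ pPrimeCore 2 G)) ha hb
  exact plength_extension (pPrimeCore 2 G) h0 h1

end final

end Cfsg.Agent.Lead.ExpSix
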