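import Mathlib

/-!
# A weak form of the Hall–Petrescu formula, via polynomial sequences

(author: lead)

For a group `G` with `γ_p(G) = 1` and `x y : G` we show
`(x y)^p = x^p y^p c` with `c` a product of `p`-th powers of elements of `γ₂(G)`.

The proof follows the "polynomial sequences" approach (Lazard, Leibman): a sequence
`g : ℕ → G` is polynomial (with respect to the lower central filtration) if its `i`-th
discrete derivative takes values in `γ_i(G)`.  Polynomial sequences are closed under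
products, inverses and commutators, the sequences `n ↦ x^n` are polynomial, and a polynomial
sequence has a Taylor expansion `g n = ∏ g_i ^ (n.choose i)` with `g_i ∈ γ_i(G)`.
-/

set_option autoImplicit false

namespace Cfsg.Agent.Lib.Lead.HallPet

open scoped commutatorElement

section threeSub

variable {G : Type*} [Group G]

/-- three subgroups lemma modulo a normal subgroup -/
theorem three_subgroups_le (A B C N : Subgroup G) [N.Normal]
    (h1 : ⁅⁅B, C⁆, A⁆ ≤ N) (h2 : ⁅⁅C, A⁆, B⁆ ≤ N) : ⁅⁅A, B⁆, C⁆ ≤ N := by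
  have key : (⁅⁅A, B⁆, C⁆).map (QuotientGroup.mk' N) = ⊥ := by
    rw [Subgroup.map_commutator, Subgroup.map_commutator]
    apply Subgroup.commutator_commutator_eq_bot_of_rotate
    · rw [← Subgroup.map_commutator, ← Subgroup.map_commutator, Subgroup.map_eq_bot_iff,
        QuotientGroup.ker_mk']
      exact h1
    · rw [← Subgroup.map_commutator, ← Subgroup.map_commutator, Subgroup.map_eq_bot_iff,
        QuotientGroup.ker_mk']
      exact h2
  rw [Subgroup.map_eq_bot_iff, QuotientGroup.ker_mk'] at key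
  exact key

theorem lcs_comm_le : ∀ (j i : ℕ),
    ⁅(⊤ : Subgroup G).lowerCentralSeries i, (⊤ : Subgroup G).lowerCentralSeries j⁆ ≤
      (⊤ : Subgroup G).lowerCentralSeries (i + j + 1) := by
  intro j
  induction j with
  | zero =>
    intro i
    rw [Subgroup.lowerCentralSeries_zero, Nat.add_zero, Subgroup.lowerCentralSeries_succ]
  | succ j ih =>
    intro i
    rw [Subgroup.lowerCentralSeries_succ (⊤ : Subgroup G) j, Subgroup.commutator_comm]
    apply three_subgroups_le
    · rw [Subgroup.commutator_comm ⊤, ← Subgroup.lowerCentralSeries_succ]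
      have := ih (i + 1)
      have e : i + 1 + j + 1 = i + (j + 1) + 1 := by omega
      rw [e] at this
      exact this
    · have h := ih i
      have e : i + (j + 1) + 1 = (i + j + 1) + 1 := by omega
      rw [e, Subgroup.lowerCentralSeries_succ (⊤ : Subgroup G) (i + j + 1)]
      exact Subgroup.commutator_mono h le_rfl

end threeSub

section filtration

variable (G : Type*) [Group G]

/-- the filtration `Γ₀ = Γ₁ = G`, `Γ_i = γ_i(G)` -/
def Gam : ℕ → Subgroup G
  | 0 => ⊤
  | (d + 1) => (⊤ : Subgroup G).lowerCentralSeries d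

instance Gam_normal (d : ℕ) : (Gam G d).Normal := by
  cases d with
  | zero => show (⊤ : Subgroup G).Normal; infer_instance
  | succ d => show ((⊤ : Subgroup G).lowerCentralSeries d).Normal; infer_instance

theorem Gam_succ_le (d : ℕ) : Gam G (d + 1) ≤ Gam G d := by
  cases d with
  | zero => exact le_top
  | succ d => exact Subgroup.lowerCentralSeries_antitone (⊤ : Subgroup G) (Nat.le_succ d)

theorem Gam_antitone {d e : ℕ} (h : d ≤ e) : Gam G e ≤ Gam G d := by
  induction h with
  | refl => exact le_rfl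
  | step _ ih => exact (Gam_succ_le G _).trans ih

theorem Gam_comm (d e : ℕ) : ⁅Gam G d, Gam G e⁆ ≤ Gam G (d + e) := by
  cases d with
  | zero =>
    rw [Nat.zero_add]
    exact Subgroup.commutator_le_right _ _
  | succ d =>
    cases e with
    | zero => exact Subgroup.commutator_le_left _ _
    | succ e =>
      have e1 : d + 1 + (e + 1) = (d + e + 1) + 1 := by omega
      rw [e1]
      exact lcs_comm_le e d

variable {G}

theorem comm_mem_Gam {d e : ℕ} {a b : G} (ha : a ∈ Gam G d) (hb : b ∈ Gam G e) :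
    ⁅a, b⁆ ∈ Gam G (d + e) :=
  Gam_comm G d e (Subgroup.commutator_mem_commutator ha hb)

end filtration

section poly

variable {G : Type*} [Group G]

/-- discrete derivative -/
def D (g : ℕ → G) : ℕ → G := fun n => g (n + 1) * (g n)⁻¹

/-- `TP m d g`: the `i`-th derivative of `g` takes values in `Γ_{d+i}` for `i ≤ m` -/
def TP : ℕ → ℕ → (ℕ → G) → Prop
  | 0, d, g => ∀ n, g n ∈ Gam G d
  | (m + 1), d, g => (∀ n, g n ∈ Gam G d) ∧ TP m (d + 1) (D g)

theorem TP.val {m d : ℕ} {g : ℕ → G} (h : TP m d g) : ∀ n, g n ∈ Gam G d := by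
  cases m with
  | zero => exact h
  | succ m => exact h.1

theorem TP.mono : ∀ (m : ℕ) {d e : ℕ} {g : ℕ → G}, d ≤ e → TP m e g → TP m d g := by
  intro m
  induction m with
  | zero => intro d e g hde h n; exact Gam_antitone G hde (h n)
  | succ m ih =>
    intro d e g hde h
    exact ⟨fun n => Gam_antitone G hde (h.1 n), ih (Nat.succ_le_succ hde) h.2⟩

theorem TP.level : ∀ (m : ℕ) {d : ℕ} {g : ℕ → G}, TP (m + 1) d g → TP m d g := by
  intro m
  induction m with
  | zero => intro d g h; exact h.1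
  | succ m ih => intro d g h; exact ⟨h.1, ih h.2⟩

theorem D_one : D (fun _ : ℕ => (1 : G)) = fun _ => 1 := by
  funext n; simp [D]

theorem TP.one : ∀ (m d : ℕ), TP m d (fun _ : ℕ => (1 : G)) := by
  intro m
  induction m with
  | zero => intro d n; exact one_mem _
  | succ m ih =>
    intro d
    refine ⟨fun n => one_mem _, ?_⟩
    rw [D_one]; exact ih _

theorem TP.const (m d : ℕ) (a : G) (ha : a ∈ Gam G d) : TP m d (fun _ : ℕ => a) := by
  cases m with
  | zero => intro n; exact ha
  | succ m =>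
    refine ⟨fun n => ha, ?_⟩
    have : D (fun _ : ℕ => a) = fun _ => 1 := by funext n; simp [D]
    rw [this]; exact TP.one _ _

theorem TP.shift : ∀ (m : ℕ) {d : ℕ} {g : ℕ → G}, TP m d g → TP m d (fun n => g (n + 1)) := by
  intro m
  induction m with
  | zero => intro d g h n; exact h (n + 1)
  | succ m ih =>
    intro d g h
    refine ⟨fun n => h.1 (n + 1), ?_⟩
    exact ih h.2

theorem D_mul (g h : ℕ → G) :
    D (fun n => g n * h n) = fun n => ⁅g (n + 1), D h n⁆ * D h n * D g n := by
  funext n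
  simp only [D, commutatorElement_def]
  group

theorem D_inv (g : ℕ → G) :
    D (fun n => (g n)⁻¹) = fun n => ⁅(g (n + 1))⁻¹, (D g n)⁻¹⁆ * (D g n)⁻¹ := by
  funext n
  simp only [D, commutatorElement_def]
  group

theorem D_comm (g h : ℕ → G) :
    D (fun n => ⁅g n, h n⁆) = fun n =>
      (⁅D g n, ⁅g n, D h n⁆⁆ * ⁅g n, D h n⁆) * ⁅D g n * D h n, ⁅g n, h n⁆⁆ *
        (⁅⁅g n, h n⁆, ⁅D g n, D h n⁆ * (⁅D h n, ⁅D g n, h n⁆⁆ * ⁅D g n, h n⁆)⁆ *
          (⁅D g n, D h n⁆ * (⁅D h n, ⁅D g n, h n⁆⁆ * ⁅D g n, h n⁆))) := by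
  funext n
  simp only [D, commutatorElement_def]
  group

/-- closure of the classes `TP m d` under products, inverses and commutators -/
theorem TP.main : ∀ (m : ℕ),
    (∀ (d : ℕ) (g h : ℕ → G), TP m d g → TP m d h → TP m d (fun n => g n * h n)) ∧
    (∀ (d : ℕ) (g : ℕ → G), TP m d g → TP m d (fun n => (g n)⁻¹)) ∧
    (∀ (d e : ℕ) (g h : ℕ → G), TP m d g → TP m e h → TP m (d + e) (fun n => ⁅g n, h n⁆)) := by
  intro m
  induction m with
  | zero =>
    refine ⟨?_, ?_, ?_⟩
    · intro d g h hg hh n; exact mul_mem (hg n) (hh n)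
    · intro d g hg n; exact inv_mem (hg n)
    · intro d e g h hg hh n; exact comm_mem_Gam (hg n) (hh n)
  | succ m ih =>
    obtain ⟨A, I, B⟩ := ih
    refine ⟨?_, ?_, ?_⟩
    · intro d g h hg hh
      refine ⟨fun n => mul_mem (hg.1 n) (hh.1 n), ?_⟩
      rw [D_mul]
      have h1 : TP m d (fun n => g (n + 1)) := TP.shift m (TP.level m hg)
      have h2 : TP m (d + (d + 1)) (fun n => ⁅g (n + 1), D h n⁆) := B d (d + 1) _ _ h1 hh.2
      have h3 : TP m (d + 1) (fun n => ⁅g (n + 1), D h n⁆) := TP.mono m (by omega) h2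
      exact A (d + 1) _ _ (A (d + 1) _ _ h3 hh.2) hg.2
    · intro d g hg
      refine ⟨fun n => inv_mem (hg.1 n), ?_⟩
      rw [D_inv]
      have h1 : TP m d (fun n => (g (n + 1))⁻¹) := I d _ (TP.shift m (TP.level m hg))
      have h2 : TP m (d + 1) (fun n => (D g n)⁻¹) := I (d + 1) _ hg.2
      have h3 : TP m (d + (d + 1)) (fun n => ⁅(g (n + 1))⁻¹, (D g n)⁻¹⁆) := B d (d + 1) _ _ h1 h2
      exact A (d + 1) _ _ (TP.mono m (by omega) h3) h2
    · intro d e g h hg hh
      refine ⟨fun n => comm_mem_Gam (hg.1 n) (hh.1 n), ?_⟩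
      rw [D_comm]
      have hg0 : TP m d g := TP.level m hg
      have hh0 : TP m e h := TP.level m hh
      have ha : TP m (d + 1) (D g) := hg.2
      have hb : TP m (e + 1) (D h) := hh.2
      have hw : TP m (d + e) (fun n => ⁅g n, h n⁆) := B d e _ _ hg0 hh0
      have hub : TP m (d + e + 1) (fun n => ⁅g n, D h n⁆) := B d (e + 1) _ _ hg0 hb
      have haub : TP m (d + e + 1) (fun n => ⁅D g n, ⁅g n, D h n⁆⁆) :=
        TP.mono m (by omega) (B (d + 1) (d + e + 1) _ _ ha hub)
      have hT1 : TP m (d + e + 1) (fun n => ⁅D g n, ⁅g n, D h n⁆⁆ * ⁅g n, D h n⁆) :=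
        A _ _ _ haub hub
      have hab : TP m 1 (fun n => D g n * D h n) :=
        A 1 _ _ (TP.mono m (by omega) ha) (TP.mono m (by omega) hb)
      have habw : TP m (d + e + 1) (fun n => ⁅D g n * D h n, ⁅g n, h n⁆⁆) :=
        TP.mono m (by omega) (B 1 (d + e) _ _ hab hw)
      have hab' : TP m (d + e + 1) (fun n => ⁅D g n, D h n⁆) :=
        TP.mono m (by omega) (B (d + 1) (e + 1) _ _ ha hb)
      have hav : TP m (d + e + 1) (fun n => ⁅D g n, h n⁆) :=
        TP.mono m (by omega) (B (d + 1) e _ _ ha hh0)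
      have hbav : TP m (d + e + 1) (fun n => ⁅D h n, ⁅D g n, h n⁆⁆) :=
        TP.mono m (by omega) (B (e + 1) (d + e + 1) _ _ hb hav)
      have hY : TP m (d + e + 1)
          (fun n => ⁅D g n, D h n⁆ * (⁅D h n, ⁅D g n, h n⁆⁆ * ⁅D g n, h n⁆)) :=
        A _ _ _ hab' (A _ _ _ hbav hav)
      have hwY : TP m (d + e + 1) (fun n => ⁅⁅g n, h n⁆,
          ⁅D g n, D h n⁆ * (⁅D h n, ⁅D g n, h n⁆⁆ * ⁅D g n, h n⁆)⁆) :=
        TP.mono m (by omega) (B (d + e) (d + e + 1) _ _ hw hY)
      exact A _ _ _ (A _ _ _ hT1 habw) (A _ _ _ hwY hY)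

/-- polynomial sequences -/
def Poly (g : ℕ → G) : Prop := ∀ m, TP m 0 g

theorem Poly.mul {g h : ℕ → G} (hg : Poly g) (hh : Poly h) : Poly (fun n => g n * h n) :=
  fun m => (TP.main m).1 0 g h (hg m) (hh m)

theorem Poly.inv {g : ℕ → G} (hg : Poly g) : Poly (fun n => (g n)⁻¹) :=
  fun m => (TP.main m).2.1 0 g (hg m)

theorem Poly.pow (x : G) : Poly (fun n => x ^ n) := by
  intro m
  cases m with
  | zero => intro n; exact Subgroup.mem_top _
  | succ m =>
    refine ⟨fun n => Subgroup.mem_top _, ?_⟩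
    have : D (fun n => x ^ n) = fun _ => x := by
      funext n; simp only [D]; rw [pow_succ]; group
    rw [this]
    exact TP.const m 1 x (Subgroup.mem_top _)

/-- the sequences `n ↦ a ^ (n.choose j)` for `a ∈ Γ_k`, `j ≤ k` -/
theorem TP.choose {k : ℕ} {a : G} (ha : a ∈ Gam G k) :
    ∀ (m j : ℕ), j ≤ k → TP m (k - j) (fun n => a ^ (n.choose j)) := by
  intro m
  induction m with
  | zero =>
    intro j hj n
    exact Gam_antitone G (Nat.sub_le k j) (pow_mem ha _)
  | succ m ih =>
    intro j hj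
    refine ⟨fun n => Gam_antitone G (Nat.sub_le k j) (pow_mem ha _), ?_⟩
    cases j with
    | zero =>
      have : D (fun n : ℕ => a ^ (n.choose 0)) = fun _ => 1 := by
        funext n; simp [D]
      rw [this]; exact TP.one _ _
    | succ j =>
      have : D (fun n : ℕ => a ^ (n.choose (j + 1))) = fun n => a ^ (n.choose j) := by
        funext n
        simp only [D]
        rw [Nat.choose_succ_succ, pow_add, mul_inv_cancel_right]
      rw [this]
      have e : k - (j + 1) + 1 = k - j := by omega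
      rw [e]
      exact ih j (by omega)

theorem Poly.choose {k : ℕ} {a : G} (ha : a ∈ Gam G k) : Poly (fun n => a ^ (n.choose k)) := by
  intro m
  have := TP.choose ha m k le_rfl
  rwa [Nat.sub_self] at this

/-- a sequence in `TP k d` vanishing at `0, …, k-1` has `g k ∈ Γ_{d+k}` -/
theorem TP.vanish : ∀ (k : ℕ) {d : ℕ} {g : ℕ → G}, TP k d g → (∀ j < k, g j = 1) →
    g k ∈ Gam G (d + k) := by
  intro k
  induction k with
  | zero => intro d g h _; exact h 0
  | succ k ih =>
    intro d g h hv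
    have h1 : ∀ j < k, D g j = 1 := by
      intro j hj
      simp only [D]
      rw [hv (j + 1) (by omega), hv j (by omega)]
      simp
    have h2 := ih h.2 h1
    have h3 : D g k = g (k + 1) := by
      simp only [D]
      rw [hv k (by omega)]
      simp
    rw [h3] at h2
    have e : d + 1 + k = d + (k + 1) := by omega
    rwa [e] at h2

/-- Taylor expansion, evaluated at a prime `p` -/
theorem Poly.eval_prime {p : ℕ} (hp : p.Prime) (hbot : Gam G p = ⊥) :
    ∀ (t k : ℕ), k + t = p → 2 ≤ k → ∀ g : ℕ → G, Poly g → (∀ j < k, g j = 1) →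
      g p ∈ Subgroup.closure {y : G | ∃ x ∈ Gam G 2, y = x ^ p} := by
  intro t
  induction t with
  | zero =>
    intro k hk h2 g hg hv
    have hkp : k = p := by omega
    subst hkp
    have h1 := TP.vanish k (hg k) hv
    rw [Nat.zero_add, hbot, Subgroup.mem_bot] at h1
    rw [h1]; exact one_mem _
  | succ t ih =>
    intro k hk h2 g hg hv
    have ha : g k ∈ Gam G k := by
      have h1 := TP.vanish k (hg k) hv
      rwa [Nat.zero_add] at h1
    obtain ⟨a, haeq⟩ : ∃ a, a = g k := ⟨_, rfl⟩
    rw [← haeq] at ha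
    have hh : Poly (fun n => (a ^ (n.choose k))⁻¹ * g n) := (Poly.choose ha).inv.mul hg
    have hv' : ∀ j < k + 1, (fun n => (a ^ (n.choose k))⁻¹ * g n) j = 1 := by
      intro j hj
      rcases Nat.lt_succ_iff_lt_or_eq.mp hj with hj' | hj'
      · simp only
        rw [Nat.choose_eq_zero_of_lt hj', hv j hj']
        simp
      · subst hj'
        simp only
        rw [Nat.choose_self, pow_one, haeq]
        simp
    have h3 := ih (k + 1) (by omega) (by omega) _ hh hv'
    have hdvd : p ∣ p.choose k := hp.dvd_choose_self (by omega) (by omega)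
    obtain ⟨q, hq⟩ := hdvd
    have h4 : a ^ (p.choose k) ∈ Subgroup.closure {y : G | ∃ x ∈ Gam G 2, y = x ^ p} := by
      apply Subgroup.subset_closure
      refine ⟨a ^ q, pow_mem (Gam_antitone G h2 ha) _, ?_⟩
      rw [hq, ← pow_mul, mul_comm]
    have h5 : g p = a ^ (p.choose k) * ((a ^ (p.choose k))⁻¹ * g p) := by group
    rw [h5]
    exact mul_mem h4 h3

/-- **Weak Hall–Petrescu**: if `γ_p(G) = 1` then `(x y)^p = x^p y^p c` with `c` a product of
`p`-th powers of elements of the derived subgroup. -/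
theorem weak_hall_petrescu {p : ℕ} (hp : p.Prime)
    (hcl : (⊤ : Subgroup G).lowerCentralSeries (p - 1) = ⊥) (x y : G) :
    ∃ c ∈ Subgroup.closure {z : G | ∃ u ∈ _root_.commutator G, z = u ^ p},
      (x * y) ^ p = x ^ p * y ^ p * c := by
  have hbot : Gam G p = ⊥ := by
    obtain ⟨q, hq⟩ : ∃ q, p = q + 1 := ⟨p - 1, by have := hp.pos; omega⟩
    subst hq
    rw [Nat.add_sub_cancel] at hcl
    exact hcl
  have hG2 : Gam G 2 = _root_.commutator G := Subgroup.top_lowerCentralSeries_one
  have hpoly : Poly (fun n => ((x ^ n * y ^ n))⁻¹ * (x * y) ^ n) :=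
    ((Poly.pow x).mul (Poly.pow y)).inv.mul (Poly.pow (x * y))
  have hv : ∀ j < 2, (fun n => ((x ^ n * y ^ n))⁻¹ * (x * y) ^ n) j = 1 := by
    intro j hj
    interval_cases j
    · simp
    · simp
  have h1 := Poly.eval_prime hp hbot (p - 2) 2 (by have := hp.two_le; omega) le_rfl _ hpoly hv
  rw [hG2] at h1
  refine ⟨_, h1, ?_⟩
  group

end poly

end Cfsg.Agent.Lib.Lead.HallPet
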