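import Mathlib
import Cfsg.Prelude.Def_CaseTheorems
import Cfsg.Agent.H2.CyclicIndexTwo
import Cfsg.Agent.H1.CyclicMaximal
import Cfsg.Agent.H1.CentralizerIndexBound
import Cfsg.Agent.Lib.Helper5.DihedralRecog

/-!
# p-groups in which every normal abelian subgroup is cyclic

(author: lead)  Such a group is cyclic, or `p = 2` and the group is generalized quaternion,
dihedral of order at least 16, or quasi-dihedral.
-/

set_option autoImplicit false

namespace Cfsg.Agent.Lead.NAC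

open Cfsg.Agent.H2

variable {P : Type*} [Group P] [Finite P]

/-- conjugation acts on a normal cyclic subgroup as a power map -/
lemma exists_conj_pow' (a : P) (hAn : (Subgroup.zpowers a).Normal) (g : P) :
    ∃ r : ℕ, g * a * g⁻¹ = a ^ r := by
  have h1 : g * a * g⁻¹ ∈ Subgroup.zpowers a := hAn.conj_mem a (Subgroup.mem_zpowers a) g
  rw [← mem_powers_iff_mem_zpowers] at h1
  obtain ⟨r, hr⟩ := h1
  exact ⟨r, hr.symm⟩

lemma conj_conj_comm (a : P) (hAn : (Subgroup.zpowers a).Normal) (g h : P) :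
    g * (h * a * h⁻¹) * g⁻¹ = h * (g * a * g⁻¹) * h⁻¹ := by
  obtain ⟨r, hr⟩ := exists_conj_pow' a hAn g
  obtain ⟨s, hs⟩ := exists_conj_pow' a hAn h
  rw [hs, hr, ← conj_pow, ← conj_pow, hr, hs, ← pow_mul, ← pow_mul, mul_comm]

/-- commutators lie in a self-centralizing normal cyclic subgroup -/
lemma comm_mem (a : P) (hAn : (Subgroup.zpowers a).Normal)
    (hcent : ∀ x : P, x * a = a * x → x ∈ Subgroup.zpowers a) (g h : P) :
    g * h * g⁻¹ * h⁻¹ ∈ Subgroup.zpowers a := by
  apply hcent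
  have key := conj_conj_comm a hAn g⁻¹ h⁻¹
  simp only [inv_inv] at key
  calc g * h * g⁻¹ * h⁻¹ * a = g * h * (g⁻¹ * (h⁻¹ * a * h) * g) * g⁻¹ * h⁻¹ := by group
    _ = g * h * (h⁻¹ * (g⁻¹ * a * g) * h) * g⁻¹ * h⁻¹ := by rw [key]
    _ = a * (g * h * g⁻¹ * h⁻¹) := by group

/-- order of the preimage of a cyclic subgroup of the quotient -/
lemma card_comap_zpowers (A : Subgroup P) [A.Normal] (q : P ⧸ A) :
    Nat.card ((Subgroup.zpowers q).comap (QuotientGroup.mk' A)) = orderOf q * Nat.card A := by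
  have h1 := Subgroup.index_comap_of_surjective (Subgroup.zpowers q) (QuotientGroup.mk'_surjective A)
  have h2 := (Subgroup.zpowers q).card_mul_index
  have h3 := ((Subgroup.zpowers q).comap (QuotientGroup.mk' A)).card_mul_index
  have h4 := Subgroup.card_eq_card_quotient_mul_card_subgroup A
  rw [Nat.card_zpowers] at h2
  rw [h1] at h3
  have hidx : 0 < (Subgroup.zpowers q).index := Nat.pos_of_ne_zero Subgroup.index_ne_zero_of_finite
  have h5 : Nat.card ((Subgroup.zpowers q).comap (QuotientGroup.mk' A)) * (Subgroup.zpowers q).index =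
      (orderOf q * Nat.card A) * (Subgroup.zpowers q).index := by
    rw [h3, h4, ← h2]; ring
  exact Nat.eq_of_mul_eq_mul_right hidx h5

/-- a modular-type subgroup over `⟨a⟩` gives a normal four-group -/
lemma modular_four_group (m : ℕ) (hm : 3 ≤ m) (a b : P) (ha : orderOf a = 2 ^ m)
    (hAn : (Subgroup.zpowers a).Normal) (hbA : b ∉ Subgroup.zpowers a) (hbb : b * b = 1)
    (hba : b * a * b⁻¹ = a ^ (1 + 2 ^ (m - 1)))
    (hcomm : ∀ g : P, g * b * g⁻¹ * b⁻¹ ∈ Subgroup.zpowers a) :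
    ∃ V : Subgroup P, V.Normal ∧ IsMulCommutative V ∧ ¬ IsCyclic V := by
  obtain ⟨z, hz⟩ : ∃ z : P, z = a ^ (2 ^ (m - 1)) := ⟨_, rfl⟩
  have ha' : orderOf a = 2 ^ (m + 1 - 1) := by rw [Nat.add_sub_cancel]; exact ha
  have e : m + 1 - 2 = m - 1 := by omega
  have hzz : z * z = 1 := by
    rw [hz, ← pow_add, ← two_mul, ← pow_succ', show m - 1 + 1 = m by omega, ← ha,
      pow_orderOf_eq_one]
  have hz1 : z ≠ 1 := by
    intro h
    rw [hz] at h
    have h3 := orderOf_dvd_of_pow_eq_one h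
    rw [ha] at h3
    have := (Nat.pow_dvd_pow_iff_le_right (by norm_num)).mp h3
    omega
  have hzA : z ∈ Subgroup.zpowers a := by rw [hz]; exact Subgroup.pow_mem _ (Subgroup.mem_zpowers a) _
  have hinvA : ∀ c ∈ Subgroup.zpowers a, c * c = 1 → c = 1 ∨ c = z := by
    intro c hc hcc
    have := CycIdxTwo.involution_zpowers (m + 1) (by omega) a ha' c hc hcc
    rwa [e, ← hz] at this
  have hbpow : ∀ c ∈ Subgroup.zpowers a, b * c * b⁻¹ = c ^ (1 + 2 ^ (m - 1)) := by
    intro c hc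
    rw [← mem_powers_iff_mem_zpowers] at hc
    obtain ⟨k, rfl⟩ := hc
    rw [← conj_pow, hba, ← pow_mul, ← pow_mul, mul_comm]
  have hbinv : b⁻¹ = b := inv_eq_of_mul_eq_one_left hbb
  have hconjb : ∀ g : P, g * b * g⁻¹ = b ∨ g * b * g⁻¹ = z * b := by
    intro g
    obtain ⟨c, hc⟩ : ∃ c, c = g * b * g⁻¹ * b⁻¹ := ⟨_, rfl⟩
    have hcA : c ∈ Subgroup.zpowers a := hc ▸ hcomm g
    have hgb : g * b * g⁻¹ = c * b := by rw [hc]; group
    have h1 : (c * b) * (c * b) = 1 := by
      rw [← hgb]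
      calc g * b * g⁻¹ * (g * b * g⁻¹) = g * (b * b) * g⁻¹ := by group
        _ = 1 := by rw [hbb]; group
    have h2 : c * c ^ (1 + 2 ^ (m - 1)) = 1 := by
      rw [← hbpow c hcA]
      calc c * (b * c * b⁻¹) = (c * b) * (c * b) * (b⁻¹ * b⁻¹) := by group
        _ = 1 := by rw [h1, hbinv, hbb, one_mul]
    have h3 : (c * c) ^ (1 + 2 ^ (m - 2)) = 1 := by
      rw [← pow_two, ← pow_mul]
      rw [← pow_succ'] at h2
      have h4 : 2 * (1 + 2 ^ (m - 2)) = 1 + 2 ^ (m - 1) + 1 := by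
        have : 2 ^ (m - 1) = 2 * 2 ^ (m - 2) := by rw [← pow_succ']; congr 1; omega
        omega
      rw [h4]; exact h2
    have h4 : (c * c) ^ (2 ^ m) = 1 := by
      have h5 : c ^ (2 ^ m) = 1 := by
        have := orderOf_dvd_of_mem_zpowers hcA
        rw [ha] at this
        exact orderOf_dvd_iff_pow_eq_one.mp this
      rw [← pow_two, ← pow_mul, mul_comm, pow_mul, h5, one_pow]
    have h5 : c * c = 1 := by
      have hodd : Odd (1 + 2 ^ (m - 2)) := by
        refine ⟨2 ^ (m - 3), ?_⟩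
        rw [show m - 2 = (m - 3) + 1 by omega, pow_succ]; ring
      have hcop : Nat.Coprime (1 + 2 ^ (m - 2)) (2 ^ m) :=
        Nat.Coprime.pow_right m (Nat.coprime_two_right.mpr hodd)
      have h6 := (pow_gcd_eq_one (a := c * c)).2 ⟨h3, h4⟩
      rwa [Nat.Coprime.gcd_eq_one hcop, pow_one] at h6
    rcases hinvA c hcA h5 with h | h
    · left; rw [hgb, h, one_mul]
    · right; rw [hgb, h]
  have hconjz : ∀ g : P, g * z * g⁻¹ = z := by
    intro g
    have h1 : g * z * g⁻¹ ∈ Subgroup.zpowers a := hAn.conj_mem z hzA g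
    have h2 : (g * z * g⁻¹) * (g * z * g⁻¹) = 1 := by
      calc (g * z * g⁻¹) * (g * z * g⁻¹) = g * (z * z) * g⁻¹ := by group
        _ = 1 := by rw [hzz]; group
    rcases hinvA _ h1 h2 with h | h
    · exfalso; apply hz1
      have : z = g⁻¹ * (g * z * g⁻¹) * g := by group
      rw [this, h]; group
    · exact h
  have hzb : z * b = b * z := by
    have := hconjz b
    calc z * b = (b * z * b⁻¹) * b := by rw [this]
      _ = b * z := by group
  have hbz : b ≠ z := fun h => hbA (h ▸ hzA)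
  have hb1 : b ≠ 1 := fun h => hbA (h ▸ Subgroup.one_mem _)
  refine ⟨Subgroup.closure {z, b}, ?_, ?_, ?_⟩
  · constructor
    intro n hn g
    induction hn using Subgroup.closure_induction with
    | mem x hx =>
      rcases hx with hx | hx
      · rw [hx, hconjz]; exact Subgroup.subset_closure (by simp)
      · have hx' : x = b := hx
        rw [hx']
        rcases hconjb g with h | h <;> rw [h]
        · exact Subgroup.subset_closure (by simp)
        · exact mul_mem (Subgroup.subset_closure (by simp)) (Subgroup.subset_closure (by simp))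
    | one => simp
    | mul x y _ _ hx hy =>
      have : g * (x * y) * g⁻¹ = (g * x * g⁻¹) * (g * y * g⁻¹) := by group
      rw [this]; exact mul_mem hx hy
    | inv x _ hx =>
      have : g * x⁻¹ * g⁻¹ = (g * x * g⁻¹)⁻¹ := by group
      rw [this]; exact inv_mem hx
  · apply Subgroup.isMulCommutative_closure
    intro x hx y hy
    rcases hx with hx | hx <;> rcases hy with hy | hy
    · rw [hx, hy]
    · have hy' : y = b := hy
      rw [hx, hy']; exact hzb
    · have hx' : x = b := hx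
      rw [hx', hy]; exact hzb.symm
    · have hx' : x = b := hx
      have hy' : y = b := hy
      rw [hx', hy']
  · intro hcyc
    classical
    haveI : Fintype ↥(Subgroup.closure ({z, b} : Set P)) := Fintype.ofFinite _
    have hle := IsCyclic.card_pow_eq_one_le (α := ↥(Subgroup.closure ({z, b} : Set P)))
      (n := 2) (by norm_num)
    have hzV : z ∈ Subgroup.closure ({z, b} : Set P) := Subgroup.subset_closure (by simp)
    have hbV : b ∈ Subgroup.closure ({z, b} : Set P) := Subgroup.subset_closure (by simp)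
    have hsub : ({1, ⟨z, hzV⟩, ⟨b, hbV⟩} : Finset ↥(Subgroup.closure ({z, b} : Set P))) ⊆
        Finset.filter (fun x => x ^ 2 = 1) Finset.univ := by
      intro x hx
      simp only [Finset.mem_insert, Finset.mem_singleton] at hx
      simp only [Finset.mem_filter, Finset.mem_univ, true_and]
      rcases hx with rfl | rfl | rfl
      · simp
      · apply Subtype.ext; simp [pow_two, hzz]
      · apply Subtype.ext; simp [pow_two, hbb]
    have hcard3 : ({1, ⟨z, hzV⟩, ⟨b, hbV⟩} : Finset ↥(Subgroup.closure ({z, b} : Set P))).card = 3 := by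
      rw [Finset.card_insert_of_notMem, Finset.card_insert_of_notMem, Finset.card_singleton]
      · simp only [Finset.mem_singleton]
        intro h
        exact hbz (congrArg Subtype.val h).symm
      · simp only [Finset.mem_insert, Finset.mem_singleton]
        rintro (h | h)
        · exact hz1 (congrArg Subtype.val h).symm
        · exact hb1 (congrArg Subtype.val h).symm
    have := Finset.card_le_card hsub
    omega

/-- a subgroup with two distinct involutions is not cyclic -/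
lemma not_isCyclic_of_two_involutions (V : Subgroup P) (z b : P) (hzV : z ∈ V) (hbV : b ∈ V)
    (hzz : z * z = 1) (hbb : b * b = 1) (hz1 : z ≠ 1) (hb1 : b ≠ 1) (hbz : b ≠ z) : ¬ IsCyclic V := by
  intro hcyc
  classical
  haveI : Fintype ↥V := Fintype.ofFinite _
  have hle := IsCyclic.card_pow_eq_one_le (α := ↥V) (n := 2) (by norm_num)
  have hsub : ({1, ⟨z, hzV⟩, ⟨b, hbV⟩} : Finset ↥V) ⊆
      Finset.filter (fun x => x ^ 2 = 1) Finset.univ := by
    intro x hx
    simp only [Finset.mem_insert, Finset.mem_singleton] at hx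
    simp only [Finset.mem_filter, Finset.mem_univ, true_and]
    rcases hx with rfl | rfl | rfl
    · simp
    · apply Subtype.ext; simp [pow_two, hzz]
    · apply Subtype.ext; simp [pow_two, hbb]
  have hcard3 : ({1, ⟨z, hzV⟩, ⟨b, hbV⟩} : Finset ↥V).card = 3 := by
    rw [Finset.card_insert_of_notMem, Finset.card_insert_of_notMem, Finset.card_singleton]
    · simp only [Finset.mem_singleton]
      intro h
      exact hbz (congrArg Subtype.val h).symm
    · simp only [Finset.mem_insert, Finset.mem_singleton]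
      rintro (h | h)
      · exact hz1 (congrArg Subtype.val h).symm
      · exact hb1 (congrArg Subtype.val h).symm
  have := Finset.card_le_card hsub
  omega

/-- the action of elements outside `⟨a⟩` whose square lies in `⟨a⟩` -/
lemma act_cases (hn : ∀ A : Subgroup P, A.Normal → IsMulCommutative A → IsCyclic A)
    (m : ℕ) (hm : 2 ≤ m) (a : P) (ha : orderOf a = 2 ^ m) (hAn : (Subgroup.zpowers a).Normal)
    (hcent : ∀ x : P, x * a = a * x → x ∈ Subgroup.zpowers a)
    (b : P) (hbA : b ∉ Subgroup.zpowers a) (hbb : b * b ∈ Subgroup.zpowers a) :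
    b * a * b⁻¹ = a⁻¹ ∨ (3 ≤ m ∧ b * a * b⁻¹ = a ^ (2 ^ (m - 1) - 1)) := by
  haveI := hAn
  obtain ⟨q, hq⟩ : ∃ q : P ⧸ Subgroup.zpowers a, q = QuotientGroup.mk b := ⟨_, rfl⟩
  have hq1 : q ≠ 1 := by
    rw [hq]; intro h; exact hbA ((QuotientGroup.eq_one_iff b).mp h)
  have hqq : q * q = 1 := by
    rw [hq, ← QuotientGroup.mk_mul]; exact (QuotientGroup.eq_one_iff _).mpr hbb
  have hqo : orderOf q = 2 := orderOf_eq_prime (by rw [pow_two]; exact hqq) hq1
  obtain ⟨B, hB⟩ : ∃ B : Subgroup P,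
      B = (Subgroup.zpowers q).comap (QuotientGroup.mk' (Subgroup.zpowers a)) := ⟨_, rfl⟩
  have hBcard : Nat.card B = 2 ^ (m + 1) := by
    rw [hB, card_comap_zpowers, hqo, Nat.card_zpowers, ha, pow_succ']
  have haB : a ∈ B := by
    rw [hB, Subgroup.mem_comap]
    have : QuotientGroup.mk' (Subgroup.zpowers a) a = 1 :=
      (QuotientGroup.eq_one_iff a).mpr (Subgroup.mem_zpowers a)
    rw [this]; exact Subgroup.one_mem _
  have hbB : b ∈ B := by
    rw [hB, Subgroup.mem_comap]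
    change (QuotientGroup.mk b : P ⧸ Subgroup.zpowers a) ∈ _
    rw [← hq]; exact Subgroup.mem_zpowers q
  have hBout : ∀ x ∈ B, x ∉ Subgroup.zpowers a → b⁻¹ * x ∈ Subgroup.zpowers a := by
    intro x hx hxA
    rw [hB, Subgroup.mem_comap] at hx
    obtain ⟨k, hk⟩ := Subgroup.mem_zpowers_iff.mp hx
    have hxq : (QuotientGroup.mk x : P ⧸ Subgroup.zpowers a) = q := by
      rcases Int.even_or_odd' k with ⟨j, rfl | rfl⟩
      · exfalso; apply hxA
        rw [zpow_mul, zpow_two, hqq, one_zpow] at hk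
        exact (QuotientGroup.eq_one_iff x).mp hk.symm
      · rw [zpow_add, zpow_mul, zpow_two, hqq, one_zpow, one_mul, zpow_one] at hk
        exact hk.symm
    rw [hq] at hxq
    exact QuotientGroup.eq.mp hxq.symm
  obtain ⟨a', ha'⟩ : ∃ a' : ↥B, a' = ⟨a, haB⟩ := ⟨_, rfl⟩
  obtain ⟨b', hb'⟩ : ∃ b' : ↥B, b' = ⟨b, hbB⟩ := ⟨_, rfl⟩
  have hao : orderOf a' = 2 ^ (m + 1 - 1) := by
    rw [ha', Subgroup.orderOf_mk, Nat.add_sub_cancel]; exact ha
  have hna : ∃ x y : ↥B, x * y ≠ y * x := by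
    refine ⟨b', a', ?_⟩
    intro h
    apply hbA; apply hcent
    have := congrArg Subtype.val h
    rw [ha', hb'] at this
    exact this
  obtain ⟨β, hβA, hcases⟩ := CycIdxTwo.classify (m + 1) (by omega) hBcard a' hao hna
  have hmemzp : ∀ x : ↥B, (x : P) ∈ Subgroup.zpowers a → x ∈ Subgroup.zpowers a' := by
    intro x hx
    obtain ⟨k, hk⟩ := Subgroup.mem_zpowers_iff.mp hx
    refine Subgroup.mem_zpowers_iff.mpr ⟨k, ?_⟩
    apply Subtype.ext
    rw [Subgroup.coe_zpow, ha']; exact hk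
  have hβA' : (β : P) ∉ Subgroup.zpowers a := fun h => hβA (hmemzp β h)
  have hβb : b⁻¹ * (β : P) ∈ Subgroup.zpowers a := hBout β β.2 hβA'
  have hact : (β : P) * a * (β : P)⁻¹ = b * a * b⁻¹ := by
    obtain ⟨c, hc⟩ : ∃ c, c = b⁻¹ * (β : P) := ⟨_, rfl⟩
    have hcA : c ∈ Subgroup.zpowers a := hc ▸ hβb
    have hca : c * a = a * c := by
      obtain ⟨k, hk⟩ := Subgroup.mem_zpowers_iff.mp hcA
      rw [← hk]
      exact ((Commute.refl a).zpow_left k).eq
    have : (β : P) = b * c := by rw [hc]; group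
    rw [this]
    calc b * c * a * (b * c)⁻¹ = b * (c * a) * c⁻¹ * b⁻¹ := by group
      _ = b * (a * c) * c⁻¹ * b⁻¹ := by rw [hca]
      _ = b * a * b⁻¹ := by group
  have e : m + 1 - 2 = m - 1 := by omega
  have hval : ((β * a' * β⁻¹ : ↥B) : P) = (β : P) * a * (β : P)⁻¹ := by rw [ha']; rfl
  rcases hcases with ⟨-, h⟩ | ⟨-, h⟩ | ⟨h4, hβ2, h⟩ | ⟨h4, -, h⟩
  · left; rw [← hact, ← hval, h, ha']; rfl
  · left; rw [← hact, ← hval, h, ha']; rfl
  · exfalso
    have h' : (β : P) * a * (β : P)⁻¹ = a ^ (1 + 2 ^ (m - 1)) := by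
      rw [← hval, h, e, ha']; rfl
    have hββ : (β : P) * (β : P) = 1 := by
      have := congrArg Subtype.val hβ2
      simpa [pow_two] using this
    obtain ⟨V, hVn, hVc, hVnc⟩ := modular_four_group m (by omega) a (β : P) ha hAn hβA' hββ h'
      (fun g => comm_mem a hAn hcent g β)
    exact hVnc (hn V hVn hVc)
  · right; refine ⟨by omega, ?_⟩; rw [← hact, ← hval, h, e, ha']; rfl

/-- every square lies in `⟨a⟩` -/
lemma sq_mem_of_act (m : ℕ) (hm : 2 ≤ m) (a : P) (ha : orderOf a = 2 ^ m)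
    (hAn : (Subgroup.zpowers a).Normal) (hP : IsPGroup 2 P)
    (hact : ∀ b : P, b ∉ Subgroup.zpowers a → b * b ∈ Subgroup.zpowers a →
      b * a * b⁻¹ = a⁻¹ ∨ (3 ≤ m ∧ b * a * b⁻¹ = a ^ (2 ^ (m - 1) - 1)))
    (b : P) : b * b ∈ Subgroup.zpowers a := by
  by_contra hbb
  have hex : ∃ k : ℕ, b ^ (2 ^ k) ∈ Subgroup.zpowers a := by
    obtain ⟨k, hk⟩ := hP b
    exact ⟨k, hk ▸ Subgroup.one_mem _⟩
  classical
  obtain ⟨k, hk, hkmin⟩ : ∃ k, b ^ (2 ^ k) ∈ Subgroup.zpowers a ∧
      ∀ j < k, b ^ (2 ^ j) ∉ Subgroup.zpowers a :=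
    ⟨Nat.find hex, Nat.find_spec hex, fun j hj => Nat.find_min hex hj⟩
  have hk2 : 2 ≤ k := by
    by_contra hlt
    have : k = 0 ∨ k = 1 := by omega
    rcases this with rfl | rfl
    · apply hbb
      rw [pow_zero, pow_one] at hk
      exact mul_mem hk hk
    · apply hbb
      rw [pow_one, pow_two] at hk
      exact hk
  obtain ⟨c, hc⟩ : ∃ c, c = b ^ (2 ^ (k - 2)) := ⟨_, rfl⟩
  have hcc : c * c = b ^ (2 ^ (k - 1)) := by
    rw [hc, ← pow_add, ← two_mul, ← pow_succ']; congr 2; omega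
  have hcccc : (c * c) * (c * c) = b ^ (2 ^ k) := by
    rw [hcc, ← pow_add, ← two_mul, ← pow_succ']; congr 2; omega
  have hd1 : c * c ∉ Subgroup.zpowers a := by rw [hcc]; exact hkmin (k - 1) (by omega)
  have hd2 : (c * c) * (c * c) ∈ Subgroup.zpowers a := by rw [hcccc]; exact hk
  obtain ⟨s, hs⟩ := exists_conj_pow' a hAn c
  have hdd : (c * c) * a * (c * c)⁻¹ = a ^ (s * s) := by
    calc (c * c) * a * (c * c)⁻¹ = c * (c * a * c⁻¹) * c⁻¹ := by group
      _ = a ^ (s * s) := by rw [hs, ← conj_pow, hs, ← pow_mul]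
  have h4 : (4 : ℕ) ∣ 2 ^ m := by
    obtain ⟨j, rfl⟩ : ∃ j, m = j + 2 := ⟨m - 2, by omega⟩
    rw [pow_add]; exact Dvd.intro_left _ rfl
  have hmod : ∀ s : ℕ, ¬ (4 ∣ s * s + 1) := by
    intro s h
    have h1 : (s * s + 1) % 4 = 0 := Nat.mod_eq_zero_of_dvd h
    have h2 : s % 4 < 4 := Nat.mod_lt _ (by norm_num)
    rw [Nat.add_mod, Nat.mul_mod] at h1
    obtain ⟨r, hr⟩ : ∃ r, r = s % 4 := ⟨_, rfl⟩
    rw [← hr] at h1 h2
    interval_cases r <;> omega
  rcases hact (c * c) hd1 hd2 with h | ⟨hm3, h⟩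
  · rw [hdd] at h
    have h5 : a ^ (s * s + 1) = 1 := by rw [pow_succ, h]; group
    have h6 := orderOf_dvd_of_pow_eq_one h5
    rw [ha] at h6
    exact hmod s (h4.trans h6)
  · rw [hdd] at h
    have h5 : a ^ (s * s + 1) = a ^ (2 ^ (m - 1)) := by
      rw [pow_succ, h, ← pow_succ]; congr 1
      have : 1 ≤ 2 ^ (m - 1) := Nat.one_le_two_pow
      omega
    have h6 : s * s + 1 ≡ 2 ^ (m - 1) [MOD 2 ^ m] := by
      rw [← ha]; exact pow_eq_pow_iff_modEq.mp h5
    have h7 : s * s + 1 ≡ 2 ^ (m - 1) [MOD 4] := h6.of_dvd h4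
    have h8 : (4 : ℕ) ∣ 2 ^ (m - 1) := by
      obtain ⟨j, rfl⟩ : ∃ j, m = j + 3 := ⟨m - 3, by omega⟩
      rw [show j + 3 - 1 = j + 2 by omega, pow_add]; exact Dvd.intro_left _ rfl
    apply hmod s
    rw [Nat.dvd_iff_mod_eq_zero]
    have : (s * s + 1) % 4 = 2 ^ (m - 1) % 4 := h7
    rw [this]; exact Nat.mod_eq_zero_of_dvd h8

/-- `⟨a⟩` has index two -/
lemma index_two_of_act (m : ℕ) (a : P) (hAn : (Subgroup.zpowers a).Normal)
    (hcent : ∀ x : P, x * a = a * x → x ∈ Subgroup.zpowers a)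
    (hne : Subgroup.zpowers a ≠ ⊤)
    (hsq : ∀ b : P, b * b ∈ Subgroup.zpowers a)
    (hact : ∀ b : P, b ∉ Subgroup.zpowers a →
      b * a * b⁻¹ = a⁻¹ ∨ (3 ≤ m ∧ b * a * b⁻¹ = a ^ (2 ^ (m - 1) - 1))) :
    (Subgroup.zpowers a).index = 2 := by
  obtain ⟨b₀, hb₀⟩ : ∃ b₀ : P, b₀ ∉ Subgroup.zpowers a := by
    by_contra hcon
    push_neg at hcon
    exact hne ((Subgroup.eq_top_iff' _).mpr hcon)
  rw [Subgroup.index_eq_two_iff]
  refine ⟨b₀, fun g => ?_⟩
  by_cases hg : g ∈ Subgroup.zpowers a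
  · refine Or.inr ⟨hg, fun h => hb₀ ?_⟩
    have : b₀ = g⁻¹ * (g * b₀) := by group
    rw [this]; exact mul_mem (inv_mem hg) h
  · refine Or.inl ⟨?_, hg⟩
    by_contra hgb
    have key1 : g * a * g⁻¹ = b₀ * a * b₀⁻¹ → False := by
      intro h
      have h1 : b₀⁻¹ * g ∈ Subgroup.zpowers a := by
        apply hcent
        calc b₀⁻¹ * g * a = b₀⁻¹ * (g * a * g⁻¹) * g := by group
          _ = b₀⁻¹ * (b₀ * a * b₀⁻¹) * g := by rw [h]
          _ = a * (b₀⁻¹ * g) := by group
      apply hgb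
      have : g * b₀ = b₀⁻¹ * ((b₀ * b₀) * (b₀⁻¹ * g)) * b₀⁻¹⁻¹ := by group
      rw [this]
      exact hAn.conj_mem _ (mul_mem (hsq b₀) h1) b₀⁻¹
    have key2 : (g * b₀) * a * (g * b₀)⁻¹ = g * a * g⁻¹ → False := by
      intro h
      apply hb₀; apply hcent
      have : b₀ * a * b₀⁻¹ = a := by
        calc b₀ * a * b₀⁻¹ = g⁻¹ * ((g * b₀) * a * (g * b₀)⁻¹) * g := by group
          _ = g⁻¹ * (g * a * g⁻¹) * g := by rw [h]
          _ = a := by group
      calc b₀ * a = (b₀ * a * b₀⁻¹) * b₀ := by group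
        _ = a * b₀ := by rw [this]
    have key3 : (g * b₀) * a * (g * b₀)⁻¹ = b₀ * a * b₀⁻¹ → False := by
      intro h
      have h1 : b₀⁻¹ * g * b₀ ∈ Subgroup.zpowers a := by
        apply hcent
        calc b₀⁻¹ * g * b₀ * a = b₀⁻¹ * ((g * b₀) * a * (g * b₀)⁻¹) * g * b₀ := by group
          _ = b₀⁻¹ * (b₀ * a * b₀⁻¹) * g * b₀ := by rw [h]
          _ = a * (b₀⁻¹ * g * b₀) := by group
      apply hg
      have : g = b₀ * (b₀⁻¹ * g * b₀) * b₀⁻¹ := by group
      rw [this]; exact hAn.conj_mem _ h1 b₀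
    rcases hact g hg with h1 | ⟨_, h1⟩ <;> rcases hact b₀ hb₀ with h2 | ⟨_, h2⟩ <;>
      rcases hact (g * b₀) hgb with h3 | ⟨_, h3⟩
    all_goals first
      | exact key1 (h1.trans h2.symm)
      | exact key2 (h3.trans h1.symm)
      | exact key3 (h3.trans h2.symm)

/-- the dihedral group of order 8 has a normal four-group -/
lemma d8_four_group (a b : P) (ha : orderOf a = 4) (hcard : Nat.card P = 8)
    (hbA : b ∉ Subgroup.zpowers a) (hbb : b * b = 1) (hba : b * a * b⁻¹ = a⁻¹) :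
    ∃ V : Subgroup P, V.Normal ∧ IsMulCommutative V ∧ ¬ IsCyclic V := by
  obtain ⟨z, hz⟩ : ∃ z : P, z = a ^ 2 := ⟨_, rfl⟩
  have ha4 : a ^ 4 = 1 := by rw [← ha]; exact pow_orderOf_eq_one a
  have hzz : z * z = 1 := by rw [hz, ← pow_add]; exact ha4
  have hz1 : z ≠ 1 := by
    intro h; rw [hz] at h
    have := orderOf_dvd_of_pow_eq_one h
    rw [ha] at this; omega
  have hzA : z ∈ Subgroup.zpowers a := by
    rw [hz]; exact Subgroup.pow_mem _ (Subgroup.mem_zpowers a) _
  have hbz : b ≠ z := fun h => hbA (h ▸ hzA)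
  have hb1 : b ≠ 1 := fun h => hbA (h ▸ Subgroup.one_mem _)
  have hzb : z * b = b * z := by
    have h1 : b * z * b⁻¹ = z := by
      rw [hz, ← conj_pow, hba, inv_pow]
      apply inv_eq_of_mul_eq_one_left
      rw [← pow_add]; exact ha4
    calc z * b = (b * z * b⁻¹) * b := by rw [h1]
      _ = b * z := by group
  obtain ⟨V, hV⟩ : ∃ V : Subgroup P, V = Subgroup.closure {z, b} := ⟨_, rfl⟩
  have hzV : z ∈ V := by rw [hV]; exact Subgroup.subset_closure (by simp)
  have hbV : b ∈ V := by rw [hV]; exact Subgroup.subset_closure (by simp)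
  have hVc : IsMulCommutative V := by
    rw [hV]
    apply Subgroup.isMulCommutative_closure
    intro x hx y hy
    rcases hx with hx | hx <;> rcases hy with hy | hy
    · rw [hx, hy]
    · have hy' : y = b := hy
      rw [hx, hy']; exact hzb
    · have hx' : x = b := hx
      rw [hx', hy]; exact hzb.symm
    · have hx' : x = b := hx
      have hy' : y = b := hy
      rw [hx', hy']
  have hVnc : ¬ IsCyclic V := not_isCyclic_of_two_involutions V z b hzV hbV hzz hbb hz1 hb1 hbz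
  refine ⟨V, ?_, hVc, hVnc⟩
  have hdvd : Nat.card V ∣ 8 := hcard ▸ Subgroup.card_subgroup_dvd_card V
  have hVne8 : Nat.card V ≠ 8 := by
    intro h
    have hVtop : V = ⊤ := Subgroup.eq_top_of_card_eq V (by rw [h, hcard])
    have hab : b * a = a * b := by
      have haV : a ∈ V := by rw [hVtop]; exact Subgroup.mem_top a
      have := hVc.is_comm.comm ⟨b, hbV⟩ ⟨a, haV⟩
      exact congrArg Subtype.val this
    apply hz1
    have h1 : a⁻¹ = a := by rw [← hba, hab]; group
    calc z = a * a := by rw [hz, pow_two]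
      _ = a⁻¹ * a := by rw [h1]
      _ = 1 := by group
  have hVle2 : ¬ Nat.card V ∣ 2 := by
    intro h
    haveI : Fact (Nat.Prime 2) := ⟨Nat.prime_two⟩
    exact hVnc (isCyclic_of_card_dvd_prime h)
  have hV4 : Nat.card V = 4 := by
    have hle : Nat.card V ≤ 8 := Nat.le_of_dvd (by norm_num) hdvd
    have hpos : 0 < Nat.card V := Nat.card_pos
    interval_cases (Nat.card V) <;> omega
  apply Subgroup.normal_of_index_eq_two
  have := V.card_mul_index
  rw [hV4, hcard] at this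
  omega

/-- the generators-and-relations form of the main theorem -/
theorem main_data (p : ℕ) [Fact p.Prime] (hP : IsPGroup p P)
    (hn : ∀ A : Subgroup P, A.Normal → IsMulCommutative A → IsCyclic A) :
    IsCyclic P ∨ (p = 2 ∧ ∃ (m : ℕ) (a β : P), 2 ≤ m ∧ orderOf a = 2 ^ m ∧
      Nat.card P = 2 ^ (m + 1) ∧ β ∉ Subgroup.zpowers a ∧
      ((3 ≤ m ∧ β ^ 2 = 1 ∧ β * a * β⁻¹ = a⁻¹) ∨
        (β ^ 2 = a ^ (2 ^ (m - 1)) ∧ β * a * β⁻¹ = a⁻¹) ∨
        (3 ≤ m ∧ β ^ 2 = 1 ∧ β * a * β⁻¹ = a ^ (2 ^ (m - 1) - 1)))) := by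
  have hpp : p.Prime := Fact.out
  obtain ⟨A, -, hAmax⟩ := Finite.exists_le_maximal
    (p := fun M : Subgroup P => M.Normal ∧ IsMulCommutative M) (a := ⊥)
    ⟨inferInstance, inferInstance⟩
  obtain ⟨⟨hAn, hAc⟩, hAm⟩ := hAmax
  have hmax : ∀ B : Subgroup P, B.Normal → IsMulCommutative B → A ≤ B → B = A :=
    fun M hMn hMc hle => le_antisymm (hAm ⟨hMn, hMc⟩ hle) hle
  haveI := hAn
  have hCA := Cfsg.Agent.H1.centralizer_eq_of_maximal_normal_abelian hP A hAc hmax
  obtain ⟨a, haA⟩ := (A.isCyclic_iff_exists_zpowers_eq_top).mp (hn A hAn hAc)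
  subst haA
  by_cases htop : Subgroup.zpowers a = ⊤
  · left; exact isCyclic_iff_exists_zpowers_eq_top.mpr ⟨a, htop⟩
  right
  have hcent : ∀ x : P, x * a = a * x → x ∈ Subgroup.zpowers a := by
    intro x hx
    rw [← hCA, Subgroup.mem_centralizer_iff]
    intro y hy
    obtain ⟨k, hk⟩ := Subgroup.mem_zpowers_iff.mp hy
    rw [← hk]
    exact ((show Commute a x from hx.symm).zpow_left k).eq
  obtain ⟨m, ha⟩ := IsPGroup.iff_orderOf.mp hP a
  obtain ⟨b, hbA⟩ : ∃ b : P, b ∉ Subgroup.zpowers a := by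
    by_contra hcon
    push_neg at hcon
    exact htop ((Subgroup.eq_top_iff' _).mpr hcon)
  by_cases hp2 : p = 2
  swap
  · exfalso
    have hpdvd : p ∣ Nat.card (P ⧸ Subgroup.zpowers a) := by
      rw [← Subgroup.index_eq_card]
      obtain ⟨j, hj⟩ := hP.index (Subgroup.zpowers a)
      rw [hj]
      cases j with
      | zero => exfalso; rw [pow_zero, Subgroup.index_eq_one] at hj; exact htop hj
      | succ j => exact dvd_pow_self p (Nat.succ_ne_zero j)
    obtain ⟨q, hq⟩ := exists_prime_orderOf_dvd_card' p hpdvd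
    obtain ⟨B, hB⟩ : ∃ B : Subgroup P,
        B = (Subgroup.zpowers q).comap (QuotientGroup.mk' (Subgroup.zpowers a)) := ⟨_, rfl⟩
    have hBcard : Nat.card B = p * p ^ m := by
      rw [hB, card_comap_zpowers, hq, Nat.card_zpowers, ha]
    have hAB : Subgroup.zpowers a ≤ B := by
      intro y hy
      rw [hB, Subgroup.mem_comap]
      have : QuotientGroup.mk' (Subgroup.zpowers a) y = 1 := (QuotientGroup.eq_one_iff y).mpr hy
      rw [this]; exact Subgroup.one_mem _
    have haB : a ∈ B := hAB (Subgroup.mem_zpowers a)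
    have hBn : B.Normal := by
      constructor
      intro x hx g
      have : g * x * g⁻¹ = (g * x * g⁻¹ * x⁻¹) * x := by group
      rw [this]
      exact mul_mem (hAB (comm_mem a hAn hcent g x)) hx
    obtain ⟨c, hcq⟩ := QuotientGroup.mk_surjective q
    have hcB : c ∈ B := by
      rw [hB, Subgroup.mem_comap]
      change (QuotientGroup.mk c : P ⧸ Subgroup.zpowers a) ∈ _
      rw [hcq]; exact Subgroup.mem_zpowers q
    have hcA : c ∉ Subgroup.zpowers a := by
      intro h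
      have : q = 1 := by rw [← hcq]; exact (QuotientGroup.eq_one_iff c).mpr h
      rw [this, orderOf_one] at hq
      exact hpp.one_lt.ne hq
    have hR : IsPGroup p ↥B := hP.to_subgroup B
    have hnc : ¬ IsCyclic ↥B := by
      intro hcyc
      apply hcA; apply hcent
      obtain ⟨g, hg⟩ := hcyc.exists_generator
      obtain ⟨i, hi⟩ := Subgroup.mem_zpowers_iff.mp (hg ⟨c, hcB⟩)
      obtain ⟨j, hj⟩ := Subgroup.mem_zpowers_iff.mp (hg ⟨a, haB⟩)
      have : (⟨c, hcB⟩ : ↥B) * ⟨a, haB⟩ = ⟨a, haB⟩ * ⟨c, hcB⟩ := by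
        rw [← hi, ← hj, ← zpow_add, ← zpow_add, add_comm]
      exact congrArg Subtype.val this
    obtain ⟨C, hC⟩ : ∃ C : Subgroup ↥B, C = Subgroup.zpowers (⟨a, haB⟩ : ↥B) := ⟨_, rfl⟩
    have hCcyc : IsCyclic C := by rw [hC]; infer_instance
    have hCi : C.index = p := by
      have h1 := C.card_mul_index
      rw [hC, Nat.card_zpowers, Subgroup.orderOf_mk, ha, hBcard] at h1
      have hpos : 0 < p ^ m := pow_pos hpp.pos m
      rw [hC]
      exact Nat.eq_of_mul_eq_mul_left hpos (h1.trans (mul_comm _ _))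
    obtain ⟨hE, hEcard⟩ := Cfsg.Agent.H1.omega_one_of_cyclic_index_p hp2 hR hnc C hCcyc hCi
    obtain ⟨Ω, hΩ⟩ : ∃ Ω : Subgroup ↥B, Ω = Subgroup.closure {x : ↥B | x ^ p = 1} := ⟨_, rfl⟩
    rw [← hΩ] at hE hEcard
    haveI := hBn
    have hΩinv : ∀ g : P, ∀ ω ∈ Ω, MulAut.conjNormal g ω ∈ Ω := by
      intro g ω hω
      rw [hΩ] at hω ⊢
      induction hω using Subgroup.closure_induction with
      | mem x hx =>
        apply Subgroup.subset_closure
        show (MulAut.conjNormal g x) ^ p = 1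
        have hx' : x ^ p = 1 := hx
        rw [← map_pow, hx', map_one]
      | one => rw [map_one]; exact one_mem _
      | mul x y _ _ hx hy => rw [map_mul]; exact mul_mem hx hy
      | inv x _ hx => rw [map_inv]; exact inv_mem hx
    have hWn : (Ω.map B.subtype).Normal := by
      constructor
      intro n hn' g
      obtain ⟨ω, hω, rfl⟩ := Subgroup.mem_map.mp hn'
      exact Subgroup.mem_map.mpr ⟨MulAut.conjNormal g ω, hΩinv g ω hω,
        by simp [MulAut.conjNormal_apply]⟩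
    have hWc : IsMulCommutative (Ω.map B.subtype) := by
      haveI := hE.1
      infer_instance
    have hWcyc := hn _ hWn hWc
    have hWcard : Nat.card (Ω.map B.subtype) = p ^ 2 := by
      rw [← hEcard]
      exact Nat.card_congr (Ω.equivMapOfInjective B.subtype B.subtype_injective).toEquiv.symm
    obtain ⟨w, hw⟩ := hWcyc.exists_generator
    have hwo : orderOf w = p ^ 2 := by
      rw [← hWcard]; exact orderOf_eq_card_of_forall_mem_zpowers hw
    have hwp : w ^ p = 1 := by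
      obtain ⟨ω, hω, hωw⟩ := Subgroup.mem_map.mp w.2
      apply Subtype.ext
      rw [Subgroup.coe_pow, ← hωw, Subgroup.coe_one]
      have := hE.2 ω hω
      rw [← map_pow, this, map_one]
    have := orderOf_dvd_of_pow_eq_one hwp
    rw [hwo] at this
    have h2 : p ^ 2 ≤ p := Nat.le_of_dvd hpp.pos this
    nlinarith [hpp.one_lt]
  subst hp2
  have hm : 2 ≤ m := by
    by_contra hlt
    have ha2 : a ^ 2 = 1 := by
      apply orderOf_dvd_iff_pow_eq_one.mp
      rw [ha]
      calc 2 ^ m ∣ 2 ^ 1 := pow_dvd_pow 2 (by omega)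
        _ = 2 := pow_one 2
    obtain ⟨r, hr⟩ := exists_conj_pow' a hAn b
    apply hbA; apply hcent
    rcases Nat.even_or_odd' r with ⟨k, rfl | rfl⟩
    · rw [pow_mul, ha2, one_pow] at hr
      have ha1 : a = 1 := by
        have : a = b⁻¹ * (b * a * b⁻¹) * b := by group
        rw [this, hr]; group
      rw [ha1, mul_one, one_mul]
    · rw [pow_succ, pow_mul, ha2, one_pow, one_mul] at hr
      calc b * a = (b * a * b⁻¹) * b := by group
        _ = a * b := by rw [hr]
  have hact := act_cases hn m hm a ha hAn hcent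
  have hsq := sq_mem_of_act m hm a ha hAn hP hact
  have hidx := index_two_of_act m a hAn hcent htop hsq (fun b hb => hact b hb (hsq b))
  have hcard : Nat.card P = 2 ^ (m + 1) := by
    have := (Subgroup.zpowers a).card_mul_index
    rw [hidx, Nat.card_zpowers, ha] at this
    rw [← this, pow_succ]
  have hna : ∃ x y : P, x * y ≠ y * x := ⟨b, a, fun h => hbA (hcent b h)⟩
  have hao : orderOf a = 2 ^ (m + 1 - 1) := by rw [Nat.add_sub_cancel]; exact ha
  have e : m + 1 - 2 = m - 1 := by omega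
  obtain ⟨β, hβA, hcases⟩ := CycIdxTwo.classify (m + 1) (by omega) hcard a hao hna
  refine ⟨rfl, m, a, β, hm, ha, hcard, hβA, ?_⟩
  rcases hcases with ⟨hβ2, h⟩ | ⟨hβ2, h⟩ | ⟨h4, hβ2, h⟩ | ⟨h4, hβ2, h⟩
  · have hββ : β * β = 1 := by rw [← pow_two]; exact hβ2
    by_cases hm3 : 3 ≤ m
    · exact Or.inl ⟨hm3, hβ2, h⟩
    · exfalso
      have hm2 : m = 2 := by omega
      subst hm2
      obtain ⟨V, hVn, hVc, hVnc⟩ := d8_four_group a β (by rw [ha]; norm_num)
        (by rw [hcard]; norm_num) hβA hββ h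
      exact hVnc (hn V hVn hVc)
  · rw [e] at hβ2
    exact Or.inr (Or.inl ⟨hβ2, h⟩)
  · exfalso
    rw [e] at h
    have hββ : β * β = 1 := by rw [← pow_two]; exact hβ2
    obtain ⟨V, hVn, hVc, hVnc⟩ := modular_four_group m (by omega) a β ha hAn hβA hββ h
      (fun g => comm_mem a hAn hcent g β)
    exact hVnc (hn V hVn hVc)
  · rw [e] at h
    exact Or.inr (Or.inr ⟨by omega, hβ2, h⟩)

/-- **Main theorem**: a `p`-group in which every normal abelian subgroup is cyclic. -/
theorem main (p : ℕ) [Fact p.Prime] (hP : IsPGroup p P)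
    (hn : ∀ A : Subgroup P, A.Normal → IsMulCommutative A → IsCyclic A) :
    IsCyclic P ∨ (p = 2 ∧ ((∃ n : ℕ, Nonempty (P ≃* QuaternionGroup n)) ∨
      (∃ n : ℕ, 8 ≤ n ∧ Nonempty (P ≃* DihedralGroup n)) ∨ Cfsg.IsQuasiDihedral P)) := by
  rcases main_data p hP hn with hcyc | ⟨hp2, m, a, β, hm, ha, hcard, hβA, hcases⟩
  · exact Or.inl hcyc
  right
  refine ⟨hp2, ?_⟩
  have hβ1 : β ≠ 1 := fun h => hβA (h ▸ Subgroup.one_mem _)
  rcases hcases with ⟨hm3, hβ2, h⟩ | ⟨hβ2, h⟩ | ⟨hm3, hβ2, h⟩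
  · have hββ : β * β = 1 := by rw [← pow_two]; exact hβ2
    right; left
    refine ⟨2 ^ m, ?_, ?_⟩
    · calc 8 = 2 ^ 3 := by norm_num
        _ ≤ 2 ^ m := Nat.pow_le_pow_right (by norm_num) hm3
    · apply Cfsg.Agent.Lib.Helper5.DihedralRecog.dihedral_of_involutions (2 ^ m)
        (by rw [hcard, pow_succ']) β (β * a)
      · exact orderOf_eq_prime hβ2 hβ1
      · apply orderOf_eq_prime
        · rw [pow_two]
          calc (β * a) * (β * a) = (β * a * β⁻¹) * (β * β) * a := by group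
            _ = 1 := by rw [h, hββ]; group
        · intro h1
          apply hβA
          have : β = a⁻¹ := eq_inv_of_mul_eq_one_left h1
          rw [this]; exact inv_mem (Subgroup.mem_zpowers a)
      · intro h1
        have ha1 : a = 1 := by
          calc a = β⁻¹ * (β * a) := by group
            _ = 1 := by rw [← h1]; group
        rw [ha1, orderOf_one] at ha
        have : 2 ^ 1 ≤ 2 ^ m := Nat.pow_le_pow_right (by norm_num) (by omega)
        omega
      · have : β * (β * a) = a := by rw [← mul_assoc, hββ, one_mul]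
        rw [this, ha]
  · left
    refine ⟨2 ^ (m - 1), ?_⟩
    haveI : NeZero (2 ^ (m - 1)) := ⟨by positivity⟩
    have h2m : 2 * 2 ^ (m - 1) = 2 ^ m := by rw [← pow_succ']; congr 1; omega
    have hx : a ^ (2 * 2 ^ (m - 1)) = 1 := by rw [h2m, ← ha]; exact pow_orderOf_eq_one a
    have hy : β * β = a ^ (2 ^ (m - 1)) := by rw [← pow_two]; exact hβ2
    have hxy : a * β = β * a⁻¹ := by
      calc a * β = (β * a * β⁻¹)⁻¹ * β := by rw [h, inv_inv]
        _ = β * a⁻¹ := by group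
    obtain ⟨f, hfa, hfxa⟩ := UOP.quatHom (2 ^ (m - 1)) a β hx hy hxy
    have hinj := UOP.quatHom_injective (2 ^ (m - 1)) a β f hfa hfxa (by rw [h2m]; exact ha) hβA
    have hbij : Function.Bijective f := by
      apply hinj.bijective_of_nat_card_le
      rw [Nat.card_eq_fintype_card (α := QuaternionGroup (2 ^ (m - 1))), QuaternionGroup.card,
        hcard]
      have : 2 ^ (m + 1) = 4 * 2 ^ (m - 1) := by
        rw [show m + 1 = (m - 1) + 2 by omega, pow_add]; ring
      omega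
    exact ⟨(MulEquiv.ofBijective f hbij).symm⟩
  · right; right
    exact ⟨m, by omega, hcard, a, β, ha, orderOf_eq_prime hβ2 hβ1, h⟩

/-- in the non-cyclic case the commutator subgroup has index four -/
theorem commutator_index_of_data (m : ℕ) (a β : P) (hm : 2 ≤ m) (ha : orderOf a = 2 ^ m)
    (hcard : Nat.card P = 2 ^ (m + 1)) (hβA : β ∉ Subgroup.zpowers a)
    (hcases : (3 ≤ m ∧ β ^ 2 = 1 ∧ β * a * β⁻¹ = a⁻¹) ∨
        (β ^ 2 = a ^ (2 ^ (m - 1)) ∧ β * a * β⁻¹ = a⁻¹) ∨
        (3 ≤ m ∧ β ^ 2 = 1 ∧ β * a * β⁻¹ = a ^ (2 ^ (m - 1) - 1))) :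
    (commutator P).index = 4 := by
  have hao : orderOf a = 2 ^ (m + 1 - 1) := by rw [Nat.add_sub_cancel]; exact ha
  have hc := MaxClassTwo.commutator_eq (m + 1) (by omega) hcard a hao β hβA
  have ha2 : orderOf (a ^ 2) = 2 ^ (m - 1) := by
    rw [orderOf_pow' a (by norm_num), ha]
    have h1 : Nat.gcd (2 ^ m) 2 = 2 := by
      apply Nat.gcd_eq_right
      exact dvd_pow_self 2 (by omega)
    rw [h1]
    have : 2 ^ m = 2 ^ (m - 1) * 2 := by rw [← pow_succ]; congr 1; omega
    rw [this, Nat.mul_div_cancel _ (by norm_num)]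
  have hord : orderOf (β * a * β⁻¹ * a⁻¹) = 2 ^ (m - 1) := by
    have hinv : ∀ h : β * a * β⁻¹ = a⁻¹, orderOf (β * a * β⁻¹ * a⁻¹) = 2 ^ (m - 1) := by
      intro h
      rw [h]
      have : a⁻¹ * a⁻¹ = (a ^ 2)⁻¹ := by rw [pow_two, mul_inv_rev]
      rw [this, orderOf_inv, ha2]
    rcases hcases with ⟨-, -, h⟩ | ⟨-, h⟩ | ⟨hm3, -, h⟩
    · exact hinv h
    · exact hinv h
    · rw [h]
      have h1 : 1 ≤ 2 ^ (m - 2) := Nat.one_le_two_pow
      have h2 : 2 ^ (m - 1) = 2 * 2 ^ (m - 2) := by rw [← pow_succ']; congr 1; omega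
      have : a ^ (2 ^ (m - 1) - 1) * a⁻¹ = (a ^ 2) ^ (2 ^ (m - 2) - 1) := by
        rw [← pow_mul]
        have h3 : 2 ^ (m - 1) - 1 = 2 * (2 ^ (m - 2) - 1) + 1 := by omega
        rw [h3, pow_succ, mul_assoc, mul_inv_cancel, mul_one]
      rw [this]
      have hcop : (orderOf (a ^ 2)).Coprime (2 ^ (m - 2) - 1) := by
        rw [ha2]
        apply Nat.Coprime.pow_left
        rw [Nat.coprime_two_left]
        refine ⟨2 ^ (m - 3) - 1, ?_⟩
        have h4 : 2 ^ (m - 2) = 2 * 2 ^ (m - 3) := by rw [← pow_succ']; congr 1; omega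
        have h5 : 1 ≤ 2 ^ (m - 3) := Nat.one_le_two_pow
        omega
      rw [hcop.orderOf_pow, ha2]
  have h1 := (commutator P).card_mul_index
  rw [hc, Nat.card_zpowers, hord, hcard, ← hc] at h1
  have h2 : 2 ^ (m + 1) = 2 ^ (m - 1) * 4 := by
    rw [show m + 1 = (m - 1) + 2 by omega, pow_add]; norm_num
  rw [h2] at h1
  exact Nat.eq_of_mul_eq_mul_left (by positivity) h1

end Cfsg.Agent.Lead.NAC
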