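import Mathlib
import Cfsg.Agent.Lib.Lead.ProdCard

/-!
# Thompson / Timmesfeld replacement: the lattice argument

For a subgroup `A` acting (by conjugation) with abelian image on an abelian subgroup `V`,
we study `m X = |X| * |C_V(X)|` for `X ≤ A`.
-/

set_option autoImplicit false

namespace Cfsg.Agent.Lib.Lead.Replacement

open scoped Pointwise commutatorElement

variable {G : Type*} [Group G]

/-- `C_V(X)`. -/
def cv (V X : Subgroup G) : Subgroup G := V ⊓ Subgroup.centralizer (X : Set G)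

/-- `|X| * |C_V(X)|`. -/
noncomputable def mm (V X : Subgroup G) : ℕ := Nat.card X * Nat.card ↥(cv V X)

theorem card_mul_card_le [Finite G] (X Y : Subgroup G) :
    Nat.card X * Nat.card Y ≤ Nat.card ↥(X ⊓ Y) * Nat.card ↥(X ⊔ Y) := by
  rw [Cfsg.Agent.Lib.Lead.ProdCard.card_mul_card_eq X Y, mul_comm]
  apply Nat.mul_le_mul_left
  have h1 : ((X : Set G) * (Y : Set G)).ncard ≤ ((X ⊔ Y : Subgroup G) : Set G).ncard := by
    apply Set.ncard_le_ncard _ (Set.toFinite _)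
    rintro _ ⟨a, ha, b, hb, rfl⟩
    exact Subgroup.mul_mem _ ((le_sup_left : X ≤ X ⊔ Y) ha) ((le_sup_right : Y ≤ X ⊔ Y) hb)
  have h2 : Nat.card ↥(X ⊔ Y) = ((X ⊔ Y : Subgroup G) : Set G).ncard :=
    _root_.Nat.card_coe_set_eq _
  rw [h2]; exact h1

theorem centralizer_union (s t : Set G) :
    Subgroup.centralizer (s ∪ t) = Subgroup.centralizer s ⊓ Subgroup.centralizer t := by
  ext z
  simp only [Subgroup.mem_inf, Subgroup.mem_centralizer_iff, Set.mem_union]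
  constructor
  · intro h
    exact ⟨fun x hx => h x (Or.inl hx), fun x hx => h x (Or.inr hx)⟩
  · rintro ⟨h1, h2⟩ x (hx | hx)
    · exact h1 x hx
    · exact h2 x hx

theorem centralizer_sup (X Y : Subgroup G) :
    Subgroup.centralizer ((X ⊔ Y : Subgroup G) : Set G) =
      Subgroup.centralizer (X : Set G) ⊓ Subgroup.centralizer (Y : Set G) := by
  rw [← centralizer_union, ← Subgroup.centralizer_closure ((X : Set G) ∪ Y),
    Subgroup.closure_union, Subgroup.closure_eq, Subgroup.closure_eq]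

theorem cv_sup (V X Y : Subgroup G) : cv V (X ⊔ Y) = cv V X ⊓ cv V Y := by
  unfold cv
  rw [centralizer_sup]
  ext z
  simp only [Subgroup.mem_inf]
  tauto

theorem cv_anti (V : Subgroup G) {X Y : Subgroup G} (h : X ≤ Y) : cv V Y ≤ cv V X :=
  inf_le_inf_left _ (Subgroup.centralizer_le h)

theorem cv_sup_le_inf (V X Y : Subgroup G) : cv V X ⊔ cv V Y ≤ cv V (X ⊓ Y) :=
  sup_le (cv_anti V inf_le_left) (cv_anti V inf_le_right)

theorem mm_pos [Finite G] (V X : Subgroup G) : 0 < mm V X :=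
  Nat.mul_pos Nat.card_pos Nat.card_pos

theorem mm_mul_le [Finite G] (V X Y : Subgroup G) :
    mm V X * mm V Y ≤ mm V (X ⊓ Y) * mm V (X ⊔ Y) := by
  unfold mm
  have h1 := card_mul_card_le X Y
  have h2 := card_mul_card_le (cv V X) (cv V Y)
  rw [← cv_sup] at h2
  have h3 : Nat.card ↥(cv V X ⊔ cv V Y) ≤ Nat.card ↥(cv V (X ⊓ Y)) :=
    Subgroup.card_le_of_le (cv_sup_le_inf V X Y)
  calc Nat.card X * Nat.card ↥(cv V X) * (Nat.card Y * Nat.card ↥(cv V Y))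
      = (Nat.card X * Nat.card Y) * (Nat.card ↥(cv V X) * Nat.card ↥(cv V Y)) := by ring
    _ ≤ (Nat.card ↥(X ⊓ Y) * Nat.card ↥(X ⊔ Y)) *
          (Nat.card ↥(cv V (X ⊔ Y)) * Nat.card ↥(cv V X ⊔ cv V Y)) := Nat.mul_le_mul h1 h2
    _ ≤ (Nat.card ↥(X ⊓ Y) * Nat.card ↥(X ⊔ Y)) *
          (Nat.card ↥(cv V (X ⊔ Y)) * Nat.card ↥(cv V (X ⊓ Y))) :=
        Nat.mul_le_mul_left _ (Nat.mul_le_mul_left _ h3)
    _ = _ := by ring

/-- The maximal elements for `mm` form a sublattice, and `C_V` is additive on them. -/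
theorem max_inf [Finite G] (V A X Y : Subgroup G) (hmax : ∀ B : Subgroup G, B ≤ A → mm V B ≤ mm V A)
    (hX : X ≤ A) (hY : Y ≤ A) (hmX : mm V X = mm V A) (hmY : mm V Y = mm V A) :
    mm V (X ⊓ Y) = mm V A ∧ cv V (X ⊓ Y) = cv V X ⊔ cv V Y := by
  have hpos := mm_pos V A
  have hi := hmax (X ⊓ Y) (inf_le_left.trans hX)
  have hs := hmax (X ⊔ Y) (sup_le hX hY)
  have h := mm_mul_le V X Y
  rw [hmX, hmY] at h
  have hi' : mm V (X ⊓ Y) = mm V A := by
    by_contra hne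
    have hlt : mm V (X ⊓ Y) < mm V A := lt_of_le_of_ne hi hne
    have : mm V (X ⊓ Y) * mm V (X ⊔ Y) < mm V A * mm V A :=
      calc mm V (X ⊓ Y) * mm V (X ⊔ Y) ≤ mm V (X ⊓ Y) * mm V A := Nat.mul_le_mul_left _ hs
        _ < mm V A * mm V A := Nat.mul_lt_mul_of_pos_right hlt hpos
    omega
  have hs' : mm V (X ⊔ Y) = mm V A := by
    by_contra hne
    have hlt : mm V (X ⊔ Y) < mm V A := lt_of_le_of_ne hs hne
    have : mm V (X ⊓ Y) * mm V (X ⊔ Y) < mm V A * mm V A :=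
      calc mm V (X ⊓ Y) * mm V (X ⊔ Y) ≤ mm V A * mm V (X ⊔ Y) := Nat.mul_le_mul_right _ hi
        _ < mm V A * mm V A := Nat.mul_lt_mul_of_pos_left hlt hpos
    omega
  refine ⟨hi', ?_⟩
  symm
  apply Subgroup.eq_of_le_of_card_ge (cv_sup_le_inf V X Y)
  by_contra hlt
  push Not at hlt
  -- strict inequality in the chain
  have h1 := card_mul_card_le X Y
  have h2 := card_mul_card_le (cv V X) (cv V Y)
  rw [← cv_sup] at h2
  have hp1 : 0 < Nat.card ↥(X ⊓ Y) * Nat.card ↥(X ⊔ Y) := Nat.mul_pos Nat.card_pos Nat.card_pos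
  have hp2 : 0 < Nat.card ↥(cv V (X ⊔ Y)) := Nat.card_pos
  have hstrict : mm V X * mm V Y < mm V (X ⊓ Y) * mm V (X ⊔ Y) := by
    unfold mm
    calc Nat.card X * Nat.card ↥(cv V X) * (Nat.card Y * Nat.card ↥(cv V Y))
        = (Nat.card X * Nat.card Y) * (Nat.card ↥(cv V X) * Nat.card ↥(cv V Y)) := by ring
      _ ≤ (Nat.card ↥(X ⊓ Y) * Nat.card ↥(X ⊔ Y)) *
            (Nat.card ↥(cv V (X ⊔ Y)) * Nat.card ↥(cv V X ⊔ cv V Y)) := Nat.mul_le_mul h1 h2
      _ < (Nat.card ↥(X ⊓ Y) * Nat.card ↥(X ⊔ Y)) *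
            (Nat.card ↥(cv V (X ⊔ Y)) * Nat.card ↥(cv V (X ⊓ Y))) :=
          Nat.mul_lt_mul_of_pos_left (Nat.mul_lt_mul_of_pos_left hlt hp2) hp1
      _ = _ := by ring
  rw [hmX, hmY, hi', hs'] at hstrict
  exact lt_irrefl _ hstrict

section action

variable (V A : Subgroup G)

/-- generators of `[S, A]` -/
def gens (S : Set G) : Set G := {g | ∃ v ∈ S, ∃ a ∈ A, ⁅v, a⁆ = g}

/-- `[S, A]` -/
def WW (S : Set G) : Subgroup G := Subgroup.closure (gens A S)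

/-- `C_A([S, A])` -/
def BB (S : Set G) : Subgroup G := A ⊓ Subgroup.centralizer (gens A S)

theorem BB_le (S : Set G) : BB A S ≤ A := inf_le_left

theorem BB_eq (S : Set G) : BB A S = A ⊓ Subgroup.centralizer ((WW A S : Subgroup G) : Set G) := by
  unfold BB WW
  rw [Subgroup.centralizer_closure]

theorem gens_insert (v : G) (S : Set G) : gens A (insert v S) = gens A {v} ∪ gens A S := by
  ext g
  simp only [gens, Set.mem_insert_iff, Set.mem_union, Set.mem_singleton_iff]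
  constructor
  · rintro ⟨w, (rfl | hw), a, ha, rfl⟩
    · exact Or.inl ⟨w, rfl, a, ha, rfl⟩
    · exact Or.inr ⟨w, hw, a, ha, rfl⟩
  · rintro (⟨w, rfl, a, ha, rfl⟩ | ⟨w, hw, a, ha, rfl⟩)
    · exact ⟨w, Or.inl rfl, a, ha, rfl⟩
    · exact ⟨w, Or.inr hw, a, ha, rfl⟩

theorem WW_insert (v : G) (S : Set G) : WW A (insert v S) = WW A {v} ⊔ WW A S := by
  unfold WW
  rw [gens_insert, Subgroup.closure_union]

theorem BB_insert (v : G) (S : Set G) : BB A (insert v S) = BB A {v} ⊓ BB A S := by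
  unfold BB
  rw [gens_insert, centralizer_union]
  ext z
  simp only [Subgroup.mem_inf]
  tauto

theorem WW_empty : WW A (∅ : Set G) = ⊥ := by
  unfold WW
  have : gens A (∅ : Set G) = ∅ := by
    ext g
    simp [gens]
  rw [this, Subgroup.closure_empty]

theorem BB_empty : BB A (∅ : Set G) = A := by
  unfold BB
  have : gens A (∅ : Set G) = ∅ := by
    ext g
    simp [gens]
  rw [this]
  apply inf_eq_left.mpr
  intro a _
  rw [Subgroup.mem_centralizer_iff]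
  intro h hh
  exact absurd hh (Set.notMem_empty h)

variable {V A}
variable (hab : ∀ x ∈ V, ∀ y ∈ V, x * y = y * x)
variable (hAV : A ≤ Subgroup.normalizer (V : Set G))
variable (hAA : ⁅A, A⁆ ≤ Subgroup.centralizer (V : Set G))

include hAV in
theorem conj_mem {a y : G} (ha : a ∈ A) (hy : y ∈ V) : a * y * a⁻¹ ∈ V :=
  (Subgroup.mem_normalizer_iff.mp (hAV ha) y).mp hy

include hAV in
theorem comm_mem {v a : G} (hv : v ∈ V) (ha : a ∈ A) : ⁅v, a⁆ ∈ V := by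
  rw [commutatorElement_def]
  have h1 := conj_mem hAV ha (V.inv_mem hv)
  have : v * a * v⁻¹ * a⁻¹ = v * (a * v⁻¹ * a⁻¹) := by group
  rw [this]
  exact V.mul_mem hv h1

include hAV in
theorem WW_le {S : Set G} (hS : S ⊆ V) : WW A S ≤ V := by
  unfold WW
  rw [Subgroup.closure_le]
  rintro _ ⟨v, hv, a, ha, rfl⟩
  exact comm_mem hAV (hS hv) ha

include hAV hAA in
theorem comm_act {b d y : G} (hb : b ∈ A) (hd : d ∈ A) (hy : y ∈ V) :
    b * (d * y * d⁻¹) * b⁻¹ = d * (b * y * b⁻¹) * d⁻¹ := by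
  have ht : d * (b * y * b⁻¹) * d⁻¹ ∈ V := conj_mem hAV hd (conj_mem hAV hb hy)
  have hc : ⁅b, d⁆ ∈ Subgroup.centralizer (V : Set G) :=
    hAA (Subgroup.commutator_mem_commutator hb hd)
  have hc' := Subgroup.mem_centralizer_iff.mp hc _ ht
  have h1 : b * (d * y * d⁻¹) * b⁻¹ = ⁅b, d⁆ * (d * (b * y * b⁻¹) * d⁻¹) * ⁅b, d⁆⁻¹ := by
    rw [commutatorElement_def]; group
  rw [h1, ← hc']
  group

theorem fix_of_mem {c a : G} (hc : c ∈ cv V A) (ha : a ∈ A) : a * c * a⁻¹ = c := by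
  have := Subgroup.mem_centralizer_iff.mp hc.2 a ha
  rw [this]; group

include hab hAV hAA in
theorem key1 {v b : G} (hv : v ∈ V) (hb : b ∈ A) (hc : ⁅v, b⁆ ∈ cv V A) :
    b ∈ Subgroup.centralizer (gens A {v}) := by
  rw [Subgroup.mem_centralizer_iff]
  rintro _ ⟨w, hw, d, hd, rfl⟩
  rw [Set.mem_singleton_iff] at hw
  subst hw
  set c := ⁅w, b⁆ with hcdef
  have h1 : b * w⁻¹ * b⁻¹ = w⁻¹ * c := by
    rw [hcdef, commutatorElement_def]; group
  have h2 := comm_act hAV hAA hb hd (V.inv_mem hv)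
  have h3 : d * c * d⁻¹ = c := fix_of_mem hc hd
  have h4 : c * ⁅w, d⁆ = ⁅w, d⁆ * c := hab _ hc.1 _ (comm_mem hAV hv hd)
  have h5 : b * ⁅w, d⁆ * b⁻¹ = ⁅w, d⁆ := by
    calc b * ⁅w, d⁆ * b⁻¹ = (b * w⁻¹ * b⁻¹)⁻¹ * (b * (d * w⁻¹ * d⁻¹) * b⁻¹) := by
          rw [commutatorElement_def]; group
      _ = (w⁻¹ * c)⁻¹ * (d * (w⁻¹ * c) * d⁻¹) := by rw [h2, h1]
      _ = c⁻¹ * (w * d * w⁻¹ * d⁻¹) * (d * c * d⁻¹) := by group
      _ = c⁻¹ * ⁅w, d⁆ * c := by rw [h3, commutatorElement_def]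
      _ = ⁅w, d⁆ := by rw [mul_assoc, ← h4, ← mul_assoc, inv_mul_cancel, one_mul]
  calc ⁅w, d⁆ * b = (b * ⁅w, d⁆ * b⁻¹) * b := by rw [h5]
    _ = b * ⁅w, d⁆ := by group

theorem key2 {v a a' : G} (ha : a ∈ A) (ha' : a' ∈ A)
    (hc : ⁅v, a'⁆⁻¹ * ⁅v, a⁆ ∈ cv V A) : ⁅v, a'⁻¹ * a⁆ ∈ cv V A := by
  have h1 := fix_of_mem hc (A.inv_mem ha')
  have h2 : ⁅v, a'⁻¹ * a⁆ = a'⁻¹ * (⁅v, a'⁆⁻¹ * ⁅v, a⁆) * a'⁻¹⁻¹ := by
    simp only [commutatorElement_def]; group
  rw [h2, h1]; exact hc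

include hAV in
theorem WW_sup_le {S : Set G} (hS : S ⊆ V) : WW A S ⊔ cv V A ≤ cv V (BB A S) := by
  apply sup_le
  · intro w hw
    refine ⟨WW_le hAV hS hw, ?_⟩
    apply Subgroup.mem_centralizer_iff.mpr
    intro h hh
    have hh' : h ∈ BB A S := hh
    rw [BB_eq] at hh'
    exact (Subgroup.mem_centralizer_iff.mp hh'.2 w hw).symm
  · exact cv_anti V (BB_le A S)

include hab hAV hAA in
theorem key3 [Finite G] {v : G} (hv : v ∈ V) :
    Nat.card A * Nat.card ↥(cv V A) ≤ Nat.card ↥(BB A {v}) * Nat.card ↥(WW A {v} ⊔ cv V A) := by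
  classical
  set B' : Subgroup ↥A := (BB A {v}).subgroupOf A with hB'
  have hcardB : Nat.card ↥B' = Nat.card ↥(BB A {v}) :=
    Nat.card_congr (Subgroup.subgroupOfEquivOfLe (BB_le A {v})).toEquiv
  have hA : Nat.card A = Nat.card (↥A ⧸ B') * Nat.card ↥B' :=
    Subgroup.card_eq_card_quotient_mul_card_subgroup B'
  let f : (↥A ⧸ B') × ↥(cv V A) → ↥(WW A {v} ⊔ cv V A) := fun x =>
    ⟨⁅v, ((Quotient.out x.1 : ↥A) : G)⁆ * (x.2 : G),
      Subgroup.mul_mem _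
        ((le_sup_left : WW A {v} ≤ WW A {v} ⊔ cv V A)
          (Subgroup.subset_closure ⟨v, rfl, _, (Quotient.out x.1 : ↥A).2, rfl⟩))
        ((le_sup_right : cv V A ≤ WW A {v} ⊔ cv V A) x.2.2)⟩
  have hf : Function.Injective f := by
    rintro ⟨q, c⟩ ⟨q', c'⟩ h
    have h0 : ⁅v, ((Quotient.out q : ↥A) : G)⁆ * (c : G) =
        ⁅v, ((Quotient.out q' : ↥A) : G)⁆ * (c' : G) := congrArg Subtype.val h
    set a : ↥A := Quotient.out q with ha
    set a' : ↥A := Quotient.out q' with ha'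
    have h1 : ⁅v, (a' : G)⁆⁻¹ * ⁅v, (a : G)⁆ = (c' : G) * (c : G)⁻¹ := by
      have : ⁅v, (a : G)⁆ = ⁅v, (a' : G)⁆ * (c' : G) * (c : G)⁻¹ := by
        rw [← h0]; group
      rw [this]; group
    have h2 : ⁅v, (a' : G)⁆⁻¹ * ⁅v, (a : G)⁆ ∈ cv V A := by
      rw [h1]; exact Subgroup.mul_mem _ c'.2 (Subgroup.inv_mem _ c.2)
    have h3 := key2 a.2 a'.2 h2
    have h4 := key1 hab hAV hAA hv (A.mul_mem (A.inv_mem a'.2) a.2) h3
    have h5 : a'⁻¹ * a ∈ B' := by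
      rw [hB', Subgroup.mem_subgroupOf]
      exact ⟨A.mul_mem (A.inv_mem a'.2) a.2, h4⟩
    have h6 : q' = q := by
      have e1 : ((a' : ↥A) : ↥A ⧸ B') = q' := QuotientGroup.out_eq' q'
      have e2 : ((a : ↥A) : ↥A ⧸ B') = q := QuotientGroup.out_eq' q
      rw [← e1, ← e2]
      exact QuotientGroup.eq.mpr h5
    subst h6
    have h7 : (c : G) = c' := by
      have := h0
      exact mul_left_cancel this
    exact Prod.ext rfl (Subtype.ext h7)
  have hcard := Nat.card_le_card_of_injective f hf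
  rw [Nat.card_prod] at hcard
  calc Nat.card A * Nat.card ↥(cv V A)
      = Nat.card ↥(BB A {v}) * (Nat.card (↥A ⧸ B') * Nat.card ↥(cv V A)) := by
        rw [hA, hcardB]; ring
    _ ≤ _ := Nat.mul_le_mul_left _ hcard

include hab hAV hAA in
theorem single [Finite G] (hmax : ∀ B : Subgroup G, B ≤ A → mm V B ≤ mm V A) {v : G}
    (hv : v ∈ V) : mm V (BB A {v}) = mm V A ∧ cv V (BB A {v}) = WW A {v} ⊔ cv V A := by
  have hS : ({v} : Set G) ⊆ V := by
    intro x hx; rw [Set.mem_singleton_iff] at hx; rw [hx]; exact hv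
  have h1 := key3 hab hAV hAA hv
  have h2 := WW_sup_le hAV hS
  have h3 : Nat.card ↥(WW A {v} ⊔ cv V A) ≤ Nat.card ↥(cv V (BB A {v})) :=
    Subgroup.card_le_of_le h2
  have h4 := hmax _ (BB_le A {v})
  have hp : 0 < Nat.card ↥(BB A {v}) := Nat.card_pos
  have h5 : mm V A ≤ Nat.card ↥(BB A {v}) * Nat.card ↥(WW A {v} ⊔ cv V A) := h1
  have h6 : Nat.card ↥(BB A {v}) * Nat.card ↥(WW A {v} ⊔ cv V A) ≤ mm V (BB A {v}) :=
    Nat.mul_le_mul_left _ h3
  refine ⟨le_antisymm h4 (h5.trans h6), ?_⟩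
  symm
  apply Subgroup.eq_of_le_of_card_ge h2
  by_contra hlt
  push Not at hlt
  have : Nat.card ↥(BB A {v}) * Nat.card ↥(WW A {v} ⊔ cv V A) < mm V (BB A {v}) :=
    Nat.mul_lt_mul_of_pos_left hlt hp
  omega

include hab hAV hAA in
theorem all_sets [Finite G] (hmax : ∀ B : Subgroup G, B ≤ A → mm V B ≤ mm V A) (S : Set G)
    (hS : S ⊆ V) : mm V (BB A S) = mm V A ∧ cv V (BB A S) = WW A S ⊔ cv V A := by
  have hfin : S.Finite := S.toFinite
  induction S, hfin using Set.Finite.induction_on with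
  | empty =>
    rw [BB_empty, WW_empty, bot_sup_eq]
    exact ⟨rfl, rfl⟩
  | @insert v S _ _ ih =>
    have hv : v ∈ V := hS (Set.mem_insert _ _)
    have hS' : S ⊆ V := fun x hx => hS (Set.mem_insert_of_mem _ hx)
    obtain ⟨ih1, ih2⟩ := ih hS'
    obtain ⟨s1, s2⟩ := single hab hAV hAA hmax hv
    obtain ⟨r1, r2⟩ := max_inf V A (BB A {v}) (BB A S) hmax (BB_le A _) (BB_le A _) s1 ih1
    rw [BB_insert, WW_insert]
    refine ⟨r1, ?_⟩
    rw [r2, s2, ih2]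
    rw [sup_sup_sup_comm, sup_idem]

end action

end Cfsg.Agent.Lib.Lead.Replacement
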