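import Mathlib
import Cfsg.Agent.S0528
import Cfsg.Agent.S0529
import Cfsg.Agent.S0026
import Cfsg.Agent.S0027
import Cfsg.Agent.H1.PrimeIndex
import Cfsg.Agent.Lib.Lead.PGroup

/-!
Huppert's theorem: a finite group all of whose maximal subgroups have prime index is
supersolvable (author: lead).
-/

set_option autoImplicit false
set_option linter.style.haveILetI false
set_option linter.unusedVariables false

namespace Cfsg.Agent.Lead.Huppert

open scoped commutatorElement

variable {G : Type*} [Group G]

/-- minimal normal subgroup inside a nontrivial normal subgroup. -/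
theorem exists_min_normal_le [Finite G] (S : Subgroup G) [S.Normal] (hS : S ≠ ⊥) :
    ∃ N : Subgroup G, N.Normal ∧ N ≤ S ∧ N ≠ ⊥ ∧
      ∀ K : Subgroup G, K.Normal → K ≤ N → K = ⊥ ∨ K = N := by
  classical
  have hex : ∃ n : ℕ, ∃ N : Subgroup G, N.Normal ∧ N ≤ S ∧ N ≠ ⊥ ∧ Nat.card N = n :=
    ⟨_, S, inferInstance, le_refl _, hS, rfl⟩
  obtain ⟨N, hNn, hNS, hNb, hNc⟩ := Nat.find_spec hex
  refine ⟨N, hNn, hNS, hNb, ?_⟩
  intro K hK hKN
  by_contra hcon
  push_neg at hcon
  have hlt : Nat.card K < Nat.find hex := by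
    rw [← hNc]
    by_contra hge
    push_neg at hge
    exact hcon.2 (Subgroup.eq_of_le_of_card_ge hKN hge)
  exact Nat.find_min hex hlt ⟨K, hK, hKN.trans hNS, hcon.1, rfl⟩

theorem le_normalizer_of_conj_mem (A X : Subgroup G)
    (h : ∀ a ∈ A, ∀ x ∈ X, a * x * a⁻¹ ∈ X) : A ≤ Subgroup.normalizer (X : Set G) := by
  intro a ha
  rw [Subgroup.mem_normalizer_iff]
  intro x
  constructor
  · exact h a ha x
  · intro hx
    have := h a⁻¹ (A.inv_mem ha) _ hx
    simpa [mul_assoc] using this

theorem normal_of_sup_le_normalizer (X A B : Subgroup G) (hAB : A ⊔ B = ⊤)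
    (hA : A ≤ Subgroup.normalizer (X : Set G)) (hB : B ≤ Subgroup.normalizer (X : Set G)) :
    X.Normal := by
  rw [← Subgroup.normalizer_eq_top_iff, eq_top_iff, ← hAB]
  exact sup_le hA hB

/-- Case 1: a maximal subgroup not containing an abelian minimal normal subgroup `N` has index `|N|`. -/
theorem card_eq_index_of_not_le [Finite G] (N : Subgroup G) [hN : N.Normal]
    (hab : ∀ x ∈ N, ∀ y ∈ N, x * y = y * x)
    (hmin : ∀ K : Subgroup G, K.Normal → K ≤ N → K = ⊥ ∨ K = N) (M : Subgroup G)
    (hM : IsCoatom M) (hNM : ¬ N ≤ M) : Nat.card N = M.index := by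
  have hsup : M ⊔ N = ⊤ := by
    by_contra hne
    have h1 : M < M ⊔ N := lt_of_le_of_ne le_sup_left (fun h => hNM (h ▸ le_sup_right))
    exact hne (hM.2 _ h1)
  have hnorm : (M ⊓ N).Normal := by
    apply normal_of_sup_le_normalizer _ M N hsup
    · apply le_normalizer_of_conj_mem
      intro m hm x hx
      exact ⟨M.mul_mem (M.mul_mem hm hx.1) (M.inv_mem hm), hN.conj_mem x hx.2 m⟩
    · apply le_normalizer_of_conj_mem
      intro n hn x hx
      have : n * x * n⁻¹ = x := by
        rw [hab n hn x hx.2, mul_inv_cancel_right]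
      rw [this]; exact hx
  have hbot : M ⊓ N = ⊥ := by
    rcases hmin _ hnorm inf_le_right with h | h
    · exact h
    · exact absurd (h ▸ inf_le_left : N ≤ M) hNM
  have hcompl : Subgroup.IsComplement' M N := by
    apply Subgroup.isComplement'_of_disjoint_and_mul_eq_univ (disjoint_iff.mpr hbot)
    rw [← Subgroup.mul_normal, hsup, Subgroup.coe_top]
  have h1 := hcompl.card_mul_card
  have h2 := M.card_mul_index
  have h3 : 0 < Nat.card M := Nat.card_pos
  have : Nat.card M * Nat.card N = Nat.card M * M.index := by rw [h1, h2]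
  exact Nat.eq_of_mul_eq_mul_left h3 this

/-- a normal `p`-subgroup centralises every minimal normal subgroup it contains. -/
theorem le_centralizer_of_min_normal [Finite G] {p : ℕ} [Fact p.Prime] (S : Subgroup G) [S.Normal]
    (hS : IsPGroup p S) (N : Subgroup G) [N.Normal] (hNS : N ≤ S) (hNb : N ≠ ⊥)
    (hmin : ∀ K : Subgroup G, K.Normal → K ≤ N → K = ⊥ ∨ K = N) :
    S ≤ Subgroup.centralizer (N : Set G) := by
  have hne : N.subgroupOf S ≠ ⊥ := by
    intro h
    rw [Subgroup.subgroupOf_eq_bot, disjoint_iff, inf_eq_left.mpr hNS] at h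
    exact hNb h
  obtain ⟨z, hzN, hzZ, hz1⟩ :=
    Cfsg.Agent.Lib.Lead.PGroup.exists_mem_center_of_normal hS (N.subgroupOf S) hne
  have hK : (N ⊓ Subgroup.centralizer (S : Set G)).Normal := inferInstance
  have hzK : (z : G) ∈ N ⊓ Subgroup.centralizer (S : Set G) := by
    refine Subgroup.mem_inf.mpr ⟨hzN, ?_⟩
    rw [Subgroup.mem_centralizer_iff]
    intro s hs
    have := Subgroup.mem_center_iff.mp hzZ ⟨s, hs⟩
    exact congrArg Subtype.val this
  rcases hmin _ hK inf_le_left with h | h
  · exfalso
    rw [h, Subgroup.mem_bot] at hzK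
    exact hz1 (Subtype.ext hzK)
  · intro s hs
    rw [Subgroup.mem_centralizer_iff]
    intro n hn
    have hn' : n ∈ N ⊓ Subgroup.centralizer (S : Set G) := by rw [h]; exact hn
    exact (Subgroup.mem_centralizer_iff.mp hn'.2 s hs).symm

/-- the centraliser in `G` of the section `K/L`. -/
def Cn (K L : Subgroup G) [L.Normal] : Subgroup G :=
  (Subgroup.centralizer ((K.map (QuotientGroup.mk' L) : Subgroup (G ⧸ L)) : Set (G ⧸ L))).comap
    (QuotientGroup.mk' L)

instance Cn_normal (K L : Subgroup G) [K.Normal] [L.Normal] : (Cn K L).Normal := by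
  unfold Cn
  haveI : (K.map (QuotientGroup.mk' L)).Normal :=
    Subgroup.Normal.map inferInstance _ (QuotientGroup.mk'_surjective L)
  infer_instance

theorem comm_mem_of_mem_Cn (K L : Subgroup G) [L.Normal] {e x : G} (he : e ∈ Cn K L)
    (hx : x ∈ K) : ⁅x, e⁆ ∈ L := by
  have h1 : (QuotientGroup.mk' L x) * (QuotientGroup.mk' L e)
      = (QuotientGroup.mk' L e) * (QuotientGroup.mk' L x) :=
    Subgroup.mem_centralizer_iff.mp he _ (Subgroup.mem_map_of_mem _ hx)
  rw [← QuotientGroup.eq_one_iff]
  show QuotientGroup.mk' L ⁅x, e⁆ = 1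
  rw [map_commutatorElement, commutatorElement_eq_one_iff_mul_comm]
  exact h1

theorem mem_Cn_of_conjNormal (K L : Subgroup G) [K.Normal] [L.Normal] (e : G)
    (he : ∀ y : G ⧸ L, y ∈ K.map (QuotientGroup.mk' L) →
      (QuotientGroup.mk' L e) * y * (QuotientGroup.mk' L e)⁻¹ = y) : e ∈ Cn K L := by
  show QuotientGroup.mk' L e ∈ Subgroup.centralizer _
  rw [Subgroup.mem_centralizer_iff]
  intro y hy
  have := he y hy
  calc y * QuotientGroup.mk' L e
      = (QuotientGroup.mk' L e * y * (QuotientGroup.mk' L e)⁻¹) * QuotientGroup.mk' L e := by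
        rw [this]
    _ = QuotientGroup.mk' L e * y := by group

/-- the conjugation action on a normal section of prime order `p` is abelian of exponent `p - 1`. -/
theorem verbal_gens_mem_Cn [Finite G] {p : ℕ} [hp : Fact p.Prime] (K L : Subgroup G) [K.Normal]
    [L.Normal] (hidx : L.relIndex K = p) (g h : G) :
    ⁅g, h⁆ ∈ Cn K L ∧ g ^ (p - 1) ∈ Cn K L := by
  haveI hQn : (K.map (QuotientGroup.mk' L)).Normal :=
    Subgroup.Normal.map inferInstance _ (QuotientGroup.mk'_surjective L)
  have hcard : Nat.card (K.map (QuotientGroup.mk' L)) = p := by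
    rw [← Subgroup.relIndex_ker, QuotientGroup.ker_mk', hidx]
  haveI : IsCyclic (K.map (QuotientGroup.mk' L)) := isCyclic_of_prime_card hcard
  let φ : G →* MulAut (K.map (QuotientGroup.mk' L)) :=
    (MulAut.conjNormal).comp (QuotientGroup.mk' L)
  let ψ := IsCyclic.mulAutMulEquiv (K.map (QuotientGroup.mk' L))
  have hcomm : ∀ a b : MulAut (K.map (QuotientGroup.mk' L)), a * b = b * a := by
    intro a b
    apply ψ.injective
    rw [map_mul, map_mul, mul_comm]
  have hpow : ∀ a : MulAut (K.map (QuotientGroup.mk' L)), a ^ (p - 1) = 1 := by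
    intro a
    apply ψ.injective
    rw [map_pow, map_one]
    haveI : Fact (Nat.card (K.map (QuotientGroup.mk' L))).Prime := ⟨hcard.symm ▸ hp.out⟩
    have h1 := ZMod.units_pow_card_sub_one_eq_one (Nat.card (K.map (QuotientGroup.mk' L))) (ψ a)
    have h2 : p - 1 = Nat.card (K.map (QuotientGroup.mk' L)) - 1 := by rw [hcard]
    rw [h2]; exact h1
  have key : ∀ e : G, φ e = 1 → e ∈ Cn K L := by
    intro e he
    apply mem_Cn_of_conjNormal
    intro y hy
    have h1 := congrArg (fun σ => ((σ ⟨y, hy⟩ : K.map (QuotientGroup.mk' L)) : G ⧸ L)) he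
    simpa [φ, MulAut.conjNormal_apply] using h1
  constructor
  · apply key
    rw [map_commutatorElement, commutatorElement_eq_one_iff_mul_comm]
    exact hcomm _ _
  · apply key
    rw [map_pow]
    exact hpow _

/-- the verbal subgroup generated by commutators and `(p - 1)`-th powers. -/
def verbal (p : ℕ) (G : Type*) [Group G] : Subgroup G :=
  Subgroup.normalClosure {x : G | (∃ g h : G, x = ⁅g, h⁆) ∨ ∃ g : G, x = g ^ (p - 1)}

instance verbal_normal (p : ℕ) : (verbal p G).Normal := by
  unfold verbal; infer_instance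

theorem verbal_le_Cn [Finite G] {p : ℕ} [Fact p.Prime] (K L : Subgroup G) [K.Normal] [L.Normal]
    (hidx : L.relIndex K = p) : verbal p G ≤ Cn K L := by
  apply Subgroup.normalClosure_le_normal
  rintro x (⟨g, h, rfl⟩ | ⟨g, rfl⟩)
  · exact (verbal_gens_mem_Cn K L hidx g h).1
  · exact (verbal_gens_mem_Cn K L hidx g g).2

theorem map_verbal_le {G' : Type*} [Group G'] (f : G →* G') (p : ℕ) :
    (verbal p G).map f ≤ verbal p G' := by
  rw [Subgroup.map_le_iff_le_comap]
  apply Subgroup.normalClosure_le_normal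
  rintro x (⟨g, h, rfl⟩ | ⟨g, rfl⟩)
  · exact Subgroup.subset_normalClosure (Or.inl ⟨f g, f h, map_commutatorElement f g h⟩)
  · exact Subgroup.subset_normalClosure (Or.inr ⟨f g, map_pow f g _⟩)

/-- In a supersolvable group, a `p'`-subgroup of the verbal subgroup centralises every normal
`p`-subgroup. -/
theorem ss_comm_trivial [Finite G] (hG : Cfsg.IsSupersolvable G) {p : ℕ} [hp : Fact p.Prime]
    (P : Subgroup G) [hPn : P.Normal] (hP : IsPGroup p P) (E : Subgroup G) (hE : E ≤ verbal p G)
    (hcop : (Nat.card E).Coprime p) : ⁅P, E⁆ = ⊥ := by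
  obtain ⟨n, H, h0, hlast, hnorm, hstep, -⟩ := Cfsg.Agent.S0529.result hG
  have key : ∀ i : ℕ, ∀ hi : i < n + 1, ⁅H ⟨i, hi⟩ ⊓ P, E⁆ = ⊥ := by
    intro i
    induction i with
    | zero =>
      intro hi
      have : H ⟨0, hi⟩ = ⊥ := h0
      rw [this, bot_inf_eq, Subgroup.commutator_bot_left]
    | succ i ih =>
      intro hi
      have hi' : i < n := by omega
      have hi0 : i < n + 1 := by omega
      have ihh := ih hi0
      obtain ⟨hle, hprime⟩ := hstep ⟨i, hi'⟩
      have hle' : H ⟨i, hi0⟩ ≤ H ⟨i + 1, hi⟩ := hle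
      have hprime' : ((H ⟨i, hi0⟩).relIndex (H ⟨i + 1, hi⟩)).Prime := hprime
      haveI hLn : (H ⟨i, hi0⟩).Normal := hnorm _
      haveI hKn : (H ⟨i + 1, hi⟩).Normal := hnorm _
      have hKP : IsPGroup p ↥(H ⟨i + 1, hi⟩ ⊓ P) := hP.to_le inf_le_right
      have hclaim : ⁅H ⟨i + 1, hi⟩ ⊓ P, E⁆ ≤ H ⟨i, hi0⟩ ⊓ P := by
        rw [Subgroup.commutator_le]
        intro x hx e he
        refine Subgroup.mem_inf.mpr ⟨?_, ?_⟩
        · by_cases hq : (H ⟨i, hi0⟩).relIndex (H ⟨i + 1, hi⟩) = p
          · exact comm_mem_of_mem_Cn _ _ (verbal_le_Cn _ _ hq (hE he)) hx.1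
          · have hxL : x ∈ H ⟨i, hi0⟩ := by
              obtain ⟨k, hk⟩ := hP ⟨x, hx.2⟩
              have hk' : x ^ (p ^ k) = 1 := congrArg Subtype.val hk
              rw [← QuotientGroup.eq_one_iff]
              have hmem : (QuotientGroup.mk' (H ⟨i, hi0⟩) x) ∈
                  (H ⟨i + 1, hi⟩).map (QuotientGroup.mk' (H ⟨i, hi0⟩)) :=
                Subgroup.mem_map_of_mem _ hx.1
              have hcard : Nat.card ((H ⟨i + 1, hi⟩).map (QuotientGroup.mk' (H ⟨i, hi0⟩)))
                  = (H ⟨i, hi0⟩).relIndex (H ⟨i + 1, hi⟩) := by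
                rw [← Subgroup.relIndex_ker, QuotientGroup.ker_mk']
              have h1 : (QuotientGroup.mk' (H ⟨i, hi0⟩) x) ^
                  ((H ⟨i, hi0⟩).relIndex (H ⟨i + 1, hi⟩)) = 1 := by
                have := pow_card_eq_one' (G := (H ⟨i + 1, hi⟩).map
                  (QuotientGroup.mk' (H ⟨i, hi0⟩))) (x := ⟨_, hmem⟩)
                rw [hcard] at this
                exact congrArg Subtype.val this
              have h2 : (QuotientGroup.mk' (H ⟨i, hi0⟩) x) ^ (p ^ k) = 1 := by
                rw [← map_pow, hk', map_one]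
              have hd1 := orderOf_dvd_of_pow_eq_one h1
              have hd2 := orderOf_dvd_of_pow_eq_one h2
              have hcp : Nat.Coprime ((H ⟨i, hi0⟩).relIndex (H ⟨i + 1, hi⟩)) (p ^ k) := by
                apply Nat.Coprime.pow_right
                rw [Nat.coprime_primes hprime' hp.out]
                exact hq
              have hd3 := Nat.dvd_gcd hd1 hd2
              rw [hcp.gcd_eq_one, Nat.dvd_one, orderOf_eq_one_iff] at hd3
              exact hd3
            rw [commutatorElement_def]
            have := hLn.conj_mem _ (Subgroup.inv_mem _ hxL) e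
            have h3 := Subgroup.mul_mem _ hxL this
            simpa [mul_assoc] using h3
        · rw [commutatorElement_def]
          have := hPn.conj_mem _ (Subgroup.inv_mem _ hx.2) e
          have h3 := Subgroup.mul_mem _ hx.2 this
          simpa [mul_assoc] using h3
      have hcopK : (Nat.card E).Coprime (Nat.card ↥(H ⟨i + 1, hi⟩ ⊓ P)) := by
        obtain ⟨k, hk⟩ := IsPGroup.iff_card.mp hKP
        rw [hk]
        exact Nat.Coprime.pow_right _ hcop
      have hsolv : Group.IsSolvable ↥(H ⟨i + 1, hi⟩ ⊓ P) := by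
        have := hKP.isNilpotent
        infer_instance
      have h27 := Cfsg.Agent.S0027.result E (H ⟨i + 1, hi⟩ ⊓ P)
        (by rw [Subgroup.normalizer_eq_top]; exact le_top) hcopK (Or.inr hsolv)
      rw [← h27, eq_bot_iff, ← ihh]
      exact Subgroup.commutator_mono hclaim le_rfl
  have h1 := key n (by omega)
  have hn : H ⟨n, by omega⟩ = ⊤ := hlast
  rwa [hn, top_inf_eq] at h1

theorem exists_eigen' {V : Type*} [CommGroup V] [Finite V] [Nontrivial V] {p : ℕ} [hp : Fact p.Prime]
    [Module (ZMod p) (Additive V)] (T : V →* V) (hT : ∀ x, (T^[p-1]) x = x) :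
    ∃ x : V, x ≠ 1 ∧ ∃ μ : ℕ, T x = x ^ μ := by
  let f : Module.End (ZMod p) (Additive V) := (MonoidHom.toAdditive T).toZModLinearMap p
  have hf1 : ∀ x : Additive V, f x = Additive.ofMul (T x.toMul) := fun x => rfl
  have hfit : ∀ (n : ℕ) (x : Additive V), (f ^ n) x = Additive.ofMul ((T^[n]) x.toMul) := by
    intro n
    induction n with
    | zero => intro x; rfl
    | succ n ih =>
      intro x
      rw [pow_succ', Module.End.mul_apply, ih, hf1, Function.iterate_succ_apply']; rfl
  have hf : f ^ (p - 1) = 1 := by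
    apply LinearMap.ext; intro x
    rw [hfit, hT]; rfl
  have hfp : f ^ p = f := by
    have h1 : f ^ ((p - 1) + 1) = f := by rw [pow_succ, hf, one_mul]
    have h2 : (p - 1) + 1 = p := by have := hp.out.one_lt; omega
    rw [h2] at h1; exact h1
  have haeval : Polynomial.aeval f (Polynomial.X ^ p - Polynomial.X : Polynomial (ZMod p)) = 0 := by
    simp [hfp]
  have hdvd := minpoly.dvd (ZMod p) f haeval
  have hsplit : (Polynomial.X ^ p - Polynomial.X : Polynomial (ZMod p)).Splits := by
    have := FiniteField.splits_X_pow_card_sub_X (p := p) (K := ZMod p)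
    simpa [ZMod.card] using this
  have hne : (Polynomial.X ^ p - Polynomial.X : Polynomial (ZMod p)) ≠ 0 :=
    FiniteField.X_pow_card_sub_X_ne_zero (ZMod p) hp.out.one_lt
  have hms := hsplit.of_dvd hne hdvd
  have hint : IsIntegral (ZMod p) f := Algebra.IsIntegral.isIntegral f
  have hdeg : (minpoly (ZMod p) f).degree ≠ 0 := (minpoly.degree_pos hint).ne'
  obtain ⟨μ, hμ⟩ := hms.exists_eval_eq_zero hdeg
  have hev := Module.End.hasEigenvalue_of_isRoot (f := f) (μ := μ) hμ
  obtain ⟨v, hv⟩ := hev.exists_hasEigenvector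
  refine ⟨v.toMul, ?_, μ.val, ?_⟩
  · intro h; exact hv.2 (congrArg Additive.ofMul h)
  · have h1 : f v = μ • v := hv.apply_eq_smul
    have h2 : μ • v = μ.val • v := by
      conv_lhs => rw [← ZMod.natCast_zmod_val μ]
      exact Nat.cast_smul_eq_nsmul (ZMod p) μ.val v
    have h3 := h1.trans h2
    exact congrArg Additive.toMul h3

/-- An endomorphism `T` of an elementary abelian `p`-group with `T^(p-1) = 1` has an eigenvector. -/
theorem exists_eigen {V : Type*} [Group V] [Finite V] [Nontrivial V] {p : ℕ} [hp : Fact p.Prime]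
    (hcomm : ∀ x y : V, x * y = y * x)
    (hV : ∀ x : V, x ^ p = 1) (T : V →* V) (hT : ∀ x, (T^[p-1]) x = x) :
    ∃ x : V, x ≠ 1 ∧ ∃ μ : ℕ, T x = x ^ μ := by
  letI : CommGroup V := { (inferInstance : Group V) with mul_comm := hcomm }
  letI : Module (ZMod p) (Additive V) := AddCommGroup.zmodModule (by
    intro x
    exact congrArg Additive.ofMul (hV x.toMul))
  exact exists_eigen' T hT

theorem pow_eq_one_of_min_normal [Finite G] {p : ℕ} [hp : Fact p.Prime] (N : Subgroup G)
    [hN : N.Normal] (hNp : IsPGroup p N) (hNb : N ≠ ⊥) (hab : ∀ x ∈ N, ∀ y ∈ N, x * y = y * x)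
    (hmin : ∀ K : Subgroup G, K.Normal → K ≤ N → K = ⊥ ∨ K = N) : ∀ x ∈ N, x ^ p = 1 := by
  let K : Subgroup G :=
    { carrier := {x | x ∈ N ∧ x ^ p = 1}
      one_mem' := ⟨N.one_mem, one_pow _⟩
      mul_mem' := by
        rintro a b ⟨ha, ha'⟩ ⟨hb, hb'⟩
        refine ⟨N.mul_mem ha hb, ?_⟩
        have hc : Commute a b := hab a ha b hb
        rw [hc.mul_pow, ha', hb', one_mul]
      inv_mem' := by
        rintro a ⟨ha, ha'⟩
        exact ⟨N.inv_mem ha, by rw [inv_pow, ha', inv_one]⟩ }
  have hKn : K.Normal := ⟨by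
    rintro x ⟨hx, hx'⟩ g
    exact ⟨hN.conj_mem x hx g, by rw [conj_pow, hx', mul_one, mul_inv_cancel]⟩⟩
  have hKN : K ≤ N := fun x hx => hx.1
  have hKb : K ≠ ⊥ := by
    have hdvd : p ∣ Nat.card N := by
      rcases hNp.card_eq_or_dvd with h | h
      · exfalso; exact hNb (Subgroup.card_eq_one.mp h)
      · exact h
    obtain ⟨x, hx⟩ := exists_prime_orderOf_dvd_card' p hdvd
    intro hb
    have hxK : (x : G) ∈ K := ⟨x.2, by
      have := pow_orderOf_eq_one x
      rw [hx] at this
      exact congrArg Subtype.val this⟩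
    rw [hb, Subgroup.mem_bot] at hxK
    have h1 : x = 1 := Subtype.ext hxK
    rw [h1, orderOf_one] at hx
    exact hp.out.one_lt.ne' hx.symm
  rcases hmin K hKn hKN with h | h
  · exact absurd h hKb
  · intro x hx
    have : x ∈ K := by rw [h]; exact hx
    exact this.2

/-- If `G / C_G(N)` is abelian of exponent dividing `p - 1` and `N` is an elementary abelian minimal
normal `p`-subgroup then `N` is cyclic. -/
theorem cyclic_of_abelian_action [Finite G] {p : ℕ} [hp : Fact p.Prime] (N : Subgroup G)
    [hN : N.Normal] (hNb : N ≠ ⊥) (hab : ∀ x ∈ N, ∀ y ∈ N, x * y = y * x)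
    (hNp : ∀ x ∈ N, x ^ p = 1)
    (hmin : ∀ K : Subgroup G, K.Normal → K ≤ N → K = ⊥ ∨ K = N)
    (hcomm : ∀ g h : G, ⁅g, h⁆ ∈ Subgroup.centralizer (N : Set G))
    (hpow : ∀ g : G, g ^ (p - 1) ∈ Subgroup.centralizer (N : Set G)) : IsCyclic N := by
  have hscal : ∀ g : G, ∃ μ : ℕ, ∀ x ∈ N, g * x * g⁻¹ = x ^ μ := by
    intro g
    haveI : Nontrivial N := (Subgroup.nontrivial_iff_ne_bot N).mpr hNb
    let T : N →* N := (MulAut.conjNormal g : MulAut N).toMonoidHom
    have hT1 : ∀ x : N, ((T x : N) : G) = g * x * g⁻¹ := fun x => rfl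
    have hTit : ∀ (n : ℕ) (x : N), (((T^[n]) x : N) : G) = g ^ n * x * (g ^ n)⁻¹ := by
      intro n
      induction n with
      | zero => intro x; simp
      | succ n ih =>
        intro x
        rw [Function.iterate_succ_apply', hT1, ih, pow_succ']; group
    obtain ⟨x, hx1, μ, hμ⟩ := exists_eigen (p := p) (V := N)
      (fun a b => Subtype.ext (hab a a.2 b b.2))
      (fun a => Subtype.ext (hNp a a.2)) T (by
        intro x
        apply Subtype.ext
        rw [hTit]
        have := Subgroup.mem_centralizer_iff.mp (hpow g) x x.2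
        rw [← this, mul_inv_cancel_right])
    let K : Subgroup G :=
      { carrier := {y | y ∈ N ∧ g * y * g⁻¹ = y ^ μ}
        one_mem' := ⟨N.one_mem, by simp⟩
        mul_mem' := by
          rintro a b ⟨ha, ha'⟩ ⟨hb, hb'⟩
          refine ⟨N.mul_mem ha hb, ?_⟩
          have hc : Commute a b := hab a ha b hb
          rw [hc.mul_pow, ← ha', ← hb']; group
        inv_mem' := by
          rintro a ⟨ha, ha'⟩
          refine ⟨N.inv_mem ha, ?_⟩
          rw [inv_pow, ← ha']; group }
    have hKn : K.Normal := ⟨by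
      rintro y ⟨hy, hy'⟩ h
      refine ⟨hN.conj_mem y hy h, ?_⟩
      have hc := Subgroup.mem_centralizer_iff.mp (hcomm g⁻¹ h⁻¹) y hy
      rw [commutatorElement_def] at hc
      have e1 : g * (h * y * h⁻¹) * g⁻¹ = h * (g * ((g⁻¹ * h⁻¹ * g⁻¹⁻¹ * h⁻¹⁻¹) * y *
          (g⁻¹ * h⁻¹ * g⁻¹⁻¹ * h⁻¹⁻¹)⁻¹) * g⁻¹) * h⁻¹ := by group
      rw [e1, ← hc, mul_inv_cancel_right, hy', conj_pow]⟩
    have hKN : K ≤ N := fun y hy => hy.1
    have hKb : K ≠ ⊥ := by
      intro hb
      have hxK : (x : G) ∈ K := ⟨x.2, by
        have := congrArg Subtype.val hμ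
        rw [hT1] at this
        rw [this]; rfl⟩
      rw [hb, Subgroup.mem_bot] at hxK
      exact hx1 (Subtype.ext hxK)
    rcases hmin K hKn hKN with h | h
    · exact absurd h hKb
    · refine ⟨μ, fun y hy => ?_⟩
      have : y ∈ K := by rw [h]; exact hy
      exact this.2
  obtain ⟨x0, hx01⟩ := (Subgroup.ne_bot_iff_exists_ne_one).mp hNb
  have hx0 : (x0 : G) ≠ 1 := fun h => hx01 (Subtype.ext h)
  have hZn : (Subgroup.zpowers (x0 : G)).Normal := ⟨by
    intro y hy g
    obtain ⟨k, rfl⟩ := Subgroup.mem_zpowers_iff.mp hy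
    obtain ⟨μ, hμ⟩ := hscal g
    rw [← conj_zpow, hμ _ x0.2]
    exact Subgroup.zpow_mem _ (Subgroup.pow_mem _ (Subgroup.mem_zpowers _) _) _⟩
  have hZle : Subgroup.zpowers (x0 : G) ≤ N := Subgroup.zpowers_le.mpr x0.2
  rcases hmin _ hZn hZle with h | h
  · exact absurd (Subgroup.zpowers_eq_bot.mp h) hx0
  · rw [← h]; infer_instance

theorem trivial_supersolvable (hG : Subsingleton G) : Cfsg.IsSupersolvable G :=
  ⟨0, fun _ => ⊥, rfl, by ext x; simp [Subsingleton.elim x 1], fun _ => inferInstance,
    fun i => i.elim0⟩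

theorem huppert_aux.{u} : ∀ n : ℕ, ∀ (G : Type u) [Group G] [Finite G], Nat.card G = n →
    (∀ M : Subgroup G, IsCoatom M → M.index.Prime) → Cfsg.IsSupersolvable G := by
  intro n
  induction n using Nat.strong_induction_on with
  | _ n ih =>
    intro G _ _ hn h
    by_cases htriv : Nat.card G = 1
    · have : Subsingleton G := (Nat.card_eq_one_iff_unique.mp htriv).1
      exact trivial_supersolvable this
    have hne : (Nat.card G).primeFactors.Nonempty := by
      rw [Nat.nonempty_primeFactors]
      have : 0 < Nat.card G := Nat.card_pos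
      omega
    obtain ⟨p, hpmem, hpmax⟩ : ∃ p ∈ (Nat.card G).primeFactors,
        ∀ q ∈ (Nat.card G).primeFactors, q ≤ p :=
      ⟨_, Finset.max'_mem _ hne, fun q hq => Finset.le_max' _ q hq⟩
    have hp : p.Prime := Nat.prime_of_mem_primeFactors hpmem
    have hpd : p ∣ Nat.card G := Nat.dvd_of_mem_primeFactors hpmem
    haveI hpF : Fact p.Prime := ⟨hp⟩
    obtain S : Sylow p G := default
    have hSn : (S : Subgroup G).Normal := by
      rw [← Subgroup.normalizer_eq_top_iff]
      by_contra hne
      obtain ⟨M, hM, hNM⟩ := (eq_top_or_exists_le_coatom _).resolve_left hne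
      have hq := h M hM
      have h1 := Cfsg.Agent.H1.index_modEq_one_of_normalizer_le S M hNM
      have hqd : M.index ∣ Nat.card G := Subgroup.index_dvd_card M
      have hqle : M.index ≤ p := hpmax _ (Nat.mem_primeFactors.mpr ⟨hq, hqd, Nat.card_pos.ne'⟩)
      have h2 := hq.two_le
      rcases Nat.lt_or_ge M.index p with hlt | hge
      · have := Nat.ModEq.eq_of_lt_of_lt h1 hlt hp.one_lt
        omega
      · have heq : M.index = p := le_antisymm hqle hge
        rw [heq] at h1
        have : p % p = 1 % p := h1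
        rw [Nat.mod_self, Nat.mod_eq_of_lt hp.one_lt] at this
        omega
    haveI := hSn
    have hSne : (S : Subgroup G) ≠ ⊥ := S.ne_bot_of_dvd_card hpd
    obtain ⟨N, hNn, hNS, hNb, hmin⟩ := exists_min_normal_le (S : Subgroup G) hSne
    haveI := hNn
    have hcardlt : Nat.card (G ⧸ N) < n := by
      rw [← hn, ← Subgroup.index_eq_card, ← Subgroup.card_mul_index N]
      have h1 : 1 < Nat.card N := by
        rw [Subgroup.one_lt_card_iff_ne_bot]; exact hNb
      have h2 : 0 < N.index := Nat.pos_of_ne_zero Subgroup.index_ne_zero_of_finite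
      nlinarith
    have hQ : Cfsg.IsSupersolvable (G ⧸ N) := by
      apply ih _ hcardlt (G ⧸ N) rfl
      intro M hM
      have h1 := Subgroup.isCoatom_comap_of_surjective (QuotientGroup.mk'_surjective N) hM
      have h2 := h _ h1
      have h3 := Subgroup.index_comap_of_surjective (H := M) (QuotientGroup.mk'_surjective N)
      rw [h3] at h2
      exact h2
    have hSC := le_centralizer_of_min_normal (S : Subgroup G) S.2 N hNS hNb hmin
    have hab : ∀ x ∈ N, ∀ y ∈ N, x * y = y * x := by
      intro x hx y hy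
      exact Subgroup.mem_centralizer_iff.mp (hSC (hNS hy)) x hx
    suffices hcyc : IsCyclic N from Cfsg.Agent.S0528.result N hQ
    by_cases hmax : ∃ M : Subgroup G, IsCoatom M ∧ ¬ N ≤ M
    · obtain ⟨M, hM, hNM⟩ := hmax
      have hc := card_eq_index_of_not_le N hab hmin M hM hNM
      haveI : Fact (Nat.card N).Prime := ⟨hc ▸ h M hM⟩
      exact isCyclic_of_prime_card rfl
    · push_neg at hmax
      have hNp : IsPGroup p N := S.2.to_le hNS
      have hNexp := pow_eq_one_of_min_normal N hNp hNb hab hmin
      have hcopS : (Nat.card (S : Subgroup G)).Coprime (S : Subgroup G).index :=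
        S.card_coprime_index
      obtain ⟨R, hR⟩ := Subgroup.exists_right_complement'_of_coprime hcopS
      have hdisj : (S : Subgroup G) ⊓ R = ⊥ := hR.disjoint.eq_bot
      have hsup : (S : Subgroup G) ⊔ R = ⊤ := hR.sup_eq_top
      have hRcop : (Nat.card R).Coprime p := by
        have h1 := hR.card_mul_card
        have h2 := (S : Subgroup G).card_mul_index
        have h3 : 0 < Nat.card (S : Subgroup G) := Nat.card_pos
        have h4 : Nat.card R = (S : Subgroup G).index :=
          Nat.eq_of_mul_eq_mul_left h3 (h1.trans h2.symm)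
        rw [h4, Nat.coprime_comm, Nat.Prime.coprime_iff_not_dvd hp]
        exact S.not_dvd_index
      set E : Subgroup G := verbal p G ⊓ R with hEdef
      have hER : E ≤ R := inf_le_right
      have hEcop : (Nat.card E).Coprime p :=
        Nat.Coprime.coprime_dvd_left (Subgroup.card_dvd_of_le hER) hRcop
      have hEconj : ∀ r ∈ R, ∀ e ∈ E, r * e * r⁻¹ ∈ E := by
        intro r hr e he
        exact ⟨(verbal_normal p).conj_mem e he.1 r,
          R.mul_mem (R.mul_mem hr he.2) (R.inv_mem hr)⟩
      have hSE : ⁅(S : Subgroup G), E⁆ ≤ N := by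
        haveI : ((S : Subgroup G).map (QuotientGroup.mk' N)).Normal :=
          Subgroup.Normal.map hSn _ (QuotientGroup.mk'_surjective N)
        have h1 := ss_comm_trivial hQ (p := p) ((S : Subgroup G).map (QuotientGroup.mk' N))
          (S.2.map _) (E.map (QuotientGroup.mk' N))
          ((Subgroup.map_mono inf_le_left).trans (map_verbal_le _ p))
          (Nat.Coprime.coprime_dvd_left (Subgroup.card_map_dvd E (QuotientGroup.mk' N)) hEcop)
        rw [← Subgroup.map_commutator] at h1
        rw [← QuotientGroup.ker_mk' N]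
        exact (Subgroup.map_eq_bot_iff _).mp h1
      have hcopES : (Nat.card E).Coprime (Nat.card (S : Subgroup G)) := by
        obtain ⟨k, hk⟩ := IsPGroup.iff_card.mp S.2
        rw [hk]; exact Nat.Coprime.pow_right _ hEcop
      have hSsolv : Group.IsSolvable (S : Subgroup G) := by
        have := S.2.isNilpotent
        infer_instance
      have h26 := Cfsg.Agent.S0026.result E (S : Subgroup G)
        (by rw [Subgroup.normalizer_eq_top]; exact le_top) hcopES (Or.inr hSsolv)
      have hS0N : ((S : Subgroup G) ⊓ Subgroup.centralizer (E : Set G)) ⊔ N = S := by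
        apply le_antisymm (sup_le inf_le_left hNS)
        calc (S : Subgroup G)
            = ⁅(S : Subgroup G), E⁆ ⊔ ((S : Subgroup G) ⊓ Subgroup.centralizer (E : Set G)) :=
              h26.symm
          _ ≤ N ⊔ ((S : Subgroup G) ⊓ Subgroup.centralizer (E : Set G)) :=
              sup_le_sup_right hSE _
          _ = ((S : Subgroup G) ⊓ Subgroup.centralizer (E : Set G)) ⊔ N := sup_comm _ _
      have hconjC : ∀ (X : Subgroup G), X.Normal → ∀ r ∈ R,
          ∀ x ∈ X ⊓ Subgroup.centralizer (E : Set G),
            r * x * r⁻¹ ∈ X ⊓ Subgroup.centralizer (E : Set G) := by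
        intro X hX r hr x hx
        refine Subgroup.mem_inf.mpr ⟨hX.conj_mem x hx.1 r, ?_⟩
        rw [Subgroup.mem_centralizer_iff]
        intro e he
        have he' : r⁻¹ * e * r ∈ E := by
          have := hEconj r⁻¹ (R.inv_mem hr) e he
          simpa using this
        have hc : (r⁻¹ * e * r) * x = x * (r⁻¹ * e * r) :=
          Subgroup.mem_centralizer_iff.mp hx.2 _ he'
        calc e * (r * x * r⁻¹) = r * ((r⁻¹ * e * r) * x) * r⁻¹ := by group
          _ = r * (x * (r⁻¹ * e * r)) * r⁻¹ := by rw [hc]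
          _ = r * x * r⁻¹ * e := by group
      have hN0n : (N ⊓ Subgroup.centralizer (E : Set G)).Normal := by
        apply normal_of_sup_le_normalizer _ (S : Subgroup G) R hsup
        · apply le_normalizer_of_conj_mem
          intro s hs x hx
          have : s * x * s⁻¹ = x := by
            have := Subgroup.mem_centralizer_iff.mp (hSC hs) x hx.1
            rw [← this, mul_inv_cancel_right]
          rw [this]; exact hx
        · apply le_normalizer_of_conj_mem
          exact hconjC N hNn
      rcases hmin _ hN0n inf_le_left with hN0 | hN0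
      · exfalso
        have hS0n : ((S : Subgroup G) ⊓ Subgroup.centralizer (E : Set G)).Normal := by
          apply normal_of_sup_le_normalizer _
            (((S : Subgroup G) ⊓ Subgroup.centralizer (E : Set G)) ⊔ N) R
            (by rw [hS0N]; exact hsup)
          · apply sup_le
            · exact Subgroup.le_normalizer
            · apply le_normalizer_of_conj_mem
              intro n hn x hx
              have : n * x * n⁻¹ = x := by
                have := Subgroup.mem_centralizer_iff.mp (hSC hx.1) n hn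
                rw [this, mul_inv_cancel_right]
              rw [this]; exact hx
          · apply le_normalizer_of_conj_mem
            exact hconjC S hSn
        have hH0 : ((S : Subgroup G) ⊓ Subgroup.centralizer (E : Set G)) ⊔ R ≠ ⊤ := by
          intro htop
          have hSle : (S : Subgroup G) ≤ (S : Subgroup G) ⊓ Subgroup.centralizer (E : Set G) := by
            intro s hs
            have hmem : s ∈ ((S : Subgroup G) ⊓ Subgroup.centralizer (E : Set G)) ⊔ R := by
              rw [htop]; exact Subgroup.mem_top s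
            haveI := hS0n
            rw [← SetLike.mem_coe, Subgroup.normal_mul] at hmem
            obtain ⟨a, ha, b, hb, rfl⟩ := Set.mem_mul.mp hmem
            have hbS : b ∈ (S : Subgroup G) := by
              have := (S : Subgroup G).mul_mem ((S : Subgroup G).inv_mem ha.1) hs
              simpa using this
            have hb1 : b = 1 := by
              have : b ∈ (S : Subgroup G) ⊓ R := ⟨hbS, hb⟩
              rw [hdisj] at this; exact Subgroup.mem_bot.mp this
            rw [hb1, mul_one]; exact ha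
          have : N ≤ N ⊓ Subgroup.centralizer (E : Set G) :=
            le_inf le_rfl (hNS.trans (hSle.trans inf_le_right))
          rw [hN0] at this
          exact hNb (le_bot_iff.mp this)
        obtain ⟨M, hM, hle⟩ := (eq_top_or_exists_le_coatom _).resolve_left hH0
        have hNM := hmax M hM
        have : (⊤ : Subgroup G) ≤ M := by
          rw [← hsup, ← hS0N]
          exact sup_le (sup_le (le_sup_left.trans hle) hNM) (le_sup_right.trans hle)
        exact hM.1 (top_le_iff.mp this)
      · have hEC : E ≤ Subgroup.centralizer (N : Set G) := by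
          intro e he
          rw [Subgroup.mem_centralizer_iff]
          intro x hx
          have hx' : x ∈ N ⊓ Subgroup.centralizer (E : Set G) := by rw [hN0]; exact hx
          exact (Subgroup.mem_centralizer_iff.mp hx'.2 e he).symm
        have hmk : ∀ g : G, ∃ r ∈ R, QuotientGroup.mk' (Subgroup.centralizer (N : Set G)) g
            = QuotientGroup.mk' (Subgroup.centralizer (N : Set G)) r := by
          intro g
          have hmem : g ∈ (S : Subgroup G) ⊔ R := by rw [hsup]; exact Subgroup.mem_top g
          rw [← SetLike.mem_coe, Subgroup.normal_mul] at hmem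
          obtain ⟨a, ha, b, hb, rfl⟩ := Set.mem_mul.mp hmem
          refine ⟨b, hb, ?_⟩
          have h1 : QuotientGroup.mk' (Subgroup.centralizer (N : Set G)) a = 1 :=
            (QuotientGroup.eq_one_iff a).mpr (hSC ha)
          rw [map_mul, h1, one_mul]
        have hcommC : ∀ g h : G, ⁅g, h⁆ ∈ Subgroup.centralizer (N : Set G) := by
          intro g h'
          obtain ⟨r, hr, hgr⟩ := hmk g
          obtain ⟨r', hr', hgr'⟩ := hmk h'
          rw [← QuotientGroup.eq_one_iff]
          show QuotientGroup.mk' _ ⁅g, h'⁆ = 1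
          rw [map_commutatorElement, hgr, hgr', ← map_commutatorElement]
          apply (QuotientGroup.eq_one_iff _).mpr
          apply hEC
          refine ⟨Subgroup.subset_normalClosure (Or.inl ⟨r, r', rfl⟩), ?_⟩
          rw [commutatorElement_def]
          exact R.mul_mem (R.mul_mem (R.mul_mem hr hr') (R.inv_mem hr)) (R.inv_mem hr')
        have hpowC : ∀ g : G, g ^ (p - 1) ∈ Subgroup.centralizer (N : Set G) := by
          intro g
          obtain ⟨r, hr, hgr⟩ := hmk g
          rw [← QuotientGroup.eq_one_iff]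
          show QuotientGroup.mk' _ (g ^ (p - 1)) = 1
          rw [map_pow, hgr, ← map_pow]
          apply (QuotientGroup.eq_one_iff _).mpr
          apply hEC
          exact ⟨Subgroup.subset_normalClosure (Or.inr ⟨r, rfl⟩), R.pow_mem hr _⟩
        exact cyclic_of_abelian_action N hNb hab hNexp hmin hcommC hpowC

end Cfsg.Agent.Lead.Huppert
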