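import Mathlib
import Cfsg.Agent.S0524
import Cfsg.Agent.S0526
import Cfsg.Agent.S0529
import Cfsg.Agent.S0132
import Cfsg.Agent.H1.Schmidt
import Cfsg.Agent.Lib.Lead.NormalPComplement

/-!
A finite group all of whose proper subgroups are supersolvable is solvable; minimal normal
subgroups of solvable groups (author: lead).
-/

set_option autoImplicit false
set_option linter.unusedVariables false
set_option linter.unusedSectionVars false
set_option linter.style.longLine false

namespace Cfsg.Agent.Lead.SSSolv

open Cfsg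

universe u

theorem isSolvable_of_isSupersolvable {G : Type u} [Group G] [Finite G] (h : IsSupersolvable G) :
    Group.IsSolvable G := by
  haveI hn : Group.IsNilpotent (commutator G) := Cfsg.Agent.S0526.result h
  have s1 : Group.IsSolvable (commutator G) := inferInstance
  have s2 : Group.IsSolvable (G ⧸ commutator G) := by
    have : Group.IsSolvable (Abelianization G) := inferInstance
    exact this
  exact Group.isSolvable_of_ker_le_range (commutator G).subtype (QuotientGroup.mk' (commutator G))
    (by rw [QuotientGroup.ker_mk', Subgroup.range_subtype])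

/-- a supersolvable group has a normal `p`-complement for the smallest prime `p`. -/
theorem hasNormalPComplement_of_isSupersolvable {G : Type u} [Group G] [Finite G]
    (h : IsSupersolvable G) {p : ℕ} [hp : Fact p.Prime]
    (hmin : ∀ r : ℕ, r.Prime → r ∣ Nat.card G → p ≤ r) : HasNormalPComplement p G := by
  obtain ⟨n, K, h0, hlast, hnorm, hstep, hmono⟩ := Cfsg.Agent.S0529.result h
  have key : ∀ i : Fin (n + 1),
      (Nat.card (K i)).Coprime p ∨
      (∃ j : Fin n, (j : ℕ) < (i : ℕ) ∧ (K j.castSucc).relIndex (K j.succ) = p ∧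
         ∃ N : Subgroup G, N.Normal ∧ N ≤ K i ∧ (Nat.card N).Coprime p ∧
          ∃ k, N.relIndex (K i) = p ^ k) := by
    intro i
    induction i using Fin.induction with
    | zero => left; rw [h0]; simp
    | succ i ih =>
      obtain ⟨hle, hprime⟩ := hstep i
      have hcard : Nat.card (K i.castSucc) * (K i.castSucc).relIndex (K i.succ) =
          Nat.card (K i.succ) := by
        have := Subgroup.relIndex_mul_relIndex ⊥ (K i.castSucc) (K i.succ) bot_le hle
        rwa [Subgroup.relIndex_bot_left, Subgroup.relIndex_bot_left] at this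
      have hge : p ≤ (K i.castSucc).relIndex (K i.succ) := by
        apply hmin _ hprime
        exact (Dvd.intro_left _ hcard).trans (Subgroup.card_subgroup_dvd_card _)
      rcases ih with hA | ⟨j, hji, hj, N, hNn, hNle, hNc, k, hk⟩
      · by_cases hr : (K i.castSucc).relIndex (K i.succ) = p
        · right
          refine ⟨i, by simp, hr, K i.castSucc, hnorm _, hle, hA, 1, by rw [hr, pow_one]⟩
        · left
          rw [← hcard]
          apply Nat.Coprime.mul_left hA
          rw [Nat.coprime_primes hprime hp.out]; exact hr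
      · right
        have hr : (K i.castSucc).relIndex (K i.succ) = p := by
          apply le_antisymm _ hge
          have := hmono j i (by rw [Fin.le_def]; simp at hji ⊢; omega)
          rw [hj] at this; exact this
        refine ⟨j, by simp at hji ⊢; omega, hj, N, hNn, hNle.trans hle, hNc, k + 1, ?_⟩
        rw [← Subgroup.relIndex_mul_relIndex N (K i.castSucc) (K i.succ) hNle hle, hk, hr, pow_succ]
  rw [Cfsg.Agent.Lib.Lead.NormalPComplement.hasNormalPComplement_iff]
  rcases key (Fin.last n) with hA | ⟨j, -, -, N, hNn, -, hNc, k, hk⟩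
  · rw [hlast] at hA
    exact ⟨⊤, inferInstance, hA, 0, by simp⟩
  · rw [hlast, Subgroup.relIndex_top_right] at hk
    exact ⟨N, hNn, hNc, k, hk⟩

theorem isSolvable_of_proper_supersolvable {G : Type u} [Group G] [Finite G]
    (h : ∀ H : Subgroup G, H ≠ ⊤ → IsSupersolvable H) : Group.IsSolvable G := by
  by_cases htriv : Nat.card G = 1
  · haveI : Subsingleton G := (Nat.card_eq_one_iff_unique.mp htriv).1
    infer_instance
  obtain ⟨p, hpdef⟩ : ∃ p, p = (Nat.card G).minFac := ⟨_, rfl⟩
  have hp : p.Prime := hpdef ▸ Nat.minFac_prime htriv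
  haveI : Fact p.Prime := ⟨hp⟩
  have hpd : p ∣ Nat.card G := hpdef ▸ Nat.minFac_dvd _
  have hpmin : ∀ r : ℕ, r.Prime → r ∣ Nat.card G → p ≤ r := fun r hr hrd =>
    hpdef ▸ Nat.minFac_le_of_dvd hr.two_le hrd
  have hsubc : ∀ H : Subgroup G, H ≠ ⊤ → HasNormalPComplement p H := by
    intro H hH
    exact hasNormalPComplement_of_isSupersolvable (h H hH)
      (fun r hr hrd => hpmin r hr (hrd.trans (Subgroup.card_subgroup_dvd_card H)))
  by_cases hG : HasNormalPComplement p G
  · obtain ⟨K, hKn, hKc, k, hk⟩ :=
      (Cfsg.Agent.Lib.Lead.NormalPComplement.hasNormalPComplement_iff).mp hG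
    haveI := hKn
    have hKtop : K ≠ ⊤ := by
      rintro rfl
      rw [Subgroup.card_top] at hKc
      exact hp.one_lt.ne' (Nat.Coprime.eq_one_of_dvd hKc.symm hpd)
    have s1 : Group.IsSolvable K := isSolvable_of_isSupersolvable (h K hKtop)
    have s2 : Group.IsSolvable (G ⧸ K) := by
      have : IsPGroup p (G ⧸ K) := IsPGroup.of_card (n := k) (by rw [← Subgroup.index_eq_card, hk])
      haveI := this.isNilpotent
      infer_instance
    exact Group.isSolvable_of_ker_le_range K.subtype (QuotientGroup.mk' K)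
      (by rw [QuotientGroup.ker_mk', Subgroup.range_subtype])
  · obtain ⟨hnil, -, -⟩ := Cfsg.Agent.S0132.result hG hsubc
    exact Cfsg.Agent.H1.schmidt_aux _ G rfl (fun M hM => hnil M hM.1)

theorem min_normal_abelian {G : Type u} [Group G] [Finite G] [hs : Group.IsSolvable G] (N : Subgroup G)
    [hN : N.Normal] (hNb : N ≠ ⊥)
    (hmin : ∀ K : Subgroup G, K.Normal → K ≤ N → K = ⊥ ∨ K = N) :
    ∀ x ∈ N, ∀ y ∈ N, x * y = y * x := by
  have hKn : (⁅N, N⁆).Normal := Subgroup.commutator_normal N N
  have hKle : ⁅N, N⁆ ≤ N := Subgroup.commutator_le_right N N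
  rcases hmin _ hKn hKle with h | h
  · intro x hx y hy
    have := Subgroup.commutator_eq_bot_iff_le_centralizer.mp h
    exact (Subgroup.mem_centralizer_iff.mp (this hx) y hy).symm
  · exfalso
    haveI : Nontrivial N := (Subgroup.nontrivial_iff_ne_bot N).mpr hNb
    have h1 := Group.IsSolvable.commutator_lt_top_of_nontrivial N
    have h2 : commutator N = ⊤ := by
      apply Subgroup.map_injective N.subtype_injective
      rw [Subgroup.map_subtype_commutator, h, ← MonoidHom.range_eq_map, Subgroup.range_subtype]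
    exact h1.ne h2

theorem min_normal_exponent {G : Type u} [Group G] [Finite G] (N : Subgroup G)
    [hN : N.Normal] (hNb : N ≠ ⊥) (hab : ∀ x ∈ N, ∀ y ∈ N, x * y = y * x)
    (hmin : ∀ K : Subgroup G, K.Normal → K ≤ N → K = ⊥ ∨ K = N) :
    ∃ q : ℕ, q.Prime ∧ ∀ x ∈ N, x ^ q = 1 := by
  have hc1 : Nat.card N ≠ 1 := fun h => hNb (Subgroup.card_eq_one.mp h)
  obtain ⟨p, hpdef⟩ : ∃ p, p = (Nat.card N).minFac := ⟨_, rfl⟩
  have hp : p.Prime := hpdef ▸ Nat.minFac_prime hc1
  haveI : Fact p.Prime := ⟨hp⟩
  have hdvd : p ∣ Nat.card N := hpdef ▸ Nat.minFac_dvd _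
  refine ⟨p, hp, ?_⟩
  let K : Subgroup G :=
    { carrier := {x | x ∈ N ∧ x ^ p = 1}
      one_mem' := ⟨N.one_mem, one_pow _⟩
      mul_mem' := by
        rintro a b ⟨ha, ha'⟩ ⟨hb, hb'⟩
        refine ⟨N.mul_mem ha hb, ?_⟩
        have hc : Commute a b := hab a ha b hb
        rw [hc.mul_pow, ha', hb', one_mul]
      inv_mem' := by
        rintro a ⟨ha, ha'⟩
        exact ⟨N.inv_mem ha, by rw [inv_pow, ha', inv_one]⟩ }
  have hKn : K.Normal := ⟨by
    rintro x ⟨hx, hx'⟩ g
    exact ⟨hN.conj_mem x hx g, by rw [conj_pow, hx', mul_one, mul_inv_cancel]⟩⟩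
  have hKN : K ≤ N := fun x hx => hx.1
  have hKb : K ≠ ⊥ := by
    obtain ⟨x, hx⟩ := exists_prime_orderOf_dvd_card' p hdvd
    intro hb
    have hxK : (x : G) ∈ K := ⟨x.2, by
      have := pow_orderOf_eq_one x
      rw [hx] at this
      exact congrArg Subtype.val this⟩
    rw [hb, Subgroup.mem_bot] at hxK
    have h1 : x = 1 := Subtype.ext hxK
    rw [h1, orderOf_one] at hx
    exact hp.one_lt.ne' hx.symm
  rcases hmin K hKn hKN with h | h
  · exact absurd h hKb
  · intro x hx
    have : x ∈ K := by rw [h]; exact hx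
    exact this.2

end Cfsg.Agent.Lead.SSSolv
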