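import Mathlib

/-!
# Klein four-subgroups

* `exists_kleinFour` : two distinct commuting involutions `x, y` generate a Klein four-subgroup `{1, x, y, xy}`;
* `KleinFourSub.sq_eq_one`, `KleinFourSub.comm`, `KleinFourSub.exists_ne` : basic facts on a subgroup `U` with
  `IsKleinFour ↥U`.
-/

set_option autoImplicit false
set_option linter.style.haveILetI false

namespace Cfsg.Agent.Lib.Lead.KleinFour

variable {P : Type*} [Group P]

/-- Two distinct commuting involutions generate a Klein four-group. -/
theorem exists_kleinFour {x y : P} (hx : x * x = 1) (hy : y * y = 1) (hc : x * y = y * x) (hx1 : x ≠ 1)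
    (hy1 : y ≠ 1) (hne : x ≠ y) :
    ∃ V : Subgroup P, IsKleinFour ↥V ∧ x ∈ V ∧ y ∈ V ∧ ∀ v ∈ V, v = 1 ∨ v = x ∨ v = y ∨ v = x * y := by
  classical
  have hxinv : x⁻¹ = x := inv_eq_of_mul_eq_one_right hx
  have hyinv : y⁻¹ = y := inv_eq_of_mul_eq_one_right hy
  set V := Subgroup.closure ({x, y} : Set P) with hV
  have hxV : x ∈ V := Subgroup.subset_closure (by simp)
  have hyV : y ∈ V := Subgroup.subset_closure (by simp)
  have key : ∀ v, (v = 1 ∨ v = x ∨ v = y ∨ v = x * y) →
      (x * v = 1 ∨ x * v = x ∨ x * v = y ∨ x * v = x * y) ∧ (y * v = 1 ∨ y * v = x ∨ y * v = y ∨ y * v = x * y) := by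
    rintro v (rfl | rfl | rfl | rfl)
    · exact ⟨Or.inr (Or.inl (mul_one x)), Or.inr (Or.inr (Or.inl (mul_one y)))⟩
    · exact ⟨Or.inl hx, Or.inr (Or.inr (Or.inr hc.symm))⟩
    · exact ⟨Or.inr (Or.inr (Or.inr rfl)), Or.inl hy⟩
    · refine ⟨Or.inr (Or.inr (Or.inl ?_)), Or.inr (Or.inl ?_)⟩
      · rw [← mul_assoc, hx, one_mul]
      · rw [hc, ← mul_assoc, hy, one_mul]
  have hsub : ∀ v ∈ V, v = 1 ∨ v = x ∨ v = y ∨ v = x * y := by
    intro v hv
    induction hv using Subgroup.closure_induction_left with
    | one => exact Or.inl rfl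
    | mul_left a ha b hb ih =>
      rcases ha with rfl | rfl
      · exact (key b ih).1
      · exact (key b ih).2
    | inv_mul_cancel a ha b hb ih =>
      rcases ha with rfl | rfl
      · rw [hxinv]; exact (key b ih).1
      · rw [hyinv]; exact (key b ih).2
  have hxy1 : x * y ≠ 1 := by
    intro h
    apply hne
    have : y = x⁻¹ := eq_inv_of_mul_eq_one_right h
    rw [this, hxinv]
  have hxyx : x * y ≠ x := by
    intro h
    exact hy1 (mul_eq_left.mp h)
  have hxyy : x * y ≠ y := by
    intro h
    exact hx1 (mul_eq_right.mp h)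
  have hset : (V : Set P) = (({1, x, y, x * y} : Finset P) : Set P) := by
    ext v
    simp only [SetLike.mem_coe, Finset.coe_insert, Finset.coe_singleton, Set.mem_insert_iff,
      Set.mem_singleton_iff]
    constructor
    · exact hsub v
    · rintro (rfl | rfl | rfl | rfl)
      · exact V.one_mem
      · exact hxV
      · exact hyV
      · exact V.mul_mem hxV hyV
  have hcard : Nat.card ↥V = 4 := by
    have h1 : Nat.card ↥V = (V : Set P).ncard := rfl
    rw [h1, hset, Set.ncard_coe_finset]
    rw [Finset.card_insert_of_notMem, Finset.card_insert_of_notMem, Finset.card_insert_of_notMem,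
      Finset.card_singleton]
    · simp only [Finset.mem_singleton]; exact fun h => hxyy h.symm
    · simp only [Finset.mem_insert, Finset.mem_singleton]
      rintro (h | h)
      · exact hne h
      · exact hxyx h.symm
    · simp only [Finset.mem_insert, Finset.mem_singleton]
      rintro (h | h | h)
      · exact hx1 h.symm
      · exact hy1 h.symm
      · exact hxy1 h.symm
  have hsq : ∀ v : ↥V, v ^ 2 = 1 := by
    rintro ⟨v, hv⟩
    apply Subtype.ext
    show v ^ 2 = 1
    rw [pow_two]
    rcases hsub v hv with rfl | rfl | rfl | rfl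
    · exact mul_one 1
    · exact hx
    · exact hy
    · rw [mul_assoc, ← mul_assoc y, ← hc, mul_assoc, hy, mul_one, hx]
  refine ⟨V, ⟨hcard, ?_⟩, hxV, hyV, hsub⟩
  have hdvd : Monoid.exponent ↥V ∣ 2 := Monoid.exponent_dvd_of_forall_pow_eq_one hsq
  have hne1 : Monoid.exponent ↥V ≠ 1 := by
    intro h
    have hss : Subsingleton ↥V := Monoid.exp_eq_one_iff.mp h
    have : Nat.card ↥V = 1 := Nat.card_unique
    omega
  rcases (Nat.dvd_prime Nat.prime_two).mp hdvd with h | h
  · exact absurd h hne1
  · exact h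

namespace KleinFourSub

variable {U : Subgroup P}

theorem sq_eq_one (hU : IsKleinFour ↥U) {u : P} (hu : u ∈ U) : u * u = 1 := by
  have := IsKleinFour.mul_self (⟨u, hu⟩ : ↥U)
  exact congrArg Subtype.val this

theorem comm (hU : IsKleinFour ↥U) {u v : P} (hu : u ∈ U) (hv : v ∈ U) : u * v = v * u := by
  have hc := IsKleinFour.isMulCommutative (G := ↥U)
  have := hc.is_comm.comm (⟨u, hu⟩ : ↥U) ⟨v, hv⟩
  exact congrArg Subtype.val this

/-- A four-group has a nonidentity element different from any given `z`. -/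
theorem exists_ne (hU : IsKleinFour ↥U) (z : P) : ∃ a ∈ U, a ≠ 1 ∧ a ≠ z := by
  classical
  by_contra hcon
  push Not at hcon
  -- then `U ⊆ {1, z}`
  have hsub : (U : Set P) ⊆ (({1, z} : Finset P) : Set P) := by
    intro a ha
    simp only [Finset.coe_insert, Finset.coe_singleton, Set.mem_insert_iff, Set.mem_singleton_iff]
    by_cases h1 : a = 1
    · exact Or.inl h1
    · exact Or.inr (hcon a ha h1)
  have h1 : Nat.card ↥U = (U : Set P).ncard := rfl
  have h2 := Set.ncard_le_ncard hsub (Finset.finite_toSet _)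
  rw [Set.ncard_coe_finset] at h2
  have h3 : ({1, z} : Finset P).card ≤ 2 := Finset.card_le_two
  have h4 := hU.card_four
  omega

end KleinFourSub

end Cfsg.Agent.Lib.Lead.KleinFour
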