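import Mathlib
import Cfsg.Agent.Lib.Lead.Conj

/-!
# Subgroups of dihedral groups: odd-order automorphisms

A subgroup `D` has "dihedral shape" with respect to `R₀` if `R₀ ≤ D` is cyclic, every element of
`D` outside `R₀` is an involution, and the quotient of two elements outside `R₀` lies in `R₀`.
Elements of odd order normalizing a subgroup `Q` of such a `2`-group centralize it, unless `Q` is a
four-group.
-/

set_option autoImplicit false

namespace Cfsg.Agent.Lib.Lead.DihShape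

variable {X : Type*} [Group X]

structure Shape (D R₀ : Subgroup X) : Prop where
  le : R₀ ≤ D
  cyc : IsCyclic ↥R₀
  sq : ∀ x ∈ D, x ∉ R₀ → x * x = 1
  prod : ∀ x ∈ D, ∀ y ∈ D, x ∉ R₀ → y ∉ R₀ → x⁻¹ * y ∈ R₀

theorem Shape.mono {D R₀ D' : Subgroup X} (h : Shape D R₀) (hD : D' ≤ D) :
    Shape D' (R₀ ⊓ D') := by
  haveI := h.cyc
  refine ⟨inf_le_right, Subgroup.isCyclic_of_le (inf_le_left : R₀ ⊓ D' ≤ R₀), ?_, ?_⟩
  · intro x hx hxn
    apply h.sq x (hD hx)
    intro hx'
    exact hxn ⟨hx', hx⟩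
  · intro x hx y hy hxn hyn
    refine ⟨h.prod x (hD hx) y (hD hy) (fun hx' => hxn ⟨hx', hx⟩) (fun hy' => hyn ⟨hy', hy⟩), ?_⟩
    exact D'.mul_mem (D'.inv_mem hx) hy

theorem mem_zpowers_r_one {m : ℕ} (i : ZMod m) :
    DihedralGroup.r i ∈ Subgroup.zpowers (DihedralGroup.r (1 : ZMod m)) := by
  obtain ⟨k, rfl⟩ := ZMod.intCast_surjective i
  rw [← DihedralGroup.r_one_zpow]
  exact Subgroup.zpow_mem_zpowers _ _

theorem sr_notMem_zpowers {m : ℕ} (i : ZMod m) :
    DihedralGroup.sr i ∉ Subgroup.zpowers (DihedralGroup.r (1 : ZMod m)) := by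
  intro h
  obtain ⟨k, hk⟩ := Subgroup.mem_zpowers_iff.mp h
  rw [DihedralGroup.r_one_zpow] at hk
  cases hk

theorem shape_of_injective {m : ℕ} (D : Subgroup X) (ψ : ↥D →* DihedralGroup m)
    (hψ : Function.Injective ψ) : ∃ R₀ : Subgroup X, Shape D R₀ := by
  set Z : Subgroup (DihedralGroup m) := Subgroup.zpowers (DihedralGroup.r (1 : ZMod m)) with hZ
  refine ⟨(Z.comap ψ).map D.subtype, ?_, ?_, ?_, ?_⟩
  · rintro _ ⟨y, -, rfl⟩
    exact y.2
  · let f : ↥((Z.comap ψ).map D.subtype) →* ↥Z :=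
      { toFun := fun y => ⟨ψ ⟨y.1, by
            obtain ⟨z, -, hz⟩ := y.2
            rw [← hz]; exact z.2⟩, by
          obtain ⟨z, hz1, hz⟩ := y.2
          have : (⟨y.1, by rw [← hz]; exact z.2⟩ : ↥D) = z := Subtype.ext hz.symm
          rw [this]
          exact hz1⟩
        map_one' := by
          apply Subtype.ext
          show ψ ⟨1, _⟩ = 1
          exact map_one ψ
        map_mul' := fun a b => by
          apply Subtype.ext
          show ψ ⟨a.1 * b.1, _⟩ = ψ ⟨a.1, _⟩ * ψ ⟨b.1, _⟩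
          rw [← map_mul]
          rfl }
    have hf : Function.Injective f := by
      intro a b hab
      have h1 : ψ ⟨a.1, _⟩ = ψ ⟨b.1, _⟩ := congrArg Subtype.val hab
      have h2 := hψ h1
      have h3 : a.1 = b.1 := Subtype.mk.inj h2
      exact Subtype.ext h3
    exact isCyclic_of_injective f hf
  · intro x hx hxn
    have hne : ψ ⟨x, hx⟩ ∉ Z := by
      intro h
      exact hxn ⟨⟨x, hx⟩, h, rfl⟩
    have h1 : ψ (⟨x, hx⟩ * ⟨x, hx⟩) = 1 := by
      rw [map_mul]
      rcases hd : ψ ⟨x, hx⟩ with i | i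
      · rw [hd] at hne
        exact absurd (mem_zpowers_r_one i) hne
      · exact DihedralGroup.sr_mul_self i
    have h2 : (⟨x, hx⟩ * ⟨x, hx⟩ : ↥D) = 1 := hψ (by rw [h1, map_one])
    exact congrArg Subtype.val h2
  · intro x hx y hy hxn hyn
    have hnx : ψ ⟨x, hx⟩ ∉ Z := fun h => hxn ⟨⟨x, hx⟩, h, rfl⟩
    have hny : ψ ⟨y, hy⟩ ∉ Z := fun h => hyn ⟨⟨y, hy⟩, h, rfl⟩
    refine ⟨⟨x, hx⟩⁻¹ * ⟨y, hy⟩, ?_, rfl⟩
    show ψ (⟨x, hx⟩⁻¹ * ⟨y, hy⟩) ∈ Z
    rw [map_mul, map_inv]
    rcases hdx : ψ ⟨x, hx⟩ with i | i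
    · rw [hdx] at hnx
      exact absurd (mem_zpowers_r_one i) hnx
    · rcases hdy : ψ ⟨y, hy⟩ with j | j
      · rw [hdy] at hny
        exact absurd (mem_zpowers_r_one j) hny
      · rw [DihedralGroup.inv_sr, DihedralGroup.sr_mul_sr]
        exact mem_zpowers_r_one _

/-- An element of odd order normalizing a cyclic `2`-group centralizes it. -/
theorem centralizes_of_cyclic [Finite X] (Q : Subgroup X) (hc : IsCyclic ↥Q) (hQ : IsPGroup 2 ↥Q)
    (g : X) (hg : g ∈ Subgroup.normalizer (Q : Set X)) (hodd : Nat.Coprime (orderOf g) 2) :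
    g ∈ Subgroup.centralizer (Q : Set X) := by
  haveI : Fact (Nat.Prime 2) := ⟨Nat.prime_two⟩
  set φ := Q.normalizerMonoidHom ⟨g, hg⟩ with hφ
  have h1 : orderOf φ ∣ orderOf g := by
    have := orderOf_map_dvd Q.normalizerMonoidHom (⟨g, hg⟩ : ↥(Subgroup.normalizer (Q : Set X)))
    rwa [Subgroup.orderOf_mk] at this
  have h2 : orderOf φ ∣ Nat.card (MulAut ↥Q) := orderOf_dvd_natCard φ
  obtain ⟨k, hk⟩ := hQ.exists_card_eq
  have h3 : orderOf φ = 1 := by
    rw [IsCyclic.card_mulAut, hk] at h2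
    rcases Nat.eq_zero_or_pos k with h0 | h0
    · rw [h0, pow_zero, Nat.totient_one] at h2
      exact Nat.dvd_one.mp h2
    · rw [Nat.totient_prime_pow Nat.prime_two h0] at h2
      have hcop : Nat.Coprime (orderOf φ) (2 ^ (k - 1) * (2 - 1)) := by
        apply Nat.Coprime.coprime_dvd_left h1
        simp only [Nat.add_one_sub_one, mul_one]
        exact Nat.Coprime.pow_right _ hodd
      exact Nat.Coprime.eq_one_of_dvd hcop h2
  have h4 : φ = 1 := orderOf_eq_one_iff.mp h3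
  have h5 : (⟨g, hg⟩ : ↥(Subgroup.normalizer (Q : Set X))) ∈ Q.normalizerMonoidHom.ker := h4
  rw [Subgroup.normalizerMonoidHom_ker, Subgroup.mem_subgroupOf] at h5
  exact h5

theorem zpow_of_sq_eq_one {c : X} (hc : c * c = 1) (k : ℤ) : c ^ k = 1 ∨ c ^ k = c := by
  have h2 : c ^ (2 : ℤ) = 1 := by rw [zpow_two]; exact hc
  rcases Int.emod_two_eq_zero_or_one k with h | h
  · left
    have : k = 2 * (k / 2) := by omega
    rw [this, zpow_mul, h2, one_zpow]
  · right
    have : k = 2 * (k / 2) + 1 := by omega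
    rw [this, zpow_add, zpow_mul, h2, one_zpow, one_mul, zpow_one]

/-- In a group of dihedral shape, a subgroup of exponent `2` has at most four elements. -/
theorem card_le_four [Finite X] {D R₀ : Subgroup X} (hS : Shape D R₀) (Q : Subgroup X)
    (hQD : Q ≤ D) (hexp : ∀ q ∈ Q, q * q = 1) : Nat.card ↥Q ≤ 4 := by
  classical
  have shape := hS.mono hQD
  haveI := shape.cyc
  obtain ⟨c₀, hc₀⟩ := IsCyclic.exists_generator (α := ↥(R₀ ⊓ Q))
  have hc₀sq : (c₀ : X) * (c₀ : X) = 1 := hexp _ c₀.2.2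
  have hQ₀ : ∀ x ∈ R₀ ⊓ Q, x = 1 ∨ x = (c₀ : X) := by
    intro x hx
    obtain ⟨k, hk⟩ := Subgroup.mem_zpowers_iff.mp (hc₀ ⟨x, hx⟩)
    have hk' : (c₀ : X) ^ k = x := by
      have := congrArg Subtype.val hk
      simpa using this
    rw [← hk']
    exact zpow_of_sq_eq_one hc₀sq k
  by_cases hu : ∃ u ∈ Q, u ∉ R₀ ⊓ Q
  · obtain ⟨u, huQ, hun⟩ := hu
    have hsub : (Q : Set X) ⊆ (({1, (c₀ : X), u, u * (c₀ : X)} : Finset X) : Set X) := by
      intro q hq
      simp only [Finset.coe_insert, Finset.coe_singleton, Set.mem_insert_iff,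
        Set.mem_singleton_iff]
      by_cases hq₀ : q ∈ R₀ ⊓ Q
      · rcases hQ₀ q hq₀ with h | h
        · exact Or.inl h
        · exact Or.inr (Or.inl h)
      · have := shape.prod u huQ q hq hun hq₀
        rcases hQ₀ _ this with h | h
        · right; right; left
          have : q = u * (u⁻¹ * q) := by group
          rw [this, h, mul_one]
        · right; right; right
          have : q = u * (u⁻¹ * q) := by group
          rw [this, h]
    calc Nat.card ↥Q = (Q : Set X).ncard := _root_.Nat.card_coe_set_eq _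
      _ ≤ (({1, (c₀ : X), u, u * (c₀ : X)} : Finset X) : Set X).ncard :=
          Set.ncard_le_ncard hsub (Finset.finite_toSet _)
      _ = ({1, (c₀ : X), u, u * (c₀ : X)} : Finset X).card := Set.ncard_coe_finset _
      _ ≤ 4 := Finset.card_le_four
  · push Not at hu
    have hsub : (Q : Set X) ⊆ (({1, (c₀ : X)} : Finset X) : Set X) := by
      intro q hq
      simp only [Finset.coe_insert, Finset.coe_singleton, Set.mem_insert_iff,
        Set.mem_singleton_iff]
      exact hQ₀ q (hu q hq)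
    calc Nat.card ↥Q = (Q : Set X).ncard := _root_.Nat.card_coe_set_eq _
      _ ≤ (({1, (c₀ : X)} : Finset X) : Set X).ncard :=
          Set.ncard_le_ncard hsub (Finset.finite_toSet _)
      _ = ({1, (c₀ : X)} : Finset X).card := Set.ncard_coe_finset _
      _ ≤ 2 := Finset.card_le_two
      _ ≤ 4 := by norm_num

theorem conj_pow_eq {g q c : X} (hgc : c * g = g * c) (h : g * q * g⁻¹ = q * c) (n : ℕ) :
    g ^ n * q * (g ^ n)⁻¹ = q * c ^ n := by
  induction n with
  | zero => simp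
  | succ n ih =>
    have hgcn : g * c ^ n * g⁻¹ = c ^ n := by
      have : Commute c g := hgc
      have h2 : Commute (c ^ n) g := this.pow_left n
      rw [← h2.eq]; group
    calc g ^ (n + 1) * q * (g ^ (n + 1))⁻¹ = g * (g ^ n * q * (g ^ n)⁻¹) * g⁻¹ := by
          rw [pow_succ']; group
      _ = g * (q * c ^ n) * g⁻¹ := by rw [ih]
      _ = (g * q * g⁻¹) * (g * c ^ n * g⁻¹) := by group
      _ = q * c * c ^ n := by rw [h, hgcn]
      _ = q * c ^ (n + 1) := by rw [pow_succ', mul_assoc]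

/-- Main lemma. -/
theorem main [Finite X] {D R₀ : Subgroup X} (hS : Shape D R₀) (hD : IsPGroup 2 ↥D)
    (Q : Subgroup X) (hQD : Q ≤ D) (g : X) (hg : g ∈ Subgroup.normalizer (Q : Set X))
    (hodd : Nat.Coprime (orderOf g) 2) :
    g ∈ Subgroup.centralizer (Q : Set X) ∨ (Nat.card ↥Q = 4 ∧ ∀ q ∈ Q, q * q = 1) := by
  classical
  haveI : Fact (Nat.Prime 2) := ⟨Nat.prime_two⟩
  have hQ2 : IsPGroup 2 ↥Q := hD.to_le hQD
  by_cases hcyc : IsCyclic ↥Q
  · exact Or.inl (centralizes_of_cyclic Q hcyc hQ2 g hg hodd)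
  have shape := hS.mono hQD
  haveI := shape.cyc
  have hu : ∃ u ∈ Q, u ∉ R₀ ⊓ Q := by
    by_contra hcon
    push Not at hcon
    apply hcyc
    exact Subgroup.isCyclic_of_le (H' := R₀ ⊓ Q) (fun q hq => hcon q hq)
  obtain ⟨u, huQ, hun⟩ := hu
  have hconjQ : ∀ q ∈ Q, g * q * g⁻¹ ∈ Q := fun q hq =>
    (Subgroup.mem_normalizer_iff.mp hg q).mp hq
  by_cases hB : ∃ c ∈ R₀ ⊓ Q, c * c ≠ 1
  · left
    obtain ⟨c, hc, hcc⟩ := hB
    obtain ⟨c₀, hc₀⟩ := IsCyclic.exists_generator (α := ↥(R₀ ⊓ Q))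
    have hgen : ∀ x ∈ R₀ ⊓ Q, ∃ k : ℤ, (c₀ : X) ^ k = x := by
      intro x hx
      obtain ⟨k, hk⟩ := Subgroup.mem_zpowers_iff.mp (hc₀ ⟨x, hx⟩)
      refine ⟨k, ?_⟩
      have := congrArg Subtype.val hk
      simpa using this
    have hc₀sq : (c₀ : X) * (c₀ : X) ≠ 1 := by
      intro h
      obtain ⟨k, hk⟩ := hgen c hc
      apply hcc
      rcases zpow_of_sq_eq_one h k with h' | h'
      · rw [← hk, h', one_mul]
      · rw [← hk, h', h]
    have hgc₀ : g * (c₀ : X) * g⁻¹ ∈ R₀ ⊓ Q := by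
      by_contra hn
      have := shape.sq _ (hconjQ _ c₀.2.2) hn
      apply hc₀sq
      have e : g * (c₀ : X) * g⁻¹ * (g * (c₀ : X) * g⁻¹) = g * ((c₀ : X) * (c₀ : X)) * g⁻¹ := by
        group
      rw [e] at this
      have e2 : (c₀ : X) * (c₀ : X) = g⁻¹ * (g * ((c₀ : X) * (c₀ : X)) * g⁻¹) * g := by group
      rw [e2, this]; group
    have hgQ₀ : g ∈ Subgroup.normalizer ((R₀ ⊓ Q : Subgroup X) : Set X) := by
      apply Cfsg.Agent.Lib.Lead.Conj.mem_normalizer_of_conj_mem
      intro r hr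
      obtain ⟨k, hk⟩ := hgen r hr
      rw [← hk, ← conj_zpow]
      exact Subgroup.zpow_mem _ hgc₀ k
    have hcent₀ := centralizes_of_cyclic (R₀ ⊓ Q) shape.cyc (hQ2.to_le inf_le_right) g hgQ₀ hodd
    rw [Subgroup.mem_centralizer_iff]
    intro q hq
    by_cases hq₀ : q ∈ R₀ ⊓ Q
    · exact Subgroup.mem_centralizer_iff.mp hcent₀ q hq₀
    · have hv : g * q * g⁻¹ ∈ Q := hconjQ q hq
      have hvn : g * q * g⁻¹ ∉ R₀ ⊓ Q := by
        intro h
        exact hq₀ ((Subgroup.mem_normalizer_iff.mp hgQ₀ q).mpr h)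
      have hc' : q⁻¹ * (g * q * g⁻¹) ∈ R₀ ⊓ Q := shape.prod q hq _ hv hq₀ hvn
      set c' := q⁻¹ * (g * q * g⁻¹) with hc'def
      have hgc' : c' * g = g * c' := Subgroup.mem_centralizer_iff.mp hcent₀ c' hc'
      have hconj : g * q * g⁻¹ = q * c' := by rw [hc'def]; group
      have hpow := conj_pow_eq hgc' hconj (orderOf g)
      rw [pow_orderOf_eq_one] at hpow
      have h1 : c' ^ orderOf g = 1 := by
        have : q = q * c' ^ orderOf g := by simpa using hpow
        exact (mul_eq_left.mp this.symm)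
      have h2 : orderOf c' ∣ orderOf g := orderOf_dvd_of_pow_eq_one h1
      obtain ⟨j, hj⟩ := (IsPGroup.iff_orderOf.mp hQ2) ⟨c', hc'.2⟩
      rw [Subgroup.orderOf_mk] at hj
      have h3 : orderOf c' = 1 := by
        have hcop : Nat.Coprime (orderOf c') (orderOf c') := by
          apply Nat.Coprime.coprime_dvd_left h2
          rw [hj]
          exact Nat.Coprime.pow_right _ hodd
        exact (Nat.coprime_self _).mp hcop
      have h4 : c' = 1 := orderOf_eq_one_iff.mp h3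
      rw [h4, mul_one] at hconj
      calc q * g = (g * q * g⁻¹) * g := by rw [hconj]
        _ = g * q := by group
  · right
    push Not at hB
    have hexp : ∀ q ∈ Q, q * q = 1 := by
      intro q hq
      by_cases hq₀ : q ∈ R₀ ⊓ Q
      · exact hB q hq₀
      · exact shape.sq q hq hq₀
    refine ⟨?_, hexp⟩
    have hle := card_le_four hS Q hQD hexp
    obtain ⟨k, hk⟩ := hQ2.exists_card_eq
    have hk2 : k = 2 := by
      rcases Nat.lt_or_ge k 2 with hlt | hge
      · exfalso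
        apply hcyc
        interval_cases k
        · rw [pow_zero] at hk
          haveI : Subsingleton ↥Q := (Nat.card_eq_one_iff_unique.mp hk).1
          infer_instance
        · rw [pow_one] at hk
          exact isCyclic_of_prime_card hk
      · rcases Nat.lt_or_ge 2 k with hgt | hle2
        · exfalso
          have : 2 ^ 3 ≤ 2 ^ k := Nat.pow_le_pow_right (by norm_num) hgt
          omega
        · omega
    rw [hk, hk2]; norm_num

end Cfsg.Agent.Lib.Lead.DihShape
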