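import Mathlib
import Cfsg.Agent.Lib.Lead.ConjFamily

/-!
# Conjugation chains with a condition on the pairs (subgroup, element)

`DecP 𝓟 l A` : the list `l` of pairs `(T, x)` is a chain for the set `A`: each `x ∈ N_G(T)`, `𝓟 T x` holds, `A ⊆ T`, and
the rest of the list is a chain for `x⁻¹ A x`.
-/

set_option autoImplicit false
set_option linter.style.haveILetI false
set_option linter.dupNamespace false

namespace Cfsg.Agent.Lib.Lead.DecP

open Cfsg Cfsg.Agent.Lib.Lead.Conj Cfsg.Agent.Lib.Lead.ConjFamily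

variable {G : Type*} [Group G]

variable (𝓟 : Subgroup G → G → Prop)

/-- the chain condition, in list form. -/
def DecP : List (Subgroup G × G) → Set G → Prop
  | [], _ => True
  | (T, x) :: l, A => 𝓟 T x ∧ x ∈ Subgroup.normalizer (T : Set G) ∧ A ⊆ (T : Set G) ∧ DecP l (rc x A)

variable {𝓟}

theorem DecP.mono {l : List (Subgroup G × G)} {A B : Set G} (hBA : B ⊆ A) (h : DecP 𝓟 l A) : DecP 𝓟 l B := by
  induction l generalizing A B with
  | nil => trivial
  | cons a l ih =>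
    obtain ⟨T, x⟩ := a
    obtain ⟨h1, h2, h3, h4⟩ := h
    exact ⟨h1, h2, hBA.trans h3, ih (rc_mono x hBA) h4⟩

theorem DecP.append {l₁ l₂ : List (Subgroup G × G)} {A : Set G} (h₁ : DecP 𝓟 l₁ A)
    (h₂ : DecP 𝓟 l₂ (rc (prodL l₁) A)) : DecP 𝓟 (l₁ ++ l₂) A := by
  induction l₁ generalizing A with
  | nil => simpa [rc_one] using h₂
  | cons a l ih =>
    obtain ⟨T, x⟩ := a
    obtain ⟨h1, h2, h3, h4⟩ := h₁
    refine ⟨h1, h2, h3, ih h4 ?_⟩
    rw [prodL_cons, rc_mul] at h₂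
    exact h₂

theorem DecP.rev (hinv : ∀ T x, 𝓟 T x → 𝓟 T x⁻¹) {l : List (Subgroup G × G)} {A : Set G}
    (h : DecP 𝓟 l A) : DecP 𝓟 (revL l) (rc (prodL l) A) := by
  induction l generalizing A with
  | nil => trivial
  | cons a l ih =>
    obtain ⟨T, x⟩ := a
    obtain ⟨h1, h2, h3, h4⟩ := h
    rw [revL_cons]
    apply DecP.append
    · have := ih h4
      rw [prodL_cons, rc_mul]
      exact this
    · rw [prodL_revL, prodL_cons, rc_mul, rc_inv_rc]
      refine ⟨hinv T x h1, Subgroup.inv_mem _ h2, ?_, trivial⟩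
      calc rc x A ⊆ rc x (T : Set G) := rc_mono x h3
        _ = (T : Set G) := rc_normalizer h2

/-- In a chain, the `i`-th subgroup contains the set conjugated by the first `i` elements. -/
theorem DecP.get {l : List (Subgroup G × G)} {A : Set G} (h : DecP 𝓟 l A) (i : ℕ) (hi : i < l.length) :
    𝓟 (l.get ⟨i, hi⟩).1 (l.get ⟨i, hi⟩).2 ∧
      (l.get ⟨i, hi⟩).2 ∈ Subgroup.normalizer (((l.get ⟨i, hi⟩).1 : Subgroup G) : Set G) ∧
      rc ((l.map Prod.snd).take i).prod A ⊆ (((l.get ⟨i, hi⟩).1 : Subgroup G) : Set G) := by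
  induction l generalizing A i with
  | nil => exact absurd hi (Nat.not_lt_zero _)
  | cons a l ih =>
    obtain ⟨T, x⟩ := a
    obtain ⟨h1, h2, h3, h4⟩ := h
    cases i with
    | zero =>
      refine ⟨h1, h2, ?_⟩
      simpa [rc_one] using h3
    | succ i =>
      have hi' : i < l.length := Nat.lt_of_succ_lt_succ hi
      obtain ⟨g1, g2, g3⟩ := ih h4 i hi'
      refine ⟨g1, g2, ?_⟩
      have e : (((T, x) :: l).map Prod.snd).take (i + 1) = x :: (l.map Prod.snd).take i := by simp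
      rw [e, List.prod_cons, rc_mul]
      exact g3

/-- change of predicate -/
theorem DecP.imp {𝓠 : Subgroup G → G → Prop} (himp : ∀ T x, 𝓟 T x → 𝓠 T x)
    {l : List (Subgroup G × G)} {A : Set G} (h : DecP 𝓟 l A) : DecP 𝓠 l A := by
  induction l generalizing A with
  | nil => trivial
  | cons a l ih =>
    obtain ⟨T, x⟩ := a
    obtain ⟨h1, h2, h3, h4⟩ := h
    exact ⟨himp T x h1, h2, h3, ih h4⟩

/-- local control along a chain gives control -/
theorem control_of_decP (X : Subgroup G)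
    (hloc : ∀ T x, 𝓟 T x → x ∈ Subgroup.normalizer (T : Set G) →
      ∃ y ∈ X, ∀ u ∈ T, x⁻¹ * u * x = y⁻¹ * u * y) :
    ∀ (l : List (Subgroup G × G)) (A : Set G), DecP 𝓟 l A →
      ∃ y ∈ X, ∀ a ∈ A, (prodL l)⁻¹ * a * prodL l = y⁻¹ * a * y := by
  intro l
  induction l with
  | nil =>
    intro A _
    exact ⟨1, X.one_mem, fun a _ => by simp⟩
  | cons c l ih =>
    obtain ⟨T, x⟩ := c
    rintro A ⟨hT, hx, hAT, hdec⟩
    obtain ⟨y₁, hy₁, h1⟩ := hloc T x hT hx
    obtain ⟨y₂, hy₂, h2⟩ := ih (rc x A) hdec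
    refine ⟨y₁ * y₂, X.mul_mem hy₁ hy₂, fun a ha => ?_⟩
    have hb : x⁻¹ * a * x ∈ rc x A := ⟨a, ha, rfl⟩
    have h3 := h2 _ hb
    rw [h1 a (hAT ha)] at h3
    rw [prodL_cons]
    calc (x * prodL l)⁻¹ * a * (x * prodL l) = (prodL l)⁻¹ * (x⁻¹ * a * x) * prodL l := by group
      _ = y₂⁻¹ * (y₁⁻¹ * a * y₁) * y₂ := by rw [h1 a (hAT ha)]; exact h3
      _ = (y₁ * y₂)⁻¹ * a * (y₁ * y₂) := by group

end Cfsg.Agent.Lib.Lead.DecP
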