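import Mathlib
import Cfsg.Agent.Lib.Lead.DecP
import Cfsg.Agent.Lib.Lead.LocalControl
import Cfsg.Agent.S2013

/-!
# Alperin's fusion theorem with tame intersections and `p`-element factors

`Tame P T x` : `T = P ∩ Q` is a tame intersection of Sylow subgroups and (`Q = P` or `x` is a `p`-element).
`alperin_tame` : every conjugation of a subset of `P` into `P` is a `DecP (Tame P)`-chain.
-/

set_option autoImplicit false
set_option linter.style.haveILetI false
set_option linter.unusedSectionVars false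
set_option linter.unusedVariables false

namespace Cfsg.Agent.Lib.Lead.AlperinTame

open Cfsg Cfsg.Agent.Lib.Helper7 Cfsg.Agent.Lib.Lead.Conj Cfsg.Agent.Lib.Lead.ConjFamily Cfsg.Agent.S1963
  Cfsg.Agent.S1965 Cfsg.Agent.S1961 Cfsg.Agent.S1959 Cfsg.Agent.Lib.Lead.DecP
  Cfsg.Agent.Lib.Lead.LocalControl

universe u
variable {G : Type u} [Group G] [Finite G] {p : ℕ} [hp : Fact p.Prime] (P : Sylow p G)

/-- tame intersection data -/
def Tame (T : Subgroup G) (x : G) : Prop :=
  ∃ Q : Sylow p G, T = (P : Subgroup G) ⊓ (Q : Subgroup G) ∧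
    ¬ p ∣ ((P : Subgroup G) ⊓ Subgroup.normalizer (T : Set G)).relIndex (Subgroup.normalizer (T : Set G)) ∧
    ¬ p ∣ ((Q : Subgroup G) ⊓ Subgroup.normalizer (T : Set G)).relIndex (Subgroup.normalizer (T : Set G)) ∧
    ((Q : Subgroup G) = (P : Subgroup G) ∨ ∃ k : ℕ, orderOf x = p ^ k)

theorem Tame.inv {T : Subgroup G} {x : G} (h : Tame P T x) : Tame P T x⁻¹ := by
  obtain ⟨Q, h1, h2, h3, h4⟩ := h
  refine ⟨Q, h1, h2, h3, ?_⟩
  rcases h4 with h4 | ⟨k, hk⟩
  · exact Or.inl h4
  · exact Or.inr ⟨k, by rw [orderOf_inv]; exact hk⟩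

omit [Finite G] in
theorem cj_eq_of_mem {z : G} {N : Subgroup G} (hz : z ∈ N) : cj z N = N := by
  ext y
  rw [mem_cj]
  constructor
  · intro h
    have e : y = z * (z⁻¹ * y * z) * z⁻¹ := by group
    rw [e]
    exact N.mul_mem (N.mul_mem hz h) (N.inv_mem hz)
  · intro h
    exact N.mul_mem (N.mul_mem (N.inv_mem hz) h) hz

theorem isSylowIn_of_le {R K N : Subgroup G} (h : IsSylowIn p R N) (hRK : R ≤ K) (hKN : K ≤ N) :
    IsSylowIn p R K := by
  refine ⟨hRK, ?_⟩
  rw [h.2]
  congr 1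
  apply le_antisymm
  · have h1 : p ^ (Nat.card ↥N).factorization p ∣ Nat.card ↥K := by
      rw [← h.2]; exact Subgroup.card_dvd_of_le hRK
    exact (hp.out.pow_dvd_iff_le_factorization Nat.card_pos.ne').1 h1
  · have h1 : Nat.card ↥K ∣ Nat.card ↥N := Subgroup.card_dvd_of_le hKN
    exact (Nat.factorization_le_iff_dvd Nat.card_pos.ne' Nat.card_pos.ne').2 h1 p

/-- the subgroup generated by the `p`-elements of `N` -/
def pGen (p : ℕ) (N : Subgroup G) : Subgroup G :=
  Subgroup.closure {z | z ∈ N ∧ ∃ k : ℕ, orderOf z = p ^ k}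

omit [Finite G] hp in
theorem pGen_le (N : Subgroup G) : pGen p N ≤ N := by
  unfold pGen
  rw [Subgroup.closure_le]
  intro z hz
  exact hz.1

theorem le_pGen {R N : Subgroup G} (hR : IsPGroup p ↥R) (hRN : R ≤ N) : R ≤ pGen p N := by
  intro r hr
  apply Subgroup.subset_closure
  refine ⟨hRN hr, ?_⟩
  obtain ⟨k, hk⟩ := hR ⟨r, hr⟩
  have hk' : r ^ p ^ k = 1 := by
    have := congrArg Subtype.val hk
    simpa using this
  obtain ⟨j, -, hj⟩ := (Nat.dvd_prime_pow hp.out).1 (orderOf_dvd_of_pow_eq_one hk')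
  exact ⟨j, hj⟩

/-- Frattini argument: `N = ⟨p-elements⟩ · N_N(R)` -/
theorem frattini_pGen {R N : Subgroup G} (hR : IsSylowIn p R N) {x : G} (hx : x ∈ N) :
    ∃ h ∈ pGen p N, ∃ w ∈ N ⊓ Subgroup.normalizer (R : Set G), x = h * w := by
  have hRp : IsPGroup p ↥R := hR.isPGroup
  have h1 : IsSylowIn p R (pGen p N) := isSylowIn_of_le hR (le_pGen hRp hR.1) (pGen_le N)
  have hxR : IsSylowIn p (cj x R) N := by
    have := isSylowIn_cj x hR
    rwa [cj_eq_of_mem hx] at this
  have h2 : IsSylowIn p (cj x R) (pGen p N) :=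
    isSylowIn_of_le hxR (le_pGen hxR.isPGroup hxR.1) (pGen_le N)
  obtain ⟨h, hh, hconj⟩ := h1.conj h2
  refine ⟨h, hh, h⁻¹ * x, ⟨N.mul_mem (N.inv_mem (pGen_le N hh)) hx, ?_⟩, by group⟩
  apply mem_normalizer_of_conj_mem
  intro r hr
  have h3 : x * r * x⁻¹ ∈ cj x R := conj_mem_map_conj R x hr
  rw [hconj, mem_map_conj] at h3
  have e : h⁻¹ * x * r * (h⁻¹ * x)⁻¹ = h⁻¹ * (x * r * x⁻¹) * h := by group
  rw [e]; exact h3

/-- the induction hypothesis -/
def IH (c : ℕ) : Prop :=
  ∀ W : Subgroup G, W ≤ (P : Subgroup G) → c < Nat.card ↥W → ∀ g : G,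
    rc g (W : Set G) ⊆ ((P : Subgroup G) : Set G) →
    ∃ l : List (Subgroup G × G), prodL l = g ∧ DecP (Tame P) l (W : Set G)

/-- the step for a `p`-element of `N_G(U)` -/
theorem step_pElt {U : Subgroup G} (hU : U ∈ F0 P) (hIH : IH P (Nat.card ↥U))
    {z : G} (hz : z ∈ Subgroup.normalizer (U : Set G)) (hzp : ∃ k : ℕ, orderOf z = p ^ k) :
    ∃ l : List (Subgroup G × G), prodL l = z ∧ DecP (Tame P) l (U : Set G) := by
  set N := Subgroup.normalizer (U : Set G) with hN
  set R := (P : Subgroup G) ⊓ N with hRdef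
  have hRp : IsPGroup p ↥R := P.isPGroup'.to_le inf_le_left
  have hR : IsSylowIn p R N := isSylowIn_of_not_dvd_relIndex inf_le_right hRp hU.2
  have hUR : U ≤ R := le_inf hU.1 Subgroup.le_normalizer
  have hzR : IsSylowIn p (cj z R) N := by
    have := isSylowIn_cj z hR
    rwa [cj_eq_of_mem hz] at this
  have hUzR : U ≤ cj z R := by
    intro u hu
    rw [mem_cj]
    apply hUR
    have h1 : z⁻¹ ∈ N := N.inv_mem hz
    have := (Subgroup.mem_normalizer_iff.1 h1 u).1 hu
    rwa [inv_inv] at this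
  set W := R ⊓ cj z R with hW
  have hUW : U ≤ W := le_inf hUR hUzR
  by_cases hWU : W = U
  · -- a tame intersection
    obtain ⟨Q, hQ⟩ := hzR.isPGroup.exists_le_sylow
    have hPQ : (P : Subgroup G) ⊓ (Q : Subgroup G) = U := by
      apply le_antisymm
      · by_contra hnot
        have hD : IsPGroup p ↥((P : Subgroup G) ⊓ (Q : Subgroup G) : Subgroup G) :=
          P.isPGroup'.to_le inf_le_left
        have hUD : U ≤ (P : Subgroup G) ⊓ (Q : Subgroup G) := le_inf hU.1 (hUzR.trans hQ)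
        have hne : U ≠ (P : Subgroup G) ⊓ (Q : Subgroup G) := by
          intro h
          apply hnot
          rw [← h]
        have hlt := Cfsg.Agent.S2013.normalizer_grow hD hUD hne
        obtain ⟨d, hd, hdU⟩ := SetLike.exists_of_lt hlt
        apply hdU
        rw [← hWU]
        refine ⟨⟨hd.1.1, hd.2⟩, ?_⟩
        have hR2 : (Q : Subgroup G) ⊓ N = cj z R := by
          apply eq_of_isSylowIn_le hzR (le_inf hQ hzR.1) inf_le_right
          exact Q.isPGroup'.to_le inf_le_left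
        rw [← hR2]
        exact ⟨hd.1.2, hd.2⟩
      · exact le_inf hU.1 (hUzR.trans hQ)
    have hR2 : (Q : Subgroup G) ⊓ N = cj z R := by
      apply eq_of_isSylowIn_le hzR (le_inf hQ hzR.1) inf_le_right
      exact Q.isPGroup'.to_le inf_le_left
    refine ⟨[(U, z)], by simp, ?_, hz, subset_rfl, trivial⟩
    refine ⟨Q, hPQ.symm, hU.2, ?_, Or.inr hzp⟩
    rw [hR2]
    exact not_dvd_relIndex_of_isSylowIn hzR
  · have hcard : Nat.card ↥U < Nat.card ↥W := by
      by_contra hnot
      push_neg at hnot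
      exact hWU (Subgroup.eq_of_le_of_card_ge hUW hnot).symm
    have hWP : W ≤ (P : Subgroup G) := inf_le_left.trans inf_le_left
    have hrc : rc z (W : Set G) ⊆ ((P : Subgroup G) : Set G) := by
      intro y hy
      rw [mem_rc] at hy
      have h1 : z * y * z⁻¹ ∈ cj z R := hy.2
      rw [mem_cj] at h1
      have e : z⁻¹ * (z * y * z⁻¹) * z = y := by group
      rw [e] at h1
      exact h1.1
    obtain ⟨l, hl, hdec⟩ := hIH W hWP hcard z hrc
    exact ⟨l, hl, hdec.mono hUW⟩

/-- the key step: conjugation by an element of `N_G(U)`, `U` fully normalized -/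
theorem key {U : Subgroup G} (hU : U ∈ F0 P) (hIH : IH P (Nat.card ↥U))
    {x : G} (hx : x ∈ Subgroup.normalizer (U : Set G)) :
    ∃ l : List (Subgroup G × G), prodL l = x ∧ DecP (Tame P) l (U : Set G) := by
  by_cases hne : U = (P : Subgroup G)
  · refine ⟨[(U, x)], by simp, ?_, hx, subset_rfl, trivial⟩
    refine ⟨P, by rw [hne, inf_idem], hU.2, ?_, Or.inl rfl⟩
    have := hU.2
    exact this
  · set N := Subgroup.normalizer (U : Set G) with hN
    set R := (P : Subgroup G) ⊓ N with hRdef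
    have hRp : IsPGroup p ↥R := P.isPGroup'.to_le inf_le_left
    have hR : IsSylowIn p R N := isSylowIn_of_not_dvd_relIndex inf_le_right hRp hU.2
    have hUR : U < R := Cfsg.Agent.S1965.exists_mem_normalizer_not_mem P hU.1 hne
    obtain ⟨h, hh, w, hw, hxhw⟩ := frattini_pGen hR hx
    -- the `p`-generated part
    have hK : ∀ k ∈ pGen p N, ∃ l : List (Subgroup G × G), prodL l = k ∧
        DecP (Tame P) l (U : Set G) := by
      intro k hk
      unfold pGen at hk
      induction hk using Subgroup.closure_induction with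
      | mem z hz => exact step_pElt P hU hIH hz.1 hz.2
      | one => exact ⟨[], by simp, trivial⟩
      | mul a b ha hb iha ihb =>
        obtain ⟨l₁, hl₁, hd₁⟩ := iha
        obtain ⟨l₂, hl₂, hd₂⟩ := ihb
        refine ⟨l₁ ++ l₂, by rw [prodL_append, hl₁, hl₂], hd₁.append ?_⟩
        rw [hl₁, rc_normalizer (pGen_le N ha)]
        exact hd₂
      | inv a ha iha =>
        obtain ⟨l₁, hl₁, hd₁⟩ := iha
        refine ⟨revL l₁, by rw [prodL_revL, hl₁], ?_⟩
        have := hd₁.rev (fun T x h => Tame.inv P h)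
        rwa [hl₁, rc_normalizer (pGen_le N ha)] at this
    obtain ⟨l₁, hl₁, hd₁⟩ := hK h hh
    -- the part normalizing `R`
    have hcard : Nat.card ↥U < Nat.card ↥R := by
      by_contra hnot
      push_neg at hnot
      exact (ne_of_lt hUR) (Subgroup.eq_of_le_of_card_ge hUR.le hnot)
    have hrc : rc w (R : Set G) ⊆ ((P : Subgroup G) : Set G) := by
      rw [rc_normalizer hw.2]
      exact fun y hy => hy.1
    obtain ⟨l₂, hl₂, hd₂⟩ := hIH R inf_le_left hcard w hrc
    refine ⟨l₁ ++ l₂, by rw [prodL_append, hl₁, hl₂, hxhw], hd₁.append ?_⟩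
    rw [hl₁, rc_normalizer (pGen_le N hh)]
    exact hd₂.mono hUR.le

/-- conversion of a chain through fully normalized subgroups into a tame chain -/
theorem convert (c : ℕ) (hIH : IH P c) :
    ∀ (l₀ : List (Subgroup G × G)) (V : Subgroup G), c ≤ Nat.card ↥V → DecL (F0 P) l₀ (V : Set G) →
      ∃ l : List (Subgroup G × G), prodL l = prodL l₀ ∧ DecP (Tame P) l (V : Set G) := by
  intro l₀
  induction l₀ with
  | nil =>
    intro V _ _
    exact ⟨[], rfl, trivial⟩
  | cons a l₀ ih =>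
    obtain ⟨U, x⟩ := a
    rintro V hcV ⟨hU, hx, hVU, hdec⟩
    have hVU' : V ≤ U := hVU
    have hcU : c ≤ Nat.card ↥U := hcV.trans (Subgroup.card_le_of_le hVU')
    have hIH' : IH P (Nat.card ↥U) := fun W hW hc => hIH W hW (lt_of_le_of_lt hcU hc)
    obtain ⟨l₁, hl₁, hd₁⟩ := key P hU hIH' hx
    rw [rc_coe] at hdec
    obtain ⟨l₂, hl₂, hd₂⟩ := ih (cj x⁻¹ V) (by rw [card_cj]; exact hcV) hdec
    refine ⟨l₁ ++ l₂, by rw [prodL_append, hl₁, hl₂, prodL_cons], (hd₁.mono hVU).append ?_⟩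
    rw [hl₁, rc_coe]
    exact hd₂

/-- Alperin's theorem (tame intersections, `p`-element factors), for subgroups -/
theorem alperin_tame_subgroup :
    ∀ (m : ℕ) (T : Subgroup G), T ≤ (P : Subgroup G) → Nat.card ↥(P : Subgroup G) - Nat.card ↥T = m →
      ∀ g : G, rc g (T : Set G) ⊆ ((P : Subgroup G) : Set G) →
      ∃ l : List (Subgroup G × G), prodL l = g ∧ DecP (Tame P) l (T : Set G) := by
  intro m
  induction m using Nat.strong_induction_on with
  | _ m ih =>
  intro T hT hm g hrc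
  have hIH : IH P (Nat.card ↥T) := by
    intro W hW hc g' hrc'
    have hWle : Nat.card ↥W ≤ Nat.card ↥(P : Subgroup G) := Subgroup.card_le_of_le hW
    exact ih (Nat.card ↥(P : Subgroup G) - Nat.card ↥W) (by omega) W hW rfl g' hrc'
  obtain ⟨l₀, hl₀, hdec⟩ := alperin_F0 P (T : Set G) g hT hrc
  obtain ⟨l, hl, hd⟩ := convert P (Nat.card ↥T) hIH l₀ T le_rfl hdec
  exact ⟨l, hl.trans hl₀, hd⟩

/-- **Alperin's fusion theorem** with tame intersections and `p`-element factors -/
theorem alperin_tame (A : Set G) (g : G) (hA : A ⊆ ((P : Subgroup G) : Set G))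
    (hrc : rc g A ⊆ ((P : Subgroup G) : Set G)) :
    ∃ l : List (Subgroup G × G), prodL l = g ∧ DecP (Tame P) l A := by
  set T := Subgroup.closure A with hT
  have hTP : T ≤ (P : Subgroup G) := (Subgroup.closure_le _).2 hA
  have hTg : T ≤ cj g (P : Subgroup G) := by
    rw [hT, Subgroup.closure_le]
    intro a ha
    rw [SetLike.mem_coe, mem_cj]
    exact hrc ⟨a, ha, rfl⟩
  have hrcT : rc g (T : Set G) ⊆ ((P : Subgroup G) : Set G) := by
    intro y hy
    rw [mem_rc] at hy
    have := hTg hy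
    rw [mem_cj] at this
    have e : g⁻¹ * (g * y * g⁻¹) * g = y := by group
    rwa [e] at this
  obtain ⟨l, hl, hd⟩ := alperin_tame_subgroup P _ T hTP rfl g hrcT
  exact ⟨l, hl, hd.mono Subgroup.subset_closure⟩

end Cfsg.Agent.Lib.Lead.AlperinTame
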