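import Mathlib
import Cfsg.Agent.Lib.Lead.AlperinTame

/-!
# The Alperin–Goldschmidt fusion theorem (centric radical form)

`PModC p U L` : `L` is a normal subgroup of `N_G(U)` which is a `p`-group modulo `C_G(U)`.
`CR P U` : `U ≤ P` is fully normalized and `P ∩ L ≤ U` for every such `L` ("centric radical").
`Res P B g` : `g = c * prodL l` with `c ∈ C_G(B)` and `l` a `DecL {U | CR P U}`-chain for `B`.
`alperin_goldschmidt` : every conjugation of a subset of `P` into `P` has such a resolution.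
-/

set_option autoImplicit false
set_option linter.style.haveILetI false
set_option linter.unusedSectionVars false
set_option linter.unusedVariables false

namespace Cfsg.Agent.Lib.Lead.AlperinGoldschmidt

open Cfsg Cfsg.Agent.Lib.Helper7 Cfsg.Agent.Lib.Lead.Conj Cfsg.Agent.Lib.Lead.ConjFamily Cfsg.Agent.S1963
  Cfsg.Agent.S1965 Cfsg.Agent.S1961 Cfsg.Agent.S1959 Cfsg.Agent.Lib.Lead.LocalControl
  Cfsg.Agent.Lib.Lead.AlperinTame

universe u
variable {G : Type u} [Group G] [Finite G] {p : ℕ} [hp : Fact p.Prime] (P : Sylow p G)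

/-- `L` is a normal subgroup of `N_G(U)` which is a `p`-group modulo `C_G(U)` -/
def PModC (p : ℕ) (U L : Subgroup G) : Prop :=
  L ≤ Subgroup.normalizer (U : Set G) ∧ (∀ n ∈ Subgroup.normalizer (U : Set G), cj n L = L) ∧
    ∀ k ∈ L, ∃ j : ℕ, k ^ p ^ j ∈ Subgroup.centralizer (U : Set G)

/-- centric radical fully normalized subgroups -/
def CR (U : Subgroup G) : Prop :=
  U ∈ F0 P ∧ ∀ L : Subgroup G, PModC p U L → (P : Subgroup G) ⊓ L ≤ U

theorem mem_F0_self : (P : Subgroup G) ∈ F0 P := by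
  refine ⟨le_rfl, ?_⟩
  have h : IsSylowIn p (P : Subgroup G) (Subgroup.normalizer ((P : Subgroup G) : Set G)) :=
    IsSylowIn.of_sylow_le P Subgroup.le_normalizer
  have e : NS P (P : Subgroup G) = (P : Subgroup G) := inf_eq_left.2 Subgroup.le_normalizer
  rw [e]
  exact not_dvd_relIndex_of_isSylowIn h

theorem CR_self : CR P (P : Subgroup G) := ⟨mem_F0_self P, fun L _ => inf_le_left⟩

/-- resolutions -/
def Res (B : Set G) (g : G) : Prop :=
  ∃ c ∈ Subgroup.centralizer B, ∃ l : List (Subgroup G × G), g = c * prodL l ∧ DecL {U | CR P U} l B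

omit [Finite G] hp in
theorem rc_centralizer {B : Set G} {c : G} (hc : c ∈ Subgroup.centralizer B) : rc c B = B := by
  ext y
  rw [mem_rc]
  constructor
  · intro h
    have := Subgroup.mem_centralizer_iff.1 hc _ h
    have h2 : c * y = c * (c * y * c⁻¹) := by rw [← this]; group
    rw [mul_left_cancel h2]; exact h
  · intro h
    have := Subgroup.mem_centralizer_iff.1 hc _ h
    have e : c * y * c⁻¹ = y := by rw [← this]; group
    rw [e]; exact h

omit [Finite G] hp in
theorem conj_mem_centralizer {B : Set G} {g c : G} (hc : c ∈ Subgroup.centralizer (rc g B)) :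
    g * c * g⁻¹ ∈ Subgroup.centralizer B := by
  rw [Subgroup.mem_centralizer_iff] at hc ⊢
  intro b hb
  have := hc (g⁻¹ * b * g) ⟨b, hb, rfl⟩
  calc b * (g * c * g⁻¹) = g * ((g⁻¹ * b * g) * c) * g⁻¹ := by group
    _ = g * (c * (g⁻¹ * b * g)) * g⁻¹ := by rw [this]
    _ = g * c * g⁻¹ * b := by group

theorem Res.mono {B B' : Set G} {g : G} (hBB : B' ⊆ B) (h : Res P B g) : Res P B' g := by
  obtain ⟨c, hc, l, hg, hd⟩ := h
  exact ⟨c, Subgroup.centralizer_le hBB hc, l, hg, hd.mono hBB⟩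

theorem Res.comp {B : Set G} {g₁ g₂ : G} (h₁ : Res P B g₁) (h₂ : Res P (rc g₁ B) g₂) :
    Res P B (g₁ * g₂) := by
  obtain ⟨c₁, hc₁, l₁, hg₁, hd₁⟩ := h₁
  obtain ⟨c₂, hc₂, l₂, hg₂, hd₂⟩ := h₂
  have e : rc g₁ B = rc (prodL l₁) B := by
    rw [hg₁, rc_mul, rc_centralizer hc₁]
  rw [e] at hc₂ hd₂
  refine ⟨c₁ * (prodL l₁ * c₂ * (prodL l₁)⁻¹), Subgroup.mul_mem _ hc₁ (conj_mem_centralizer hc₂),
    l₁ ++ l₂, ?_, hd₁.append hd₂⟩
  rw [prodL_append, hg₁, hg₂]; group

theorem Res.of_centralizer {B : Set G} {c : G} (hc : c ∈ Subgroup.centralizer B) : Res P B c :=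
  ⟨c, hc, [], by simp, trivial⟩

theorem Res.of_step {B : Set G} {U : Subgroup G} {x : G} (hU : CR P U)
    (hx : x ∈ Subgroup.normalizer (U : Set G)) (hB : B ⊆ (U : Set G)) : Res P B x :=
  ⟨1, Subgroup.one_mem _, [(U, x)], by simp, hU, hx, hB, trivial⟩

theorem Res.of_mem {B : Set G} {t : G} (ht : t ∈ (P : Subgroup G))
    (hB : B ⊆ ((P : Subgroup G) : Set G)) : Res P B t :=
  Res.of_step P (CR_self P) (Subgroup.le_normalizer ht) hB

/-- Frattini argument for a normal subgroup `L` of `N` -/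
theorem frattini_normal {T L N : Subgroup G} (hT : IsSylowIn p T L) (hLN : L ≤ N)
    (hinv : ∀ n ∈ N, cj n L = L) {x : G} (hx : x ∈ N) :
    ∃ l ∈ L, ∃ w ∈ N ⊓ Subgroup.normalizer (T : Set G), x = l * w := by
  have hxT : IsSylowIn p (cj x T) L := by
    have := isSylowIn_cj x hT
    rwa [hinv x hx] at this
  obtain ⟨h, hh, hconj⟩ := hT.conj hxT
  refine ⟨h, hh, h⁻¹ * x, ⟨N.mul_mem (N.inv_mem (hLN hh)) hx, ?_⟩, by group⟩
  apply mem_normalizer_of_conj_mem
  intro r hr
  have h3 : x * r * x⁻¹ ∈ cj x T := conj_mem_map_conj T x hr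
  rw [hconj, mem_map_conj] at h3
  have e : h⁻¹ * x * r * (h⁻¹ * x)⁻¹ = h⁻¹ * (x * r * x⁻¹) * h := by group
  rw [e]; exact h3

/-- a `p`-group modulo `C` is a Sylow subgroup times a part in `C` -/
theorem decomp_PModC {U L T : Subgroup G} (hL : ∀ k ∈ L, ∃ j : ℕ, k ^ p ^ j ∈ Subgroup.centralizer (U : Set G))
    (hT : IsSylowIn p T L) {l : G} (hl : l ∈ L) :
    ∃ t ∈ T, ∃ c ∈ Subgroup.centralizer (U : Set G), l = t * c := by
  have hidx : ¬ p ∣ (T.subgroupOf L).index := not_dvd_relIndex_of_isSylowIn hT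
  obtain ⟨r, hr, m, hm, hrm⟩ := Cfsg.Agent.Lib.Lead.PResidual.exists_mul (T.subgroupOf L) hidx ⟨l, hl⟩
  have hmC : (m : G) ∈ Subgroup.centralizer (U : Set G) := by
    have hle : Cfsg.pResidual p ↥L ≤ (Subgroup.centralizer (U : Set G)).subgroupOf L := by
      unfold Cfsg.pResidual
      rw [Subgroup.closure_le]
      intro y hy
      have hy' : Nat.Coprime (orderOf y) p := hy
      rw [SetLike.mem_coe, Subgroup.mem_subgroupOf]
      obtain ⟨j, hj⟩ := hL y y.2
      have hcop : Nat.Coprime (p ^ j) (orderOf (y : G)) := by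
        rw [Subgroup.orderOf_coe]
        exact (hy'.pow_right j).symm
      obtain ⟨b, hb⟩ := exists_pow_eq_self_of_coprime hcop
      rw [← hb]
      exact Subgroup.pow_mem _ hj b
    exact Subgroup.mem_subgroupOf.1 (hle hm)
  refine ⟨r, Subgroup.mem_subgroupOf.1 hr, m, hmC, ?_⟩
  have := congrArg Subtype.val hrm
  simpa using this

/-- the induction hypothesis -/
def IH (c : ℕ) : Prop :=
  ∀ W : Subgroup G, W ≤ (P : Subgroup G) → c < Nat.card ↥W → ∀ g : G,
    rc g (W : Set G) ⊆ ((P : Subgroup G) : Set G) → Res P (W : Set G) g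

/-- the key step -/
theorem key {U : Subgroup G} (hU : U ∈ F0 P) (hIH : IH P (Nat.card ↥U))
    {x : G} (hx : x ∈ Subgroup.normalizer (U : Set G)) : Res P (U : Set G) x := by
  by_cases hCR : ∀ L : Subgroup G, PModC p U L → (P : Subgroup G) ⊓ L ≤ U
  · exact Res.of_step P ⟨hU, hCR⟩ hx subset_rfl
  · push_neg at hCR
    obtain ⟨L, ⟨hLN, hinv, hLC⟩, hnot⟩ := hCR
    set N := Subgroup.normalizer (U : Set G) with hN
    set R := (P : Subgroup G) ⊓ N with hRdef
    have hRp : IsPGroup p ↥R := P.isPGroup'.to_le inf_le_left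
    have hR : IsSylowIn p R N := isSylowIn_of_not_dvd_relIndex inf_le_right hRp hU.2
    have hNL : N ≤ Subgroup.normalizer (L : Set G) := by
      intro n hn
      apply mem_normalizer_of_conj_mem
      intro r hr
      rw [← hinv n hn]
      exact conj_mem_map_conj L n hr
    have hT₁ : IsSylowIn p (R ⊓ L) L := hR.inf_normal L hLN hNL
    have hRL : R ⊓ L = (P : Subgroup G) ⊓ L := by
      rw [hRdef, inf_assoc, inf_eq_right.2 hLN]
    rw [hRL] at hT₁
    set T₁ := (P : Subgroup G) ⊓ L with hT₁def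
    obtain ⟨l, hl, m, hm, hxlm⟩ := frattini_normal hT₁ hLN hinv hx
    obtain ⟨t, ht, c, hc, hltc⟩ := decomp_PModC hLC hT₁ hl
    have hUP : (U : Set G) ⊆ ((P : Subgroup G) : Set G) := hU.1
    have htN : t ∈ N := hLN ht.2
    have hcN : c ∈ N := by
      have : c = t⁻¹ * l := by rw [hltc]; group
      rw [this]
      exact N.mul_mem (N.inv_mem htN) (hLN hl)
    -- the three parts
    have h1 : Res P (U : Set G) t := Res.of_mem P ht.1 hUP
    have h2 : Res P (U : Set G) c := Res.of_centralizer P hc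
    have h3 : Res P (U : Set G) m := by
      set T' := U ⊔ T₁ with hT'
      have hUT' : U ≤ T' := le_sup_left
      have hT'P : T' ≤ (P : Subgroup G) := sup_le hU.1 inf_le_left
      have hcard : Nat.card ↥U < Nat.card ↥T' := by
        by_contra hle
        push_neg at hle
        have := Subgroup.eq_of_le_of_card_ge hUT' hle
        apply hnot
        rw [this]
        exact le_sup_right
      have hmT' : T'.map (MulAut.conj m⁻¹).toMonoidHom = T' := by
        have hm1 : m⁻¹ ∈ N := N.inv_mem hm.1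
        have hm2 : m⁻¹ ∈ Subgroup.normalizer (T₁ : Set G) := Subgroup.inv_mem _ hm.2
        show (U ⊔ T₁).map _ = _
        rw [Subgroup.map_sup]
        have e1 : U.map (MulAut.conj m⁻¹).toMonoidHom = U := Cfsg.Agent.S1965.cj_eq_of_mem_normalizer hm1
        have e2 : T₁.map (MulAut.conj m⁻¹).toMonoidHom = T₁ :=
          Cfsg.Agent.S1965.cj_eq_of_mem_normalizer hm2
        rw [e1, e2]
      have hrc : rc m (T' : Set G) ⊆ ((P : Subgroup G) : Set G) := by
        rw [rc_coe, hmT']
        exact hT'P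
      exact (hIH T' hT'P hcard m hrc).mono P hUT'
    have e : x = t * (c * m) := by rw [hxlm, hltc]; group
    rw [e]
    apply Res.comp P h1
    rw [rc_normalizer htN]
    apply Res.comp P h2
    rw [rc_normalizer hcN]
    exact h3

/-- conversion of a chain through fully normalized subgroups -/
theorem convert (c : ℕ) (hIH : IH P c) :
    ∀ (l₀ : List (Subgroup G × G)) (V : Subgroup G), c ≤ Nat.card ↥V → DecL (F0 P) l₀ (V : Set G) →
      Res P (V : Set G) (prodL l₀) := by
  intro l₀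
  induction l₀ with
  | nil =>
    intro V _ _
    exact Res.of_centralizer P (by rw [prodL_nil]; exact Subgroup.one_mem _)
  | cons a l₀ ih =>
    obtain ⟨U, x⟩ := a
    rintro V hcV ⟨hU, hx, hVU, hdec⟩
    have hVU' : V ≤ U := hVU
    have hcU : c ≤ Nat.card ↥U := hcV.trans (Subgroup.card_le_of_le hVU')
    have hIH' : IH P (Nat.card ↥U) := fun W hW hc => hIH W hW (lt_of_le_of_lt hcU hc)
    have h1 := (key P hU hIH' hx).mono P hVU
    rw [rc_coe] at hdec
    have h2 := ih (cj x⁻¹ V) (by rw [card_cj]; exact hcV) hdec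
    rw [prodL_cons]
    apply Res.comp P h1
    rw [rc_coe]
    exact h2

/-- the Alperin–Goldschmidt theorem for subgroups -/
theorem alperin_goldschmidt_subgroup :
    ∀ (m : ℕ) (T : Subgroup G), T ≤ (P : Subgroup G) → Nat.card ↥(P : Subgroup G) - Nat.card ↥T = m →
      ∀ g : G, rc g (T : Set G) ⊆ ((P : Subgroup G) : Set G) → Res P (T : Set G) g := by
  intro m
  induction m using Nat.strong_induction_on with
  | _ m ih =>
  intro T hT hm g hrc
  have hIH : IH P (Nat.card ↥T) := by
    intro W hW hc g' hrc'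
    have hWle : Nat.card ↥W ≤ Nat.card ↥(P : Subgroup G) := Subgroup.card_le_of_le hW
    exact ih (Nat.card ↥(P : Subgroup G) - Nat.card ↥W) (by omega) W hW rfl g' hrc'
  obtain ⟨l₀, hl₀, hdec⟩ := alperin_F0 P (T : Set G) g hT hrc
  have := convert P (Nat.card ↥T) hIH l₀ T le_rfl hdec
  rwa [hl₀] at this

/-- **The Alperin–Goldschmidt fusion theorem** -/
theorem alperin_goldschmidt (A : Set G) (g : G) (hA : A ⊆ ((P : Subgroup G) : Set G))
    (hrc : rc g A ⊆ ((P : Subgroup G) : Set G)) : Res P A g := by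
  set T := Subgroup.closure A with hT
  have hTP : T ≤ (P : Subgroup G) := (Subgroup.closure_le _).2 hA
  have hTg : T ≤ cj g (P : Subgroup G) := by
    rw [hT, Subgroup.closure_le]
    intro a ha
    rw [SetLike.mem_coe, mem_cj]
    exact hrc ⟨a, ha, rfl⟩
  have hrcT : rc g (T : Set G) ⊆ ((P : Subgroup G) : Set G) := by
    intro y hy
    rw [mem_rc] at hy
    have := hTg hy
    rw [mem_cj] at this
    have e : g⁻¹ * (g * y * g⁻¹) * g = y := by group
    rwa [e] at this
  exact (alperin_goldschmidt_subgroup P _ T hTP rfl g hrcT).mono P Subgroup.subset_closure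

/-- products along a chain inside a subgroup `X` -/
theorem prodL_mem {𝓕 : Set (Subgroup G)} (X : Subgroup G)
    (h : ∀ U ∈ 𝓕, Subgroup.normalizer (U : Set G) ≤ X) :
    ∀ (l : List (Subgroup G × G)) (B : Set G), DecL 𝓕 l B → prodL l ∈ X := by
  intro l
  induction l with
  | nil => intro B _; rw [prodL_nil]; exact X.one_mem
  | cons a l ih =>
    obtain ⟨U, x⟩ := a
    rintro B ⟨hU, hx, hBU, hdec⟩
    rw [prodL_cons]
    exact X.mul_mem (h U hU hx) (ih _ hdec)

end Cfsg.Agent.Lib.Lead.AlperinGoldschmidt
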