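import Mathlib
import Cfsg.Prelude.Def_CaseTheorems

/-!
# Quasi-dihedral groups: normal forms with `ZMod (2 ^ n)` exponents (lead)

The quasi-dihedral group `S` of order `2 ^ (n + 1)` sits inside an ambient group `G`;
its elements are `P i = x ^ i` and `y * P i`, `i : ZMod (2 ^ n)`.
-/

set_option autoImplicit false
set_option linter.style.haveILetI false
set_option linter.unusedVariables false
set_option linter.unusedSectionVars false

namespace Cfsg.Agent.Lead.QD

variable {G : Type*} [Group G]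

/-- the data of a quasi-dihedral subgroup -/
structure Dat (n : ℕ) (x y : G) (S : Subgroup G) : Prop where
  hn : 3 ≤ n
  ox : orderOf x = 2 ^ n
  oy : orderOf y = 2
  conj : y * x * y⁻¹ = x ^ (2 ^ (n - 1) - 1)
  xS : x ∈ S
  yS : y ∈ S
  card : Nat.card S = 2 ^ (n + 1)

instance instNeZeroTwoPow (n : ℕ) : NeZero (2 ^ n) := ⟨by positivity⟩

/-- powers with exponents in `ZMod (2 ^ n)` -/
def P (n : ℕ) (x : G) (i : ZMod (2 ^ n)) : G := x ^ i.val

/-- the element `2 ^ (n - 1)` -/
def c (n : ℕ) : ZMod (2 ^ n) := ((2 ^ (n - 1) : ℕ) : ZMod (2 ^ n))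

/-- the element `2 ^ (n - 2)` -/
def d (n : ℕ) : ZMod (2 ^ n) := ((2 ^ (n - 2) : ℕ) : ZMod (2 ^ n))

/-- the element `2 ^ (n - 3)` -/
def d' (n : ℕ) : ZMod (2 ^ n) := ((2 ^ (n - 3) : ℕ) : ZMod (2 ^ n))

section ring

variable {n : ℕ}

theorem two_c (hn : 3 ≤ n) : 2 * c n = 0 := by
  unfold c
  have h : ((2 : ℕ) : ZMod (2 ^ n)) * ((2 ^ (n - 1) : ℕ) : ZMod (2 ^ n)) = 0 := by
    rw [← Nat.cast_mul, ZMod.natCast_eq_zero_iff, ← pow_succ']
    have : n - 1 + 1 = n := by omega
    rw [this]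
  simpa using h

theorem two_d (hn : 3 ≤ n) : 2 * d n = c n := by
  unfold c d
  have h : ((2 : ℕ) : ZMod (2 ^ n)) * ((2 ^ (n - 2) : ℕ) : ZMod (2 ^ n)) =
      ((2 ^ (n - 1) : ℕ) : ZMod (2 ^ n)) := by
    rw [← Nat.cast_mul, ← pow_succ']
    have : n - 2 + 1 = n - 1 := by omega
    rw [this]
  simpa using h

theorem two_d' (hn : 3 ≤ n) : 2 * d' n = d n := by
  unfold d d'
  have h : ((2 : ℕ) : ZMod (2 ^ n)) * ((2 ^ (n - 3) : ℕ) : ZMod (2 ^ n)) =
      ((2 ^ (n - 2) : ℕ) : ZMod (2 ^ n)) := by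
    rw [← Nat.cast_mul, ← pow_succ']
    have : n - 3 + 1 = n - 2 := by omega
    rw [this]
  simpa using h

theorem c_mul_d (hn : 3 ≤ n) : c n * d n = 0 := by
  unfold c d
  rw [← Nat.cast_mul, ZMod.natCast_eq_zero_iff, ← pow_add]
  exact pow_dvd_pow 2 (by omega)

theorem c_sq (hn : 3 ≤ n) : c n * c n = 0 := by
  calc c n * c n = c n * (2 * d n) := by rw [two_d hn]
    _ = 2 * (c n * d n) := by ring
    _ = 0 := by rw [c_mul_d hn, mul_zero]

theorem d_cube (hn : 3 ≤ n) : d n * d n * d n = 0 := by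
  unfold d
  rw [← Nat.cast_mul, ← Nat.cast_mul, ZMod.natCast_eq_zero_iff, ← pow_add, ← pow_add]
  exact pow_dvd_pow 2 (by omega)

theorem c_ne (hn : 3 ≤ n) : c n ≠ 0 := by
  unfold c
  intro h
  rw [ZMod.natCast_eq_zero_iff] at h
  have := (Nat.pow_dvd_pow_iff_le_right (by norm_num : 1 < 2)).1 h
  omega

theorem d_ne (hn : 3 ≤ n) : d n ≠ 0 := by
  intro h
  have := two_d hn
  rw [h, mul_zero] at this
  exact c_ne hn this.symm

theorem d_ne_c (hn : 3 ≤ n) : d n ≠ c n := by
  intro h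
  have h1 := two_d hn
  rw [h, two_c hn] at h1
  exact c_ne hn h1.symm

/-- `2 * i = 0` iff `i ∈ {0, c}` -/
theorem two_mul_eq_zero (hn : 3 ≤ n) (i : ZMod (2 ^ n)) : 2 * i = 0 ↔ i = 0 ∨ i = c n := by
  constructor
  · intro h
    have h1 : ((2 * i.val : ℕ) : ZMod (2 ^ n)) = 0 := by
      rw [Nat.cast_mul, ZMod.natCast_zmod_val]; simpa using h
    rw [ZMod.natCast_eq_zero_iff] at h1
    have hlt : i.val < 2 ^ n := ZMod.val_lt i
    have hpow : 2 ^ n = 2 * 2 ^ (n - 1) := by
      rw [← pow_succ']; congr 1; omega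
    obtain ⟨k, hm⟩ := h1
    have hpos : 0 < 2 ^ (n - 1) := by positivity
    have hk : i.val = 2 ^ (n - 1) * k := by
      have : 2 * i.val = 2 * (2 ^ (n - 1) * k) := by rw [hm, hpow]; ring
      omega
    have hlt' : i.val < 2 * 2 ^ (n - 1) := by rw [← hpow]; exact hlt
    have hk2 : k < 2 := by
      by_contra hcon
      push_neg at hcon
      have : 2 ^ (n - 1) * 2 ≤ 2 ^ (n - 1) * k := Nat.mul_le_mul_left _ hcon
      omega
    interval_cases k
    · left
      rw [mul_zero] at hk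
      exact (ZMod.val_eq_zero i).1 hk
    · right
      rw [mul_one] at hk
      unfold c
      rw [← hk, ZMod.natCast_zmod_val]
  · rintro (h | h)
    · rw [h, mul_zero]
    · rw [h, two_c hn]

/-- `2 * i = c` iff `i ∈ {d, d + c}` -/
theorem two_mul_eq_c (hn : 3 ≤ n) (i : ZMod (2 ^ n)) : 2 * i = c n ↔ i = d n ∨ i = d n + c n := by
  constructor
  · intro h
    have h1 : 2 * (i - d n) = 0 := by rw [mul_sub, h, two_d hn, sub_self]
    rcases (two_mul_eq_zero hn _).1 h1 with h2 | h2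
    · left; exact sub_eq_zero.1 h2
    · right; rw [← h2]; ring
  · rintro (h | h)
    · rw [h, two_d hn]
    · rw [h, mul_add, two_d hn, two_c hn, add_zero]

/-- `4 * i = 0` iff `i ∈ {0, d, c, d + c}` -/
theorem four_mul_eq_zero (hn : 3 ≤ n) (i : ZMod (2 ^ n)) :
    4 * i = 0 ↔ i = 0 ∨ i = d n ∨ i = c n ∨ i = d n + c n := by
  constructor
  · intro h
    have h1 : 2 * (2 * i) = 0 := by rw [← mul_assoc]; norm_num; exact h
    rcases (two_mul_eq_zero hn _).1 h1 with h2 | h2
    · rcases (two_mul_eq_zero hn _).1 h2 with h3 | h3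
      · exact Or.inl h3
      · exact Or.inr (Or.inr (Or.inl h3))
    · rcases (two_mul_eq_c hn _).1 h2 with h3 | h3
      · exact Or.inr (Or.inl h3)
      · exact Or.inr (Or.inr (Or.inr h3))
  · have h4 : (4 : ZMod (2 ^ n)) = 2 * 2 := by norm_num
    rintro (h | h | h | h)
    · rw [h, mul_zero]
    · rw [h, h4, mul_assoc, two_d hn, two_c hn]
    · rw [h, h4, mul_assoc, two_c hn, mul_zero]
    · rw [h, h4, mul_assoc, mul_add, two_d hn, two_c hn, add_zero, two_c hn]

/-- parity -/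
theorem even_or_odd (i : ZMod (2 ^ n)) : (∃ k, i = 2 * k) ∨ (∃ k, i = 2 * k + 1) := by
  rcases Nat.even_or_odd' i.val with ⟨k, hk | hk⟩
  · left
    refine ⟨(k : ZMod (2 ^ n)), ?_⟩
    rw [← ZMod.natCast_zmod_val i, hk]; push_cast; ring
  · right
    refine ⟨(k : ZMod (2 ^ n)), ?_⟩
    rw [← ZMod.natCast_zmod_val i, hk]; push_cast; ring

theorem c_mul_even (hn : 3 ≤ n) (k : ZMod (2 ^ n)) : c n * (2 * k) = 0 := by
  rw [← mul_assoc, mul_comm (c n) 2, two_c hn, zero_mul]

theorem c_mul_odd (hn : 3 ≤ n) (k : ZMod (2 ^ n)) : c n * (2 * k + 1) = c n := by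
  rw [mul_add, c_mul_even hn, zero_add, mul_one]

theorem c_mul_cases (hn : 3 ≤ n) (i : ZMod (2 ^ n)) : c n * i = 0 ∨ c n * i = c n := by
  rcases even_or_odd i with ⟨k, rfl⟩ | ⟨k, rfl⟩
  · exact Or.inl (c_mul_even hn k)
  · exact Or.inr (c_mul_odd hn k)

theorem even_of_c_mul (hn : 3 ≤ n) (i : ZMod (2 ^ n)) (h : c n * i = 0) : ∃ k, i = 2 * k := by
  rcases even_or_odd i with ⟨k, rfl⟩ | ⟨k, rfl⟩
  · exact ⟨k, rfl⟩
  · rw [c_mul_odd hn] at h; exact absurd h (c_ne hn)

theorem odd_of_c_mul (hn : 3 ≤ n) (i : ZMod (2 ^ n)) (h : c n * i = c n) : ∃ k, i = 2 * k + 1 := by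
  rcases even_or_odd i with ⟨k, rfl⟩ | ⟨k, rfl⟩
  · rw [c_mul_even hn] at h; exact absurd h.symm (c_ne hn)
  · exact ⟨k, rfl⟩

/-- the inverse of `1 - d` -/
def eps (n : ℕ) : ZMod (2 ^ n) := 1 + d n + d n * d n

theorem eps_mul (hn : 3 ≤ n) : (1 - d n) * eps n = 1 := by
  unfold eps
  have h := d_cube hn
  linear_combination (-1 : ZMod (2 ^ n)) * h

/-- the shift `(c - 2) * j` realises every even number -/
theorem shift_solve (hn : 3 ≤ n) (k : ZMod (2 ^ n)) : (c n - 2) * (-(k * eps n)) = 2 * k := by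
  have h1 := eps_mul hn
  have h2 := two_d hn
  linear_combination (2 * k) * h1 + (k * eps n) * h2

theorem shift_eq_zero (hn : 3 ≤ n) (j : ZMod (2 ^ n)) : (c n - 2) * j = 0 ↔ j = 0 ∨ j = c n := by
  rw [← two_mul_eq_zero hn]
  have h1 := eps_mul hn
  have h2 := two_d hn
  constructor
  · intro h
    linear_combination (-eps n) * h - (2 * j) * h1 - (j * eps n) * h2
  · intro h
    linear_combination (d n - 1) * h + (-j) * h2

end ring

section group

variable {n : ℕ} {x y : G} {S : Subgroup G}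

theorem x_pow (h : Dat n x y S) : x ^ (2 ^ n) = 1 := by
  rw [← h.ox]; exact pow_orderOf_eq_one x

theorem P_add (h : Dat n x y S) (i j : ZMod (2 ^ n)) : P n x (i + j) = P n x i * P n x j := by
  unfold P
  rw [ZMod.val_add, ← pow_eq_pow_mod _ (x_pow h), pow_add]

theorem P_zero (x : G) : P n x 0 = 1 := by
  unfold P; rw [ZMod.val_zero, pow_zero]

theorem P_neg (h : Dat n x y S) (i : ZMod (2 ^ n)) : P n x (-i) = (P n x i)⁻¹ := by
  apply eq_inv_of_mul_eq_one_left
  rw [← P_add h, neg_add_cancel, P_zero]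

theorem P_sub (h : Dat n x y S) (i j : ZMod (2 ^ n)) :
    P n x (i - j) = P n x i * (P n x j)⁻¹ := by
  rw [sub_eq_add_neg, P_add h, P_neg h]

theorem P_natCast (h : Dat n x y S) (k : ℕ) : P n x (k : ZMod (2 ^ n)) = x ^ k := by
  unfold P
  rw [ZMod.val_natCast, ← pow_eq_pow_mod _ (x_pow h)]

theorem P_one (h : Dat n x y S) : P n x 1 = x := by
  have := P_natCast h 1
  simpa using this

theorem P_inj (h : Dat n x y S) {i j : ZMod (2 ^ n)} (hij : P n x i = P n x j) : i = j := by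
  unfold P at hij
  apply ZMod.val_injective
  have hi : i.val < orderOf x := by rw [h.ox]; exact ZMod.val_lt i
  have hj : j.val < orderOf x := by rw [h.ox]; exact ZMod.val_lt j
  exact pow_injOn_Iio_orderOf hi hj hij

theorem P_eq_one (h : Dat n x y S) {i : ZMod (2 ^ n)} : P n x i = 1 ↔ i = 0 := by
  constructor
  · intro hi
    apply P_inj h
    rw [hi, P_zero]
  · rintro rfl; exact P_zero x

theorem P_mem (h : Dat n x y S) (i : ZMod (2 ^ n)) : P n x i ∈ S :=
  Subgroup.pow_mem _ h.xS _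

theorem P_comm (h : Dat n x y S) (i j : ZMod (2 ^ n)) :
    P n x i * P n x j = P n x j * P n x i := by
  rw [← P_add h, ← P_add h, add_comm]

theorem P_pow (h : Dat n x y S) (i : ZMod (2 ^ n)) (k : ℕ) :
    (P n x i) ^ k = P n x ((k : ZMod (2 ^ n)) * i) := by
  induction k with
  | zero => simp [P_zero]
  | succ k ih =>
    rw [pow_succ, ih, ← P_add h]
    congr 1
    push_cast; ring

theorem y_inv (h : Dat n x y S) : y⁻¹ = y := by
  have h1 : y ^ 2 = 1 := by rw [← h.oy]; exact pow_orderOf_eq_one y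
  rw [pow_two] at h1
  exact inv_eq_of_mul_eq_one_left h1

theorem y_mul_y (h : Dat n x y S) : y * y = 1 := by
  have h1 : y ^ 2 = 1 := by rw [← h.oy]; exact pow_orderOf_eq_one y
  rwa [pow_two] at h1

/-- conjugation by `y` multiplies exponents by `c - 1` -/
theorem conj_P (h : Dat n x y S) (i : ZMod (2 ^ n)) :
    y * P n x i * y⁻¹ = P n x ((c n - 1) * i) := by
  have h1 : ∀ k : ℕ, y * x ^ k * y⁻¹ = (y * x * y⁻¹) ^ k := by
    intro k
    induction k with
    | zero => simp
    | succ k ih =>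
      rw [pow_succ, pow_succ, ← ih]; group
  have h2 : (c n - 1) * i = (((2 ^ (n - 1) - 1) * i.val : ℕ) : ZMod (2 ^ n)) := by
    have h3 : 1 ≤ 2 ^ (n - 1) := Nat.one_le_two_pow
    rw [Nat.cast_mul, Nat.cast_sub h3, ZMod.natCast_zmod_val]
    unfold c
    push_cast; ring
  rw [h2, P_natCast h]
  unfold P
  rw [h1, h.conj, ← pow_mul]

theorem P_mul_y (h : Dat n x y S) (i : ZMod (2 ^ n)) :
    P n x i * y = y * P n x ((c n - 1) * i) := by
  rw [← conj_P h, y_inv h]
  have := y_mul_y h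
  calc P n x i * y = (y * y) * P n x i * y := by rw [this, one_mul]
    _ = y * (y * P n x i * y) := by group

theorem r_sq (hn : 3 ≤ n) : (c n - 1) * (c n - 1) = 1 := by
  have h1 := c_sq hn
  have h2 := two_c hn
  linear_combination h1 - h2

/-- product of two elements outside `⟨x⟩` -/
theorem yP_mul_yP (h : Dat n x y S) (i j : ZMod (2 ^ n)) :
    (y * P n x i) * (y * P n x j) = P n x ((c n - 1) * i + j) := by
  rw [P_add h]
  calc (y * P n x i) * (y * P n x j) = y * (P n x i * y) * P n x j := by group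
    _ = y * (y * P n x ((c n - 1) * i)) * P n x j := by rw [P_mul_y h]
    _ = (y * y) * P n x ((c n - 1) * i) * P n x j := by group
    _ = P n x ((c n - 1) * i) * P n x j := by rw [y_mul_y h, one_mul]

theorem P_mul_yP (h : Dat n x y S) (i j : ZMod (2 ^ n)) :
    P n x i * (y * P n x j) = y * P n x ((c n - 1) * i + j) := by
  rw [P_add h, ← mul_assoc, P_mul_y h, mul_assoc]

theorem yP_mul_P (h : Dat n x y S) (i j : ZMod (2 ^ n)) :
    (y * P n x i) * P n x j = y * P n x (i + j) := by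
  rw [P_add h, mul_assoc]

theorem yP_inv (h : Dat n x y S) (i : ZMod (2 ^ n)) :
    (y * P n x i)⁻¹ = y * P n x (-((c n - 1) * i)) := by
  apply inv_eq_of_mul_eq_one_right
  rw [yP_mul_yP h, add_neg_cancel, P_zero]

theorem yP_mem (h : Dat n x y S) (i : ZMod (2 ^ n)) : y * P n x i ∈ S :=
  Subgroup.mul_mem _ h.yS (P_mem h i)

/-- `y` is not a power of `x` -/
theorem y_ne_P (h : Dat n x y S) (i j : ZMod (2 ^ n)) : y * P n x i ≠ P n x j := by
  intro hij
  have hy : y = P n x (j - i) := by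
    rw [P_sub h, ← hij]; group
  -- then y commutes with x
  have h1 : y * P n x 1 * y⁻¹ = P n x 1 := by
    rw [hy, ← P_neg h, ← P_add h, ← P_add h]; congr 1; ring
  rw [conj_P h] at h1
  have h2 := P_inj h h1
  have h3 : c n - 2 = 0 := by linear_combination h2
  have h4 : 2 * (c n - 2) = 0 := by rw [h3, mul_zero]
  have h5 : (4 : ZMod (2 ^ n)) = 0 := by
    have := two_c h.hn
    linear_combination this - h4
  have h6 : ((4 : ℕ) : ZMod (2 ^ n)) = 0 := by exact_mod_cast h5
  rw [ZMod.natCast_eq_zero_iff] at h6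
  have h7 : (2 : ℕ) ^ n ∣ 2 ^ 2 := by simpa using h6
  have := (Nat.pow_dvd_pow_iff_le_right (by norm_num : 1 < 2)).1 h7
  have := h.hn
  omega

theorem yP_inj (h : Dat n x y S) {i j : ZMod (2 ^ n)} (hij : y * P n x i = y * P n x j) :
    i = j := P_inj h (mul_left_cancel hij)

/-- the normal form: every element of `S` is `P i` or `y * P i` -/
theorem mem_cases [Finite G] (h : Dat n x y S) (s : G) (hs : s ∈ S) :
    (∃ i, s = P n x i) ∨ (∃ i, s = y * P n x i) := by
  classical
  let f : ZMod (2 ^ n) × Fin 2 → ↥S := fun p =>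
    if p.2 = 0 then ⟨P n x p.1, P_mem h _⟩ else ⟨y * P n x p.1, yP_mem h _⟩
  have hf : Function.Injective f := by
    rintro ⟨i, a⟩ ⟨j, b⟩ hab
    simp only [f] at hab
    fin_cases a <;> fin_cases b
    · simp only [Fin.zero_eta, if_true] at hab
      have := P_inj h (congrArg Subtype.val hab)
      simp [this]
    · exfalso
      simp only [Fin.zero_eta, Fin.mk_one, if_true] at hab
      have hab' := congrArg Subtype.val hab
      simp only [Fin.isValue, one_ne_zero, if_false] at hab'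
      exact y_ne_P h j i hab'.symm
    · exfalso
      simp only [Fin.zero_eta, Fin.mk_one, if_true] at hab
      have hab' := congrArg Subtype.val hab
      simp only [Fin.isValue, one_ne_zero, if_false] at hab'
      exact y_ne_P h i j hab'
    · have hab' := congrArg Subtype.val hab
      simp only [Fin.mk_one, Fin.isValue, one_ne_zero, if_false] at hab'
      have := yP_inj h hab'
      simp [this]
  have hbij : Function.Bijective f := by
    apply hf.bijective_of_nat_card_le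
    rw [h.card, Nat.card_prod, Nat.card_eq_fintype_card, Nat.card_eq_fintype_card, ZMod.card,
      Fintype.card_fin, pow_succ]
  obtain ⟨⟨i, a⟩, hia⟩ := hbij.2 ⟨s, hs⟩
  have hia' := congrArg Subtype.val hia
  simp only [f] at hia'
  by_cases ha : a = 0
  · left
    rw [if_pos ha] at hia'
    exact ⟨i, hia'.symm⟩
  · right
    rw [if_neg ha] at hia'
    exact ⟨i, hia'.symm⟩

/-- the central involution -/
theorem z_central (h : Dat n x y S) (i : ZMod (2 ^ n)) :
    (y * P n x i) * P n x (c n) = P n x (c n) * (y * P n x i) := by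
  rw [yP_mul_P h, P_mul_yP h]
  congr 2
  have h1 := c_sq h.hn
  have h2 := two_c h.hn
  linear_combination -h1 + h2

/-- conjugation of `y * P i` by `P j` -/
theorem P_conj_yP (h : Dat n x y S) (i j : ZMod (2 ^ n)) :
    P n x j * (y * P n x i) * (P n x j)⁻¹ = y * P n x (i + (c n - 2) * j) := by
  rw [P_mul_yP h, ← P_neg h, yP_mul_P h]
  congr 2
  ring

/-- conjugation of `y * P i` by `y * P j` -/
theorem yP_conj_yP (h : Dat n x y S) (i j : ZMod (2 ^ n)) :
    (y * P n x j) * (y * P n x i) * (y * P n x j)⁻¹ =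
      y * P n x ((c n - 1) * i + (2 - c n) * j) := by
  rw [yP_mul_yP h, yP_inv h, P_mul_yP h]
  congr 2
  have h1 := r_sq h.hn
  linear_combination j * h1

/-- conjugation of `P i` by `y * P j` -/
theorem yP_conj_P (h : Dat n x y S) (i j : ZMod (2 ^ n)) :
    (y * P n x j) * P n x i * (y * P n x j)⁻¹ = P n x ((c n - 1) * i) := by
  rw [yP_mul_P h, yP_inv h, yP_mul_yP h]
  congr 1
  ring

theorem sq_yP (h : Dat n x y S) (i : ZMod (2 ^ n)) :
    (y * P n x i) * (y * P n x i) = P n x (c n * i) := by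
  rw [yP_mul_yP h]; congr 1; ring

end group

end Cfsg.Agent.Lead.QD
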