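import Mathlib
import Cfsg.Agent.Lib.Lead.QDBasic

/-!
# Quasi-dihedral groups: orders of elements and conjugacy (lead)
-/

set_option autoImplicit false
set_option linter.style.haveILetI false
set_option linter.unusedVariables false
set_option linter.unusedSectionVars false

namespace Cfsg.Agent.Lead.QD

variable {G : Type*} [Group G] {n : ℕ} {x y : G} {S : Subgroup G}

theorem P_mul_self (h : Dat n x y S) (i : ZMod (2 ^ n)) : P n x i * P n x i = P n x (2 * i) := by
  rw [← P_add h, two_mul]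

theorem P_sq_eq_one (h : Dat n x y S) (i : ZMod (2 ^ n)) :
    P n x i * P n x i = 1 ↔ i = 0 ∨ i = c n := by
  rw [P_mul_self h, P_eq_one h, two_mul_eq_zero h.hn]

theorem orderOf_P_two (h : Dat n x y S) (i : ZMod (2 ^ n)) : orderOf (P n x i) = 2 ↔ i = c n := by
  constructor
  · intro ho
    have h1 : P n x i * P n x i = 1 := by
      rw [← pow_two, ← ho]; exact pow_orderOf_eq_one _
    rcases (P_sq_eq_one h i).1 h1 with h2 | h2
    · rw [h2, P_zero, orderOf_one] at ho; omega
    · exact h2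
  · rintro rfl
    apply orderOf_eq_prime
    · rw [pow_two, P_sq_eq_one h]; exact Or.inr rfl
    · rw [Ne, P_eq_one h]; exact c_ne h.hn

theorem orderOf_z (h : Dat n x y S) : orderOf (P n x (c n)) = 2 := (orderOf_P_two h _).2 rfl

theorem orderOf_yP_even (h : Dat n x y S) (i : ZMod (2 ^ n)) (hi : c n * i = 0) :
    orderOf (y * P n x i) = 2 := by
  apply orderOf_eq_prime
  · rw [pow_two, sq_yP h, hi, P_zero]
  · intro h1
    have : y * P n x i = P n x 0 := by rw [h1, P_zero]
    exact y_ne_P h _ _ this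

theorem orderOf_yP_odd (h : Dat n x y S) (i : ZMod (2 ^ n)) (hi : c n * i = c n) :
    orderOf (y * P n x i) = 4 := by
  have h4 : (4 : ℕ) = 2 ^ (1 + 1) := by norm_num
  rw [h4]
  apply orderOf_eq_prime_pow
  · rw [pow_one, pow_two, sq_yP h, hi, P_eq_one h]; exact c_ne h.hn
  · have : (y * P n x i) ^ 2 ^ (1 + 1) = ((y * P n x i) * (y * P n x i)) *
        ((y * P n x i) * (y * P n x i)) := by
      rw [show (2 : ℕ) ^ (1 + 1) = 2 + 2 by norm_num, pow_add, pow_two]
    rw [this, sq_yP h, hi, P_sq_eq_one h]; exact Or.inr rfl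

theorem orderOf_yP_cases (h : Dat n x y S) (i : ZMod (2 ^ n)) :
    (c n * i = 0 ∧ orderOf (y * P n x i) = 2) ∨ (c n * i = c n ∧ orderOf (y * P n x i) = 4) := by
  rcases c_mul_cases h.hn i with hi | hi
  · exact Or.inl ⟨hi, orderOf_yP_even h i hi⟩
  · exact Or.inr ⟨hi, orderOf_yP_odd h i hi⟩

theorem orderOf_P_four (h : Dat n x y S) (i : ZMod (2 ^ n)) :
    orderOf (P n x i) = 4 ↔ i = d n ∨ i = d n + c n := by
  rw [← two_mul_eq_c h.hn]
  constructor
  · intro ho
    have h1 : (P n x i * P n x i) * (P n x i * P n x i) = 1 := by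
      have : (P n x i * P n x i) * (P n x i * P n x i) = (P n x i) ^ 4 := by
        rw [show (4 : ℕ) = 2 + 2 by norm_num, pow_add, pow_two]
      rw [this, ← ho]; exact pow_orderOf_eq_one _
    rw [P_mul_self h, P_sq_eq_one h] at h1
    rcases h1 with h2 | h2
    · exfalso
      have h3 : (P n x i) ^ 2 = 1 := by rw [pow_two, P_mul_self h, h2, P_zero]
      have := orderOf_dvd_of_pow_eq_one h3
      rw [ho] at this; omega
    · exact h2
  · intro hi
    have h4 : (4 : ℕ) = 2 ^ (1 + 1) := by norm_num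
    rw [h4]
    apply orderOf_eq_prime_pow
    · rw [pow_one, pow_two, P_mul_self h, hi, P_eq_one h]; exact c_ne h.hn
    · have : (P n x i) ^ 2 ^ (1 + 1) = (P n x i * P n x i) * (P n x i * P n x i) := by
        rw [show (2 : ℕ) ^ (1 + 1) = 2 + 2 by norm_num, pow_add, pow_two]
      rw [this, P_mul_self h, hi, P_sq_eq_one h]; exact Or.inr rfl

/-- elements `y * P i`, `y * P i'` with `i' - i` even are conjugate under `⟨x⟩` -/
theorem exists_conj_yP (h : Dat n x y S) (i i' : ZMod (2 ^ n)) (hi : c n * (i' - i) = 0) :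
    ∃ j, P n x j * (y * P n x i) * (P n x j)⁻¹ = y * P n x i' := by
  obtain ⟨k, hk⟩ := even_of_c_mul h.hn _ hi
  refine ⟨-(k * eps n), ?_⟩
  rw [P_conj_yP h, shift_solve h.hn, ← hk]
  congr 2; ring

/-- `P (c n)` is central in `S` -/
theorem z_comm [Finite G] (h : Dat n x y S) (s : G) (hs : s ∈ S) :
    s * P n x (c n) = P n x (c n) * s := by
  rcases mem_cases h s hs with ⟨i, rfl⟩ | ⟨i, rfl⟩
  · exact P_comm h _ _
  · exact z_central h i

theorem d_add_c (hn : 3 ≤ n) : d n + c n = -d n := by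
  have h1 := two_d hn
  have h2 := two_c hn
  linear_combination h1 + h2

theorem r_mul_d (hn : 3 ≤ n) : (c n - 1) * d n = -d n := by
  have h1 := c_mul_d hn
  linear_combination h1

theorem r_mul_even (hn : 3 ≤ n) (i : ZMod (2 ^ n)) (hi : c n * i = 0) : (c n - 1) * i = -i := by
  linear_combination hi

theorem r_mul_odd (hn : 3 ≤ n) (i : ZMod (2 ^ n)) (hi : c n * i = c n) :
    (c n - 1) * i = c n - i := by
  linear_combination hi

end Cfsg.Agent.Lead.QD
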