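import Mathlib
import Cfsg.Agent.Lib.Lead.QDOrders

/-!
# Quasi-dihedral groups: four-subgroups and quaternion subgroups (lead)
-/

set_option autoImplicit false
set_option linter.style.haveILetI false
set_option linter.unusedVariables false
set_option linter.unusedSectionVars false

namespace Cfsg.Agent.Lead.QD

variable {G : Type*} [Group G] {n : ℕ} {x y : G} {S : Subgroup G}

/-- the set `{P j, y * P (i + j) : m * j = 0}` -/
def Hs (n : ℕ) (x y : G) (i m : ZMod (2 ^ n)) : Set G :=
  {g | ∃ j, m * j = 0 ∧ (g = P n x j ∨ g = y * P n x (i + j))}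

theorem card_mul_relIndex {H K : Subgroup G} (hHK : H ≤ K) :
    Nat.card H * H.relIndex K = Nat.card K := by
  have h1 := Subgroup.card_mul_index (H.subgroupOf K)
  rw [Nat.card_congr (Subgroup.subgroupOfEquivOfLe hHK).toEquiv] at h1
  exact h1

theorem Hs_two_subset (hn : 3 ≤ n) (i : ZMod (2 ^ n)) :
    Hs n x y i 2 ⊆ ({P n x 0, P n x (c n), y * P n x i, y * P n x (i + c n)} : Set G) := by
  rintro g ⟨j, hj, hg⟩
  rw [two_mul_eq_zero hn] at hj
  simp only [Set.mem_insert_iff, Set.mem_singleton_iff]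
  rcases hj with rfl | rfl <;> rcases hg with rfl | rfl
  · exact Or.inl rfl
  · right; right; left; rw [add_zero]
  · right; left; rfl
  · right; right; right; rfl

theorem Hs_four_subset (hn : 3 ≤ n) (i : ZMod (2 ^ n)) :
    Hs n x y i 4 ⊆ ({P n x 0, P n x (d n), P n x (c n), P n x (d n + c n), y * P n x i,
      y * P n x (i + d n), y * P n x (i + c n), y * P n x (i + (d n + c n))} : Set G) := by
  rintro g ⟨j, hj, hg⟩
  rw [four_mul_eq_zero hn] at hj
  simp only [Set.mem_insert_iff, Set.mem_singleton_iff]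
  rcases hj with rfl | rfl | rfl | rfl <;> rcases hg with rfl | rfl
  · exact Or.inl rfl
  · right; right; right; right; left; rw [add_zero]
  · right; left; rfl
  · right; right; right; right; right; left; rfl
  · right; right; left; rfl
  · right; right; right; right; right; right; left; rfl
  · right; right; right; left; rfl
  · right; right; right; right; right; right; right; rfl

theorem ncard_four_le (a b c' e : G) : ({a, b, c', e} : Set G).ncard ≤ 4 := by
  refine (Set.ncard_insert_le _ _).trans (Nat.succ_le_succ ?_)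
  refine (Set.ncard_insert_le _ _).trans (Nat.succ_le_succ ?_)
  refine (Set.ncard_insert_le _ _).trans (Nat.succ_le_succ ?_)
  rw [Set.ncard_singleton]

theorem Hs_two_ncard (hn : 3 ≤ n) (i : ZMod (2 ^ n)) : (Hs n x y i 2).ncard ≤ 4 := by
  refine (Set.ncard_le_ncard (Hs_two_subset hn i) (Set.toFinite _)).trans ?_
  exact ncard_four_le _ _ _ _

theorem Hs_four_ncard (hn : 3 ≤ n) (i : ZMod (2 ^ n)) : (Hs n x y i 4).ncard ≤ 8 := by
  refine (Set.ncard_le_ncard (Hs_four_subset hn i) (Set.toFinite _)).trans ?_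
  refine (Set.ncard_insert_le _ _).trans (Nat.succ_le_succ ?_)
  refine (Set.ncard_insert_le _ _).trans (Nat.succ_le_succ ?_)
  refine (Set.ncard_insert_le _ _).trans (Nat.succ_le_succ ?_)
  refine (Set.ncard_insert_le _ _).trans (Nat.succ_le_succ ?_)
  exact ncard_four_le _ _ _ _

/-- a subgroup contained in `Hs` of the right order equals it -/
theorem eq_Hs_of_subset [Finite G] (H : Subgroup G) (i m : ZMod (2 ^ n)) (k : ℕ)
    (hsub : (H : Set G) ⊆ Hs n x y i m) (hcard : Nat.card H = k) (hle : (Hs n x y i m).ncard ≤ k) :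
    (H : Set G) = Hs n x y i m := by
  apply Set.eq_of_subset_of_ncard_le hsub _ (Set.toFinite _)
  have : (H : Set G).ncard = Nat.card H := (Nat.card_coe_set_eq (H : Set G)).symm
  rw [this, hcard]; exact hle

/-- elements of `S` commuting with `y * P i` -/
theorem cent_yP [Finite G] (h : Dat n x y S) (i : ZMod (2 ^ n)) (g : G) (hg : g ∈ S)
    (hc : g * (y * P n x i) = (y * P n x i) * g) :
    g = P n x 0 ∨ g = P n x (c n) ∨ g = y * P n x i ∨ g = y * P n x (i + c n) := by
  rcases mem_cases h g hg with ⟨j, rfl⟩ | ⟨j, rfl⟩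
  · rw [P_mul_yP h, yP_mul_P h] at hc
    have h1 := yP_inj h hc
    have h2 : (c n - 2) * j = 0 := by linear_combination h1
    rcases (shift_eq_zero h.hn j).1 h2 with rfl | rfl
    · exact Or.inl rfl
    · exact Or.inr (Or.inl rfl)
  · rw [yP_mul_yP h, yP_mul_yP h] at hc
    have h1 := P_inj h hc
    have h2 : (c n - 2) * (j - i) = 0 := by linear_combination h1
    rcases (shift_eq_zero h.hn _).1 h2 with h3 | h3
    · right; right; left
      rw [sub_eq_zero.1 h3]
    · right; right; right
      have : j = i + c n := by linear_combination h3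
      rw [this]

/-- the structure of a four-subgroup -/
theorem four_eq [Finite G] (h : Dat n x y S) (T : Subgroup G) (hTS : T ≤ S)
    (hcard : Nat.card T = 4) (hexp : ∀ t ∈ T, t * t = 1) :
    ∃ i, c n * i = 0 ∧ (T : Set G) = Hs n x y i 2 := by
  classical
  -- some element outside ⟨x⟩
  have h1 : ∃ i, y * P n x i ∈ T := by
    by_contra hcon
    push_neg at hcon
    have hsub : (T : Set G) ⊆ ({P n x 0, P n x (c n)} : Set G) := by
      intro g hg
      rcases mem_cases h g (hTS hg) with ⟨j, rfl⟩ | ⟨j, rfl⟩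
      · have := hexp _ hg
        rw [P_sq_eq_one h] at this
        simp only [Set.mem_insert_iff, Set.mem_singleton_iff]
        rcases this with rfl | rfl
        · exact Or.inl rfl
        · exact Or.inr rfl
      · exact absurd hg (hcon j)
    have h2 := Set.ncard_le_ncard hsub (Set.toFinite _)
    have h3 : (T : Set G).ncard = Nat.card T := (Nat.card_coe_set_eq (T : Set G)).symm
    have h4 : ({P n x 0, P n x (c n)} : Set G).ncard ≤ 2 := by
      refine (Set.ncard_insert_le _ _).trans (Nat.succ_le_succ ?_)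
      rw [Set.ncard_singleton]
    omega
  obtain ⟨i, hi⟩ := h1
  have hci : c n * i = 0 := by
    have := hexp _ hi
    rw [sq_yP h, P_eq_one h] at this
    exact this
  refine ⟨i, hci, ?_⟩
  apply eq_Hs_of_subset T i 2 4 _ hcard (Hs_two_ncard h.hn i)
  intro g hg
  rcases mem_cases h g (hTS hg) with ⟨j, rfl⟩ | ⟨j, rfl⟩
  · have := hexp _ hg
    rw [P_sq_eq_one h, ← two_mul_eq_zero h.hn] at this
    exact ⟨j, this, Or.inl rfl⟩
  · have h2 : (y * P n x i) * (y * P n x j) ∈ T := T.mul_mem hi hg
    rw [yP_mul_yP h] at h2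
    have h3 := hexp _ h2
    rw [P_sq_eq_one h, ← two_mul_eq_zero h.hn] at h3
    refine ⟨j - i, ?_, Or.inr (by rw [add_sub_cancel])⟩
    linear_combination h3 - 2 * hci

/-- the structure of a quaternion subgroup -/
theorem quat_eq [Finite G] (h : Dat n x y S) (Q : Subgroup G) (hQS : Q ≤ S)
    (hcard : Nat.card Q = 8) (hexp : ∀ q ∈ Q, q ^ 4 = 1)
    (hnc : ∃ a ∈ Q, ∃ b ∈ Q, a * b ≠ b * a)
    (huniq : ∀ a ∈ Q, ∀ b ∈ Q, orderOf a = 2 → orderOf b = 2 → a = b) :
    ∃ i, c n * i = c n ∧ (Q : Set G) = Hs n x y i 4 := by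
  classical
  have h1 : ∃ i, y * P n x i ∈ Q := by
    by_contra hcon
    push_neg at hcon
    obtain ⟨a, ha, b, hb, hab⟩ := hnc
    rcases mem_cases h a (hQS ha) with ⟨j, rfl⟩ | ⟨j, rfl⟩
    · rcases mem_cases h b (hQS hb) with ⟨k, rfl⟩ | ⟨k, rfl⟩
      · exact hab (P_comm h _ _)
      · exact hcon k hb
    · exact hcon j ha
  obtain ⟨i, hi⟩ := h1
  have hpow4 : ∀ j, (P n x j) ^ 4 = 1 → 4 * j = 0 := by
    intro j hj
    rw [P_pow h, P_eq_one h] at hj
    simpa using hj
  have hfourc : 4 * c n = 0 := by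
    have := two_c h.hn
    linear_combination 2 * this
  have hQeq : (Q : Set G) = Hs n x y i 4 := by
    apply eq_Hs_of_subset Q i 4 8 _ hcard (Hs_four_ncard h.hn i)
    intro g hg
    rcases mem_cases h g (hQS hg) with ⟨j, rfl⟩ | ⟨j, rfl⟩
    · exact ⟨j, hpow4 j (hexp _ hg), Or.inl rfl⟩
    · have h2 : (y * P n x i) * (y * P n x j) ∈ Q := Q.mul_mem hi hg
      rw [yP_mul_yP h] at h2
      have h3 := hpow4 _ (hexp _ h2)
      refine ⟨j - i, ?_, Or.inr (by rw [add_sub_cancel])⟩
      linear_combination h3 - i * hfourc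
  refine ⟨i, ?_, hQeq⟩
  rcases c_mul_cases h.hn i with hci | hci
  · exfalso
    have hz : P n x (c n) ∈ Q := by
      have : P n x (c n) ∈ Hs n x y i 4 := ⟨c n, hfourc, Or.inl rfl⟩
      rw [← hQeq] at this; exact this
    have := huniq _ hz _ hi (orderOf_z h) (orderOf_yP_even h i hci)
    exact y_ne_P h _ _ this.symm
  · exact hci

end Cfsg.Agent.Lead.QD
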