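import Mathlib
import Cfsg.Agent.Lib.Lead.QDSub
import Cfsg.Agent.S0992

/-!
# Quasi-dihedral groups: conjugacy, centralizers and normalizers of the four-subgroups and the
quaternion subgroups (lead)
-/

set_option autoImplicit false
set_option linter.style.haveILetI false
set_option linter.unusedVariables false
set_option linter.unusedSectionVars false

namespace Cfsg.Agent.Lead.QD

variable {G : Type*} [Group G] {n : ℕ} {x y : G} {S : Subgroup G}

theorem Hs_conj (h : Dat n x y S) (i m j0 : ZMod (2 ^ n)) (g : G) (hg : g ∈ Hs n x y i m) :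
    P n x j0 * g * (P n x j0)⁻¹ ∈ Hs n x y (i + (c n - 2) * j0) m := by
  obtain ⟨j, hj, rfl | rfl⟩ := hg
  · refine ⟨j, hj, Or.inl ?_⟩
    rw [P_comm h, mul_inv_cancel_right]
  · refine ⟨j, hj, Or.inr ?_⟩
    rw [P_conj_yP h]
    congr 2; ring

theorem one_mem_Hs (i m : ZMod (2 ^ n)) : (1 : G) ∈ Hs n x y i m :=
  ⟨0, mul_zero m, Or.inl (P_zero x).symm⟩

theorem yP_mem_Hs (i m : ZMod (2 ^ n)) : y * P n x i ∈ Hs n x y i m :=
  ⟨0, mul_zero m, Or.inr (by rw [add_zero])⟩

/-- subgroups with carriers `Hs i₁ m`, `Hs i₂ m` (`i₂ - i₁` even) are conjugate in `S` -/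
theorem exists_conj_of_Hs [Finite G] (h : Dat n x y S) (H1 H2 : Subgroup G)
    (i1 i2 m : ZMod (2 ^ n)) (h1 : (H1 : Set G) = Hs n x y i1 m)
    (h2 : (H2 : Set G) = Hs n x y i2 m) (hpar : c n * (i2 - i1) = 0)
    (hcard : Nat.card H2 ≤ Nat.card H1) :
    ∃ s ∈ S, H1.map (MulAut.conj s).toMonoidHom = H2 := by
  obtain ⟨k, hk⟩ := even_of_c_mul h.hn _ hpar
  refine ⟨P n x (-(k * eps n)), P_mem h _, ?_⟩
  apply Subgroup.eq_of_le_of_card_ge
  · rintro _ ⟨g, hg, rfl⟩
    have hg' : g ∈ Hs n x y i1 m := by rw [← h1]; exact hg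
    have h3 := Hs_conj h i1 m (-(k * eps n)) g hg'
    rw [shift_solve h.hn, ← hk] at h3
    have h4 : i1 + (i2 - i1) = i2 := by ring
    rw [h4, ← h2] at h3
    exact h3
  · rw [Subgroup.card_map_of_injective (MulAut.conj _).injective]
    exact hcard

/-- `P j0` normalizes a subgroup with carrier `Hs i m` when `m * ((c - 2) * j0) = 0` -/
theorem P_mem_normalizer [Finite G] (h : Dat n x y S) (H : Subgroup G) (i m j0 : ZMod (2 ^ n))
    (hH : (H : Set G) = Hs n x y i m) (hj0 : m * ((c n - 2) * j0) = 0) :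
    P n x j0 ∈ Subgroup.normalizer (H : Set G) := by
  haveI : Finite ((H : Set G)) := Subtype.finite
  apply Subgroup.mem_normalizer_fintype
  intro g hg
  rw [hH] at hg ⊢
  obtain ⟨j, hj, hg'⟩ := Hs_conj h i m j0 g hg
  rcases hg' with hg' | hg'
  · exact ⟨j, hj, Or.inl hg'⟩
  · refine ⟨(c n - 2) * j0 + j, ?_, Or.inr ?_⟩
    · rw [mul_add, hj0, hj, add_zero]
    · rw [hg']; congr 2; ring

theorem shift_d (hn : 3 ≤ n) : (2 : ZMod (2 ^ n)) * ((c n - 2) * d n) = 0 := by
  have h1 := c_mul_d hn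
  have h2 := two_d hn
  have h3 := two_c hn
  linear_combination 2 * h1 - 2 * h2 - h3

theorem shift_d' (hn : 3 ≤ n) : (4 : ZMod (2 ^ n)) * ((c n - 2) * d' n) = 0 := by
  have h2c := two_c hn
  have h2d := two_d hn
  have h2d' := two_d' hn
  linear_combination (2 * d' n - 1) * h2c - 4 * h2d' - 2 * h2d

/-- `P d` is not in a four-subgroup -/
theorem Pd_not_mem_two (h : Dat n x y S) (i : ZMod (2 ^ n)) : P n x (d n) ∉ Hs n x y i 2 := by
  rintro ⟨j, hj, hg | hg⟩
  · have := P_inj h hg
    rw [← this, two_d h.hn] at hj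
    exact c_ne h.hn hj
  · exact y_ne_P h _ _ hg.symm

/-- `P d'` is not in a quaternion subgroup -/
theorem Pd'_not_mem_four (h : Dat n x y S) (i : ZMod (2 ^ n)) : P n x (d' n) ∉ Hs n x y i 4 := by
  rintro ⟨j, hj, hg | hg⟩
  · have := P_inj h hg
    rw [← this] at hj
    have h1 : (4 : ZMod (2 ^ n)) * d' n = c n := by
      have h2d := two_d h.hn
      have h2d' := two_d' h.hn
      linear_combination 2 * h2d' + h2d
    rw [h1] at hj
    exact c_ne h.hn hj
  · exact y_ne_P h _ _ hg.symm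

/-- the centralizer in `S` of a four-subgroup -/
theorem cent_four [Finite G] (h : Dat n x y S) (T : Subgroup G) (hTS : T ≤ S)
    (hexp : ∀ t ∈ T, t * t = 1) (i : ZMod (2 ^ n)) (hT : (T : Set G) = Hs n x y i 2) :
    S ⊓ Subgroup.centralizer (T : Set G) = T := by
  have hmem : ∀ g, g ∈ T ↔ g ∈ Hs n x y i 2 := by
    intro g; rw [← hT]; rfl
  apply le_antisymm
  · rintro g ⟨hgS, hgC⟩
    have hyT : y * P n x i ∈ T := (hmem _).2 (yP_mem_Hs i 2)
    have hc := (Subgroup.mem_centralizer_iff.1 hgC) _ hyT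
    rcases cent_yP h i g hgS hc.symm with rfl | rfl | rfl | rfl
    · rw [P_zero]; exact T.one_mem
    · exact (hmem _).2 ⟨c n, two_c h.hn, Or.inl rfl⟩
    · exact hyT
    · exact (hmem _).2 ⟨c n, two_c h.hn, Or.inr rfl⟩
  · intro g hg
    refine Subgroup.mem_inf.2 ⟨hTS hg, ?_⟩
    rw [Subgroup.mem_centralizer_iff]
    intro t ht
    have h1 := hexp _ hg
    have h2 := hexp _ ht
    have h3 := hexp _ (T.mul_mem ht hg)
    calc t * g = t * (t * g * (t * g)) * g := by rw [h3, mul_one]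
      _ = (t * t) * g * t * (g * g) := by group
      _ = g * t := by rw [h1, h2, one_mul, mul_one]

/-- the centralizer in `S` of a quaternion subgroup -/
theorem cent_quat [Finite G] (h : Dat n x y S) (Q : Subgroup G) (i : ZMod (2 ^ n))
    (hQ : (Q : Set G) = Hs n x y i 4) (g : G) (hgS : g ∈ S)
    (hgC : g ∈ Subgroup.centralizer (Q : Set G)) : g = 1 ∨ g = P n x (c n) := by
  have hmem : ∀ g, g ∈ Q ↔ g ∈ Hs n x y i 4 := by
    intro g; rw [← hQ]; rfl
  have hyQ : y * P n x i ∈ Q := (hmem _).2 (yP_mem_Hs i 4)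
  have hfourd : 4 * d n = 0 := by
    have h2d := two_d h.hn
    have h2c := two_c h.hn
    linear_combination 2 * h2d + h2c
  have hdQ : P n x (d n) ∈ Q := (hmem _).2 ⟨d n, hfourd, Or.inl rfl⟩
  have hc := (Subgroup.mem_centralizer_iff.1 hgC) _ hyQ
  have hcd := (Subgroup.mem_centralizer_iff.1 hgC) _ hdQ
  have hbad : ∀ j, y * P n x j ≠ g := by
    rintro j rfl
    rw [P_mul_yP h, yP_mul_P h] at hcd
    have h1 := yP_inj h hcd
    have h2 : 2 * d n = 0 := by
      have h3 := c_mul_d h.hn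
      linear_combination -h1 + h3
    rw [two_d h.hn] at h2
    exact c_ne h.hn h2
  rcases cent_yP h i g hgS hc.symm with rfl | rfl | rfl | rfl
  · left; exact P_zero x
  · right; rfl
  · exact absurd rfl (hbad _)
  · exact absurd rfl (hbad _)

/-- a power of two dividing six is one or two -/
theorem pow_two_dvd_six {a k : ℕ} (h1 : a ∣ 2 ^ k) (h2 : a ∣ 6) : a = 1 ∨ a = 2 := by
  obtain ⟨e, -, rfl⟩ := (Nat.dvd_prime_pow Nat.prime_two).1 h1
  have h3 : 2 ^ e ≤ 6 := Nat.le_of_dvd (by norm_num) h2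
  have h4 : e < 3 := by
    by_contra hcon
    push_neg at hcon
    have : 2 ^ 3 ≤ 2 ^ e := Nat.pow_le_pow_right (by norm_num) hcon
    omega
  interval_cases e
  · left; rfl
  · right; rfl
  · exfalso; norm_num at h2

/-- the index of the centralizer in a subgroup of the normalizer divides the order of the
automorphism group -/
theorem relIndex_centralizer_dvd [Finite G] (H N : Subgroup G)
    (hN : N ≤ Subgroup.normalizer (H : Set G)) :
    (Subgroup.centralizer (H : Set G)).relIndex N ∣ Nat.card (MulAut H) := by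
  let ψ : ↥N →* MulAut ↥H := (Subgroup.normalizerMonoidHom H).comp (Subgroup.inclusion hN)
  have hker : ψ.ker = (Subgroup.centralizer (H : Set G)).subgroupOf N := by
    ext g
    rw [MonoidHom.mem_ker, Subgroup.mem_subgroupOf]
    change (Subgroup.normalizerMonoidHom H) (Subgroup.inclusion hN g) = 1 ↔ _
    rw [← MonoidHom.mem_ker, Subgroup.normalizerMonoidHom_ker, Subgroup.mem_subgroupOf]
    rfl
  rw [Subgroup.relIndex, ← hker, Subgroup.index_ker]
  exact Subgroup.card_subgroup_dvd_card _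

/-- the normalizer in `S` of a four-subgroup -/
theorem relIndex_four [Finite G] (h : Dat n x y S) (T : Subgroup G) (hTS : T ≤ S)
    [IsKleinFour ↥T] (hexp : ∀ t ∈ T, t * t = 1) (i : ZMod (2 ^ n))
    (hT : (T : Set G) = Hs n x y i 2) :
    T.relIndex (S ⊓ Subgroup.normalizer (T : Set G)) = 2 := by
  set N := S ⊓ Subgroup.normalizer (T : Set G) with hN
  have hTN : T ≤ N := le_inf hTS Subgroup.le_normalizer
  have h1 : (Subgroup.centralizer (T : Set G)).relIndex N ∣ 6 :=
    (relIndex_centralizer_dvd T N inf_le_right).trans (Cfsg.Agent.S0992.card_mulAut_dvd_six ↥T)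
  have h2 : Subgroup.centralizer (T : Set G) ⊓ N = T := by
    rw [hN, ← inf_assoc, inf_comm (Subgroup.centralizer (T : Set G)) S,
      cent_four h T hTS hexp i hT]
    exact inf_eq_left.2 Subgroup.le_normalizer
  rw [← Subgroup.inf_relIndex_right, h2] at h1
  have h3 : T.relIndex N ∣ 2 ^ (n + 1) := by
    rw [← h.card]
    exact (Subgroup.relIndex_dvd_card T N).trans (Subgroup.card_dvd_of_le inf_le_left)
  rcases pow_two_dvd_six h3 h1 with h4 | h4
  · exfalso
    rw [Subgroup.relIndex_eq_one] at h4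
    have h5 : P n x (d n) ∈ N :=
      ⟨P_mem h _, P_mem_normalizer h T i 2 (d n) hT (shift_d h.hn)⟩
    have h6 := h4 h5
    have : P n x (d n) ∈ Hs n x y i 2 := by rw [← hT]; exact h6
    exact Pd_not_mem_two h i this
  · exact h4

/-- the normalizer in `S` of a quaternion subgroup -/
theorem relIndex_quat [Finite G] (h : Dat n x y S) (Q : Subgroup G) (hQS : Q ≤ S)
    (hcard : Nat.card Q = 8) (hAut : Nat.card (MulAut Q) = 24) (i : ZMod (2 ^ n))
    (hQ : (Q : Set G) = Hs n x y i 4) :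
    Q.relIndex (S ⊓ Subgroup.normalizer (Q : Set G)) = 2 := by
  set N := S ⊓ Subgroup.normalizer (Q : Set G) with hN
  have hQN : Q ≤ N := le_inf hQS Subgroup.le_normalizer
  have hmem : ∀ g, g ∈ Q ↔ g ∈ Hs n x y i 4 := by
    intro g; rw [← hQ]; rfl
  have hfourc : 4 * c n = 0 := by
    have := two_c h.hn
    linear_combination 2 * this
  have hzQ : P n x (c n) ∈ Q := (hmem _).2 ⟨c n, hfourc, Or.inl rfl⟩
  have h1 : (Subgroup.centralizer (Q : Set G)).relIndex N ∣ 24 := by
    rw [← hAut]; exact relIndex_centralizer_dvd Q N inf_le_right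
  have h2 : Subgroup.centralizer (Q : Set G) ⊓ N = Subgroup.zpowers (P n x (c n)) := by
    apply le_antisymm
    · rintro g ⟨hgC, hgS, -⟩
      rcases cent_quat h Q i hQ g hgS hgC with rfl | rfl
      · exact Subgroup.one_mem _
      · exact Subgroup.mem_zpowers _
    · rw [Subgroup.zpowers_le]
      refine Subgroup.mem_inf.2 ⟨?_, hQN hzQ⟩
      rw [Subgroup.mem_centralizer_iff]
      intro q hq
      exact z_comm h q (hQS hq)
  rw [← Subgroup.inf_relIndex_right, h2] at h1
  have hZQ : Subgroup.zpowers (P n x (c n)) ≤ Q := by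
    rw [Subgroup.zpowers_le]; exact hzQ
  have h3 : (Subgroup.zpowers (P n x (c n))).relIndex Q = 4 := by
    have := card_mul_relIndex hZQ
    rw [Nat.card_zpowers, orderOf_z h, hcard] at this
    omega
  rw [← Subgroup.relIndex_mul_relIndex _ _ _ hZQ hQN, h3] at h1
  have h4 : Q.relIndex N ∣ 6 := by
    have : (4 : ℕ) * Q.relIndex N ∣ 4 * 6 := by norm_num; exact h1
    exact (Nat.mul_dvd_mul_iff_left (by norm_num)).1 this
  have h5 : Q.relIndex N ∣ 2 ^ (n + 1) := by
    rw [← h.card]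
    exact (Subgroup.relIndex_dvd_card Q N).trans (Subgroup.card_dvd_of_le inf_le_left)
  rcases pow_two_dvd_six h5 h4 with h6 | h6
  · exfalso
    rw [Subgroup.relIndex_eq_one] at h6
    have h7 : P n x (d' n) ∈ N :=
      ⟨P_mem h _, P_mem_normalizer h Q i 4 (d' n) hQ (shift_d' h.hn)⟩
    have h8 := h6 h7
    have : P n x (d' n) ∈ Hs n x y i 4 := by rw [← hQ]; exact h8
    exact Pd'_not_mem_four h i this
  · exact h6

end Cfsg.Agent.Lead.QD
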