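import Mathlib
import Cfsg.Agent.Lib.Lead.QDSub2
import Cfsg.Agent.S3742

/-!
# Facts on the quaternion group of order eight and on Klein four-groups, in elementwise form (lead)
-/

set_option autoImplicit false
set_option linter.style.haveILetI false
set_option linter.unusedVariables false
set_option linter.unusedSectionVars false

namespace Cfsg.Agent.Lead.QD

theorem q8_pow_four : ∀ q : QuaternionGroup 2, q ^ 4 = 1 := by decide

theorem q8_noncomm : ∃ a b : QuaternionGroup 2, a * b ≠ b * a := by decide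

theorem q8_unique_invol : ∀ a b : QuaternionGroup 2, a ^ 2 = 1 → a ≠ 1 → b ^ 2 = 1 → b ≠ 1 → a = b := by
  decide

theorem klein_facts {G : Type*} [Group G] (T : Subgroup G) (hT : IsKleinFour T) :
    Nat.card T = 4 ∧ ∀ t ∈ T, t * t = 1 := by
  refine ⟨hT.card_four, fun t ht => ?_⟩
  have := Monoid.pow_exponent_eq_one (⟨t, ht⟩ : T)
  rw [hT.exponent_two, pow_two] at this
  exact congrArg Subtype.val this

theorem quat_facts {G : Type*} [Group G] (Q : Subgroup G) (e : Q ≃* QuaternionGroup 2) :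
    Nat.card Q = 8 ∧ (∀ q ∈ Q, q ^ 4 = 1) ∧ (∃ a ∈ Q, ∃ b ∈ Q, a * b ≠ b * a) ∧
      (∀ a ∈ Q, ∀ b ∈ Q, orderOf a = 2 → orderOf b = 2 → a = b) ∧
      Nat.card (MulAut Q) = 24 := by
  refine ⟨?_, ?_, ?_, ?_, ?_⟩
  · rw [Nat.card_congr e.toEquiv, Nat.card_eq_fintype_card, QuaternionGroup.card]
  · intro q hq
    have h1 := q8_pow_four (e ⟨q, hq⟩)
    rw [← map_pow] at h1
    have h2 : (⟨q, hq⟩ : Q) ^ 4 = 1 := e.injective (by rw [h1, map_one])
    exact congrArg Subtype.val h2
  · obtain ⟨a, b, hab⟩ := q8_noncomm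
    refine ⟨e.symm a, (e.symm a).2, e.symm b, (e.symm b).2, ?_⟩
    intro h
    apply hab
    have h1 : e.symm a * e.symm b = e.symm b * e.symm a := Subtype.ext h
    have h2 := congrArg e h1
    rwa [map_mul, map_mul, MulEquiv.apply_symm_apply, MulEquiv.apply_symm_apply] at h2
  · intro a ha b hb hoa hob
    have key : ∀ t (ht : t ∈ Q), orderOf t = 2 → (e ⟨t, ht⟩) ^ 2 = 1 ∧ e ⟨t, ht⟩ ≠ 1 := by
      intro t ht hot
      have h1 : orderOf (⟨t, ht⟩ : Q) = 2 := by rw [← hot]; exact Subgroup.orderOf_mk t ht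
      have h2 : orderOf (e ⟨t, ht⟩) = 2 := by rw [MulEquiv.orderOf_eq]; exact h1
      constructor
      · have := pow_orderOf_eq_one (e ⟨t, ht⟩)
        rwa [h2] at this
      · intro h3; rw [h3, orderOf_one] at h2; omega
    obtain ⟨h1, h2⟩ := key a ha hoa
    obtain ⟨h3, h4⟩ := key b hb hob
    have h5 := q8_unique_invol _ _ h1 h2 h3 h4
    exact congrArg Subtype.val (e.injective h5)
  · obtain ⟨f⟩ := Cfsg.Agent.S3742.result
    rw [Nat.card_congr (MulAut.congr e).toEquiv, Nat.card_congr f.toEquiv,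
      Nat.card_eq_fintype_card, Fintype.card_perm, Fintype.card_fin]
    rfl

end Cfsg.Agent.Lead.QD
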