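import Mathlib
import Cfsg.Agent.Lib.Lead.QDQuat

/-!
# Groups with quasi-dihedral Sylow 2-subgroups: the local indices (lead)
-/

set_option autoImplicit false
set_option linter.style.haveILetI false
set_option linter.unusedVariables false
set_option linter.unusedSectionVars false

namespace Cfsg.Agent.Lead.QD

variable {G : Type*} [Group G] {n : ℕ} {x y : G} {S : Subgroup G}

/-- quasi-dihedral data inside an ambient group -/
theorem exists_dat_sub (S : Subgroup G) (hS : Cfsg.IsQuasiDihedral ↥S) :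
    ∃ (n : ℕ) (x y : G), Dat n x y S := by
  obtain ⟨n, hn, hcard, x, y, hx, hy, hxy⟩ := hS
  refine ⟨n, x, y, ⟨hn, ?_, ?_, ?_, x.2, y.2, hcard⟩⟩
  · rw [← hx, Subgroup.orderOf_coe]
  · rw [← hy, Subgroup.orderOf_coe]
  · have := congrArg Subtype.val hxy
    simpa using this

/-- an element of order two in the quotient forces an even index -/
theorem two_dvd_relIndex_of [Finite G] (K N : Subgroup G) [hn : (K.subgroupOf N).Normal] (a : G)
    (haN : a ∈ N) (ha2 : a * a ∈ K) (haK : a ∉ K) : 2 ∣ K.relIndex N := by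
  rw [Subgroup.relIndex, Subgroup.index_eq_card]
  have h1 : orderOf ((QuotientGroup.mk ⟨a, haN⟩ : ↥N ⧸ K.subgroupOf N)) = 2 := by
    apply orderOf_eq_prime
    · rw [pow_two, ← QuotientGroup.mk_mul, QuotientGroup.eq_one_iff, Subgroup.mem_subgroupOf]
      exact ha2
    · rw [Ne, QuotientGroup.eq_one_iff, Subgroup.mem_subgroupOf]
      exact haK
  rw [← h1]
  exact orderOf_dvd_natCard _

/-- elements of `H ⊔ C(H)` are products -/
theorem mem_sup_centralizer (H : Subgroup G) (g : G)
    (hg : g ∈ H ⊔ Subgroup.centralizer (H : Set G)) :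
    ∃ q ∈ H, ∃ c' ∈ Subgroup.centralizer (H : Set G), g = q * c' := by
  let K : Subgroup G :=
    { carrier := {g | ∃ q ∈ H, ∃ c' ∈ Subgroup.centralizer (H : Set G), g = q * c'}
      one_mem' := ⟨1, H.one_mem, 1, Subgroup.one_mem _, (mul_one 1).symm⟩
      mul_mem' := by
        rintro _ _ ⟨q1, hq1, c1, hc1, rfl⟩ ⟨q2, hq2, c2, hc2, rfl⟩
        refine ⟨q1 * q2, H.mul_mem hq1 hq2, c1 * c2, Subgroup.mul_mem _ hc1 hc2, ?_⟩
        have := (Subgroup.mem_centralizer_iff.1 hc1) q2 hq2
        calc q1 * c1 * (q2 * c2) = q1 * (c1 * q2) * c2 := by group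
          _ = q1 * (q2 * c1) * c2 := by rw [this]
          _ = q1 * q2 * (c1 * c2) := by group
      inv_mem' := by
        rintro _ ⟨q1, hq1, c1, hc1, rfl⟩
        refine ⟨q1⁻¹, H.inv_mem hq1, c1⁻¹, Subgroup.inv_mem _ hc1, ?_⟩
        have := (Subgroup.mem_centralizer_iff.1 (Subgroup.inv_mem _ hc1)) q1⁻¹ (H.inv_mem hq1)
        rw [mul_inv_rev]
        exact this.symm }
  have hle : H ⊔ Subgroup.centralizer (H : Set G) ≤ K := by
    apply sup_le
    · intro q hq
      exact ⟨q, hq, 1, Subgroup.one_mem _, (mul_one q).symm⟩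
    · intro c' hc'
      exact ⟨1, H.one_mem, c', hc', (one_mul c').symm⟩
  exact hle hg

/-- `z` lies in the centralizer of every subgroup of `S` -/
theorem z_mem_centralizer [Finite G] (h : Dat n x y S) (H : Subgroup G) (hHS : H ≤ S) :
    P n x (c n) ∈ Subgroup.centralizer (H : Set G) := by
  rw [Subgroup.mem_centralizer_iff]
  intro q hq
  exact z_comm h q (hHS hq)

/-- the index of `C(T)` in `N(T)` is two or six -/
theorem relIndex_T [Finite G] (h : Dat n x y S) (T : Subgroup G) (hTS : T ≤ S)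
    [IsKleinFour ↥T] (hexp : ∀ t ∈ T, t * t = 1) (i : ZMod (2 ^ n)) (hT : (T : Set G) = Hs n x y i 2) :
    (Subgroup.centralizer (T : Set G)).relIndex (Subgroup.normalizer (T : Set G)) = 2 ∨
    (Subgroup.centralizer (T : Set G)).relIndex (Subgroup.normalizer (T : Set G)) = 6 := by
  have h1 : (Subgroup.centralizer (T : Set G)).relIndex (Subgroup.normalizer (T : Set G)) ∣ 6 :=
    (relIndex_centralizer_dvd T _ le_rfl).trans (Cfsg.Agent.S0992.card_mulAut_dvd_six ↥T)
  have h2 : 2 ∣ (Subgroup.centralizer (T : Set G)).relIndex (Subgroup.normalizer (T : Set G)) := by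
    apply two_dvd_relIndex_of _ _ (P n x (d n))
    · exact P_mem_normalizer h T i 2 (d n) hT (shift_d h.hn)
    · rw [P_mul_self h, two_d h.hn]
      exact z_mem_centralizer h T hTS
    · intro hcon
      have h3 : P n x (d n) ∈ S ⊓ Subgroup.centralizer (T : Set G) :=
        Subgroup.mem_inf.2 ⟨P_mem h _, hcon⟩
      rw [cent_four h T hTS hexp i hT] at h3
      have : P n x (d n) ∈ Hs n x y i 2 := by rw [← hT]; exact h3
      exact Pd_not_mem_two h i this
  have h3 : (Subgroup.centralizer (T : Set G)).relIndex (Subgroup.normalizer (T : Set G)) ≤ 6 :=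
    Nat.le_of_dvd (by norm_num) h1
  generalize (Subgroup.centralizer (T : Set G)).relIndex (Subgroup.normalizer (T : Set G)) = m at *
  interval_cases m <;> omega

/-- `Q ⊔ C(Q)` is normal in `N(Q)` -/
theorem sup_centralizer_normal (Q : Subgroup G) :
    ((Q ⊔ Subgroup.centralizer (Q : Set G)).subgroupOf (Subgroup.normalizer (Q : Set G))).Normal := by
  rw [Subgroup.subgroupOf_sup Subgroup.le_normalizer (Subgroup.centralizer_le_normalizer _)]
  haveI : (Q.subgroupOf (Subgroup.normalizer (Q : Set G))).Normal := Subgroup.normal_in_normalizer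
  haveI : ((Subgroup.centralizer (Q : Set G)).subgroupOf (Subgroup.normalizer (Q : Set G))).Normal :=
    Subgroup.normal_subgroupOf_centralizer_normalizer _
  exact Subgroup.sup_normal _ _

/-- `|Q C(Q) : C(Q)| = |Q : Q ∩ C(Q)|` -/
theorem relIndex_sup_centralizer (Q : Subgroup G) :
    (Subgroup.centralizer (Q : Set G)).relIndex (Q ⊔ Subgroup.centralizer (Q : Set G)) =
      (Subgroup.centralizer (Q : Set G)).relIndex Q := by
  have hK : Q ⊔ Subgroup.centralizer (Q : Set G) ≤ Subgroup.normalizer (Q : Set G) :=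
    sup_le Subgroup.le_normalizer (Subgroup.centralizer_le_normalizer _)
  haveI : ((Subgroup.centralizer (Q : Set G)).subgroupOf (Subgroup.normalizer (Q : Set G))).Normal :=
    Subgroup.normal_subgroupOf_centralizer_normalizer _
  rw [← Subgroup.relIndex_subgroupOf hK,
    Subgroup.subgroupOf_sup Subgroup.le_normalizer (Subgroup.centralizer_le_normalizer _),
    Subgroup.relIndex_sup_right, Subgroup.relIndex_subgroupOf Subgroup.le_normalizer]

/-- the index of `Q C(Q)` in `N(Q)` is two or six -/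
theorem relIndex_Q [Finite G] (h : Dat n x y S) (Q : Subgroup G) (hQS : Q ≤ S)
    (hcard : Nat.card Q = 8) (hAut : Nat.card (MulAut Q) = 24) (i : ZMod (2 ^ n))
    (hQ : (Q : Set G) = Hs n x y i 4) :
    (Q ⊔ Subgroup.centralizer (Q : Set G)).relIndex (Subgroup.normalizer (Q : Set G)) = 2 ∨
    (Q ⊔ Subgroup.centralizer (Q : Set G)).relIndex (Subgroup.normalizer (Q : Set G)) = 6 := by
  have hmem : ∀ g, g ∈ Q ↔ g ∈ Hs n x y i 4 := by
    intro g; rw [← hQ]; rfl
  have hfourc : 4 * c n = 0 := by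
    have := two_c h.hn
    linear_combination 2 * this
  have hfourd : 4 * d n = 0 := by
    have h2d := two_d h.hn
    have h2c := two_c h.hn
    linear_combination 2 * h2d + h2c
  have hzQ : P n x (c n) ∈ Q := (hmem _).2 ⟨c n, hfourc, Or.inl rfl⟩
  have hdQ : P n x (d n) ∈ Q := (hmem _).2 ⟨d n, hfourd, Or.inl rfl⟩
  have hCK : Subgroup.centralizer (Q : Set G) ≤ Q ⊔ Subgroup.centralizer (Q : Set G) := le_sup_right
  have hKN : Q ⊔ Subgroup.centralizer (Q : Set G) ≤ Subgroup.normalizer (Q : Set G) :=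
    sup_le Subgroup.le_normalizer (Subgroup.centralizer_le_normalizer _)
  have h1 : (Subgroup.centralizer (Q : Set G)).relIndex (Subgroup.normalizer (Q : Set G)) ∣ 24 := by
    rw [← hAut]; exact relIndex_centralizer_dvd Q _ le_rfl
  have h2 : Subgroup.centralizer (Q : Set G) ⊓ Q = Subgroup.zpowers (P n x (c n)) := by
    apply le_antisymm
    · rintro g ⟨hgC, hgQ⟩
      rcases cent_quat h Q i hQ g (hQS hgQ) hgC with rfl | rfl
      · exact Subgroup.one_mem _
      · exact Subgroup.mem_zpowers _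
    · rw [Subgroup.zpowers_le]
      exact Subgroup.mem_inf.2 ⟨z_mem_centralizer h Q hQS, hzQ⟩
  have hZQ : Subgroup.zpowers (P n x (c n)) ≤ Q := by
    rw [Subgroup.zpowers_le]; exact hzQ
  have h3 : (Subgroup.zpowers (P n x (c n))).relIndex Q = 4 := by
    have := card_mul_relIndex hZQ
    rw [Nat.card_zpowers, orderOf_z h, hcard] at this
    omega
  have h4 : (Subgroup.centralizer (Q : Set G)).relIndex
      (Q ⊔ Subgroup.centralizer (Q : Set G)) = 4 := by
    rw [relIndex_sup_centralizer, ← Subgroup.inf_relIndex_right, h2, h3]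
  rw [← Subgroup.relIndex_mul_relIndex _ _ _ hCK hKN, h4] at h1
  have h5 : (Q ⊔ Subgroup.centralizer (Q : Set G)).relIndex (Subgroup.normalizer (Q : Set G)) ∣ 6 := by
    have : (4 : ℕ) * (Q ⊔ Subgroup.centralizer (Q : Set G)).relIndex
        (Subgroup.normalizer (Q : Set G)) ∣ 4 * 6 := by norm_num; exact h1
    exact (Nat.mul_dvd_mul_iff_left (by norm_num)).1 this
  haveI := sup_centralizer_normal Q
  have h6 : 2 ∣ (Q ⊔ Subgroup.centralizer (Q : Set G)).relIndex (Subgroup.normalizer (Q : Set G)) := by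
    apply two_dvd_relIndex_of _ _ (P n x (d' n))
    · exact P_mem_normalizer h Q i 4 (d' n) hQ (shift_d' h.hn)
    · rw [P_mul_self h, two_d' h.hn]
      exact (le_sup_left : Q ≤ _) hdQ
    · intro hcon
      obtain ⟨q, hq, c', hc', heq⟩ := mem_sup_centralizer Q _ hcon
      have hc'S : c' ∈ S := by
        have : c' = q⁻¹ * P n x (d' n) := by rw [heq]; group
        rw [this]
        exact S.mul_mem (S.inv_mem (hQS hq)) (P_mem h _)
      have hc'Q : c' ∈ Q := by
        rcases cent_quat h Q i hQ c' hc'S hc' with rfl | rfl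
        · exact Q.one_mem
        · exact hzQ
      have : P n x (d' n) ∈ Q := by rw [heq]; exact Q.mul_mem hq hc'Q
      exact Pd'_not_mem_four h i ((hmem _).1 this)
  have h7 : (Q ⊔ Subgroup.centralizer (Q : Set G)).relIndex (Subgroup.normalizer (Q : Set G)) ≤ 6 :=
    Nat.le_of_dvd (by norm_num) h5
  generalize (Q ⊔ Subgroup.centralizer (Q : Set G)).relIndex (Subgroup.normalizer (Q : Set G)) = m at *
  interval_cases m <;> omega

end Cfsg.Agent.Lead.QD
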