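import Mathlib
import Cfsg.Agent.Lib.Lead.QDSylow
import Cfsg.Agent.Lib.Lead.Conj
import Cfsg.Agent.H2.SylowExtra

/-!
# Groups with quasi-dihedral Sylow 2-subgroups: fusion of involutions and of elements of order 4
(lead)
-/

set_option autoImplicit false
set_option linter.style.haveILetI false
set_option linter.unusedVariables false
set_option linter.unusedSectionVars false

namespace Cfsg.Agent.Lead.QD

open Cfsg.Agent.Lib.Lead.Conj

variable {G : Type*} [Group G] {n : ℕ} {x y : G}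

/-- two cosets cover: index at most two -/
theorem relIndex_le_two [Finite G] (K N : Subgroup G) (u : G) (hu : u ∈ N)
    (hall : ∀ k ∈ N, k ∈ K ∨ u⁻¹ * k ∈ K) : K.relIndex N ≤ 2 := by
  rw [Subgroup.relIndex, Subgroup.index_eq_card]
  let f : Bool → ↥N ⧸ K.subgroupOf N := fun b =>
    if b then QuotientGroup.mk ⟨u, hu⟩ else QuotientGroup.mk 1
  have hf : Function.Surjective f := by
    intro q
    induction q using QuotientGroup.induction_on with
    | H k =>
      rcases hall k k.2 with h1 | h1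
      · refine ⟨false, ?_⟩
        show (QuotientGroup.mk 1 : ↥N ⧸ K.subgroupOf N) = QuotientGroup.mk k
        rw [QuotientGroup.eq, inv_one, one_mul, Subgroup.mem_subgroupOf]
        exact h1
      · refine ⟨true, ?_⟩
        show (QuotientGroup.mk ⟨u, hu⟩ : ↥N ⧸ K.subgroupOf N) = QuotientGroup.mk k
        rw [QuotientGroup.eq, Subgroup.mem_subgroupOf]
        exact h1
  have := Nat.card_le_card_of_surjective f hf
  simpa using this

/-- in index two, the complement of the subgroup is one coset -/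
theorem mem_or_of_relIndex_two (K N : Subgroup G) (hidx : K.relIndex N = 2) (u : G) (hu : u ∈ N)
    (huK : u ∉ K) (k : G) (hk : k ∈ N) : k ∈ K ∨ u⁻¹ * k ∈ K := by
  by_cases hkK : k ∈ K
  · left; exact hkK
  · right
    have := Subgroup.mul_mem_iff_of_index_two (H := K.subgroupOf N) hidx
      (a := (⟨u, hu⟩ : ↥N)⁻¹) (b := ⟨k, hk⟩)
    simp only [Subgroup.mem_subgroupOf, Subgroup.coe_mul, Subgroup.coe_inv] at this
    rw [this]
    constructor
    · intro h; exact absurd (K.inv_mem_iff.1 h) huK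
    · intro h; exact absurd h hkK

section four

variable [Finite G] (S : Sylow 2 G) (h : Dat n x y (S : Subgroup G)) (T : Subgroup G)
  (hTS : T ≤ S) (hexp : ∀ t ∈ T, t * t = 1) (i : ZMod (2 ^ n)) (hi : c n * i = 0)
  (hT : (T : Set G) = Hs n x y i 2)

include h hTS hexp hi hT

theorem T_mem_iff (g : G) : g ∈ T ↔ g ∈ Hs n x y i 2 := by
  rw [← hT]; rfl

theorem T_cases (g : G) (hg : g ∈ T) :
    g = 1 ∨ g = P n x (c n) ∨ g = y * P n x i ∨ g = y * P n x (i + c n) := by
  have := Hs_two_subset (x := x) (y := y) h.hn i ((T_mem_iff S h T hTS hexp i hi hT g).1 hg)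
  simp only [Set.mem_insert_iff, Set.mem_singleton_iff, P_zero] at this
  exact this

theorem z_mem_T : P n x (c n) ∈ T :=
  (T_mem_iff S h T hTS hexp i hi hT _).2 ⟨c n, two_c h.hn, Or.inl rfl⟩

theorem t_mem_T : y * P n x i ∈ T :=
  (T_mem_iff S h T hTS hexp i hi hT _).2 (yP_mem_Hs i 2)

theorem tz_mem_T : y * P n x (i + c n) ∈ T :=
  (T_mem_iff S h T hTS hexp i hi hT _).2 ⟨c n, two_c h.hn, Or.inr rfl⟩

theorem Pd_mem_normalizer_T : P n x (d n) ∈ Subgroup.normalizer (T : Set G) :=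
  P_mem_normalizer h T i 2 (d n) hT (shift_d h.hn)

theorem Pd_not_mem_centralizer_T : P n x (d n) ∉ Subgroup.centralizer (T : Set G) := by
  intro hcon
  have h3 : P n x (d n) ∈ (S : Subgroup G) ⊓ Subgroup.centralizer (T : Set G) :=
    Subgroup.mem_inf.2 ⟨P_mem h _, hcon⟩
  rw [cent_four h T hTS hexp i hT] at h3
  exact Pd_not_mem_two h i ((T_mem_iff S h T hTS hexp i hi hT _).1 h3)

theorem shift_d_eq : (c n - 2) * d n = c n := by
  have h1 := c_mul_d h.hn
  have h2 := two_d h.hn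
  have h3 := two_c h.hn
  linear_combination h1 - h2 - h3

theorem u_conj_t : P n x (d n) * (y * P n x i) * (P n x (d n))⁻¹ = y * P n x (i + c n) := by
  rw [P_conj_yP h, shift_d_eq S h T hTS hexp i hi hT]

theorem u_conj_tz : P n x (d n) * (y * P n x (i + c n)) * (P n x (d n))⁻¹ = y * P n x i := by
  rw [P_conj_yP h, shift_d_eq S h T hTS hexp i hi hT]
  congr 2
  have h3 := two_c h.hn
  linear_combination h3

theorem t_mul_tz : (y * P n x i) * (y * P n x (i + c n)) = P n x (c n) := by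
  rw [yP_mul_yP h]
  congr 1
  linear_combination hi

/-- in index two the normalizer of `T` fixes `z` -/
theorem T_fix_z (hidx : (Subgroup.centralizer (T : Set G)).relIndex
    (Subgroup.normalizer (T : Set G)) = 2) (k : G) (hk : k ∈ Subgroup.normalizer (T : Set G)) :
    k * P n x (c n) * k⁻¹ = P n x (c n) := by
  have hzT := z_mem_T S h T hTS hexp i hi hT
  have hcent : ∀ c0 ∈ Subgroup.centralizer (T : Set G), c0 * P n x (c n) * c0⁻¹ = P n x (c n) := by
    intro c0 hc0
    have := (Subgroup.mem_centralizer_iff.1 hc0) _ hzT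
    rw [← this, mul_inv_cancel_right]
  rcases mem_or_of_relIndex_two _ _ hidx (P n x (d n))
    (Pd_mem_normalizer_T S h T hTS hexp i hi hT) (Pd_not_mem_centralizer_T S h T hTS hexp i hi hT)
    k hk with h1 | h1
  · exact hcent k h1
  · have h2 := hcent _ h1
    have h3 : k * P n x (c n) * k⁻¹ = P n x (d n) * ((P n x (d n))⁻¹ * k * P n x (c n) *
        ((P n x (d n))⁻¹ * k)⁻¹) * (P n x (d n))⁻¹ := by group
    rw [h3, h2, P_comm h, mul_inv_cancel_right]

theorem conj_mem_T (k : G) (hk : k ∈ Subgroup.normalizer (T : Set G)) (g : G) (hg : g ∈ T) :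
    k * g * k⁻¹ ∈ T :=
  (Subgroup.mem_normalizer_iff.1 hk g).1 hg

theorem t_ne_one (j : ZMod (2 ^ n)) : y * P n x j ≠ 1 := by
  have := y_ne_P h j 0
  rwa [P_zero] at this

/-- an element of `N(T)` fixing `t` and `tz` centralizes `T` -/
theorem mem_centralizer_T_of_fix (k : G) (h1 : k * (y * P n x i) * k⁻¹ = y * P n x i)
    (h2 : k * (y * P n x (i + c n)) * k⁻¹ = y * P n x (i + c n)) :
    k ∈ Subgroup.centralizer (T : Set G) := by
  have c1 : (y * P n x i) * k = k * (y * P n x i) := by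
    conv_lhs => rw [← h1]
    group
  have c2 : (y * P n x (i + c n)) * k = k * (y * P n x (i + c n)) := by
    conv_lhs => rw [← h2]
    group
  rw [Subgroup.mem_centralizer_iff]
  intro g hg
  rcases T_cases S h T hTS hexp i hi hT g hg with rfl | rfl | rfl | rfl
  · rw [one_mul, mul_one]
  · rw [← t_mul_tz S h T hTS hexp i hi hT, mul_assoc, c2, ← mul_assoc, c1, mul_assoc]
  · exact c1
  · exact c2

/-- in index six, `t` is fused to `z` in `N(T)` -/
theorem T_fuse (hidx : (Subgroup.centralizer (T : Set G)).relIndex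
    (Subgroup.normalizer (T : Set G)) = 6) :
    ∃ k ∈ Subgroup.normalizer (T : Set G), k * (y * P n x i) * k⁻¹ = P n x (c n) := by
  by_contra hcon
  push_neg at hcon
  have huN := Pd_mem_normalizer_T S h T hTS hexp i hi hT
  have htT := t_mem_T S h T hTS hexp i hi hT
  have htzT := tz_mem_T S h T hTS hexp i hi hT
  have hne : y * P n x i ≠ y * P n x (i + c n) := by
    intro heq
    have := yP_inj h heq
    have h0 : c n = 0 := by linear_combination -this
    exact c_ne h.hn h0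
  -- elements fixing t centralize T
  have hA : ∀ k ∈ Subgroup.normalizer (T : Set G), k * (y * P n x i) * k⁻¹ = y * P n x i →
      k ∈ Subgroup.centralizer (T : Set G) := by
    intro k hk hfix
    apply mem_centralizer_T_of_fix S h T hTS hexp i hi hT k hfix
    have h1 : k * (y * P n x (i + c n)) * k⁻¹ =
        (k * P n x (d n)) * (y * P n x i) * (k * P n x (d n))⁻¹ := by
      rw [← u_conj_t S h T hTS hexp i hi hT]; group
    have hkuN : k * P n x (d n) ∈ Subgroup.normalizer (T : Set G) := Subgroup.mul_mem _ hk huN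
    have h2 := hcon _ hkuN
    have h3 := conj_mem_T S h T hTS hexp i hi hT k hk _ htzT
    rcases T_cases S h T hTS hexp i hi hT _ h3 with h4 | h4 | h4 | h4
    · exfalso
      have : y * P n x (i + c n) = 1 := by
        have h5 : y * P n x (i + c n) = k⁻¹ * (k * (y * P n x (i + c n)) * k⁻¹) * k := by group
        rw [h5, h4]; group
      exact t_ne_one S h T hTS hexp i hi hT _ this
    · exfalso; rw [h1] at h4; exact h2 h4
    · exfalso
      rw [← hfix] at h4
      have : y * P n x (i + c n) = y * P n x i := by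
        have h5 : y * P n x (i + c n) = k⁻¹ * (k * (y * P n x (i + c n)) * k⁻¹) * k := by group
        rw [h5, h4]; group
      exact hne this.symm
    · exact h4
  have hall : ∀ k ∈ Subgroup.normalizer (T : Set G),
      k ∈ Subgroup.centralizer (T : Set G) ∨
        (P n x (d n))⁻¹ * k ∈ Subgroup.centralizer (T : Set G) := by
    intro k hk
    have h3 := conj_mem_T S h T hTS hexp i hi hT k hk _ htT
    rcases T_cases S h T hTS hexp i hi hT _ h3 with h4 | h4 | h4 | h4
    · exfalso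
      have : y * P n x i = 1 := by
        have h5 : y * P n x i = k⁻¹ * (k * (y * P n x i) * k⁻¹) * k := by group
        rw [h5, h4]; group
      exact t_ne_one S h T hTS hexp i hi hT _ this
    · exfalso; exact hcon k hk h4
    · left; exact hA k hk h4
    · right
      apply hA _ (Subgroup.mul_mem _ (Subgroup.inv_mem _ huN) hk)
      have h5 : (P n x (d n))⁻¹ * k * (y * P n x i) * ((P n x (d n))⁻¹ * k)⁻¹ =
          (P n x (d n))⁻¹ * (k * (y * P n x i) * k⁻¹) * (P n x (d n)) := by group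
      rw [h5, h4, ← u_conj_t S h T hTS hexp i hi hT]
      group
  have := relIndex_le_two _ _ (P n x (d n)) huN hall
  omega

/-- fusion of `t` to `z` is controlled by `N(T)` -/
theorem T_control (hTcard : Nat.card T = 4) (g : G)
    (hg : g * (y * P n x i) * g⁻¹ = P n x (c n)) :
    ∃ k ∈ Subgroup.normalizer (T : Set G), k * (y * P n x i) * k⁻¹ = P n x (c n) := by
  have htT := t_mem_T S h T hTS hexp i hi hT
  set Cz := Subgroup.centralizer ({P n x (c n)} : Set G) with hCz
  have hmemCz : ∀ a, a ∈ Cz ↔ P n x (c n) * a = a * P n x (c n) := by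
    intro a
    rw [hCz, Subgroup.mem_centralizer_iff]
    simp
  have hSCz : (S : Subgroup G) ≤ Cz := by
    intro s hs
    rw [hmemCz]
    exact (z_comm h s hs).symm
  have hTcomm : ∀ q ∈ T, q * (y * P n x i) = (y * P n x i) * q := by
    intro q hq
    have h1 := hexp _ hq
    have h2 := hexp _ htT
    have h3 := hexp _ (T.mul_mem hq htT)
    calc q * (y * P n x i) = q * (q * (y * P n x i) * (q * (y * P n x i))) * (y * P n x i) := by
          rw [h3, mul_one]
      _ = (q * q) * (y * P n x i) * q * ((y * P n x i) * (y * P n x i)) := by group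
      _ = (y * P n x i) * q := by rw [h1, h2, one_mul, mul_one]
  have hYCz : T.map (MulAut.conj g).toMonoidHom ≤ Cz := by
    rintro _ ⟨q, hq, rfl⟩
    rw [hmemCz]
    show P n x (c n) * (g * q * g⁻¹) = g * q * g⁻¹ * P n x (c n)
    rw [← hg]
    have := hTcomm q hq
    calc g * (y * P n x i) * g⁻¹ * (g * q * g⁻¹) = g * ((y * P n x i) * q) * g⁻¹ := by group
      _ = g * (q * (y * P n x i)) * g⁻¹ := by rw [this]
      _ = g * q * g⁻¹ * (g * (y * P n x i) * g⁻¹) := by group
  have hY : IsPGroup 2 (T.map (MulAut.conj g).toMonoidHom) :=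
    (IsPGroup.to_le S.isPGroup' hTS).map _
  obtain ⟨m, hm, hmS⟩ := Cfsg.Agent.H2.exists_conj_le_sylow_of_le S Cz hSCz _ hY hYCz
  -- the conjugate four-group
  set T' := T.map (MulAut.conj (m * g)).toMonoidHom with hT'
  have hT'S : T' ≤ (S : Subgroup G) := by
    rintro _ ⟨q, hq, rfl⟩
    have : (MulAut.conj (m * g)).toMonoidHom q =
        (MulAut.conj m).toMonoidHom ((MulAut.conj g).toMonoidHom q) := by
      simp [MulAut.conj_apply, mul_assoc]
    rw [this]
    exact hmS ⟨_, ⟨q, hq, rfl⟩, rfl⟩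
  have hT'card : Nat.card T' = Nat.card T := card_map_conj T (m * g)
  have hT'exp : ∀ t ∈ T', t * t = 1 := by
    rintro _ ⟨q, hq, rfl⟩
    show (m * g) * q * (m * g)⁻¹ * ((m * g) * q * (m * g)⁻¹) = 1
    have := hexp q hq
    calc (m * g) * q * (m * g)⁻¹ * ((m * g) * q * (m * g)⁻¹) = (m * g) * (q * q) * (m * g)⁻¹ := by
          group
      _ = 1 := by rw [this]; group
  obtain ⟨i', hi', hT'i⟩ := four_eq h T' hT'S (by rw [hT'card, hTcard]) hT'exp
  obtain ⟨s, hs, hsT⟩ := exists_conj_of_Hs h T' T i' i 2 hT'i hT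
    (by linear_combination hi - hi') (by rw [hT'card])
  refine ⟨s * (m * g), ?_, ?_⟩
  · apply mem_normalizer_of_conj_mem
    intro q hq
    rw [← hsT]
    have : s * (m * g) * q * (s * (m * g))⁻¹ = s * ((m * g) * q * (m * g)⁻¹) * s⁻¹ := by group
    rw [this]
    exact ⟨_, ⟨q, hq, rfl⟩, rfl⟩
  · have h1 : s * (m * g) * (y * P n x i) * (s * (m * g))⁻¹ =
        s * (m * (g * (y * P n x i) * g⁻¹) * m⁻¹) * s⁻¹ := by group
    rw [h1, hg, ← (hmemCz m).1 hm, mul_inv_cancel_right, z_comm h s hs, mul_inv_cancel_right]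

/-- in index two, no non-central involution of `S` is fused to `z` -/
theorem T_nofuse (hTcard : Nat.card T = 4) (hidx : (Subgroup.centralizer (T : Set G)).relIndex
    (Subgroup.normalizer (T : Set G)) = 2) (g : G) (i0 : ZMod (2 ^ n)) (hi0 : c n * i0 = 0) :
    g * (y * P n x i0) * g⁻¹ ≠ P n x (c n) := by
  intro hcon
  obtain ⟨j, hj⟩ := exists_conj_yP h i i0 (by linear_combination hi0 - hi)
  have h1 : (g * P n x j) * (y * P n x i) * (g * P n x j)⁻¹ = P n x (c n) := by
    rw [← hcon, ← hj]; group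
  obtain ⟨k, hk, hkt⟩ := T_control S h T hTS hexp i hi hT hTcard _ h1
  have h2 := T_fix_z S h T hTS hexp i hi hT hidx k hk
  have h3 : y * P n x i = P n x (c n) := by
    have h4 : y * P n x i = k⁻¹ * (k * (y * P n x i) * k⁻¹) * k := by group
    rw [h4, hkt]
    conv_lhs => rw [← h2]
    group
  exact y_ne_P h _ _ h3

/-- in index six, every non-central involution of `S` is fused to `z` -/
theorem T_allfuse (hidx : (Subgroup.centralizer (T : Set G)).relIndex
    (Subgroup.normalizer (T : Set G)) = 6) (i0 : ZMod (2 ^ n)) (hi0 : c n * i0 = 0) :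
    ∃ g : G, g * (y * P n x i0) * g⁻¹ = P n x (c n) := by
  obtain ⟨j, hj⟩ := exists_conj_yP h i0 i (by linear_combination hi - hi0)
  obtain ⟨k, hk, hkt⟩ := T_fuse S h T hTS hexp i hi hT hidx
  refine ⟨k * P n x j, ?_⟩
  rw [← hkt, ← hj]; group

end four

section ring2

theorem shift_d_eq' (hn : 3 ≤ n) : (c n - 2) * d n = c n := by
  have h1 := c_mul_d hn
  have h2 := two_d hn
  have h3 := two_c hn
  linear_combination h1 - h2 - h3

theorem four_c (hn : 3 ≤ n) : 4 * c n = 0 := by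
  have := two_c hn
  linear_combination 2 * this

theorem four_d (hn : 3 ≤ n) : 4 * d n = 0 := by
  have h2d := two_d hn
  have h2c := two_c hn
  linear_combination 2 * h2d + h2c

theorem neg_c (hn : 3 ≤ n) : -c n = c n := by
  have := two_c hn
  linear_combination -this

/-- every `j` with `4 j = 0` is a shift `(c - 2) j0` with `j0` among `0, d, d', d' + d` -/
theorem exists_shift (hn : 3 ≤ n) (j : ZMod (2 ^ n)) (hj : 4 * j = 0) :
    ∃ j0, (j0 = 0 ∨ j0 = d n ∨ j0 = d' n ∨ j0 = d' n + d n) ∧ (c n - 2) * j0 = j := by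
  have h2c := two_c hn
  have h2d := two_d hn
  have h2d' := two_d' hn
  have hsd := shift_d_eq' hn
  have he : 2 * ((c n - 2) * d' n) = c n := by
    linear_combination (d' n - 1) * h2c - 2 * h2d' - h2d
  rcases (two_mul_eq_c hn _).1 he with he' | he'
  · rcases (four_mul_eq_zero hn j).1 hj with rfl | rfl | rfl | rfl
    · exact ⟨0, Or.inl rfl, mul_zero _⟩
    · exact ⟨d' n, Or.inr (Or.inr (Or.inl rfl)), he'⟩
    · exact ⟨d n, Or.inr (Or.inl rfl), hsd⟩
    · exact ⟨d' n + d n, Or.inr (Or.inr (Or.inr rfl)), by rw [mul_add, he', hsd]⟩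
  · rcases (four_mul_eq_zero hn j).1 hj with rfl | rfl | rfl | rfl
    · exact ⟨0, Or.inl rfl, mul_zero _⟩
    · exact ⟨d' n + d n, Or.inr (Or.inr (Or.inr rfl)), by
        rw [mul_add, he', hsd]; linear_combination h2c⟩
    · exact ⟨d n, Or.inr (Or.inl rfl), hsd⟩
    · exact ⟨d' n, Or.inr (Or.inr (Or.inl rfl)), he'⟩

end ring2

section quat

variable [Finite G] (S : Sylow 2 G) (h : Dat n x y (S : Subgroup G)) (Q : Subgroup G)
  (hQS : Q ≤ S) (i : ZMod (2 ^ n)) (hi : c n * i = c n)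
  (hQ : (Q : Set G) = Hs n x y i 4)

include h hQS hi hQ

theorem Q_mem_iff (g : G) : g ∈ Q ↔ g ∈ Hs n x y i 4 := by
  rw [← hQ]; rfl

theorem z_mem_Q : P n x (c n) ∈ Q :=
  (Q_mem_iff S h Q hQS i hi hQ _).2 ⟨c n, four_c h.hn, Or.inl rfl⟩

theorem u_mem_Q : P n x (d n) ∈ Q :=
  (Q_mem_iff S h Q hQS i hi hQ _).2 ⟨d n, four_d h.hn, Or.inl rfl⟩

theorem v_mem_Q : y * P n x i ∈ Q :=
  (Q_mem_iff S h Q hQS i hi hQ _).2 (yP_mem_Hs i 4)

theorem w_mem_normalizer_Q : P n x (d' n) ∈ Subgroup.normalizer (Q : Set G) :=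
  P_mem_normalizer h Q i 4 (d' n) hQ (shift_d' h.hn)

theorem w_not_mem_K : P n x (d' n) ∉ Q ⊔ Subgroup.centralizer (Q : Set G) := by
  intro hcon
  obtain ⟨q, hq, c', hc', heq⟩ := mem_sup_centralizer Q _ hcon
  have hc'S : c' ∈ (S : Subgroup G) := by
    have : c' = q⁻¹ * P n x (d' n) := by rw [heq]; group
    rw [this]
    exact Subgroup.mul_mem _ (Subgroup.inv_mem _ (hQS hq)) (P_mem h _)
  have hc'Q : c' ∈ Q := by
    rcases cent_quat h Q i hQ c' hc'S hc' with rfl | rfl
    · exact Q.one_mem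
    · exact z_mem_Q S h Q hQS i hi hQ
  have : P n x (d' n) ∈ Q := by rw [heq]; exact Q.mul_mem hq hc'Q
  exact Pd'_not_mem_four h i ((Q_mem_iff S h Q hQS i hi hQ _).1 this)

theorem conj_mem_Q (k : G) (hk : k ∈ Subgroup.normalizer (Q : Set G)) (g : G) (hg : g ∈ Q) :
    k * g * k⁻¹ ∈ Q :=
  (Subgroup.mem_normalizer_iff.1 hk g).1 hg

/-- the elements of order four of `Q` -/
theorem Q_order_four (g : G) (hg : g ∈ Q) (ho : orderOf g = 4) :
    g = P n x (d n) ∨ g = P n x (d n + c n) ∨ ∃ j, 4 * j = 0 ∧ g = y * P n x (i + j) := by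
  obtain ⟨j, hj, rfl | rfl⟩ := (Q_mem_iff S h Q hQS i hi hQ g).1 hg
  · rcases (orderOf_P_four h j).1 ho with rfl | rfl
    · left; rfl
    · right; left; rfl
  · right; right; exact ⟨j, hj, rfl⟩

/-- conjugation by elements of `S` preserves `{u, u⁻¹}` -/
theorem S_conj_u (s : G) (hs : s ∈ (S : Subgroup G)) (r : G)
    (hr : r = P n x (d n) ∨ r = P n x (d n + c n)) :
    s * r * s⁻¹ = P n x (d n) ∨ s * r * s⁻¹ = P n x (d n + c n) := by
  rcases mem_cases h s hs with ⟨j, rfl⟩ | ⟨j, rfl⟩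
  · rcases hr with rfl | rfl
    · left; rw [P_comm h, mul_inv_cancel_right]
    · right; rw [P_comm h, mul_inv_cancel_right]
  · rcases hr with rfl | rfl
    · right; rw [yP_conj_P h, r_mul_d h.hn, d_add_c h.hn]
    · left
      rw [yP_conj_P h, d_add_c h.hn, mul_neg, r_mul_d h.hn, neg_neg]

/-- an element commuting with `u` and `v` centralizes `Q` -/
theorem comm_Q (k : G) (h1 : k * P n x (d n) = P n x (d n) * k)
    (h2 : k * (y * P n x i) = (y * P n x i) * k) : k ∈ Subgroup.centralizer (Q : Set G) := by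
  have hP : ∀ j, 4 * j = 0 → P n x j * k = k * P n x j := by
    intro j hj
    have hc : P n x (c n) * k = k * P n x (c n) := by
      rw [← two_d h.hn, two_mul, P_add h, mul_assoc, ← h1, ← mul_assoc, ← h1, mul_assoc]
    rcases (four_mul_eq_zero h.hn j).1 hj with rfl | rfl | rfl | rfl
    · rw [P_zero, one_mul, mul_one]
    · exact h1.symm
    · exact hc
    · rw [P_add h, mul_assoc, hc, ← mul_assoc, ← h1, mul_assoc]
  rw [Subgroup.mem_centralizer_iff]
  intro g hg
  obtain ⟨j, hj, rfl | rfl⟩ := (Q_mem_iff S h Q hQS i hi hQ g).1 hg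
  · exact hP j hj
  · rw [← yP_mul_P h, mul_assoc, hP j hj, ← mul_assoc, ← h2, mul_assoc]

/-- elements of `Q C(Q)` normalize `⟨u⟩` -/
theorem K_norm_U (k0 : G) (hk0 : k0 ∈ Q ⊔ Subgroup.centralizer (Q : Set G)) (j : ZMod (2 ^ n))
    (hj : 4 * j = 0) : ∃ j', 4 * j' = 0 ∧ k0 * P n x j * k0⁻¹ = P n x j' := by
  obtain ⟨q, hq, c0, hc0, rfl⟩ := mem_sup_centralizer Q _ hk0
  have hjQ : P n x j ∈ Q := (Q_mem_iff S h Q hQS i hi hQ _).2 ⟨j, hj, Or.inl rfl⟩
  have h1 : c0 * P n x j * c0⁻¹ = P n x j := by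
    have := (Subgroup.mem_centralizer_iff.1 hc0) _ hjQ
    rw [← this, mul_inv_cancel_right]
  have h2 : q * c0 * P n x j * (q * c0)⁻¹ = q * (c0 * P n x j * c0⁻¹) * q⁻¹ := by group
  rw [h2, h1]
  rcases mem_cases h q (hQS hq) with ⟨j1, rfl⟩ | ⟨j1, rfl⟩
  · exact ⟨j, hj, by rw [P_comm h, mul_inv_cancel_right]⟩
  · refine ⟨(c n - 1) * j, ?_, yP_conj_P h _ _⟩
    linear_combination (c n - 1) * hj

/-- in index two the normalizer of `Q` normalizes `⟨u⟩` -/
theorem Q_norm_U (hidx : (Q ⊔ Subgroup.centralizer (Q : Set G)).relIndex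
    (Subgroup.normalizer (Q : Set G)) = 2) (k : G) (hk : k ∈ Subgroup.normalizer (Q : Set G))
    (j : ZMod (2 ^ n)) (hj : 4 * j = 0) : ∃ j', 4 * j' = 0 ∧ k * P n x j * k⁻¹ = P n x j' := by
  rcases mem_or_of_relIndex_two _ _ hidx (P n x (d' n))
    (w_mem_normalizer_Q S h Q hQS i hi hQ) (w_not_mem_K S h Q hQS i hi hQ) k hk with h1 | h1
  · exact K_norm_U S h Q hQS i hi hQ k h1 j hj
  · obtain ⟨j', hj', h2⟩ := K_norm_U S h Q hQS i hi hQ _ h1 j hj
    refine ⟨j', hj', ?_⟩
    have h3 : k * P n x j * k⁻¹ = P n x (d' n) * ((P n x (d' n))⁻¹ * k * P n x j *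
        ((P n x (d' n))⁻¹ * k)⁻¹) * (P n x (d' n))⁻¹ := by group
    rw [h3, h2, P_comm h, mul_inv_cancel_right]

/-- the shifts of `exists_shift` give elements of `N(Q)` lying in `K ∪ wK` -/
theorem shift_props (j0 : ZMod (2 ^ n))
    (hj0 : j0 = 0 ∨ j0 = d n ∨ j0 = d' n ∨ j0 = d' n + d n) (h4 : 4 * ((c n - 2) * j0) = 0) :
    P n x j0 ∈ Subgroup.normalizer (Q : Set G) ∧
    (P n x j0 ∈ Q ⊔ Subgroup.centralizer (Q : Set G) ∨
      (P n x (d' n))⁻¹ * P n x j0 ∈ Q ⊔ Subgroup.centralizer (Q : Set G)) := by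
  refine ⟨P_mem_normalizer h Q i 4 j0 hQ h4, ?_⟩
  have huK : P n x (d n) ∈ Q ⊔ Subgroup.centralizer (Q : Set G) :=
    (le_sup_left : Q ≤ _) (u_mem_Q S h Q hQS i hi hQ)
  rcases hj0 with rfl | rfl | rfl | rfl
  · left; rw [P_zero]; exact Subgroup.one_mem _
  · left; exact huK
  · right; rw [inv_mul_cancel]; exact Subgroup.one_mem _
  · right; rw [P_add h, inv_mul_cancel_left]; exact huK

theorem v_conj_u : (y * P n x i) * P n x (d n) * (y * P n x i)⁻¹ = P n x (d n + c n) := by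
  rw [yP_conj_P h, r_mul_d h.hn, d_add_c h.hn]

/-- without fusion of `v` into `⟨u⟩`, an element of `N(Q)` fixing `v` lies in `Q C(Q)` -/
theorem mem_K_of_fix_v (hno : ∀ k ∈ Subgroup.normalizer (Q : Set G),
    k * (y * P n x i) * k⁻¹ ≠ P n x (d n) ∧ k * (y * P n x i) * k⁻¹ ≠ P n x (d n + c n))
    (k' : G) (hk' : k' ∈ Subgroup.normalizer (Q : Set G))
    (hfix : k' * (y * P n x i) * k'⁻¹ = y * P n x i) :
    k' ∈ Q ⊔ Subgroup.centralizer (Q : Set G) := by
  have huQ := u_mem_Q S h Q hQS i hi hQ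
  have hvQ := v_mem_Q S h Q hQS i hi hQ
  have hcv : k' * (y * P n x i) = (y * P n x i) * k' := by
    conv_rhs => rw [← hfix]
    group
  have h1 := conj_mem_Q S h Q hQS i hi hQ k' hk' _ huQ
  have ho : orderOf (k' * P n x (d n) * k'⁻¹) = 4 := by
    rw [orderOf_conj, orderOf_P_four h]; left; rfl
  rcases Q_order_four S h Q hQS i hi hQ _ h1 ho with h2 | h2 | ⟨j', hj', h2⟩
  · apply (le_sup_right : Subgroup.centralizer (Q : Set G) ≤ _)
    apply comm_Q S h Q hQS i hi hQ k' _ hcv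
    conv_rhs => rw [← h2]
    group
  · have h3 : (y * P n x i)⁻¹ * k' ∈ Subgroup.centralizer (Q : Set G) := by
      apply comm_Q S h Q hQS i hi hQ
      · have h4 : (y * P n x i)⁻¹ * k' * P n x (d n) =
            (y * P n x i)⁻¹ * (k' * P n x (d n) * k'⁻¹) * k' := by group
        rw [h4, h2, ← v_conj_u S h Q hQS i hi hQ]
        group
      · rw [mul_assoc, hcv]; group
    have h5 : k' = (y * P n x i) * ((y * P n x i)⁻¹ * k') := by group
    rw [h5]
    exact Subgroup.mul_mem _ ((le_sup_left : Q ≤ _) hvQ) ((le_sup_right :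
      Subgroup.centralizer (Q : Set G) ≤ _) h3)
  · exfalso
    obtain ⟨j0, hj0, hsh⟩ := exists_shift h.hn j' hj'
    obtain ⟨hN, -⟩ := shift_props S h Q hQS i hi hQ j0 hj0 (by rw [hsh]; exact hj')
    have h3 : P n x j0 * (y * P n x i) * (P n x j0)⁻¹ = y * P n x (i + j') := by
      rw [P_conj_yP h, hsh]
    have h4 := (hno (k'⁻¹ * P n x j0) (Subgroup.mul_mem _ (Subgroup.inv_mem _ hk') hN)).1
    apply h4
    have h5 : k'⁻¹ * P n x j0 * (y * P n x i) * (k'⁻¹ * P n x j0)⁻¹ =
        k'⁻¹ * (P n x j0 * (y * P n x i) * (P n x j0)⁻¹) * k' := by group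
    rw [h5, h3, ← h2]
    group

/-- in index six, `v` is fused into `⟨u⟩` in `N(Q)` -/
theorem Q_fuse (hidx : (Q ⊔ Subgroup.centralizer (Q : Set G)).relIndex
    (Subgroup.normalizer (Q : Set G)) = 6) :
    ∃ k ∈ Subgroup.normalizer (Q : Set G),
      k * (y * P n x i) * k⁻¹ = P n x (d n) ∨ k * (y * P n x i) * k⁻¹ = P n x (d n + c n) := by
  by_contra hcon
  push_neg at hcon
  have hvQ := v_mem_Q S h Q hQS i hi hQ
  have hwN := w_mem_normalizer_Q S h Q hQS i hi hQ
  have hall : ∀ k ∈ Subgroup.normalizer (Q : Set G),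
      k ∈ Q ⊔ Subgroup.centralizer (Q : Set G) ∨
        (P n x (d' n))⁻¹ * k ∈ Q ⊔ Subgroup.centralizer (Q : Set G) := by
    intro k hk
    have h1 := conj_mem_Q S h Q hQS i hi hQ k hk _ hvQ
    have ho : orderOf (k * (y * P n x i) * k⁻¹) = 4 := by
      rw [orderOf_conj, orderOf_yP_odd h i hi]
    rcases Q_order_four S h Q hQS i hi hQ _ h1 ho with h2 | h2 | ⟨j', hj', h2⟩
    · exact absurd h2 (hcon k hk).1
    · exact absurd h2 (hcon k hk).2
    · obtain ⟨j0, hj0, hsh⟩ := exists_shift h.hn j' hj'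
      obtain ⟨hN, hKw⟩ := shift_props S h Q hQS i hi hQ j0 hj0 (by rw [hsh]; exact hj')
      have h3 : P n x j0 * (y * P n x i) * (P n x j0)⁻¹ = y * P n x (i + j') := by
        rw [P_conj_yP h, hsh]
      have h4 : (P n x j0)⁻¹ * k ∈ Q ⊔ Subgroup.centralizer (Q : Set G) := by
        apply mem_K_of_fix_v S h Q hQS i hi hQ hcon _
          (Subgroup.mul_mem _ (Subgroup.inv_mem _ hN) hk)
        have h5 : (P n x j0)⁻¹ * k * (y * P n x i) * ((P n x j0)⁻¹ * k)⁻¹ =
            (P n x j0)⁻¹ * (k * (y * P n x i) * k⁻¹) * P n x j0 := by group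
        rw [h5, h2, ← h3]
        group
      rcases hKw with h6 | h6
      · left
        have : k = P n x j0 * ((P n x j0)⁻¹ * k) := by group
        rw [this]
        exact Subgroup.mul_mem _ h6 h4
      · right
        have : (P n x (d' n))⁻¹ * k = (P n x (d' n))⁻¹ * P n x j0 * ((P n x j0)⁻¹ * k) := by group
        rw [this]
        exact Subgroup.mul_mem _ h6 h4
  have := relIndex_le_two _ _ (P n x (d' n)) hwN hall
  omega

theorem Pdc_eq_inv : P n x (d n + c n) = (P n x (d n))⁻¹ := by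
  rw [d_add_c h.hn, P_neg h]

/-- elements of `⟨u⟩` are powers of `x` -/
theorem U_mem (r : G) (hr : r ∈ Subgroup.zpowers (P n x (d n))) : ∃ j, r = P n x j := by
  rw [← mem_powers_iff_mem_zpowers] at hr
  obtain ⟨m, rfl⟩ := hr
  exact ⟨_, P_pow h _ _⟩

theorem S_le_normalizer_U :
    (S : Subgroup G) ≤ Subgroup.normalizer (Subgroup.zpowers (P n x (d n)) : Set G) := by
  intro s hs
  apply mem_normalizer_of_conj_mem
  intro r hr
  obtain ⟨m, rfl⟩ := Subgroup.mem_zpowers_iff.1 hr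
  rw [← conj_zpow]
  apply Subgroup.zpow_mem
  rcases S_conj_u S h Q hQS i hi hQ s hs _ (Or.inl rfl) with h1 | h1
  · rw [h1]; exact Subgroup.mem_zpowers _
  · rw [h1, Pdc_eq_inv S h Q hQS i hi hQ]
    exact Subgroup.inv_mem _ (Subgroup.mem_zpowers _)

/-- fusion of `v` into `⟨u⟩` is controlled by `N(Q)` -/
theorem Q_control (eQ : Q ≃* QuaternionGroup 2) (g : G)
    (hg : g * (y * P n x i) * g⁻¹ = P n x (d n) ∨ g * (y * P n x i) * g⁻¹ = P n x (d n + c n)) :
    ∃ k ∈ Subgroup.normalizer (Q : Set G),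
      k * (y * P n x i) * k⁻¹ = P n x (d n) ∨ k * (y * P n x i) * k⁻¹ = P n x (d n + c n) := by
  obtain ⟨hcQ, -, -, -, -⟩ := quat_facts Q eQ
  have hvQ := v_mem_Q S h Q hQS i hi hQ
  set U := Subgroup.zpowers (P n x (d n)) with hU
  set V := Subgroup.zpowers (y * P n x i) with hV
  have hVQ : V ≤ Q := by rw [hV, Subgroup.zpowers_le]; exact hvQ
  have hVcard : Nat.card V = 4 := by rw [hV, Nat.card_zpowers, orderOf_yP_odd h i hi]
  have hVidx : V.relIndex Q = 2 := by
    have := card_mul_relIndex hVQ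
    rw [hVcard, hcQ] at this
    omega
  have hQNV : Q ≤ Subgroup.normalizer (V : Set G) := by
    rw [← Subgroup.normal_subgroupOf_iff_le_normalizer hVQ]
    exact Subgroup.normal_of_index_eq_two hVidx
  have hgU : g * (y * P n x i) * g⁻¹ ∈ U := by
    rcases hg with h1 | h1
    · rw [h1]; exact Subgroup.mem_zpowers _
    · rw [h1, Pdc_eq_inv S h Q hQS i hi hQ]
      exact Subgroup.inv_mem _ (Subgroup.mem_zpowers _)
  have hVU : V.map (MulAut.conj g).toMonoidHom = U := by
    rw [hV, MonoidHom.map_zpowers]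
    show Subgroup.zpowers (g * (y * P n x i) * g⁻¹) = U
    rcases hg with h1 | h1
    · rw [h1]
    · rw [h1, Pdc_eq_inv S h Q hQS i hi hQ, Subgroup.zpowers_inv]
  have hYNU : Q.map (MulAut.conj g).toMonoidHom ≤ Subgroup.normalizer (U : Set G) := by
    rw [← hVU, ← Subgroup.map_equiv_normalizer_eq]
    exact Subgroup.map_mono hQNV
  have hY : IsPGroup 2 (Q.map (MulAut.conj g).toMonoidHom) :=
    (IsPGroup.to_le S.isPGroup' hQS).map _
  obtain ⟨m, hm, hmS⟩ := Cfsg.Agent.H2.exists_conj_le_sylow_of_le S _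
    (S_le_normalizer_U S h Q hQS i hi hQ) _ hY hYNU
  set Q' := Q.map (MulAut.conj (m * g)).toMonoidHom with hQ'
  have hQ'S : Q' ≤ (S : Subgroup G) := by
    rintro _ ⟨q, hq, rfl⟩
    have : (MulAut.conj (m * g)).toMonoidHom q =
        (MulAut.conj m).toMonoidHom ((MulAut.conj g).toMonoidHom q) := by
      simp [MulAut.conj_apply, mul_assoc]
    rw [this]
    exact hmS ⟨_, ⟨q, hq, rfl⟩, rfl⟩
  have hQ'card : Nat.card Q' = Nat.card Q := card_map_conj Q (m * g)
  let e' : Q' ≃* QuaternionGroup 2 :=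
    (Q.equivMapOfInjective (MulAut.conj (m * g)).toMonoidHom (MulAut.conj (m * g)).injective).symm.trans eQ
  obtain ⟨hcQ', hexpQ', hncQ', huQ', -⟩ := quat_facts Q' e'
  obtain ⟨i', hi', hQ'i⟩ := quat_eq h Q' hQ'S hcQ' hexpQ' hncQ' huQ'
  obtain ⟨s, hs, hsQ⟩ := exists_conj_of_Hs h Q' Q i' i 4 hQ'i hQ
    (by linear_combination hi - hi') (by rw [hQ'card])
  -- the image of v under m * g
  have hk1 : (m * g) * (y * P n x i) * (m * g)⁻¹ = P n x (d n) ∨
      (m * g) * (y * P n x i) * (m * g)⁻¹ = P n x (d n + c n) := by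
    have h1 : (m * g) * (y * P n x i) * (m * g)⁻¹ = m * (g * (y * P n x i) * g⁻¹) * m⁻¹ := by
      group
    have h2 : m * (g * (y * P n x i) * g⁻¹) * m⁻¹ ∈ U :=
      (Subgroup.mem_normalizer_iff.1 hm _).1 hgU
    obtain ⟨j, hj⟩ := U_mem S h Q hQS i hi hQ _ h2
    have ho : orderOf (P n x j) = 4 := by
      rw [← hj, orderOf_conj, orderOf_conj, orderOf_yP_odd h i hi]
    rw [h1, hj]
    rcases (orderOf_P_four h j).1 ho with rfl | rfl
    · left; rfl
    · right; rfl
  refine ⟨s * (m * g), ?_, ?_⟩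
  · apply mem_normalizer_of_conj_mem
    intro q hq
    rw [← hsQ]
    have : s * (m * g) * q * (s * (m * g))⁻¹ = s * ((m * g) * q * (m * g)⁻¹) * s⁻¹ := by group
    rw [this]
    exact ⟨_, ⟨q, hq, rfl⟩, rfl⟩
  · have h1 : s * (m * g) * (y * P n x i) * (s * (m * g))⁻¹ =
        s * ((m * g) * (y * P n x i) * (m * g)⁻¹) * s⁻¹ := by group
    rw [h1]
    exact S_conj_u S h Q hQS i hi hQ s hs _ hk1

/-- in index two, no element of order four outside `⟨x⟩` is fused into `⟨x⟩` -/
theorem Q_nofuse (eQ : Q ≃* QuaternionGroup 2)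
    (hidx : (Q ⊔ Subgroup.centralizer (Q : Set G)).relIndex
      (Subgroup.normalizer (Q : Set G)) = 2) (g : G) (i0 : ZMod (2 ^ n)) (hi0 : c n * i0 = c n) :
    g * (y * P n x i0) * g⁻¹ ≠ P n x (d n) ∧ g * (y * P n x i0) * g⁻¹ ≠ P n x (d n + c n) := by
  by_contra hcon
  have hcon' : g * (y * P n x i0) * g⁻¹ = P n x (d n) ∨
      g * (y * P n x i0) * g⁻¹ = P n x (d n + c n) := by
    by_contra h1
    push_neg at h1
    exact hcon h1
  obtain ⟨j, hj⟩ := exists_conj_yP h i i0 (by linear_combination hi0 - hi)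
  have h1 : (g * P n x j) * (y * P n x i) * (g * P n x j)⁻¹ = g * (y * P n x i0) * g⁻¹ := by
    rw [← hj]; group
  obtain ⟨k, hk, hkv⟩ := Q_control S h Q hQS i hi hQ eQ (g * P n x j) (by rw [h1]; exact hcon')
  have hkinv : k⁻¹ ∈ Subgroup.normalizer (Q : Set G) := Subgroup.inv_mem _ hk
  have h4dc : 4 * (d n + c n) = 0 := by
    have h1 := four_d h.hn
    have h2 := four_c h.hn
    linear_combination h1 + h2
  have h2 : ∃ j1, 4 * j1 = 0 ∧ k * (y * P n x i) * k⁻¹ = P n x j1 := by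
    rcases hkv with h3 | h3
    · exact ⟨_, four_d h.hn, h3⟩
    · exact ⟨_, h4dc, h3⟩
  obtain ⟨j1, hj1, h3⟩ := h2
  obtain ⟨j', -, h4⟩ := Q_norm_U S h Q hQS i hi hQ hidx k⁻¹ hkinv j1 hj1
  rw [← h3] at h4
  have h5 : y * P n x i = P n x j' := by
    rw [← h4]; group
  exact y_ne_P h _ _ h5

/-- in index six, every element of order four outside `⟨x⟩` is fused to `u` -/
theorem Q_allfuse (hidx : (Q ⊔ Subgroup.centralizer (Q : Set G)).relIndex
      (Subgroup.normalizer (Q : Set G)) = 6) (i0 : ZMod (2 ^ n)) (hi0 : c n * i0 = c n) :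
    ∃ g : G, g * (y * P n x i0) * g⁻¹ = P n x (d n) := by
  obtain ⟨j, hj⟩ := exists_conj_yP h i0 i (by linear_combination hi - hi0)
  obtain ⟨k, hk, hkv⟩ := Q_fuse S h Q hQS i hi hQ hidx
  rcases hkv with h1 | h1
  · refine ⟨k * P n x j, ?_⟩
    rw [← h1, ← hj]; group
  · refine ⟨y * (k * P n x j), ?_⟩
    have h2 : y * (k * P n x j) * (y * P n x i0) * (y * (k * P n x j))⁻¹ =
        y * (k * (P n x j * (y * P n x i0) * (P n x j)⁻¹) * k⁻¹) * y⁻¹ := by group
    rw [h2, hj, h1, conj_P h, d_add_c h.hn, mul_neg, r_mul_d h.hn, neg_neg]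

end quat

end Cfsg.Agent.Lead.QD
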