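import Mathlib
import Cfsg.Agent.Lib.Lead.QDFusion

/-!
# Groups with quasi-dihedral Sylow 2-subgroups: counting classes of elements of order 2 and 4
(lead)
-/

set_option autoImplicit false
set_option linter.style.haveILetI false
set_option linter.unusedVariables false
set_option linter.unusedSectionVars false

namespace Cfsg.Agent.Lead.QD

open Cfsg.Agent.Lib.Lead.Conj

variable {G : Type*} [Group G] {n : ℕ} {x y : G}

/-- one class of elements of order `k` -/
theorem card_classes_one (k : ℕ) (a0 : G) (h0 : orderOf a0 = k)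
    (hall : ∀ t : G, orderOf t = k → ∃ g, g * t * g⁻¹ = a0) :
    Nat.card {C : ConjClasses G // ∃ t : G, orderOf t = k ∧ ConjClasses.mk t = C} = 1 := by
  rw [Nat.card_eq_one_iff_unique]
  constructor
  · constructor
    rintro ⟨C1, t1, ht1, rfl⟩ ⟨C2, t2, ht2, rfl⟩
    apply Subtype.ext
    simp only
    obtain ⟨g1, hg1⟩ := hall t1 ht1
    obtain ⟨g2, hg2⟩ := hall t2 ht2
    have e1 : ConjClasses.mk t1 = ConjClasses.mk a0 := by
      rw [ConjClasses.mk_eq_mk_iff_isConj, isConj_iff]; exact ⟨g1, hg1⟩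
    have e2 : ConjClasses.mk t2 = ConjClasses.mk a0 := by
      rw [ConjClasses.mk_eq_mk_iff_isConj, isConj_iff]; exact ⟨g2, hg2⟩
    rw [e1, e2]
  · exact ⟨⟨ConjClasses.mk a0, a0, h0, rfl⟩⟩

/-- two classes of elements of order `k` -/
theorem card_classes_two (k : ℕ) (a0 b0 : G) (ha0 : orderOf a0 = k) (hb0 : orderOf b0 = k)
    (hne : ∀ g : G, g * a0 * g⁻¹ ≠ b0)
    (hall : ∀ t : G, orderOf t = k → (∃ g, g * t * g⁻¹ = a0) ∨ (∃ g, g * t * g⁻¹ = b0)) :
    Nat.card {C : ConjClasses G // ∃ t : G, orderOf t = k ∧ ConjClasses.mk t = C} = 2 := by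
  rw [Nat.card_eq_two_iff]
  refine ⟨⟨ConjClasses.mk a0, a0, ha0, rfl⟩, ⟨ConjClasses.mk b0, b0, hb0, rfl⟩, ?_, ?_⟩
  · intro hab
    have h1 := congrArg Subtype.val hab
    simp only at h1
    rw [ConjClasses.mk_eq_mk_iff_isConj, isConj_iff] at h1
    obtain ⟨g, hg⟩ := h1
    exact hne g hg
  · rw [Set.eq_univ_iff_forall]
    rintro ⟨C, t, ht, rfl⟩
    rcases hall t ht with ⟨g, hg⟩ | ⟨g, hg⟩
    · left
      apply Subtype.ext
      simp only
      rw [ConjClasses.mk_eq_mk_iff_isConj, isConj_iff]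
      exact ⟨g, hg⟩
    · right
      rw [Set.mem_singleton_iff]
      apply Subtype.ext
      simp only
      rw [ConjClasses.mk_eq_mk_iff_isConj, isConj_iff]
      exact ⟨g, hg⟩

section sylow

variable [Finite G] (S : Sylow 2 G) (h : Dat n x y (S : Subgroup G))

include h

/-- every involution is conjugate to `z` or to `y` -/
theorem invol_cases (t : G) (ht : orderOf t = 2) :
    (∃ g, g * t * g⁻¹ = P n x (c n)) ∨ (∃ g, g * t * g⁻¹ = y * P n x 0) := by
  obtain ⟨k, -, hk⟩ := Cfsg.Agent.H2.exists_conj_mem_sylow_of_mem S ⊤ le_top t (Subgroup.mem_top t)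
    ⟨1, by rw [ht, pow_one]⟩
  have ho : orderOf (k * t * k⁻¹) = 2 := by rw [orderOf_conj, ht]
  rcases mem_cases h _ hk with ⟨j, hj⟩ | ⟨j, hj⟩
  · left
    rw [hj, orderOf_P_two h] at ho
    exact ⟨k, by rw [hj, ho]⟩
  · right
    rw [hj] at ho
    rcases orderOf_yP_cases h j with ⟨hj0, -⟩ | ⟨-, ho'⟩
    · obtain ⟨j1, hj1⟩ := exists_conj_yP h j 0 (by linear_combination (-1 : ZMod (2 ^ n)) * hj0)
      refine ⟨P n x j1 * k, ?_⟩
      rw [← hj1, ← hj]; group
    · rw [ho'] at ho; omega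

/-- every element of order four is conjugate to `u` or to `y x` -/
theorem four_cases (a : G) (ha : orderOf a = 4) :
    (∃ g, g * a * g⁻¹ = P n x (d n)) ∨ (∃ g, g * a * g⁻¹ = y * P n x 1) := by
  obtain ⟨k, -, hk⟩ := Cfsg.Agent.H2.exists_conj_mem_sylow_of_mem S ⊤ le_top a (Subgroup.mem_top a)
    ⟨2, by rw [ha]; norm_num⟩
  have ho : orderOf (k * a * k⁻¹) = 4 := by rw [orderOf_conj, ha]
  rcases mem_cases h _ hk with ⟨j, hj⟩ | ⟨j, hj⟩
  · left
    rw [hj, orderOf_P_four h] at ho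
    rcases ho with rfl | rfl
    · exact ⟨k, hj⟩
    · refine ⟨y * k, ?_⟩
      have h2 : y * k * a * (y * k)⁻¹ = y * (k * a * k⁻¹) * y⁻¹ := by group
      rw [h2, hj, conj_P h, d_add_c h.hn, mul_neg, r_mul_d h.hn, neg_neg]
  · right
    rw [hj] at ho
    rcases orderOf_yP_cases h j with ⟨-, ho'⟩ | ⟨hj0, -⟩
    · rw [ho'] at ho; omega
    · obtain ⟨j1, hj1⟩ := exists_conj_yP h j 1 (by
        linear_combination (-1 : ZMod (2 ^ n)) * hj0)
      refine ⟨P n x j1 * k, ?_⟩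
      rw [← hj1, ← hj]; group

theorem c_mul_one_eq : c n * (1 : ZMod (2 ^ n)) = c n := mul_one _

theorem c_mul_zero_eq : c n * (0 : ZMod (2 ^ n)) = 0 := mul_zero _

end sylow

end Cfsg.Agent.Lead.QD
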