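import Mathlib
import Cfsg.Agent.Lib.Lead.QDClasses
import Cfsg.Agent.Lib.Helper5.DihedralRecog
import Cfsg.Agent.H2.UniqueOrderP

/-!
# Quasi-dihedral groups: the dihedral and the generalized quaternion maximal subgroups (lead)
-/

set_option autoImplicit false
set_option linter.style.haveILetI false
set_option linter.unusedVariables false
set_option linter.unusedSectionVars false

namespace Cfsg.Agent.Lead.QD

variable {G : Type*} [Group G] {n : ℕ} {x y : G} {S : Subgroup G}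

/-- the maximal subgroup `{P j | j even} ∪ {y P j | c j = ε}` -/
def Mx (h : Dat n x y S) (ε : ZMod (2 ^ n)) (hε : ε = 0 ∨ ε = c n) : Subgroup G where
  carrier := {g | (∃ j, c n * j = 0 ∧ g = P n x j) ∨ (∃ j, c n * j = ε ∧ g = y * P n x j)}
  one_mem' := Or.inl ⟨0, mul_zero _, (P_zero x).symm⟩
  mul_mem' := by
    rintro _ _ (⟨j1, h1, rfl⟩ | ⟨j1, h1, rfl⟩) (⟨j2, h2, rfl⟩ | ⟨j2, h2, rfl⟩)
    · left; exact ⟨j1 + j2, by rw [mul_add, h1, h2, add_zero], (P_add h _ _).symm⟩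
    · right
      refine ⟨(c n - 1) * j1 + j2, ?_, P_mul_yP h _ _⟩
      linear_combination (c n - 1) * h1 + h2
    · right; exact ⟨j1 + j2, by rw [mul_add, h1, h2, add_zero], yP_mul_P h _ _⟩
    · left
      refine ⟨(c n - 1) * j1 + j2, ?_, yP_mul_yP h _ _⟩
      rcases hε with rfl | rfl
      · linear_combination (c n - 1) * h1 + h2
      · have := c_sq h.hn
        linear_combination (c n - 1) * h1 + h2 + this
  inv_mem' := by
    rintro _ (⟨j1, h1, rfl⟩ | ⟨j1, h1, rfl⟩)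
    · left; exact ⟨-j1, by rw [mul_neg, h1, neg_zero], (P_neg h _).symm⟩
    · right
      refine ⟨-((c n - 1) * j1), ?_, yP_inv h _⟩
      rcases hε with rfl | rfl
      · linear_combination (-(c n - 1)) * h1
      · have := c_sq h.hn
        linear_combination (-(c n - 1)) * h1 - this

theorem mem_Mx (h : Dat n x y S) (ε : ZMod (2 ^ n)) (hε : ε = 0 ∨ ε = c n) (g : G) :
    g ∈ Mx h ε hε ↔
      (∃ j, c n * j = 0 ∧ g = P n x j) ∨ (∃ j, c n * j = ε ∧ g = y * P n x j) := Iff.rfl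

theorem P_mem_Mx (h : Dat n x y S) (ε : ZMod (2 ^ n)) (hε : ε = 0 ∨ ε = c n) (j : ZMod (2 ^ n)) :
    P n x j ∈ Mx h ε hε ↔ c n * j = 0 := by
  rw [mem_Mx]
  constructor
  · rintro (⟨j', hj', heq⟩ | ⟨j', hj', heq⟩)
    · rw [P_inj h heq]; exact hj'
    · exact absurd heq.symm (y_ne_P h _ _)
  · intro hj; exact Or.inl ⟨j, hj, rfl⟩

theorem yP_mem_Mx (h : Dat n x y S) (ε : ZMod (2 ^ n)) (hε : ε = 0 ∨ ε = c n) (j : ZMod (2 ^ n)) :
    y * P n x j ∈ Mx h ε hε ↔ c n * j = ε := by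
  rw [mem_Mx]
  constructor
  · rintro (⟨j', hj', heq⟩ | ⟨j', hj', heq⟩)
    · exact absurd heq (y_ne_P h _ _)
    · rw [yP_inj h heq]; exact hj'
  · intro hj; exact Or.inr ⟨j, hj, rfl⟩

theorem Mx_le (h : Dat n x y S) (ε : ZMod (2 ^ n)) (hε : ε = 0 ∨ ε = c n) : Mx h ε hε ≤ S := by
  rintro _ (⟨j, -, rfl⟩ | ⟨j, -, rfl⟩)
  · exact P_mem h _
  · exact yP_mem h _

theorem x_not_mem_Mx (h : Dat n x y S) (ε : ZMod (2 ^ n)) (hε : ε = 0 ∨ ε = c n) :
    P n x 1 ∉ Mx h ε hε := by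
  rw [P_mem_Mx, mul_one]
  exact c_ne h.hn

theorem Mx_relIndex [Finite G] (h : Dat n x y S) (ε : ZMod (2 ^ n)) (hε : ε = 0 ∨ ε = c n) :
    (Mx h ε hε).relIndex S = 2 := by
  have h1 : (Mx h ε hε).relIndex S ≤ 2 := by
    apply relIndex_le_two _ _ (P n x 1) (P_mem h _)
    intro s hs
    rcases mem_cases h s hs with ⟨j, rfl⟩ | ⟨j, rfl⟩
    · rcases c_mul_cases h.hn j with hj | hj
      · left; exact (P_mem_Mx h ε hε j).2 hj
      · right
        rw [← P_neg h, ← P_add h, P_mem_Mx]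
        linear_combination hj
    · by_cases hj : c n * j = ε
      · left; exact (yP_mem_Mx h ε hε j).2 hj
      · right
        rw [← P_neg h, P_mul_yP h, yP_mem_Mx]
        have h2c := two_c h.hn
        have hcc := c_sq h.hn
        rcases c_mul_cases h.hn j with hj' | hj' <;> rcases hε with rfl | rfl
        · exact absurd hj' hj
        · linear_combination hj' - hcc
        · linear_combination hj' - hcc + h2c
        · exact absurd hj' hj
  have h2 : (Mx h ε hε).relIndex S ≠ 1 := by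
    rw [Ne, Subgroup.relIndex_eq_one]
    intro hle
    exact x_not_mem_Mx h ε hε (hle (P_mem h _))
  have h3 : (Mx h ε hε).relIndex S ≠ 0 := by
    rw [Subgroup.relIndex]
    exact Subgroup.index_ne_zero_of_finite
  omega

theorem Mx_card [Finite G] (h : Dat n x y S) (ε : ZMod (2 ^ n)) (hε : ε = 0 ∨ ε = c n) :
    Nat.card (Mx h ε hε) = 2 ^ n := by
  have := card_mul_relIndex (Mx_le h ε hε)
  rw [Mx_relIndex h ε hε, h.card, pow_succ] at this
  omega

theorem orderOf_P2 (h : Dat n x y S) : orderOf (P n x 2) = 2 ^ (n - 1) := by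
  have hn := h.hn
  have e1 : n - 1 = (n - 2) + 1 := by omega
  rw [e1]
  apply orderOf_eq_prime_pow
  · rw [P_pow h]
    have : ((2 ^ (n - 2) : ℕ) : ZMod (2 ^ n)) = d n := rfl
    rw [this, mul_comm, two_d h.hn, P_eq_one h]
    exact c_ne h.hn
  · rw [← e1, P_pow h]
    have : ((2 ^ (n - 1) : ℕ) : ZMod (2 ^ n)) = c n := rfl
    rw [this, mul_comm, two_c h.hn, P_zero]

/-- the dihedral maximal subgroup -/
theorem Mx_zero_dihedral [Finite G] (h : Dat n x y S) :
    Nonempty (↥(Mx h 0 (Or.inl rfl)) ≃* DihedralGroup (2 ^ (n - 1))) := by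
  have hn := h.hn
  have hcard : Nat.card (Mx h 0 (Or.inl rfl)) = 2 * 2 ^ (n - 1) := by
    rw [Mx_card, ← pow_succ']
    congr 1; omega
  have ha : y * P n x 0 ∈ Mx h 0 (Or.inl rfl) := (yP_mem_Mx h 0 _ 0).2 (mul_zero _)
  have hb : y * P n x 2 ∈ Mx h 0 (Or.inl rfl) := (yP_mem_Mx h 0 _ 2).2 (by
    rw [mul_comm]; exact two_c h.hn)
  apply Cfsg.Agent.Lib.Helper5.DihedralRecog.dihedral_of_involutions (2 ^ (n - 1)) hcard
    ⟨_, ha⟩ ⟨_, hb⟩
  · rw [Subgroup.orderOf_mk]; exact orderOf_yP_even h 0 (mul_zero _)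
  · rw [Subgroup.orderOf_mk]
    exact orderOf_yP_even h 2 (by rw [mul_comm]; exact two_c h.hn)
  · intro heq
    have h1 := congrArg Subtype.val heq
    simp only at h1
    have h2 := yP_inj h h1
    have h3 : (2 : ZMod (2 ^ n)) * 1 = 0 := by rw [mul_one]; exact h2.symm
    rcases (two_mul_eq_zero h.hn 1).1 h3 with h4 | h4
    · apply c_ne h.hn
      rw [← mul_one (c n), h4, mul_zero]
    · apply c_ne h.hn
      have h5 := c_sq h.hn
      rw [← h4, mul_one] at h5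
      rw [← h4]; exact h5
  · have h1 : (⟨y * P n x 0, ha⟩ : Mx h 0 (Or.inl rfl)) * ⟨y * P n x 2, hb⟩ =
        ⟨P n x 2, (P_mem_Mx h 0 _ 2).2 (by rw [mul_comm]; exact two_c h.hn)⟩ := by
      apply Subtype.ext
      change (y * P n x 0) * (y * P n x 2) = P n x 2
      rw [yP_mul_yP h, mul_zero, zero_add]
    rw [h1, Subgroup.orderOf_mk, orderOf_P2 h]

/-- the generalized quaternion maximal subgroup -/
theorem Mx_c_quaternion [Finite G] (h : Dat n x y S) :
    Nonempty (↥(Mx h (c n) (Or.inr rfl)) ≃* QuaternionGroup (2 ^ (n - 2))) := by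
  have hn := h.hn
  have h2c : c n * 2 = 0 := by rw [mul_comm]; exact two_c h.hn
  have hcard : Nat.card (Mx h (c n) (Or.inr rfl)) = 4 * 2 ^ (n - 2) := by
    rw [Mx_card]
    have : n = (n - 2) + 1 + 1 := by omega
    conv_lhs => rw [this, pow_succ, pow_succ]
    ring
  have hX : P n x 2 ∈ Mx h (c n) (Or.inr rfl) := (P_mem_Mx h _ _ 2).2 h2c
  have hY : y * P n x 1 ∈ Mx h (c n) (Or.inr rfl) := (yP_mem_Mx h _ _ 1).2 (mul_one _)
  haveI : NeZero (2 ^ (n - 2)) := ⟨by positivity⟩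
  have e1 : 2 * 2 ^ (n - 2) = 2 ^ (n - 1) := by
    rw [← pow_succ']; congr 1; omega
  have hd : ((2 ^ (n - 2) : ℕ) : ZMod (2 ^ n)) = d n := rfl
  have h1 : (⟨P n x 2, hX⟩ : Mx h (c n) (Or.inr rfl)) ^ (2 * 2 ^ (n - 2)) = 1 := by
    apply Subtype.ext
    rw [Subgroup.coe_pow, Subgroup.coe_one]
    change (P n x 2) ^ (2 * 2 ^ (n - 2)) = 1
    rw [e1, ← orderOf_P2 h]; exact pow_orderOf_eq_one _
  have h2 : (⟨y * P n x 1, hY⟩ : Mx h (c n) (Or.inr rfl)) * ⟨y * P n x 1, hY⟩ =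
      (⟨P n x 2, hX⟩ : Mx h (c n) (Or.inr rfl)) ^ (2 ^ (n - 2)) := by
    apply Subtype.ext
    rw [Subgroup.coe_pow]
    change (y * P n x 1) * (y * P n x 1) = (P n x 2) ^ (2 ^ (n - 2))
    rw [sq_yP h, P_pow h, hd, mul_one, mul_comm, two_d h.hn]
  have h3 : (⟨P n x 2, hX⟩ : Mx h (c n) (Or.inr rfl)) * ⟨y * P n x 1, hY⟩ =
      ⟨y * P n x 1, hY⟩ * (⟨P n x 2, hX⟩ : Mx h (c n) (Or.inr rfl))⁻¹ := by
    apply Subtype.ext
    change P n x 2 * (y * P n x 1) = (y * P n x 1) * (P n x 2)⁻¹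
    rw [P_mul_yP h, ← P_neg h, yP_mul_P h]
    congr 2
    linear_combination h2c
  obtain ⟨f, hfa, hfxa⟩ := Cfsg.Agent.H2.UOP.quatHom (2 ^ (n - 2)) _ _ h1 h2 h3
  have hinj := Cfsg.Agent.H2.UOP.quatHom_injective (2 ^ (n - 2)) _ _ f hfa hfxa
    (by rw [Subgroup.orderOf_mk, e1]; exact orderOf_P2 h)
    (by
      intro hmem
      obtain ⟨k, hk⟩ := Subgroup.mem_zpowers_iff.mp hmem
      have h6 : (P n x 2) ^ k = y * P n x 1 := by
        have := congrArg Subtype.val hk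
        rw [Subgroup.coe_zpow] at this
        exact this
      have h7 : (P n x 2) ^ k ∈ Subgroup.zpowers x := by
        apply Subgroup.zpow_mem
        exact Subgroup.pow_mem _ (Subgroup.mem_zpowers x) _
      rw [h6] at h7
      obtain ⟨m, hm⟩ := (mem_powers_iff_mem_zpowers).2 h7
      have h8 : x ^ m = P n x (m : ZMod (2 ^ n)) := (P_natCast h m).symm
      simp only at hm
      rw [h8] at hm
      exact y_ne_P h _ _ hm.symm)
  have hbij : Function.Bijective f := by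
    apply hinj.bijective_of_nat_card_le
    rw [Nat.card_eq_fintype_card (α := QuaternionGroup (2 ^ (n - 2))), QuaternionGroup.card,
      hcard]
  exact ⟨(MulEquiv.ofBijective f hbij).symm⟩

end Cfsg.Agent.Lead.QD
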