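import Mathlib

/-!
# Transfer into a fusion-closed subgroup of index two of a Sylow 2-subgroup (lead)

If `Q` has index two in the Sylow 2-subgroup `P` and both `Q` and `P \ Q` are closed under fusion
in `G`, then `G` has a normal subgroup `M` of index two with `M ∩ P = Q`.
-/

set_option autoImplicit false
set_option linter.style.haveILetI false
set_option linter.unusedVariables false
set_option linter.unusedSectionVars false

namespace Cfsg.Agent.Lead.Transfer2

open MulAction

theorem transfer_index_two {G : Type*} [Group G] [Finite G] (P : Sylow 2 G) (Q : Subgroup G)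
    (hQP : Q ≤ (P : Subgroup G)) (hQi : Q.relIndex (P : Subgroup G) = 2)
    (hcl : ∀ s ∈ (P : Subgroup G), ∀ g : G, g⁻¹ * s * g ∈ (P : Subgroup G) →
      (g⁻¹ * s * g ∈ Q ↔ s ∈ Q)) :
    ∃ M : Subgroup G, M.Normal ∧ M.index = 2 ∧ ∀ s ∈ (P : Subgroup G), (s ∈ M ↔ s ∈ Q) := by
  classical
  have hidx : (Q.subgroupOf (P : Subgroup G)).index = 2 := hQi
  let ϕ : (P : Subgroup G) →* ℤˣ :=
    { toFun := fun x => if (x : G) ∈ Q then 1 else -1
      map_one' := by simp [one_mem]
      map_mul' := by
        intro a b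
        have h := Subgroup.mul_mem_iff_of_index_two hidx (a := a) (b := b)
        simp only [Subgroup.mem_subgroupOf, Subgroup.coe_mul] at h
        by_cases ha : (a : G) ∈ Q <;> by_cases hb : (b : G) ∈ Q <;> simp_all }
  have hϕ : ∀ x : (P : Subgroup G), ϕ x = if (x : G) ∈ Q then 1 else -1 := fun x => rfl
  have hodd : Odd (P : Subgroup G).index := by
    rw [← Nat.not_even_iff_odd, even_iff_two_dvd]
    exact P.not_dvd_index
  have hVs : ∀ s (hs : s ∈ (P : Subgroup G)), MonoidHom.transfer ϕ s = ϕ ⟨s, hs⟩ := by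
    intro s hs
    have : Fintype (Quotient (orbitRel (Subgroup.zpowers s) (G ⧸ (P : Subgroup G)))) :=
      Fintype.ofFinite _
    have hV := MonoidHom.transfer_eq_prod_quotient_orbitRel_zpowers_quot (H := (P : Subgroup G)) ϕ s
    have hsum := Subgroup.index_eq_sum_minimalPeriod (P : Subgroup G) s
    have hfac : ∀ q : Quotient (orbitRel (Subgroup.zpowers s) (G ⧸ (P : Subgroup G))),
        ϕ ⟨q.out.out⁻¹ * s ^ Function.minimalPeriod (s • ·) q.out * q.out.out,
          QuotientGroup.out_conj_pow_minimalPeriod_mem (P : Subgroup G) s q.out⟩ =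
        (ϕ ⟨s, hs⟩) ^ Function.minimalPeriod (s • ·) q.out := by
      intro q
      have hmem := QuotientGroup.out_conj_pow_minimalPeriod_mem (P : Subgroup G) s q.out
      have hpow : s ^ Function.minimalPeriod (s • ·) q.out ∈ (P : Subgroup G) :=
        Subgroup.pow_mem _ hs _
      have h1 := hcl _ hpow q.out.out hmem
      rw [← map_pow, hϕ, hϕ]
      simp only [Subgroup.coe_pow]
      by_cases h2 : s ^ Function.minimalPeriod (s • ·) q.out ∈ Q
      · rw [if_pos h2, if_pos (h1.2 h2)]
      · rw [if_neg h2, if_neg (fun h3 => h2 (h1.1 h3))]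
    rw [Finset.prod_congr rfl (fun q _ => hfac q), Finset.prod_pow_eq_pow_sum, ← hsum] at hV
    rw [hV]
    rcases Int.units_eq_one_or (ϕ ⟨s, hs⟩) with h1 | h1
    · rw [h1, one_pow]
    · rw [h1, hodd.neg_one_pow]
  set V := MonoidHom.transfer ϕ with hVdef
  have hmem : ∀ s ∈ (P : Subgroup G), (s ∈ V.ker ↔ s ∈ Q) := by
    intro s hs
    rw [MonoidHom.mem_ker, hVs s hs, hϕ]
    by_cases h2 : s ∈ Q
    · simp [h2]
    · simp only [h2, if_false, iff_false]
      decide
  obtain ⟨s, hs, hsQ⟩ : ∃ s ∈ (P : Subgroup G), s ∉ Q := by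
    by_contra hcon
    push_neg at hcon
    have : Q.subgroupOf (P : Subgroup G) = ⊤ := by
      rw [Subgroup.subgroupOf_eq_top]
      exact hcon
    rw [this, Subgroup.index_top] at hidx
    omega
  refine ⟨V.ker, inferInstance, ?_, hmem⟩
  rw [Subgroup.index_ker]
  have h1 : Nat.card V.range ∣ 2 := by
    have := Subgroup.card_subgroup_dvd_card V.range
    rwa [Nat.card_eq_fintype_card (α := ℤˣ), Fintype.card_units_int] at this
  rcases (Nat.dvd_prime Nat.prime_two).mp h1 with h | h
  · exfalso
    rw [Subgroup.card_eq_one] at h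
    have h2 : V s ∈ V.range := ⟨s, rfl⟩
    rw [h, Subgroup.mem_bot] at h2
    exact hsQ ((hmem s hs).1 (MonoidHom.mem_ker.2 h2))
  · exact h

end Cfsg.Agent.Lead.Transfer2
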