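import Mathlib
import Cfsg.Agent.Lib.Lead.QDMax
import Cfsg.Agent.Lib.Lead.TransferIndexTwo

/-!
# Groups with quasi-dihedral Sylow 2-subgroups: normal subgroups of index two (lead)
-/

set_option autoImplicit false
set_option linter.style.haveILetI false
set_option linter.unusedVariables false
set_option linter.unusedSectionVars false

namespace Cfsg.Agent.Lead.QD

open Cfsg.Agent.Lib.Lead.Conj

variable {G : Type*} [Group G] {n : ℕ} {x y : G}

section sylow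

variable [Finite G] (S : Sylow 2 G) (h : Dat n x y (S : Subgroup G))

include h

theorem E_P (j : ZMod (2 ^ n)) : (P n x j) ^ (2 ^ (n - 1)) = 1 ↔ c n * j = 0 := by
  rw [P_pow h, P_eq_one h]
  have : ((2 ^ (n - 1) : ℕ) : ZMod (2 ^ n)) = c n := rfl
  rw [this]

theorem P_parity_conj (g : G) (j j' : ZMod (2 ^ n)) (hg : g⁻¹ * P n x j * g = P n x j') :
    c n * j' = 0 ↔ c n * j = 0 := by
  rw [← E_P S h, ← E_P S h, ← hg]
  have : (g⁻¹ * P n x j * g) ^ (2 ^ (n - 1)) = g⁻¹ * (P n x j) ^ (2 ^ (n - 1)) * g := by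
    have := conj_pow (a := g⁻¹) (b := P n x j) (i := 2 ^ (n - 1))
    rw [inv_inv] at this
    exact this
  rw [this]
  constructor
  · intro h1
    have : (P n x j) ^ (2 ^ (n - 1)) = g * (g⁻¹ * (P n x j) ^ (2 ^ (n - 1)) * g) * g⁻¹ := by group
    rw [this, h1]; group
  · intro h1
    rw [h1]; group

theorem c_mul_Pfour (j : ZMod (2 ^ n)) (hj : orderOf (P n x j) = 4) : c n * j = 0 := by
  rcases (orderOf_P_four h j).1 hj with rfl | rfl
  · exact c_mul_d h.hn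
  · rw [mul_add, c_mul_d h.hn, c_sq h.hn, add_zero]

/-- fusion closure of the generalized quaternion maximal subgroup -/
theorem closed_quat (hTn : ∀ (g : G) (i0 : ZMod (2 ^ n)), c n * i0 = 0 →
    g * (y * P n x i0) * g⁻¹ ≠ P n x (c n)) (s : G) (hs : s ∈ (S : Subgroup G)) (g : G)
    (hg : g⁻¹ * s * g ∈ (S : Subgroup G)) :
    g⁻¹ * s * g ∈ Mx h (c n) (Or.inr rfl) ↔ s ∈ Mx h (c n) (Or.inr rfl) := by
  have hord : orderOf (g⁻¹ * s * g) = orderOf s := orderOf_conj' g s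
  rcases mem_cases h s hs with ⟨j, rfl⟩ | ⟨j, rfl⟩ <;>
    rcases mem_cases h _ hg with ⟨j', hj'⟩ | ⟨j', hj'⟩
  · rw [hj', P_mem_Mx, P_mem_Mx]
    exact P_parity_conj S h g j j' hj'
  · rw [hj', P_mem_Mx, yP_mem_Mx]
    rw [hj'] at hord
    rcases orderOf_yP_cases h j' with ⟨hj0, ho⟩ | ⟨hj0, ho⟩
    · exfalso
      rw [ho] at hord
      have := (orderOf_P_two h j).1 hord.symm
      subst this
      apply hTn g j' hj0
      rw [← hj']; group
    · rw [ho] at hord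
      exact ⟨fun _ => c_mul_Pfour S h j hord.symm, fun _ => hj0⟩
  · rw [hj', P_mem_Mx, yP_mem_Mx]
    rw [hj'] at hord
    rcases orderOf_yP_cases h j with ⟨hj0, ho⟩ | ⟨hj0, ho⟩
    · exfalso
      rw [ho] at hord
      have := (orderOf_P_two h j').1 hord
      subst this
      apply hTn g⁻¹ j hj0
      rw [← hj']; group
    · rw [ho] at hord
      exact ⟨fun _ => hj0, fun _ => c_mul_Pfour S h j' hord⟩
  · rw [hj', yP_mem_Mx, yP_mem_Mx]
    rw [hj'] at hord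
    rcases orderOf_yP_cases h j with ⟨hj0, ho⟩ | ⟨hj0, ho⟩ <;>
      rcases orderOf_yP_cases h j' with ⟨hj0', ho'⟩ | ⟨hj0', ho'⟩
    · rw [hj0, hj0']
    · exfalso; omega
    · exfalso; omega
    · rw [hj0, hj0']

/-- fusion closure of the dihedral maximal subgroup -/
theorem closed_dih (hQn : ∀ (g : G) (i0 : ZMod (2 ^ n)), c n * i0 = c n →
    g * (y * P n x i0) * g⁻¹ ≠ P n x (d n) ∧ g * (y * P n x i0) * g⁻¹ ≠ P n x (d n + c n))
    (s : G) (hs : s ∈ (S : Subgroup G)) (g : G)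
    (hg : g⁻¹ * s * g ∈ (S : Subgroup G)) :
    g⁻¹ * s * g ∈ Mx h 0 (Or.inl rfl) ↔ s ∈ Mx h 0 (Or.inl rfl) := by
  have hord : orderOf (g⁻¹ * s * g) = orderOf s := orderOf_conj' g s
  rcases mem_cases h s hs with ⟨j, rfl⟩ | ⟨j, rfl⟩ <;>
    rcases mem_cases h _ hg with ⟨j', hj'⟩ | ⟨j', hj'⟩
  · rw [hj', P_mem_Mx, P_mem_Mx]
    exact P_parity_conj S h g j j' hj'
  · rw [hj', P_mem_Mx, yP_mem_Mx]
    rw [hj'] at hord
    rcases orderOf_yP_cases h j' with ⟨hj0, ho⟩ | ⟨hj0, ho⟩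
    · rw [ho] at hord
      have := (orderOf_P_two h j).1 hord.symm
      subst this
      exact ⟨fun _ => c_sq h.hn, fun _ => hj0⟩
    · exfalso
      rw [ho] at hord
      have hinv : g * (y * P n x j') * g⁻¹ = P n x j := by rw [← hj']; group
      rcases (orderOf_P_four h j).1 hord.symm with rfl | rfl
      · exact (hQn g j' hj0).1 hinv
      · exact (hQn g j' hj0).2 hinv
  · rw [hj', P_mem_Mx, yP_mem_Mx]
    rw [hj'] at hord
    rcases orderOf_yP_cases h j with ⟨hj0, ho⟩ | ⟨hj0, ho⟩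
    · rw [ho] at hord
      have := (orderOf_P_two h j').1 hord
      subst this
      exact ⟨fun _ => hj0, fun _ => c_sq h.hn⟩
    · exfalso
      rw [ho] at hord
      have hinv : g⁻¹ * (y * P n x j) * g⁻¹⁻¹ = P n x j' := by rw [← hj']; group
      rcases (orderOf_P_four h j').1 hord with rfl | rfl
      · exact (hQn g⁻¹ j hj0).1 hinv
      · exact (hQn g⁻¹ j hj0).2 hinv
  · rw [hj', yP_mem_Mx, yP_mem_Mx]
    rw [hj'] at hord
    rcases orderOf_yP_cases h j with ⟨hj0, ho⟩ | ⟨hj0, ho⟩ <;>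
      rcases orderOf_yP_cases h j' with ⟨hj0', ho'⟩ | ⟨hj0', ho'⟩
    · rw [hj0, hj0']
    · exfalso; omega
    · exfalso; omega
    · rw [hj0, hj0']

/-- the normal subgroup of index two cut out by a fusion-closed maximal subgroup -/
theorem exists_M (ε : ZMod (2 ^ n)) (hε : ε = 0 ∨ ε = c n)
    (hcl : ∀ s ∈ (S : Subgroup G), ∀ g : G, g⁻¹ * s * g ∈ (S : Subgroup G) →
      (g⁻¹ * s * g ∈ Mx h ε hε ↔ s ∈ Mx h ε hε)) :
    ∃ M : Subgroup G, M.Normal ∧ M.index = 2 ∧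
      ∀ s ∈ (S : Subgroup G), (s ∈ M ↔ s ∈ Mx h ε hε) :=
  Cfsg.Agent.Lead.Transfer2.transfer_index_two S (Mx h ε hε) (Mx_le h ε hε)
    (Mx_relIndex h ε hε) hcl

omit h in
/-- the Sylow 2-subgroups of a subgroup `M` of index two meeting `S` in `R` -/
theorem sylow_iso_of_inf (M : Subgroup G) (hM2 : M.index = 2) (R : Subgroup G)
    (hRS : R ≤ (S : Subgroup G)) (hRi : R.relIndex (S : Subgroup G) = 2) (hRM : R ≤ M) :
    ¬ 2 ∣ R.relIndex M ∧ ∀ P' : Sylow 2 ↥M, Nonempty (↥(P' : Subgroup ↥M) ≃* ↥R) := by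
  have h1 := Subgroup.relIndex_mul_index hRM
  have h2 := Subgroup.relIndex_mul_index hRS
  have h3 : R.relIndex M = (S : Subgroup G).index := by
    rw [hM2] at h1; rw [hRi] at h2; omega
  have hodd : ¬ 2 ∣ R.relIndex M := by rw [h3]; exact S.not_dvd_index
  refine ⟨hodd, ?_⟩
  intro P'
  have hp : IsPGroup 2 (R.subgroupOf M) := (IsPGroup.to_le S.isPGroup' hRS).comap_subtype
  let R' : Sylow 2 ↥M := hp.toSylow hodd
  have e1 : ↥(P' : Subgroup ↥M) ≃* ↥(R' : Subgroup ↥M) := Sylow.equiv P' R'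
  have e2 : ↥(R' : Subgroup ↥M) ≃* ↥R := Subgroup.subgroupOfEquivOfLe hRM
  exact ⟨e1.trans e2⟩

omit h in
theorem index_ne_two_of_le (M R : Subgroup G) (hodd : ¬ 2 ∣ R.relIndex M) (H : Subgroup ↥M)
    (hle : R.subgroupOf M ≤ H) : H.index ≠ 2 := by
  intro hH
  have := Subgroup.index_dvd_of_le hle
  rw [hH] at this
  exact hodd this

omit h in
theorem mem_or_mul_mem (M : Subgroup G) (hM2 : M.index = 2) (a : G) (ha : a ∉ M) (g : G) :
    g ∈ M ∨ a * g ∈ M := by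
  by_cases hg : g ∈ M
  · left; exact hg
  · right
    rw [Subgroup.mul_mem_iff_of_index_two hM2]
    exact ⟨fun h1 => absurd h1 ha, fun h1 => absurd h1 hg⟩

/-- in the dihedral case the normal subgroup of index two has no subgroup of index two -/
theorem no_index_two_dih (M : Subgroup G) (hMn : M.Normal) (hM2 : M.index = 2)
    (hMS : ∀ s ∈ (S : Subgroup G), (s ∈ M ↔ s ∈ Mx h 0 (Or.inl rfl)))
    (hTf : ∀ i0 : ZMod (2 ^ n), c n * i0 = 0 → ∃ g : G, g * (y * P n x i0) * g⁻¹ = P n x (c n))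
    (H : Subgroup ↥M) : H.index ≠ 2 := by
  intro hH
  have hRM : Mx h 0 (Or.inl rfl) ≤ M := fun r hr => (hMS r (Mx_le h 0 _ hr)).2 hr
  obtain ⟨hodd, -⟩ := sylow_iso_of_inf S M hM2 _ (Mx_le h 0 _) (Mx_relIndex h 0 _) hRM
  apply index_ne_two_of_le M _ hodd H _ hH
  haveI hHn : H.Normal := Subgroup.normal_of_index_eq_two hH
  have hxM : P n x 1 ∉ M := fun hcon => x_not_mem_Mx h 0 _ ((hMS _ (P_mem h _)).1 hcon)
  have huM : P n x (d n) ∈ M := hRM ((P_mem_Mx h 0 _ _).2 (c_mul_d h.hn))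
  have hzM : P n x (c n) ∈ M := hRM ((P_mem_Mx h 0 _ _).2 (c_sq h.hn))
  have hzH : (⟨P n x (c n), hzM⟩ : ↥M) ∈ H := by
    have h1 := Subgroup.sq_mem_of_index_two hH (⟨P n x (d n), huM⟩ : ↥M)
    have h2 : (⟨P n x (d n), huM⟩ : ↥M) ^ 2 = ⟨P n x (c n), hzM⟩ := by
      apply Subtype.ext
      rw [Subgroup.coe_pow]
      change (P n x (d n)) ^ 2 = P n x (c n)
      rw [pow_two, P_mul_self h, two_d h.hn]
    rwa [h2] at h1
  have hyH : ∀ (j : ZMod (2 ^ n)) (hj : c n * j = 0) (hm : y * P n x j ∈ M),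
      (⟨y * P n x j, hm⟩ : ↥M) ∈ H := by
    intro j hj hm
    obtain ⟨g, hg⟩ := hTf j hj
    obtain ⟨m, hmM, hmz⟩ : ∃ m ∈ M, m * (y * P n x j) * m⁻¹ = P n x (c n) := by
      rcases mem_or_mul_mem M hM2 _ hxM g with h1 | h1
      · exact ⟨g, h1, hg⟩
      · refine ⟨P n x 1 * g, h1, ?_⟩
        have : P n x 1 * g * (y * P n x j) * (P n x 1 * g)⁻¹ =
            P n x 1 * (g * (y * P n x j) * g⁻¹) * (P n x 1)⁻¹ := by group
        rw [this, hg, P_comm h, mul_inv_cancel_right]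
    have h2 : (⟨y * P n x j, hm⟩ : ↥M) =
        (⟨m, hmM⟩ : ↥M)⁻¹ * ⟨P n x (c n), hzM⟩ * (⟨m, hmM⟩ : ↥M)⁻¹⁻¹ := by
      apply Subtype.ext
      simp only [Subgroup.coe_mul, Subgroup.coe_inv, inv_inv]
      rw [← hmz]; group
    rw [h2]
    exact hHn.conj_mem _ hzH _
  rintro ⟨r, hrM⟩ hr
  rw [Subgroup.mem_subgroupOf] at hr
  simp only at hr
  rcases hr with ⟨j, hj, rfl⟩ | ⟨j, hj, rfl⟩
  · have hy0 : y * P n x 0 ∈ M := hRM ((yP_mem_Mx h 0 _ 0).2 (mul_zero _))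
    have hyj : y * P n x j ∈ M := hRM ((yP_mem_Mx h 0 _ j).2 hj)
    have h1 := H.mul_mem (hyH 0 (mul_zero _) hy0) (hyH j hj hyj)
    have h2 : (⟨y * P n x 0, hy0⟩ : ↥M) * ⟨y * P n x j, hyj⟩ = ⟨P n x j, hrM⟩ := by
      apply Subtype.ext
      change (y * P n x 0) * (y * P n x j) = P n x j
      rw [yP_mul_yP h, mul_zero, zero_add]
    rwa [h2] at h1
  · exact hyH j hj hrM

/-- in the quaternion case the normal subgroup of index two has no subgroup of index two -/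
theorem no_index_two_quat (M : Subgroup G) (hMn : M.Normal) (hM2 : M.index = 2)
    (hMS : ∀ s ∈ (S : Subgroup G), (s ∈ M ↔ s ∈ Mx h (c n) (Or.inr rfl)))
    (hQf : ∀ i0 : ZMod (2 ^ n), c n * i0 = c n → ∃ g : G, g * (y * P n x i0) * g⁻¹ = P n x (d n))
    (H : Subgroup ↥M) : H.index ≠ 2 := by
  intro hH
  have hRM : Mx h (c n) (Or.inr rfl) ≤ M := fun r hr => (hMS r (Mx_le h _ _ hr)).2 hr
  obtain ⟨hodd, -⟩ := sylow_iso_of_inf S M hM2 _ (Mx_le h _ _) (Mx_relIndex h _ _) hRM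
  apply index_ne_two_of_le M _ hodd H _ hH
  haveI hHn : H.Normal := Subgroup.normal_of_index_eq_two hH
  have h2c := two_c h.hn
  have hxM : P n x 1 ∉ M := fun hcon => x_not_mem_Mx h _ _ ((hMS _ (P_mem h _)).1 hcon)
  have huM : P n x (d n) ∈ M := hRM ((P_mem_Mx h _ _ _).2 (c_mul_d h.hn))
  have hzM : P n x (c n) ∈ M := hRM ((P_mem_Mx h _ _ _).2 (c_sq h.hn))
  have hzH : (⟨P n x (c n), hzM⟩ : ↥M) ∈ H := by
    have h1 := Subgroup.sq_mem_of_index_two hH (⟨P n x (d n), huM⟩ : ↥M)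
    have h2 : (⟨P n x (d n), huM⟩ : ↥M) ^ 2 = ⟨P n x (c n), hzM⟩ := by
      apply Subtype.ext
      rw [Subgroup.coe_pow]
      change (P n x (d n)) ^ 2 = P n x (c n)
      rw [pow_two, P_mul_self h, two_d h.hn]
    rwa [h2] at h1
  have hvu : ∀ (j : ZMod (2 ^ n)) (hj : c n * j = c n) (hm : y * P n x j ∈ M),
      ((⟨y * P n x j, hm⟩ : ↥M) ∈ H ↔ (⟨P n x (d n), huM⟩ : ↥M) ∈ H) := by
    intro j hj hm
    obtain ⟨g, hg⟩ := hQf j hj
    obtain ⟨m, hmM, hmz⟩ : ∃ m ∈ M, m * (y * P n x j) * m⁻¹ = P n x (d n) := by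
      rcases mem_or_mul_mem M hM2 _ hxM g with h1 | h1
      · exact ⟨g, h1, hg⟩
      · refine ⟨P n x 1 * g, h1, ?_⟩
        have : P n x 1 * g * (y * P n x j) * (P n x 1 * g)⁻¹ =
            P n x 1 * (g * (y * P n x j) * g⁻¹) * (P n x 1)⁻¹ := by group
        rw [this, hg, P_comm h, mul_inv_cancel_right]
    have h2 : (⟨P n x (d n), huM⟩ : ↥M) =
        (⟨m, hmM⟩ : ↥M) * ⟨y * P n x j, hm⟩ * (⟨m, hmM⟩ : ↥M)⁻¹ := by
      apply Subtype.ext
      simp only [Subgroup.coe_mul, Subgroup.coe_inv]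
      exact hmz.symm
    have h3 : (⟨y * P n x j, hm⟩ : ↥M) =
        (⟨m, hmM⟩ : ↥M)⁻¹ * ⟨P n x (d n), huM⟩ * (⟨m, hmM⟩ : ↥M)⁻¹⁻¹ := by
      rw [h2]; group
    constructor
    · intro h4; rw [h2]; exact hHn.conj_mem _ h4 _
    · intro h4; rw [h3]; exact hHn.conj_mem _ h4 _
  have hc3 : c n * 3 = c n := by linear_combination h2c
  have hc2 : c n * 2 = 0 := by linear_combination h2c
  have hc2' : c n * (c n + 2) = 0 := by
    have := c_sq h.hn
    linear_combination this + h2c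
  have hy1 : y * P n x 1 ∈ M := hRM ((yP_mem_Mx h _ _ 1).2 (mul_one _))
  have hy3 : y * P n x 3 ∈ M := hRM ((yP_mem_Mx h _ _ 3).2 hc3)
  have hP2M : P n x 2 ∈ M := hRM ((P_mem_Mx h _ _ 2).2 hc2)
  have hPc2M : P n x (c n + 2) ∈ M := hRM ((P_mem_Mx h _ _ _).2 hc2')
  have h13 : (⟨P n x (c n + 2), hPc2M⟩ : ↥M) ∈ H := by
    have h1 : (⟨y * P n x 1, hy1⟩ : ↥M) * ⟨y * P n x 3, hy3⟩ = ⟨P n x (c n + 2), hPc2M⟩ := by
      apply Subtype.ext
      change (y * P n x 1) * (y * P n x 3) = P n x (c n + 2)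
      rw [yP_mul_yP h]
      congr 1; ring
    rw [← h1, Subgroup.mul_mem_iff_of_index_two hH, hvu 1 (mul_one _) hy1, hvu 3 hc3 hy3]
  have hP2H : (⟨P n x 2, hP2M⟩ : ↥M) ∈ H := by
    have h1 : (⟨P n x (c n + 2), hPc2M⟩ : ↥M) = ⟨P n x (c n), hzM⟩ * ⟨P n x 2, hP2M⟩ := by
      apply Subtype.ext
      change P n x (c n + 2) = P n x (c n) * P n x 2
      exact P_add h _ _
    rw [h1] at h13
    exact (Subgroup.mul_mem_cancel_left H hzH).1 h13
  have huH : (⟨P n x (d n), huM⟩ : ↥M) ∈ H := by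
    have h1 : (⟨P n x (d n), huM⟩ : ↥M) = (⟨P n x 2, hP2M⟩ : ↥M) ^ (2 ^ (n - 3)) := by
      apply Subtype.ext
      rw [Subgroup.coe_pow]
      change P n x (d n) = (P n x 2) ^ (2 ^ (n - 3))
      rw [P_pow h]
      have : ((2 ^ (n - 3) : ℕ) : ZMod (2 ^ n)) = d' n := rfl
      rw [this, mul_comm, two_d' h.hn]
    rw [h1]; exact H.pow_mem hP2H _
  rintro ⟨r, hrM⟩ hr
  rw [Subgroup.mem_subgroupOf] at hr
  simp only at hr
  rcases hr with ⟨j, hj, rfl⟩ | ⟨j, hj, rfl⟩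
  · obtain ⟨k, rfl⟩ := even_of_c_mul h.hn j hj
    have h1 : (⟨P n x (2 * k), hrM⟩ : ↥M) = (⟨P n x 2, hP2M⟩ : ↥M) ^ k.val := by
      apply Subtype.ext
      rw [Subgroup.coe_pow]
      change P n x (2 * k) = (P n x 2) ^ k.val
      rw [P_pow h, ZMod.natCast_zmod_val, mul_comm]
    rw [h1]; exact H.pow_mem hP2H _
  · exact (hvu j hj hrM).2 huH

/-- the centre of `S` is `{1, z}` -/
theorem center_cases (w : G) (hw : w ∈ (Subgroup.center ↥(S : Subgroup G)).map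
    (S : Subgroup G).subtype) : w = 1 ∨ w = P n x (c n) := by
  obtain ⟨s, hs, rfl⟩ := hw
  have hs := Subgroup.mem_center_iff.1 hs
  have h1 : (s : G) * (y * P n x 0) = (y * P n x 0) * (s : G) := by
    have := hs ⟨y * P n x 0, yP_mem h 0⟩
    have h2 := congrArg Subtype.val this
    simp only [Subgroup.coe_mul] at h2
    exact h2.symm
  have h3 : (s : G) * P n x 1 = P n x 1 * (s : G) := by
    have := hs ⟨P n x 1, P_mem h 1⟩
    have h2 := congrArg Subtype.val this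
    simp only [Subgroup.coe_mul] at h2
    exact h2.symm
  have hbad : ∀ j, (s : G) ≠ y * P n x j := by
    intro j hsj
    rw [hsj, yP_mul_P h, P_mul_yP h] at h3
    have h4 := yP_inj h h3
    have h5 : c n = 2 := by linear_combination -h4
    have h6 := c_mul_d h.hn
    rw [h5, two_d h.hn] at h6
    exact c_ne h.hn h6
  rcases cent_yP h 0 (s : G) s.2 h1 with h4 | h4 | h4 | h4
  · left; rw [Subgroup.coe_subtype, h4, P_zero]
  · right; rw [Subgroup.coe_subtype, h4]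
  · exact absurd h4 (hbad _)
  · exact absurd h4 (hbad _)

/-- without fusion of involutions the centre of `S` is weakly closed -/
theorem center_weakly_closed (hTn : ∀ (g : G) (i0 : ZMod (2 ^ n)), c n * i0 = 0 →
    g * (y * P n x i0) * g⁻¹ ≠ P n x (c n)) :
    Cfsg.IsWeaklyClosed ((Subgroup.center ↥(S : Subgroup G)).map (S : Subgroup G).subtype)
      (S : Subgroup G) := by
  refine ⟨Subgroup.map_subtype_le _, ?_⟩
  intro g hg
  apply map_conj_eq_of_le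
  rintro _ ⟨w, hw, rfl⟩
  have hwS := hg ⟨w, hw, rfl⟩
  change g * w * g⁻¹ ∈ _
  change g * w * g⁻¹ ∈ (S : Subgroup G) at hwS
  rcases center_cases S h w hw with rfl | rfl
  · rw [mul_one, mul_inv_cancel]; exact Subgroup.one_mem _
  · have ho : orderOf (g * P n x (c n) * g⁻¹) = 2 := by rw [orderOf_conj, orderOf_z h]
    rcases mem_cases h _ hwS with ⟨j, hj⟩ | ⟨j, hj⟩
    · rw [hj] at ho
      rw [hj, (orderOf_P_two h j).1 ho]
      exact hw
    · exfalso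
      rw [hj] at ho
      rcases orderOf_yP_cases h j with ⟨hj0, -⟩ | ⟨-, ho'⟩
      · apply hTn g⁻¹ j hj0
        rw [← hj]; group
      · omega

end sylow

end Cfsg.Agent.Lead.QD
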