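import Mathlib
import Cfsg.Prelude.Def_CaseTheorems
import Cfsg.Agent.Lib.Lead.QDBasic
import Cfsg.Agent.H9.KleinGeneral

/-!
# Wreathed 2-groups `Z_{2^n} ≀ Z_2`: normal forms (lead)

Elements are `A a b = x ^ a * y ^ b` and `z * A a b` with `a b : ZMod (2 ^ n)`.
-/

set_option autoImplicit false
set_option linter.style.haveILetI false
set_option linter.unusedVariables false
set_option linter.unusedSectionVars false

namespace Cfsg.Agent.Lead.Wr

open Cfsg.Agent.Lead.QD (P c)

variable {S : Type*} [Group S]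

/-- the data of a wreathed group -/
structure WDat (n : ℕ) (x y z : S) : Prop where
  hn : 2 ≤ n
  ox : orderOf x = 2 ^ n
  comm : x * y = y * x
  dis : Subgroup.zpowers x ⊓ Subgroup.zpowers y = ⊥
  oz : orderOf z = 2
  conj : z * x * z⁻¹ = y
  card : Nat.card S = 2 ^ (2 * n + 1)

section ring

variable {n : ℕ}

theorem two_c' (hn : 1 ≤ n) : 2 * c n = 0 := by
  unfold c
  have h : ((2 : ℕ) : ZMod (2 ^ n)) * ((2 ^ (n - 1) : ℕ) : ZMod (2 ^ n)) = 0 := by
    rw [← Nat.cast_mul, ZMod.natCast_eq_zero_iff, ← pow_succ']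
    have : n - 1 + 1 = n := by omega
    rw [this]
  simpa using h

theorem c_ne' (hn : 1 ≤ n) : c n ≠ 0 := by
  unfold c
  rw [Ne, ZMod.natCast_eq_zero_iff]
  intro h
  have h1 := Nat.le_of_dvd (by positivity) h
  have h2 : 2 ^ (n - 1) < 2 ^ n := Nat.pow_lt_pow_right (by norm_num) (by omega)
  omega

theorem two_mul_eq_zero' (hn : 1 ≤ n) (i : ZMod (2 ^ n)) : 2 * i = 0 ↔ i = 0 ∨ i = c n := by
  constructor
  · intro h
    have h1 : ((2 * i.val : ℕ) : ZMod (2 ^ n)) = 0 := by
      rw [Nat.cast_mul, ZMod.natCast_zmod_val]; simpa using h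
    rw [ZMod.natCast_eq_zero_iff] at h1
    have hlt : i.val < 2 ^ n := ZMod.val_lt i
    have hpow : 2 ^ n = 2 * 2 ^ (n - 1) := by
      rw [← pow_succ']; congr 1; omega
    obtain ⟨k, hm⟩ := h1
    have hpos : 0 < 2 ^ (n - 1) := by positivity
    have hk : i.val = 2 ^ (n - 1) * k := by
      have : 2 * i.val = 2 * (2 ^ (n - 1) * k) := by rw [hm, hpow]; ring
      omega
    have hlt' : i.val < 2 * 2 ^ (n - 1) := by rw [← hpow]; exact hlt
    have hk2 : k < 2 := by
      by_contra hcon
      push_neg at hcon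
      have : 2 ^ (n - 1) * 2 ≤ 2 ^ (n - 1) * k := Nat.mul_le_mul_left _ hcon
      omega
    interval_cases k
    · left
      rw [mul_zero] at hk
      exact (ZMod.val_eq_zero i).1 hk
    · right
      rw [mul_one] at hk
      unfold c
      rw [← hk, ZMod.natCast_zmod_val]
  · rintro (h | h)
    · rw [h, mul_zero]
    · rw [h, two_c' hn]

end ring

section powers

variable {n : ℕ} {x : S}

theorem Q_add (hx : x ^ (2 ^ n) = 1) (i j : ZMod (2 ^ n)) : P n x (i + j) = P n x i * P n x j := by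
  unfold P
  rw [ZMod.val_add, ← pow_eq_pow_mod _ hx, pow_add]

theorem Q_zero (x : S) : P n x 0 = 1 := by
  unfold P; rw [ZMod.val_zero, pow_zero]

theorem Q_neg (hx : x ^ (2 ^ n) = 1) (i : ZMod (2 ^ n)) : P n x (-i) = (P n x i)⁻¹ := by
  apply eq_inv_of_mul_eq_one_left
  rw [← Q_add hx, neg_add_cancel, Q_zero]

theorem Q_one (hx : x ^ (2 ^ n) = 1) : P n x 1 = x := by
  unfold P
  rw [← Nat.cast_one, ZMod.val_natCast, ← pow_eq_pow_mod _ hx, pow_one]

theorem Q_inj (hx : orderOf x = 2 ^ n) {i j : ZMod (2 ^ n)} (hij : P n x i = P n x j) : i = j := by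
  unfold P at hij
  apply ZMod.val_injective
  have hi : i.val < orderOf x := by rw [hx]; exact ZMod.val_lt i
  have hj : j.val < orderOf x := by rw [hx]; exact ZMod.val_lt j
  exact pow_injOn_Iio_orderOf hi hj hij

theorem Q_eq_one (hx : orderOf x = 2 ^ n) {i : ZMod (2 ^ n)} : P n x i = 1 ↔ i = 0 := by
  constructor
  · intro hi
    apply Q_inj hx
    rw [hi, Q_zero]
  · rintro rfl; exact Q_zero x

end powers

section group

variable {n : ℕ} {x y z : S}

/-- the elements of the abelian subgroup -/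
def A (n : ℕ) (x y : S) (a b : ZMod (2 ^ n)) : S := P n x a * P n y b

theorem z_mul_z (h : WDat n x y z) : z * z = 1 := by
  have h1 : z ^ 2 = 1 := by rw [← h.oz]; exact pow_orderOf_eq_one z
  rwa [pow_two] at h1

theorem z_inv (h : WDat n x y z) : z⁻¹ = z := inv_eq_of_mul_eq_one_left (z_mul_z h)

theorem conj_y (h : WDat n x y z) : z * y * z⁻¹ = x := by
  rw [← h.conj, z_inv h]
  calc z * (z * x * z) * z = (z * z) * x * (z * z) := by group
    _ = x := by rw [z_mul_z h, one_mul, mul_one]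

theorem oy (h : WDat n x y z) : orderOf y = 2 ^ n := by
  rw [← h.conj, ← h.ox]
  exact orderOf_injective (MulAut.conj z).toMonoidHom (MulAut.conj z).injective x

theorem x_pow (h : WDat n x y z) : x ^ (2 ^ n) = 1 := by
  rw [← h.ox]; exact pow_orderOf_eq_one x

theorem y_pow (h : WDat n x y z) : y ^ (2 ^ n) = 1 := by
  rw [← oy h]; exact pow_orderOf_eq_one y

theorem PP_comm (h : WDat n x y z) (a b : ZMod (2 ^ n)) : P n x a * P n y b = P n y b * P n x a := by
  unfold P
  exact ((Commute.pow_pow (show Commute x y from h.comm) _ _)).eq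

theorem A_mul (h : WDat n x y z) (a b c d : ZMod (2 ^ n)) :
    A n x y a b * A n x y c d = A n x y (a + c) (b + d) := by
  unfold A
  rw [Q_add (x_pow h), Q_add (y_pow h)]
  calc P n x a * P n y b * (P n x c * P n y d)
      = P n x a * (P n y b * P n x c) * P n y d := by group
    _ = P n x a * (P n x c * P n y b) * P n y d := by rw [PP_comm h c b]
    _ = P n x a * P n x c * (P n y b * P n y d) := by group

theorem A_zero : A n x y 0 0 = 1 := by
  unfold A; rw [Q_zero, Q_zero, one_mul]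

theorem A_inv (h : WDat n x y z) (a b : ZMod (2 ^ n)) : (A n x y a b)⁻¹ = A n x y (-a) (-b) := by
  symm
  apply eq_inv_of_mul_eq_one_left
  rw [A_mul h, neg_add_cancel, neg_add_cancel, A_zero]

theorem A_eq_one (h : WDat n x y z) {a b : ZMod (2 ^ n)} (hab : A n x y a b = 1) : a = 0 ∧ b = 0 := by
  unfold A at hab
  have h1 : P n x a = (P n y b)⁻¹ := eq_inv_of_mul_eq_one_left hab
  have hx : P n x a ∈ Subgroup.zpowers x := by
    unfold P; exact Subgroup.pow_mem _ (Subgroup.mem_zpowers x) _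
  have hy : P n x a ∈ Subgroup.zpowers y := by
    rw [h1]; unfold P
    exact Subgroup.inv_mem _ (Subgroup.pow_mem _ (Subgroup.mem_zpowers y) _)
  have hmem : P n x a ∈ Subgroup.zpowers x ⊓ Subgroup.zpowers y := ⟨hx, hy⟩
  rw [h.dis, Subgroup.mem_bot] at hmem
  have ha : a = 0 := (Q_eq_one h.ox).mp hmem
  rw [hmem] at h1
  have hb : P n y b = 1 := by
    have := congrArg (·⁻¹) h1
    simpa using this.symm
  exact ⟨ha, (Q_eq_one (oy h)).mp hb⟩

theorem A_inj (h : WDat n x y z) {a b c d : ZMod (2 ^ n)} (hab : A n x y a b = A n x y c d) :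
    a = c ∧ b = d := by
  have h1 : A n x y (a - c) (b - d) = 1 := by
    have : A n x y (a - c) (b - d) = A n x y a b * (A n x y c d)⁻¹ := by
      rw [A_inv h, A_mul h, sub_eq_add_neg, sub_eq_add_neg]
    rw [this, hab, mul_inv_cancel]
  obtain ⟨h2, h3⟩ := A_eq_one h h1
  exact ⟨sub_eq_zero.mp h2, sub_eq_zero.mp h3⟩

theorem conj_P_x (h : WDat n x y z) (a : ZMod (2 ^ n)) : z * P n x a * z⁻¹ = P n y a := by
  unfold P
  rw [← conj_pow, h.conj]

theorem conj_P_y (h : WDat n x y z) (a : ZMod (2 ^ n)) : z * P n y a * z⁻¹ = P n x a := by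
  unfold P
  rw [← conj_pow, conj_y h]

theorem conj_A (h : WDat n x y z) (a b : ZMod (2 ^ n)) : z * A n x y a b * z⁻¹ = A n x y b a := by
  unfold A
  calc z * (P n x a * P n y b) * z⁻¹ = (z * P n x a * z⁻¹) * (z * P n y b * z⁻¹) := by group
    _ = P n y a * P n x b := by rw [conj_P_x h, conj_P_y h]
    _ = P n x b * P n y a := (PP_comm h b a).symm

theorem A_mul_z (h : WDat n x y z) (a b : ZMod (2 ^ n)) : A n x y a b * z = z * A n x y b a := by
  have := conj_A h b a
  rw [z_inv h] at this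
  calc A n x y a b * z = (z * A n x y b a * z) * z := by rw [this]
    _ = z * A n x y b a * (z * z) := by group
    _ = z * A n x y b a := by rw [z_mul_z h, mul_one]

theorem zA_mul_zA (h : WDat n x y z) (a b c d : ZMod (2 ^ n)) :
    (z * A n x y a b) * (z * A n x y c d) = A n x y (b + c) (a + d) := by
  calc (z * A n x y a b) * (z * A n x y c d) = z * (A n x y a b * z) * A n x y c d := by group
    _ = z * (z * A n x y b a) * A n x y c d := by rw [A_mul_z h]
    _ = (z * z) * (A n x y b a * A n x y c d) := by group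
    _ = A n x y (b + c) (a + d) := by rw [z_mul_z h, one_mul, A_mul h]

theorem A_mul_zA (h : WDat n x y z) (a b c d : ZMod (2 ^ n)) :
    A n x y a b * (z * A n x y c d) = z * A n x y (b + c) (a + d) := by
  calc A n x y a b * (z * A n x y c d) = (A n x y a b * z) * A n x y c d := by group
    _ = z * (A n x y b a * A n x y c d) := by rw [A_mul_z h]; group
    _ = z * A n x y (b + c) (a + d) := by rw [A_mul h]

theorem zA_mul_A (h : WDat n x y z) (a b c d : ZMod (2 ^ n)) :
    (z * A n x y a b) * A n x y c d = z * A n x y (a + c) (b + d) := by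
  rw [mul_assoc, A_mul h]

theorem x_ne_one (h : WDat n x y z) : x ≠ 1 := by
  intro hx
  have := h.ox
  rw [hx, orderOf_one] at this
  have h2 : 2 ^ n ≥ 2 ^ 1 := Nat.pow_le_pow_right (by norm_num) (by have := h.hn; omega)
  omega

theorem z_ne_A (h : WDat n x y z) (a b c d : ZMod (2 ^ n)) : z * A n x y a b ≠ A n x y c d := by
  intro hab
  have hz : z = A n x y (c - a) (d - b) := by
    have : z = A n x y c d * (A n x y a b)⁻¹ := by rw [← hab]; group
    rw [this, A_inv h, A_mul h, sub_eq_add_neg, sub_eq_add_neg]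
  -- z commutes with x = A 1 0
  have hx : x = A n x y 1 0 := by
    unfold A; rw [Q_one (x_pow h), Q_zero, mul_one]
  have hyA : y = A n x y 0 1 := by
    unfold A; rw [Q_one (y_pow h), Q_zero, one_mul]
  have h0 : A n x y (c - a) (d - b) * A n x y 1 0 = A n x y 1 0 * A n x y (c - a) (d - b) := by
    rw [A_mul h, A_mul h, add_comm (c - a) 1, add_comm (d - b) 0]
  rw [← hz, ← hx] at h0
  have h1 : z * x * z⁻¹ = x := by
    rw [h0, mul_inv_cancel_right]
  rw [h.conj] at h1
  have h2 : A n x y 0 1 = A n x y 1 0 := by rw [← hyA, ← hx, h1]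
  have := (A_inj h h2).1
  have hne : (0 : ZMod (2 ^ n)) ≠ 1 := by
    haveI : Fact (1 < 2 ^ n) := ⟨by
      have h2 : 2 ^ n ≥ 2 ^ 1 := Nat.pow_le_pow_right (by norm_num) (by have := h.hn; omega)
      omega⟩
    exact zero_ne_one
  exact hne this

/-- the normal form -/
theorem mem_cases [Finite S] (h : WDat n x y z) (s : S) :
    (∃ a b, s = A n x y a b) ∨ (∃ a b, s = z * A n x y a b) := by
  classical
  let f : (ZMod (2 ^ n) × ZMod (2 ^ n)) × Fin 2 → S := fun p =>
    if p.2 = 0 then A n x y p.1.1 p.1.2 else z * A n x y p.1.1 p.1.2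
  have hf : Function.Injective f := by
    rintro ⟨⟨a, b⟩, e⟩ ⟨⟨c, d⟩, e'⟩ hab
    simp only [f] at hab
    fin_cases e <;> fin_cases e'
    · simp only [Fin.zero_eta, if_true] at hab
      obtain ⟨h1, h2⟩ := A_inj h hab
      simp [h1, h2]
    · exfalso
      simp only [Fin.zero_eta, Fin.mk_one, if_true, Fin.isValue, one_ne_zero, if_false] at hab
      exact z_ne_A h c d a b hab.symm
    · exfalso
      simp only [Fin.zero_eta, Fin.mk_one, if_true, Fin.isValue, one_ne_zero, if_false] at hab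
      exact z_ne_A h a b c d hab
    · simp only [Fin.mk_one, Fin.isValue, one_ne_zero, if_false] at hab
      obtain ⟨h1, h2⟩ := A_inj h (mul_left_cancel hab)
      simp [h1, h2]
  have hbij : Function.Bijective f := by
    apply hf.bijective_of_nat_card_le
    rw [h.card, Nat.card_prod, Nat.card_prod, Nat.card_eq_fintype_card, Nat.card_eq_fintype_card,
      ZMod.card, Fintype.card_fin]
    apply le_of_eq
    ring
  obtain ⟨⟨⟨a, b⟩, e⟩, hia⟩ := hbij.2 s
  simp only [f] at hia
  by_cases he : e = 0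
  · left
    rw [if_pos he] at hia
    exact ⟨a, b, hia.symm⟩
  · right
    rw [if_neg he] at hia
    exact ⟨a, b, hia.symm⟩

/-- wreathed groups carry the data -/
theorem exists_dat (hS : Cfsg.IsWreathed S) : ∃ n x y z, WDat n x y (z : S) := by
  obtain ⟨n, hn, hcard, x, y, z, hx, hxy, hdis, hz, hzx⟩ := hS
  exact ⟨n, x, y, z, ⟨hn, hx, hxy, hdis, hz, hzx, hcard⟩⟩

end group

section subgroupU

variable {n : ℕ} {x y z : S}

/-- the abelian subgroup of index 2 -/
def U (h : WDat n x y z) : Subgroup S where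
  carrier := {s | ∃ a b, s = A n x y a b}
  one_mem' := ⟨0, 0, A_zero.symm⟩
  mul_mem' := by
    rintro _ _ ⟨a, b, rfl⟩ ⟨c, d, rfl⟩
    exact ⟨_, _, A_mul h a b c d⟩
  inv_mem' := by
    rintro _ ⟨a, b, rfl⟩
    exact ⟨_, _, A_inv h a b⟩

theorem mem_U (h : WDat n x y z) (s : S) : s ∈ U h ↔ ∃ a b, s = A n x y a b := Iff.rfl

theorem A_mem_U (h : WDat n x y z) (a b : ZMod (2 ^ n)) : A n x y a b ∈ U h := ⟨a, b, rfl⟩

theorem A_comm (h : WDat n x y z) (a b c d : ZMod (2 ^ n)) :
    A n x y a b * A n x y c d = A n x y c d * A n x y a b := by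
  rw [A_mul h, A_mul h, add_comm a c, add_comm b d]

theorem U_comm (h : WDat n x y z) : IsMulCommutative (U h) := by
  refine ⟨⟨?_⟩⟩
  rintro ⟨_, a, b, rfl⟩ ⟨_, c, d, rfl⟩
  exact Subtype.ext (A_comm h a b c d)

/-- the parametrisation of `U` -/
def Uhom (h : WDat n x y z) : Multiplicative (ZMod (2 ^ n) × ZMod (2 ^ n)) →* U h where
  toFun p := ⟨A n x y p.toAdd.1 p.toAdd.2, _, _, rfl⟩
  map_one' := Subtype.ext A_zero
  map_mul' p q := Subtype.ext (A_mul h _ _ _ _).symm

theorem Uhom_bij (h : WDat n x y z) : Function.Bijective (Uhom h) := by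
  constructor
  · intro p q hpq
    have := congrArg Subtype.val hpq
    obtain ⟨h1, h2⟩ := A_inj h this
    exact congrArg Multiplicative.ofAdd (Prod.ext h1 h2)
  · rintro ⟨_, a, b, rfl⟩
    exact ⟨Multiplicative.ofAdd (a, b), rfl⟩

theorem card_U [Finite S] (h : WDat n x y z) : Nat.card (U h) = 2 ^ (2 * n) := by
  rw [← Nat.card_congr (Equiv.ofBijective _ (Uhom_bij h))]
  have : Nat.card (Multiplicative (ZMod (2 ^ n) × ZMod (2 ^ n)))
      = Nat.card (ZMod (2 ^ n) × ZMod (2 ^ n)) := Nat.card_congr Multiplicative.toAdd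
  rw [this, Nat.card_prod, Nat.card_eq_fintype_card, ZMod.card]
  ring

theorem index_U [Finite S] (h : WDat n x y z) : (U h).index = 2 := by
  have h1 := (U h).card_mul_index
  rw [card_U h, h.card, pow_succ] at h1
  exact Nat.eq_of_mul_eq_mul_left (by positivity) h1

theorem zA_not_mem_U (h : WDat n x y z) (a b : ZMod (2 ^ n)) : z * A n x y a b ∉ U h := by
  rintro ⟨c, d, hcd⟩
  exact z_ne_A h a b c d hcd

/-- an element of `U` commuting with an element outside `U` is diagonal -/
theorem diag_of_comm (h : WDat n x y z) (a b c d : ZMod (2 ^ n))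
    (hc : A n x y c d * (z * A n x y a b) = (z * A n x y a b) * A n x y c d) : c = d := by
  rw [A_mul_zA h, zA_mul_A h] at hc
  have := (A_inj h (mul_left_cancel hc)).1
  -- d + a = a + c
  have h2 : d = c := by
    have h3 : d + a = c + a := by rw [this, add_comm]
    exact add_right_cancel h3
  exact h2.symm

theorem unique_U [Finite S] (h : WDat n x y z) (W : Subgroup S) (hW : IsMulCommutative W)
    (hc : Nat.card W = 2 ^ (2 * n)) : W = U h := by
  apply Subgroup.eq_of_le_of_card_ge
  · by_contra hle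
    obtain ⟨w, hwW, hwU⟩ := SetLike.not_le_iff_exists.mp hle
    obtain ⟨a, b, rfl⟩ : ∃ a b, w = z * A n x y a b := by
      rcases mem_cases h w with ⟨a, b, hab⟩ | hab
      · exact absurd ⟨a, b, hab⟩ hwU
      · exact hab
    -- every element of W ∩ U is diagonal
    have hdiag : ∀ v : W, (v : S) ∈ U h → ∃ c, (v : S) = A n x y c c := by
      rintro ⟨v, hv⟩ ⟨c, d, rfl⟩
      have hcomm : (⟨A n x y c d, hv⟩ : W) * ⟨z * A n x y a b, hwW⟩
          = ⟨z * A n x y a b, hwW⟩ * ⟨A n x y c d, hv⟩ := mul_comm' _ _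
      have := diag_of_comm h a b c d (congrArg Subtype.val hcomm)
      exact ⟨c, by subst this; rfl⟩
    have hcard1 : Nat.card ((U h).subgroupOf W) ≤ 2 ^ n := by
      classical
      let f : (U h).subgroupOf W → ZMod (2 ^ n) := fun v => (hdiag v.1 v.2).choose
      have hf : Function.Injective f := by
        intro v v' hvv
        have h1 := (hdiag v.1 v.2).choose_spec
        have h2 := (hdiag v'.1 v'.2).choose_spec
        have h3 : (hdiag v.1 v.2).choose = (hdiag v'.1 v'.2).choose := hvv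
        rw [h3] at h1
        exact Subtype.ext (Subtype.ext (h1.trans h2.symm))
      have := Nat.card_le_card_of_injective f hf
      have h2 : Nat.card (ZMod (2 ^ n)) = 2 ^ n := by rw [Nat.card_eq_fintype_card, ZMod.card]
      rwa [h2] at this
    haveI : (U h).Normal := Subgroup.normal_of_index_eq_two (index_U h)
    have hrel : (U h).relIndex W ∣ 2 := by
      have := Subgroup.relIndex_dvd_index_of_normal (U h) W
      rwa [index_U h] at this
    have hrel2 : (U h).relIndex W ≤ 2 := Nat.le_of_dvd (by norm_num) hrel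
    have hmul : Nat.card ((U h).subgroupOf W) * (U h).relIndex W = Nat.card W :=
      ((U h).subgroupOf W).card_mul_index
    have hle2 : Nat.card W ≤ 2 ^ n * 2 := by
      rw [← hmul]
      exact Nat.mul_le_mul hcard1 hrel2
    rw [hc, ← pow_succ] at hle2
    have := (Nat.pow_le_pow_iff_right (by norm_num : 1 < 2)).mp hle2
    have := h.hn
    omega
  · rw [card_U h, hc]

end subgroupU

section klein

open Cfsg.Agent.H9.KleinGeneral

variable {n : ℕ} {x y z : S}

/-- the normal four-group `Ω₁(U)` -/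
def T (n : ℕ) (x y : S) : Subgroup S :=
  Subgroup.closure {A n x y (c n) 0, A n x y 0 (c n)}

theorem hn1 (h : WDat n x y z) : 1 ≤ n := by have := h.hn; omega

theorem cc_zero (h : WDat n x y z) : c n + c n = 0 := by
  rw [← two_mul]; exact two_c' (hn1 h)

theorem a_sq (h : WDat n x y z) : A n x y (c n) 0 * A n x y (c n) 0 = 1 := by
  rw [A_mul h, cc_zero h, add_zero, A_zero]

theorem b_sq (h : WDat n x y z) : A n x y 0 (c n) * A n x y 0 (c n) = 1 := by
  rw [A_mul h, cc_zero h, add_zero, A_zero]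

theorem ab_comm (h : WDat n x y z) :
    A n x y (c n) 0 * A n x y 0 (c n) = A n x y 0 (c n) * A n x y (c n) 0 := A_comm h _ _ _ _

theorem A_ne_one (h : WDat n x y z) {a b : ZMod (2 ^ n)} (hab : a ≠ 0 ∨ b ≠ 0) :
    A n x y a b ≠ 1 := by
  intro h1
  obtain ⟨h2, h3⟩ := A_eq_one h h1
  rcases hab with hab | hab
  · exact hab h2
  · exact hab h3

theorem mem_T (h : WDat n x y z) (t : S) :
    t ∈ T n x y ↔ ∃ i j, t = A n x y i j ∧ 2 * i = 0 ∧ 2 * j = 0 := by
  unfold T
  rw [mem_closure_pair_iff _ _ (a_sq h) (b_sq h) (ab_comm h)]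
  constructor
  · rintro (rfl | rfl | rfl | rfl)
    · exact ⟨0, 0, A_zero.symm, mul_zero _, mul_zero _⟩
    · exact ⟨c n, 0, rfl, two_c' (hn1 h), mul_zero _⟩
    · exact ⟨0, c n, rfl, mul_zero _, two_c' (hn1 h)⟩
    · exact ⟨c n, c n, by rw [A_mul h, add_zero, zero_add], two_c' (hn1 h), two_c' (hn1 h)⟩
  · rintro ⟨i, j, rfl, hi, hj⟩
    rcases (two_mul_eq_zero' (hn1 h) i).mp hi with rfl | rfl <;>
      rcases (two_mul_eq_zero' (hn1 h) j).mp hj with rfl | rfl
    · left; exact A_zero
    · right; right; left; rfl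
    · right; left; rfl
    · right; right; right
      rw [A_mul h, add_zero, zero_add]

theorem isKleinFour_T (h : WDat n x y z) : IsKleinFour (T n x y) := by
  unfold T
  apply isKleinFour_closure_pair _ _ (a_sq h) (b_sq h) (ab_comm h)
  · exact A_ne_one h (Or.inl (c_ne' (hn1 h)))
  · exact A_ne_one h (Or.inr (c_ne' (hn1 h)))
  · intro hab
    exact c_ne' (hn1 h) (A_inj h hab).1

theorem T_normal [Finite S] (h : WDat n x y z) : (T n x y).Normal := by
  constructor
  intro t ht g
  obtain ⟨i, j, rfl, hi, hj⟩ := (mem_T h t).mp ht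
  rcases mem_cases h g with ⟨a, b, rfl⟩ | ⟨a, b, rfl⟩
  · rw [A_comm h a b i j, mul_inv_cancel_right]
    exact (mem_T h _).mpr ⟨i, j, rfl, hi, hj⟩
  · have : z * A n x y a b * A n x y i j * (z * A n x y a b)⁻¹
        = z * (A n x y a b * A n x y i j * (A n x y a b)⁻¹) * z⁻¹ := by group
    rw [this, A_comm h a b i j, mul_inv_cancel_right, conj_A h]
    exact (mem_T h _).mpr ⟨j, i, rfl, hj, hi⟩

theorem z_ne_one (h : WDat n x y z) : z ≠ 1 := by
  intro hz
  have := h.oz
  rw [hz, orderOf_one] at this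
  omega

theorem z_not_mem_U (h : WDat n x y z) : z ∉ U h := by
  have := zA_not_mem_U h 0 0
  rwa [A_zero, mul_one] at this

theorem T_le_U (h : WDat n x y z) : T n x y ≤ U h := by
  intro t ht
  obtain ⟨i, j, rfl, -, -⟩ := (mem_T h t).mp ht
  exact A_mem_U h i j

theorem cc_sq (h : WDat n x y z) : A n x y (c n) (c n) * A n x y (c n) (c n) = 1 := by
  rw [A_mul h, cc_zero h, A_zero]

theorem z_comm_cc (h : WDat n x y z) : z * A n x y (c n) (c n) = A n x y (c n) (c n) * z := by
  rw [A_mul_z h]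

/-- a second four-group -/
theorem exists_other [Finite S] (h : WDat n x y z) :
    ∃ T₀ : Subgroup S, IsKleinFour T₀ ∧ T₀ ≠ T n x y := by
  refine ⟨Subgroup.closure {z, A n x y (c n) (c n)}, ?_, ?_⟩
  · apply isKleinFour_closure_pair _ _ (z_mul_z h) (cc_sq h) (z_comm_cc h) (z_ne_one h)
    · exact A_ne_one h (Or.inl (c_ne' (hn1 h)))
    · intro hz
      exact z_not_mem_U h (hz ▸ A_mem_U h _ _)
  · intro heq
    have hz : z ∈ Subgroup.closure {z, A n x y (c n) (c n)} :=
      Subgroup.subset_closure (Set.mem_insert _ _)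
    rw [heq] at hz
    exact z_not_mem_U h (T_le_U h hz)

/-- four-groups other than `T` -/
theorem klein_ne_T [Finite S] (h : WDat n x y z) (T₁ : Subgroup S) (hT₁ : IsKleinFour T₁)
    (hne : T₁ ≠ T n x y) :
    ∃ a, T₁ = Subgroup.closure {z * A n x y a (-a), A n x y (c n) (c n)} := by
  have hsq : ∀ t ∈ T₁, t * t = 1 := fun t ht =>
    congrArg Subtype.val (IsKleinFour.mul_self (⟨t, ht⟩ : T₁))
  have hcomm : ∀ s ∈ T₁, ∀ t ∈ T₁, s * t = t * s := by
    intro s hs t ht
    haveI := IsKleinFour.isMulCommutative (G := T₁)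
    exact congrArg Subtype.val (mul_comm' (⟨s, hs⟩ : T₁) ⟨t, ht⟩)
  -- an element outside U
  have hout : ∃ w ∈ T₁, w ∉ U h := by
    by_contra hcon
    push_neg at hcon
    apply hne
    haveI := isKleinFour_T h
    apply Subgroup.eq_of_le_of_card_ge
    · intro t ht
      obtain ⟨i, j, rfl⟩ := hcon t ht
      have h1 := hsq _ ht
      rw [A_mul h] at h1
      obtain ⟨h2, h3⟩ := A_eq_one h h1
      exact (mem_T h _).mpr ⟨i, j, rfl, by rw [two_mul]; exact h2, by rw [two_mul]; exact h3⟩
    · rw [hT₁.card_four, (isKleinFour_T h).card_four]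
  obtain ⟨w, hwT, hwU⟩ := hout
  obtain ⟨a, b, rfl⟩ : ∃ a b, w = z * A n x y a b := by
    rcases mem_cases h w with ⟨a, b, hab⟩ | hab
    · exact absurd ⟨a, b, hab⟩ hwU
    · exact hab
  have hb : b = -a := by
    have h1 := hsq _ hwT
    rw [zA_mul_zA h] at h1
    have := (A_eq_one h h1).1
    exact eq_neg_of_add_eq_zero_left this
  subst hb
  have hw1 : z * A n x y a (-a) ≠ 1 := by
    intro h1
    exact hwU (h1 ▸ (U h).one_mem)
  -- an element of T₁ ∩ U other than 1
  have hin : ∃ v ∈ T₁, v ∈ U h ∧ v ≠ 1 := by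
    have hlt : Subgroup.zpowers (z * A n x y a (-a)) < T₁ := by
      apply lt_of_le_of_ne (Subgroup.zpowers_le.mpr hwT)
      intro heq
      have h1 : Nat.card (Subgroup.zpowers (z * A n x y a (-a))) = 4 := by
        rw [heq]; exact hT₁.card_four
      rw [Nat.card_zpowers] at h1
      have h2 : orderOf (z * A n x y a (-a)) ∣ 2 :=
        orderOf_dvd_of_pow_eq_one (by rw [pow_two]; exact hsq _ hwT)
      have := Nat.le_of_dvd (by norm_num) h2
      omega
    obtain ⟨t, htT, htz⟩ := SetLike.exists_of_lt hlt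
    have ht1 : t ≠ 1 := fun h1 => htz (h1 ▸ Subgroup.one_mem _)
    have htw : t ≠ z * A n x y a (-a) := fun h1 => htz (h1 ▸ Subgroup.mem_zpowers _)
    rcases mem_cases h t with ⟨i, j, rfl⟩ | ⟨i, j, rfl⟩
    · exact ⟨_, htT, A_mem_U h i j, ht1⟩
    · refine ⟨(z * A n x y i j) * (z * A n x y a (-a)), T₁.mul_mem htT hwT, ?_, ?_⟩
      · rw [zA_mul_zA h]; exact A_mem_U h _ _
      · intro h1
        apply htw
        have h2 := hsq _ hwT
        calc z * A n x y i j = (z * A n x y i j) * ((z * A n x y a (-a)) * (z * A n x y a (-a))) := by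
              rw [h2, mul_one]
          _ = ((z * A n x y i j) * (z * A n x y a (-a))) * (z * A n x y a (-a)) := by group
          _ = z * A n x y a (-a) := by rw [h1, one_mul]
  obtain ⟨v, hvT, ⟨i, j, rfl⟩, hv1⟩ := hin
  have hij : i = j := diag_of_comm h a (-a) i j (hcomm _ hvT _ hwT)
  subst hij
  have hi2 : 2 * i = 0 := by
    have h1 := hsq _ hvT
    rw [A_mul h] at h1
    rw [two_mul]; exact (A_eq_one h h1).1
  have hic : i = c n := by
    rcases (two_mul_eq_zero' (hn1 h) i).mp hi2 with rfl | rfl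
    · exact absurd A_zero hv1
    · rfl
  subst hic
  refine ⟨a, ?_⟩
  haveI := hT₁
  symm
  apply klein_eq_closure T₁ _ _ hwT hvT hw1 hv1
  intro heq
  exact hwU (heq ▸ A_mem_U h _ _)

theorem conj_gen (h : WDat n x y z) (a b : ZMod (2 ^ n)) :
    A n x y (a - b) 0 * (z * A n x y a (-a)) * (A n x y (a - b) 0)⁻¹ = z * A n x y b (-b) := by
  rw [A_inv h, A_mul_zA h, zA_mul_A h]
  congr 2 <;> ring

theorem conj_cc (h : WDat n x y z) (k : ZMod (2 ^ n)) :
    A n x y k 0 * A n x y (c n) (c n) * (A n x y k 0)⁻¹ = A n x y (c n) (c n) := by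
  rw [A_comm h, mul_inv_cancel_right]

end klein

end Cfsg.Agent.Lead.Wr
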