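import Mathlib
import Cfsg.Agent.S1959
import Cfsg.Agent.Lib.Lead.AlperinGoldschmidt

/-!
# Local-to-global control of strong fusion through subgroups containing `Z(S)`

A variant of the local-to-global theorem `S1959.big`: the local hypothesis is only needed for the fully normalized subgroups
`T` of `S` containing `Z(S)`, provided the functors contain the centre.
-/

set_option autoImplicit false
set_option linter.style.haveILetI false
set_option linter.unusedSectionVars false
set_option linter.unusedVariables false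

namespace Cfsg.Agent.Lib.Lead.CentricControl

open Cfsg Cfsg.Agent.Lib.Helper7 Cfsg.Agent.Lib.Lead.Conj Cfsg.Agent.Lib.Lead.ConjFamily Cfsg.Agent.S1963
  Cfsg.Agent.S1965 Cfsg.Agent.S1961 Cfsg.Agent.S1959 Cfsg.Agent.Lib.Lead.LocalControl
  Cfsg.Agent.Lib.Lead.AlperinTame Cfsg.Agent.Lib.Lead.AlperinGoldschmidt

universe u
variable {G : Type u} [Group G]

/-- `D` contains every `p`-element of its centralizer -/
def Cen (p : ℕ) (D : Subgroup G) : Prop :=
  ∀ x ∈ Subgroup.centralizer (D : Set G), (∃ j : ℕ, x ^ p ^ j = 1) → x ∈ D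

theorem Cen.conj {p : ℕ} {D : Subgroup G} (h : Cen p D) (g : G) : Cen p (cj g D) := by
  intro x hx hxp
  rw [mem_cj]
  apply h
  · rw [Subgroup.mem_centralizer_iff] at hx ⊢
    intro d hd
    have h1 := hx (g * d * g⁻¹) (conj_mem_map_conj D g hd)
    calc d * (g⁻¹ * x * g) = g⁻¹ * ((g * d * g⁻¹) * x) * g := by group
      _ = g⁻¹ * (x * (g * d * g⁻¹)) * g := by rw [h1]
      _ = g⁻¹ * x * g * d := by group
  · obtain ⟨j, hj⟩ := hxp
    refine ⟨j, ?_⟩
    have e : g⁻¹ * x * g = (MulAut.conj g⁻¹) x := by simp [MulAut.conj_apply]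
    rw [e, ← map_pow, hj, map_one]

theorem conj_mem_centralizer_of_mem_normalizer {U : Subgroup G} {n x : G}
    (hn : n ∈ Subgroup.normalizer (U : Set G)) (hx : x ∈ Subgroup.centralizer (U : Set G)) :
    n * x * n⁻¹ ∈ Subgroup.centralizer (U : Set G) := by
  rw [Subgroup.mem_centralizer_iff] at hx ⊢
  intro d hd
  have hn' : n⁻¹ ∈ Subgroup.normalizer (U : Set G) := Subgroup.inv_mem _ hn
  have h1 : n⁻¹ * d * n⁻¹⁻¹ ∈ U := (Subgroup.mem_normalizer_iff.mp hn' d).mp hd
  have h2 := hx _ h1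
  calc d * (n * x * n⁻¹) = n * ((n⁻¹ * d * n⁻¹⁻¹) * x) * n⁻¹ := by group
    _ = n * (x * (n⁻¹ * d * n⁻¹⁻¹)) * n⁻¹ := by rw [h2]
    _ = n * x * n⁻¹ * d := by group

theorem cj_centralizer_of_mem_normalizer {U : Subgroup G} {n : G}
    (hn : n ∈ Subgroup.normalizer (U : Set G)) :
    cj n (Subgroup.centralizer (U : Set G)) = Subgroup.centralizer (U : Set G) := by
  ext x
  rw [mem_cj]
  constructor
  · intro h
    have h1 := conj_mem_centralizer_of_mem_normalizer hn h
    have e : n * (n⁻¹ * x * n) * n⁻¹ = x := by group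
    rwa [e] at h1
  · intro h
    have h1 := conj_mem_centralizer_of_mem_normalizer (Subgroup.inv_mem _ hn) h
    rwa [inv_inv] at h1

variable [Finite G] {p : ℕ} [hp : Fact p.Prime] (S : Sylow p G)

theorem Cen.center_le {D : Subgroup G} (h : Cen p D) (hDS : D ≤ (S : Subgroup G)) :
    (S : Subgroup G) ⊓ Subgroup.centralizer ((S : Subgroup G) : Set G) ≤ D := by
  intro x hx
  apply h x
  · exact Subgroup.centralizer_le (SetLike.coe_subset_coe.mpr hDS) hx.2
  · obtain ⟨j, hj⟩ := S.isPGroup' ⟨x, hx.1⟩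
    refine ⟨j, ?_⟩
    have := congrArg Subtype.val hj
    simpa using this

theorem isPGroup_zpowers_of_pow {x : G} {j : ℕ} (hj : x ^ p ^ j = 1) : IsPGroup p ↥(Subgroup.zpowers x) := by
  rintro ⟨y, hy⟩
  obtain ⟨k, rfl⟩ := Subgroup.mem_zpowers_iff.mp hy
  refine ⟨j, Subtype.ext ?_⟩
  show (x ^ k) ^ p ^ j = 1
  rw [← zpow_natCast, ← zpow_mul, mul_comm, zpow_mul, zpow_natCast, hj, one_zpow]

/-- members of the Alperin–Goldschmidt family contain all `p`-elements of their centralizers -/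
theorem cen_of_CR {U : Subgroup G} (hU : CR S U) : Cen p U := by
  have hCU : (S : Subgroup G) ⊓ Subgroup.centralizer (U : Set G) ≤ U := by
    apply hU.2
    refine ⟨Subgroup.centralizer_le_normalizer _, fun n hn => cj_centralizer_of_mem_normalizer hn,
      fun k hk => ⟨0, by simpa using hk⟩⟩
  have hsyl : IsSylowIn p (NS S U) (Subgroup.normalizer (U : Set G)) :=
    isSylowIn_of_not_dvd_relIndex inf_le_right (isPGroup_NS S U) hU.1.2
  intro x hx ⟨j, hj⟩
  have hQp := isPGroup_zpowers_of_pow (p := p) hj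
  have hQN : Subgroup.zpowers x ≤ Subgroup.normalizer (U : Set G) :=
    Subgroup.zpowers_le.mpr (Subgroup.centralizer_le_normalizer _ hx)
  obtain ⟨R', hR', hQR'⟩ := exists_isSylowIn_ge hQp hQN
  obtain ⟨n, hn, hnR'⟩ := hR'.conj hsyl
  have h1 : n * x * n⁻¹ ∈ NS S U := by
    rw [hnR']
    exact conj_mem_map_conj _ n (hQR' (Subgroup.mem_zpowers x))
  have h2 : n * x * n⁻¹ ∈ U := hCU ⟨h1.1, conj_mem_centralizer_of_mem_normalizer hn hx⟩
  have hn' : n⁻¹ ∈ Subgroup.normalizer (U : Set G) := Subgroup.inv_mem _ hn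
  have h3 := (Subgroup.mem_normalizer_iff.mp hn' _).mp h2
  have e : n⁻¹ * (n * x * n⁻¹) * n⁻¹⁻¹ = x := by group
  rwa [e] at h3

/-- good subgroups: they contain `Z(S)` and their normalizer in `S` contains a centric subgroup -/
def Good (U : Subgroup G) : Prop :=
  (S : Subgroup G) ⊓ Subgroup.centralizer ((S : Subgroup G) : Set G) ≤ U ∧
    ∃ D : Subgroup G, D ≤ NS S U ∧ Cen p D

theorem good_of_CR {U : Subgroup G} (hU : CR S U) : Good S U :=
  ⟨(cen_of_CR S hU).center_le S hU.1.1, U, le_inf hU.1.1 Subgroup.le_normalizer, cen_of_CR S hU⟩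

variable {𝓦 : Set (Subgroup G → Subgroup G)}

theorem ch_of_decL' (m : ℕ) (hPP : ∀ T ∈ F0 S, Good S T → m < Nat.card ↥T → PP S 𝓦 T) :
    ∀ (l : List (Subgroup G × G)) (A : Set G), m < A.ncard → A ⊆ ((S : Subgroup G) : Set G) →
      DecL {U | CR S U} l A → Ch 𝓦 (S : Subgroup G) A (prodL l)⁻¹ := by
  intro l
  induction l with
  | nil =>
    intro A _ hA _
    rw [prodL_nil, inv_one]
    exact Ch.refl A hA
  | cons c l ih =>
    obtain ⟨T, x⟩ := c
    rintro A hm hA ⟨hT, hx, hAT, hdec⟩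
    have hTF : T ∈ F0 S := hT.1
    have hmT : m < Nat.card ↥T := by
      rw [card_eq_ncard]
      exact lt_of_lt_of_le hm (Set.ncard_le_ncard hAT (Set.toFinite _))
    have hTN : T ≤ NS S T := le_inf hTF.1 Subgroup.le_normalizer
    have hrcT : rc x A ⊆ (T : Set G) := by
      rw [← rc_normalizer hx]; exact rc_mono x hAT
    have hlc : lc x⁻¹ A = rc x A := by rw [lc_eq_rc, inv_inv]
    have h1 : Ch 𝓦 (S : Subgroup G) A x⁻¹ := by
      apply hPP T hTF (good_of_CR S hT) hmT A x⁻¹ (Subgroup.inv_mem _ hx) (fun a ha => hTN (hAT ha))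
      rw [hlc]
      exact fun a ha => hTN (hrcT ha)
    have h2 : Ch 𝓦 (S : Subgroup G) (rc x A) (prodL l)⁻¹ :=
      ih (rc x A) (by rw [ncard_rc]; exact hm) (fun a ha => hTF.1 (hrcT ha)) hdec
    rw [← hlc] at h2
    have := Ch.comp h1 h2
    rw [prodL_cons, mul_inv_rev]
    exact this

theorem ch_of_conj' (m : ℕ) (hPP : ∀ T ∈ F0 S, Good S T → m < Nat.card ↥T → PP S 𝓦 T) (A : Set G) (g : G)
    (hm : m < A.ncard) (hA : A ⊆ ((S : Subgroup G) : Set G)) (hgA : lc g A ⊆ ((S : Subgroup G) : Set G)) :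
    Ch 𝓦 (S : Subgroup G) A g := by
  have hrc : rc g⁻¹ A ⊆ ((S : Subgroup G) : Set G) := by rw [← lc_eq_rc]; exact hgA
  obtain ⟨c, hc, l, hl, hdec⟩ := alperin_goldschmidt S A g⁻¹ hA hrc
  have h1 := ch_of_decL' S m hPP l A hm hA hdec
  refine Ch.congr h1 ?_
  intro a ha
  have hg : g = (prodL l)⁻¹ * c⁻¹ := by rw [← inv_inv g, hl, mul_inv_rev]
  have hca : c⁻¹ * a * c = a := by
    have := Subgroup.mem_centralizer_iff.mp hc a ha
    rw [mul_assoc, this, ← mul_assoc, inv_mul_cancel, one_mul]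
  rw [hg]
  calc (prodL l)⁻¹ * c⁻¹ * a * ((prodL l)⁻¹ * c⁻¹)⁻¹
      = (prodL l)⁻¹ * (c⁻¹ * a * c) * (prodL l)⁻¹⁻¹ := by group
    _ = (prodL l)⁻¹ * a * (prodL l)⁻¹⁻¹ := by rw [hca]

theorem big' (h𝓦 : ∀ W ∈ 𝓦, IsConjugacyFunctor p W)
    (hZ : ∀ W ∈ 𝓦, ∀ R : Subgroup G, IsPGroup p ↥R → R ⊓ Subgroup.centralizer (R : Set G) ≤ W R)
    (hloc : ∀ T : Subgroup G, T ≤ (S : Subgroup G) →
      (S : Subgroup G) ⊓ Subgroup.centralizer ((S : Subgroup G) : Set G) ≤ T →
      ¬ p ∣ ((S : Subgroup G) ⊓ Subgroup.normalizer ((T : Subgroup G) : Set G)).relIndex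
        (Subgroup.normalizer ((T : Subgroup G) : Set G)) →
      FamilyControlsStrongFusionIn p 𝓦 (Subgroup.normalizer ((T : Subgroup G) : Set G))) :
    ∀ (k : ℕ) (U : Subgroup G), U ∈ F0 S → Good S U →
      Nat.card ↥(S : Subgroup G) - Nat.card ↥(NS S U) = k → PP S 𝓦 U := by
  intro k
  induction k using Nat.strong_induction_on with
  | _ k ih =>
  intro U hU hgood hk
  obtain ⟨hZU, D, hDR, hDcen⟩ := hgood
  have hRS : NS S U ≤ (S : Subgroup G) := inf_le_left
  have hUR : U ≤ NS S U := le_inf hU.1 Subgroup.le_normalizer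
  have hRp : IsPGroup p ↥(NS S U) := isPGroup_NS S U
  have hcardle : ∀ T : Subgroup G, T ≤ (S : Subgroup G) → Nat.card ↥T ≤ Nat.card ↥(S : Subgroup G) :=
    fun T hT => Nat.le_of_dvd Nat.card_pos (Subgroup.card_dvd_of_le hT)
  -- the induction hypothesis in usable form
  have hPPm : ∀ T ∈ F0 S, Good S T → Nat.card ↥(NS S U) < Nat.card ↥T → PP S 𝓦 T := by
    intro T hT hTg hlt
    have hTN : T ≤ NS S T := le_inf hT.1 Subgroup.le_normalizer
    have h1 : Nat.card ↥T ≤ Nat.card ↥(NS S T) :=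
      Nat.le_of_dvd Nat.card_pos (Subgroup.card_dvd_of_le hTN)
    have h2 : Nat.card ↥(NS S T) ≤ Nat.card ↥(S : Subgroup G) := hcardle _ inf_le_left
    exact ih (Nat.card ↥(S : Subgroup G) - Nat.card ↥(NS S T)) (by omega) T hT hTg rfl
  have hsyl : IsSylowIn p (NS S U) (Subgroup.normalizer ((U : Subgroup G) : Set G)) :=
    isSylowIn_of_not_dvd_relIndex inf_le_right hRp hU.2
  -- the key step: conjugations in `N_G(W(R))`
  have hQ : ∀ W ∈ 𝓦, ∀ s' ∈ Subgroup.normalizer ((W (NS S U) : Subgroup G) : Set G), ∀ A' : Set G,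
      A' ⊆ ((NS S U : Subgroup G) : Set G) → lc s' A' ⊆ ((NS S U : Subgroup G) : Set G) →
      Ch 𝓦 (S : Subgroup G) A' s' := by
    intro W hW s' hs' A' hA' hsA'
    have hWc := h𝓦 W hW
    by_cases hRS' : NS S U = (S : Subgroup G)
    · rw [hRS'] at hs' hA' hsA'
      have := Ch.step (h := 1) s' W hW hs' (by rw [mul_one]; exact hsA') (Ch.refl A' hA')
      rwa [mul_one] at this
    · -- `V = W(R)`
      have hV := hWc (NS S U) hRp
      have hVS : W (NS S U) ≤ (S : Subgroup G) := hV.1.trans hRS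
      -- `N_S(R) ≤ N_S(V)`
      have hNN : NS S (NS S U) ≤ NS S (W (NS S U)) := by
        refine le_inf inf_le_left ?_
        intro x hx
        have h3 := hV.2.2 x
        have h4 : cj x (NS S U) = NS S U := cj_eq_of_mem_normalizer hx.2
        unfold cj at h4
        rw [h4] at h3
        apply mem_normalizer_of_conj_mem
        intro r hr
        rw [h3]
        exact conj_mem_map_conj _ x hr
      have hlt : NS S U < NS S (NS S U) := exists_mem_normalizer_not_mem S hRS hRS'
      have hRV : NS S U ≤ NS S (W (NS S U)) := hlt.le.trans hNN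
      have hcardlt : Nat.card ↥(NS S U) < Nat.card ↥(NS S (W (NS S U))) := by
        rw [card_eq_ncard, card_eq_ncard]
        exact Set.ncard_lt_ncard (SetLike.coe_ssubset_coe.mpr (lt_of_lt_of_le hlt hNN)) (Set.toFinite _)
      obtain ⟨g, hg1, hg2, hg3⟩ := extremal S (W (NS S U)) hVS
      have hV'F : cj g (W (NS S U)) ∈ F0 S := mem_F0_of_extremal S hg1 hg2
      have hcard' : Nat.card ↥(NS S U) < Nat.card ↥(NS S (cj g (W (NS S U)))) := by
        have : Nat.card ↥(cj g (NS S (W (NS S U)))) ≤ Nat.card ↥(NS S (cj g (W (NS S U)))) :=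
          Nat.le_of_dvd Nat.card_pos (Subgroup.card_dvd_of_le hg3)
        rw [card_cj] at this
        omega
      -- the conjugate is again good
      have hgR_le : cj g (NS S U) ≤ NS S (cj g (W (NS S U))) := (cj_mono g hRV).trans hg3
      have hgD : Cen p (cj g D) := hDcen.conj g
      have hgDle : cj g D ≤ cj g (NS S U) := cj_mono g hDR
      have hgRS : cj g (NS S U) ≤ (S : Subgroup G) := hgR_le.trans inf_le_left
      have hZgR : (S : Subgroup G) ⊓ Subgroup.centralizer ((S : Subgroup G) : Set G) ≤ cj g (NS S U) :=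
        (hgD.center_le S (hgDle.trans hgRS)).trans hgDle
      have hgood' : Good S (cj g (W (NS S U))) := by
        refine ⟨?_, cj g D, hgDle.trans hgR_le, hgD⟩
        have h1 : (S : Subgroup G) ⊓ Subgroup.centralizer ((S : Subgroup G) : Set G) ≤
            cj g (NS S U) ⊓ Subgroup.centralizer ((cj g (NS S U) : Subgroup G) : Set G) :=
          le_inf hZgR (inf_le_right.trans (Subgroup.centralizer_le (SetLike.coe_subset_coe.mpr hgRS)))
        have h2 := hZ W hW (cj g (NS S U)) (hRp.map _)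
        have h3 := hV.2.2 g
        exact (h1.trans h2).trans (le_of_eq h3)
      have hPPV' : PP S 𝓦 (cj g (W (NS S U))) := by
        have h2 : Nat.card ↥(NS S (cj g (W (NS S U)))) ≤ Nat.card ↥(S : Subgroup G) :=
          hcardle _ inf_le_left
        exact ih (Nat.card ↥(S : Subgroup G) - Nat.card ↥(NS S (cj g (W (NS S U))))) (by omega) _
          hV'F hgood' rfl
      -- `D = N_S(V)` and its conjugate
      have hD1 : Ch 𝓦 (S : Subgroup G) ((NS S (W (NS S U)) : Subgroup G) : Set G) g := by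
        apply ch_of_conj' S _ hPPm _ g
        · rw [← card_eq_ncard]; exact hcardlt
        · exact fun a ha => (inf_le_left : NS S (W (NS S U)) ≤ _) ha
        · rw [lc_coe]
          exact fun a ha => (inf_le_left : NS S (cj g (W (NS S U))) ≤ _) (hg3 ha)
      have hD2 : Ch 𝓦 (S : Subgroup G) ((cj g (NS S (W (NS S U))) : Subgroup G) : Set G) g⁻¹ := by
        apply ch_of_conj' S _ hPPm _ g⁻¹
        · rw [← card_eq_ncard, card_cj]; exact hcardlt
        · exact fun a ha => (inf_le_left : NS S (cj g (W (NS S U))) ≤ _) (hg3 ha)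
        · rw [lc_coe, cj_cj, inv_mul_cancel, cj_one]
          exact fun a ha => (inf_le_left : NS S (W (NS S U)) ≤ _) ha
      -- assemble
      have hA'D : A' ⊆ ((NS S (W (NS S U)) : Subgroup G) : Set G) := fun a ha => hRV (hA' ha)
      have c1 : Ch 𝓦 (S : Subgroup G) A' g := Ch.mono hA'D hD1
      have hgR : ∀ B : Set G, B ⊆ ((NS S U : Subgroup G) : Set G) →
          lc g B ⊆ ((cj g (NS S (W (NS S U))) : Subgroup G) : Set G) := by
        intro B hB
        rw [← lc_coe]
        exact lc_mono g (fun a ha => hRV (hB ha))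
      have c2 : Ch 𝓦 (S : Subgroup G) (lc g A') (g * s' * g⁻¹) := by
        apply hPPV' (lc g A') (g * s' * g⁻¹) (conj_mem_normalizer_cj hs')
        · exact fun a ha => hg3 (hgR A' hA' ha)
        · have e : lc (g * s' * g⁻¹) (lc g A') = lc g (lc s' A') := by
            rw [← lc_mul, ← lc_mul]
            congr 1
            group
          rw [e]
          exact fun a ha => hg3 (hgR _ hsA' ha)
      have c3 : Ch 𝓦 (S : Subgroup G) (lc (g * s' * g⁻¹) (lc g A')) g⁻¹ := by
        have e : lc (g * s' * g⁻¹) (lc g A') = lc g (lc s' A') := by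
          rw [← lc_mul, ← lc_mul]
          congr 1
          group
        rw [e]
        exact Ch.mono (hgR _ hsA') hD2
      have c4 := Ch.comp (Ch.comp c1 c2) (by rw [lc_mul]; exact c3)
      have e : g⁻¹ * (g * s' * g⁻¹ * g) = s' := by group
      rw [e] at c4
      exact c4
  -- now `P(U)`
  intro A s hs hA hsA
  have hc := hloc U hU.1 hZU hU.2
  obtain ⟨n, c, hc0, hstep, hsub, hlast⟩ := family_control_any_sylow h𝓦 hc hsyl A s hs hA hsA
  have hall : ∀ i : Fin (n + 1), Ch 𝓦 (S : Subgroup G) A (c i) := by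
    intro i
    induction i using Fin.induction with
    | zero => rw [hc0]; exact Ch.refl A (fun a ha => hRS (hA ha))
    | succ i ih' =>
      obtain ⟨W, hW, hi⟩ := hstep i
      have h1 : Ch 𝓦 (S : Subgroup G) (lc (c i.castSucc) A) (c i.succ * (c i.castSucc)⁻¹) := by
        apply hQ W hW _ hi.2 _ (hsub i.castSucc)
        rw [← lc_mul]
        have e : c i.succ * (c i.castSucc)⁻¹ * c i.castSucc = c i.succ := by group
        rw [e]
        exact hsub i.succ
      have := Ch.comp ih' h1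
      have e : c i.succ * (c i.castSucc)⁻¹ * c i.castSucc = c i.succ := by group
      rwa [e] at this
  exact Ch.congr (hall (Fin.last n)) (fun a ha => (hlast a ha).symm)

/-- **Local-to-global control of strong fusion through the subgroups containing `Z(S)`** -/
theorem centric_control (h𝓦 : ∀ W ∈ 𝓦, IsConjugacyFunctor p W)
    (hZ : ∀ W ∈ 𝓦, ∀ R : Subgroup G, IsPGroup p ↥R → R ⊓ Subgroup.centralizer (R : Set G) ≤ W R)
    (hloc : ∀ T : Subgroup G, T ≤ (S : Subgroup G) →
      (S : Subgroup G) ⊓ Subgroup.centralizer ((S : Subgroup G) : Set G) ≤ T →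
      ¬ p ∣ ((S : Subgroup G) ⊓ Subgroup.normalizer ((T : Subgroup G) : Set G)).relIndex
        (Subgroup.normalizer ((T : Subgroup G) : Set G)) →
      FamilyControlsStrongFusionIn p 𝓦 (Subgroup.normalizer ((T : Subgroup G) : Set G)))
    (A : Set G) (g : G) (hA : A ⊆ ((S : Subgroup G) : Set G)) (hgA : lc g A ⊆ ((S : Subgroup G) : Set G)) :
    Ch 𝓦 (S : Subgroup G) A g := by
  have hPP : ∀ T ∈ F0 S, Good S T → 0 < Nat.card ↥T → PP S 𝓦 T :=
    fun T hT hg _ => big' S h𝓦 hZ hloc _ T hT hg rfl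
  by_cases hne : A = ∅
  · subst hne
    exact Ch.congr (Ch.refl ∅ (Set.empty_subset _)) (by simp)
  · have h0 : 0 < A.ncard := (Set.ncard_pos (Set.toFinite A)).mpr (Set.nonempty_iff_ne_empty.mpr hne)
    exact ch_of_conj' S 0 hPP A g h0 hA hgA

end Cfsg.Agent.Lib.Lead.CentricControl
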