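import Mathlib
import Cfsg.Prelude.Def_SporadicB
import Cfsg.Agent.S5344
import Cfsg.Agent.S0199
import Cfsg.Agent.H9.Cores

/-!
# 3-transposition classes: the `V`-relation and `O₂(G)` (lead)
-/

set_option autoImplicit false
set_option linter.style.haveILetI false
set_option linter.unusedVariables false
set_option linter.unusedSectionVars false

namespace Cfsg.Agent.Lead.TT

variable {G : Type*} [Group G]

theorem comm_iff {a b : G} (ha : a * a = 1) (hb : b * b = 1) : Commute a b ↔ (a * b) ^ 2 = 1 := by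
  constructor
  · intro h
    rw [h.mul_pow, pow_two, pow_two, ha, hb, one_mul]
  · intro h
    have hai : a⁻¹ = a := inv_eq_of_mul_eq_one_left ha
    have hbi : b⁻¹ = b := inv_eq_of_mul_eq_one_left hb
    rw [pow_two] at h
    have h1 : a * b = (a * b)⁻¹ := eq_inv_of_mul_eq_one_left h
    rw [mul_inv_rev, hai, hbi] at h1
    exact h1

theorem isPGroup_zpowers_of_pow {x : G} {p k : ℕ} (h : x ^ (p ^ k) = 1) :
    IsPGroup p (Subgroup.zpowers x) := by
  rintro ⟨g, hg⟩
  obtain ⟨i, rfl⟩ := Subgroup.mem_zpowers_iff.mp hg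
  refine ⟨k, Subtype.ext ?_⟩
  show (x ^ i) ^ (p ^ k) = 1
  rw [← zpow_natCast, ← zpow_mul, mul_comm, zpow_mul, zpow_natCast, h, one_zpow]

/-- two involutions whose product has order dividing 4 generate a 2-group -/
theorem isPGroup_two_closure_pair (a b : G) (ha : a * a = 1) (hb : b * b = 1)
    (hab : (a * b) ^ 4 = 1) : IsPGroup 2 (Subgroup.closure ({a, b} : Set G)) := by
  have hai : a⁻¹ = a := inv_eq_of_mul_eq_one_left ha
  have hbi : b⁻¹ = b := inv_eq_of_mul_eq_one_left hb
  have h1 : IsPGroup 2 (Subgroup.zpowers a) :=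
    isPGroup_zpowers_of_pow (k := 1) (by rw [pow_one, pow_two]; exact ha)
  have h2 : IsPGroup 2 (Subgroup.zpowers (a * b)) :=
    isPGroup_zpowers_of_pow (k := 2) (by norm_num; exact hab)
  have hconj : ∀ h ∈ Subgroup.zpowers (a * b), a * h * a⁻¹ ∈ Subgroup.zpowers (a * b) := by
    intro h hh
    obtain ⟨i, rfl⟩ := Subgroup.mem_zpowers_iff.mp hh
    rw [← conj_zpow]
    have : a * (a * b) * a⁻¹ = (a * b)⁻¹ := by
      rw [mul_inv_rev, hai, hbi]
      calc a * (a * b) * a = (a * a) * b * a := by group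
        _ = b * a := by rw [ha, one_mul]
    rw [this]
    exact Subgroup.zpow_mem _ (Subgroup.inv_mem _ (Subgroup.mem_zpowers _)) _
  have hnorm : Subgroup.zpowers a ≤ Subgroup.normalizer (Subgroup.zpowers (a * b) : Set G) := by
    rw [Subgroup.zpowers_le, Subgroup.mem_normalizer_iff]
    intro h
    constructor
    · exact hconj h
    · intro hh
      have := hconj _ hh
      rw [hai] at this
      have e : a * (a * h * a) * a = h := by
        calc a * (a * h * a) * a = (a * a) * h * (a * a) := by group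
          _ = h := by rw [ha, one_mul, mul_one]
      rwa [e] at this
  have h3 := h1.to_sup_of_normal_right' h2 hnorm
  apply h3.to_le
  rw [Subgroup.closure_le]
  rintro x (rfl | rfl)
  · exact Subgroup.mem_sup_left (Subgroup.mem_zpowers _)
  · have hx : x = a⁻¹ * (a * x) := by group
    have h4 : a⁻¹ * (a * x) ∈ Subgroup.zpowers a ⊔ Subgroup.zpowers (a * x) :=
      Subgroup.mul_mem _ (Subgroup.mem_sup_left (Subgroup.inv_mem _ (Subgroup.mem_zpowers _)))
        (Subgroup.mem_sup_right (Subgroup.mem_zpowers _))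
    rw [← hx] at h4
    exact h4

section class3

variable {D : Set G}

theorem sq_one (hD : Cfsg.IsThreeTranspositionSet D) {d : G} (hd : d ∈ D) : d * d = 1 := by
  have := hD.1 d hd
  rw [← pow_two, ← this]
  exact pow_orderOf_eq_one d

theorem inv_eq (hD : Cfsg.IsThreeTranspositionSet D) {d : G} (hd : d ∈ D) : d⁻¹ = d :=
  inv_eq_of_mul_eq_one_left (sq_one hD hd)

theorem cube_of_not_comm (hD : Cfsg.IsThreeTranspositionSet D) {d e : G} (hd : d ∈ D) (he : e ∈ D)
    (h : ¬ Commute d e) : (d * e) ^ 3 = 1 := by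
  rcases hD.2 d hd e he with h2 | h3
  · exact absurd ((comm_iff (sq_one hD hd) (sq_one hD he)).mpr h2) h
  · exact h3

theorem conj_mem (hD : Cfsg.IsThreeTranspositionClass D) {d : G} (hd : d ∈ D) (g : G) :
    g * d * g⁻¹ ∈ D := by
  obtain ⟨d₀, hd₀, hcl⟩ := hD.2.1
  rw [hcl] at hd ⊢
  have hd' : IsConj d₀ d := hd
  exact hd'.trans (isConj_iff.mpr ⟨g, rfl⟩)

theorem ne_one (hD : Cfsg.IsThreeTranspositionSet D) {d : G} (hd : d ∈ D) : d ≠ 1 := by
  intro h
  have := hD.1 d hd
  rw [h, orderOf_one] at this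
  omega

/-- some member of `D` does not commute with `d` -/
theorem exists_not_comm (hD : Cfsg.IsThreeTranspositionClass D) (hD2 : ∃ a ∈ D, ∃ b ∈ D, a ≠ b)
    {d : G} (hd : d ∈ D) : ∃ e ∈ D, ¬ Commute d e := by
  by_contra hcon
  push_neg at hcon
  have hcen : ∀ g : G, g * d * g⁻¹ = d := by
    intro g
    have hg : g ∈ Subgroup.centralizer ({d} : Set G) := by
      have hle : Subgroup.closure D ≤ Subgroup.centralizer ({d} : Set G) := by
        rw [Subgroup.closure_le]
        intro e he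
        rw [SetLike.mem_coe, Subgroup.mem_centralizer_iff]
        intro x hx
        rw [Set.mem_singleton_iff] at hx
        rw [hx]
        exact (hcon e he).eq
      rw [hD.2.2] at hle
      exact hle (Subgroup.mem_top g)
    have := Subgroup.mem_centralizer_iff.mp hg d rfl
    rw [← this, mul_inv_cancel_right]
  have hall : ∀ a ∈ D, a = d := by
    intro a ha
    obtain ⟨d₀, hd₀, hcl⟩ := hD.2.1
    rw [hcl] at hd ha
    have hd' : IsConj d₀ d := hd
    have ha' : IsConj d₀ a := ha
    obtain ⟨g, hg⟩ := isConj_iff.mp (hd'.symm.trans ha')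
    rw [← hg]; exact hcen g
  obtain ⟨a, ha, b, hb, hab⟩ := hD2
  exact hab ((hall a ha).trans (hall b hb).symm)

/-- the `V`-relation: same commuting members -/
def Rel (D : Set G) (d v : G) : Prop := v ∈ D ∧ ∀ e ∈ D, Commute v e ↔ Commute d e

theorem Rel.comm {d v : G} (hd : d ∈ D) (h : Rel D d v) : Commute d v :=
  ((h.2 d hd).mpr (Commute.refl d)).symm

theorem Rel.conj (hD : Cfsg.IsThreeTranspositionClass D) {d v : G} (h : Rel D d v) (g : G) :
    Rel D (g * d * g⁻¹) (g * v * g⁻¹) := by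
  refine ⟨conj_mem hD h.1 g, fun e he => ?_⟩
  have he' : g⁻¹ * e * g ∈ D := by
    have := conj_mem hD he g⁻¹
    rwa [inv_inv] at this
  have key : ∀ x : G, Commute (g * x * g⁻¹) e ↔ Commute x (g⁻¹ * e * g) := by
    intro x
    constructor
    · intro hc
      have h1 : g * x * g⁻¹ * e = e * (g * x * g⁻¹) := hc.eq
      show x * (g⁻¹ * e * g) = g⁻¹ * e * g * x
      calc x * (g⁻¹ * e * g) = g⁻¹ * (g * x * g⁻¹ * e) * g := by group
        _ = g⁻¹ * (e * (g * x * g⁻¹)) * g := by rw [h1]
        _ = g⁻¹ * e * g * x := by group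
    · intro hc
      have h1 : x * (g⁻¹ * e * g) = g⁻¹ * e * g * x := hc.eq
      show g * x * g⁻¹ * e = e * (g * x * g⁻¹)
      calc g * x * g⁻¹ * e = g * (x * (g⁻¹ * e * g)) * g⁻¹ := by group
        _ = g * (g⁻¹ * e * g * x) * g⁻¹ := by rw [h1]
        _ = e * (g * x * g⁻¹) := by group
  rw [key, key]
  exact h.2 _ he'

end class3

section core

variable {D : Set G}

/-- identities in the `S₄` generated by a 3-string -/
theorem string_identities (hD : Cfsg.IsThreeTranspositionSet D) {d e v : G} (hd : d ∈ D)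
    (he : e ∈ D) (hv : v ∈ D) (hne : d ≠ v) (hdv : Commute d v) (hde : ¬ Commute d e)
    (hev : ¬ Commute e v) :
    (e * (d * v) * e⁻¹) * d * (e * (d * v) * e⁻¹)⁻¹ = v ∧ ((d * v) * e) ^ 4 = 1 := by
  obtain ⟨φ, -, h01, h12, h23⟩ := Cfsg.Agent.S5344.result hD hd he hv hne hdv hde hev
  constructor
  · have key : (Equiv.swap (1 : Fin 4) 2 * (Equiv.swap 0 1 * Equiv.swap 2 3) * (Equiv.swap 1 2)⁻¹)
        * Equiv.swap 0 1 * (Equiv.swap (1 : Fin 4) 2 * (Equiv.swap 0 1 * Equiv.swap 2 3)
        * (Equiv.swap 1 2)⁻¹)⁻¹ = Equiv.swap 2 3 := by decide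
    have := congrArg φ key
    simpa only [map_mul, map_inv, h01, h12, h23] using this
  · have key : ((Equiv.swap (0 : Fin 4) 1 * Equiv.swap 2 3) * Equiv.swap 1 2) ^ 4 = 1 := by decide
    have := congrArg φ key
    simpa only [map_pow, map_mul, map_one, h01, h12, h23] using this

theorem prod_sq (hD : Cfsg.IsThreeTranspositionSet D) {d v : G} (hd : d ∈ D) (hv : v ∈ D)
    (hdv : Commute d v) : (d * v) * (d * v) = 1 := by
  have := (comm_iff (sq_one hD hd) (sq_one hD hv)).mp hdv
  rwa [pow_two] at this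

/-- conjugating `e` by `z = d v` gives a transposition commuting with `e` -/
theorem conj_comm (hD : Cfsg.IsThreeTranspositionSet D) {d e v : G} (hd : d ∈ D)
    (he : e ∈ D) (hv : v ∈ D) (hne : d ≠ v) (hdv : Commute d v) (hde : ¬ Commute d e)
    (hev : ¬ Commute e v) : Commute ((d * v) * e * (d * v)) e := by
  have h4 := (string_identities hD hd he hv hne hdv hde hev).2
  have hz := prod_sq hD hd hv hdv
  have hee := sq_one hD he
  have hff : ((d * v) * e * (d * v)) * ((d * v) * e * (d * v)) = 1 := by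
    calc ((d * v) * e * (d * v)) * ((d * v) * e * (d * v))
        = (d * v) * e * ((d * v) * (d * v)) * e * (d * v) := by group
      _ = (d * v) * (e * e) * (d * v) := by rw [hz]; group
      _ = 1 := by rw [hee, mul_one, hz]
  rw [comm_iff hff hee]
  have : ((d * v) * e * (d * v) * e) ^ 2 = ((d * v) * e) ^ 4 := by
    rw [pow_two, show (4 : ℕ) = 2 + 2 from rfl, pow_add, pow_two]
    group
  rw [this, h4]

theorem sq_lemma (hD : Cfsg.IsThreeTranspositionClass D) {d v d' v' : G} (hd : d ∈ D)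
    (hd' : d' ∈ D) (h : Rel D d v) (h' : Rel D d' v') : ((d * v) * (d' * v')) ^ 4 = 1 := by
  have hv := h.1
  have hv' := h'.1
  have hdv := h.comm hd
  have hdv' := h'.comm hd'
  have hz := prod_sq hD.1 hd hv hdv
  have hz' := prod_sq hD.1 hd' hv' hdv'
  have hz2 : (d * v) ^ 4 = 1 := by
    rw [show (4 : ℕ) = 2 + 2 from rfl, pow_add, pow_two, hz, one_mul]
  have hz2' : (d' * v') ^ 4 = 1 := by
    rw [show (4 : ℕ) = 2 + 2 from rfl, pow_add, pow_two, hz', one_mul]
  by_cases hc : Commute d d'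
  · have h1 : Commute v d' := (h.2 d' hd').mpr hc
    have h2 : Commute d v' := ((h'.2 d hd).mpr hc.symm).symm
    have h3 : Commute v v' := ((h'.2 v hv).mpr h1.symm).symm
    have hzz' : Commute (d * v) (d' * v') := (hc.mul_right h2).mul_left (h1.mul_right h3)
    rw [hzz'.mul_pow, hz2, hz2', one_mul]
  · by_cases hdv_eq : d = v
    · subst hdv_eq
      rw [sq_one hD.1 hd, one_mul, hz2']
    have h1 : ¬ Commute v d' := fun hh => hc ((h.2 d' hd').mp hh)
    have h2 : ¬ Commute d v' := fun hh => hc ((h'.2 d hd).mp hh.symm).symm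
    have h3 : ¬ Commute v v' := fun hh => h1 ((h'.2 v hv).mp hh.symm).symm
    -- f = z d' z and f' = z v' z
    have hzinv : (d * v)⁻¹ = d * v := inv_eq_of_mul_eq_one_left hz
    have hf : (d * v) * d' * (d * v) ∈ D := by
      have := conj_mem hD hd' (d * v)
      rwa [hzinv] at this
    have hf' : (d * v) * v' * (d * v) ∈ D := by
      have := conj_mem hD hv' (d * v)
      rwa [hzinv] at this
    have c1 : Commute ((d * v) * d' * (d * v)) d' :=
      conj_comm hD.1 hd hd' hv hdv_eq hdv hc (fun hh => h1 hh.symm)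
    have c2 : Commute ((d * v) * v' * (d * v)) v' :=
      conj_comm hD.1 hd hv' hv hdv_eq hdv h2 (fun hh => h3 hh.symm)
    have c3 : Commute ((d * v) * d' * (d * v)) v' := ((h'.2 _ hf).mpr c1.symm).symm
    have c4 : Commute ((d * v) * v' * (d * v)) d' := ((h'.2 _ hf').mp c2.symm).symm
    have hw : (d * v) * (d' * v') * (d * v) = ((d * v) * d' * (d * v)) * ((d * v) * v' * (d * v)) := by
      calc (d * v) * (d' * v') * (d * v) = (d * v) * d' * 1 * v' * (d * v) := by group
        _ = (d * v) * d' * ((d * v) * (d * v)) * v' * (d * v) := by rw [hz]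
        _ = _ := by group
    have cw : Commute ((d * v) * (d' * v') * (d * v)) (d' * v') := by
      rw [hw]
      exact (c1.mul_right c3).mul_left (c4.mul_right c2)
    have hww : ((d * v) * (d' * v') * (d * v)) ^ 2 = 1 := by
      rw [pow_two]
      calc (d * v) * (d' * v') * (d * v) * ((d * v) * (d' * v') * (d * v))
          = (d * v) * (d' * v') * ((d * v) * (d * v)) * (d' * v') * (d * v) := by group
        _ = (d * v) * ((d' * v') * (d' * v')) * (d * v) := by rw [hz]; group
        _ = 1 := by rw [hz', mul_one, hz]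
    have e4 : ((d * v) * (d' * v')) ^ 4 = (((d * v) * (d' * v') * (d * v)) * (d' * v')) ^ 2 := by
      rw [show (4 : ℕ) = 2 + 2 from rfl, pow_add, pow_two, pow_two]
      group
    rw [e4, cw.mul_pow, hww, pow_two, hz', one_mul]

theorem rel_mem_core [Finite G] (hD : Cfsg.IsThreeTranspositionClass D) {d v : G} (hd : d ∈ D)
    (h : Rel D d v) : d * v ∈ Cfsg.pCore 2 G := by
  have hz := prod_sq hD.1 hd h.1 (h.comm hd)
  have hX : IsPGroup 2 (Subgroup.zpowers (d * v)) :=
    isPGroup_zpowers_of_pow (k := 1) (by rw [pow_one, pow_two]; exact hz)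
  obtain ⟨N, hN, hN2, hXN⟩ := Cfsg.Agent.S0199.result (p := 2) (Subgroup.zpowers (d * v)) hX (by
    intro g
    rw [MonoidHom.map_zpowers]
    have hconj : (MulAut.conj g).toMonoidHom (d * v) = (g * d * g⁻¹) * (g * v * g⁻¹) := by
      show g * (d * v) * g⁻¹ = _
      group
    rw [hconj]
    have hsup : Subgroup.zpowers (d * v) ⊔ Subgroup.zpowers ((g * d * g⁻¹) * (g * v * g⁻¹))
        = Subgroup.closure {d * v, (g * d * g⁻¹) * (g * v * g⁻¹)} := by
      rw [Subgroup.zpowers_eq_closure, Subgroup.zpowers_eq_closure, ← Subgroup.closure_union]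
      rfl
    rw [hsup]
    have hrel := h.conj hD g
    have hd' := conj_mem hD hd g
    apply isPGroup_two_closure_pair _ _ hz
      (prod_sq hD.1 hd' hrel.1 (hrel.comm hd'))
    exact sq_lemma hD hd hd' h hrel)
  haveI := hN
  exact Cfsg.Agent.H9.le_pCore N hN2 (hXN (Subgroup.mem_zpowers _))

/-- members of `D` congruent modulo `O₂(G)` have the same commuting members -/
theorem comm_of_core [Finite G] (hD : Cfsg.IsThreeTranspositionClass D) {a b e : G} (ha : a ∈ D)
    (hb : b ∈ D) (he : e ∈ D) (hab : a⁻¹ * b ∈ Cfsg.pCore 2 G) (hc : Commute a e) :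
    Commute b e := by
  by_contra hnc
  have h3 := cube_of_not_comm hD.1 hb he hnc
  have h2 := (comm_iff (sq_one hD.1 ha) (sq_one hD.1 he)).mp hc
  haveI := Cfsg.Agent.H9.pCore_normal 2 G
  have hπ : (QuotientGroup.mk' (Cfsg.pCore 2 G)) b = (QuotientGroup.mk' (Cfsg.pCore 2 G)) a :=
    (QuotientGroup.eq.mpr hab).symm
  have h2' : ((QuotientGroup.mk' (Cfsg.pCore 2 G)) (b * e)) ^ 2 = 1 := by
    rw [map_mul, hπ, ← map_mul, ← map_pow, h2, map_one]
  have h3' : ((QuotientGroup.mk' (Cfsg.pCore 2 G)) (b * e)) ^ 3 = 1 := by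
    rw [← map_pow, h3, map_one]
  have h1' : (QuotientGroup.mk' (Cfsg.pCore 2 G)) (b * e) = 1 := by
    have : ((QuotientGroup.mk' (Cfsg.pCore 2 G)) (b * e)) ^ 3
        = ((QuotientGroup.mk' (Cfsg.pCore 2 G)) (b * e)) ^ 2
          * (QuotientGroup.mk' (Cfsg.pCore 2 G)) (b * e) := pow_succ _ 2
    rw [h3', h2', one_mul] at this
    exact this.symm
  have hmem : b * e ∈ Cfsg.pCore 2 G := (QuotientGroup.eq_one_iff _).mp h1'
  obtain ⟨k, hk⟩ := (Cfsg.Agent.H9.pCore_isPGroup 2 G) ⟨b * e, hmem⟩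
  have hk' : (b * e) ^ (2 ^ k) = 1 := congrArg Subtype.val hk
  have hd1 := orderOf_dvd_of_pow_eq_one hk'
  have hd2 := orderOf_dvd_of_pow_eq_one h3
  have hcop : Nat.Coprime (2 ^ k) 3 := Nat.Coprime.pow_left _ (by norm_num)
  have hd3 := Nat.dvd_gcd hd1 hd2
  rw [hcop.gcd_eq_one, Nat.dvd_one, orderOf_eq_one_iff] at hd3
  -- b * e = 1, so b = e
  have hbe : b = e := by
    have := mul_eq_one_iff_eq_inv.mp hd3
    rw [inv_eq hD.1 he] at this
    exact this
  exact hnc (hbe ▸ Commute.refl b)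

end core

end Cfsg.Agent.Lead.TT
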