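import Mathlib

set_option autoImplicit false
set_option linter.unusedVariables false
set_option linter.style.haveILetI false

/-! Jordan's theorem on the degrees of sharply `k`-transitive groups, `k ≥ 4`, by counting in the
centralizer of an involution. -/

namespace Cfsg.Agent.Lead.SharpTrans

open MulAction

/-- four pairwise distinct points -/
def D4 {Ω : Type*} (a b c d : Ω) : Prop :=
  a ≠ b ∧ a ≠ c ∧ a ≠ d ∧ b ≠ c ∧ b ≠ d ∧ c ≠ d

lemma vec4_inj {Ω : Type*} {a b c d : Ω} (h : D4 a b c d) : Function.Injective ![a, b, c, d] := by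
  obtain ⟨h1, h2, h3, h4, h5, h6⟩ := h
  intro i j hij
  fin_cases i <;> fin_cases j <;> simp_all

lemma d4_of_inj {Ω : Type*} (p : Fin 4 → Ω) (hp : Function.Injective p) :
    D4 (p 0) (p 1) (p 2) (p 3) := by
  refine ⟨?_, ?_, ?_, ?_, ?_, ?_⟩ <;> intro h <;> have := hp h <;> simp at this

section Basic

variable {K Ω : Type*} [Group K] [MulAction K Ω]

lemma exists_map4 (h4 : IsMultiplyPretransitive K Ω 4) {a b c d a' b' c' d' : Ω}
    (h : D4 a b c d) (h' : D4 a' b' c' d') :
    ∃ g : K, g • a = a' ∧ g • b = b' ∧ g • c = c' ∧ g • d = d' := by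
  let x : Fin 4 ↪ Ω := ⟨![a, b, c, d], vec4_inj h⟩
  let y : Fin 4 ↪ Ω := ⟨![a', b', c', d'], vec4_inj h'⟩
  obtain ⟨g, hg⟩ := h4.exists_smul_eq x y
  refine ⟨g, ?_, ?_, ?_, ?_⟩
  · have := DFunLike.congr_fun hg 0
    rw [Function.Embedding.smul_apply] at this
    exact this
  · have := DFunLike.congr_fun hg 1
    rw [Function.Embedding.smul_apply] at this
    exact this
  · have := DFunLike.congr_fun hg 2
    rw [Function.Embedding.smul_apply] at this
    exact this
  · have := DFunLike.congr_fun hg 3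
    rw [Function.Embedding.smul_apply] at this
    exact this

lemma eq_one_of_fix4 (hsharp : ∀ x : Fin 4 ↪ Ω, stabilizer K x = ⊥) (g : K) {a b c d : Ω}
    (h : D4 a b c d) (ha : g • a = a) (hb : g • b = b) (hc : g • c = c) (hd : g • d = d) :
    g = 1 := by
  let x : Fin 4 ↪ Ω := ⟨![a, b, c, d], vec4_inj h⟩
  have hmem : g ∈ stabilizer K x := by
    rw [mem_stabilizer_iff]
    ext i
    rw [Function.Embedding.smul_apply]
    fin_cases i
    · exact ha
    · exact hb
    · exact hc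
    · exact hd
  rw [hsharp x, Subgroup.mem_bot] at hmem
  exact hmem

lemma eq_of_agree4 (hsharp : ∀ x : Fin 4 ↪ Ω, stabilizer K x = ⊥) (g h : K) {a b c d : Ω}
    (hD : D4 a b c d) (ha : g • a = h • a) (hb : g • b = h • b) (hc : g • c = h • c)
    (hd : g • d = h • d) : g = h := by
  have : h⁻¹ * g = 1 := by
    apply eq_one_of_fix4 hsharp (h⁻¹ * g) hD
    · rw [mul_smul, ha, inv_smul_smul]
    · rw [mul_smul, hb, inv_smul_smul]
    · rw [mul_smul, hc, inv_smul_smul]
    · rw [mul_smul, hd, inv_smul_smul]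
  exact (inv_mul_eq_one.1 this).symm

end Basic

section Core

variable {K Ω : Type*} [Group K] [MulAction K Ω]

/-- the fixed points of `t` -/
def Fx (t : K) : Set Ω := {x | t • x = x}

/-- the moved points other than `a`, `b` -/
def Y1 (t : K) (a b : Ω) : Set Ω := {x | t • x ≠ x ∧ x ≠ a ∧ x ≠ b}

/-- the elements commuting with `t` and fixing `a` -/
def Dset (t : K) (a : Ω) : Set K := {g | g * t = t * g ∧ g • a = a}

lemma t_sq (hsharp : ∀ x : Fin 4 ↪ Ω, stabilizer K x = ⊥) {a b c d : Ω} (hD : D4 a b c d)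
    (t : K) (hta : t • a = b) (htb : t • b = a) (htc : t • c = c) (htd : t • d = d) :
    t * t = 1 := by
  apply eq_one_of_fix4 hsharp (t * t) hD
  · rw [mul_smul, hta, htb]
  · rw [mul_smul, htb, hta]
  · rw [mul_smul, htc, htc]
  · rw [mul_smul, htd, htd]

lemma fix_small (hsharp : ∀ x : Fin 4 ↪ Ω, stabilizer K x = ⊥) (t : K) (ht : t ≠ 1) :
    (Fx (Ω := Ω) t).Finite ∧ (Fx (Ω := Ω) t).ncard ≤ 3 := by
  classical
  by_contra hcon
  have hex : ∃ s : Finset Ω, (↑s : Set Ω) ⊆ Fx t ∧ s.card = 4 := by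
    by_cases hfin : (Fx (Ω := Ω) t).Finite
    · have h4 : 4 ≤ (Fx (Ω := Ω) t).ncard := by
        by_contra h
        exact hcon ⟨hfin, by omega⟩
      obtain ⟨u, hu, hu4⟩ := Set.exists_subset_card_eq h4
      have hufin : u.Finite := hfin.subset hu
      refine ⟨hufin.toFinset, ?_, ?_⟩
      · rw [Set.Finite.coe_toFinset]; exact hu
      · rw [← Set.ncard_eq_toFinset_card u hufin, hu4]
    · exact Set.Infinite.exists_subset_card_eq hfin 4
  obtain ⟨s, hs, hs4⟩ := hex
  let e := (s.equivFinOfCardEq hs4).symm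
  let p : Fin 4 → Ω := fun i => (e i : Ω)
  have hp : Function.Injective p := by
    intro i j hij
    exact e.injective (Subtype.ext hij)
  have hfix : ∀ i, t • p i = p i := fun i => hs (e i).2
  exact ht (eq_one_of_fix4 hsharp t (d4_of_inj p hp) (hfix 0) (hfix 1) (hfix 2) (hfix 3))

lemma mem_D_b {t : K} {a b : Ω} (hta : t • a = b) {g : K} (hg : g ∈ Dset t a) : g • b = b := by
  rw [← hta, ← mul_smul, hg.1, mul_smul, hg.2]

lemma mem_D_comm {t : K} {a : Ω} {g : K} (hg : g ∈ Dset t a) (x : Ω) :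
    g • t • x = t • g • x := by
  rw [← mul_smul, hg.1, mul_smul]

/-- commutation from agreement on four points -/
lemma comm_of_agree (hsharp : ∀ x : Fin 4 ↪ Ω, stabilizer K x = ⊥) (t g : K) {a b p q : Ω}
    (hD : D4 a b p q) (hta : t • a = b) (htb : t • b = a) (hga : g • a = a) (hgb : g • b = b)
    (hp : g • t • p = t • g • p) (hq : g • t • q = t • g • q) : g * t = t * g := by
  apply eq_of_agree4 hsharp (g * t) (t * g) hD
  · rw [mul_smul, mul_smul, hta, hga, hgb, hta]
  · rw [mul_smul, mul_smul, htb, hgb, hga, htb]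
  · rw [mul_smul, mul_smul, hp]
  · rw [mul_smul, mul_smul, hq]

end Core

section Count

variable {K Ω : Type*} [Group K] [MulAction K Ω]

lemma d4_Y {t : K} {a b : Ω} (hab : a ≠ b) (hta : t • a = b) (htb : t • b = a)
    (htt : ∀ x : Ω, t • t • x = x) {x : Ω} (hx : x ∈ Y1 t a b) : D4 a b x (t • x) := by
  obtain ⟨h1, h2, h3⟩ := hx
  refine ⟨hab, Ne.symm h2, ?_, Ne.symm h3, ?_, Ne.symm h1⟩
  · intro h
    apply h3
    rw [← hta, h, htt]
  · intro h
    apply h2
    rw [← htb, h, htt]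

lemma card_D_offDiag (h4 : IsMultiplyPretransitive K Ω 4)
    (hsharp : ∀ x : Fin 4 ↪ Ω, stabilizer K x = ⊥) {a b c d : Ω} (hD : D4 a b c d)
    (t : K) (hta : t • a = b) (htb : t • b = a) (htc : t • c = c) (htd : t • d = d) :
    (Dset t a).ncard = (Fx (Ω := Ω) t).offDiag.ncard := by
  obtain ⟨hab, hac, had, hbc, hbd, hcd⟩ := hD
  have hD' : D4 a b c d := ⟨hab, hac, had, hbc, hbd, hcd⟩
  have haF : ∀ u : Ω, t • u = u → a ≠ u := by
    rintro u hu rfl
    exact hab (hu.symm.trans hta)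
  have hbF : ∀ u : Ω, t • u = u → b ≠ u := by
    rintro u hu rfl
    exact hab (htb.symm.trans hu)
  apply Set.ncard_congr (fun g _ => ((g • c, g • d) : Ω × Ω))
  · intro g hg
    refine ⟨?_, ?_, ?_⟩
    · show t • g • c = g • c
      rw [← mem_D_comm hg, htc]
    · show t • g • d = g • d
      rw [← mem_D_comm hg, htd]
    · show g • c ≠ g • d
      intro h
      exact hcd (smul_left_cancel g h)
  · intro g g' hg hg' h
    have h1 : g • c = g' • c := congrArg Prod.fst h
    have h2 : g • d = g' • d := congrArg Prod.snd h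
    apply eq_of_agree4 hsharp g g' hD'
    · rw [hg.2, hg'.2]
    · rw [mem_D_b hta hg, mem_D_b hta hg']
    · exact h1
    · exact h2
  · rintro ⟨u, v⟩ ⟨hu, hv, huv⟩
    have hu' : t • u = u := hu
    have hv' : t • v = v := hv
    have huv' : u ≠ v := huv
    have hD2 : D4 a b u v := ⟨hab, haF u hu', haF v hv', hbF u hu', hbF v hv', huv'⟩
    obtain ⟨g, hga, hgb, hgc, hgd⟩ := exists_map4 h4 hD' hD2
    refine ⟨g, ⟨?_, hga⟩, ?_⟩
    · apply comm_of_agree hsharp t g hD' hta htb hga hgb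
      · rw [htc, hgc, hu']
      · rw [htd, hgd, hv']
    · rw [hgc, hgd]

lemma card_D_Y (h4 : IsMultiplyPretransitive K Ω 4)
    (hsharp : ∀ x : Fin 4 ↪ Ω, stabilizer K x = ⊥) {a b : Ω} (hab : a ≠ b)
    (t : K) (hta : t • a = b) (htb : t • b = a) (htt : ∀ x : Ω, t • t • x = x)
    {x₁ : Ω} (hx₁ : x₁ ∈ Y1 t a b) :
    (Dset t a).ncard = (Y1 t a b).ncard := by
  have hD1 := d4_Y hab hta htb htt hx₁
  apply Set.ncard_congr (fun g _ => g • x₁)
  · intro g hg
    refine ⟨?_, ?_, ?_⟩
    · intro h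
      rw [← mem_D_comm hg] at h
      exact hx₁.1 (smul_left_cancel g h)
    · intro h
      apply hx₁.2.1
      apply smul_left_cancel g
      rw [h, hg.2]
    · intro h
      apply hx₁.2.2
      apply smul_left_cancel g
      rw [h, mem_D_b hta hg]
  · intro g g' hg hg' h
    have h' : g • x₁ = g' • x₁ := h
    apply eq_of_agree4 hsharp g g' hD1
    · rw [hg.2, hg'.2]
    · rw [mem_D_b hta hg, mem_D_b hta hg']
    · exact h'
    · rw [mem_D_comm hg, mem_D_comm hg', h']
  · intro z hz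
    have hD2 := d4_Y hab hta htb htt hz
    obtain ⟨g, hga, hgb, hgx, hgtx⟩ := exists_map4 h4 hD1 hD2
    refine ⟨g, ⟨?_, hga⟩, hgx⟩
    apply comm_of_agree hsharp t g hD1 hta htb hga hgb
    · rw [hgtx, hgx]
    · rw [htt, hgx, hgtx, htt]

end Count

section Main4

variable {K Ω : Type*} [Group K] [MulAction K Ω]

theorem core4 (h4 : IsMultiplyPretransitive K Ω 4)
    (hsharp : ∀ x : Fin 4 ↪ Ω, stabilizer K x = ⊥) (hne : Nonempty (Fin 4 ↪ Ω)) :
    Finite Ω ∧ (Nat.card Ω = 4 ∨ Nat.card Ω = 5 ∨ Nat.card Ω = 6 ∨ Nat.card Ω = 11) := by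
  classical
  obtain ⟨x⟩ := hne
  obtain ⟨hab, hac, had, hbc, hbd, hcd⟩ := d4_of_inj x x.injective
  set a := x 0 with ha_def
  set b := x 1 with hb_def
  set c := x 2 with hc_def
  set d := x 3 with hd_def
  have hD : D4 a b c d := ⟨hab, hac, had, hbc, hbd, hcd⟩
  have hD' : D4 b a c d := ⟨Ne.symm hab, hbc, hbd, hac, had, hcd⟩
  obtain ⟨t, hta, htb, htc, htd⟩ := exists_map4 h4 hD hD'
  have ht2 := t_sq hsharp hD t hta htb htc htd
  have htt : ∀ y : Ω, t • t • y = y := fun y => by rw [← mul_smul, ht2, one_smul]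
  have ht1 : t ≠ 1 := by
    rintro rfl
    rw [one_smul] at hta
    exact hab hta
  obtain ⟨hFfin, hF3⟩ := fix_small (Ω := Ω) hsharp t ht1
  have hF2 : 2 ≤ (Fx (Ω := Ω) t).ncard := by
    have hsub : ({c, d} : Set Ω) ⊆ Fx t := by
      rintro y (rfl | rfl)
      · exact htc
      · exact htd
    have := Set.ncard_le_ncard hsub hFfin
    rwa [Set.ncard_pair hcd] at this
  have hoff : (Fx (Ω := Ω) t).offDiag.ncard =
      (Fx (Ω := Ω) t).ncard * (Fx (Ω := Ω) t).ncard - (Fx (Ω := Ω) t).ncard := by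
    have e1 := Set.ncard_eq_toFinset_card (Fx (Ω := Ω) t).offDiag hFfin.offDiag
    have e2 := Set.ncard_eq_toFinset_card (Fx (Ω := Ω) t) hFfin
    rw [e1, Set.Finite.toFinset_offDiag, Finset.offDiag_card, e2]
  have hDcard := card_D_offDiag h4 hsharp hD t hta htb htc htd
  -- the decomposition of the universe
  have huniv : (Set.univ : Set Ω) = Fx t ∪ (({a, b} : Set Ω) ∪ Y1 t a b) := by
    ext y
    simp only [Set.mem_univ, Set.mem_union, true_iff]
    by_cases h1 : t • y = y
    · exact Or.inl h1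
    · right
      by_cases h2 : y = a
      · left; left; exact h2
      · by_cases h3 : y = b
        · left; right; exact h3
        · right; exact ⟨h1, h2, h3⟩
  have hdisj1 : Disjoint (Fx (Ω := Ω) t) (({a, b} : Set Ω) ∪ Y1 t a b) := by
    rw [Set.disjoint_left]
    rintro y hy (hy2 | hy2)
    · rcases hy2 with rfl | rfl
      · exact hab (hy.symm.trans hta)
      · exact hab (htb.symm.trans hy)
    · exact hy2.1 hy
  have hdisj2 : Disjoint ({a, b} : Set Ω) (Y1 t a b) := by
    rw [Set.disjoint_left]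
    rintro y (rfl | rfl) hy2
    · exact hy2.2.1 rfl
    · exact hy2.2.2 rfl
  have hpair : ({a, b} : Set Ω).ncard = 2 := Set.ncard_pair hab
  have hpairfin : ({a, b} : Set Ω).Finite := Set.toFinite _
  by_cases hY : (Y1 t a b) = ∅
  · have hYfin : (Y1 t a b).Finite := by rw [hY]; exact Set.finite_empty
    have hfin : (Set.univ : Set Ω).Finite := by
      rw [huniv]; exact hFfin.union (hpairfin.union hYfin)
    refine ⟨Set.finite_univ_iff.1 hfin, ?_⟩
    have hcard : Nat.card Ω = (Fx (Ω := Ω) t).ncard + 2 := by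
      rw [← Set.ncard_univ, huniv, Set.ncard_union_eq hdisj1 hFfin (hpairfin.union hYfin),
        Set.ncard_union_eq hdisj2 hpairfin hYfin, hpair, hY, Set.ncard_empty]
    omega
  · obtain ⟨x₁, hx₁⟩ := Set.nonempty_iff_ne_empty.2 hY
    have hYcard := card_D_Y h4 hsharp hab t hta htb htt hx₁
    have hYn : (Y1 t a b).ncard =
        (Fx (Ω := Ω) t).ncard * (Fx (Ω := Ω) t).ncard - (Fx (Ω := Ω) t).ncard := by
      rw [← hYcard, hDcard, hoff]
    have hf : (Fx (Ω := Ω) t).ncard = 2 ∨ (Fx (Ω := Ω) t).ncard = 3 := by omega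
    have hYne : (Y1 t a b).ncard ≠ 0 := by
      rcases hf with h | h <;> rw [hYn, h] <;> norm_num
    have hYfin : (Y1 t a b).Finite := Set.finite_of_ncard_ne_zero hYne
    have hfin : (Set.univ : Set Ω).Finite := by
      rw [huniv]; exact hFfin.union (hpairfin.union hYfin)
    refine ⟨Set.finite_univ_iff.1 hfin, ?_⟩
    have hcard : Nat.card Ω = (Fx (Ω := Ω) t).ncard + (2 + (Y1 t a b).ncard) := by
      rw [← Set.ncard_univ, huniv, Set.ncard_union_eq hdisj1 hFfin (hpairfin.union hYfin),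
        Set.ncard_union_eq hdisj2 hpairfin hYfin, hpair]
    rcases hf with h | h
    · rw [hYn, h] at hcard
      right; right; left
      omega
    · rw [hYn, h] at hcard
      right; right; right
      omega

end Main4

end Cfsg.Agent.Lead.SharpTrans
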