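import Mathlib
import Cfsg.Agent.Lib.Helper4.Sylow
import Cfsg.Agent.Lib.Helper4.SylowPrime
import Cfsg.Agent.Lib.Helper4.Simple
import Cfsg.Agent.Lib.Helper5.DihedralRecog

set_option autoImplicit false

namespace Cfsg.Agent.Lead.Simple168

open Cfsg.Agent.Lib.Helper4.Sylow Cfsg.Agent.Lib.Helper4.SylowPrime Cfsg.Agent.Lib.Helper4.Simple

instance fact7 : Fact (Nat.Prime 7) := ⟨by norm_num⟩

/-- Counting the non-identity elements of the Sylow `p`-subgroups when they are pairwise TI. -/
theorem card_sylow_TI {G : Type*} [Group G] [Finite G] {p : ℕ} [Fact p.Prime] (m : ℕ)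
    (hm : ∀ P : Sylow p G, Nat.card (P : Subgroup G) = m)
    (hTI : ∀ (P Q : Sylow p G) (x : G), x ∈ (P : Subgroup G) → x ∈ (Q : Subgroup G) → x ≠ 1 → P = Q) :
    Nat.card {g : G // g ≠ 1 ∧ ∃ P : Sylow p G, g ∈ (P : Subgroup G)} =
      Nat.card (Sylow p G) * (m - 1) := by
  classical
  have : Fintype (Sylow p G) := Fintype.ofFinite _
  let β : Sylow p G → Type _ := fun P => {x : (P : Subgroup G) // ¬ x = 1}
  have hβ : ∀ P, Nat.card (β P) = m - 1 := by
    intro P
    have : Fintype (P : Subgroup G) := Fintype.ofFinite _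
    show Nat.card {x : (P : Subgroup G) // ¬ x = 1} = m - 1
    rw [Nat.card_eq_fintype_card, Fintype.card_subtype_compl, Fintype.card_subtype_eq,
      ← Nat.card_eq_fintype_card, hm P]
  let f : (Σ P, β P) → {g : G // g ≠ 1 ∧ ∃ P : Sylow p G, g ∈ (P : Subgroup G)} :=
    fun a => ⟨(a.2.1 : G), fun h => a.2.2 (Subtype.ext h), a.1, a.2.1.2⟩
  have hinj : Function.Injective f := by
    rintro ⟨P, ⟨x, hx⟩⟩ ⟨Q, ⟨y, hy⟩⟩ hxy
    have hval : (x : G) = (y : G) := congrArg Subtype.val hxy
    have hPQ : P = Q := hTI P Q x x.2 (by rw [hval]; exact y.2) (fun h => hx (Subtype.ext h))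
    subst hPQ
    have : x = y := Subtype.ext hval
    subst this
    rfl
  have hsurj : Function.Surjective f := by
    rintro ⟨g, hg1, P, hgP⟩
    exact ⟨⟨P, ⟨⟨g, hgP⟩, fun h => hg1 (congrArg Subtype.val h)⟩⟩, rfl⟩
  rw [← Nat.card_congr (Equiv.ofBijective f ⟨hinj, hsurj⟩), Nat.card_sigma]
  simp only [hβ, Finset.sum_const, Finset.card_univ, smul_eq_mul, Nat.card_eq_fintype_card]

/-- Counting elements of prime order `p` when the Sylow `p`-subgroups have order `p`. -/
theorem card_orderOf_eq_prime {G : Type*} [Group G] [Finite G] {p : ℕ} [hp : Fact p.Prime]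
    (hP : ∀ P : Sylow p G, Nat.card (P : Subgroup G) = p) :
    Nat.card {g : G // orderOf g = p} = Nat.card (Sylow p G) * (p - 1) := by
  rw [← card_sylow_TI p hP (fun P Q x hxP hxQ hx1 => sylow_eq_of_mem P Q (hP P) x hx1 hxP hxQ)]
  apply Nat.card_congr
  apply Equiv.subtypeEquivRight
  intro g
  constructor
  · intro hg
    refine ⟨?_, ?_⟩
    · rintro rfl
      rw [orderOf_one] at hg
      exact hp.out.one_lt.ne hg
    · have hpg : IsPGroup p (Subgroup.zpowers g) := by
        apply IsPGroup.of_card (n := 1)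
        rw [Nat.card_zpowers, hg, pow_one]
      obtain ⟨P, hP'⟩ := hpg.exists_le_sylow
      exact ⟨P, hP' (Subgroup.mem_zpowers g)⟩
  · rintro ⟨hg1, P, hgP⟩
    have h1 : orderOf g ∣ p := (hP P) ▸ Subgroup.orderOf_dvd_natCard _ hgP
    rcases (Nat.dvd_prime hp.out).mp h1 with h | h
    · exact absurd (orderOf_eq_one_iff.mp h) hg1
    · exact h

theorem cent_zpowers {G : Type*} [Group G] (x : G) :
    Subgroup.centralizer ((Subgroup.zpowers x : Subgroup G) : Set G) = Subgroup.centralizer {x} := by
  ext g
  simp only [Subgroup.mem_centralizer_iff, SetLike.mem_coe, Set.mem_singleton_iff, forall_eq]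
  constructor
  · intro hg
    exact hg x (Subgroup.mem_zpowers x)
  · rintro hg _ ⟨k, rfl⟩
    show x ^ k * g = g * x ^ k
    exact ((Commute.zpow_left (show Commute x g from hg) k)).eq

theorem orderOf_conj' {G : Type*} [Group G] (c a : G) : orderOf (c * a * c⁻¹) = orderOf a := by
  rw [← MulAut.conj_apply, MulEquiv.orderOf_eq]

theorem ne_one_of_orderOf_prime {G : Type*} [Group G] {p : ℕ} (hp : p.Prime) {x : G}
    (hx : orderOf x = p) : x ≠ 1 := by
  rintro rfl
  rw [orderOf_one] at hx
  exact hp.one_lt.ne hx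

section
variable {G : Type*} [Group G] [Finite G]

theorem card7 (h : Nat.card G = 168) (P : Sylow 7 G) : Nat.card (P : Subgroup G) = 7 := by
  simpa using card_sylow_of_card_eq (p := 7) (a := 1) (m := 24) (by norm_num [h]) (by norm_num) P

theorem card3 (h : Nat.card G = 168) (P : Sylow 3 G) : Nat.card (P : Subgroup G) = 3 := by
  simpa using card_sylow_of_card_eq (p := 3) (a := 1) (m := 56) (by norm_num [h]) (by norm_num) P

theorem card2 (h : Nat.card G = 168) (P : Sylow 2 G) : Nat.card (P : Subgroup G) = 8 := by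
  simpa using card_sylow_of_card_eq (p := 2) (a := 3) (m := 21) (by norm_num [h]) (by norm_num) P

variable [IsSimpleGroup G]

/-- In a simple group, if Sylow `p`-subgroups have order `p` and their normalizers order `p q`
(`q` prime), elements of order `p` are self-centralizing. -/
theorem cent_prime {p q : ℕ} [hp : Fact p.Prime] (hq : q.Prime)
    (hP : ∀ P : Sylow p G, Nat.card (P : Subgroup G) = p)
    (hN : ∀ P : Sylow p G, Nat.card (Subgroup.normalizer ((P : Subgroup G) : Set G)) = p * q)
    (hpG : p ≠ Nat.card G) (x : G) (hx : orderOf x = p) :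
    Subgroup.centralizer {x} = Subgroup.zpowers x := by
  have hx1 : x ≠ 1 := ne_one_of_orderOf_prime hp.out hx
  have hpg : IsPGroup p (Subgroup.zpowers x) := by
    apply IsPGroup.of_card (n := 1)
    rw [Nat.card_zpowers, hx, pow_one]
  obtain ⟨P, hle⟩ := hpg.exists_le_sylow
  have hPz : (P : Subgroup G) = Subgroup.zpowers x :=
    sylow_eq_zpowers P (hP P) x hx1 (hle (Subgroup.mem_zpowers x))
  have hC : Subgroup.centralizer {x} = Subgroup.centralizer ((P : Subgroup G) : Set G) := by
    rw [hPz, cent_zpowers]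
  set C := Subgroup.centralizer ((P : Subgroup G) : Set G) with hCdef
  set N := Subgroup.normalizer ((P : Subgroup G) : Set G) with hNdef
  have hCN : C ≤ N := Subgroup.centralizer_le_normalizer _
  have hPC : (P : Subgroup G) ≤ C := by
    rw [hCdef, hPz, cent_zpowers, Subgroup.zpowers_le]
    simp [Subgroup.mem_centralizer_iff]
  have hcardC : Nat.card C = p := by
    have h1 : Nat.card C ∣ p * q := (hN P) ▸ Subgroup.card_dvd_of_le hCN
    have h2 : p ∣ Nat.card C := (hP P) ▸ Subgroup.card_dvd_of_le hPC
    obtain ⟨k, hk⟩ := h2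
    rw [hk] at h1
    have h3 : k ∣ q := Nat.dvd_of_mul_dvd_mul_left hp.out.pos h1
    rcases (Nat.dvd_prime hq).mp h3 with h4 | h4
    · rw [hk, h4, mul_one]
    · exfalso
      have hCeq : C = N := Subgroup.eq_of_le_of_card_ge hCN (by rw [hN P, hk, h4])
      refine false_of_simple_of_normalizer_le_centralizer P hCeq.ge ?_ ?_
      · show Nat.card (P : Subgroup G) ≠ 1
        rw [hP P]; exact hp.out.one_lt.ne'
      · show Nat.card (P : Subgroup G) ≠ Nat.card G
        rw [hP P]; exact hpG
  rw [hC, ← hPz]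
  exact (Subgroup.eq_of_le_of_card_ge hPC (by rw [hcardC, hP P])).symm

theorem n7 (h : Nat.card G = 168) : Nat.card (Sylow 7 G) = 8 := by
  have hG : Nat.card G = 7 ^ 1 * 24 := by norm_num [h]
  have hdvd : Nat.card (Sylow 7 G) ∣ 24 := card_sylow_dvd_of_card_eq hG (by norm_num)
  have hmod : Nat.card (Sylow 7 G) ≡ 1 [MOD 7] := card_sylow_modEq_one 7 G
  obtain ⟨P⟩ : Nonempty (Sylow 7 G) := inferInstance
  have hne : Nat.card (Sylow 7 G) ≠ 1 := by
    refine card_sylow_ne_one_of_simple P ?_ ?_
    · show Nat.card (P : Subgroup G) ≠ 1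
      rw [card7 h P]; norm_num
    · show Nat.card (P : Subgroup G) ≠ Nat.card G
      rw [card7 h P, h]; norm_num
  have hle := Nat.le_of_dvd (by norm_num) hdvd
  unfold Nat.ModEq at hmod
  generalize Nat.card (Sylow 7 G) = n at *
  interval_cases n <;> omega

theorem cardN7 (h : Nat.card G = 168) (P : Sylow 7 G) :
    Nat.card (Subgroup.normalizer ((P : Subgroup G) : Set G)) = 21 := by
  have := card_sylow_mul_card_normalizer P
  rw [n7 h, h] at this
  omega

theorem cent7 (h : Nat.card G = 168) (x : G) (hx : orderOf x = 7) :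
    Subgroup.centralizer {x} = Subgroup.zpowers x :=
  cent_prime (q := 3) (by norm_num) (card7 h) (by intro P; rw [cardN7 h P]) (by rw [h]; norm_num) x hx

/-- elements of `N(P₇)` outside `P₇` have order 3 -/
theorem order3_of_mem_N7 (h : Nat.card G = 168) (P : Sylow 7 G) (g : G)
    (hgN : g ∈ Subgroup.normalizer ((P : Subgroup G) : Set G)) (hgP : g ∉ (P : Subgroup G)) :
    orderOf g = 3 := by
  have hdvd : orderOf g ∣ 21 := (cardN7 h P) ▸ Subgroup.orderOf_dvd_natCard _ hgN
  have hle := Nat.le_of_dvd (by norm_num) hdvd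
  have hpos : 0 < orderOf g := orderOf_pos g
  have hcases : orderOf g = 1 ∨ orderOf g = 3 ∨ orderOf g = 7 ∨ orderOf g = 21 := by
    generalize orderOf g = n at *
    interval_cases n <;> omega
  rcases hcases with h1 | h3 | h7 | h21
  · exfalso
    rw [orderOf_eq_one_iff] at h1
    exact hgP (h1 ▸ Subgroup.one_mem _)
  · exact h3
  · exfalso
    apply hgP
    refine mem_sylow_of_mem_normalizer P g hgN (Subgroup.zpowers g) ?_ (Subgroup.mem_zpowers g)
    apply IsPGroup.of_card (n := 1)
    rw [Nat.card_zpowers, h7, pow_one]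
  · exfalso
    have hx : orderOf (g ^ 3) = 7 := by
      rw [orderOf_pow_of_dvd (by norm_num) (by rw [h21]; norm_num), h21]
    have hc := cent7 h (g ^ 3) hx
    have hg : g ∈ Subgroup.centralizer {g ^ 3} := by
      rw [Subgroup.mem_centralizer_iff]
      intro y hy
      rw [Set.mem_singleton_iff] at hy
      subst hy
      rw [← pow_succ, ← pow_succ']
    rw [hc] at hg
    have := Subgroup.orderOf_dvd_natCard _ hg
    rw [Nat.card_zpowers, hx, h21] at this
    omega

theorem n3 (h : Nat.card G = 168) : Nat.card (Sylow 3 G) = 28 := by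
  classical
  have hG : Nat.card G = 3 ^ 1 * 56 := by norm_num [h]
  have hdvd : Nat.card (Sylow 3 G) ∣ 56 := card_sylow_dvd_of_card_eq hG (by norm_num)
  have hmod : Nat.card (Sylow 3 G) ≡ 1 [MOD 3] := card_sylow_modEq_one 3 G
  obtain ⟨Q⟩ : Nonempty (Sylow 3 G) := inferInstance
  have hne : Nat.card (Sylow 3 G) ≠ 1 := by
    refine card_sylow_ne_one_of_simple Q ?_ ?_
    · show Nat.card (Q : Subgroup G) ≠ 1
      rw [card3 h Q]; norm_num
    · show Nat.card (Q : Subgroup G) ≠ Nat.card G
      rw [card3 h Q, h]; norm_num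
  have hne4 : Nat.card (Sylow 3 G) ≠ 4 := by
    intro h4
    have hidx : (Subgroup.normalizer ((Q : Subgroup G) : Set G)).index = 4 := by
      exact Q.card_eq_index_normalizer.symm.trans h4
    have := card_dvd_factorial_of_simple (Subgroup.normalizer ((Q : Subgroup G) : Set G)) (by
      intro htop
      rw [htop, Subgroup.index_top] at hidx
      omega)
    rw [hidx, h] at this
    norm_num [Nat.factorial] at this
  have hne7 : Nat.card (Sylow 3 G) ≠ 7 := by
    intro h7
    have hcount : Nat.card {g : G // orderOf g = 3} = 14 := by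
      rw [card_orderOf_eq_prime (card3 h), h7]
    obtain ⟨P⟩ : Nonempty (Sylow 7 G) := inferInstance
    set N := Subgroup.normalizer ((P : Subgroup G) : Set G) with hN
    -- the elements of N outside P
    let f : {g : G // g ∈ N ∧ g ∉ (P : Subgroup G)} → {g : G // orderOf g = 3} :=
      fun g => ⟨g.1, order3_of_mem_N7 h P g.1 g.2.1 g.2.2⟩
    have hf : Function.Injective f := by
      intro a b hab
      have hv := congrArg Subtype.val hab
      exact Subtype.ext hv
    have hcardD : Nat.card {g : G // g ∈ N ∧ g ∉ (P : Subgroup G)} = 14 := by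
      have h1 : Nat.card {g : G // g ∈ N ∧ g ∉ (P : Subgroup G)} =
          ((N : Set G) \ ((P : Subgroup G) : Set G)).ncard := by
        rw [← Nat.card_coe_set_eq]
        rfl
      rw [h1, Set.ncard_sdiff (show ((P : Subgroup G) : Set G) ⊆ (N : Set G) from Subgroup.le_normalizer)
        (Set.toFinite _)]
      rw [← Nat.card_coe_set_eq, ← Nat.card_coe_set_eq]
      show Nat.card N - Nat.card (P : Subgroup G) = 14
      rw [cardN7 h P, card7 h P]
    have hbij : Function.Bijective f :=
      hf.bijective_of_nat_card_le (by rw [hcount, hcardD])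
    have hall : ∀ g : G, orderOf g = 3 → g ∈ N := by
      intro g hg
      obtain ⟨a, ha⟩ := hbij.2 ⟨g, hg⟩
      have : (a : G) = g := congrArg Subtype.val ha
      rw [← this]
      exact a.2.1
    have hK : Subgroup.normalClosure {g : G | orderOf g = 3} ≤ N := by
      rw [Subgroup.normalClosure, Subgroup.closure_le]
      intro y hy
      rw [Group.mem_conjugatesOfSet_iff] at hy
      obtain ⟨a, ha, hay⟩ := hy
      apply hall
      rw [isConj_iff] at hay
      obtain ⟨c, rfl⟩ := hay
      rw [orderOf_conj']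
      exact ha
    have hnorm : (Subgroup.normalClosure {g : G | orderOf g = 3}).Normal :=
      Subgroup.normalClosure_normal
    rcases hnorm.eq_bot_or_eq_top with hb | ht
    · obtain ⟨a⟩ : Nonempty {g : G // g ∈ N ∧ g ∉ (P : Subgroup G)} := by
        rw [← Finite.card_pos_iff, hcardD]; norm_num
      have ha3 := order3_of_mem_N7 h P a.1 a.2.1 a.2.2
      have : a.1 ∈ Subgroup.normalClosure {g : G | orderOf g = 3} :=
        Subgroup.subset_normalClosure ha3
      rw [hb, Subgroup.mem_bot] at this
      rw [this, orderOf_one] at ha3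
      omega
    · rw [ht] at hK
      have : Nat.card N = Nat.card G := by
        rw [top_le_iff.mp hK, Subgroup.card_top]
      rw [cardN7 h P, h] at this
      omega
  have hle := Nat.le_of_dvd (by norm_num) hdvd
  unfold Nat.ModEq at hmod
  generalize Nat.card (Sylow 3 G) = n at *
  interval_cases n <;> omega


theorem cardN3 (h : Nat.card G = 168) (P : Sylow 3 G) :
    Nat.card (Subgroup.normalizer ((P : Subgroup G) : Set G)) = 6 := by
  have := card_sylow_mul_card_normalizer P
  rw [n3 h, h] at this
  omega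

theorem cent3 (h : Nat.card G = 168) (x : G) (hx : orderOf x = 3) :
    Subgroup.centralizer {x} = Subgroup.zpowers x :=
  cent_prime (q := 2) Nat.prime_two (card3 h) (by intro P; rw [cardN3 h P]) (by rw [h]; norm_num) x hx

theorem mem_cent_pow {G : Type*} [Group G] (g : G) (k : ℕ) : g ∈ Subgroup.centralizer {g ^ k} := by
  rw [Subgroup.mem_centralizer_iff]
  intro y hy
  rw [Set.mem_singleton_iff] at hy
  subst hy
  rw [← pow_succ, ← pow_succ']

theorem order_cases (h : Nat.card G = 168) (g : G) :
    orderOf g = 7 ∨ orderOf g = 3 ∨ orderOf g ∣ 8 := by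
  have hdvd : orderOf g ∣ 168 := h ▸ orderOf_dvd_natCard g
  have hpos := orderOf_pos g
  have key : ∀ p : ℕ, p.Prime →
      (∀ x : G, orderOf x = p → Subgroup.centralizer {x} = Subgroup.zpowers x) →
      p ∣ orderOf g → orderOf g = p := by
    intro p hp hc hpd
    obtain ⟨k, hk⟩ := hpd
    have hk0 : k ≠ 0 := by
      rintro rfl
      rw [mul_zero] at hk
      omega
    have hx : orderOf (g ^ k) = p := by
      rw [orderOf_pow_of_dvd hk0 (Dvd.intro_left p hk.symm), hk]
      exact Nat.mul_div_cancel _ (Nat.pos_of_ne_zero hk0)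
    have hg := mem_cent_pow g k
    rw [hc _ hx] at hg
    have h1 := Subgroup.orderOf_dvd_natCard _ hg
    rw [Nat.card_zpowers, hx] at h1
    exact Nat.dvd_antisymm h1 ⟨k, hk⟩
  by_cases h7 : 7 ∣ orderOf g
  · left
    exact key 7 (by norm_num) (cent7 h) h7
  by_cases h3 : 3 ∣ orderOf g
  · right; left
    exact key 3 (by norm_num) (cent3 h) h3
  right; right
  have hcop : Nat.Coprime (orderOf g) 21 := by
    have : (21 : ℕ) = 3 * 7 := by norm_num
    rw [this]
    exact Nat.Coprime.mul_right
      (Nat.Coprime.symm ((Nat.Prime.coprime_iff_not_dvd (by norm_num)).mpr h3))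
      (Nat.Coprime.symm ((Nat.Prime.coprime_iff_not_dvd (by norm_num)).mpr h7))
  have h168 : orderOf g ∣ 8 * 21 := by norm_num; exact hdvd
  exact hcop.dvd_of_dvd_mul_right h168

theorem card_two_elts (h : Nat.card G = 168) : Nat.card {g : G // orderOf g ∣ 8} = 64 := by
  classical
  have : Fintype G := Fintype.ofFinite G
  have h7 : Nat.card {g : G // orderOf g = 7} = 48 := by
    rw [card_orderOf_eq_prime (card7 h), n7 h]
  have h3 : Nat.card {g : G // orderOf g = 3} = 56 := by
    rw [card_orderOf_eq_prime (card3 h), n3 h]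
  rw [Nat.card_eq_fintype_card, Fintype.card_subtype] at h7 h3 ⊢
  have hG : (Finset.univ : Finset G).card = 168 := by
    rw [Finset.card_univ, ← Nat.card_eq_fintype_card, h]
  have e1 := Finset.card_filter_add_card_filter_not (s := (Finset.univ : Finset G))
    (fun g => orderOf g = 7)
  have e2 := Finset.card_filter_add_card_filter_not
    (s := (Finset.univ.filter (fun g : G => ¬ orderOf g = 7))) (fun g => orderOf g = 3)
  rw [Finset.filter_filter, Finset.filter_filter] at e2
  have e3 : Finset.univ.filter (fun g : G => ¬ orderOf g = 7 ∧ orderOf g = 3) =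
      Finset.univ.filter (fun g : G => orderOf g = 3) := by
    apply Finset.filter_congr
    intro g _
    constructor
    · exact fun hh => hh.2
    · intro hh
      exact ⟨by omega, hh⟩
  have e4 : Finset.univ.filter (fun g : G => ¬ orderOf g = 7 ∧ ¬ orderOf g = 3) =
      Finset.univ.filter (fun g : G => orderOf g ∣ 8) := by
    apply Finset.filter_congr
    intro g _
    constructor
    · rintro ⟨a, b⟩
      rcases order_cases h g with c | c | c
      exacts [absurd c a, absurd c b, c]
    · intro hh
      have := Nat.le_of_dvd (by norm_num) hh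
      constructor <;> intro hc <;> rw [hc] at hh <;> omega
  rw [e3, e4] at e2
  omega

omit [Finite G] [IsSimpleGroup G] in
theorem exists_sylow2_mem (g : G) (hg : orderOf g ∣ 8) : ∃ T : Sylow 2 G, g ∈ (T : Subgroup G) := by
  obtain ⟨k, hk, hgk⟩ := (Nat.dvd_prime_pow Nat.prime_two).mp (show orderOf g ∣ 2 ^ 3 from hg)
  have hpg : IsPGroup 2 (Subgroup.zpowers g) := by
    apply IsPGroup.of_card (n := k)
    rw [Nat.card_zpowers, hgk]
  obtain ⟨T, hT⟩ := hpg.exists_le_sylow
  exact ⟨T, hT (Subgroup.mem_zpowers g)⟩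

theorem n2 (h : Nat.card G = 168) : Nat.card (Sylow 2 G) = 21 := by
  classical
  have hG : Nat.card G = 2 ^ 3 * 21 := by norm_num [h]
  have hdvd : Nat.card (Sylow 2 G) ∣ 21 := card_sylow_dvd_of_card_eq hG (by norm_num)
  obtain ⟨T⟩ : Nonempty (Sylow 2 G) := inferInstance
  have hne : Nat.card (Sylow 2 G) ≠ 1 := by
    refine card_sylow_ne_one_of_simple T ?_ ?_
    · show Nat.card (T : Subgroup G) ≠ 1
      rw [card2 h T]; norm_num
    · show Nat.card (T : Subgroup G) ≠ Nat.card G
      rw [card2 h T, h]; norm_num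
  have hne3 : Nat.card (Sylow 2 G) ≠ 3 := by
    intro h3
    have hidx : (Subgroup.normalizer ((T : Subgroup G) : Set G)).index = 3 :=
      T.card_eq_index_normalizer.symm.trans h3
    have := card_dvd_factorial_of_simple (Subgroup.normalizer ((T : Subgroup G) : Set G)) (by
      intro htop
      rw [htop, Subgroup.index_top] at hidx
      omega)
    rw [hidx, h] at this
    norm_num [Nat.factorial] at this
  have hne7 : Nat.card (Sylow 2 G) ≠ 7 := by
    intro h7
    have : Fintype (Sylow 2 G) := Fintype.ofFinite _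
    let f : (Σ T : Sylow 2 G, (T : Subgroup G)) → {g : G // orderOf g ∣ 8} :=
      fun a => ⟨a.2.1, (card2 h a.1) ▸ Subgroup.orderOf_dvd_natCard _ a.2.2⟩
    have hsurj : Function.Surjective f := by
      rintro ⟨g, hg⟩
      obtain ⟨T, hT⟩ := exists_sylow2_mem g hg
      exact ⟨⟨T, ⟨g, hT⟩⟩, rfl⟩
    have hle := Nat.card_le_card_of_surjective f hsurj
    rw [card_two_elts h, Nat.card_sigma] at hle
    simp only [card2 h, Finset.sum_const, Finset.card_univ, smul_eq_mul,
      ← Nat.card_eq_fintype_card, h7] at hle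
    omega
  have hle := Nat.le_of_dvd (by norm_num) hdvd
  generalize Nat.card (Sylow 2 G) = n at *
  interval_cases n <;> omega

theorem cardN2 (h : Nat.card G = 168) (T : Sylow 2 G) :
    Nat.card (Subgroup.normalizer ((T : Subgroup G) : Set G)) = 8 := by
  have := card_sylow_mul_card_normalizer T
  rw [n2 h, h] at this
  omega

theorem normalizer_eq (h : Nat.card G = 168) (T : Sylow 2 G) :
    Subgroup.normalizer ((T : Subgroup G) : Set G) = T :=
  (Subgroup.eq_of_le_of_card_ge Subgroup.le_normalizer (by rw [cardN2 h T, card2 h T])).symm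

theorem not_comm (h : Nat.card G = 168) (T : Sylow 2 G) :
    ∃ a b : G, a ∈ (T : Subgroup G) ∧ b ∈ (T : Subgroup G) ∧ a * b ≠ b * a := by
  by_contra hcon
  push Not at hcon
  have hTC : (T : Subgroup G) ≤ Subgroup.centralizer ((T : Subgroup G) : Set G) := by
    intro a ha
    rw [Subgroup.mem_centralizer_iff]
    intro b hb
    exact hcon b a hb ha
  refine false_of_simple_of_normalizer_le_centralizer T ?_ ?_ ?_
  · rw [normalizer_eq h T]
    exact hTC
  · show Nat.card (T : Subgroup G) ≠ 1
    rw [card2 h T]; norm_num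
  · show Nat.card (T : Subgroup G) ≠ Nat.card G
    rw [card2 h T, h]; norm_num

/-- the centralizer of a non-identity 2-element is a 2-group -/
theorem card_cent_two_elt (h : Nat.card G = 168) (u : G) (hu : u ≠ 1) (hu8 : orderOf u ∣ 8) :
    Nat.card (Subgroup.centralizer ({u} : Set G)) ∣ 8 := by
  set C := Subgroup.centralizer ({u} : Set G) with hC
  have hdvd : Nat.card C ∣ 168 := h ▸ Subgroup.card_subgroup_dvd_card C
  have key : ∀ p : ℕ, p.Prime →
      (∀ x : G, orderOf x = p → Subgroup.centralizer {x} = Subgroup.zpowers x) →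
      Nat.Coprime p 8 → ¬ p ∣ Nat.card C := by
    intro p hp hc hcop hpd
    haveI : Fact p.Prime := ⟨hp⟩
    obtain ⟨y, hy⟩ := exists_prime_orderOf_dvd_card' p hpd
    have hy' : orderOf (y : G) = p := by
      rw [Subgroup.orderOf_coe]; exact hy
    have huy : u ∈ Subgroup.centralizer {(y : G)} := by
      rw [Subgroup.mem_centralizer_iff]
      intro z hz
      rw [Set.mem_singleton_iff] at hz
      subst hz
      have hyC : (y : G) ∈ Subgroup.centralizer ({u} : Set G) := y.2
      rw [Subgroup.mem_centralizer_iff] at hyC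
      exact (hyC u rfl).symm
    rw [hc _ hy'] at huy
    have h1 := Subgroup.orderOf_dvd_natCard _ huy
    rw [Nat.card_zpowers, hy'] at h1
    have h2 : orderOf u ∣ Nat.gcd p 8 := Nat.dvd_gcd h1 hu8
    rw [hcop] at h2
    exact hu (orderOf_eq_one_iff.mp (Nat.dvd_one.mp h2))
  have h7 := key 7 (by norm_num) (cent7 h) (by norm_num)
  have h3 := key 3 (by norm_num) (cent3 h) (by norm_num)
  have hcop : Nat.Coprime (Nat.card C) 21 := by
    have : (21 : ℕ) = 3 * 7 := by norm_num
    rw [this]
    exact Nat.Coprime.mul_right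
      (Nat.Coprime.symm ((Nat.Prime.coprime_iff_not_dvd (by norm_num)).mpr h3))
      (Nat.Coprime.symm ((Nat.Prime.coprime_iff_not_dvd (by norm_num)).mpr h7))
  have h168 : Nat.card C ∣ 8 * 21 := by norm_num; exact hdvd
  exact hcop.dvd_of_dvd_mul_right h168

theorem exists_two_invol (h : Nat.card G = 168) (T : Sylow 2 G) :
    ∃ s t : G, s ∈ (T : Subgroup G) ∧ t ∈ (T : Subgroup G) ∧ orderOf s = 2 ∧ orderOf t = 2 ∧ s ≠ t := by
  by_contra hcon
  push Not at hcon
  have H : ∀ (P : Sylow 2 G) (s t : G), s ∈ (P : Subgroup G) → t ∈ (P : Subgroup G) →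
      orderOf s = 2 → orderOf t = 2 → s = t := by
    intro P s t hs ht hs2 ht2
    obtain ⟨g, rfl⟩ := MulAction.exists_smul_eq G T P
    replace hs := (mem_smul_sylow_iff T g s).mp hs
    replace ht := (mem_smul_sylow_iff T g t).mp ht
    have e1 : orderOf (g⁻¹ * s * g) = 2 := by
      have := orderOf_conj' g⁻¹ s
      rw [inv_inv] at this
      rw [this, hs2]
    have e2 : orderOf (g⁻¹ * t * g) = 2 := by
      have := orderOf_conj' g⁻¹ t
      rw [inv_inv] at this
      rw [this, ht2]
    have := hcon _ _ hs ht e1 e2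
    exact mul_left_cancel (mul_right_cancel this)
  have HC : ∀ (P : Sylow 2 G) (w : G), w ∈ (P : Subgroup G) → orderOf w = 2 →
      Subgroup.centralizer {w} = (P : Subgroup G) := by
    intro P w hw hw2
    have hw1 : w ≠ 1 := ne_one_of_orderOf_prime Nat.prime_two hw2
    have hPC : (P : Subgroup G) ≤ Subgroup.centralizer {w} := by
      intro t ht
      rw [Subgroup.mem_centralizer_iff]
      intro y hy
      rw [Set.mem_singleton_iff] at hy
      subst hy
      have h1 : t * y * t⁻¹ ∈ (P : Subgroup G) :=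
        Subgroup.mul_mem _ (Subgroup.mul_mem _ ht hw) (Subgroup.inv_mem _ ht)
      have h2 : orderOf (t * y * t⁻¹) = 2 := by rw [orderOf_conj', hw2]
      have h3 := H P _ _ h1 hw h2 hw2
      calc y * t = (t * y * t⁻¹) * t := by rw [h3]
        _ = t * y := by group
    have hcard := card_cent_two_elt h w hw1 (by rw [hw2]; norm_num)
    exact (Subgroup.eq_of_le_of_card_ge hPC (by
      rw [card2 h P]; exact Nat.le_of_dvd (by norm_num) hcard)).symm
  have hTI : ∀ (P Q : Sylow 2 G) (x : G), x ∈ (P : Subgroup G) → x ∈ (Q : Subgroup G) →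
      x ≠ 1 → P = Q := by
    intro P Q x hxP hxQ hx1
    have hx8 : orderOf x ∣ 8 := (card2 h P) ▸ Subgroup.orderOf_dvd_natCard _ hxP
    have hx2 : 2 ∣ orderOf x := by
      obtain ⟨k, hk, hxk⟩ := (Nat.dvd_prime_pow Nat.prime_two).mp (show orderOf x ∣ 2 ^ 3 from hx8)
      rcases k with _ | k
      · rw [pow_zero, orderOf_eq_one_iff] at hxk
        exact absurd hxk hx1
      · rw [hxk, pow_succ]
        exact dvd_mul_left 2 _
    obtain ⟨k, hk⟩ := hx2
    have hk0 : k ≠ 0 := by
      rintro rfl
      have := orderOf_pos x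
      omega
    have hw2 : orderOf (x ^ k) = 2 := by
      rw [orderOf_pow_of_dvd hk0 (Dvd.intro_left 2 hk.symm), hk]
      exact Nat.mul_div_cancel _ (Nat.pos_of_ne_zero hk0)
    have e1 := HC P (x ^ k) (Subgroup.pow_mem _ hxP k) hw2
    have e2 := HC Q (x ^ k) (Subgroup.pow_mem _ hxQ k) hw2
    exact Sylow.ext (e1.symm.trans e2)
  have hcount := card_sylow_TI 8 (card2 h) hTI
  rw [n2 h] at hcount
  let f : {g : G // g ≠ 1 ∧ ∃ P : Sylow 2 G, g ∈ (P : Subgroup G)} → {g : G // orderOf g ∣ 8} :=
    fun a => ⟨a.1, by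
      obtain ⟨P, hP⟩ := a.2.2
      exact (card2 h P) ▸ Subgroup.orderOf_dvd_natCard _ hP⟩
  have hf : Function.Injective f := fun a b hab => by
    have hv := congrArg Subtype.val hab
    exact Subtype.ext hv
  have hle := Nat.card_le_card_of_injective f hf
  rw [hcount, card_two_elts h] at hle
  omega

end

/-- A non-abelian group of order 8 with two distinct involutions is dihedral. -/
theorem dihedral_of_card_eight {T : Type*} [Group T] [Finite T] (hcard : Nat.card T = 8)
    (hnc : ∃ a b : T, a * b ≠ b * a) (s t : T) (hs : orderOf s = 2) (ht : orderOf t = 2)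
    (hst : s ≠ t) : Nonempty (T ≃* DihedralGroup 4) := by
  have hord : ∀ g : T, orderOf g ∣ 8 := fun g => hcard ▸ orderOf_dvd_natCard g
  have h8 : ∀ g : T, orderOf g ≠ 8 := by
    intro g hg
    have hcyc : IsCyclic T := isCyclic_of_orderOf_eq_card g (by rw [hg, hcard])
    obtain ⟨a, b, hab⟩ := hnc
    have hcomm : IsMulCommutative T := IsCyclic.isMulCommutative
    exact hab (hcomm.is_comm.comm a b)
  have hex4 : ∃ g : T, orderOf g = 4 := by
    by_contra hno
    push Not at hno
    have hsq : ∀ g : T, g * g = 1 := by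
      intro g
      have h1 := hord g
      have hle := Nat.le_of_dvd (by norm_num) h1
      have hpos := orderOf_pos g
      have hcases : orderOf g = 1 ∨ orderOf g = 2 := by
        have h4 := hno g
        have h8' := h8 g
        generalize orderOf g = n at *
        interval_cases n <;> omega
      rw [← pow_two]
      rcases hcases with hc | hc
      · rw [orderOf_eq_one_iff.mp hc, one_pow]
      · rw [← hc, pow_orderOf_eq_one]
    obtain ⟨a, b, hab⟩ := hnc
    apply hab
    have ha : a⁻¹ = a := inv_eq_of_mul_eq_one_right (hsq a)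
    have hb : b⁻¹ = b := inv_eq_of_mul_eq_one_right (hsq b)
    have hab' : (a * b)⁻¹ = a * b := inv_eq_of_mul_eq_one_right (hsq (a * b))
    rw [mul_inv_rev, ha, hb] at hab'
    exact hab'.symm
  obtain ⟨g, hg⟩ := hex4
  obtain ⟨a, ha2, hag⟩ : ∃ a : T, orderOf a = 2 ∧ a ≠ g ^ 2 := by
    by_cases hsg : s = g ^ 2
    · exact ⟨t, ht, fun htg => hst (hsg.trans htg.symm)⟩
    · exact ⟨s, hs, hsg⟩
  have ha1 : a ≠ 1 := ne_one_of_orderOf_prime Nat.prime_two ha2
  have haa : a * a = 1 := by rw [← pow_two, ← ha2, pow_orderOf_eq_one]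
  have hainv : a⁻¹ = a := inv_eq_of_mul_eq_one_right haa
  have hg4 : g ^ 4 = 1 := by rw [← hg, pow_orderOf_eq_one]
  -- membership in zpowers g
  have hmem : ∀ y : T, y ∈ Subgroup.zpowers g → y = 1 ∨ y = g ∨ y = g ^ 2 ∨ y = g ^ 3 := by
    intro y hy
    obtain ⟨k, hk⟩ := (isOfFinOrder_of_finite g).mem_powers_iff_mem_zpowers.mpr hy
    have hk' : g ^ (k % 4) = y := by
      rw [← hk, ← hg, pow_mod_orderOf]
    have : k % 4 < 4 := Nat.mod_lt _ (by norm_num)
    generalize k % 4 = j at *
    interval_cases j
    · left; rw [← hk', pow_zero]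
    · right; left; rw [← hk', pow_one]
    · right; right; left; exact hk'.symm
    · right; right; right; exact hk'.symm
  have hg3 : orderOf (g ^ 3) = 4 := by
    rw [Nat.Coprime.orderOf_pow (by rw [hg]; norm_num), hg]
  have hg2 : orderOf (g ^ 2) = 2 := by
    rw [orderOf_pow_of_dvd (by norm_num) (by rw [hg]; norm_num), hg]
  have hanot : a ∉ Subgroup.zpowers g := by
    intro hm
    rcases hmem a hm with h1 | h1 | h1 | h1
    · exact ha1 h1
    · rw [h1, hg] at ha2; omega
    · exact hag h1
    · rw [h1, hg3] at ha2; omega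
  have hcardH : Nat.card (Subgroup.zpowers g) = 4 := by rw [Nat.card_zpowers, hg]
  have big : ∀ K : Subgroup T, Subgroup.zpowers g ≤ K → a ∈ K → K = ⊤ := by
    intro K hHK haK
    have h1 : Nat.card K ∣ 8 := hcard ▸ Subgroup.card_subgroup_dvd_card K
    have h2 : 4 ∣ Nat.card K := hcardH ▸ Subgroup.card_dvd_of_le hHK
    have h3 : Nat.card K ≠ 4 := by
      intro h4
      have : Subgroup.zpowers g = K := Subgroup.eq_of_le_of_card_ge hHK (by rw [h4, hcardH])
      exact hanot (this ▸ haK)
    have hle := Nat.le_of_dvd (by norm_num) h1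
    have h4 : Nat.card K = 8 := by
      generalize Nat.card K = n at *
      interval_cases n <;> omega
    exact Subgroup.eq_top_of_card_eq K (by rw [h4, hcard])
  have hnormal : (Subgroup.zpowers g).Normal := by
    apply Subgroup.normal_of_index_eq_two
    have := (Subgroup.zpowers g).card_mul_index
    rw [hcardH, hcard] at this
    omega
  have hconj : a * g * a⁻¹ ∈ Subgroup.zpowers g := hnormal.conj_mem g (Subgroup.mem_zpowers g) a
  have hconj4 : orderOf (a * g * a⁻¹) = 4 := by rw [orderOf_conj', hg]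
  rcases hmem _ hconj with h1 | h1 | h1 | h1
  · rw [h1, orderOf_one] at hconj4; omega
  · -- a commutes with g: contradiction
    exfalso
    have hcom : a * g = g * a := by
      calc a * g = (a * g * a⁻¹) * a := by group
        _ = g * a := by rw [h1]
    have hCg : Subgroup.centralizer ({g} : Set T) = ⊤ := by
      apply big
      · rw [Subgroup.zpowers_le, Subgroup.mem_centralizer_iff]
        intro y hy
        rw [Set.mem_singleton_iff] at hy
        rw [hy]
      · rw [Subgroup.mem_centralizer_iff]
        intro y hy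
        rw [Set.mem_singleton_iff] at hy
        rw [hy]
        exact hcom.symm
    have hCa : Subgroup.centralizer ({a} : Set T) = ⊤ := by
      apply big
      · rw [Subgroup.zpowers_le, Subgroup.mem_centralizer_iff]
        intro y hy
        rw [Set.mem_singleton_iff] at hy
        rw [hy]
        exact hcom
      · rw [Subgroup.mem_centralizer_iff]
        intro y hy
        rw [Set.mem_singleton_iff] at hy
        rw [hy]
    have hZ : Subgroup.center T = ⊤ := by
      apply big
      · rw [Subgroup.zpowers_le, Subgroup.mem_center_iff]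
        intro x
        have : x ∈ Subgroup.centralizer ({g} : Set T) := by rw [hCg]; exact Subgroup.mem_top x
        rw [Subgroup.mem_centralizer_iff] at this
        exact (this g rfl).symm
      · rw [Subgroup.mem_center_iff]
        intro x
        have : x ∈ Subgroup.centralizer ({a} : Set T) := by rw [hCa]; exact Subgroup.mem_top x
        rw [Subgroup.mem_centralizer_iff] at this
        exact (this a rfl).symm
    obtain ⟨x, y, hxy⟩ := hnc
    have hy : y ∈ Subgroup.center T := by rw [hZ]; exact Subgroup.mem_top y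
    rw [Subgroup.mem_center_iff] at hy
    exact hxy (hy x)
  · rw [h1, hg2] at hconj4; omega
  · -- a g a⁻¹ = g³ = g⁻¹
    have hinv : g ^ 3 = g⁻¹ := by
      apply eq_inv_of_mul_eq_one_left
      rw [← pow_succ]
      exact hg4
    have hag2 : (a * g) ^ 2 = 1 := by
      rw [pow_two]
      calc a * g * (a * g) = (a * g * a⁻¹) * g := by rw [hainv]; group
        _ = 1 := by rw [h1, hinv]; group
    have hag1 : a * g ≠ 1 := by
      intro h0
      have : g = a := by
        have := eq_inv_of_mul_eq_one_right h0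
        rw [this, hainv]
      rw [this, ha2] at hg
      omega
    have hago : orderOf (a * g) = 2 := orderOf_eq_prime hag2 hag1
    refine Cfsg.Agent.Lib.Helper5.DihedralRecog.dihedral_of_involutions 4 (by rw [hcard]) a (a * g) ha2 hago ?_ ?_
    · intro h0
      have : g = 1 := by
        have := mul_left_cancel (a := a) (b := 1) (c := g) (by rw [mul_one]; exact h0)
        exact this.symm
      rw [this, orderOf_one] at hg
      omega
    · rw [← mul_assoc, haa, one_mul, hg]

section
variable {G : Type*} [Group G] [Finite G] [IsSimpleGroup G]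

theorem dihedral (h : Nat.card G = 168) (T : Sylow 2 G) :
    Nonempty (↥(T : Subgroup G) ≃* DihedralGroup 4) := by
  obtain ⟨a, b, ha, hb, hab⟩ := not_comm h T
  obtain ⟨s, t, hs, ht, hs2, ht2, hst⟩ := exists_two_invol h T
  refine dihedral_of_card_eight (card2 h T) ⟨⟨a, ha⟩, ⟨b, hb⟩, ?_⟩ ⟨s, hs⟩ ⟨t, ht⟩ ?_ ?_ ?_
  · intro hc
    exact hab (congrArg Subtype.val hc)
  · exact (Subgroup.orderOf_mk s hs).trans hs2
  · exact (Subgroup.orderOf_mk t ht).trans ht2
  · intro hc
    exact hst (congrArg Subtype.val hc)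

end

end Cfsg.Agent.Lead.Simple168
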