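import Mathlib
import Cfsg.Agent.Lib.Lead.Simple168A

set_option autoImplicit false

namespace Cfsg.Agent.Lead.Simple168

theorem D4_pow_four : ∀ g : DihedralGroup 4, g ^ 4 = 1 := by decide
theorem D4_sq_central : ∀ g h : DihedralGroup 4, h * g ^ 2 = g ^ 2 * h := by decide
theorem D4_not_central : ∀ a : DihedralGroup 4, a ^ 2 ≠ 1 → ∃ c, c * a ≠ a * c := by decide
theorem D4_center : ∃ z : DihedralGroup 4, z ≠ 1 ∧ z ^ 2 = 1 ∧ ∀ g, g * z = z * g := by decide
theorem D4_exists_four : ∃ a : DihedralGroup 4, a ^ 2 ≠ 1 := by decide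

/-- class size times centralizer order is the group order -/
theorem card_conj_class {G : Type*} [Group G] [Finite G] (u : G) :
    Nat.card {g : G // IsConj u g} * Nat.card (Subgroup.centralizer ({u} : Set G)) = Nat.card G := by
  classical
  have : Fintype {g : G // IsConj u g} := Fintype.ofFinite _
  let φ : G → {g : G // IsConj u g} := fun c => ⟨c * u * c⁻¹, isConj_iff.mpr ⟨c, rfl⟩⟩
  have hfib : ∀ y : {g : G // IsConj u g},
      Nat.card {c : G // φ c = y} = Nat.card (Subgroup.centralizer ({u} : Set G)) := by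
    rintro ⟨y, hy⟩
    obtain ⟨c0, hc0⟩ := isConj_iff.mp hy
    apply Nat.card_congr
    refine ⟨fun c => ⟨c0⁻¹ * c.1, ?_⟩, fun z => ⟨c0 * z.1, ?_⟩, ?_, ?_⟩
    · have hc : c.1 * u * c.1⁻¹ = y := congrArg Subtype.val c.2
      rw [Subgroup.mem_centralizer_iff]
      intro w hw
      rw [Set.mem_singleton_iff] at hw
      subst hw
      have h1 : c.1 * w * c.1⁻¹ = c0 * w * c0⁻¹ := hc.trans hc0.symm
      calc w * (c0⁻¹ * c.1) = c0⁻¹ * (c0 * w * c0⁻¹) * c.1 := by group
        _ = c0⁻¹ * (c.1 * w * c.1⁻¹) * c.1 := by rw [h1]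
        _ = c0⁻¹ * c.1 * w := by group
    · apply Subtype.ext
      show c0 * z.1 * u * (c0 * z.1)⁻¹ = y
      have hz := z.2
      rw [Subgroup.mem_centralizer_iff] at hz
      have hz' : u * z.1 = z.1 * u := hz u rfl
      rw [← hc0]
      calc c0 * z.1 * u * (c0 * z.1)⁻¹ = c0 * (z.1 * u) * z.1⁻¹ * c0⁻¹ := by group
        _ = c0 * (u * z.1) * z.1⁻¹ * c0⁻¹ := by rw [hz']
        _ = c0 * u * c0⁻¹ := by group
    · intro c
      apply Subtype.ext
      simp
    · intro z
      apply Subtype.ext
      simp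
  rw [← Nat.card_congr (Equiv.sigmaFiberEquiv φ), Nat.card_sigma]
  simp only [hfib, Finset.sum_const, Finset.card_univ, smul_eq_mul, Nat.card_eq_fintype_card]

theorem orderOf_eq_of_isConj {G : Type*} [Group G] {u g : G} (hg : IsConj u g) :
    orderOf g = orderOf u := by
  obtain ⟨c, hc⟩ := isConj_iff.mp hg
  rw [← hc, orderOf_conj']

theorem all_conj_of_card {G : Type*} [Group G] [Finite G] (u : G) (k : ℕ) (hk : orderOf u = k)
    (hcard : Nat.card {g : G // orderOf g = k} ≤ Nat.card {g : G // IsConj u g}) :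
    ∀ s : G, orderOf s = k → IsConj u s := by
  let f : {g : G // IsConj u g} → {g : G // orderOf g = k} :=
    fun g => ⟨g.1, (orderOf_eq_of_isConj g.2).trans hk⟩
  have hf : Function.Injective f := fun a b hab => by
    have hv := congrArg Subtype.val hab
    exact Subtype.ext hv
  have hbij := hf.bijective_of_nat_card_le hcard
  intro s hs
  obtain ⟨a, ha⟩ := hbij.2 ⟨s, hs⟩
  have : (a : G) = s := congrArg Subtype.val ha
  rw [← this]
  exact a.2

theorem card_le_of_class {G : Type*} [Group G] [Finite G] (u : G) (k : ℕ) (hk : orderOf u = k) :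
    Nat.card {g : G // IsConj u g} ≤ Nat.card {g : G // orderOf g = k} := by
  let f : {g : G // IsConj u g} → {g : G // orderOf g = k} :=
    fun g => ⟨g.1, (orderOf_eq_of_isConj g.2).trans hk⟩
  have hf : Function.Injective f := fun a b hab => by
    have hv := congrArg Subtype.val hab
    exact Subtype.ext hv
  exact Nat.card_le_card_of_injective f hf

section
variable {G : Type*} [Group G] [Finite G] [IsSimpleGroup G]

theorem pow_four (h : Nat.card G = 168) (g : G) (hg : orderOf g ∣ 8) : g ^ 4 = 1 := by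
  obtain ⟨T, hT⟩ := exists_sylow2_mem g hg
  obtain ⟨e⟩ := dihedral h T
  have h1 := D4_pow_four (e ⟨g, hT⟩)
  rw [← map_pow, ← map_one e] at h1
  have h2 := e.injective h1
  simpa using congrArg Subtype.val h2

theorem order_cases5 (h : Nat.card G = 168) (g : G) :
    orderOf g = 1 ∨ orderOf g = 2 ∨ orderOf g = 3 ∨ orderOf g = 4 ∨ orderOf g = 7 := by
  rcases order_cases h g with h7 | h3 | h8
  · right; right; right; right; exact h7
  · right; right; left; exact h3
  · have h4 : orderOf g ∣ 4 := orderOf_dvd_of_pow_eq_one (pow_four h g h8)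
    have hle := Nat.le_of_dvd (by norm_num) h4
    have hpos := orderOf_pos g
    generalize orderOf g = n at *
    interval_cases n <;> omega

theorem cent_eq_of_central (h : Nat.card G = 168) (T : Sylow 2 G) (z : G)
    (hz : z ∈ (T : Subgroup G)) (hz1 : z ≠ 1)
    (hcomm : ∀ t ∈ (T : Subgroup G), t * z = z * t) :
    Subgroup.centralizer ({z} : Set G) = (T : Subgroup G) := by
  have hz8 : orderOf z ∣ 8 := (card2 h T) ▸ Subgroup.orderOf_dvd_natCard _ hz
  have hcard := card_cent_two_elt h z hz1 hz8
  have hle : (T : Subgroup G) ≤ Subgroup.centralizer ({z} : Set G) := by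
    intro t ht
    rw [Subgroup.mem_centralizer_iff]
    intro y hy
    rw [Set.mem_singleton_iff] at hy
    subst hy
    exact (hcomm t ht).symm
  exact (Subgroup.eq_of_le_of_card_ge hle (by
    rw [card2 h T]; exact Nat.le_of_dvd (by norm_num) hcard)).symm

theorem exists_central_invol (h : Nat.card G = 168) (T : Sylow 2 G) :
    ∃ z : G, z ∈ (T : Subgroup G) ∧ orderOf z = 2 ∧ ∀ t ∈ (T : Subgroup G), t * z = z * t := by
  obtain ⟨e⟩ := dihedral h T
  obtain ⟨z0, hz01, hz02, hz0c⟩ := D4_center
  refine ⟨(e.symm z0 : G), (e.symm z0).2, ?_, ?_⟩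
  · apply orderOf_eq_prime
    · have h1 : (e.symm z0) ^ 2 = 1 := by rw [← map_pow, hz02, map_one]
      simpa using congrArg Subtype.val h1
    · intro h0
      have h1 : e.symm z0 = 1 := Subtype.ext h0
      rw [← map_one e.symm] at h1
      exact hz01 (e.symm.injective h1)
  · intro t ht
    have h1 : (⟨t, ht⟩ : (T : Subgroup G)) * e.symm z0 = e.symm z0 * ⟨t, ht⟩ := by
      apply e.injective
      rw [map_mul, map_mul, e.apply_symm_apply]
      exact hz0c _
    simpa using congrArg Subtype.val h1

theorem exists_order_four (h : Nat.card G = 168) (T : Sylow 2 G) :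
    ∃ u : G, u ∈ (T : Subgroup G) ∧ orderOf u = 4 := by
  obtain ⟨e⟩ := dihedral h T
  obtain ⟨a, ha⟩ := D4_exists_four
  refine ⟨(e.symm a : G), (e.symm a).2, ?_⟩
  have h4 : (e.symm a : G) ^ 4 = 1 := by
    have h1 : (e.symm a) ^ 4 = 1 := by rw [← map_pow, D4_pow_four, map_one]
    simpa using congrArg Subtype.val h1
  have h2 : (e.symm a : G) ^ 2 ≠ 1 := by
    intro h0
    have h1 : (e.symm a) ^ 2 = 1 := Subtype.ext (by simpa using h0)
    rw [← map_pow, ← map_one e.symm] at h1
    exact ha (e.symm.injective h1)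
  have hd : orderOf (e.symm a : G) ∣ 4 := orderOf_dvd_of_pow_eq_one h4
  have hnd : ¬ orderOf (e.symm a : G) ∣ 2 := fun hh => h2 (orderOf_dvd_iff_pow_eq_one.mp hh)
  have hle := Nat.le_of_dvd (by norm_num) hd
  have hpos := orderOf_pos (e.symm a : G)
  generalize orderOf (e.symm a : G) = n at *
  interval_cases n <;> omega

theorem sq_central (h : Nat.card G = 168) (T : Sylow 2 G) (u t : G) (hu : u ∈ (T : Subgroup G))
    (ht : t ∈ (T : Subgroup G)) : t * u ^ 2 = u ^ 2 * t := by
  obtain ⟨e⟩ := dihedral h T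
  have h1 := D4_sq_central (e ⟨u, hu⟩) (e ⟨t, ht⟩)
  rw [← map_pow, ← map_mul, ← map_mul] at h1
  have h2 := e.injective h1
  simpa using congrArg Subtype.val h2

theorem cent_sq (h : Nat.card G = 168) (T : Sylow 2 G) (u : G) (hu : u ∈ (T : Subgroup G))
    (hu4 : orderOf u = 4) : Subgroup.centralizer ({u ^ 2} : Set G) = (T : Subgroup G) := by
  have hu2 : u ^ 2 ≠ 1 := fun h0 => by
    have := orderOf_dvd_of_pow_eq_one h0
    rw [hu4] at this
    omega
  exact cent_eq_of_central h T (u ^ 2) (Subgroup.pow_mem _ hu 2) hu2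
    (fun t ht => sq_central h T u t hu ht)

theorem cent_le_cent_sq {G : Type*} [Group G] (u : G) :
    Subgroup.centralizer ({u} : Set G) ≤ Subgroup.centralizer ({u ^ 2} : Set G) := by
  intro c hc
  rw [Subgroup.mem_centralizer_iff] at hc ⊢
  intro y hy
  rw [Set.mem_singleton_iff] at hy
  subst hy
  have hcu : u * c = c * u := hc u rfl
  rw [pow_two, mul_assoc, hcu, ← mul_assoc, hcu, mul_assoc]

theorem card_cent4 (h : Nat.card G = 168) (u : G) (hu : orderOf u = 4) :
    Nat.card (Subgroup.centralizer ({u} : Set G)) = 4 := by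
  have hu8 : orderOf u ∣ 8 := by rw [hu]; norm_num
  obtain ⟨T, hT⟩ := exists_sylow2_mem u hu8
  obtain ⟨e⟩ := dihedral h T
  have hu2 : u ^ 2 ≠ 1 := fun h0 => by
    have := orderOf_dvd_of_pow_eq_one h0
    rw [hu] at this
    omega
  have hCz := cent_sq h T u hT hu
  have hle : Subgroup.centralizer ({u} : Set G) ≤ (T : Subgroup G) := by
    rw [← hCz]
    exact cent_le_cent_sq u
  have h1 : Nat.card (Subgroup.centralizer ({u} : Set G)) ∣ 8 :=
    (card2 h T) ▸ Subgroup.card_dvd_of_le hle
  have h2 : 4 ∣ Nat.card (Subgroup.centralizer ({u} : Set G)) := by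
    have h3 : Subgroup.zpowers u ≤ Subgroup.centralizer ({u} : Set G) := by
      rw [Subgroup.zpowers_le, Subgroup.mem_centralizer_iff]
      intro y hy
      rw [Set.mem_singleton_iff] at hy
      rw [hy]
    have := Subgroup.card_dvd_of_le h3
    rwa [Nat.card_zpowers, hu] at this
  have h3 : Nat.card (Subgroup.centralizer ({u} : Set G)) ≠ 8 := by
    intro h8
    have hCT : Subgroup.centralizer ({u} : Set G) = (T : Subgroup G) :=
      Subgroup.eq_of_le_of_card_ge hle (by rw [h8, card2 h T])
    obtain ⟨c, hc⟩ := D4_not_central (e ⟨u, hT⟩) (by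
      intro h0
      rw [← map_pow, ← map_one e] at h0
      have := congrArg Subtype.val (e.injective h0)
      exact hu2 (by simpa using this))
    apply hc
    have hmem : ((e.symm c : (T : Subgroup G)) : G) ∈ Subgroup.centralizer ({u} : Set G) := by
      rw [hCT]; exact (e.symm c).2
    rw [Subgroup.mem_centralizer_iff] at hmem
    have h5 : u * (e.symm c : G) = (e.symm c : G) * u := hmem u rfl
    have h6 : (⟨u, hT⟩ : (T : Subgroup G)) * e.symm c = e.symm c * ⟨u, hT⟩ := Subtype.ext h5
    have h7 := congrArg e h6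
    rw [map_mul, map_mul, e.apply_symm_apply] at h7
    exact h7.symm
  have hle' := Nat.le_of_dvd (by norm_num) h1
  generalize Nat.card (Subgroup.centralizer ({u} : Set G)) = n at *
  interval_cases n <;> omega

theorem card_two_four (h : Nat.card G = 168) :
    Nat.card {g : G // orderOf g = 2} + Nat.card {g : G // orderOf g = 4} = 63 := by
  classical
  have : Fintype G := Fintype.ofFinite G
  have h64 := card_two_elts h
  simp only [Nat.card_eq_fintype_card, Fintype.card_subtype] at h64 ⊢
  have hmaps : ∀ g ∈ Finset.univ.filter (fun g : G => orderOf g ∣ 8),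
      orderOf g ∈ ({1, 2, 4} : Finset ℕ) := by
    intro g hg
    rw [Finset.mem_filter] at hg
    have h4 : orderOf g ∣ 4 := orderOf_dvd_of_pow_eq_one (pow_four h g hg.2)
    have hle := Nat.le_of_dvd (by norm_num) h4
    have hpos := orderOf_pos g
    generalize orderOf g = n at *
    interval_cases n <;> simp_all
  have hsum := Finset.card_eq_sum_card_fiberwise hmaps
  rw [Finset.sum_insert (by decide), Finset.sum_insert (by decide), Finset.sum_singleton] at hsum
  simp only [Finset.filter_filter] at hsum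
  have f1 : Finset.univ.filter (fun g : G => orderOf g ∣ 8 ∧ orderOf g = 1) = {1} := by
    ext g
    simp only [Finset.mem_filter, Finset.mem_univ, true_and, Finset.mem_singleton,
      orderOf_eq_one_iff]
    constructor
    · exact fun hh => hh.2
    · rintro rfl
      simp
  have f2 : Finset.univ.filter (fun g : G => orderOf g ∣ 8 ∧ orderOf g = 2) =
      Finset.univ.filter (fun g : G => orderOf g = 2) := by
    apply Finset.filter_congr
    intro g _
    constructor
    · exact fun hh => hh.2
    · intro hh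
      exact ⟨by rw [hh]; norm_num, hh⟩
  have f4 : Finset.univ.filter (fun g : G => orderOf g ∣ 8 ∧ orderOf g = 4) =
      Finset.univ.filter (fun g : G => orderOf g = 4) := by
    apply Finset.filter_congr
    intro g _
    constructor
    · exact fun hh => hh.2
    · intro hh
      exact ⟨by rw [hh]; norm_num, hh⟩
  rw [f1, f2, f4, Finset.card_singleton] at hsum
  omega

theorem counts (h : Nat.card G = 168) :
    Nat.card {g : G // orderOf g = 2} = 21 ∧ Nat.card {g : G // orderOf g = 4} = 42 ∧
    (∀ s t : G, orderOf s = 2 → orderOf t = 2 → IsConj s t) ∧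
    (∀ s t : G, orderOf s = 4 → orderOf t = 4 → IsConj s t) := by
  obtain ⟨T⟩ : Nonempty (Sylow 2 G) := inferInstance
  obtain ⟨z, hzT, hz2, hzc⟩ := exists_central_invol h T
  obtain ⟨u, huT, hu4⟩ := exists_order_four h T
  have hz1 : z ≠ 1 := ne_one_of_orderOf_prime Nat.prime_two hz2
  have hCz : Nat.card (Subgroup.centralizer ({z} : Set G)) = 8 := by
    rw [cent_eq_of_central h T z hzT hz1 hzc, card2 h T]
  have hCu := card_cent4 h u hu4
  have c1 := card_conj_class z
  have c2 := card_conj_class u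
  rw [hCz, h] at c1
  rw [hCu, h] at c2
  have l1 := card_le_of_class z 2 hz2
  have l2 := card_le_of_class u 4 hu4
  have hsum := card_two_four h
  have e1 : Nat.card {g : G // orderOf g = 2} = 21 := by omega
  have e2 : Nat.card {g : G // orderOf g = 4} = 42 := by omega
  refine ⟨e1, e2, ?_, ?_⟩
  · have hall := all_conj_of_card z 2 hz2 (by omega)
    intro s t hs ht
    exact (hall s hs).symm.trans (hall t ht)
  · have hall := all_conj_of_card u 4 hu4 (by omega)
    intro s t hs ht
    exact (hall s hs).symm.trans (hall t ht)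

theorem counts3 (h : Nat.card G = 168) :
    Nat.card {g : G // orderOf g = 3} = 56 ∧
    (∀ s t : G, orderOf s = 3 → orderOf t = 3 → IsConj s t) := by
  have h3 : Nat.card {g : G // orderOf g = 3} = 56 := by
    rw [card_orderOf_eq_prime (card3 h), n3 h]
  refine ⟨h3, ?_⟩
  intro s t hs ht
  have hC : Nat.card (Subgroup.centralizer ({s} : Set G)) = 3 := by
    rw [cent3 h s hs, Nat.card_zpowers, hs]
  have c1 := card_conj_class s
  rw [hC, h] at c1
  have hall := all_conj_of_card s 3 hs (by omega)
  exact hall t ht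

theorem conj_mem_zpowers_of_inv {G : Type*} [Group G] {c x : G} (hc : c * x * c⁻¹ = x⁻¹) (y : G)
    (hy : y ∈ Subgroup.zpowers x) : c * y * c⁻¹ ∈ Subgroup.zpowers x := by
  obtain ⟨k, rfl⟩ := hy
  show c * x ^ k * c⁻¹ ∈ Subgroup.zpowers x
  rw [← conj_zpow, hc]
  exact Subgroup.zpow_mem _ (Subgroup.inv_mem _ (Subgroup.mem_zpowers x)) k

theorem counts7 (h : Nat.card G = 168) :
    Nat.card {g : G // orderOf g = 7} = 48 ∧
    ∀ x : G, orderOf x = 7 → Nat.card {g : G // IsConj x g} = 24 ∧ ¬ IsConj x x⁻¹ := by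
  have h7 : Nat.card {g : G // orderOf g = 7} = 48 := by
    rw [card_orderOf_eq_prime (card7 h), n7 h]
  refine ⟨h7, ?_⟩
  intro x hx
  have hCx := cent7 h x hx
  have hC : Nat.card (Subgroup.centralizer ({x} : Set G)) = 7 := by
    rw [hCx, Nat.card_zpowers, hx]
  have c1 := card_conj_class x
  rw [hC, h] at c1
  refine ⟨by omega, ?_⟩
  intro hconj
  obtain ⟨c, hc⟩ := isConj_iff.mp hconj
  have hx1 : x ≠ 1 := ne_one_of_orderOf_prime (by norm_num) hx
  -- the Sylow 7-subgroup generated by x
  have hpg : IsPGroup 7 (Subgroup.zpowers x) := by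
    apply IsPGroup.of_card (n := 1)
    rw [Nat.card_zpowers, hx, pow_one]
  obtain ⟨P, hle⟩ := hpg.exists_le_sylow
  have hPz : (P : Subgroup G) = Subgroup.zpowers x :=
    Cfsg.Agent.Lib.Helper4.SylowPrime.sylow_eq_zpowers P (card7 h P) x hx1 (hle (Subgroup.mem_zpowers x))
  have hc' : c * x⁻¹ * c⁻¹ = x := by
    calc c * x⁻¹ * c⁻¹ = (c * x * c⁻¹)⁻¹ := by group
      _ = x⁻¹⁻¹ := by rw [hc]
      _ = x := inv_inv x
  have hcinv : c⁻¹ * x * c⁻¹⁻¹ = x⁻¹ := by
    rw [inv_inv]
    calc c⁻¹ * x * c = c⁻¹ * (c * x⁻¹ * c⁻¹) * c := by rw [hc']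
      _ = x⁻¹ := by group
  have hcN : c ∈ Subgroup.normalizer ((P : Subgroup G) : Set G) := by
    rw [Subgroup.mem_normalizer_iff, hPz]
    intro y
    constructor
    · exact conj_mem_zpowers_of_inv hc y
    · intro hy
      have := conj_mem_zpowers_of_inv hcinv _ hy
      rw [inv_inv] at this
      have e : c⁻¹ * (c * y * c⁻¹) * c = y := by group
      rwa [e] at this
  have hc21 : c ^ 21 = 1 := by
    have := Subgroup.orderOf_dvd_natCard _ hcN
    rw [cardN7 h P] at this
    exact orderOf_dvd_iff_pow_eq_one.mp this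
  have hc2 : c ^ 2 ∈ Subgroup.zpowers x := by
    rw [← hCx, Subgroup.mem_centralizer_iff]
    intro y hy
    rw [Set.mem_singleton_iff] at hy
    subst hy
    have e1 : c * y = y⁻¹ * c := by
      calc c * y = (c * y * c⁻¹) * c := by group
        _ = y⁻¹ * c := by rw [hc]
    have e2 : c * y⁻¹ = y * c := by
      have : y * c * y = c := by
        calc y * c * y = y * (c * y) := by group
          _ = y * (y⁻¹ * c) := by rw [e1]
          _ = c := by group
      calc c * y⁻¹ = (y * c * y) * y⁻¹ := by rw [this]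
        _ = y * c := by group
    calc y * c ^ 2 = (y * c) * c := by rw [pow_two]; group
      _ = (c * y⁻¹) * c := by rw [e2]
      _ = c * (y⁻¹ * c) := by group
      _ = c * (c * y) := by rw [e1]
      _ = c ^ 2 * y := by rw [pow_two]; group
  have hcz : c ∈ Subgroup.zpowers x := by
    have e : c = (c ^ 2) ^ 11 := by
      rw [← pow_mul]
      calc c = c ^ 21 * c := by rw [hc21, one_mul]
        _ = c ^ (2 * 11) := by rw [← pow_succ]
    rw [e]
    exact Subgroup.pow_mem _ hc2 11
  have hcomm : c * x = x * c := by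
    rw [← hCx, Subgroup.mem_centralizer_iff] at hcz
    exact (hcz x rfl).symm
  have hxx : x = x⁻¹ := by
    calc x = (x * c) * c⁻¹ := by group
      _ = (c * x) * c⁻¹ := by rw [hcomm]
      _ = x⁻¹ := hc
  have hx2 : x ^ 2 = 1 := by
    rw [pow_two]
    nth_rewrite 2 [hxx]
    exact mul_inv_cancel x
  have := orderOf_dvd_of_pow_eq_one hx2
  rw [hx] at this
  omega

end

end Cfsg.Agent.Lead.Simple168
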