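import Mathlib
import Cfsg.Agent.Lib.Lead.Simple168B
import Cfsg.Agent.S1012

set_option autoImplicit false

namespace Cfsg.Agent.Lead.Simple168

open DihedralGroup

theorem D4_central_eq : ∀ x : DihedralGroup 4, (∀ t, t * x = x * t) → x = 1 ∨ x = r 2 := by decide
theorem D4_K1 : ∀ x y : DihedralGroup 4, x ^ 2 = 1 → y ^ 2 = 1 → x ≠ 1 → y ≠ 1 → x ≠ y →
    (x * y) ^ 2 = 1 → (x = r 2 ∨ y = r 2 ∨ x * y = r 2) := by decide
theorem D4_K3 : ∀ x : DihedralGroup 4, x ^ 2 = 1 → x ≠ 1 → x ≠ r 2 →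
    x = sr 0 ∨ x = sr 0 * r 2 ∨ x = sr 1 ∨ x = sr 1 * r 2 := by decide
theorem D4_K4 : ∀ t x : DihedralGroup 4, x ^ 2 = 1 → x ≠ 1 → x ≠ r 2 → t * x = x * t →
    t ^ 2 = 1 := by decide
theorem D4_K5 : ∀ x : DihedralGroup 4, x ^ 2 = 1 → x ≠ 1 → x ≠ r 2 → ∃ t, t * x ≠ x * t := by
  decide
theorem D4_K6 : (sr 0 : DihedralGroup 4) ^ 2 = 1 ∧ (sr 0 : DihedralGroup 4) ≠ 1 ∧
    (sr 0 : DihedralGroup 4) ≠ r 2 ∧ (sr 1 : DihedralGroup 4) ^ 2 = 1 ∧
    (sr 1 : DihedralGroup 4) ≠ 1 ∧ (sr 1 : DihedralGroup 4) ≠ r 2 ∧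
    (sr 0 : DihedralGroup 4) * sr 1 ≠ sr 1 * sr 0 := by decide

/-- `z` is a non-identity element of `T` commuting with all of `T` -/
def IsCen {G : Type*} [Group G] (T : Sylow 2 G) (z : G) : Prop :=
  z ∈ (T : Subgroup G) ∧ z ≠ 1 ∧ ∀ t ∈ (T : Subgroup G), t * z = z * t

theorem map_conj_eq_of_mem_normalizer {G : Type*} [Group G] (H : Subgroup G) (x : G)
    (hx : x ∈ Subgroup.normalizer (H : Set G)) : H.map (MulAut.conj x).toMonoidHom = H := by
  ext y
  rw [Subgroup.mem_map]
  constructor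
  · rintro ⟨u, hu, rfl⟩
    exact (Subgroup.mem_normalizer_iff.mp hx u).mp hu
  · intro hy
    refine ⟨x⁻¹ * y * x, ?_, ?_⟩
    · rw [Subgroup.mem_normalizer_iff.mp hx (x⁻¹ * y * x)]
      have e : x * (x⁻¹ * y * x) * x⁻¹ = y := by group
      rw [e]
      exact hy
    · show x * (x⁻¹ * y * x) * x⁻¹ = y
      group

section
variable {G : Type*} [Group G] [Finite G] [IsSimpleGroup G]

theorem cen_map {T : Sylow 2 G} (e : ↥(T : Subgroup G) ≃* DihedralGroup 4) {z : G}
    (hz : IsCen T z) : e ⟨z, hz.1⟩ = r 2 := by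
  rcases D4_central_eq (e ⟨z, hz.1⟩) (by
    intro t
    have h1 : e.symm t * ⟨z, hz.1⟩ = ⟨z, hz.1⟩ * e.symm t := Subtype.ext (hz.2.2 _ (e.symm t).2)
    have h2 := congrArg e h1
    rwa [map_mul, map_mul, e.apply_symm_apply] at h2) with h1 | h1
  · exfalso
    apply hz.2.1
    rw [← map_one e] at h1
    exact congrArg Subtype.val (e.injective h1)
  · exact h1

theorem exists_cen (h : Nat.card G = 168) (T : Sylow 2 G) : ∃ z : G, IsCen T z := by
  obtain ⟨z, hzT, hz2, hzc⟩ := exists_central_invol h T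
  exact ⟨z, hzT, ne_one_of_orderOf_prime Nat.prime_two hz2, hzc⟩

theorem cen_unique (h : Nat.card G = 168) {T : Sylow 2 G} {z z' : G} (hz : IsCen T z)
    (hz' : IsCen T z') : z = z' := by
  obtain ⟨e⟩ := dihedral h T
  have h1 := cen_map e hz
  have h2 := cen_map e hz'
  exact congrArg Subtype.val (e.injective (h1.trans h2.symm))

theorem cen_order (h : Nat.card G = 168) {T : Sylow 2 G} {z : G} (hz : IsCen T z) :
    orderOf z = 2 := by
  obtain ⟨z', hzT, hz2, hzc⟩ := exists_central_invol h T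
  have : z = z' := cen_unique h hz ⟨hzT, ne_one_of_orderOf_prime Nat.prime_two hz2, hzc⟩
  rw [this]
  exact hz2

theorem cent_cen (h : Nat.card G = 168) {T : Sylow 2 G} {z : G} (hz : IsCen T z) :
    Subgroup.centralizer ({z} : Set G) = (T : Subgroup G) :=
  cent_eq_of_central h T z hz.1 hz.2.1 hz.2.2

/-- every involution is the central involution of a Sylow 2-subgroup -/
theorem exists_sylow_cen (h : Nat.card G = 168) (a : G) (ha : orderOf a = 2) :
    ∃ Ta : Sylow 2 G, IsCen Ta a := by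
  obtain ⟨T⟩ : Nonempty (Sylow 2 G) := inferInstance
  obtain ⟨z, hz⟩ := exists_cen h T
  obtain ⟨_, _, hconj, _⟩ := counts h
  obtain ⟨g, hg⟩ := isConj_iff.mp (hconj z a (cen_order h hz) ha)
  refine ⟨g • T, ?_, ne_one_of_orderOf_prime Nat.prime_two ha, ?_⟩
  · refine (Cfsg.Agent.Lib.Helper4.SylowPrime.mem_smul_sylow_iff T g a).mpr ?_
    rw [← hg]
    have e : g⁻¹ * (g * z * g⁻¹) * g = z := by group
    rw [e]
    exact hz.1
  · intro s hs
    replace hs := (Cfsg.Agent.Lib.Helper4.SylowPrime.mem_smul_sylow_iff T g s).mp hs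
    have h1 := hz.2.2 _ hs
    rw [← hg]
    calc s * (g * z * g⁻¹) = g * ((g⁻¹ * s * g) * z) * g⁻¹ := by group
      _ = g * (z * (g⁻¹ * s * g)) * g⁻¹ := by rw [h1]
      _ = g * z * g⁻¹ * s := by group

theorem klein_le_normalizer (h : Nat.card G = 168) (T : Sylow 2 G) (U : Subgroup G)
    (hU : Nat.card U = 4) (hUT : U ≤ (T : Subgroup G)) :
    (T : Subgroup G) ≤ Subgroup.normalizer (U : Set G) := by
  have hidx : (U.subgroupOf (T : Subgroup G)).index = 2 := by
    have h1 := (U.subgroupOf (T : Subgroup G)).card_mul_index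
    rw [Nat.card_congr (Subgroup.subgroupOfEquivOfLe hUT).toEquiv, hU, card2 h T] at h1
    omega
  haveI : (U.subgroupOf (T : Subgroup G)).Normal := Subgroup.normal_of_index_eq_two hidx
  exact Subgroup.le_normalizer_of_normal_subgroupOf hUT

theorem sq_eq_one_of_mem_klein {U : Subgroup G} (hU : IsKleinFour U) {u : G} (hu : u ∈ U) :
    u ^ 2 = 1 := by
  haveI := hU
  have h1 := IsKleinFour.mul_self (⟨u, hu⟩ : U)
  rw [pow_two]
  exact congrArg Subtype.val h1

theorem comm_of_mem_klein {U : Subgroup G} (hU : IsKleinFour U) {u v : G} (hu : u ∈ U)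
    (hv : v ∈ U) : u * v = v * u := by
  haveI := hU
  have hc : IsMulCommutative U := IsKleinFour.isMulCommutative
  have h1 := hc.is_comm.comm (⟨u, hu⟩ : U) ⟨v, hv⟩
  exact congrArg Subtype.val h1

theorem cen_mem_klein (h : Nat.card G = 168) {T : Sylow 2 G} {z : G} (hz : IsCen T z)
    (U : Subgroup G) (hU : IsKleinFour U) (hUT : U ≤ (T : Subgroup G)) : z ∈ U := by
  classical
  obtain ⟨e⟩ := dihedral h T
  have hcard := hU.card_four
  obtain ⟨x, hx1⟩ : ∃ x : U, x ≠ 1 := by
    haveI : Nontrivial U := (Finite.one_lt_card_iff_nontrivial).mp (by rw [hcard]; norm_num)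
    exact exists_ne 1
  obtain ⟨y, hy1, hyx⟩ : ∃ y : U, y ≠ 1 ∧ y ≠ x := by
    by_contra hcon
    push Not at hcon
    have hle : Nat.card U ≤ 2 := by
      have : Fintype U := Fintype.ofFinite U
      rw [Nat.card_eq_fintype_card]
      calc Fintype.card U = (Finset.univ : Finset U).card := rfl
        _ ≤ ({1, x} : Finset U).card := Finset.card_le_card (by
            intro y _
            by_cases hy : y = 1
            · simp [hy]
            · simp [hcon y hy])
        _ ≤ 2 := Finset.card_le_two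
    omega
  set X : (T : Subgroup G) := ⟨x.1, hUT x.2⟩ with hX
  set Y : (T : Subgroup G) := ⟨y.1, hUT y.2⟩ with hY
  have hX2 : X ^ 2 = 1 := Subtype.ext (by simpa using sq_eq_one_of_mem_klein hU x.2)
  have hY2 : Y ^ 2 = 1 := Subtype.ext (by simpa using sq_eq_one_of_mem_klein hU y.2)
  have hXY2 : (X * Y) ^ 2 = 1 :=
    Subtype.ext (by simpa using sq_eq_one_of_mem_klein hU (U.mul_mem x.2 y.2))
  have hX1 : X ≠ 1 := fun h0 => by
    have hv : (X : G) = ((1 : (T : Subgroup G)) : G) := congrArg Subtype.val h0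
    exact hx1 (Subtype.ext hv)
  have hY1 : Y ≠ 1 := fun h0 => by
    have hv : (Y : G) = ((1 : (T : Subgroup G)) : G) := congrArg Subtype.val h0
    exact hy1 (Subtype.ext hv)
  have hXY : X ≠ Y := fun h0 => by
    have hv : (X : G) = (Y : G) := congrArg Subtype.val h0
    exact hyx (Subtype.ext hv.symm)
  have key := D4_K1 (e X) (e Y) (by rw [← map_pow, hX2, map_one]) (by rw [← map_pow, hY2, map_one])
    (by simpa using hX1) (by simpa using hY1) (by simpa using hXY)
    (by rw [← map_mul, ← map_pow, hXY2, map_one])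
  rw [← cen_map e hz, ← map_mul] at key
  rcases key with k | k | k
  · have := congrArg Subtype.val (e.injective k)
    rw [← show (X : G) = z from this]
    exact x.2
  · have := congrArg Subtype.val (e.injective k)
    rw [← show (Y : G) = z from this]
    exact y.2
  · have := congrArg Subtype.val (e.injective k)
    rw [← show ((X * Y : (T : Subgroup G)) : G) = z from this]
    exact U.mul_mem x.2 y.2

/-- a non-central involution of `T` -/
def IsNC {G : Type*} [Group G] (T : Sylow 2 G) (z a : G) : Prop :=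
  a ∈ (T : Subgroup G) ∧ a ^ 2 = 1 ∧ a ≠ 1 ∧ a ≠ z

theorem nc_map {T : Sylow 2 G} (e : ↥(T : Subgroup G) ≃* DihedralGroup 4) {z a : G}
    (hz : IsCen T z) (ha : IsNC T z a) :
    (e ⟨a, ha.1⟩) ^ 2 = 1 ∧ e ⟨a, ha.1⟩ ≠ 1 ∧ e ⟨a, ha.1⟩ ≠ r 2 := by
  refine ⟨?_, ?_, ?_⟩
  · rw [← map_pow]
    have : (⟨a, ha.1⟩ : (T : Subgroup G)) ^ 2 = 1 := Subtype.ext (by simpa using ha.2.1)
    rw [this, map_one]
  · intro h0
    rw [← map_one e] at h0
    exact ha.2.2.1 (congrArg Subtype.val (e.injective h0))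
  · intro h0
    rw [← cen_map e hz] at h0
    exact ha.2.2.2 (congrArg Subtype.val (e.injective h0))

/-- the Klein four-subgroup of `T` containing the non-central involution `a` -/
def kleinOf {G : Type*} [Group G] (T : Sylow 2 G) (a : G) : Subgroup G :=
  (T : Subgroup G) ⊓ Subgroup.centralizer ({a} : Set G)

theorem mem_kleinOf {T : Sylow 2 G} {a x : G} :
    x ∈ kleinOf T a ↔ x ∈ (T : Subgroup G) ∧ a * x = x * a := by
  unfold kleinOf
  rw [Subgroup.mem_inf, Subgroup.mem_centralizer_iff]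
  simp

theorem sq_of_mem_kleinOf (h : Nat.card G = 168) {T : Sylow 2 G} {z a : G} (hz : IsCen T z)
    (ha : IsNC T z a) {w : G} (hw : w ∈ kleinOf T a) : w ^ 2 = 1 := by
  obtain ⟨e⟩ := dihedral h T
  rw [mem_kleinOf] at hw
  obtain ⟨k1, k2, k3⟩ := nc_map e hz ha
  have key := D4_K4 (e ⟨w, hw.1⟩) (e ⟨a, ha.1⟩) k1 k2 k3 (by
    rw [← map_mul, ← map_mul]
    congr 1
    exact Subtype.ext hw.2.symm)
  rw [← map_pow, ← map_one e] at key
  simpa using congrArg Subtype.val (e.injective key)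

theorem card_kleinOf (h : Nat.card G = 168) {T : Sylow 2 G} {z a : G} (hz : IsCen T z)
    (ha : IsNC T z a) : Nat.card (kleinOf T a) = 4 := by
  obtain ⟨e⟩ := dihedral h T
  have hle : kleinOf T a ≤ (T : Subgroup G) := inf_le_left
  have h1 : Nat.card (kleinOf T a) ∣ 8 := (card2 h T) ▸ Subgroup.card_dvd_of_le hle
  have ha2 : orderOf a = 2 := orderOf_eq_prime ha.2.1 ha.2.2.1
  have haK : a ∈ kleinOf T a := mem_kleinOf.mpr ⟨ha.1, rfl⟩
  have hzK : z ∈ kleinOf T a := mem_kleinOf.mpr ⟨hz.1, hz.2.2 a ha.1⟩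
  have hzle : Subgroup.zpowers a ≤ kleinOf T a := by
    rw [Subgroup.zpowers_le]; exact haK
  have h2 : 2 ∣ Nat.card (kleinOf T a) := by
    have := Subgroup.card_dvd_of_le hzle
    rwa [Nat.card_zpowers, ha2] at this
  have h3 : Nat.card (kleinOf T a) ≠ 2 := by
    intro h0
    have : Subgroup.zpowers a = kleinOf T a :=
      Subgroup.eq_of_le_of_card_ge hzle (by rw [h0, Nat.card_zpowers, ha2])
    rw [← this] at hzK
    obtain ⟨k, hk⟩ := (isOfFinOrder_of_finite a).mem_powers_iff_mem_zpowers.mpr hzK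
    have hk' : a ^ (k % 2) = z := by
      rw [← hk, ← ha2, pow_mod_orderOf]
    have : k % 2 < 2 := Nat.mod_lt _ (by norm_num)
    generalize k % 2 = j at *
    interval_cases j
    · rw [pow_zero] at hk'
      exact hz.2.1 hk'.symm
    · rw [pow_one] at hk'
      exact ha.2.2.2 hk'
  have h4 : Nat.card (kleinOf T a) ≠ 8 := by
    intro h0
    have heq : kleinOf T a = (T : Subgroup G) :=
      Subgroup.eq_of_le_of_card_ge hle (by rw [h0, card2 h T])
    obtain ⟨k1, k2, k3⟩ := nc_map e hz ha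
    obtain ⟨t, ht⟩ := D4_K5 (e ⟨a, ha.1⟩) k1 k2 k3
    apply ht
    have hmem : ((e.symm t : (T : Subgroup G)) : G) ∈ kleinOf T a := by
      rw [heq]; exact (e.symm t).2
    rw [mem_kleinOf] at hmem
    have h6 : e.symm t * (⟨a, ha.1⟩ : (T : Subgroup G)) = ⟨a, ha.1⟩ * e.symm t :=
      Subtype.ext hmem.2.symm
    have h7 := congrArg e h6
    rwa [map_mul, map_mul, e.apply_symm_apply] at h7
  have hle' := Nat.le_of_dvd (by norm_num) h1
  have hpos : 0 < Nat.card (kleinOf T a) := Nat.card_pos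
  generalize Nat.card (kleinOf T a) = n at *
  interval_cases n <;> omega

theorem isKleinFour_kleinOf (h : Nat.card G = 168) {T : Sylow 2 G} {z a : G} (hz : IsCen T z)
    (ha : IsNC T z a) : IsKleinFour (kleinOf T a) := by
  refine ⟨card_kleinOf h hz ha, ?_⟩
  have hdvd : Monoid.exponent (kleinOf T a) ∣ 2 := by
    apply Monoid.exponent_dvd_of_forall_pow_eq_one
    intro w
    exact Subtype.ext (by simpa using sq_of_mem_kleinOf h hz ha w.2)
  rcases (Nat.dvd_prime Nat.prime_two).mp hdvd with h1 | h1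
  · exfalso
    rw [Monoid.exp_eq_one_iff] at h1
    have := Nat.card_eq_one_iff_unique.mpr ⟨h1, ⟨1⟩⟩
    rw [card_kleinOf h hz ha] at this
    omega
  · exact h1

theorem klein_eq_kleinOf (h : Nat.card G = 168) {T : Sylow 2 G} {z : G} (hz : IsCen T z)
    (U : Subgroup G) (hU : IsKleinFour U) (hUT : U ≤ (T : Subgroup G)) (a : G) (haU : a ∈ U)
    (ha1 : a ≠ 1) (haz : a ≠ z) : IsNC T z a ∧ U = kleinOf T a := by
  have hnc : IsNC T z a := ⟨hUT haU, sq_eq_one_of_mem_klein hU haU, ha1, haz⟩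
  refine ⟨hnc, ?_⟩
  apply Subgroup.eq_of_le_of_card_ge
  · intro u hu
    exact mem_kleinOf.mpr ⟨hUT hu, comm_of_mem_klein hU haU hu⟩
  · rw [card_kleinOf h hz hnc, hU.card_four]

theorem exists_mem_klein_ne (h : Nat.card G = 168) {T : Sylow 2 G} {z : G} (hz : IsCen T z)
    (U : Subgroup G) (hU : IsKleinFour U) (hUT : U ≤ (T : Subgroup G)) :
    ∃ a ∈ U, a ≠ 1 ∧ a ≠ z := by
  have hzU := cen_mem_klein h hz U hU hUT
  have hz2 := cen_order h hz
  have hlt : Subgroup.zpowers z < U := by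
    refine lt_of_le_of_ne (by rw [Subgroup.zpowers_le]; exact hzU) ?_
    intro h0
    have := hU.card_four
    rw [← h0, Nat.card_zpowers, hz2] at this
    omega
  obtain ⟨a, haU, haz⟩ := SetLike.exists_of_lt hlt
  refine ⟨a, haU, ?_, ?_⟩
  · rintro rfl
    exact haz (Subgroup.one_mem _)
  · rintro rfl
    exact haz (Subgroup.mem_zpowers _)

theorem kleinOf_mul_cen {T : Sylow 2 G} {z a : G} (hz : IsCen T z) :
    kleinOf T (a * z) = kleinOf T a := by
  ext x
  rw [mem_kleinOf, mem_kleinOf]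
  constructor
  · rintro ⟨hx, hc⟩
    refine ⟨hx, ?_⟩
    have hzx := hz.2.2 x hx
    have : a * z * x = x * a * z := by rw [hc, mul_assoc]
    calc a * x = (a * z * x) * z⁻¹ := by rw [mul_assoc a z x, ← hzx]; group
      _ = (x * a * z) * z⁻¹ := by rw [this]
      _ = x * a := by group
  · rintro ⟨hx, hc⟩
    refine ⟨hx, ?_⟩
    have hzx := hz.2.2 x hx
    calc a * z * x = a * (z * x) := by group
      _ = a * (x * z) := by rw [hzx]
      _ = (a * x) * z := by group
      _ = (x * a) * z := by rw [hc]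
      _ = x * (a * z) := by group

theorem card_klein_in_sylow (h : Nat.card G = 168) (T : Sylow 2 G) :
    Nat.card {U : Subgroup G // U ≤ (T : Subgroup G) ∧ IsKleinFour ↥U} = 2 := by
  obtain ⟨e⟩ := dihedral h T
  obtain ⟨z, hz⟩ := exists_cen h T
  obtain ⟨d1, d2, d3, d4, d5, d6, d7⟩ := D4_K6
  have hzmap := cen_map e hz
  -- the two non-central involutions
  have hnc : ∀ x : DihedralGroup 4, x ^ 2 = 1 → x ≠ 1 → x ≠ r 2 → IsNC T z (e.symm x : G) := by
    intro x h1 h2 h3
    refine ⟨(e.symm x).2, ?_, ?_, ?_⟩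
    · have : (e.symm x) ^ 2 = 1 := by rw [← map_pow, h1, map_one]
      simpa using congrArg Subtype.val this
    · intro h0
      have : e.symm x = 1 := Subtype.ext h0
      rw [← map_one e.symm] at this
      exact h2 (e.symm.injective this)
    · intro h0
      have : e.symm x = ⟨z, hz.1⟩ := Subtype.ext h0
      rw [← hzmap] at h3
      apply h3
      rw [← this, e.apply_symm_apply]
  have hA := hnc (sr 0) d1 d2 d3
  have hB := hnc (sr 1) d4 d5 d6
  set a0 : G := (e.symm (sr 0) : G) with ha0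
  set b0 : G := (e.symm (sr 1) : G) with hb0
  have hne : kleinOf T a0 ≠ kleinOf T b0 := by
    intro h0
    have hb : b0 ∈ kleinOf T b0 := mem_kleinOf.mpr ⟨hB.1, rfl⟩
    rw [← h0, mem_kleinOf] at hb
    apply d7
    have h6 : e.symm (sr 0) * e.symm (sr 1) = e.symm (sr 1) * e.symm (sr 0) := Subtype.ext hb.2
    have h7 := congrArg e h6
    rwa [map_mul, map_mul, e.apply_symm_apply, e.apply_symm_apply] at h7
  rw [Nat.card_eq_two_iff]
  refine ⟨⟨kleinOf T a0, inf_le_left, isKleinFour_kleinOf h hz hA⟩,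
    ⟨kleinOf T b0, inf_le_left, isKleinFour_kleinOf h hz hB⟩, ?_, ?_⟩
  · intro h0
    exact hne (congrArg Subtype.val h0)
  · rw [Set.eq_univ_iff_forall]
    rintro ⟨U, hUT, hU⟩
    obtain ⟨a, haU, ha1, haz⟩ := exists_mem_klein_ne h hz U hU hUT
    obtain ⟨hanc, hUeq⟩ := klein_eq_kleinOf h hz U hU hUT a haU ha1 haz
    obtain ⟨k1, k2, k3⟩ := nc_map e hz hanc
    have hcases := D4_K3 (e ⟨a, hanc.1⟩) k1 k2 k3
    have hback : ∀ x : DihedralGroup 4, e ⟨a, hanc.1⟩ = x → a = (e.symm x : G) := by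
      intro x hx
      rw [← hx, e.symm_apply_apply]
    have hzr : (e.symm (r 2) : G) = z := by
      rw [← hzmap, e.symm_apply_apply]
    rw [Set.mem_insert_iff, Set.mem_singleton_iff]
    rcases hcases with c | c | c | c
    · left
      apply Subtype.ext
      show U = kleinOf T a0
      rw [hUeq, hback _ c]
    · left
      apply Subtype.ext
      show U = kleinOf T a0
      rw [hUeq, hback _ c, map_mul, Subgroup.coe_mul, hzr, kleinOf_mul_cen hz]
    · right
      apply Subtype.ext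
      show U = kleinOf T b0
      rw [hUeq, hback _ c]
    · right
      apply Subtype.ext
      show U = kleinOf T b0
      rw [hUeq, hback _ c, map_mul, Subgroup.coe_mul, hzr, kleinOf_mul_cen hz]

theorem klein_not_conj (h : Nat.card G = 168) (T : Sylow 2 G) (U W : Subgroup G)
    (hUT : U ≤ (T : Subgroup G)) (hWT : W ≤ (T : Subgroup G)) (hU : IsKleinFour ↥U)
    (hW : IsKleinFour ↥W) (hne : U ≠ W) (g : G) : U.map (MulAut.conj g).toMonoidHom ≠ W := by
  intro hmap
  set N := Subgroup.normalizer (W : Set G) with hN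
  have h1 : (T : Subgroup G) ≤ N := klein_le_normalizer h T W hW.card_four hWT
  have hWgT : W ≤ ((g • T : Sylow 2 G) : Subgroup G) := by
    intro w hw
    rw [← hmap, Subgroup.mem_map] at hw
    obtain ⟨u, hu, rfl⟩ := hw
    refine (Cfsg.Agent.Lib.Helper4.SylowPrime.mem_smul_sylow_iff T g _).mpr ?_
    show g⁻¹ * (g * u * g⁻¹) * g ∈ (T : Subgroup G)
    have e : g⁻¹ * (g * u * g⁻¹) * g = u := by group
    rw [e]
    exact hUT hu
  have h2 : ((g • T : Sylow 2 G) : Subgroup G) ≤ N :=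
    klein_le_normalizer h (g • T) W hW.card_four hWgT
  obtain ⟨n, hn⟩ := MulAction.exists_smul_eq N ((g • T).subtype h2) (T.subtype h1)
  simp_rw [Sylow.smul_subtype, Subgroup.smul_def, smul_smul] at hn
  have hmem : (n : G) * g ∈ Subgroup.normalizer ((T : Subgroup G) : Set G) :=
    Sylow.smul_eq_iff_mem_normalizer.mp (Sylow.subtype_injective hn)
  rw [normalizer_eq h T] at hmem
  have hNU := klein_le_normalizer h T U hU.card_four hUT hmem
  apply hne
  apply Subgroup.eq_of_le_of_card_ge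
  · intro u hu
    -- u' = (ng)⁻¹ u (ng) ∈ U
    have hu' : ((n : G) * g)⁻¹ * u * ((n : G) * g) ∈ U := by
      have hinv : ((n : G) * g)⁻¹ ∈ Subgroup.normalizer (U : Set G) := Subgroup.inv_mem _ hNU
      have := (Subgroup.mem_normalizer_iff.mp hinv u).mp hu
      rwa [inv_inv] at this
    have hgw : g * (((n : G) * g)⁻¹ * u * ((n : G) * g)) * g⁻¹ ∈ W := by
      rw [← hmap, Subgroup.mem_map]
      exact ⟨_, hu', rfl⟩
    have hnw := (Subgroup.mem_normalizer_iff.mp n.2 _).mp hgw
    have e : (n : G) * (g * (((n : G) * g)⁻¹ * u * ((n : G) * g)) * g⁻¹) * (n : G)⁻¹ = u := by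
      group
    rwa [e] at hnw
  · rw [hU.card_four, hW.card_four]

theorem card_normalizer_klein (h : Nat.card G = 168) (U : Subgroup G) (hU : IsKleinFour ↥U) :
    Nat.card (Subgroup.normalizer (U : Set G)) = 24 := by
  have hpg : IsPGroup 2 U := by
    apply IsPGroup.of_card (n := 2)
    rw [hU.card_four]; norm_num
  obtain ⟨T, hUT⟩ := hpg.exists_le_sylow
  obtain ⟨z, hz⟩ := exists_cen h T
  obtain ⟨a, haU, ha1, haz⟩ := exists_mem_klein_ne h hz U hU hUT
  have ha2 : orderOf a = 2 := orderOf_eq_prime (sq_eq_one_of_mem_klein hU haU) ha1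
  obtain ⟨Ta, hTa⟩ := exists_sylow_cen h a ha2
  have hUTa : U ≤ (Ta : Subgroup G) := by
    rw [← cent_cen h hTa]
    intro u hu
    rw [Subgroup.mem_centralizer_iff]
    intro y hy
    rw [Set.mem_singleton_iff] at hy
    subst hy
    exact comm_of_mem_klein hU haU hu
  have hTne : T ≠ Ta := by
    intro h0
    subst h0
    exact haz (cen_unique h hTa hz)
  set N := Subgroup.normalizer (U : Set G) with hN
  have h1 : (T : Subgroup G) ≤ N := klein_le_normalizer h T U hU.card_four hUT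
  have h2 : (Ta : Subgroup G) ≤ N := klein_le_normalizer h Ta U hU.card_four hUTa
  have hd1 : 8 ∣ Nat.card N := (card2 h T) ▸ Subgroup.card_dvd_of_le h1
  have hd2 : Nat.card N ∣ 168 := h ▸ Subgroup.card_subgroup_dvd_card N
  have hne8 : Nat.card N ≠ 8 := by
    intro h8
    have e1 : (T : Subgroup G) = N := Subgroup.eq_of_le_of_card_ge h1 (by rw [h8, card2 h T])
    have e2 : (Ta : Subgroup G) = N := Subgroup.eq_of_le_of_card_ge h2 (by rw [h8, card2 h Ta])
    exact hTne (Sylow.ext (e1.trans e2.symm))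
  have hne168 : Nat.card N ≠ 168 := by
    intro h0
    have htop : N = ⊤ := Subgroup.eq_top_of_card_eq N (by rw [h0, h])
    have hnorm : U.Normal := Subgroup.normalizer_eq_top_iff.mp htop
    rcases hnorm.eq_bot_or_eq_top with hb | ht
    · have := hU.card_four
      rw [hb, Subgroup.card_bot] at this
      omega
    · have := hU.card_four
      rw [ht, Subgroup.card_top, h] at this
      omega
  have hne56 : Nat.card N ≠ 56 := by
    intro h0
    have hidx : N.index = 3 := by
      have := N.card_mul_index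
      rw [h0, h] at this
      omega
    have := Cfsg.Agent.Lib.Helper4.Sylow.card_dvd_factorial_of_simple N (by
      intro htop
      rw [htop, Subgroup.index_top] at hidx
      omega)
    rw [hidx, h] at this
    norm_num [Nat.factorial] at this
  have hle := Nat.le_of_dvd (by norm_num) hd2
  generalize Nat.card N = n at *
  interval_cases n <;> omega

theorem normalizer_klein_iso (h : Nat.card G = 168) (U : Subgroup G) (hU : IsKleinFour ↥U) :
    Nonempty (↥(Subgroup.normalizer (U : Set G)) ≃* Equiv.Perm (Fin 4)) := by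
  apply Cfsg.Agent.S1012.result (card_normalizer_klein h U hU)
  intro g hg
  have h6 : orderOf (g : G) = 6 := by rw [Subgroup.orderOf_coe]; exact hg
  rcases order_cases5 h (g : G) with c | c | c | c | c <;> omega

end

end Cfsg.Agent.Lead.Simple168
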