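import Mathlib
import Cfsg.Agent.Lib.Lead.Simple168C

set_option autoImplicit false

namespace Cfsg.Agent.Lead.Simple168

open Cfsg.Agent.Lib.Helper4.Sylow Cfsg.Agent.Lib.Helper4.SylowPrime

set_option maxRecDepth 100000 in
theorem S4_amb : ∀ σ : Equiv.Perm (Fin 4), ∃ τ : Equiv.Perm (Fin 4), τ * σ * τ⁻¹ = σ⁻¹ := by
  decide

theorem le_normalizer_of_conj_mem {G : Type*} [Group G] (M H : Subgroup G)
    (hconj : ∀ m ∈ M, ∀ x ∈ H, m * x * m⁻¹ ∈ H) : M ≤ Subgroup.normalizer (H : Set G) := by
  intro m hm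
  rw [Subgroup.mem_normalizer_iff]
  intro x
  constructor
  · exact hconj m hm x
  · intro hx
    have h1 := hconj m⁻¹ (M.inv_mem hm) _ hx
    rw [inv_inv] at h1
    have e : m⁻¹ * (m * x * m⁻¹) * m = x := by group
    rwa [e] at h1

theorem mem_map_conj {G : Type*} [Group G] {H : Subgroup G} {g x : G} :
    x ∈ H.map (MulAut.conj g).toMonoidHom ↔ g⁻¹ * x * g ∈ H := by
  rw [Subgroup.mem_map]
  constructor
  · rintro ⟨u, hu, rfl⟩
    show g⁻¹ * (g * u * g⁻¹) * g ∈ H
    have e : g⁻¹ * (g * u * g⁻¹) * g = u := by group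
    rw [e]
    exact hu
  · intro hx
    refine ⟨g⁻¹ * x * g, hx, ?_⟩
    show g * (g⁻¹ * x * g) * g⁻¹ = x
    group

theorem card_map_conj {G : Type*} [Group G] (H : Subgroup G) (g : G) :
    Nat.card (H.map (MulAut.conj g).toMonoidHom) = Nat.card H :=
  Subgroup.card_map_of_injective (MulAut.conj g).injective

theorem normalizer_map_conj {G : Type*} [Group G] (H : Subgroup G) (g : G) :
    Subgroup.normalizer ((H.map (MulAut.conj g).toMonoidHom : Subgroup G) : Set G) =
      (Subgroup.normalizer (H : Set G)).map (MulAut.conj g).toMonoidHom :=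
  (Subgroup.map_equiv_normalizer_eq H (MulAut.conj g)).symm

theorem isKleinFour_of_mulEquiv {A B : Type*} [Group A] [Group B] (e : A ≃* B)
    (hA : IsKleinFour A) : IsKleinFour B :=
  ⟨by rw [← Nat.card_congr e.toEquiv]; exact hA.card_four,
   by rw [← Monoid.exponent_eq_of_mulEquiv e]; exact hA.exponent_two⟩

theorem isKleinFour_map_conj {G : Type*} [Group G] (U : Subgroup G) (hU : IsKleinFour U) (g : G) :
    IsKleinFour (U.map (MulAut.conj g).toMonoidHom) :=
  isKleinFour_of_mulEquiv (U.equivMapOfInjective _ (MulAut.conj g).injective) hU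

theorem map_conj_inv_map_conj {G : Type*} [Group G] (V : Subgroup G) (c : G) :
    (V.map (MulAut.conj c⁻¹).toMonoidHom).map (MulAut.conj c).toMonoidHom = V := by
  ext x
  rw [mem_map_conj, mem_map_conj, inv_inv]
  have e : c * (c⁻¹ * x * c) * c⁻¹ = x := by group
  rw [e]

theorem S4_normal_klein : ∃ V : Subgroup (Equiv.Perm (Fin 4)), V.Normal ∧ IsKleinFour V := by
  have h4 : Nat.card (Fin 4) = 4 := by simp
  haveI := alternatingGroup.characteristic_kleinFour h4
  refine ⟨(alternatingGroup.kleinFour (Fin 4)).map (alternatingGroup (Fin 4)).subtype,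
    inferInstance, ?_⟩
  exact isKleinFour_of_mulEquiv
    ((alternatingGroup.kleinFour (Fin 4)).equivMapOfInjective _ (Subgroup.subtype_injective _))
    (alternatingGroup.kleinFour_isKleinFour h4)

theorem prod_trick {G : Type*} [Group G] [Finite G] {p : ℕ} (hp : p.Prime) (M : Subgroup G)
    (x y : G) (hx : orderOf x = p) (hy : orderOf y = p) (hxM : x ∈ M) (hyM : y ∈ M)
    (hyx : y ∉ Subgroup.zpowers x) : p * p ≤ Nat.card M := by
  have hI : Subgroup.zpowers x ⊓ Subgroup.zpowers y = ⊥ := by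
    have h1 : Nat.card (Subgroup.zpowers x ⊓ Subgroup.zpowers y : Subgroup G) ∣ p := by
      have := Subgroup.card_dvd_of_le
        (inf_le_right : Subgroup.zpowers x ⊓ Subgroup.zpowers y ≤ Subgroup.zpowers y)
      rwa [Nat.card_zpowers, hy] at this
    rcases (Nat.dvd_prime hp).mp h1 with h2 | h2
    · exact Subgroup.eq_bot_of_card_eq _ h2
    · exfalso
      have h3 : Subgroup.zpowers x ⊓ Subgroup.zpowers y = Subgroup.zpowers y :=
        Subgroup.eq_of_le_of_card_ge inf_le_right (by rw [h2, Nat.card_zpowers, hy])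
      apply hyx
      have h4 : Subgroup.zpowers y ≤ Subgroup.zpowers x := h3 ▸ inf_le_left
      exact h4 (Subgroup.mem_zpowers y)
  let f : (Subgroup.zpowers x) × (Subgroup.zpowers y) → M := fun ab =>
    ⟨ab.1.1 * ab.2.1, M.mul_mem ((Subgroup.zpowers_le.mpr hxM) ab.1.2)
      ((Subgroup.zpowers_le.mpr hyM) ab.2.2)⟩
  have hf : Function.Injective f := by
    rintro ⟨⟨a, ha⟩, ⟨b, hb⟩⟩ ⟨⟨a', ha'⟩, ⟨b', hb'⟩⟩ hab
    have hv : a * b = a' * b' := congrArg Subtype.val hab
    have hmem : a'⁻¹ * a ∈ Subgroup.zpowers x ⊓ Subgroup.zpowers y := by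
      refine ⟨Subgroup.mul_mem _ (Subgroup.inv_mem _ ha') ha, ?_⟩
      have e : a'⁻¹ * a = b' * b⁻¹ := by
        calc a'⁻¹ * a = a'⁻¹ * (a * b) * b⁻¹ := by group
          _ = a'⁻¹ * (a' * b') * b⁻¹ := by rw [hv]
          _ = b' * b⁻¹ := by group
      rw [e]
      exact Subgroup.mul_mem _ hb' (Subgroup.inv_mem _ hb)
    rw [hI, Subgroup.mem_bot] at hmem
    have ha_eq : a = a' := (inv_mul_eq_one.mp hmem).symm
    subst ha_eq
    have hb_eq : b = b' := mul_left_cancel hv
    subst hb_eq
    rfl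
  have hle := Nat.card_le_card_of_injective f hf
  rwa [Nat.card_prod, Nat.card_zpowers, Nat.card_zpowers, hx, hy] at hle

theorem mem_normalizer_of_inv {G : Type*} [Group G] {c x : G} (hc : c * x * c⁻¹ = x⁻¹) :
    c ∈ Subgroup.normalizer ((Subgroup.zpowers x : Subgroup G) : Set G) := by
  have hc' : c * x⁻¹ * c⁻¹ = x := by
    calc c * x⁻¹ * c⁻¹ = (c * x * c⁻¹)⁻¹ := by group
      _ = x⁻¹⁻¹ := by rw [hc]
      _ = x := inv_inv x
  have hcinv : c⁻¹ * x * c⁻¹⁻¹ = x⁻¹ := by
    rw [inv_inv]
    calc c⁻¹ * x * c = c⁻¹ * (c * x⁻¹ * c⁻¹) * c := by rw [hc']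
      _ = x⁻¹ := by group
  rw [Subgroup.mem_normalizer_iff]
  intro y
  constructor
  · exact conj_mem_zpowers_of_inv hc y
  · intro hy
    have h1 := conj_mem_zpowers_of_inv hcinv _ hy
    rw [inv_inv] at h1
    have e : c⁻¹ * (c * y * c⁻¹) * c = y := by group
    rwa [e] at h1

theorem mem_zpowers_four {G : Type*} [Group G] [Finite G] {g : G} (hg : orderOf g = 4) (y : G)
    (hy : y ∈ Subgroup.zpowers g) : y = 1 ∨ y = g ∨ y = g ^ 2 ∨ y = g ^ 3 := by
  obtain ⟨k, hk⟩ := (isOfFinOrder_of_finite g).mem_powers_iff_mem_zpowers.mpr hy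
  have hk' : g ^ (k % 4) = y := by
    rw [← hk, ← hg, pow_mod_orderOf]
  have : k % 4 < 4 := Nat.mod_lt _ (by norm_num)
  generalize k % 4 = j at *
  interval_cases j
  · left; rw [← hk', pow_zero]
  · right; left; rw [← hk', pow_one]
  · right; right; left; exact hk'.symm
  · right; right; right; exact hk'.symm

section
variable {G : Type*} [Group G] [Finite G] [IsSimpleGroup G]

theorem exists_sylow_eq_zpowers {p : ℕ} [hp : Fact p.Prime]
    (hP : ∀ P : Sylow p G, Nat.card (P : Subgroup G) = p) (x : G) (hx : orderOf x = p) :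
    ∃ P : Sylow p G, (P : Subgroup G) = Subgroup.zpowers x := by
  have hx1 : x ≠ 1 := ne_one_of_orderOf_prime hp.out hx
  have hpg : IsPGroup p (Subgroup.zpowers x) := by
    apply IsPGroup.of_card (n := 1)
    rw [Nat.card_zpowers, hx, pow_one]
  obtain ⟨P, hle⟩ := hpg.exists_le_sylow
  exact ⟨P, sylow_eq_zpowers P (hP P) x hx1 (hle (Subgroup.mem_zpowers x))⟩

theorem card_N_zpowers7 (h : Nat.card G = 168) (x : G) (hx : orderOf x = 7) :
    Nat.card (Subgroup.normalizer ((Subgroup.zpowers x : Subgroup G) : Set G)) = 21 := by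
  obtain ⟨P, hP⟩ := exists_sylow_eq_zpowers (card7 h) x hx
  rw [← hP]
  exact cardN7 h P

theorem card_N_zpowers3 (h : Nat.card G = 168) (x : G) (hx : orderOf x = 3) :
    Nat.card (Subgroup.normalizer ((Subgroup.zpowers x : Subgroup G) : Set G)) = 6 := by
  obtain ⟨P, hP⟩ := exists_sylow_eq_zpowers (card3 h) x hx
  rw [← hP]
  exact cardN3 h P

theorem card_le_of_ne_top (h : Nat.card G = 168) (M : Subgroup G) (hM : M ≠ ⊤) :
    Nat.card M ≤ 24 := by
  have h1 := card_dvd_factorial_of_simple M hM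
  rw [h] at h1
  have h7 : 7 ∣ (M.index).factorial := dvd_trans (by norm_num) h1
  have h2 : 7 ≤ M.index := (Nat.Prime.dvd_factorial (by norm_num)).mp h7
  have h3 := M.card_mul_index
  rw [h] at h3
  nlinarith

omit [IsSimpleGroup G] in
theorem le_N_of_card_lt {p : ℕ} (hp : p.Prime) (M : Subgroup G) (hM : Nat.card M < p * p) (x : G)
    (hxM : x ∈ M) (hx : orderOf x = p) :
    M ≤ Subgroup.normalizer ((Subgroup.zpowers x : Subgroup G) : Set G) := by
  apply le_normalizer_of_conj_mem
  intro m hm w hw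
  obtain ⟨k, rfl⟩ := hw
  show m * x ^ k * m⁻¹ ∈ Subgroup.zpowers x
  rw [← conj_zpow]
  apply Subgroup.zpow_mem
  by_contra hnot
  have := prod_trick hp M x (m * x * m⁻¹) hx (by rw [orderOf_conj', hx]) hxM
    (M.mul_mem (M.mul_mem hm hxM) (M.inv_mem hm)) hnot
  omega

theorem exists_klein_le (h : Nat.card G = 168) (T : Sylow 2 G) :
    ∃ U : Subgroup G, U ≤ (T : Subgroup G) ∧ IsKleinFour ↥U := by
  have hc := card_klein_in_sylow h T
  by_contra hcon
  have hemp : IsEmpty {U : Subgroup G // U ≤ (T : Subgroup G) ∧ IsKleinFour ↥U} := by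
    constructor
    rintro ⟨U, hU⟩
    exact hcon ⟨U, hU⟩
  rw [Nat.card_of_isEmpty] at hc
  omega

theorem two_group_le (h : Nat.card G = 168) (M : Subgroup G) (hM : Nat.card M ∣ 8) :
    ∃ K : Subgroup G, M ≤ K ∧ Nat.card K = 24 := by
  obtain ⟨k, hk, hMk⟩ := (Nat.dvd_prime_pow Nat.prime_two).mp (show Nat.card M ∣ 2 ^ 3 from hM)
  have hpg : IsPGroup 2 M := IsPGroup.of_card hMk
  obtain ⟨T, hT⟩ := hpg.exists_le_sylow
  obtain ⟨U, hUT, hU⟩ := exists_klein_le h T
  exact ⟨Subgroup.normalizer (U : Set G),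
    hT.trans (klein_le_normalizer h T U hU.card_four hUT), card_normalizer_klein h U hU⟩

theorem exists_24_ge_N3 (h : Nat.card G = 168) (y : G) (hy : orderOf y = 3) :
    ∃ K : Subgroup G, Nat.card K = 24 ∧
      Subgroup.normalizer ((Subgroup.zpowers y : Subgroup G) : Set G) ≤ K := by
  obtain ⟨T⟩ : Nonempty (Sylow 2 G) := inferInstance
  obtain ⟨U, hUT, hU⟩ := exists_klein_le h T
  set K0 := Subgroup.normalizer (U : Set G) with hK0def
  have hK0 := card_normalizer_klein h U hU
  obtain ⟨φ⟩ := normalizer_klein_iso h U hU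
  obtain ⟨y0', hy0'⟩ := exists_prime_orderOf_dvd_card' 3
    (show 3 ∣ Nat.card K0 by rw [hK0]; norm_num)
  obtain ⟨τ, hτ⟩ := S4_amb (φ y0')
  have ht0 : φ.symm τ * y0' * (φ.symm τ)⁻¹ = y0'⁻¹ := by
    apply φ.injective
    rw [map_mul, map_mul, map_inv, map_inv, φ.apply_symm_apply]
    exact hτ
  set t0' : K0 := φ.symm τ with ht0'
  have hy0 : orderOf (y0' : G) = 3 := by rw [Subgroup.orderOf_coe]; exact hy0'
  have ht0G : (t0' : G) * (y0' : G) * (t0' : G)⁻¹ = (y0' : G)⁻¹ := by
    simpa using congrArg Subtype.val ht0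
  set y0 : G := (y0' : G) with hy0def
  set t0 : G := (t0' : G) with ht0def
  set N := Subgroup.normalizer ((Subgroup.zpowers y0 : Subgroup G) : Set G) with hNdef
  have hcardN : Nat.card N = 6 := card_N_zpowers3 h y0 hy0
  have ht0N : t0 ∈ N := mem_normalizer_of_inv ht0G
  have ht0not : t0 ∉ Subgroup.zpowers y0 := by
    intro hmem
    have hc : t0 * y0 = y0 * t0 := by
      obtain ⟨k, hk⟩ := hmem
      rw [← hk]
      exact (Commute.zpow_left (Commute.refl y0) k).eq
    have hyy : y0 = y0⁻¹ := by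
      calc y0 = (y0 * t0) * t0⁻¹ := by group
        _ = (t0 * y0) * t0⁻¹ := by rw [hc]
        _ = y0⁻¹ := ht0G
    have hy2 : y0 ^ 2 = 1 := by
      rw [pow_two]
      nth_rewrite 2 [hyy]
      exact mul_inv_cancel y0
    have := orderOf_dvd_of_pow_eq_one hy2
    rw [hy0] at this
    omega
  have hI : N ≤ K0 := by
    have hle : K0 ⊓ N ≤ N := inf_le_right
    have hz : Subgroup.zpowers y0 ≤ K0 ⊓ N :=
      le_inf (Subgroup.zpowers_le.mpr y0'.2) Subgroup.le_normalizer
    have hd1 : Nat.card (K0 ⊓ N : Subgroup G) ∣ 6 := hcardN ▸ Subgroup.card_dvd_of_le hle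
    have hd2 : 3 ∣ Nat.card (K0 ⊓ N : Subgroup G) := by
      have := Subgroup.card_dvd_of_le hz
      rwa [Nat.card_zpowers, hy0] at this
    have hne3 : Nat.card (K0 ⊓ N : Subgroup G) ≠ 3 := by
      intro h3
      have h4 : Subgroup.zpowers y0 = K0 ⊓ N :=
        Subgroup.eq_of_le_of_card_ge hz (by rw [h3, Nat.card_zpowers, hy0])
      apply ht0not
      rw [h4]
      exact ⟨t0'.2, ht0N⟩
    have h6 : Nat.card (K0 ⊓ N : Subgroup G) = 6 := by
      have hle' := Nat.le_of_dvd (by norm_num) hd1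
      generalize Nat.card (K0 ⊓ N : Subgroup G) = n at *
      interval_cases n <;> omega
    have h7 : K0 ⊓ N = N := Subgroup.eq_of_le_of_card_ge hle (by rw [h6, hcardN])
    exact h7 ▸ inf_le_left
  obtain ⟨_, hconj⟩ := counts3 h
  obtain ⟨g, hg⟩ := isConj_iff.mp (hconj y0 y hy0 hy)
  refine ⟨K0.map (MulAut.conj g).toMonoidHom, by rw [card_map_conj, hK0], ?_⟩
  have hz : Subgroup.zpowers y = (Subgroup.zpowers y0).map (MulAut.conj g).toMonoidHom := by
    rw [MonoidHom.map_zpowers]
    congr 1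
    exact hg.symm
  rw [hz, normalizer_map_conj]
  exact Subgroup.map_mono hI

theorem small3 (h : Nat.card G = 168) (M : Subgroup G) (hM : Nat.card M < 9) (y : G)
    (hyM : y ∈ M) (hy : orderOf y = 3) : ∃ K : Subgroup G, M ≤ K ∧ Nat.card K = 24 := by
  obtain ⟨K, hK, hNK⟩ := exists_24_ge_N3 h y hy
  exact ⟨K, (le_N_of_card_lt (by norm_num) M hM y hyM hy).trans hNK, hK⟩

theorem case12 (h : Nat.card G = 168) (M : Subgroup G) (hM : Nat.card M = 12) :
    ∃ K : Subgroup G, M ≤ K ∧ Nat.card K = 24 := by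
  classical
  have hM3 : Nat.card M = 3 ^ 1 * 4 := by norm_num [hM]
  have hP3 : ∀ P : Sylow 3 M, Nat.card (P : Subgroup M) = 3 := fun P => by
    simpa using card_sylow_of_card_eq hM3 (by norm_num) P
  have hdvd : Nat.card (Sylow 3 M) ∣ 4 := card_sylow_dvd_of_card_eq hM3 (by norm_num)
  have hmod : Nat.card (Sylow 3 M) ≡ 1 [MOD 3] := card_sylow_modEq_one 3 M
  obtain ⟨y, hy⟩ := exists_prime_orderOf_dvd_card' 3 (show 3 ∣ Nat.card M by rw [hM]; norm_num)
  have hyG : orderOf (y : G) = 3 := by rw [Subgroup.orderOf_coe]; exact hy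
  have hy1 : y ≠ 1 := ne_one_of_orderOf_prime (by norm_num) hy
  have hn : Nat.card (Sylow 3 M) = 1 ∨ Nat.card (Sylow 3 M) = 4 := by
    have hle := Nat.le_of_dvd (by norm_num) hdvd
    unfold Nat.ModEq at hmod
    generalize Nat.card (Sylow 3 M) = n at *
    interval_cases n <;> omega
  rcases hn with hn1 | hn4
  · exfalso
    haveI hsub : Subsingleton (Sylow 3 M) := (Nat.card_eq_one_iff_unique.mp hn1).1
    obtain ⟨P, hPz⟩ : ∃ P : Sylow 3 M, (P : Subgroup M) = Subgroup.zpowers y := by
      have hpg : IsPGroup 3 (Subgroup.zpowers y) := by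
        apply IsPGroup.of_card (n := 1)
        rw [Nat.card_zpowers, hy, pow_one]
      obtain ⟨P, hle⟩ := hpg.exists_le_sylow
      exact ⟨P, sylow_eq_zpowers P (hP3 P) y hy1 (hle (Subgroup.mem_zpowers y))⟩
    have hnorm : (P : Subgroup M).Normal := P.normal_of_subsingleton
    have hle : M ≤ Subgroup.normalizer ((Subgroup.zpowers (y : G) : Subgroup G) : Set G) := by
      apply le_normalizer_of_conj_mem
      intro m hm w hw
      obtain ⟨k, rfl⟩ := hw
      show m * (y : G) ^ k * m⁻¹ ∈ Subgroup.zpowers (y : G)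
      rw [← conj_zpow]
      apply Subgroup.zpow_mem
      have h1 : (⟨m, hm⟩ : M) * y * (⟨m, hm⟩ : M)⁻¹ ∈ (P : Subgroup M) :=
        hnorm.conj_mem y (by rw [hPz]; exact Subgroup.mem_zpowers y) ⟨m, hm⟩
      rw [hPz] at h1
      obtain ⟨j, hj⟩ := h1
      have hj' := congrArg Subtype.val hj
      refine ⟨j, ?_⟩
      simpa using hj'
    have hcard := Subgroup.card_le_of_le hle
    rw [hM, card_N_zpowers3 h _ hyG] at hcard
    omega
  · have hcount : Nat.card {m : M // orderOf m = 3} = 8 := by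
      rw [card_orderOf_eq_prime hP3, hn4]
    have hM2 : Nat.card M = 2 ^ 2 * 3 := by norm_num [hM]
    obtain ⟨S⟩ : Nonempty (Sylow 2 M) := inferInstance
    have hS : Nat.card (S : Subgroup M) = 4 := by
      simpa using card_sylow_of_card_eq hM2 (by norm_num) S
    have hB : Nat.card {m : M // ¬ orderOf m = 3} = 4 := by
      have h1 := Nat.card_congr (Equiv.sumCompl (fun m : M => orderOf m = 3))
      rw [Nat.card_sum, hcount, hM] at h1
      omega
    have hS3 : ∀ s : M, s ∈ (S : Subgroup M) → ¬ orderOf s = 3 := by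
      intro s hs h3
      have := Subgroup.orderOf_dvd_natCard _ hs
      rw [hS, h3] at this
      omega
    have hSB : ∀ m : M, ¬ orderOf m = 3 → m ∈ (S : Subgroup M) := by
      let f : ↥(S : Subgroup M) → {m : M // ¬ orderOf m = 3} := fun s => ⟨s.1, hS3 s.1 s.2⟩
      have hf : Function.Injective f := fun a b hab => by
        have hv := congrArg Subtype.val hab
        exact Subtype.ext hv
      have hbij := hf.bijective_of_nat_card_le (by rw [hB, hS])
      intro m hm
      obtain ⟨s, hs⟩ := hbij.2 ⟨m, hm⟩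
      have h1 : (s : M) = m := congrArg Subtype.val hs
      rw [← h1]
      exact s.2
    set V : Subgroup G := (S : Subgroup M).map M.subtype with hV
    have hVcard : Nat.card V = 4 := by
      rw [hV, Subgroup.card_map_of_injective M.subtype_injective, hS]
    have hMN : M ≤ Subgroup.normalizer (V : Set G) := by
      apply le_normalizer_of_conj_mem
      intro m hm v hv
      rw [hV, Subgroup.mem_map] at hv ⊢
      obtain ⟨s, hs, rfl⟩ := hv
      refine ⟨⟨m, hm⟩ * s * ⟨m, hm⟩⁻¹, ?_, rfl⟩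
      apply hSB
      rw [orderOf_conj']
      exact hS3 s hs
    by_cases h4 : ∃ u ∈ V, orderOf u = 4
    · exfalso
      obtain ⟨u, huV, hu4⟩ := h4
      have hVz : V = Subgroup.zpowers u :=
        (Subgroup.eq_of_le_of_card_ge (Subgroup.zpowers_le.mpr huV)
          (by rw [hVcard, Nat.card_zpowers, hu4])).symm
      have hyN := hMN y.2
      have h1 : (y : G) * u * (y : G)⁻¹ ∈ Subgroup.zpowers u := by
        rw [← hVz]
        exact (Subgroup.mem_normalizer_iff.mp hyN u).mp huV
      have hord : orderOf ((y : G) * u * (y : G)⁻¹) = 4 := by rw [orderOf_conj', hu4]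
      have hu2 : orderOf (u ^ 2) = 2 := by
        rw [orderOf_pow_of_dvd (by norm_num) (by rw [hu4]; norm_num), hu4]
      have hu44 : u ^ 4 = 1 := by rw [← hu4, pow_orderOf_eq_one]
      have hcomm : (y : G) * u = u * (y : G) := by
        rcases mem_zpowers_four hu4 _ h1 with c | c | c | c
        · rw [c, orderOf_one] at hord; omega
        · calc (y : G) * u = ((y : G) * u * (y : G)⁻¹) * (y : G) := by group
            _ = u * (y : G) := by rw [c]
        · rw [c, hu2] at hord; omega
        · -- y u y⁻¹ = u³ = u⁻¹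
          have hinv : u ^ 3 = u⁻¹ := by
            apply eq_inv_of_mul_eq_one_left
            rw [← pow_succ]
            exact hu44
          rw [hinv] at c
          -- y² u y⁻² = u
          have hy3 : (y : G) ^ 3 = 1 := by rw [← hyG, pow_orderOf_eq_one]
          have c' : (y : G) * u⁻¹ * (y : G)⁻¹ = u := by
            calc (y : G) * u⁻¹ * (y : G)⁻¹ = ((y : G) * u * (y : G)⁻¹)⁻¹ := by group
              _ = u⁻¹⁻¹ := by rw [c]
              _ = u := inv_inv u
          have c2 : (y : G) ^ 2 * u * ((y : G) ^ 2)⁻¹ = u := by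
            calc (y : G) ^ 2 * u * ((y : G) ^ 2)⁻¹
                = (y : G) * ((y : G) * u * (y : G)⁻¹) * (y : G)⁻¹ := by rw [pow_two]; group
              _ = (y : G) * u⁻¹ * (y : G)⁻¹ := by rw [c]
              _ = u := c'
          have hyinv : (y : G) ^ 2 = (y : G)⁻¹ := by
            apply eq_inv_of_mul_eq_one_left
            rw [← pow_succ]
            exact hy3
          rw [hyinv, inv_inv] at c2
          calc (y : G) * u = (y : G) * ((y : G)⁻¹ * u * (y : G)) := by rw [c2]
            _ = u * (y : G) := by group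
      have hmem : u ∈ Subgroup.centralizer ({(y : G)} : Set G) := by
        rw [Subgroup.mem_centralizer_iff]
        intro w hw
        rw [Set.mem_singleton_iff] at hw
        rw [hw]
        exact hcomm
      rw [cent3 h _ hyG] at hmem
      have := Subgroup.orderOf_dvd_natCard _ hmem
      rw [Nat.card_zpowers, hyG, hu4] at this
      omega
    · push Not at h4
      have hVK : IsKleinFour V := by
        refine ⟨hVcard, ?_⟩
        have hdvd2 : Monoid.exponent V ∣ 2 := by
          apply Monoid.exponent_dvd_of_forall_pow_eq_one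
          intro v
          have h1 : orderOf (v : G) ∣ 4 := hVcard ▸ Subgroup.orderOf_dvd_natCard _ v.2
          have h2 := h4 v v.2
          have h3 : orderOf (v : G) ∣ 2 := by
            have hle := Nat.le_of_dvd (by norm_num) h1
            have hpos := orderOf_pos (v : G)
            generalize orderOf (v : G) = n at *
            interval_cases n <;> omega
          exact Subtype.ext (by simpa using orderOf_dvd_iff_pow_eq_one.mp h3)
        rcases (Nat.dvd_prime Nat.prime_two).mp hdvd2 with h1 | h1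
        · exfalso
          rw [Monoid.exp_eq_one_iff] at h1
          have := Nat.card_eq_one_iff_unique.mpr ⟨h1, ⟨1⟩⟩
          omega
        · exact h1
      exact ⟨Subgroup.normalizer (V : Set G), hMN, card_normalizer_klein h V hVK⟩

theorem coatom_card (h : Nat.card G = 168) (M : Subgroup G) (hM : IsCoatom M) :
    Nat.card M = 24 ∨ Nat.card M = 21 := by
  have hle := card_le_of_ne_top h M hM.1
  have hdvd : Nat.card M ∣ 168 := h ▸ Subgroup.card_subgroup_dvd_card M
  have key : ∀ K : Subgroup G, M ≤ K → Nat.card K ≠ 168 → Nat.card M = Nat.card K := by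
    intro K hMK hK
    have hKtop : K ≠ ⊤ := by
      rintro rfl
      rw [Subgroup.card_top, h] at hK
      exact hK rfl
    rw [(hM.le_iff_eq hKtop).mp hMK]
  by_cases h7 : 7 ∣ Nat.card M
  · right
    obtain ⟨x, hx⟩ := exists_prime_orderOf_dvd_card' 7 h7
    have hxG : orderOf (x : G) = 7 := by rw [Subgroup.orderOf_coe]; exact hx
    have h1 := key _ (le_N_of_card_lt (by norm_num) M (by omega) (x : G) x.2 hxG)
      (by rw [card_N_zpowers7 h _ hxG]; norm_num)
    rw [h1, card_N_zpowers7 h _ hxG]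
  · left
    have key24 : (∃ K : Subgroup G, M ≤ K ∧ Nat.card K = 24) → Nat.card M = 24 := by
      rintro ⟨K, hMK, hK⟩
      rw [key K hMK (by rw [hK]; norm_num), hK]
    apply key24
    have h24 : Nat.card M ∣ 24 := by
      have hcop : Nat.Coprime (Nat.card M) 7 :=
        Nat.Coprime.symm ((Nat.Prime.coprime_iff_not_dvd (by norm_num)).mpr h7)
      have h168 : Nat.card M ∣ 24 * 7 := by norm_num; exact hdvd
      exact hcop.dvd_of_dvd_mul_right h168
    by_cases h3 : 3 ∣ Nat.card M
    · obtain ⟨y, hy⟩ := exists_prime_orderOf_dvd_card' 3 h3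
      have hyG : orderOf (y : G) = 3 := by rw [Subgroup.orderOf_coe]; exact hy
      by_cases h9 : Nat.card M < 9
      · exact small3 h M h9 (y : G) y.2 hyG
      · by_cases h12 : Nat.card M = 12
        · exact case12 h M h12
        · have h24' : Nat.card M = 24 := by
            have hpos : 0 < Nat.card M := Nat.card_pos
            generalize Nat.card M = n at *
            interval_cases n <;> omega
          exact ⟨M, le_refl M, h24'⟩
    · apply two_group_le h M
      have hcop : Nat.Coprime (Nat.card M) 3 :=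
        Nat.Coprime.symm ((Nat.Prime.coprime_iff_not_dvd (by norm_num)).mpr h3)
      have h83 : Nat.card M ∣ 8 * 3 := by norm_num; exact h24
      exact hcop.dvd_of_dvd_mul_right h83

theorem iso_of_card24 (h : Nat.card G = 168) (M : Subgroup G) (hM : Nat.card M = 24) :
    Nonempty (↥M ≃* Equiv.Perm (Fin 4)) := by
  apply Cfsg.Agent.S1012.result hM
  intro g hg
  have h6 : orderOf (g : G) = 6 := by rw [Subgroup.orderOf_coe]; exact hg
  rcases order_cases5 h (g : G) with c | c | c | c | c <;> omega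

theorem coatom_of_card24 (h : Nat.card G = 168) (K : Subgroup G) (hK : Nat.card K = 24) :
    IsCoatom K := by
  refine ⟨?_, ?_⟩
  · rintro rfl
    rw [Subgroup.card_top, h] at hK
    omega
  · intro L hKL
    have h1 : 24 ∣ Nat.card L := hK ▸ Subgroup.card_dvd_of_le hKL.le
    have h2 : Nat.card L ∣ 168 := h ▸ Subgroup.card_subgroup_dvd_card L
    have h3 : Nat.card L ≠ 24 := by
      intro h0
      have : K = L := Subgroup.eq_of_le_of_card_ge hKL.le (by rw [h0, hK])
      exact hKL.ne this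
    have hle := Nat.le_of_dvd (by norm_num) h2
    have h4 : Nat.card L = 168 := by
      generalize Nat.card L = n at *
      interval_cases n <;> omega
    exact Subgroup.eq_top_of_card_eq L (by rw [h4, h])

theorem eq_N7_of_card21 (h : Nat.card G = 168) (M : Subgroup G) (hM : Nat.card M = 21) :
    ∃ P : Sylow 7 G, M = Subgroup.normalizer ((P : Subgroup G) : Set G) := by
  obtain ⟨x, hx⟩ := exists_prime_orderOf_dvd_card' 7 (show 7 ∣ Nat.card M by rw [hM]; norm_num)
  have hxG : orderOf (x : G) = 7 := by rw [Subgroup.orderOf_coe]; exact hx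
  obtain ⟨P, hP⟩ := exists_sylow_eq_zpowers (card7 h) (x : G) hxG
  refine ⟨P, ?_⟩
  rw [hP]
  exact Subgroup.eq_of_le_of_card_ge
    (le_N_of_card_lt (by norm_num) M (by omega) (x : G) x.2 hxG)
    (by rw [card_N_zpowers7 h _ hxG, hM])

theorem not_comm_of_card21 (h : Nat.card G = 168) (M : Subgroup G) (hM : Nat.card M = 21) :
    ¬ IsMulCommutative ↥M := by
  intro hc
  obtain ⟨x, hx⟩ := exists_prime_orderOf_dvd_card' 7 (show 7 ∣ Nat.card M by rw [hM]; norm_num)
  have hxG : orderOf (x : G) = 7 := by rw [Subgroup.orderOf_coe]; exact hx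
  have hle : M ≤ Subgroup.centralizer ({(x : G)} : Set G) := by
    intro m hm
    rw [Subgroup.mem_centralizer_iff]
    intro w hw
    rw [Set.mem_singleton_iff] at hw
    rw [hw]
    have := hc.is_comm.comm x ⟨m, hm⟩
    exact congrArg Subtype.val this
  have hcard := Subgroup.card_le_of_le hle
  rw [cent7 h _ hxG, Nat.card_zpowers, hxG, hM] at hcard
  omega

theorem sylow_smul_eq_map_conj {p : ℕ} (P : Sylow p G) (g : G) :
    ((g • P : Sylow p G) : Subgroup G) = (P : Subgroup G).map (MulAut.conj g).toMonoidHom := by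
  ext x
  rw [mem_map_conj]
  exact mem_smul_sylow_iff P g x

theorem conj_of_card21 (h : Nat.card G = 168) (M M' : Subgroup G) (hM : Nat.card M = 21)
    (hM' : Nat.card M' = 21) : ∃ g : G, M' = M.map (MulAut.conj g).toMonoidHom := by
  obtain ⟨P, hP⟩ := eq_N7_of_card21 h M hM
  obtain ⟨P', hP'⟩ := eq_N7_of_card21 h M' hM'
  obtain ⟨g, hg⟩ := MulAction.exists_smul_eq G P P'
  refine ⟨g, ?_⟩
  rw [hP', hP, ← hg, sylow_smul_eq_map_conj, normalizer_map_conj]

theorem exists_klein_normalizer_eq (h : Nat.card G = 168) (M : Subgroup G)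
    (ψ : ↥M ≃* Equiv.Perm (Fin 4)) :
    ∃ V : Subgroup G, IsKleinFour ↥V ∧ M = Subgroup.normalizer (V : Set G) := by
  obtain ⟨V4, hV4n, hV4k⟩ := S4_normal_klein
  set V' : Subgroup M := V4.map ψ.symm.toMonoidHom with hV'
  have hV'n : V'.Normal := hV4n.map _ ψ.symm.surjective
  set V : Subgroup G := V'.map M.subtype with hV
  have hVk : IsKleinFour V :=
    isKleinFour_of_mulEquiv
      ((V4.equivMapOfInjective _ ψ.symm.injective).trans
        (V'.equivMapOfInjective M.subtype M.subtype_injective)) hV4k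
  have hle : M ≤ Subgroup.normalizer (V : Set G) := by
    apply le_normalizer_of_conj_mem
    intro m hm v hv
    rw [hV, Subgroup.mem_map] at hv ⊢
    obtain ⟨s, hs, rfl⟩ := hv
    exact ⟨⟨m, hm⟩ * s * ⟨m, hm⟩⁻¹, hV'n.conj_mem s hs ⟨m, hm⟩, rfl⟩
  have hcard : Nat.card M = 24 := by
    rw [Nat.card_congr ψ.toEquiv, Nat.card_perm, Nat.card_fin]
    rfl
  exact ⟨V, hVk, Subgroup.eq_of_le_of_card_ge hle
    (by rw [card_normalizer_klein h V hVk, hcard])⟩

theorem klein_eq_of_normalizer_eq (h : Nat.card G = 168) (U V : Subgroup G)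
    (hU : IsKleinFour ↥U) (hV : IsKleinFour ↥V)
    (hN : Subgroup.normalizer (U : Set G) = Subgroup.normalizer (V : Set G)) : U = V := by
  have hpg : IsPGroup 2 U := by
    apply IsPGroup.of_card (n := 2)
    rw [hU.card_four]; norm_num
  have hpgV : IsPGroup 2 V := by
    apply IsPGroup.of_card (n := 2)
    rw [hV.card_four]; norm_num
  obtain ⟨T, hUT⟩ := hpg.exists_le_sylow
  obtain ⟨z, hz⟩ := exists_cen h T
  obtain ⟨a, haU, ha1, haz⟩ := exists_mem_klein_ne h hz U hU hUT
  have ha2 : orderOf a = 2 := orderOf_eq_prime (sq_eq_one_of_mem_klein hU haU) ha1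
  obtain ⟨Ta, hTa⟩ := exists_sylow_cen h a ha2
  have hUTa : U ≤ (Ta : Subgroup G) := by
    rw [← cent_cen h hTa]
    intro u hu
    rw [Subgroup.mem_centralizer_iff]
    intro y hy
    rw [Set.mem_singleton_iff] at hy
    subst hy
    exact comm_of_mem_klein hU haU hu
  have hTne : T ≠ Ta := by
    intro h0
    subst h0
    exact haz (cen_unique h hTa hz)
  have hle : ∀ T' : Sylow 2 G, U ≤ (T' : Subgroup G) → V ≤ (T' : Subgroup G) := by
    intro T' hUT'
    have h1 : (T' : Subgroup G) ≤ Subgroup.normalizer (V : Set G) :=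
      hN ▸ klein_le_normalizer h T' U hU.card_four hUT'
    have h2 : IsPGroup 2 ((T' : Subgroup G) ⊔ V : Subgroup G) :=
      IsPGroup.to_sup_of_normal_right' T'.isPGroup' hpgV h1
    have h3 := T'.is_maximal' h2 le_sup_left
    exact sup_eq_left.mp h3
  have hVT := hle T hUT
  have hVTa := hle Ta hUTa
  -- T ⊓ Ta = U
  have hI : (T : Subgroup G) ⊓ (Ta : Subgroup G) = U := by
    symm
    apply Subgroup.eq_of_le_of_card_ge (le_inf hUT hUTa)
    have h1 : Nat.card ((T : Subgroup G) ⊓ (Ta : Subgroup G) : Subgroup G) ∣ 8 :=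
      (card2 h T) ▸ Subgroup.card_dvd_of_le inf_le_left
    have h2 : Nat.card ((T : Subgroup G) ⊓ (Ta : Subgroup G) : Subgroup G) ≠ 8 := by
      intro h8
      have e1 : (T : Subgroup G) ⊓ (Ta : Subgroup G) = (T : Subgroup G) :=
        Subgroup.eq_of_le_of_card_ge inf_le_left (by rw [h8, card2 h T])
      have e2 : (T : Subgroup G) ⊓ (Ta : Subgroup G) = (Ta : Subgroup G) :=
        Subgroup.eq_of_le_of_card_ge inf_le_right (by rw [h8, card2 h Ta])
      exact hTne (Sylow.ext (e1.symm.trans e2))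
    have hle' := Nat.le_of_dvd (by norm_num) h1
    rw [hU.card_four]
    have hpos : 0 < Nat.card ((T : Subgroup G) ⊓ (Ta : Subgroup G) : Subgroup G) := Nat.card_pos
    generalize Nat.card ((T : Subgroup G) ⊓ (Ta : Subgroup G) : Subgroup G) = n at *
    interval_cases n <;> omega
  symm
  apply Subgroup.eq_of_le_of_card_ge
  · rw [← hI]
    exact le_inf hVT hVTa
  · rw [hU.card_four, hV.card_four]

end

end Cfsg.Agent.Lead.Simple168
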