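import Mathlib
import Cfsg.Agent.Lib.Lead.Simple168D

set_option autoImplicit false

namespace Cfsg.Agent.Lead.Simple168

open Equiv

/-- `x ↦ x + 1` on `Fin 7` -/
def pc : Perm (Fin 7) :=
  ⟨![1, 2, 3, 4, 5, 6, 0], ![6, 0, 1, 2, 3, 4, 5], by unfold Function.LeftInverse; decide,
    by unfold Function.RightInverse Function.LeftInverse; decide⟩

/-- `x ↦ 2 x` on `Fin 7` -/
def pd : Perm (Fin 7) :=
  ⟨![0, 2, 4, 6, 1, 3, 5], ![0, 4, 1, 5, 2, 6, 3], by unfold Function.LeftInverse; decide,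
    by unfold Function.RightInverse Function.LeftInverse; decide⟩

/-- `x ↦ - x` on `Fin 7` -/
def pnu : Perm (Fin 7) :=
  ⟨![0, 6, 5, 4, 3, 2, 1], ![0, 6, 5, 4, 3, 2, 1], by unfold Function.LeftInverse; decide,
    by unfold Function.RightInverse Function.LeftInverse; decide⟩

/-- the shape of an involution inverting `pd` -/
def pF (u v : Fin 7) : Fin 7 → Fin 7 := ![0, u, 4 * u, v, 2 * u, 2 * v, 4 * v]

/-- the involution with parameters `u`, `v` (or `1` for bad parameters) -/
def pT (u v : Fin 7) : Perm (Fin 7) :=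
  if h : ∀ x, pF u v (pF u v x) = x then Function.Involutive.toPerm (pF u v) h else 1

set_option maxRecDepth 100000 in
theorem pc_eq : pc = finRotate 7 := by decide

set_option maxRecDepth 100000 in
theorem pc_pow_zero : ∀ x : Fin 7, (pc ^ (x : ℕ)) 0 = x := by decide

set_option maxRecDepth 100000 in
theorem pc_pd_apply : ∀ m x : Fin 7, (pc ^ (2 * (x : ℕ))) m = (pc ^ (m : ℕ) * pd) x := by decide

set_option maxRecDepth 100000 in
theorem pc_conj_pd : ∀ m : Fin 7, pc ^ (m : ℕ) * (pc ^ (m : ℕ) * pd) * (pc ^ (m : ℕ))⁻¹ = pd := by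
  decide

set_option maxRecDepth 100000 in
theorem pd_fix : ∀ w : Fin 7, pd w = w → w = 0 := by decide

set_option maxRecDepth 100000 in
theorem pd_inv_apply : ∀ w : Fin 7, pd⁻¹ w = 4 * w := by decide

set_option maxRecDepth 100000 in
theorem pF_cases : ∀ u v : Fin 7, (∀ x, pF u v (pF u v x) = x) →
    (u = 1 ∧ v = 3) ∨ (u = 2 ∧ v = 6) ∨ (u = 4 ∧ v = 5) ∨
    (u = 1 ∧ v = 6) ∨ (u = 2 ∧ v = 5) ∨ (u = 4 ∧ v = 3) ∨
    (u = 1 ∧ v = 5) ∨ (u = 2 ∧ v = 3) ∨ (u = 4 ∧ v = 6) ∨
    (u = 3 ∧ v = 1) ∨ (u = 5 ∧ v = 4) ∨ (u = 6 ∧ v = 2) := by decide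

/-- a permutation that cannot be the image of an element of a simple group of order 168 -/
def BadPerm (w : Perm (Fin 7)) : Prop := w ^ 7 ≠ 1 ∧ w ^ 3 ≠ 1 ∧ w ^ 8 ≠ 1

instance (w : Perm (Fin 7)) : Decidable (BadPerm w) := by unfold BadPerm; infer_instance

set_option maxRecDepth 100000 in
theorem bad15 : BadPerm (pc * pc * pT 1 5) := by decide
set_option maxRecDepth 100000 in
theorem bad23 : BadPerm (pc * pT 2 3) := by decide
set_option maxRecDepth 100000 in
theorem bad46 : BadPerm (pc * pT 4 6 * pd) := by decide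
set_option maxRecDepth 100000 in
theorem bad31 : BadPerm (pc * pT 3 1) := by decide
set_option maxRecDepth 100000 in
theorem bad54 : BadPerm (pc * pT 5 4) := by decide
set_option maxRecDepth 100000 in
theorem bad62 : BadPerm (pc * pT 6 2) := by decide

set_option maxRecDepth 100000 in
theorem good26 : pT 2 6 = pT 1 3 * pd ^ 2 := by decide
set_option maxRecDepth 100000 in
theorem good45 : pT 4 5 = pT 1 3 * pd ^ 1 := by decide
set_option maxRecDepth 100000 in
theorem good25 : pT 2 5 = pT 1 6 * pd ^ 2 := by decide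
set_option maxRecDepth 100000 in
theorem good43 : pT 4 3 = pT 1 6 * pd ^ 1 := by decide
set_option maxRecDepth 100000 in
theorem nu_conj : pnu * pc * pnu⁻¹ = pc⁻¹ ∧ pnu * pd * pnu⁻¹ = pd ∧
    pnu * pT 1 6 * pnu⁻¹ = pT 1 3 * pd ^ 1 := by decide

theorem conj_of_order_seven (A : Perm (Fin 7)) (hA : orderOf A = 7) :
    ∃ σ : Perm (Fin 7), σ * A * σ⁻¹ = pc := by
  have h7 : (orderOf A).Prime := by rw [hA]; norm_num
  obtain ⟨n, hn⟩ := Equiv.Perm.cycleType_prime_order h7
  have hsum : A.cycleType.sum ≤ 7 := by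
    rw [Equiv.Perm.sum_cycleType]
    exact (Finset.card_le_univ _).trans (by simp)
  rw [hn, Multiset.sum_replicate, hA, smul_eq_mul] at hsum
  have hn0 : n = 0 := by omega
  have hct : A.cycleType = pc.cycleType := by
    rw [hn, hn0, hA, pc_eq, cycleType_finRotate_of_le (by norm_num)]
    rfl
  exact isConj_iff.mp (Equiv.Perm.isConj_iff_cycleType_eq.mpr hct)

theorem eq_pc_pow_mul_pd (B : Perm (Fin 7)) (hB : B * pc * B⁻¹ = pc ^ 2) :
    B = pc ^ ((B 0 : Fin 7) : ℕ) * pd := by
  have h1 : B * pc = pc ^ 2 * B := by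
    rw [← hB]; group
  have key : ∀ k : ℕ, ∀ y, B ((pc ^ k) y) = (pc ^ (2 * k)) (B y) := by
    intro k
    induction k with
    | zero => intro y; simp
    | succ k ih =>
      intro y
      rw [pow_succ, Equiv.Perm.mul_apply, ih]
      have := congrArg (fun f : Perm (Fin 7) => f y) h1
      simp only [Equiv.Perm.mul_apply] at this
      rw [this, ← Equiv.Perm.mul_apply, ← pow_add]
      congr 2
  ext x
  have hx := key (x : ℕ) 0
  rw [pc_pow_zero x] at hx
  rw [hx, pc_pd_apply]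

theorem eq_pT (T : Perm (Fin 7)) (hTT : T * T = 1) (hTd : T * pd * T⁻¹ = pd⁻¹) :
    ∃ u v : Fin 7, T = pT u v ∧
    ((u = 1 ∧ v = 3) ∨ (u = 2 ∧ v = 6) ∨ (u = 4 ∧ v = 5) ∨
    (u = 1 ∧ v = 6) ∨ (u = 2 ∧ v = 5) ∨ (u = 4 ∧ v = 3) ∨
    (u = 1 ∧ v = 5) ∨ (u = 2 ∧ v = 3) ∨ (u = 4 ∧ v = 6) ∨
    (u = 3 ∧ v = 1) ∨ (u = 5 ∧ v = 4) ∨ (u = 6 ∧ v = 2)) := by
  have h1 : T * pd = pd⁻¹ * T := by
    rw [← hTd]; group
  have key : ∀ y, T (pd y) = 4 * T y := by
    intro y
    have := congrArg (fun f : Perm (Fin 7) => f y) h1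
    simp only [Equiv.Perm.mul_apply] at this
    rw [this, pd_inv_apply]
  have h0 : T 0 = 0 := by
    apply pd_fix
    have := key 0
    have hd0 : pd 0 = 0 := by decide
    rw [hd0] at this
    have h2 : ∀ w : Fin 7, w = 4 * w → pd w = w := by decide
    exact h2 _ this
  have hF : ∀ x, T x = pF (T 1) (T 3) x := by
    have e2 : T 2 = 4 * T 1 := by
      have := key 1
      rwa [show pd 1 = 2 by decide] at this
    have e4 : T 4 = 2 * T 1 := by
      have := key 2
      rw [show pd 2 = 4 by decide, e2] at this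
      rw [this]
      generalize T 1 = u
      revert u; decide
    have e6 : T 6 = 4 * T 3 := by
      have := key 3
      rwa [show pd 3 = 6 by decide] at this
    have e5 : T 5 = 2 * T 3 := by
      have := key 6
      rw [show pd 6 = 5 by decide, e6] at this
      rw [this]
      generalize T 3 = u
      revert u; decide
    intro x
    fin_cases x
    · exact h0
    · rfl
    · exact e2
    · rfl
    · exact e4
    · exact e5
    · exact e6
  have hinv : ∀ x, pF (T 1) (T 3) (pF (T 1) (T 3) x) = x := by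
    intro x
    rw [← hF, ← hF, ← Equiv.Perm.mul_apply, hTT]
    rfl
  refine ⟨T 1, T 3, ?_, pF_cases _ _ hinv⟩
  unfold pT
  rw [dif_pos hinv]
  ext x
  rw [hF x]
  rfl

section
variable {G : Type*} [Group G] [Finite G] [IsSimpleGroup G]

theorem conj_iter {H : Type*} [Group H] (a b : H) (i : ℕ) (hi : b * a * b⁻¹ = a ^ i) (k : ℕ) :
    b ^ k * a * (b ^ k)⁻¹ = a ^ (i ^ k) := by
  induction k with
  | zero => simp
  | succ k ih =>
    calc b ^ (k + 1) * a * (b ^ (k + 1))⁻¹ = b * (b ^ k * a * (b ^ k)⁻¹) * b⁻¹ := by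
          rw [pow_succ']; group
      _ = b * a ^ (i ^ k) * b⁻¹ := by rw [ih]
      _ = (b * a * b⁻¹) ^ (i ^ k) := by rw [conj_pow]
      _ = a ^ (i ^ (k + 1)) := by rw [hi, ← pow_mul, pow_succ']

theorem exists_pow_of_mem_normalizer {H : Type*} [Group H] (a b : H) (n : ℕ) (hn : 0 < n)
    (ha : orderOf a = n)
    (hb : b ∈ Subgroup.normalizer ((Subgroup.zpowers a : Subgroup H) : Set H)) :
    ∃ i < n, b * a * b⁻¹ = a ^ i := by
  have hmem : b * a * b⁻¹ ∈ Subgroup.zpowers a :=
    (Subgroup.mem_normalizer_iff.mp hb a).mp (Subgroup.mem_zpowers a)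
  have hfin : IsOfFinOrder a := by
    rw [← orderOf_pos_iff, ha]; exact hn
  rw [← hfin.mem_powers_iff_mem_zpowers] at hmem
  obtain ⟨k, hk⟩ := hmem
  refine ⟨k % n, Nat.mod_lt _ hn, ?_⟩
  rw [← hk, ← ha, pow_mod_orderOf]

theorem exists_gens (h : Nat.card G = 168) :
    ∃ a b t : G, orderOf a = 7 ∧ b * a * b⁻¹ = a ^ 2 ∧ t * t = 1 ∧ t * b * t⁻¹ = b⁻¹ ∧
      Subgroup.closure {a, b, t} = ⊤ := by
  obtain ⟨a, ha⟩ := exists_prime_orderOf_dvd_card' (G := G) 7 (by rw [h]; norm_num)
  -- an element of order 3 normalizing ⟨a⟩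
  have hb0 : ∃ b : G, orderOf b = 3 ∧ b * a * b⁻¹ = a ^ 2 := by
    set N := Subgroup.normalizer ((Subgroup.zpowers a : Subgroup G) : Set G) with hN
    have hcN : Nat.card N = 21 := card_N_zpowers7 h a ha
    haveI : Fact (Nat.Prime 3) := ⟨by norm_num⟩
    obtain ⟨b', hb'⟩ := exists_prime_orderOf_dvd_card' (G := N) 3 (by rw [hcN]; norm_num)
    have hb : orderOf (b' : G) = 3 := by rw [Subgroup.orderOf_coe]; exact hb'
    obtain ⟨i, hi7, hi⟩ := exists_pow_of_mem_normalizer a (b' : G) 7 (by norm_num) ha b'.2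
    have h3 := conj_iter a (b' : G) i hi 3
    have hb3 : (b' : G) ^ 3 = 1 := by rw [← hb]; exact pow_orderOf_eq_one _
    rw [hb3, one_mul, inv_one, mul_one] at h3
    have hmod : 1 ≡ i ^ 3 [MOD 7] := by
      rw [← ha, ← pow_eq_pow_iff_modEq, pow_one]; exact h3
    have hcases : i = 1 ∨ i = 2 ∨ i = 4 := by
      clear h3 hi
      interval_cases i
      · exfalso; revert hmod; decide
      · left; rfl
      · right; left; rfl
      · exfalso; revert hmod; decide
      · right; right; rfl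
      · exfalso; revert hmod; decide
      · exfalso; revert hmod; decide
    rcases hcases with rfl | rfl | rfl
    · exfalso
      rw [pow_one] at hi
      have hcomm : (b' : G) ∈ Subgroup.centralizer {a} := by
        rw [Subgroup.mem_centralizer_singleton_iff]
        calc (b' : G) * a = (b' : G) * a * (b' : G)⁻¹ * (b' : G) := by group
          _ = a * (b' : G) := by rw [hi]
      rw [cent7 h a ha] at hcomm
      have := orderOf_dvd_of_mem_zpowers hcomm
      rw [hb, ha] at this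
      omega
    · exact ⟨b', hb, hi⟩
    · refine ⟨(b' : G) ^ 2, ?_, ?_⟩
      · have h1 : ((b' : G) ^ 2) ^ 3 = 1 := by rw [← pow_mul, show 2 * 3 = 3 * 2 by rfl, pow_mul, hb3, one_pow]
        have h2 : (b' : G) ^ 2 ≠ 1 := by
          intro h2
          have := orderOf_dvd_of_pow_eq_one h2
          rw [hb] at this
          omega
        exact orderOf_eq_prime h1 h2
      · have := conj_iter a (b' : G) 4 hi 2
        rw [this]
        rw [pow_eq_pow_iff_modEq, ha]
        decide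
  obtain ⟨b, hb, hba⟩ := hb0
  have hb3 : b ^ 3 = 1 := by rw [← hb]; exact pow_orderOf_eq_one _
  -- an involution inverting b
  have ht0 : ∃ t : G, orderOf t = 2 ∧ t * b * t⁻¹ = b⁻¹ := by
    set N := Subgroup.normalizer ((Subgroup.zpowers b : Subgroup G) : Set G) with hN
    have hcN : Nat.card N = 6 := card_N_zpowers3 h b hb
    obtain ⟨t', ht'⟩ := exists_prime_orderOf_dvd_card' (G := N) 2 (by rw [hcN]; norm_num)
    have ht : orderOf (t' : G) = 2 := by rw [Subgroup.orderOf_coe]; exact ht'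
    obtain ⟨j, hj3, hj⟩ := exists_pow_of_mem_normalizer b (t' : G) 3 (by norm_num) hb t'.2
    refine ⟨t', ht, ?_⟩
    interval_cases j
    · exfalso
      rw [pow_zero] at hj
      have : b = 1 := by
        calc b = (t' : G)⁻¹ * ((t' : G) * b * (t' : G)⁻¹) * (t' : G) := by group
          _ = 1 := by rw [hj]; group
      rw [this, orderOf_one] at hb
      omega
    · exfalso
      rw [pow_one] at hj
      have hcomm : (t' : G) ∈ Subgroup.centralizer {b} := by
        rw [Subgroup.mem_centralizer_singleton_iff]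
        calc (t' : G) * b = (t' : G) * b * (t' : G)⁻¹ * (t' : G) := by group
          _ = b * (t' : G) := by rw [hj]
      rw [cent3 h b hb] at hcomm
      have := orderOf_dvd_of_mem_zpowers hcomm
      rw [hb, ht] at this
      omega
    · rw [hj]
      apply eq_inv_of_mul_eq_one_left
      rw [← pow_succ]
      exact hb3
  obtain ⟨t, ht, htb⟩ := ht0
  refine ⟨a, b, t, ha, hba, ?_, htb, ?_⟩
  · rw [← pow_two, ← ht]; exact pow_orderOf_eq_one _
  · by_contra hne
    have hle := card_le_of_ne_top h _ hne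
    set C := Subgroup.closure ({a, b, t} : Set G) with hC
    have haC : a ∈ C := Subgroup.subset_closure (by simp)
    have hbC : b ∈ C := Subgroup.subset_closure (by simp)
    have htC : t ∈ C := Subgroup.subset_closure (by simp)
    have d7 : 7 ∣ Nat.card C := ha ▸ Subgroup.orderOf_dvd_natCard C haC
    have d3 : 3 ∣ Nat.card C := hb ▸ Subgroup.orderOf_dvd_natCard C hbC
    have d2 : 2 ∣ Nat.card C := ht ▸ Subgroup.orderOf_dvd_natCard C htC
    have hpos : 0 < Nat.card C := Nat.card_pos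
    omega

theorem exists_embedding (h : Nat.card G = 168) :
    ∃ φ : G →* Perm (Fin 7), Function.Injective φ := by
  obtain ⟨T⟩ : Nonempty (Sylow 2 G) := inferInstance
  obtain ⟨U, -, hU⟩ := exists_klein_le h T
  set M := Subgroup.normalizer (U : Set G) with hM
  have hcM : Nat.card M = 24 := card_normalizer_klein h U hU
  have hidx : M.index = 7 := by
    have := M.card_mul_index
    rw [h, hcM] at this
    omega
  have hcard : Nat.card (G ⧸ M) = 7 := hidx
  let e : (G ⧸ M) ≃ Fin 7 := Finite.equivFinOfCardEq hcard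
  let φ0 : G →* Perm (G ⧸ M) := MulAction.toPermHom G (G ⧸ M)
  have hinj0 : Function.Injective φ0 := by
    rw [← MonoidHom.ker_eq_bot_iff]
    rcases (φ0.normal_ker).eq_bot_or_eq_top with h1 | h1
    · exact h1
    · exfalso
      have h2 : M.normalCore = ⊤ := by rw [Subgroup.normalCore_eq_ker]; exact h1
      have h3 : M = ⊤ := top_le_iff.mp (h2 ▸ Subgroup.normalCore_le M)
      rw [h3, Subgroup.card_top, h] at hcM
      omega
  refine ⟨(e.permCongrHom.toMonoidHom).comp φ0, ?_⟩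
  exact e.permCongrHom.injective.comp hinj0

/-- the standard copy of the simple group of order 168 inside `Perm (Fin 7)` -/
def L1 : Subgroup (Perm (Fin 7)) := Subgroup.closure {pc, pd, pT 1 3}

theorem closure_mul_pow {H : Type*} [Group H] (x y z : H) (j : ℕ) :
    Subgroup.closure ({x, y, z * y ^ j} : Set H) = Subgroup.closure {x, y, z} := by
  apply le_antisymm
  · rw [Subgroup.closure_le]
    rintro w (rfl | rfl | rfl)
    · exact Subgroup.subset_closure (by simp)
    · exact Subgroup.subset_closure (by simp)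
    · exact Subgroup.mul_mem _ (Subgroup.subset_closure (by simp))
        (Subgroup.pow_mem _ (Subgroup.subset_closure (by simp)) j)
  · rw [Subgroup.closure_le]
    rintro w (rfl | rfl | rfl)
    · exact Subgroup.subset_closure (by simp)
    · exact Subgroup.subset_closure (by simp)
    · have h1 : w * y ^ j ∈ Subgroup.closure ({x, y, w * y ^ j} : Set H) :=
        Subgroup.subset_closure (by simp)
      have h2 : y ∈ Subgroup.closure ({x, y, w * y ^ j} : Set H) :=
        Subgroup.subset_closure (by simp)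
      have h3 := Subgroup.mul_mem _ h1 (Subgroup.inv_mem _ (Subgroup.pow_mem _ h2 j))
      rwa [mul_inv_cancel_right] at h3

theorem closure_inv_left {H : Type*} [Group H] (x y z : H) :
    Subgroup.closure ({x⁻¹, y, z} : Set H) = Subgroup.closure {x, y, z} := by
  apply le_antisymm
  · rw [Subgroup.closure_le]
    rintro w (rfl | rfl | rfl)
    · exact Subgroup.inv_mem _ (Subgroup.subset_closure (by simp))
    · exact Subgroup.subset_closure (by simp)
    · exact Subgroup.subset_closure (by simp)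
  · rw [Subgroup.closure_le]
    rintro w (rfl | rfl | rfl)
    · have h1 : w⁻¹ ∈ Subgroup.closure ({w⁻¹, y, z} : Set H) :=
        Subgroup.subset_closure (by simp)
      simpa using Subgroup.inv_mem _ h1
    · exact Subgroup.subset_closure (by simp)
    · exact Subgroup.subset_closure (by simp)

theorem range_eq_closure {H : Type*} [Group H] (ψ : G →* H) (a b t : G)
    (hgen : Subgroup.closure {a, b, t} = ⊤) :
    ψ.range = Subgroup.closure {ψ a, ψ b, ψ t} := by
  rw [MonoidHom.range_eq_map, ← hgen, MonoidHom.map_closure]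
  congr 1
  ext w
  simp only [Set.mem_image, Set.mem_insert_iff, Set.mem_singleton_iff]
  constructor
  · rintro ⟨x, (rfl | rfl | rfl), rfl⟩ <;> simp
  · rintro (rfl | rfl | rfl)
    · exact ⟨a, Or.inl rfl, rfl⟩
    · exact ⟨b, Or.inr (Or.inl rfl), rfl⟩
    · exact ⟨t, Or.inr (Or.inr rfl), rfl⟩

theorem not_bad (h : Nat.card G = 168) (ψ : G →* Perm (Fin 7)) (g : G)
    (hbad : BadPerm (ψ g)) : False := by
  obtain ⟨h7, h3, h8⟩ := hbad
  rcases order_cases h g with ho | ho | ho
  · apply h7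
    have h1 : g ^ 7 = 1 := orderOf_dvd_iff_pow_eq_one.mp (by rw [ho])
    rw [← map_pow, h1, map_one]
  · apply h3
    have h1 : g ^ 3 = 1 := orderOf_dvd_iff_pow_eq_one.mp (by rw [ho])
    rw [← map_pow, h1, map_one]
  · apply h8
    rw [← map_pow, orderOf_dvd_iff_pow_eq_one.mp ho, map_one]

set_option maxRecDepth 100000 in
theorem nu25 : pnu * pT 2 5 * pnu⁻¹ = pT 1 3 * pd ^ 0 := by decide
set_option maxRecDepth 100000 in
theorem nu43 : pnu * pT 4 3 * pnu⁻¹ = pT 1 3 * pd ^ 2 := by decide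

theorem L2case (φ2 : G →* Perm (Fin 7)) (hφ2 : Function.Injective φ2) (a b t : G)
    (hgen : Subgroup.closure {a, b, t} = ⊤) (h2a : φ2 a = pc) (h2b : φ2 b = pd) (j : ℕ)
    (hT : pnu * φ2 t * pnu⁻¹ = pT 1 3 * pd ^ j) :
    ∃ ψ : G →* Perm (Fin 7), Function.Injective ψ ∧ ψ.range = L1 := by
  let φ3 : G →* Perm (Fin 7) := (MulAut.conj pnu).toMonoidHom.comp φ2
  have hφ3 : Function.Injective φ3 := (MulAut.conj pnu).injective.comp hφ2
  have h3a : φ3 a = pc⁻¹ := by
    show MulAut.conj pnu (φ2 a) = pc⁻¹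
    rw [MulAut.conj_apply, h2a]; exact nu_conj.1
  have h3b : φ3 b = pd := by
    show MulAut.conj pnu (φ2 b) = pd
    rw [MulAut.conj_apply, h2b]; exact nu_conj.2.1
  have h3t : φ3 t = pT 1 3 * pd ^ j := by
    show MulAut.conj pnu (φ2 t) = _
    rw [MulAut.conj_apply]; exact hT
  refine ⟨φ3, hφ3, ?_⟩
  rw [range_eq_closure φ3 a b t hgen, h3a, h3b, h3t, closure_inv_left, closure_mul_pow]
  rfl

theorem exists_hom (h : Nat.card G = 168) :
    ∃ ψ : G →* Perm (Fin 7), Function.Injective ψ ∧ ψ.range = L1 := by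
  obtain ⟨φ, hφ⟩ := exists_embedding h
  obtain ⟨a, b, t, ha, hba, htt, htb, hgen⟩ := exists_gens h
  -- conjugate φ a to pc
  have hA : orderOf (φ a) = 7 := by rw [orderOf_injective φ hφ, ha]
  obtain ⟨σ1, hσ1⟩ := conj_of_order_seven (φ a) hA
  let φ1 : G →* Perm (Fin 7) := (MulAut.conj σ1).toMonoidHom.comp φ
  have hφ1 : Function.Injective φ1 := (MulAut.conj σ1).injective.comp hφ
  have h1a : φ1 a = pc := by
    show MulAut.conj σ1 (φ a) = pc
    rw [MulAut.conj_apply]; exact hσ1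
  have h1b : φ1 b * pc * (φ1 b)⁻¹ = pc ^ 2 := by
    rw [← h1a, ← map_inv, ← map_mul, ← map_mul, hba, map_pow]
  have hB := eq_pc_pow_mul_pd (φ1 b) h1b
  set m : Fin 7 := (φ1 b) 0 with hm
  let φ2 : G →* Perm (Fin 7) := (MulAut.conj (pc ^ (m : ℕ))).toMonoidHom.comp φ1
  have hφ2 : Function.Injective φ2 := (MulAut.conj (pc ^ (m : ℕ))).injective.comp hφ1
  have h2a : φ2 a = pc := by
    show MulAut.conj (pc ^ (m : ℕ)) (φ1 a) = pc
    rw [MulAut.conj_apply, h1a]
    have : Commute (pc ^ (m : ℕ)) pc := Commute.pow_left (Commute.refl pc) _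
    rw [this.eq, mul_inv_cancel_right]
  have h2b : φ2 b = pd := by
    show MulAut.conj (pc ^ (m : ℕ)) (φ1 b) = pd
    rw [MulAut.conj_apply, hB]
    exact pc_conj_pd m
  have hT1 : φ2 t * φ2 t = 1 := by rw [← map_mul, htt, map_one]
  have hT2 : φ2 t * pd * (φ2 t)⁻¹ = pd⁻¹ := by
    rw [← h2b, ← map_inv, ← map_mul, ← map_mul, htb, map_inv]
  obtain ⟨u, v, hT, hcases⟩ := eq_pT (φ2 t) hT1 hT2
  have hrange := range_eq_closure φ2 a b t hgen
  rw [h2a, h2b, hT] at hrange
  have hw : ∀ g : G, BadPerm (φ2 g) → False := fun g hg => not_bad h φ2 g hg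
  rcases hcases with ⟨rfl, rfl⟩ | ⟨rfl, rfl⟩ | ⟨rfl, rfl⟩ | ⟨rfl, rfl⟩ | ⟨rfl, rfl⟩ | ⟨rfl, rfl⟩ |
    ⟨rfl, rfl⟩ | ⟨rfl, rfl⟩ | ⟨rfl, rfl⟩ | ⟨rfl, rfl⟩ | ⟨rfl, rfl⟩ | ⟨rfl, rfl⟩
  · exact ⟨φ2, hφ2, hrange⟩
  · refine ⟨φ2, hφ2, ?_⟩
    rw [hrange, good26, closure_mul_pow]; rfl
  · refine ⟨φ2, hφ2, ?_⟩
    rw [hrange, good45, closure_mul_pow]; rfl
  · exact L2case φ2 hφ2 a b t hgen h2a h2b 1 (by rw [hT]; exact nu_conj.2.2)
  · exact L2case φ2 hφ2 a b t hgen h2a h2b 0 (by rw [hT]; exact nu25)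
  · exact L2case φ2 hφ2 a b t hgen h2a h2b 2 (by rw [hT]; exact nu43)
  · exact (hw (a * a * t) (by rw [map_mul, map_mul, h2a, hT]; exact bad15)).elim
  · exact (hw (a * t) (by rw [map_mul, h2a, hT]; exact bad23)).elim
  · exact (hw (a * t * b) (by rw [map_mul, map_mul, h2a, h2b, hT]; exact bad46)).elim
  · exact (hw (a * t) (by rw [map_mul, h2a, hT]; exact bad31)).elim
  · exact (hw (a * t) (by rw [map_mul, h2a, hT]; exact bad54)).elim
  · exact (hw (a * t) (by rw [map_mul, h2a, hT]; exact bad62)).elim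

theorem exists_mulEquiv_L1 (h : Nat.card G = 168) : Nonempty (G ≃* L1) := by
  obtain ⟨ψ, hinj, hr⟩ := exists_hom h
  exact ⟨(MonoidHom.ofInjective hinj).trans (MulEquiv.subgroupCongr hr)⟩

end

end Cfsg.Agent.Lead.Simple168
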