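import Mathlib
import Cfsg.Agent.H9.Pauli4A

/-!
Linear algebra behind the standard form of `4 ∘ 2^{1+4}` (author: lead, for helper9):
two commuting pairs of anticommuting matrix involutions in dimension four are simultaneously
conjugate to the standard Pauli matrices.
-/

set_option autoImplicit false
set_option linter.style.haveILetI false

namespace Cfsg.Agent.Lib.Lead.PauliForm

open Matrix Cfsg.Agent.H9.Pauli4

section linalg

variable {F : Type*} [Field F]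

/-- `a (1 + s a) = s (1 + s a)` for an involution `a` and a sign `s` -/
theorem mul_one_add_smul {n : Type*} [Fintype n] [DecidableEq n] (a : Matrix n n F) (s : F)
    (ha : a * a = 1) (hs : s * s = 1) : a * (1 + s • a) = s • (1 + s • a) := by
  rw [mul_add, mul_one, mul_smul_comm, ha, smul_add, smul_smul, hs, one_smul, add_comm]

/-- the four sign projections add up to four -/
theorem sum_proj {n : Type*} [Fintype n] [DecidableEq n] (a b : Matrix n n F) :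
    (1 + (1 : F) • a) * (1 + (1 : F) • b) + (1 + (1 : F) • a) * (1 + (-1 : F) • b)
      + (1 + (-1 : F) • a) * (1 + (1 : F) • b) + (1 + (-1 : F) • a) * (1 + (-1 : F) • b)
      = (4 : F) • (1 : Matrix n n F) := by
  simp only [one_smul, neg_smul, mul_add, add_mul, mul_one, one_mul, mul_neg, neg_mul]
  have : (4 : F) • (1 : Matrix n n F) = 1 + 1 + 1 + 1 := by
    have h4 : (4 : F) = 1 + 1 + 1 + 1 := by norm_num
    rw [h4, add_smul, add_smul, add_smul, one_smul]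
  rw [this]
  abel

/-- a common eigenvector with prescribed signs, then moved to signs `(+, +)` -/
theorem exists_common_fixed (h2 : (2 : F) ≠ 0) (a1 b1 a2 b2 : Matrix (Fin 4) (Fin 4) F)
    (ha1 : a1 * a1 = 1) (hb1 : b1 * b1 = 1) (ha2 : a2 * a2 = 1) (hb2 : b2 * b2 = 1)
    (h11 : a1 * b1 = -(b1 * a1)) (h22 : a2 * b2 = -(b2 * a2))
    (haa : a1 * a2 = a2 * a1) (hab : a1 * b2 = b2 * a1) (hba : b1 * a2 = a2 * b1) :
    ∃ v : Fin 4 → F, v ≠ 0 ∧ a1 *ᵥ v = v ∧ a2 *ᵥ v = v := by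
  classical
  -- some sign projection of a nonzero vector is nonzero
  have h4 : (4 : F) ≠ 0 := by
    have : (4 : F) = 2 * 2 := by norm_num
    rw [this]; exact mul_ne_zero h2 h2
  let u : Fin 4 → F := Pi.single 0 1
  have hu : u ≠ 0 := by
    intro h
    have := congrFun h 0
    simp [u] at this
  have hex : ∃ s1 s2 : F, s1 * s1 = 1 ∧ s2 * s2 = 1 ∧ (s1 = 1 ∨ s1 = -1) ∧ (s2 = 1 ∨ s2 = -1) ∧
      ((1 + s1 • a1) * (1 + s2 • a2)) *ᵥ u ≠ 0 := by
    by_contra hcon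
    push Not at hcon
    have e1 := hcon 1 1 (by ring) (by ring) (Or.inl rfl) (Or.inl rfl)
    have e2 := hcon 1 (-1) (by ring) (by ring) (Or.inl rfl) (Or.inr rfl)
    have e3 := hcon (-1) 1 (by ring) (by ring) (Or.inr rfl) (Or.inl rfl)
    have e4 := hcon (-1) (-1) (by ring) (by ring) (Or.inr rfl) (Or.inr rfl)
    have hs := congrArg (fun M => M *ᵥ u) (sum_proj a1 a2)
    simp only [Matrix.add_mulVec, e1, e2, e3, e4, add_zero, Matrix.smul_mulVec,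
      Matrix.one_mulVec] at hs
    apply hu
    have := (smul_eq_zero.mp hs.symm).resolve_left h4
    exact this
  obtain ⟨s1, s2, hs1, hs2, hs1', hs2', hw⟩ := hex
  set w := ((1 + s1 • a1) * (1 + s2 • a2)) *ᵥ u with hwdef
  have hw1 : a1 *ᵥ w = s1 • w := by
    rw [hwdef, Matrix.mulVec_mulVec, ← mul_assoc, mul_one_add_smul a1 s1 ha1 hs1, smul_mul_assoc,
      Matrix.smul_mulVec]
  have hw2 : a2 *ᵥ w = s2 • w := by
    have hcomm : a2 * (1 + s1 • a1) = (1 + s1 • a1) * a2 := by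
      rw [mul_add, add_mul, mul_one, one_mul, mul_smul_comm, smul_mul_assoc, haa]
    rw [hwdef, Matrix.mulVec_mulVec, ← mul_assoc, hcomm, mul_assoc,
      mul_one_add_smul a2 s2 ha2 hs2, mul_smul_comm, Matrix.smul_mulVec]
  -- flipping the first sign with `b1`
  have flip1 : ∀ (x : Fin 4 → F) (t : F), x ≠ 0 → a1 *ᵥ x = (-1 : F) • x → a2 *ᵥ x = t • x →
      b1 *ᵥ x ≠ 0 ∧ a1 *ᵥ (b1 *ᵥ x) = b1 *ᵥ x ∧ a2 *ᵥ (b1 *ᵥ x) = t • (b1 *ᵥ x) := by
    intro x t hx h1 h2'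
    refine ⟨?_, ?_, ?_⟩
    · intro h
      apply hx
      have : b1 *ᵥ (b1 *ᵥ x) = x := by rw [Matrix.mulVec_mulVec, hb1, Matrix.one_mulVec]
      rw [← this, h, Matrix.mulVec_zero]
    · rw [Matrix.mulVec_mulVec, h11, Matrix.neg_mulVec, ← Matrix.mulVec_mulVec, h1,
        Matrix.mulVec_smul, neg_smul, one_smul, neg_neg]
    · rw [Matrix.mulVec_mulVec, ← hba, ← Matrix.mulVec_mulVec, h2', Matrix.mulVec_smul]
  have flip2 : ∀ (x : Fin 4 → F), x ≠ 0 → a1 *ᵥ x = x → a2 *ᵥ x = (-1 : F) • x →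
      b2 *ᵥ x ≠ 0 ∧ a1 *ᵥ (b2 *ᵥ x) = b2 *ᵥ x ∧ a2 *ᵥ (b2 *ᵥ x) = b2 *ᵥ x := by
    intro x hx h1 h2'
    refine ⟨?_, ?_, ?_⟩
    · intro h
      apply hx
      have : b2 *ᵥ (b2 *ᵥ x) = x := by rw [Matrix.mulVec_mulVec, hb2, Matrix.one_mulVec]
      rw [← this, h, Matrix.mulVec_zero]
    · rw [Matrix.mulVec_mulVec, hab, ← Matrix.mulVec_mulVec, h1]
    · rw [Matrix.mulVec_mulVec, h22, Matrix.neg_mulVec, ← Matrix.mulVec_mulVec, h2',
        Matrix.mulVec_smul, neg_smul, one_smul, neg_neg]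
  -- first make the first sign `+`
  obtain ⟨x, hx0, hx1, hx2⟩ : ∃ x : Fin 4 → F, x ≠ 0 ∧ a1 *ᵥ x = x ∧ a2 *ᵥ x = s2 • x := by
    rcases hs1' with rfl | rfl
    · exact ⟨w, hw, by rw [hw1, one_smul], hw2⟩
    · obtain ⟨h0, h1, h2'⟩ := flip1 w s2 hw hw1 hw2
      exact ⟨_, h0, h1, h2'⟩
  rcases hs2' with rfl | rfl
  · exact ⟨x, hx0, hx1, by rw [hx2, one_smul]⟩
  · obtain ⟨h0, h1, h2'⟩ := flip2 x hx0 hx1 hx2
    exact ⟨_, h0, h1, h2'⟩

/-- four joint eigenvectors with the four sign patterns are linearly independent -/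
theorem indep4 (h2 : (2 : F) ≠ 0) (a1 a2 : Matrix (Fin 4) (Fin 4) F) (e0 e1 e2 e3 : Fin 4 → F)
    (n0 : e0 ≠ 0) (n1 : e1 ≠ 0) (n2 : e2 ≠ 0) (n3 : e3 ≠ 0)
    (p0 : a1 *ᵥ e0 = e0) (p1 : a1 *ᵥ e1 = e1) (p2 : a1 *ᵥ e2 = -e2) (p3 : a1 *ᵥ e3 = -e3)
    (q0 : a2 *ᵥ e0 = e0) (q1 : a2 *ᵥ e1 = -e1) (q2 : a2 *ᵥ e2 = e2) (q3 : a2 *ᵥ e3 = -e3)
    (c0 c1 c2 c3 : F) (h : c0 • e0 + c1 • e1 + c2 • e2 + c3 • e3 = 0) :
    c0 = 0 ∧ c1 = 0 ∧ c2 = 0 ∧ c3 = 0 := by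
  have h4 : (4 : F) ≠ 0 := by
    have : (4 : F) = 2 * 2 := by norm_num
    rw [this]; exact mul_ne_zero h2 h2
  have A1 : c0 • e0 + c1 • e1 + c2 • (-e2) + c3 • (-e3) = 0 := by
    have := congrArg (fun x => a1 *ᵥ x) h
    simp only [Matrix.mulVec_add, Matrix.mulVec_smul, p0, p1, p2, p3, Matrix.mulVec_zero] at this
    exact this
  have A2 : c0 • e0 + c1 • (-e1) + c2 • e2 + c3 • (-e3) = 0 := by
    have := congrArg (fun x => a2 *ᵥ x) h
    simp only [Matrix.mulVec_add, Matrix.mulVec_smul, q0, q1, q2, q3, Matrix.mulVec_zero] at this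
    exact this
  have A12 : c0 • e0 + c1 • (-e1) + c2 • (-e2) + c3 • (- -e3) = 0 := by
    have := congrArg (fun x => a2 *ᵥ x) A1
    simp only [Matrix.mulVec_add, Matrix.mulVec_smul, Matrix.mulVec_neg, q0, q1, q2, q3,
      Matrix.mulVec_zero] at this
    exact this
  have k0 : (4 : F) • (c0 • e0) = 0 := by linear_combination (norm := module) h + A1 + A2 + A12
  have k1 : (4 : F) • (c1 • e1) = 0 := by linear_combination (norm := module) h + A1 - A2 - A12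
  have k2 : (4 : F) • (c2 • e2) = 0 := by linear_combination (norm := module) h - A1 + A2 - A12
  have k3 : (4 : F) • (c3 • e3) = 0 := by linear_combination (norm := module) h - A1 - A2 + A12
  refine ⟨?_, ?_, ?_, ?_⟩
  · exact (smul_eq_zero.mp ((smul_eq_zero.mp k0).resolve_left h4)).resolve_right n0
  · exact (smul_eq_zero.mp ((smul_eq_zero.mp k1).resolve_left h4)).resolve_right n1
  · exact (smul_eq_zero.mp ((smul_eq_zero.mp k2).resolve_left h4)).resolve_right n2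
  · exact (smul_eq_zero.mp ((smul_eq_zero.mp k3).resolve_left h4)).resolve_right n3

/-- simultaneous standard form of two commuting pairs of anticommuting involutions -/
theorem exists_pauli_basis (h2 : (2 : F) ≠ 0) (a1 b1 a2 b2 : Matrix (Fin 4) (Fin 4) F)
    (ha1 : a1 * a1 = 1) (hb1 : b1 * b1 = 1) (ha2 : a2 * a2 = 1) (hb2 : b2 * b2 = 1)
    (h11 : a1 * b1 = -(b1 * a1)) (h22 : a2 * b2 = -(b2 * a2))
    (haa : a1 * a2 = a2 * a1) (hab : a1 * b2 = b2 * a1) (hba : b1 * a2 = a2 * b1)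
    (hbb : b1 * b2 = b2 * b1) :
    ∃ G₀ : GL (Fin 4) F,
      a1 * (G₀ : Matrix (Fin 4) (Fin 4) F) = (G₀ : Matrix (Fin 4) (Fin 4) F) * Matrix.diagonal z1d ∧
      b1 * (G₀ : Matrix (Fin 4) (Fin 4) F) = (G₀ : Matrix (Fin 4) (Fin 4) F) * X1m ∧
      a2 * (G₀ : Matrix (Fin 4) (Fin 4) F) = (G₀ : Matrix (Fin 4) (Fin 4) F) * Matrix.diagonal z2d ∧
      b2 * (G₀ : Matrix (Fin 4) (Fin 4) F) = (G₀ : Matrix (Fin 4) (Fin 4) F) * X2m := by
  classical
  obtain ⟨v, hv0, hv1, hv2⟩ := exists_common_fixed h2 a1 b1 a2 b2 ha1 hb1 ha2 hb2 h11 h22 haa hab hba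
  have hb1inj : ∀ x : Fin 4 → F, x ≠ 0 → b1 *ᵥ x ≠ 0 := by
    intro x hx h
    apply hx
    have : b1 *ᵥ (b1 *ᵥ x) = x := by rw [Matrix.mulVec_mulVec, hb1, Matrix.one_mulVec]
    rw [← this, h, Matrix.mulVec_zero]
  have hb2inj : ∀ x : Fin 4 → F, x ≠ 0 → b2 *ᵥ x ≠ 0 := by
    intro x hx h
    apply hx
    have : b2 *ᵥ (b2 *ᵥ x) = x := by rw [Matrix.mulVec_mulVec, hb2, Matrix.one_mulVec]
    rw [← this, h, Matrix.mulVec_zero]
  set e0 : Fin 4 → F := v with he0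
  set e1 : Fin 4 → F := b2 *ᵥ v with he1
  set e2 : Fin 4 → F := b1 *ᵥ v with he2
  set e3 : Fin 4 → F := b1 *ᵥ (b2 *ᵥ v) with he3
  have n0 : e0 ≠ 0 := hv0
  have n1 : e1 ≠ 0 := hb2inj v hv0
  have n2 : e2 ≠ 0 := hb1inj v hv0
  have n3 : e3 ≠ 0 := hb1inj _ n1
  -- eigenvector relations
  have p0 : a1 *ᵥ e0 = e0 := hv1
  have q0 : a2 *ᵥ e0 = e0 := hv2
  have p1 : a1 *ᵥ e1 = e1 := by
    rw [he1, Matrix.mulVec_mulVec, hab, ← Matrix.mulVec_mulVec, hv1]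
  have q1 : a2 *ᵥ e1 = -e1 := by
    rw [he1, Matrix.mulVec_mulVec, h22, Matrix.neg_mulVec, ← Matrix.mulVec_mulVec, hv2]
  have p2 : a1 *ᵥ e2 = -e2 := by
    rw [he2, Matrix.mulVec_mulVec, h11, Matrix.neg_mulVec, ← Matrix.mulVec_mulVec, hv1]
  have q2 : a2 *ᵥ e2 = e2 := by
    rw [he2, Matrix.mulVec_mulVec, ← hba, ← Matrix.mulVec_mulVec, hv2]
  have p3 : a1 *ᵥ e3 = -e3 := by
    rw [he3, Matrix.mulVec_mulVec, h11, Matrix.neg_mulVec, ← Matrix.mulVec_mulVec, p1]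
  have q3 : a2 *ᵥ e3 = -e3 := by
    rw [he3, Matrix.mulVec_mulVec, ← hba, ← Matrix.mulVec_mulVec, q1, Matrix.mulVec_neg]
  -- action of `b1`, `b2`
  have r0 : b1 *ᵥ e0 = e2 := rfl
  have r1 : b1 *ᵥ e1 = e3 := rfl
  have r2 : b1 *ᵥ e2 = e0 := by
    rw [he2, Matrix.mulVec_mulVec, hb1, Matrix.one_mulVec]
  have r3 : b1 *ᵥ e3 = e1 := by
    rw [he3, Matrix.mulVec_mulVec, hb1, Matrix.one_mulVec]
  have t0 : b2 *ᵥ e0 = e1 := rfl
  have t1 : b2 *ᵥ e1 = e0 := by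
    rw [he1, Matrix.mulVec_mulVec, hb2, Matrix.one_mulVec]
  have t2 : b2 *ᵥ e2 = e3 := by
    rw [he2, he3, Matrix.mulVec_mulVec, Matrix.mulVec_mulVec, hbb]
  have t3 : b2 *ᵥ e3 = e2 := by
    rw [he3, he2, Matrix.mulVec_mulVec, Matrix.mulVec_mulVec, ← hbb, mul_assoc, hb2, mul_one]
  -- the matrix with columns `e k`
  let e : Fin 4 → (Fin 4 → F) := ![e0, e1, e2, e3]
  let M : Matrix (Fin 4) (Fin 4) F := Matrix.of fun j k => e k j
  have hMv : ∀ c : Fin 4 → F, M *ᵥ c = c 0 • e0 + c 1 • e1 + c 2 • e2 + c 3 • e3 := by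
    intro c
    ext j
    simp only [Matrix.mulVec, dotProduct, Fin.sum_univ_four, M, Matrix.of_apply, e, Pi.add_apply,
      Pi.smul_apply, smul_eq_mul, Matrix.cons_val_zero, Matrix.cons_val_one]
    simp
    ring
  have hinj : Function.Injective M.mulVec := by
    intro c c' hcc
    have hd : M *ᵥ (c - c') = 0 := by
      rw [Matrix.mulVec_sub]; exact sub_eq_zero.mpr hcc
    rw [hMv] at hd
    obtain ⟨d0, d1, d2, d3⟩ := indep4 h2 a1 a2 e0 e1 e2 e3 n0 n1 n2 n3 p0 p1 p2 p3 q0 q1 q2 q3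
      _ _ _ _ hd
    ext k
    fin_cases k
    · exact sub_eq_zero.mp d0
    · exact sub_eq_zero.mp d1
    · exact sub_eq_zero.mp d2
    · exact sub_eq_zero.mp d3
  have hunit : IsUnit M := Matrix.mulVec_injective_iff_isUnit.mp hinj
  have hcol : ∀ (N : Matrix (Fin 4) (Fin 4) F) (j k : Fin 4), (N * M) j k = (N *ᵥ e k) j := by
    intro N j k
    simp only [Matrix.mul_apply, Matrix.mulVec, dotProduct, M, Matrix.of_apply]
  refine ⟨hunit.unit, ?_, ?_, ?_, ?_⟩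
  · show a1 * M = M * Matrix.diagonal z1d
    ext j k
    rw [hcol, Matrix.mul_diagonal]
    fin_cases k
    · show (a1 *ᵥ e0) j = e0 j * z1d 0
      rw [p0]; simp [z1d]
    · show (a1 *ᵥ e1) j = e1 j * z1d 1
      rw [p1]; simp [z1d]
    · show (a1 *ᵥ e2) j = e2 j * z1d 2
      rw [p2]; simp [z1d]
    · show (a1 *ᵥ e3) j = e3 j * z1d 3
      rw [p3]; simp [z1d]
  · show b1 * M = M * X1m
    ext j k
    rw [hcol]
    fin_cases k
    · show (b1 *ᵥ e0) j = (M * X1m : Matrix (Fin 4) (Fin 4) F) j 0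
      rw [r0]; simp [X1m, Matrix.mul_apply, Fin.sum_univ_four, M, e]
    · show (b1 *ᵥ e1) j = (M * X1m : Matrix (Fin 4) (Fin 4) F) j 1
      rw [r1]; simp [X1m, Matrix.mul_apply, Fin.sum_univ_four, M, e]
    · show (b1 *ᵥ e2) j = (M * X1m : Matrix (Fin 4) (Fin 4) F) j 2
      rw [r2]; simp [X1m, Matrix.mul_apply, Fin.sum_univ_four, M, e]
    · show (b1 *ᵥ e3) j = (M * X1m : Matrix (Fin 4) (Fin 4) F) j 3
      rw [r3]; simp [X1m, Matrix.mul_apply, Fin.sum_univ_four, M, e]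
  · show a2 * M = M * Matrix.diagonal z2d
    ext j k
    rw [hcol, Matrix.mul_diagonal]
    fin_cases k
    · show (a2 *ᵥ e0) j = e0 j * z2d 0
      rw [q0]; simp [z2d]
    · show (a2 *ᵥ e1) j = e1 j * z2d 1
      rw [q1]; simp [z2d]
    · show (a2 *ᵥ e2) j = e2 j * z2d 2
      rw [q2]; simp [z2d]
    · show (a2 *ᵥ e3) j = e3 j * z2d 3
      rw [q3]; simp [z2d]
  · show b2 * M = M * X2m
    ext j k
    rw [hcol]
    fin_cases k
    · show (b2 *ᵥ e0) j = (M * X2m : Matrix (Fin 4) (Fin 4) F) j 0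
      rw [t0]; simp [X2m, Matrix.mul_apply, Fin.sum_univ_four, M, e]
    · show (b2 *ᵥ e1) j = (M * X2m : Matrix (Fin 4) (Fin 4) F) j 1
      rw [t1]; simp [X2m, Matrix.mul_apply, Fin.sum_univ_four, M, e]
    · show (b2 *ᵥ e2) j = (M * X2m : Matrix (Fin 4) (Fin 4) F) j 2
      rw [t2]; simp [X2m, Matrix.mul_apply, Fin.sum_univ_four, M, e]
    · show (b2 *ᵥ e3) j = (M * X2m : Matrix (Fin 4) (Fin 4) F) j 3
      rw [t3]; simp [X2m, Matrix.mul_apply, Fin.sum_univ_four, M, e]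

end linalg

end Cfsg.Agent.Lib.Lead.PauliForm
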