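import Mathlib
import Cfsg.Agent.Lib.Lead.PGroup

/-!
Abstract group theory behind the standard form of `4 ∘ 2^{1+4}` (author: lead, for helper9).

A finite `2`-group of exponent `4` all of whose characteristic abelian subgroups are cyclic and whose
centre has order `4` has elementary abelian central quotient and commutators of order at most `2`.
-/

set_option autoImplicit false
set_option linter.style.haveILetI false

namespace Cfsg.Agent.Lib.Lead.PauliForm

open Subgroup
open scoped commutatorElement

section abstract

variable {G : Type*} [Group G]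

variable (G) in
/-- elements whose square is central and all of whose commutators are central -/
def omegaCenterSub : Subgroup G where
  carrier := {x | x ^ 2 ∈ center G ∧ ∀ y : G, ⁅x, y⁆ ∈ center G}
  one_mem' := by
    refine ⟨by simp, fun y => ?_⟩
    simp [commutatorElement_def]
  mul_mem' := by
    rintro a b ⟨ha2, hac⟩ ⟨hb2, hbc⟩
    have hainv : ∀ y : G, ⁅a⁻¹, y⁆ ∈ center G := by
      intro y
      have h1 : ⁅a⁻¹, y⁆ = a⁻¹ * ⁅a, y⁆⁻¹ * a⁻¹⁻¹ := by
        simp only [commutatorElement_def]; group
      rw [h1]
      exact (inferInstance : (center G).Normal).conj_mem _ (inv_mem (hac y)) _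
    refine ⟨?_, fun y => ?_⟩
    · have h1 : (a * b) ^ 2 = a ^ 2 * ⁅a⁻¹, b⁆ * b ^ 2 := by
        simp only [commutatorElement_def, pow_two]; group
      rw [h1]
      exact mul_mem (mul_mem ha2 (hainv b)) hb2
    · have h1 : ⁅a * b, y⁆ = a * ⁅b, y⁆ * a⁻¹ * ⁅a, y⁆ := by
        simp only [commutatorElement_def]; group
      rw [h1]
      exact mul_mem ((inferInstance : (center G).Normal).conj_mem _ (hbc y) _) (hac y)
  inv_mem' := by
    rintro a ⟨ha2, hac⟩
    refine ⟨?_, fun y => ?_⟩
    · have : (a⁻¹) ^ 2 = (a ^ 2)⁻¹ := by simp only [pow_two]; group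
      rw [this]; exact inv_mem ha2
    · have h1 : ⁅a⁻¹, y⁆ = a⁻¹ * ⁅a, y⁆⁻¹ * a⁻¹⁻¹ := by
        simp only [commutatorElement_def]; group
      rw [h1]
      exact (inferInstance : (center G).Normal).conj_mem _ (inv_mem (hac y)) _

theorem mem_omegaCenterSub {x : G} :
    x ∈ omegaCenterSub G ↔ x ^ 2 ∈ center G ∧ ∀ y : G, ⁅x, y⁆ ∈ center G := Iff.rfl

theorem center_le_omegaCenterSub : center G ≤ omegaCenterSub G := by
  intro z hz
  refine ⟨pow_mem hz 2, fun y => ?_⟩
  have : ⁅z, y⁆ = 1 := by
    rw [commutatorElement_eq_one_iff_commute]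
    exact (Subgroup.mem_center_iff.mp hz y).symm
  rw [this]; exact one_mem _

instance omegaCenterSub_characteristic : (omegaCenterSub G).Characteristic := by
  rw [characteristic_iff_comap_le]
  intro φ x hx
  rw [mem_comap] at hx
  obtain ⟨h2, hc⟩ := hx
  have hZ : ∀ g : G, φ g ∈ center G → g ∈ center G := by
    intro g hg
    have := (characteristic_iff_comap_le.mp (inferInstance : (center G).Characteristic)) φ
    exact this (mem_comap.mpr hg)
  refine ⟨hZ _ ?_, fun y => hZ _ ?_⟩
  · have : φ (x ^ 2) = (φ x) ^ 2 := map_pow φ x 2
    rw [this]; exact h2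
  · have : φ ⁅x, y⁆ = ⁅φ x, φ y⁆ := map_commutatorElement φ x y
    rw [this]; exact hc (φ y)

/-- commutators with an element of `omegaCenterSub` square to one -/
theorem commutator_sq_eq_one {c : G} (hc : c ∈ omegaCenterSub G) (y : G) : ⁅c, y⁆ ^ 2 = 1 := by
  obtain ⟨h2, hcomm⟩ := hc
  have hz := Subgroup.mem_center_iff.mp (hcomm y)
  have h1 : ⁅c ^ 2, y⁆ = c * ⁅c, y⁆ * c⁻¹ * ⁅c, y⁆ := by
    simp only [commutatorElement_def, pow_two]; group
  have h2' : ⁅c ^ 2, y⁆ = 1 := by
    rw [commutatorElement_eq_one_iff_commute]
    exact (Subgroup.mem_center_iff.mp h2 y).symm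
  have h3 : c * ⁅c, y⁆ * c⁻¹ = ⁅c, y⁆ := by
    rw [hz c]; group
  rw [h3] at h1
  rw [pow_two, ← h1, h2']

/-- the commutator map `y ↦ ⁅c, y⁆` as a homomorphism into the centre -/
def commHom {c : G} (hc : c ∈ omegaCenterSub G) : G →* center G where
  toFun y := ⟨⁅c, y⁆, hc.2 y⟩
  map_one' := by
    apply Subtype.ext
    simp [commutatorElement_def]
  map_mul' := by
    intro y1 y2
    apply Subtype.ext
    show ⁅c, y1 * y2⁆ = ⁅c, y1⁆ * ⁅c, y2⁆
    have hz := Subgroup.mem_center_iff.mp (hc.2 y2)
    have h1 : ⁅c, y1 * y2⁆ = ⁅c, y1⁆ * (y1 * ⁅c, y2⁆ * y1⁻¹) := by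
      simp only [commutatorElement_def]; group
    rw [h1, hz y1]; group

theorem commHom_ker {c : G} (hc : c ∈ omegaCenterSub G) :
    (commHom hc).ker = centralizer {c} := by
  ext y
  rw [MonoidHom.mem_ker, mem_centralizer_iff]
  constructor
  · intro h
    have : ⁅c, y⁆ = 1 := congrArg Subtype.val h
    rw [commutatorElement_eq_one_iff_commute] at this
    intro g hg
    rw [Set.mem_singleton_iff] at hg
    subst hg
    exact this.eq
  · intro h
    apply Subtype.ext
    show ⁅c, y⁆ = 1
    rw [commutatorElement_eq_one_iff_commute]
    exact h c rfl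

open scoped IsMulCommutative in
/-- the centraliser of an element of `omegaCenterSub` has index at most two when the centre is
cyclic -/
theorem index_centralizer_le_two [Finite G] (hcyc : IsCyclic (center G)) {c : G}
    (hc : c ∈ omegaCenterSub G) : (centralizer ({c} : Set G)).index ≤ 2 := by
  rw [← commHom_ker hc, Subgroup.index_ker]
  have hle : (commHom hc).range ≤ (powMonoidHom 2 : center G →* center G).ker := by
    rintro _ ⟨y, rfl⟩
    rw [MonoidHom.mem_ker, powMonoidHom_apply]
    apply Subtype.ext
    show ⁅c, y⁆ ^ 2 = 1
    exact commutator_sq_eq_one hc y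
  calc Nat.card (commHom hc).range
      ≤ Nat.card (powMonoidHom 2 : center G →* center G).ker := Subgroup.card_le_of_le hle
    _ = (Nat.card (center G)).gcd 2 := IsCyclic.card_powMonoidHom_ker (center G) 2
    _ ≤ 2 := Nat.gcd_le_right _ (by norm_num)

end abstract

section main

variable {G : Type*} [Group G] [Finite G]

/-- adjoining an element outside a finite subgroup at least doubles the order -/
theorem two_mul_card_closure_le (s : Set G) (c : G) (hc : c ∉ closure s) :
    2 * Nat.card (closure s) ≤ Nat.card (closure (insert c s)) := by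
  have hmono : closure s ≤ closure (insert c s) := closure_mono (Set.subset_insert c s)
  obtain ⟨k, hk⟩ := Subgroup.card_dvd_of_le hmono
  rcases k with _ | _ | k
  · exfalso
    rw [mul_zero] at hk
    exact Nat.card_pos.ne' hk
  · exfalso
    rw [zero_add, mul_one] at hk
    have := Subgroup.eq_of_le_of_card_ge hmono hk.le
    apply hc
    rw [this]
    exact subset_closure (Set.mem_insert c s)
  · rw [hk]
    nlinarith [Nat.card_pos (α := closure s)]

/-- In a finite `2`-group of exponent `4` with centre of order `4` in which every characteristic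
abelian subgroup is cyclic, every element has central square and central commutators. -/
theorem omegaCenterSub_eq_top (hp : IsPGroup 2 G) (hexp : Monoid.exponent G = 4)
    (hchar : ∀ A : Subgroup G, A.Characteristic → IsMulCommutative A → IsCyclic A)
    (hZ : Nat.card (center G) = 4) : omegaCenterSub G = ⊤ := by
  classical
  have hcyc : IsCyclic (center G) := hchar _ inferInstance inferInstance
  set C := omegaCenterSub G with hC
  -- the centre of `C`
  set D := C ⊓ centralizer (C : Set G) with hD
  have hDchar : D.Characteristic := inferInstance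
  have hDcomm : IsMulCommutative D := ⟨⟨fun a b => by
    apply Subtype.ext
    have ha := Subgroup.mem_inf.mp a.2
    have hb := Subgroup.mem_inf.mp b.2
    exact (mem_centralizer_iff.mp hb.2) a ha.1⟩⟩
  have hDcyc : IsCyclic D := hchar D hDchar hDcomm
  have hDcard : Nat.card D ≤ 4 := by
    have h1 : Monoid.exponent D = Nat.card D := IsCyclic.exponent_eq_card
    have h2 : Monoid.exponent D ∣ Monoid.exponent G :=
      Monoid.exponent_dvd_of_monoidHom D.subtype D.subtype_injective
    rw [h1, hexp] at h2
    exact Nat.le_of_dvd (by norm_num) h2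
  have hZD : center G ≤ D := le_inf center_le_omegaCenterSub (center_le_centralizer _)
  have hDZ : D = center G :=
    (Subgroup.eq_of_le_of_card_ge hZD (by rw [hZ]; exact hDcard)).symm
  -- the centraliser of `C` is the centre
  have hQ : centralizer (C : Set G) = center G := by
    apply le_antisymm _ (center_le_centralizer _)
    intro q hq
    by_contra hqZ
    let π := QuotientGroup.mk' (center G)
    have hQn : (centralizer (C : Set G)).Normal := inferInstance
    let Qbar := (centralizer (C : Set G)).map π
    haveI : Qbar.Normal := Subgroup.Normal.map hQn π (QuotientGroup.mk'_surjective (center G))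
    have hQbar : Qbar ≠ ⊥ := by
      intro h
      have h1 : π q ∈ Qbar := Subgroup.mem_map_of_mem π hq
      rw [h, Subgroup.mem_bot] at h1
      exact hqZ ((QuotientGroup.eq_one_iff q).mp h1)
    have hpq : IsPGroup 2 (G ⧸ center G) := hp.to_quotient (center G)
    haveI : Fact (Nat.Prime 2) := ⟨Nat.prime_two⟩
    obtain ⟨z, hzQ, hzZ, hz1⟩ := PGroup.exists_mem_center_of_normal hpq Qbar hQbar
    obtain ⟨k, hk⟩ := (IsPGroup.iff_orderOf.mp hpq) z
    have hk0 : k ≠ 0 := by
      intro h
      rw [h, pow_zero, orderOf_eq_one_iff] at hk
      exact hz1 hk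
    obtain ⟨m, rfl⟩ : ∃ m, k = m + 1 := Nat.exists_eq_succ_of_ne_zero hk0
    set w := z ^ (2 ^ m) with hw
    have hw2 : w ^ 2 = 1 := by
      rw [hw, ← pow_mul, ← pow_succ, ← hk]
      exact pow_orderOf_eq_one z
    have hw1 : w ≠ 1 := by
      intro h
      have h1 := orderOf_dvd_of_pow_eq_one h
      rw [hk] at h1
      have h2 := Nat.le_of_dvd (by positivity) h1
      have h3 : 2 ^ m < 2 ^ (m + 1) := Nat.pow_lt_pow_right (by norm_num) (Nat.lt_succ_self m)
      omega
    have hwQ : w ∈ Qbar := pow_mem hzQ _
    have hwZ : w ∈ center (G ⧸ center G) := pow_mem hzZ _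
    obtain ⟨x, hxQ, hxw⟩ := Subgroup.mem_map.mp hwQ
    have hxC : x ∈ C := by
      refine ⟨?_, fun y => ?_⟩
      · rw [← QuotientGroup.eq_one_iff]
        show π (x ^ 2) = 1
        rw [map_pow, hxw, hw2]
      · rw [← QuotientGroup.eq_one_iff]
        show π ⁅x, y⁆ = 1
        rw [map_commutatorElement, hxw, commutatorElement_eq_one_iff_commute]
        exact (Subgroup.mem_center_iff.mp hwZ (π y)).symm
    have hxD : x ∈ D := Subgroup.mem_inf.mpr ⟨hxC, hxQ⟩
    rw [hDZ] at hxD
    apply hw1
    rw [← hxw]
    exact (QuotientGroup.eq_one_iff x).mpr hxD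
  -- the chain argument
  have key : ∀ T : Finset G, (∀ t ∈ T, t ∈ C) →
      (centralizer ((center G : Set G) ∪ ↑T)).index * 4
        ≤ Nat.card (closure ((center G : Set G) ∪ ↑T)) := by
    intro T
    induction T using Finset.induction_on with
    | empty =>
      intro _
      simp only [Finset.coe_empty, Set.union_empty]
      rw [centralizer_center, index_top, closure_eq, hZ]
    | insert c T hcT ih =>
      intro hT
      have hTC : ∀ t ∈ T, t ∈ C := fun t ht => hT t (Finset.mem_insert_of_mem ht)
      have hcC : c ∈ C := hT c (Finset.mem_insert_self c T)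
      specialize ih hTC
      set s : Set G := (center G : Set G) ∪ ↑T with hs
      have hs' : (center G : Set G) ∪ ↑(insert c T) = insert c s := by
        rw [Finset.coe_insert, Set.union_insert]
      rw [hs']
      have hmono : closure s ≤ closure (insert c s) := closure_mono (Set.subset_insert c s)
      by_cases hcs : c ∈ closure s
      · have h1 : closure (insert c s) = closure s := by
          apply le_antisymm _ hmono
          rw [closure_le]
          intro x hx
          rcases hx with rfl | hx
          · exact hcs
          · exact subset_closure hx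
        have h2 : centralizer (insert c s) = centralizer s := by
          rw [← centralizer_closure, h1, centralizer_closure]
        rw [h1, h2]
        exact ih
      · have hcard : 2 * Nat.card (closure s) ≤ Nat.card (closure (insert c s)) := by
          obtain ⟨k, hk⟩ := Subgroup.card_dvd_of_le hmono
          rcases k with _ | _ | k
          · exfalso
            rw [mul_zero] at hk
            exact Nat.card_pos.ne' hk
          · exfalso
            rw [zero_add, mul_one] at hk
            have := Subgroup.eq_of_le_of_card_ge hmono hk.le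
            apply hcs
            rw [this]
            exact subset_closure (Set.mem_insert c s)
          · rw [hk]
            nlinarith [Nat.card_pos (α := closure s)]
        have hidx : (centralizer (insert c s)).index ≤ (centralizer s).index * 2 := by
          have hle : centralizer ({c} : Set G) ⊓ centralizer s ≤ centralizer (insert c s) := by
            intro g hg
            obtain ⟨hg1, hg2⟩ := Subgroup.mem_inf.mp hg
            rw [mem_centralizer_iff] at hg1 hg2 ⊢
            intro h hh
            rcases hh with rfl | hh
            · exact hg1 h rfl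
            · exact hg2 h hh
          calc (centralizer (insert c s)).index
              ≤ (centralizer ({c} : Set G) ⊓ centralizer s).index := Subgroup.index_antitone hle
            _ ≤ (centralizer ({c} : Set G)).index * (centralizer s).index :=
                Subgroup.index_inf_le
            _ ≤ 2 * (centralizer s).index :=
                Nat.mul_le_mul_right _ (index_centralizer_le_two hcyc hcC)
            _ = (centralizer s).index * 2 := mul_comm _ _
        calc (centralizer (insert c s)).index * 4
            ≤ (centralizer s).index * 2 * 4 := Nat.mul_le_mul_right _ hidx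
          _ = 2 * ((centralizer s).index * 4) := by ring
          _ ≤ 2 * Nat.card (closure s) := Nat.mul_le_mul_left _ ih
          _ ≤ Nat.card (closure (insert c s)) := hcard
  have hfin : (C : Set G).Finite := Set.toFinite _
  have hfinal := key hfin.toFinset (fun t ht => by simpa using ht)
  have hun : (center G : Set G) ∪ ↑hfin.toFinset = (C : Set G) := by
    rw [Set.Finite.coe_toFinset]
    exact Set.union_eq_self_of_subset_left center_le_omegaCenterSub
  rw [hun, hQ, closure_eq] at hfinal
  have h3 : (center G).index * 4 = Nat.card G := by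
    rw [← hZ, mul_comm]
    exact (center G).card_mul_index
  rw [h3] at hfinal
  exact Subgroup.eq_top_of_le_card C hfinal

/-- consequences, elementwise -/
theorem symplectic_type_facts (hp : IsPGroup 2 G) (hexp : Monoid.exponent G = 4)
    (hchar : ∀ A : Subgroup G, A.Characteristic → IsMulCommutative A → IsCyclic A)
    (hZ : Nat.card (center G) = 4) :
    (∀ x y : G, ⁅x, y⁆ ∈ center G ∧ ⁅x, y⁆ ^ 2 = 1) ∧ ∀ x : G, x ^ 2 ∈ center G := by
  have h := omegaCenterSub_eq_top hp hexp hchar hZ
  have hx : ∀ x : G, x ∈ omegaCenterSub G := fun x => by rw [h]; exact Subgroup.mem_top x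
  exact ⟨fun x y => ⟨(hx x).2 y, commutator_sq_eq_one (hx x) y⟩, fun x => (hx x).1⟩

end main

end Cfsg.Agent.Lib.Lead.PauliForm
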