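import Mathlib
import Cfsg.Prelude.Def_GeometricClasses
import Cfsg.Agent.Lib.Lead.PauliFormA

/-!
Generators of an absolutely irreducible symplectic-type group `4 ∘ 2^{1+4}` in `GL₄(F)`
(author: lead, for helper9).
-/

set_option autoImplicit false
set_option linter.style.haveILetI false

namespace Cfsg.Agent.Lib.Lead.PauliForm

open Matrix Subgroup
open scoped commutatorElement

section gens

variable {F : Type*} [Field F]

/-- the matrix of an element of a subgroup of `GL₄(F)` -/
def mat {R : Subgroup (GL (Fin 4) F)} (x : R) : Matrix (Fin 4) (Fin 4) F :=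
  ((x : GL (Fin 4) F) : Matrix (Fin 4) (Fin 4) F)

theorem mat_mul {R : Subgroup (GL (Fin 4) F)} (x y : R) : mat (x * y) = mat x * mat y := rfl

theorem mat_one {R : Subgroup (GL (Fin 4) F)} : mat (1 : R) = 1 := rfl

theorem mat_injective {R : Subgroup (GL (Fin 4) F)} : Function.Injective (mat (R := R)) := by
  intro x y h
  exact Subtype.ext (Units.ext h)

theorem pow_four_eq_mul {M : Type*} [Monoid M] (x : M) : x ^ 4 = (x * x) * (x * x) := by
  rw [show (4 : ℕ) = 2 + 2 from rfl, pow_add, pow_two]

theorem smul_one_eq_one {c : F} (h : c • (1 : Matrix (Fin 4) (Fin 4) F) = 1) : c = 1 := by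
  have := congrFun (congrFun h 0) 0
  simpa using this

theorem smul_one_mul_smul_one (c d : F) :
    (c • (1 : Matrix (Fin 4) (Fin 4) F)) * (d • (1 : Matrix (Fin 4) (Fin 4) F))
      = (c * d) • (1 : Matrix (Fin 4) (Fin 4) F) := by
  rw [smul_mul_assoc, one_mul, smul_smul]

/-- The generators of an absolutely irreducible symplectic-type `2`-group of order `64` with
centre of order `4` in `GL₄(F)`. -/
theorem exists_generators (R : Subgroup (GL (Fin 4) F))
    (hRs : Cfsg.Geo.IsSymplecticTypeGroup 2 R)
    (hRi : Cfsg.Geo.ActsAbsolutelyIrreducibly (Cfsg.Geo.matrixSet R))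
    (hR6 : Nat.card R = 2 ^ 6) (hRZ : Nat.card (Subgroup.center R) = 4) :
    ∃ (i : F) (g₀ a1 b1 a2 b2 : R), i ^ 2 = -1 ∧
      mat g₀ = i • (1 : Matrix (Fin 4) (Fin 4) F) ∧
      mat a1 * mat a1 = 1 ∧ mat b1 * mat b1 = 1 ∧ mat a2 * mat a2 = 1 ∧ mat b2 * mat b2 = 1 ∧
      mat a1 * mat b1 = -(mat b1 * mat a1) ∧ mat a2 * mat b2 = -(mat b2 * mat a2) ∧
      mat a1 * mat a2 = mat a2 * mat a1 ∧ mat a1 * mat b2 = mat b2 * mat a1 ∧
      mat b1 * mat a2 = mat a2 * mat b1 ∧ mat b1 * mat b2 = mat b2 * mat b1 ∧
      closure ({g₀, b1, a1, b2, a2} : Set R) = ⊤ := by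
  classical
  haveI : Finite R := Nat.finite_of_card_ne_zero (by rw [hR6]; norm_num)
  have hp : IsPGroup 2 R := hRs.pGroup
  have hexp : Monoid.exponent R = 4 := by rw [hRs.exponent_eq]; norm_num
  have hfacts := symplectic_type_facts hp hexp hRs.cyclic_of_characteristic hRZ
  have htop := omegaCenterSub_eq_top hp hexp hRs.cyclic_of_characteristic hRZ
  have hcyc : IsCyclic (center R) := hRs.cyclic_of_characteristic _ inferInstance inferInstance
  have hpm : ∀ c : F, c * c = 1 → c = 1 ∨ c = -1 := fun c hc => mul_self_eq_one_iff.mp hc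
  -- central elements are scalar
  have K1 : ∀ z : R, z ∈ center R → ∃ c : F, mat z = c • (1 : Matrix (Fin 4) (Fin 4) F) := by
    intro z hz
    apply hRi.2
    rintro s ⟨g, hg, rfl⟩
    have h1 := Subgroup.mem_center_iff.mp hz ⟨g, hg⟩
    have h2 := congrArg mat h1
    exact h2.symm
  -- commute or anticommute
  have K2 : ∀ x y : R, mat x * mat y = mat y * mat x ∨ mat x * mat y = -(mat y * mat x) := by
    intro x y
    obtain ⟨hc, hsq⟩ := hfacts.1 x y
    obtain ⟨c, hcm⟩ := K1 _ hc
    have h1 : mat (⁅x, y⁆ ^ 2) = 1 := by rw [hsq]; rfl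
    rw [pow_two, mat_mul, hcm, smul_one_mul_smul_one] at h1
    have h2 : x * y = ⁅x, y⁆ * (y * x) := by
      simp only [commutatorElement_def]; group
    have h3 : mat x * mat y = c • (mat y * mat x) := by
      rw [← mat_mul, h2, mat_mul, hcm, smul_mul_assoc, one_mul, mat_mul]
    rcases hpm c (smul_one_eq_one h1) with rfl | rfl
    · left; rw [h3, one_smul]
    · right; rw [h3, neg_smul, one_smul]
  -- squares are `±1`
  have K3 : ∀ x : R, mat x * mat x = 1 ∨ mat x * mat x = -1 := by
    intro x
    obtain ⟨c, hcm⟩ := K1 _ (hfacts.2 x)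
    rw [pow_two, mat_mul] at hcm
    have h4 : x ^ 4 = 1 := by
      have := Monoid.pow_exponent_eq_one x
      rwa [hexp] at this
    have h1 : mat (x ^ 4) = 1 := by rw [h4]; rfl
    have h5 : x ^ 4 = (x * x) * (x * x) := pow_four_eq_mul x
    rw [h5, mat_mul, mat_mul, hcm, smul_one_mul_smul_one] at h1
    rcases hpm c (smul_one_eq_one h1) with rfl | rfl
    · left; rw [hcm, one_smul]
    · right; rw [hcm, neg_smul, one_smul]
  -- a generator of the centre
  obtain ⟨g, hg⟩ := hcyc.exists_generator
  have hgord : orderOf g = 4 := by rw [orderOf_eq_card_of_forall_mem_zpowers hg, hRZ]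
  set g₀ : R := (g : R) with hg₀
  have hg₀ord : orderOf g₀ = 4 := by rw [hg₀, Subgroup.orderOf_coe, hgord]
  have hg₀Z : g₀ ∈ center R := g.2
  obtain ⟨i, hi⟩ := K1 g₀ hg₀Z
  have hi2 : i ^ 2 = -1 := by
    have h4 : g₀ ^ 4 = 1 := by
      have := pow_orderOf_eq_one g₀
      rwa [hg₀ord] at this
    have h2 : g₀ ^ 2 ≠ 1 := by
      intro h
      have := orderOf_dvd_of_pow_eq_one h
      rw [hg₀ord] at this
      norm_num at this
    have e4 : (i * i) * (i * i) = 1 := by
      have h1 : mat (g₀ ^ 4) = 1 := by rw [h4]; rfl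
      have h5 : g₀ ^ 4 = (g₀ * g₀) * (g₀ * g₀) := pow_four_eq_mul g₀
      rw [h5, mat_mul, mat_mul, hi, smul_one_mul_smul_one, smul_one_mul_smul_one] at h1
      exact smul_one_eq_one h1
    rcases hpm (i * i) e4 with h | h
    · exfalso
      apply h2
      apply mat_injective
      rw [pow_two, mat_mul, hi, smul_one_mul_smul_one, h, one_smul]; rfl
    · rw [pow_two]; exact h
  -- central elements are powers of `g₀`
  have hZpow : ∀ z : R, z ∈ center R → z ∈ zpowers g₀ := by
    intro z hz
    obtain ⟨k, hk⟩ := Subgroup.mem_zpowers_iff.mp (hg ⟨z, hz⟩)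
    refine Subgroup.mem_zpowers_iff.mpr ⟨k, ?_⟩
    have := congrArg (Subtype.val) hk
    rw [Subgroup.coe_zpow] at this
    exact this
  -- normalisation of squares
  have normalize : ∀ x : R, ∃ x' : R, mat x' * mat x' = 1 ∧
      ∀ y : R, (x' * y = y * x' ↔ x * y = y * x) := by
    intro x
    rcases K3 x with h | h
    · exact ⟨x, h, fun y => Iff.rfl⟩
    · refine ⟨g₀ * x, ?_, fun y => ?_⟩
      · rw [mat_mul, hi, smul_mul_assoc, one_mul, smul_mul_assoc, mul_smul_comm, smul_smul, h,
          ← pow_two, hi2, neg_smul, one_smul, neg_neg]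
      · have hc := Subgroup.mem_center_iff.mp hg₀Z
        constructor
        · intro h1
          have : g₀ * (x * y) = g₀ * (y * x) := by
            calc g₀ * (x * y) = g₀ * x * y := (mul_assoc _ _ _).symm
              _ = y * (g₀ * x) := h1
              _ = y * g₀ * x := (mul_assoc _ _ _).symm
              _ = g₀ * y * x := by rw [hc y]
              _ = g₀ * (y * x) := mul_assoc _ _ _
          exact mul_left_cancel this
        · intro h1
          calc g₀ * x * y = g₀ * (x * y) := mul_assoc _ _ _
            _ = g₀ * (y * x) := by rw [h1]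
            _ = g₀ * y * x := (mul_assoc _ _ _).symm
            _ = y * g₀ * x := by rw [hc y]
            _ = y * (g₀ * x) := mul_assoc _ _ _
  have hidx : ∀ c : R, (centralizer ({c} : Set R)).index ≤ 2 := by
    intro c
    exact index_centralizer_le_two hcyc (by rw [htop]; exact Subgroup.mem_top c)
  have hcardR : Nat.card R = 64 := by rw [hR6]; norm_num
  -- first pair
  obtain ⟨a, ha⟩ : ∃ a : R, a ∉ center R := by
    by_contra hcon
    push Not at hcon
    have : center R = ⊤ := (Subgroup.eq_top_iff' _).mpr hcon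
    rw [this, Subgroup.card_top, hcardR] at hRZ
    norm_num at hRZ
  obtain ⟨b, hb⟩ : ∃ b : R, b * a ≠ a * b := by
    by_contra hcon
    push Not at hcon
    exact ha (Subgroup.mem_center_iff.mpr hcon)
  obtain ⟨a1, ha1, hca1⟩ := normalize a
  obtain ⟨b1, hb1, hcb1⟩ := normalize b
  have hab1 : a1 * b1 ≠ b1 * a1 := by
    intro h
    have h1 : a * b1 = b1 * a := (hca1 b1).mp h
    have h2 : b * a = a * b := (hcb1 a).mp h1.symm
    exact hb h2
  -- the centraliser of the first pair
  set H2 : Subgroup R := centralizer ({a1} : Set R) ⊓ centralizer ({b1} : Set R) with hH2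
  have hH2mem : ∀ x : R, x ∈ H2 ↔ a1 * x = x * a1 ∧ b1 * x = x * b1 := by
    intro x
    rw [hH2, Subgroup.mem_inf, mem_centralizer_iff, mem_centralizer_iff]
    constructor
    · rintro ⟨h1, h2⟩
      exact ⟨h1 a1 rfl, h2 b1 rfl⟩
    · rintro ⟨h1, h2⟩
      refine ⟨fun h hh => ?_, fun h hh => ?_⟩
      · rw [Set.mem_singleton_iff] at hh; subst hh; exact h1
      · rw [Set.mem_singleton_iff] at hh; subst hh; exact h2
  have hH2card : 16 ≤ Nat.card H2 := by
    have h1 : H2.index ≤ 4 := by
      calc H2.index ≤ (centralizer ({a1} : Set R)).index * (centralizer ({b1} : Set R)).index :=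
            Subgroup.index_inf_le
        _ ≤ 2 * 2 := Nat.mul_le_mul (hidx a1) (hidx b1)
    have h2 : Nat.card H2 * H2.index = 64 := by rw [Subgroup.card_mul_index, hcardR]
    nlinarith
  obtain ⟨a', ha'H, b', hb'H, hab'⟩ : ∃ a' ∈ H2, ∃ b' ∈ H2, a' * b' ≠ b' * a' := by
    by_contra hcon
    push Not at hcon
    -- then `H2` is central
    have ha1H : a1 ∉ closure (H2 : Set R) := by
      rw [closure_eq, hH2mem]
      rintro ⟨-, h⟩
      exact hab1 h.symm
    have c1 := two_mul_card_closure_le (H2 : Set R) a1 ha1H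
    rw [closure_eq] at c1
    have hb1L : b1 ∉ closure (insert a1 (H2 : Set R)) := by
      intro h
      have hle : closure (insert a1 (H2 : Set R)) ≤ centralizer ({a1} : Set R) := by
        rw [closure_le]
        intro x hx
        rcases hx with rfl | hx
        · rw [SetLike.mem_coe, mem_centralizer_iff]
          intro h hh
          rw [Set.mem_singleton_iff] at hh; subst hh; rfl
        · exact (Subgroup.mem_inf.mp hx).1
      have := mem_centralizer_iff.mp (hle h) a1 rfl
      exact hab1 this
    have c2 := two_mul_card_closure_le _ b1 hb1L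
    have htop2 : closure (insert b1 (insert a1 (H2 : Set R))) = ⊤ := by
      apply Subgroup.eq_top_of_le_card
      rw [hcardR]
      omega
    have hH2Z : H2 ≤ center R := by
      intro x hx
      have hxc : x ∈ centralizer (insert b1 (insert a1 (H2 : Set R))) := by
        rw [mem_centralizer_iff]
        intro h hh
        rcases hh with rfl | rfl | hh
        · exact ((hH2mem x).mp hx).2
        · exact ((hH2mem x).mp hx).1
        · exact hcon h hh x hx
      rw [← centralizer_closure, htop2, Subgroup.coe_top, centralizer_univ] at hxc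
      exact hxc
    have := Subgroup.card_le_of_le hH2Z
    rw [hRZ] at this
    omega
  obtain ⟨a2, ha2, hca2⟩ := normalize a'
  obtain ⟨b2, hb2, hcb2⟩ := normalize b'
  have hab2 : a2 * b2 ≠ b2 * a2 := by
    intro h
    have h1 : a' * b2 = b2 * a' := (hca2 b2).mp h
    have h2 : b' * a' = a' * b' := (hcb2 a').mp h1.symm
    exact hab' h2.symm
  have ha2H : a1 * a2 = a2 * a1 ∧ b1 * a2 = a2 * b1 := by
    obtain ⟨h1, h2⟩ := (hH2mem a').mp ha'H
    exact ⟨((hca2 a1).mpr h1.symm).symm, ((hca2 b1).mpr h2.symm).symm⟩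
  have hb2H : a1 * b2 = b2 * a1 ∧ b1 * b2 = b2 * b1 := by
    obtain ⟨h1, h2⟩ := (hH2mem b').mp hb'H
    exact ⟨((hcb2 a1).mpr h1.symm).symm, ((hcb2 b1).mpr h2.symm).symm⟩
  have anti : ∀ x y : R, x * y ≠ y * x → mat x * mat y = -(mat y * mat x) := by
    intro x y hxy
    rcases K2 x y with h | h
    · exfalso
      apply hxy
      apply mat_injective
      rw [mat_mul, mat_mul, h]
    · exact h
  refine ⟨i, g₀, a1, b1, a2, b2, hi2, hi, ha1, hb1, ha2, hb2, anti a1 b1 hab1, anti a2 b2 hab2,
    ?_, ?_, ?_, ?_, ?_⟩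
  · rw [← mat_mul, ha2H.1, mat_mul]
  · rw [← mat_mul, hb2H.1, mat_mul]
  · rw [← mat_mul, ha2H.2, mat_mul]
  · rw [← mat_mul, hb2H.2, mat_mul]
  -- generation
  · have cent_le : ∀ (s : Set R) (x : R), (∀ y ∈ s, y * x = x * y) →
        closure s ≤ centralizer ({x} : Set R) := by
      intro s x hs
      rw [closure_le]
      intro y hy
      rw [SetLike.mem_coe, mem_centralizer_iff]
      intro h hh
      rw [Set.mem_singleton_iff] at hh; subst hh
      exact (hs y hy).symm
    have not_mem : ∀ (s : Set R) (x y : R), (∀ z ∈ s, z * x = x * z) → y * x ≠ x * y →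
        y ∉ closure s := by
      intro s x y hs hxy h
      have := mem_centralizer_iff.mp (cent_le s x hs h) x rfl
      exact hxy this.symm
    have hZc : ∀ (x : R), ∀ z ∈ (center R : Set R), z * x = x * z := by
      intro x z hz
      exact (Subgroup.mem_center_iff.mp hz x).symm
    set s0 : Set R := (center R : Set R) with hs0
    have m1 : a1 ∉ closure s0 := not_mem s0 b1 a1 (hZc b1) hab1
    have m2 : b1 ∉ closure (insert a1 s0) := by
      apply not_mem _ a1 b1 _ hab1.symm
      intro z hz
      rcases hz with rfl | hz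
      · rfl
      · exact hZc a1 z hz
    have m3 : a2 ∉ closure (insert b1 (insert a1 s0)) := by
      apply not_mem _ b2 a2 _ hab2
      intro z hz
      rcases hz with rfl | rfl | hz
      · exact hb2H.2
      · exact hb2H.1
      · exact hZc b2 z hz
    have m4 : b2 ∉ closure (insert a2 (insert b1 (insert a1 s0))) := by
      apply not_mem _ a2 b2 _ hab2.symm
      intro z hz
      rcases hz with rfl | rfl | rfl | hz
      · rfl
      · exact ha2H.2
      · exact ha2H.1
      · exact hZc a2 z hz
    have c0 : Nat.card (closure s0) = 4 := by rw [hs0, closure_eq, hRZ]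
    have c1 := two_mul_card_closure_le _ _ m1
    have c2 := two_mul_card_closure_le _ _ m2
    have c3 := two_mul_card_closure_le _ _ m3
    have c4 := two_mul_card_closure_le _ _ m4
    have hbig : closure (insert b2 (insert a2 (insert b1 (insert a1 s0)))) = ⊤ := by
      apply Subgroup.eq_top_of_le_card
      rw [hcardR]
      omega
    rw [eq_top_iff, ← hbig, closure_le]
    intro x hx
    rcases hx with rfl | rfl | rfl | rfl | hx
    · exact subset_closure (by simp)
    · exact subset_closure (by simp)
    · exact subset_closure (by simp)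
    · exact subset_closure (by simp)
    · have h1 := hZpow x hx
      have h2 : zpowers g₀ ≤ closure ({g₀, b1, a1, b2, a2} : Set R) := by
        rw [Subgroup.zpowers_le]
        exact subset_closure (by simp)
      exact h2 h1

end gens

end Cfsg.Agent.Lib.Lead.PauliForm
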