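import Mathlib
import Cfsg.Prelude.Def_GeometricClasses
import Cfsg.Agent.H9.Pauli4A
import Cfsg.Agent.Lib.Lead.PauliFormB
import Cfsg.Agent.Lib.Lead.PauliFormC

/-!
An absolutely irreducible symplectic-type `2`-group of order `2^6` with centre of order `4` in
`GL₄(F)` is conjugate to the standard group `4 ∘ 2^{1+4}` (author: lead, for helper9).
-/

set_option autoImplicit false
set_option linter.style.haveILetI false

namespace Cfsg.Agent.Lib.Lead.PauliForm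

open Matrix Subgroup Cfsg.Agent.H9.Pauli4

theorem conj_eq_of_mul_eq {F : Type*} [Field F] (G₀ Y X : GL (Fin 4) F)
    (h : (X : Matrix (Fin 4) (Fin 4) F) * (G₀ : Matrix (Fin 4) (Fin 4) F)
      = (G₀ : Matrix (Fin 4) (Fin 4) F) * (Y : Matrix (Fin 4) (Fin 4) F)) :
    (MulAut.conj G₀).toMonoidHom Y = X := by
  show G₀ * Y * G₀⁻¹ = X
  rw [mul_inv_eq_iff_eq_mul]
  apply Units.ext
  rw [Units.val_mul, Units.val_mul]
  exact h.symm

theorem exists_pauli_form {F : Type*} [Field F] [Fintype F] [DecidableEq F] (h2 : (2 : F) ≠ 0)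
    (R : Subgroup (GL (Fin 4) F)) (hRs : Cfsg.Geo.IsSymplecticTypeGroup 2 R)
    (hRi : Cfsg.Geo.ActsAbsolutelyIrreducibly (Cfsg.Geo.matrixSet R))
    (hR6 : Nat.card R = 2 ^ 6) (hRZ : Nat.card (Subgroup.center R) = 4) :
    ∃ (i : F) (hi : i ≠ 0) (G₀ : GL (Fin 4) F), i ^ 2 = -1 ∧
      R = (Cfsg.Agent.H9.Pauli4.Pstd i hi).map (MulAut.conj G₀).toMonoidHom := by
  obtain ⟨i, g₀, a1, b1, a2, b2, hi2, hg, ha1, hb1, ha2, hb2, h11, h22, haa, hab, hba, hbb, hgen⟩ :=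
    exists_generators R hRs hRi hR6 hRZ
  obtain ⟨G₀, e1, e2, e3, e4⟩ := exists_pauli_basis h2 (mat a1) (mat b1) (mat a2) (mat b2)
    ha1 hb1 ha2 hb2 h11 h22 haa hab hba hbb
  have hi : i ≠ 0 := by
    rintro rfl
    have : (0 : F) = -1 := by rw [← hi2]; ring
    have h1 : (1 : F) = 0 := by rw [← neg_neg (1 : F), ← this, neg_zero]
    exact one_ne_zero h1
  refine ⟨i, hi, G₀, hi2, ?_⟩
  have h1 : R = (closure ({g₀, b1, a1, b2, a2} : Set R)).map R.subtype := by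
    rw [hgen, ← MonoidHom.range_eq_map, Subgroup.range_subtype]
  have c0 : (MulAut.conj G₀).toMonoidHom (sc4 i hi) = (g₀ : GL (Fin 4) F) := by
    apply conj_eq_of_mul_eq
    show mat g₀ * (G₀ : Matrix (Fin 4) (Fin 4) F) = (G₀ : Matrix (Fin 4) (Fin 4) F) * _
    rw [hg, sc4, dg4_val, ← Matrix.smul_one_eq_diagonal, smul_mul_assoc, one_mul, mul_smul_comm,
      mul_one]
  have c1 : (MulAut.conj G₀).toMonoidHom X1g = (b1 : GL (Fin 4) F) :=
    conj_eq_of_mul_eq _ _ _ e2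
  have c2 : (MulAut.conj G₀).toMonoidHom Z1g = (a1 : GL (Fin 4) F) :=
    conj_eq_of_mul_eq _ _ _ e1
  have c3 : (MulAut.conj G₀).toMonoidHom X2g = (b2 : GL (Fin 4) F) :=
    conj_eq_of_mul_eq _ _ _ e4
  have c4 : (MulAut.conj G₀).toMonoidHom Z2g = (a2 : GL (Fin 4) F) :=
    conj_eq_of_mul_eq _ _ _ e3
  rw [h1, MonoidHom.map_closure, Pstd, MonoidHom.map_closure]
  congr 1
  simp only [Set.image_insert_eq, Set.image_singleton, c0, c1, c2, c3, c4]
  rfl

end Cfsg.Agent.Lib.Lead.PauliForm
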