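import Cfsg.Agent.Lib.Lead.ZStarCons3

set_option autoImplicit false

universe u

namespace Cfsg.Agent.ZStarCons

open Cfsg Cfsg.Agent.H2
open scoped Pointwise

/-- Counting the elements inverted by an involution acting on a subgroup of odd order. -/
theorem inverted_count {G : Type u} [Group G] [Finite G] (z : G) (hz2 : z * z = 1)
    (P : Subgroup G) (hodd : Odd (Nat.card P)) (hzP : ∀ x ∈ P, z * x * z⁻¹ ∈ P) :
    (P ⊓ Subgroup.centralizer ({z} : Set G)).relIndex P =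
      Nat.card {x : G // x ∈ P ∧ z * x * z⁻¹ = x⁻¹} := by
  have hzinv : z⁻¹ = z := inv_eq_of_mul_eq_one_left hz2
  set C := Subgroup.centralizer ({z} : Set G) with hC
  have hmemC : ∀ a : G, a ∈ C ↔ z * a = a * z := by
    intro a
    rw [hC, Subgroup.mem_centralizer_iff]
    simp
  unfold Subgroup.relIndex Subgroup.index
  apply Nat.card_congr
  let φ : P → {x : G // x ∈ P ∧ z * x * z⁻¹ = x⁻¹} := fun x =>
    ⟨(x : G) * (z * (x : G)⁻¹ * z⁻¹), P.mul_mem x.2 (hzP _ (P.inv_mem x.2)), by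
      have h1 : z * ((x : G) * (z * (x : G)⁻¹ * z⁻¹)) * z⁻¹
          = z * (x : G) * z * (x : G)⁻¹ * (z * z)⁻¹ := by group
      have h2 : ((x : G) * (z * (x : G)⁻¹ * z⁻¹))⁻¹ = z * (x : G) * z⁻¹ * (x : G)⁻¹ := by group
      rw [h1, h2, hz2, inv_one, mul_one, hzinv]⟩
  have hφ : ∀ x y : P, (x : G)⁻¹ * (y : G) ∈ C → φ x = φ y := by
    intro x y h
    apply Subtype.ext
    change (x : G) * (z * (x : G)⁻¹ * z⁻¹) = (y : G) * (z * (y : G)⁻¹ * z⁻¹)
    have h1 := (hmemC _).mp h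
    have h2 : (y : G) = (x : G) * ((x : G)⁻¹ * (y : G)) := by group
    have h3 : (y : G) * (z * (y : G)⁻¹ * z⁻¹)
        = (x : G) * (((x : G)⁻¹ * (y : G)) * z) * ((x : G)⁻¹ * (y : G))⁻¹ * (x : G)⁻¹ * z⁻¹ := by
      group
    rw [h3, ← h1]; group
  let f : (P ⧸ (P ⊓ C).subgroupOf P) → {x : G // x ∈ P ∧ z * x * z⁻¹ = x⁻¹} :=
    fun q => Quotient.liftOn' q φ (by
      intro x y hxy
      rw [QuotientGroup.leftRel_apply, Subgroup.mem_subgroupOf] at hxy
      exact hφ x y hxy.2)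
  refine Equiv.ofBijective f ⟨?_, ?_⟩
  · intro q₁ q₂
    induction q₁ using Quotient.inductionOn' with | _ x => ?_
    induction q₂ using Quotient.inductionOn' with | _ y => ?_
    intro h
    change φ x = φ y at h
    have h0 : (x : G) * (z * (x : G)⁻¹ * z⁻¹) = (y : G) * (z * (y : G)⁻¹ * z⁻¹) :=
      congrArg Subtype.val h
    apply Quotient.sound'
    rw [QuotientGroup.leftRel_apply, Subgroup.mem_subgroupOf]
    refine ⟨P.mul_mem (P.inv_mem x.2) y.2, ?_⟩
    change (x : G)⁻¹ * (y : G) ∈ C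
    rw [hmemC]
    have h1 : z * (x : G)⁻¹ = (x : G)⁻¹ * ((x : G) * (z * (x : G)⁻¹ * z⁻¹)) * z := by group
    calc z * ((x : G)⁻¹ * (y : G)) = (z * (x : G)⁻¹) * (y : G) := by group
      _ = (x : G)⁻¹ * ((y : G) * (z * (y : G)⁻¹ * z⁻¹)) * z * (y : G) := by rw [h1, h0]
      _ = (x : G)⁻¹ * (y : G) * z := by group
  · rintro ⟨i, hiP, hinv⟩
    have hio : Odd (orderOf i) := by
      apply Odd.of_dvd_nat hodd
      have := orderOf_dvd_natCard (⟨i, hiP⟩ : P)
      rwa [Subgroup.orderOf_mk] at this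
    obtain ⟨k, hk⟩ := hio
    refine ⟨QuotientGroup.mk ⟨i ^ (k + 1), P.pow_mem hiP _⟩, ?_⟩
    apply Subtype.ext
    change i ^ (k + 1) * (z * (i ^ (k + 1))⁻¹ * z⁻¹) = i
    have h1 := conj_pow_of_inverts hinv (k + 1)
    have h2 : z * (i ^ (k + 1))⁻¹ * z⁻¹ = (z * i ^ (k + 1) * z⁻¹)⁻¹ := by group
    rw [h2, h1, inv_inv, ← pow_add]
    have : k + 1 + (k + 1) = orderOf i + 1 := by omega
    rw [this, pow_succ, pow_orderOf_eq_one, one_mul]

/-- Row S1253 (a) from Z*. -/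
theorem sylow_centralizer (hZ : ZStarStatement.{u}) {G : Type u} [Group G] [Finite G] (z : G)
    (hz : IsIsolatedInvolution z) {p : ℕ} [Fact p.Prime] (P : Sylow p G)
    (hzP : z ∈ Subgroup.normalizer ((P : Subgroup G) : Set G)) :
    ¬ p ∣ ((P : Subgroup G) ⊓ Subgroup.centralizer ({z} : Set G)).relIndex
      (Subgroup.centralizer ({z} : Set G)) := by
  have hz2 : z * z = 1 := IsIsolatedInvolution.mul_self hz
  have hzinv : z⁻¹ = z := inv_eq_of_mul_eq_one_left hz2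
  have hp := (Fact.out : p.Prime)
  set C := Subgroup.centralizer ({z} : Set G) with hC
  have hmemC : ∀ a : G, a ∈ C ↔ z * a = a * z := by
    intro a
    rw [hC, Subgroup.mem_centralizer_iff]
    simp
  -- a Sylow `p`-subgroup of `C`
  let R₀ : Sylow p C := default
  set R : Subgroup G := (R₀ : Subgroup C).map C.subtype with hR
  have hRC : R ≤ C := Subgroup.map_subtype_le _
  have hRc : Nat.card R = p ^ (Nat.card C).factorization p := by
    rw [hR, Subgroup.card_map_of_injective C.subtype_injective]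
    exact Sylow.card_eq_multiplicity R₀
  have hRp : IsPGroup p R := IsPGroup.of_card hRc
  have hnorm_of : ∀ T : Subgroup G, (∀ t ∈ T, z * t * z⁻¹ ∈ T) →
      z ∈ Subgroup.normalizer (T : Set G) := by
    intro T hT
    rw [Subgroup.mem_normalizer_iff]
    intro h
    refine ⟨hT h, fun hh => ?_⟩
    have := hT _ hh
    have h2 : z * (z * h * z⁻¹) * z⁻¹ = (z * z) * h * (z * z)⁻¹ := by group
    rwa [h2, hz2, one_mul, inv_one, mul_one] at this
  have hzR : z ∈ Subgroup.normalizer (R : Set G) := by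
    apply hnorm_of
    intro t ht
    have := (hmemC t).mp (hRC ht)
    rw [this]
    have : t * z * z⁻¹ = t := by group
    rwa [this]
  -- a maximal `z`-invariant `p`-subgroup containing `R`
  let 𝒯 : Set (Subgroup G) :=
    {T | IsPGroup p T ∧ z ∈ Subgroup.normalizer (T : Set G) ∧ R ≤ T}
  have h𝒯 : 𝒯.Nonempty := ⟨R, hRp, hzR, le_refl R⟩
  obtain ⟨Q, hQ𝒯, hQmax⟩ := WellFounded.has_min (wellFounded_gt (α := Subgroup G)) 𝒯 h𝒯
  obtain ⟨hQp, hzQ, hRQ⟩ := hQ𝒯
  obtain ⟨P', hP'⟩ := invariant_sylow hZ z hz Q hQp hzQ (by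
    intro T hTp hzT hQT
    by_contra hne
    exact hQmax T ⟨hTp, hzT, hRQ.trans hQT⟩ (lt_of_le_of_ne hQT (Ne.symm hne)))
  obtain ⟨g, hg⟩ := MulAction.exists_smul_eq G P P'
  have hmemQ : ∀ x : G, x ∈ Q ↔ g⁻¹ * x * g ∈ P := by
    intro x
    have h1 : (P' : Subgroup G) = MulAut.conj g • (P : Subgroup G) := by
      rw [← hg, Sylow.coe_subgroup_smul]
    rw [← hP', h1, Subgroup.mem_pointwise_smul_iff_inv_smul_mem, MulAut.smul_def, ← map_inv,
      MulAut.conj_apply, inv_inv]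
    rfl
  -- `z' = g z g⁻¹` normalizes `Q`
  have hz'Q : g * z * g⁻¹ ∈ Subgroup.normalizer (Q : Set G) := by
    rw [Subgroup.mem_normalizer_iff]
    intro h
    rw [hmemQ, hmemQ]
    have h1 := Subgroup.mem_normalizer_iff.mp hzP (g⁻¹ * h * g)
    have h2 : g⁻¹ * (g * z * g⁻¹ * h * (g * z * g⁻¹)⁻¹) * g = z * (g⁻¹ * h * g) * z⁻¹ := by group
    rw [h2]
    exact h1
  obtain ⟨j, hj⟩ := IsIsolatedInvolution.exists_pow_conj hz g
  set m := (g * z * g⁻¹ * z) ^ j with hm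
  have hmQ : m ∈ Subgroup.normalizer (Q : Set G) :=
    Subgroup.pow_mem _ (Subgroup.mul_mem _ hz'Q hzQ) _
  set c := m⁻¹ * g with hc
  have hcC : c ∈ C := by
    rw [hmemC]
    have h1 : g * z = m * z * m⁻¹ * g := by rw [hj]; group
    calc z * c = m⁻¹ * (m * z * m⁻¹ * g) := by rw [hc]; group
      _ = c * z := by rw [← h1, hc]; group
  have hmemQ' : ∀ x : G, x ∈ P ↔ c * x * c⁻¹ ∈ Q := by
    intro x
    have h1 := Subgroup.mem_normalizer_iff.mp (Subgroup.inv_mem _ hmQ) (g * x * g⁻¹)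
    have h2 : c * x * c⁻¹ = m⁻¹ * (g * x * g⁻¹) * m⁻¹⁻¹ := by rw [hc]; group
    rw [h2, ← h1, hmemQ]
    have h3 : g⁻¹ * (g * x * g⁻¹) * g = x := by group
    rw [h3]
  -- compare cardinalities
  have hle : R ≤ ((P : Subgroup G) ⊓ C).map (MulAut.conj c).toMonoidHom := by
    intro r hr
    refine ⟨c⁻¹ * r * c, ⟨?_, ?_⟩, ?_⟩
    · change c⁻¹ * r * c ∈ P
      rw [hmemQ']
      have : c * (c⁻¹ * r * c) * c⁻¹ = r := by group
      rw [this]; exact hRQ hr
    · exact C.mul_mem (C.mul_mem (C.inv_mem hcC) (hRC hr)) hcC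
    · simp only [MulEquiv.coe_toMonoidHom, MulAut.conj_apply]; group
  have hcard : Nat.card R ≤ Nat.card ((P : Subgroup G) ⊓ C : Subgroup G) := by
    have := Subgroup.card_le_of_le hle
    rwa [card_cj c] at this
  -- conclude
  have hAp : IsPGroup p ((P : Subgroup G) ⊓ C : Subgroup G) := P.isPGroup'.to_le inf_le_left
  obtain ⟨a, ha⟩ := IsPGroup.iff_card.mp hAp
  have hidx := card_mul_relIndex_of_le ((P : Subgroup G) ⊓ C) C inf_le_right
  intro hdvd
  have h1 : p ^ (a + 1) ∣ Nat.card C := by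
    rw [← hidx, ha, pow_succ]
    exact Nat.mul_dvd_mul_left _ hdvd
  have h2 := (hp.pow_dvd_iff_le_factorization Nat.card_pos.ne').mp h1
  rw [hRc, ha] at hcard
  have h3 := (Nat.pow_le_pow_iff_right hp.one_lt).mp hcard
  omega

end Cfsg.Agent.ZStarCons
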