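import Cfsg.Agent.Lib.Lead.ZStarCons4
import Cfsg.Prelude.Def_Solvable

/-!
# A Z*-type result for an odd prime (row S5560), assuming the Z*-theorem
-/

set_option autoImplicit false

universe u

namespace Cfsg.Agent.ZStarCons

open Cfsg Cfsg.Agent.H2

/-- If two prime powers `p ^ k = q ^ l` with `p ≠ q` agree then they equal `1`. -/
lemma pow_eq_pow_of_ne_primes {p q : ℕ} (hp : p.Prime) (hq : q.Prime) (hpq : p ≠ q) {k l : ℕ}
    (h : p ^ k = q ^ l) : p ^ k = 1 := by
  rcases Nat.eq_zero_or_pos k with rfl | hk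
  · simp
  · exfalso
    have h1 : p ∣ q ^ l := h ▸ dvd_pow_self p hk.ne'
    have h2 := hp.dvd_of_dvd_pow h1
    exact hpq ((Nat.prime_dvd_prime_iff_eq hp hq).mp h2)

/-- Row S5560 from Z*. -/
theorem involution_pow_products (hZ : ZStarStatement.{u}) {G : Type u} [Group G] [Finite G]
    {p : ℕ} (hp : p.Prime) (hp2 : p ≠ 2) (d : G) (hd : orderOf d = 2)
    (hprod : ∀ a ∈ conjugatesOf d, ∀ b ∈ conjugatesOf d, ∃ k : ℕ, orderOf (a * b) = p ^ k) :
    ∀ a ∈ conjugatesOf d, ∀ b ∈ conjugatesOf d, a * b ∈ Cfsg.pCore p G := by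
  have : Fact p.Prime := ⟨hp⟩
  have hdd : d * d = 1 := by rw [← pow_two, ← hd, pow_orderOf_eq_one]
  have hdinv : d⁻¹ = d := inv_eq_of_mul_eq_one_left hdd
  have hconj : ∀ a, a ∈ conjugatesOf d ↔ ∃ g : G, g * d * g⁻¹ = a := fun a => isConj_iff
  have hconj_sq : ∀ a ∈ conjugatesOf d, a * a = 1 := by
    intro a ha
    obtain ⟨g, rfl⟩ := (hconj a).mp ha
    calc g * d * g⁻¹ * (g * d * g⁻¹) = g * (d * d) * g⁻¹ := by group
      _ = 1 := by rw [hdd]; group
  have hconj_inv : ∀ a ∈ conjugatesOf d, a⁻¹ = a := fun a ha =>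
    inv_eq_of_mul_eq_one_left (hconj_sq a ha)
  have hconj_conj : ∀ a ∈ conjugatesOf d, ∀ h : G, h * a * h⁻¹ ∈ conjugatesOf d := by
    intro a ha h
    obtain ⟨g, rfl⟩ := (hconj a).mp ha
    exact (hconj _).mpr ⟨h * g, by group⟩
  have hdself : d ∈ conjugatesOf d := mem_conjugatesOf_self
  -- (1) `d` is isolated
  have hiso : IsIsolatedInvolution d := by
    refine ⟨hd, fun g hcomm => ?_⟩
    set w := g * d * g⁻¹ with hw
    have hwc : w ∈ conjugatesOf d := (hconj w).mpr ⟨g, rfl⟩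
    obtain ⟨k, hk⟩ := hprod w hwc d hdself
    have hsq : (w * d) ^ 2 = 1 := by
      rw [pow_two]
      calc w * d * (w * d) = w * (d * w) * d := by group
        _ = w * (w * d) * d := by rw [hcomm.eq]
        _ = (w * w) * (d * d) := by group
        _ = 1 := by rw [hconj_sq w hwc, hdd, one_mul]
    have h2 : p ^ k ∣ 2 := hk ▸ orderOf_dvd_of_pow_eq_one hsq
    have h3 : p ^ k = 1 := by
      rcases (Nat.dvd_prime Nat.prime_two).mp h2 with h | h
      · exact h
      · exfalso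
        rcases Nat.eq_zero_or_pos k with rfl | hkpos
        · simp at h
        · have : p ∣ 2 := h ▸ dvd_pow_self p hkpos.ne'
          exact hp2 ((Nat.prime_dvd_prime_iff_eq hp Nat.prime_two).mp this)
    rw [h3] at hk
    have h4 : w * d = 1 := orderOf_eq_one_iff.mp hk
    calc w = (w * d) * d⁻¹ := by group
      _ = d := by rw [h4, one_mul, hdinv]
  -- (2) Z*
  obtain ⟨N₀, hN₀n, hN₀odd, hN₀c⟩ := zstar_isolated_exists hZ d hiso
  -- (3) the subgroup generated by the products of two conjugates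
  set gens : Set G := {x | ∃ a ∈ conjugatesOf d, ∃ b ∈ conjugatesOf d, x = a * b} with hgens
  have hgens_conj : ∀ x ∈ gens, ∀ h : G, h * x * h⁻¹ ∈ gens := by
    rintro x ⟨a, ha, b, hb, rfl⟩ h
    exact ⟨h * a * h⁻¹, hconj_conj a ha h, h * b * h⁻¹, hconj_conj b hb h, by group⟩
  have hconjd_N : ∀ a ∈ conjugatesOf d, a * d ∈ N₀ := by
    intro a ha
    obtain ⟨g, rfl⟩ := (hconj a).mp ha
    have h1 := N₀.inv_mem (hN₀c g)
    have h2 : (d * g * d⁻¹ * g⁻¹)⁻¹ = g * d * g⁻¹ * d⁻¹ := by group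
    rw [h2, hdinv] at h1
    exact h1
  have hgensN : gens ⊆ (N₀ : Set G) := by
    rintro x ⟨a, ha, b, hb, rfl⟩
    have h1 := hconjd_N a ha
    have h2 := N₀.inv_mem (hconjd_N b hb)
    have h3 : a * b = (a * d) * (b * d)⁻¹ := by
      rw [mul_inv_rev, hdinv, hconj_inv b hb]
      calc a * b = a * (d * d) * b := by rw [hdd, mul_one]
        _ = a * d * (d * b) := by group
    rw [h3]
    exact N₀.mul_mem h1 h2
  set M := Subgroup.normalClosure gens with hM
  have hMn : M.Normal := Subgroup.normalClosure_normal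
  have hMN : M ≤ N₀ := Subgroup.normalClosure_le_normal hgensN
  have hModd : Odd (Nat.card M) := Odd.of_dvd_nat hN₀odd (Subgroup.card_dvd_of_le hMN)
  have hgensM : gens ⊆ (M : Set G) := Subgroup.subset_normalClosure
  have hdM : ∀ x ∈ M, d * x * d⁻¹ ∈ M := fun x hx => hMn.conj_mem x hx d
  -- (4) inverted elements of `M` are `p`-elements
  have hI_gen : ∀ a ∈ conjugatesOf d, a * d ∈ M ∧ d * (a * d) * d⁻¹ = (a * d)⁻¹ := by
    intro a ha
    refine ⟨hgensM ⟨a, ha, d, hdself, rfl⟩, ?_⟩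
    calc d * (a * d) * d⁻¹ = d * a := by group
      _ = (a * d)⁻¹ := by rw [mul_inv_rev, hconj_inv a ha, hdinv]
  have hI_p : ∀ x ∈ M, d * x * d⁻¹ = x⁻¹ → ∃ k : ℕ, orderOf x = p ^ k := by
    intro x hx hinv
    have hxo : Odd (orderOf x) := by
      apply Odd.of_dvd_nat hModd
      have := orderOf_dvd_natCard (⟨x, hx⟩ : M)
      rwa [Subgroup.orderOf_mk] at this
    obtain ⟨j, hj⟩ := hxo
    set y := x ^ (j + 1) with hy
    have hyy : y * y = x := by
      rw [hy, ← pow_add]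
      have : j + 1 + (j + 1) = orderOf x + 1 := by omega
      rw [this, pow_succ, pow_orderOf_eq_one, one_mul]
    have hyinv : d * y * d⁻¹ = y⁻¹ := conj_pow_of_inverts hinv (j + 1)
    have h1 : x = (y * d * y⁻¹) * d := by
      have h2 : d * y⁻¹ * d⁻¹ = y := by
        have : d * y⁻¹ * d⁻¹ = (d * y * d⁻¹)⁻¹ := by group
        rw [this, hyinv, inv_inv]
      calc x = y * y := hyy.symm
        _ = y * (d * y⁻¹ * d⁻¹) := by rw [h2]
        _ = y * d * y⁻¹ * d := by rw [hdinv]; group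
    rw [h1]
    exact hprod _ ((hconj _).mpr ⟨y, rfl⟩) d hdself
  set C := Subgroup.centralizer ({d} : Set G) with hC
  -- (5) the index of `C_M(d)` in `M` is a power of `p`
  have hidx := card_mul_relIndex_of_le (M ⊓ C) M inf_le_left
  have hidx_pow : ∃ a : ℕ, (M ⊓ C).relIndex M = p ^ a := by
    refine ⟨_, Nat.eq_prime_pow_of_unique_prime_dvd ?_ ?_⟩
    · intro h0
      rw [h0, mul_zero] at hidx
      exact Nat.card_pos.ne' hidx.symm
    · intro q hq hqdvd
      by_contra hqp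
      have : Fact q.Prime := ⟨hq⟩
      obtain ⟨T, hTM, hTc, hdT⟩ := exists_invariant_sylow d hdd M hModd hdM q
      have hTodd : Odd (Nat.card T) := Odd.of_dvd_nat hModd (Subgroup.card_dvd_of_le hTM)
      have hcount := inverted_count d hdd T hTodd hdT
      have hTq : IsPGroup q T := IsPGroup.of_card hTc
      have hsub : Subsingleton {x : G // x ∈ T ∧ d * x * d⁻¹ = x⁻¹} := by
        constructor
        rintro ⟨x, hxT, hxinv⟩ ⟨y, hyT, hyinv⟩
        have hone : ∀ z, z ∈ T → d * z * d⁻¹ = z⁻¹ → z = 1 := by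
          intro z hzT hzinv
          obtain ⟨k, hk⟩ := hI_p z (hTM hzT) hzinv
          obtain ⟨l, hl⟩ := (IsPGroup.iff_orderOf.mp hTq) ⟨z, hzT⟩
          rw [Subgroup.orderOf_mk] at hl
          have := pow_eq_pow_of_ne_primes hp hq (Ne.symm hqp) (hk.symm.trans hl)
          rw [← hk] at this
          exact orderOf_eq_one_iff.mp this
        apply Subtype.ext
        change x = y
        rw [hone x hxT hxinv, hone y hyT hyinv]
      have hne : Nonempty {x : G // x ∈ T ∧ d * x * d⁻¹ = x⁻¹} :=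
        ⟨⟨1, T.one_mem, by simp⟩⟩
      have hcard1 : Nat.card {x : G // x ∈ T ∧ d * x * d⁻¹ = x⁻¹} = 1 :=
        Nat.card_eq_one_iff_unique.mpr ⟨hsub, hne⟩
      rw [hcard1] at hcount
      have hTC : T ≤ T ⊓ C := Subgroup.relIndex_eq_one.mp hcount
      have hTK : T ≤ M ⊓ C := le_inf hTM (hTC.trans inf_le_right)
      have h1 : q ^ (Nat.card M).factorization q ∣ Nat.card (M ⊓ C : Subgroup G) :=
        hTc ▸ Subgroup.card_dvd_of_le hTK
      have h2 : q ^ ((Nat.card M).factorization q + 1) ∣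
          Nat.card (M ⊓ C : Subgroup G) * (M ⊓ C).relIndex M := by
        rw [pow_succ]
        exact Nat.mul_dvd_mul h1 hqdvd
      rw [hidx] at h2
      have h3 := (hq.pow_dvd_iff_le_factorization Nat.card_pos.ne').mp h2
      omega
  obtain ⟨a, ha⟩ := hidx_pow
  -- (6) a `d`-invariant Sylow `p`-subgroup of `M` contains all inverted elements
  obtain ⟨P, hPM, hPc, hdP⟩ := exists_invariant_sylow d hdd M hModd hdM p
  have hPodd : Odd (Nat.card P) := Odd.of_dvd_nat hModd (Subgroup.card_dvd_of_le hPM)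
  have hPp : IsPGroup p P := IsPGroup.of_card hPc
  have hcountP := inverted_count d hdd P hPodd hdP
  have hcountM := inverted_count d hdd M hModd hdM
  have hidxP := card_mul_relIndex_of_le (P ⊓ C) P inf_le_left
  have hle1 : Nat.card (P ⊓ C : Subgroup G) ≤ p ^ (Nat.card (M ⊓ C : Subgroup G)).factorization p :=
    card_le_of_isPGroup_le (P ⊓ C) (M ⊓ C) (hPp.to_le inf_le_left)
      (inf_le_inf_right C hPM)
  have hfac : (Nat.card M).factorization p
      = (Nat.card (M ⊓ C : Subgroup G)).factorization p + a := by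
    rw [← hidx, ha, Nat.factorization_mul Nat.card_pos.ne' (pow_ne_zero _ hp.ne_zero)]
    simp [hp.factorization_self]
  have hge : p ^ a ≤ (P ⊓ C).relIndex P := by
    have h1 : Nat.card (P ⊓ C : Subgroup G) * (P ⊓ C).relIndex P
        = p ^ (Nat.card (M ⊓ C : Subgroup G)).factorization p * p ^ a := by
      rw [hidxP, hPc, hfac, pow_add]
    by_contra hlt
    rw [not_le] at hlt
    have hpos : 0 < Nat.card (P ⊓ C : Subgroup G) := Nat.card_pos
    have h2 : Nat.card (P ⊓ C : Subgroup G) * (P ⊓ C).relIndex P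
        < p ^ (Nat.card (M ⊓ C : Subgroup G)).factorization p * p ^ a := by
      calc Nat.card (P ⊓ C : Subgroup G) * (P ⊓ C).relIndex P
          < Nat.card (P ⊓ C : Subgroup G) * p ^ a := Nat.mul_lt_mul_of_pos_left hlt hpos
        _ ≤ p ^ (Nat.card (M ⊓ C : Subgroup G)).factorization p * p ^ a :=
            Nat.mul_le_mul_right _ hle1
    omega
  have hallP : ∀ x ∈ M, d * x * d⁻¹ = x⁻¹ → x ∈ P := by
    intro x hx hinv
    let ι : {x : G // x ∈ P ∧ d * x * d⁻¹ = x⁻¹} → {x : G // x ∈ M ∧ d * x * d⁻¹ = x⁻¹} :=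
      fun y => ⟨y.1, hPM y.2.1, y.2.2⟩
    have hι : Function.Injective ι := by
      intro y₁ y₂ h
      have h' : (ι y₁).1 = (ι y₂).1 := by rw [h]
      exact Subtype.ext h'
    have hcard : Nat.card {x : G // x ∈ M ∧ d * x * d⁻¹ = x⁻¹}
        ≤ Nat.card {x : G // x ∈ P ∧ d * x * d⁻¹ = x⁻¹} := by
      rw [← hcountM, ← hcountP, ha]; exact hge
    obtain ⟨y, hy⟩ := (hι.bijective_of_nat_card_le hcard).2 ⟨x, hx, hinv⟩
    have : y.1 = x := congrArg Subtype.val hy
    rw [← this]; exact y.2.1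
  -- (7) `M` is a `p`-group
  have hgensP : gens ⊆ (P : Set G) := by
    rintro x ⟨a', ha', b', hb', rfl⟩
    have h1 := hallP _ (hI_gen a' ha').1 (hI_gen a' ha').2
    have h2 := P.inv_mem (hallP _ (hI_gen b' hb').1 (hI_gen b' hb').2)
    have h3 : a' * b' = (a' * d) * (b' * d)⁻¹ := by
      rw [mul_inv_rev, hdinv, hconj_inv b' hb']
      calc a' * b' = a' * (d * d) * b' := by rw [hdd, mul_one]
        _ = a' * d * (d * b') := by group
    rw [h3]
    exact P.mul_mem h1 h2
  have hMP : M ≤ P := by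
    rw [hM, Subgroup.normalClosure]
    rw [Subgroup.closure_le]
    intro x hx
    obtain ⟨y, hy, hyx⟩ := Group.mem_conjugatesOfSet_iff.mp hx
    obtain ⟨c, rfl⟩ := isConj_iff.mp hyx
    exact hgensP (hgens_conj y hy c)
  have hMp : IsPGroup p M := hPp.to_le hMP
  intro a' ha' b' hb'
  have h1 : M ≤ Cfsg.pCore p G := le_sSup ⟨hMn, hMp⟩
  exact h1 (hgensM ⟨a', ha', b', hb', rfl⟩)

end Cfsg.Agent.ZStarCons
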