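import Cfsg.Agent.Lib.Lead.ZStarCons8

/-!
# Z* in fusion language (row S5094), part 5: the centre of the fusion system lies in `Z*(G)`
-/

set_option autoImplicit false

universe u

namespace Cfsg.Agent.ZStarCons

open Cfsg Cfsg.Agent.H2
open scoped Pointwise

/-- A subgroup central in the fusion system of `G` on a Sylow `2`-subgroup lies in `Z*(G)`
(assuming the Z*-theorem). -/
theorem central_le_zstar (hZ : ZStarStatement.{u}) : ∀ (n : ℕ) (G : Type u) [Group G] [Finite G],
    Nat.card G = n → ∀ (S : Sylow 2 G) (Q : Subgroup G), CentralProp (S : Subgroup G) Q →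
      ∀ x ∈ Q, ∀ g : G, g * x * g⁻¹ * x⁻¹ ∈ oddCore G := by
  intro n
  induction n using Nat.strong_induction_on with
  | _ n ih =>
  intro G _ _ hn S Q hQ x hx g
  have : Fact (Nat.Prime 2) := ⟨Nat.prime_two⟩
  obtain ⟨hQS, hext⟩ := id hQ
  by_cases hO : oddCore G = ⊥
  · -- `O(G) = 1`
    by_cases hQbot : Q = ⊥
    · have hx1 : x = 1 := by rw [hQbot] at hx; exact Subgroup.mem_bot.mp hx
      rw [hx1]; simp
    -- elements of `Q` are centralized by `S`
    have hQcen : ∀ y ∈ Q, ∀ s ∈ (S : Subgroup G), s * y * s⁻¹ = y := by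
      intro y hy s hs
      obtain ⟨k, hkP, hkQ⟩ := hext Q hQS s (fun q hq =>
        Subgroup.mul_mem _ (Subgroup.mul_mem _ hs (hQS hq)) (Subgroup.inv_mem _ hs))
      rw [← hkP y hy, hkQ y hy]
    -- an involution of `Q`
    have hQp : IsPGroup 2 Q := S.isPGroup'.to_le hQS
    have h2dvd : 2 ∣ Nat.card Q := by
      obtain ⟨k, hk⟩ := IsPGroup.iff_card.mp hQp
      rcases Nat.eq_zero_or_pos k with rfl | hkpos
      · exfalso
        rw [pow_zero] at hk
        exact hQbot (Subgroup.card_eq_one.mp hk)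
      · rw [hk]; exact dvd_pow_self 2 hkpos.ne'
    obtain ⟨u0, hu0⟩ := exists_prime_orderOf_dvd_card' (G := Q) 2 h2dvd
    set u : G := (u0 : G) with hu
    have huo : orderOf u = 2 := by rw [hu, Subgroup.orderOf_coe, hu0]
    have huQ : u ∈ Q := u0.2
    have huu : u * u = 1 := by rw [← pow_two, ← huo, pow_orderOf_eq_one]
    have huinv : u⁻¹ = u := inv_eq_of_mul_eq_one_left huu
    have hu1 : u ≠ 1 := by
      intro h; rw [h, orderOf_one] at huo; omega
    -- `u` is isolated in `S`
    have hiso : ∀ g' : G, g' * u * g'⁻¹ ∈ (S : Subgroup G) → g' * u * g'⁻¹ = u := by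
      intro g' hg'
      obtain ⟨k, hkP, hkQ⟩ := hext (Subgroup.zpowers u) (Subgroup.zpowers_le.mpr (hQS huQ)) g' (by
        intro y hy
        obtain ⟨j, rfl⟩ := Subgroup.mem_zpowers_iff.mp hy
        rw [← conj_zpow]
        exact Subgroup.zpow_mem _ hg' j)
      rw [← hkP u (Subgroup.mem_zpowers u), hkQ u huQ]
    obtain ⟨N, hNn, hNodd, hNc⟩ := hZ S u huo (hQS huQ) hiso
    have hNbot : N = ⊥ := le_bot_iff.mp (hO ▸ le_oddCore N hNn hNodd)
    have hucen : ∀ g' : G, g' * u = u * g' := by
      intro g'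
      have h1 := hNc g'
      rw [hNbot, Subgroup.mem_bot] at h1
      calc g' * u = (u * g' * u⁻¹ * g'⁻¹)⁻¹ * (u * g') := by group
        _ = u * g' := by rw [h1, inv_one, one_mul]
    set Z := Subgroup.zpowers u with hZdef
    have hZn : Z.Normal := by
      constructor
      intro z hz g'
      obtain ⟨k, rfl⟩ := Subgroup.mem_zpowers_iff.mp hz
      have h1 : Commute g' u := hucen g'
      have h2 : g' * u ^ k * g'⁻¹ = u ^ k := by
        rw [(h1.zpow_right k).eq]; group
      rw [h2]; exact Subgroup.zpow_mem _ (Subgroup.mem_zpowers u) k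
    have hZc : Nat.card Z = 2 := by rw [hZdef, Nat.card_zpowers, huo]
    have hZmem : ∀ z ∈ Z, z = 1 ∨ z = u := by
      intro z hz
      obtain ⟨k, rfl⟩ := Subgroup.mem_zpowers_iff.mp hz
      rcases Int.even_or_odd' k with ⟨j, rfl | rfl⟩
      · left
        rw [zpow_mul, zpow_two, huu, one_zpow]
      · right
        rw [zpow_add, zpow_mul, zpow_two, huu, one_zpow, one_mul, zpow_one]
    have hcardlt : Nat.card (G ⧸ Z) < n := by
      have h1 := Subgroup.card_eq_card_quotient_mul_card_subgroup Z
      rw [hZc, hn] at h1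
      have : 0 < Nat.card (G ⧸ Z) := Nat.card_pos
      omega
    set π := QuotientGroup.mk' Z with hπ
    have hObar : oddCore (G ⧸ Z) = ⊥ := oddCore_quotient_central_two u huo hucen hO
    have hQbar := CentralProp.map_mk' S Q Z hQ
    rw [← Sylow.coe_mapSurjective (QuotientGroup.mk'_surjective Z) S] at hQbar
    -- all commutators with elements of `Q` lie in `Z`
    have hcommZ : ∀ y ∈ Q, ∀ g' : G, g' * y * g'⁻¹ * y⁻¹ ∈ Z := by
      intro y hy g'
      have h1 := ih (Nat.card (G ⧸ Z)) hcardlt (G ⧸ Z) rfl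
        (Sylow.mapSurjective (QuotientGroup.mk'_surjective Z) S) (Q.map π) hQbar
        (π y) (Subgroup.mem_map_of_mem _ hy) (π g')
      rw [hObar, Subgroup.mem_bot, ← map_inv, ← map_inv, ← map_mul, ← map_mul, ← map_mul] at h1
      exact (QuotientGroup.eq_one_iff _).mp h1
    -- conclude by an index argument
    rw [hO, Subgroup.mem_bot]
    by_contra hne
    have hgx : g * x * g⁻¹ * x⁻¹ = u := (hZmem _ (hcommZ x hx g)).resolve_left hne
    set C := Subgroup.centralizer ({x} : Set G) with hC
    have hmemC : ∀ b : G, b ∈ C ↔ b * x * b⁻¹ * x⁻¹ = 1 := by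
      intro b
      rw [hC, Subgroup.mem_centralizer_iff]
      simp only [Set.mem_singleton_iff, forall_eq]
      constructor
      · intro h
        calc b * x * b⁻¹ * x⁻¹ = (b * x) * b⁻¹ * x⁻¹ := by group
          _ = 1 := by rw [← h]; group
      · intro h
        calc x * b = (b * x * b⁻¹ * x⁻¹)⁻¹ * (b * x) := by group
          _ = b * x := by rw [h, inv_one, one_mul]
    have hSC : (S : Subgroup G) ≤ C := by
      intro s hs
      rw [hmemC, hQcen x hx s hs]; group
    have hgC : g ∉ C := fun h => hne ((hmemC g).mp h)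
    have hidx : C.index = 2 := by
      rw [Subgroup.index_eq_two_iff]
      refine ⟨g⁻¹, fun b => ?_⟩
      by_cases hb : b ∈ C
      · right
        refine ⟨hb, fun h => hgC ?_⟩
        have h1 : g = (b * g⁻¹)⁻¹ * b := by group
        rw [h1]
        exact C.mul_mem (C.inv_mem h) hb
      · left
        refine ⟨?_, hb⟩
        have hbx : b * x * b⁻¹ * x⁻¹ = u :=
          (hZmem _ (hcommZ x hx b)).resolve_left (fun h => hb ((hmemC b).mpr h))
        rw [hmemC]
        have h1 : g * x * g⁻¹ = u * x := by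
          calc g * x * g⁻¹ = (g * x * g⁻¹ * x⁻¹) * x := by group
            _ = u * x := by rw [hgx]
        have h2 : g⁻¹ * x * g = u * x := by
          have h3 : x = g⁻¹ * (u * x) * g := by rw [← h1]; group
          have h4 : g⁻¹ * (u * x) * g = u * (g⁻¹ * x * g) := by
            calc g⁻¹ * (u * x) * g = (g⁻¹ * u) * x * g := by group
              _ = (u * g⁻¹) * x * g := by rw [hucen g⁻¹]
              _ = u * (g⁻¹ * x * g) := by group
          calc g⁻¹ * x * g = (u * u) * (g⁻¹ * x * g) := by rw [huu, one_mul]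
            _ = u * (u * (g⁻¹ * x * g)) := by group
            _ = u * x := by rw [← h4, ← h3]
        have h5 : b * x * b⁻¹ = u * x := by
          calc b * x * b⁻¹ = (b * x * b⁻¹ * x⁻¹) * x := by group
            _ = u * x := by rw [hbx]
        calc b * g⁻¹ * x * (b * g⁻¹)⁻¹ * x⁻¹ = b * (g⁻¹ * x * g) * b⁻¹ * x⁻¹ := by group
          _ = b * (u * x) * b⁻¹ * x⁻¹ := by rw [h2]
          _ = (b * u) * x * b⁻¹ * x⁻¹ := by group
          _ = (u * b) * x * b⁻¹ * x⁻¹ := by rw [hucen b]
          _ = u * (b * x * b⁻¹) * x⁻¹ := by group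
          _ = u * (u * x) * x⁻¹ := by rw [h5]
          _ = u * u := by group
          _ = 1 := huu
    have h1 : C.index ∣ (S : Subgroup G).index := Subgroup.index_dvd_of_le hSC
    rw [hidx] at h1
    exact S.not_dvd_index h1
  · -- `O(G) ≠ 1`
    set O := oddCore G with hOdef
    have hcardlt : Nat.card (G ⧸ O) < n := by
      have h1 := Subgroup.card_eq_card_quotient_mul_card_subgroup O
      rw [hn] at h1
      have h2 : 1 < Nat.card O := (Subgroup.one_lt_card_iff_ne_bot O).mpr hO
      have h3 : 0 < Nat.card (G ⧸ O) := Nat.card_pos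
      nlinarith
    set π := QuotientGroup.mk' O with hπ
    have hObar : oddCore (G ⧸ O) = ⊥ :=
      Cfsg.Agent.Lib.Lead.PiCore.pPrimeCore_quotient_eq_bot Nat.prime_two
    have hQbar := CentralProp.map_mk' S Q O hQ
    rw [← Sylow.coe_mapSurjective (QuotientGroup.mk'_surjective O) S] at hQbar
    have h1 := ih (Nat.card (G ⧸ O)) hcardlt (G ⧸ O) rfl
      (Sylow.mapSurjective (QuotientGroup.mk'_surjective O) S) (Q.map π) hQbar
      (π x) (Subgroup.mem_map_of_mem _ hx) (π g)
    rw [hObar, Subgroup.mem_bot, ← map_inv, ← map_inv, ← map_mul, ← map_mul, ← map_mul] at h1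
    exact (QuotientGroup.eq_one_iff _).mp h1

/-- Row S5094 from Z*. -/
theorem fusion_center (hZ : ZStarStatement.{u}) {G : Type u} [Group G] [Finite G] (S : Sylow 2 G) :
    (groupFusionSystem (S : Subgroup G)).center =
      (S : Subgroup G) ⊓
        (Subgroup.center (G ⧸ oddCore G)).comap (QuotientGroup.mk' (oddCore G)) := by
  apply le_antisymm
  · apply sSup_le
    intro Q hQ
    have hc := centralProp_of_isCentral hQ
    exact le_inf hc.1 (fun x hx => (mem_zs_iff x).mpr (central_le_zstar hZ _ G rfl S Q hc x hx))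
  · apply le_sSup
    exact isCentral_of_centralProp (zs_inf_central S)

end Cfsg.Agent.ZStarCons
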