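import Cfsg.Agent.Lib.Lead.ZStarCons2
import Cfsg.Agent.Lib.Lead.ZStarCons9
import Cfsg.Agent.Lib.Lead.ZStarCons10

/-!
# Rows that follow from Glauberman's Z*-theorem (S0215), stated with `ZStarStatement` as hypothesis

`row0225`, `row1188`, `row1187`, `row1253`, `row5094`, `row5560` have exactly the conclusions of the
corresponding frozen statements.
-/

set_option autoImplicit false

universe u

namespace Cfsg.Agent.ZStarCons

open Cfsg Cfsg.Agent.H2

theorem row0225 (hZ : ZStarStatement.{u}) {G : Type u} [Group G] [Finite G]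
    (heven : Even (Nat.card G)) (hrank : ∀ E : Subgroup G, ¬ IsKleinFour E) :
    ∃ z : G, orderOf z = 2 ∧ ∃ N : Subgroup G, N.Normal ∧ Odd (Nat.card N) ∧
      ∀ g : G, z * g * z⁻¹ * g⁻¹ ∈ N :=
  two_rank_one hZ heven hrank

theorem row1188 (hZ : ZStarStatement.{u}) {G : Type u} [Group G] [Finite G] (z : G)
    (hz : Cfsg.IsIsolatedInvolution z) : ∀ g : G, z * g * z⁻¹ * g⁻¹ ∈ Cfsg.oddCore G :=
  zstar_isolated hZ z hz

theorem row1187 (hZ : ZStarStatement.{u}) {G : Type u} [Group G] [Finite G] (z : G)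
    (hz : Cfsg.IsIsolatedInvolution z) {p : ℕ} [Fact p.Prime] (Q : Subgroup G) (hQ : IsPGroup p Q)
    (hzQ : z ∈ Subgroup.normalizer (Q : Set G))
    (hmax : ∀ R : Subgroup G, IsPGroup p R → z ∈ Subgroup.normalizer (R : Set G) → Q ≤ R → R = Q) :
    ∃ P : Sylow p G, (P : Subgroup G) = Q :=
  invariant_sylow hZ z hz Q hQ hzQ hmax

theorem row1253 (hZ : ZStarStatement.{u}) {G : Type u} [Group G] [Finite G] (z : G)
    (hz : Cfsg.IsIsolatedInvolution z) {p : ℕ} [Fact p.Prime] (hp : p ≠ 2) (P : Sylow p G)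
    (hzP : z ∈ Subgroup.normalizer ((P : Subgroup G) : Set G)) :
    ¬ p ∣ ((P : Subgroup G) ⊓ Subgroup.centralizer ({z} : Set G)).relIndex
        (Subgroup.centralizer ({z} : Set G)) ∧
      ((P : Subgroup G) ⊓ Subgroup.centralizer ({z} : Set G)).relIndex (P : Subgroup G) =
        Nat.card {x : G // x ∈ P ∧ z * x * z⁻¹ = x⁻¹} := by
  refine ⟨sylow_centralizer hZ z hz P hzP, ?_⟩
  have hodd : Odd (Nat.card (P : Subgroup G)) := by
    obtain ⟨k, hk⟩ := IsPGroup.iff_card.mp P.isPGroup'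
    rw [hk]
    exact ((Fact.out : p.Prime).odd_of_ne_two hp).pow
  exact inverted_count z (IsIsolatedInvolution.mul_self hz) (P : Subgroup G) hodd
    (fun x hx => (Subgroup.mem_normalizer_iff.mp hzP x).mp hx)

theorem row5094 (hZ : ZStarStatement.{u}) {G : Type u} [Group G] [Finite G] (S : Sylow 2 G) :
    (Cfsg.groupFusionSystem (S : Subgroup G)).center =
      (S : Subgroup G) ⊓
        (Subgroup.center (G ⧸ Cfsg.oddCore G)).comap (QuotientGroup.mk' (Cfsg.oddCore G)) :=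
  fusion_center hZ S

theorem row5560 (hZ : ZStarStatement.{u}) {G : Type u} [Group G] [Finite G] {p : ℕ}
    (hp : p.Prime) (hp2 : p ≠ 2) (d : G) (hd : orderOf d = 2)
    (hprod : ∀ a ∈ conjugatesOf d, ∀ b ∈ conjugatesOf d, ∃ k : ℕ, orderOf (a * b) = p ^ k) :
    ∀ a ∈ conjugatesOf d, ∀ b ∈ conjugatesOf d, a * b ∈ Cfsg.pCore p G :=
  involution_pow_products hZ hp hp2 d hd hprod

end Cfsg.Agent.ZStarCons
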