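import Cfsg.Agent.Lib.Lead.ES2Perp
import Cfsg.Agent.Lib.Lead.KleinFour

/-!
# Large extraspecial 2-subgroups: a conjugate of the centre inside `Q`

`LES Q z` records, elementwise, that `Q` is an extraspecial 2-subgroup of `G` with centre `{1, z}`,
containing its centralizer and normalized by `C_G(z)`.

* `LES.conj` : conjugates of such subgroups.
* `LES.of_ES` : from the `ES` description of `↥Q`.
* `center_mem` : if `t = z^n ∈ Q`, `t ≠ z`, `Y` is the subgroup attached to `t`, and `Q` has width at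
  least two (expressed by `hDC`, `hNA`), then `z ∈ Y`.
* `dc_na`, `dc_na_sub` : the width hypotheses from `32 ≤ |Q|`.
-/

set_option autoImplicit false
open Cfsg
open scoped commutatorElement

namespace Cfsg.Agent.Lead.LargeES

open Cfsg.Agent.S2880 (Ctx)
open Cfsg.Agent.Lead.ES2
open Cfsg.Agent.Lead.ES2Perp
open Cfsg.Agent.Lib.Lead.KleinFour

variable {G : Type*} [Group G]

structure LES (Q : Subgroup G) (z : G) : Prop where
  zQ : z ∈ Q
  z1 : z ≠ 1
  zz : z * z = 1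
  zc : ∀ a ∈ Q, a * z = z * a
  comm : ∀ a ∈ Q, ∀ b ∈ Q, a * b * a⁻¹ * b⁻¹ = 1 ∨ a * b * a⁻¹ * b⁻¹ = z
  sq : ∀ a ∈ Q, a * a = 1 ∨ a * a = z
  cent : ∀ c : G, (∀ a ∈ Q, a * c = c * a) → c = 1 ∨ c = z
  norm : ∀ c : G, c * z = z * c → ∀ a ∈ Q, c * a * c⁻¹ ∈ Q

theorem pair_mul {t a b : G} (ht : t * t = 1) (ha : a = 1 ∨ a = t) (hb : b = 1 ∨ b = t) :
    a * b = 1 ∨ a * b = t := by
  rcases ha with rfl | rfl <;> rcases hb with rfl | rfl <;> simp [ht]

theorem pair_inv {t a : G} (ht : t * t = 1) (ha : a = 1 ∨ a = t) : a⁻¹ = 1 ∨ a⁻¹ = t := by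
  rcases ha with rfl | rfl
  · left; simp
  · right; exact inv_eq_of_mul_eq_one_right ht

theorem mem_map_conj {Q : Subgroup G} {g a : G} :
    a ∈ Q.map (MulAut.conj g).toMonoidHom ↔ g⁻¹ * a * g ∈ Q := by
  constructor
  · rintro ⟨b, hb, rfl⟩
    have : g⁻¹ * ((MulAut.conj g).toMonoidHom b) * g = b := by
      simp only [MulEquiv.coe_toMonoidHom, MulAut.conj_apply]; group
    rw [this]; exact hb
  · intro h
    refine ⟨g⁻¹ * a * g, h, ?_⟩
    simp only [MulEquiv.coe_toMonoidHom, MulAut.conj_apply]; group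

theorem conj_mem_map_conj {Q : Subgroup G} {g a : G} (ha : a ∈ Q) :
    g * a * g⁻¹ ∈ Q.map (MulAut.conj g).toMonoidHom := by
  rw [mem_map_conj]
  have : g⁻¹ * (g * a * g⁻¹) * g = a := by group
  rw [this]; exact ha

theorem LES.conj {Q : Subgroup G} {z : G} (h : LES Q z) (g : G) :
    LES (Q.map (MulAut.conj g).toMonoidHom) (g * z * g⁻¹) where
  zQ := conj_mem_map_conj h.zQ
  z1 := fun h1 => h.z1 (by
    calc z = g⁻¹ * (g * z * g⁻¹) * g := by group
      _ = 1 := by rw [h1]; group)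
  zz := by
    calc g * z * g⁻¹ * (g * z * g⁻¹) = g * (z * z) * g⁻¹ := by group
      _ = 1 := by rw [h.zz]; group
  zc := by
    intro a ha
    have ha' := mem_map_conj.mp ha
    have h1 := h.zc _ ha'
    calc a * (g * z * g⁻¹) = g * ((g⁻¹ * a * g) * z) * g⁻¹ := by group
      _ = g * (z * (g⁻¹ * a * g)) * g⁻¹ := by rw [h1]
      _ = g * z * g⁻¹ * a := by group
  comm := by
    intro a ha b hb
    have ha' := mem_map_conj.mp ha
    have hb' := mem_map_conj.mp hb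
    have e : a * b * a⁻¹ * b⁻¹ =
        g * ((g⁻¹ * a * g) * (g⁻¹ * b * g) * (g⁻¹ * a * g)⁻¹ * (g⁻¹ * b * g)⁻¹) * g⁻¹ := by group
    rcases h.comm _ ha' _ hb' with h1 | h1
    · left; rw [e, h1]; group
    · right; rw [e, h1]
  sq := by
    intro a ha
    have ha' := mem_map_conj.mp ha
    have e : a * a = g * ((g⁻¹ * a * g) * (g⁻¹ * a * g)) * g⁻¹ := by group
    rcases h.sq _ ha' with h1 | h1
    · left; rw [e, h1]; group
    · right; rw [e, h1]
  cent := by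
    intro c hc
    have h1 : ∀ a ∈ Q, a * (g⁻¹ * c * g) = (g⁻¹ * c * g) * a := by
      intro a ha
      have h2 := hc _ (conj_mem_map_conj (g := g) ha)
      calc a * (g⁻¹ * c * g) = g⁻¹ * ((g * a * g⁻¹) * c) * g := by group
        _ = g⁻¹ * (c * (g * a * g⁻¹)) * g := by rw [h2]
        _ = (g⁻¹ * c * g) * a := by group
    rcases h.cent _ h1 with h2 | h2
    · left
      calc c = g * (g⁻¹ * c * g) * g⁻¹ := by group
        _ = 1 := by rw [h2]; group
    · right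
      calc c = g * (g⁻¹ * c * g) * g⁻¹ := by group
        _ = g * z * g⁻¹ := by rw [h2]
  norm := by
    intro c hc a ha
    have ha' := mem_map_conj.mp ha
    have h1 : (g⁻¹ * c * g) * z = z * (g⁻¹ * c * g) := by
      calc (g⁻¹ * c * g) * z = g⁻¹ * (c * (g * z * g⁻¹)) * g := by group
        _ = g⁻¹ * ((g * z * g⁻¹) * c) * g := by rw [hc]
        _ = z * (g⁻¹ * c * g) := by group
    have h2 := h.norm _ h1 _ ha'
    rw [mem_map_conj]
    have : g⁻¹ * (c * a * c⁻¹) * g = (g⁻¹ * c * g) * (g⁻¹ * a * g) * (g⁻¹ * c * g)⁻¹ := by group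
    rw [this]; exact h2

theorem LES.of_ES {Q : Subgroup G} {z₀ : ↥Q} (hes : ES z₀)
    (hcent : ∀ c : G, (∀ a ∈ Q, a * c = c * a) → c ∈ Q)
    (hnorm : ∀ c : G, c * (z₀ : G) = (z₀ : G) * c → ∀ a ∈ Q, c * a * c⁻¹ ∈ Q) :
    LES Q (z₀ : G) where
  zQ := z₀.2
  z1 := fun h => hes.ctx.ne (Subtype.ext h)
  zz := by have := congrArg Subtype.val hes.ctx.sq; simpa using this
  zc := fun a ha => by have := congrArg Subtype.val (hes.ctx.cen ⟨a, ha⟩); simpa using this
  comm := by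
    intro a ha b hb
    rcases hes.ctx.comm ⟨a, ha⟩ ⟨b, hb⟩ with h | h
    · left; have := congrArg Subtype.val h; simpa [commutatorElement_def] using this
    · right; have := congrArg Subtype.val h; simpa [commutatorElement_def] using this
  sq := by
    intro a ha
    rcases hes.ctx.sqr ⟨a, ha⟩ with h | h
    · left; have := congrArg Subtype.val h; simpa using this
    · right; have := congrArg Subtype.val h; simpa using this
  cent := by
    intro c hc
    have hcQ := hcent c hc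
    rcases hes.cent ⟨c, hcQ⟩ (fun x => Subtype.ext (hc x x.2)) with h | h
    · left; have := congrArg Subtype.val h; simpa using this
    · right; have := congrArg Subtype.val h; simpa using this
  norm := hnorm

/-- A noncentral element of `Q` is moved by some element of `Q`. -/
theorem LES.exists_move {Q : Subgroup G} {z t : G} (hQ : LES Q z) (htQ : t ∈ Q) (ht1 : t ≠ 1)
    (htz : t ≠ z) : ∃ q ∈ Q, q * t * q⁻¹ * t⁻¹ = z := by
  by_contra hcon
  push_neg at hcon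
  have : ∀ a ∈ Q, a * t = t * a := by
    intro a ha
    rcases hQ.comm a ha t htQ with h | h
    · calc a * t = (a * t * a⁻¹ * t⁻¹) * (t * a) := by group
        _ = t * a := by rw [h, one_mul]
    · exact absurd h (hcon a ha)
  rcases hQ.cent t this with h | h
  · exact ht1 h
  · exact htz h

/-- The key lemma: `z ∈ Y`. -/
theorem center_mem {Q Y : Subgroup G} {z t : G} (hQ : LES Q z) (hY : LES Y t) (htQ : t ∈ Q)
    (htz : t ≠ z)
    (hDC : ∀ d ∈ Q, (∀ x ∈ Q, x * t = t * x → x * d = d * x) → d = 1 ∨ d = z ∨ d = t ∨ d = t * z)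
    (hNA : ∃ x₁ ∈ Q, ∃ x₂ ∈ Q, x₁ * t = t * x₁ ∧ x₂ * t = t * x₂ ∧ x₁ * x₂ * x₁⁻¹ * x₂⁻¹ = z)
    (hlink : ∀ n : G, n * z * n⁻¹ = t → ∀ a ∈ Q, n * a * n⁻¹ ∈ Y) : z ∈ Y := by
  by_contra hzY
  have htt := hY.zz
  have hzz := hQ.zz
  have hzinv : z⁻¹ = z := inv_eq_of_mul_eq_one_right hzz
  have htinv : t⁻¹ = t := inv_eq_of_mul_eq_one_right htt
  have hzt : z * t = t * z := (hQ.zc t htQ).symm
  -- Step D
  have stepD : ∀ d ∈ Q, d ∈ Y → d = 1 ∨ d = t := by
    intro d hdQ hdY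
    have hcen : ∀ x ∈ Q, x * t = t * x → x * d = d * x := by
      intro x hxQ hxt
      have hxY : x * d * x⁻¹ ∈ Y := hY.norm x hxt d hdY
      have hu : x * d * x⁻¹ * d⁻¹ ∈ Y := Y.mul_mem hxY (Y.inv_mem hdY)
      rcases hQ.comm x hxQ d hdQ with h | h
      · calc x * d = (x * d * x⁻¹ * d⁻¹) * (d * x) := by group
          _ = d * x := by rw [h, one_mul]
      · rw [h] at hu; exact absurd hu hzY
    rcases hDC d hdQ hcen with h | h | h | h
    · exact Or.inl h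
    · rw [h] at hdY; exact absurd hdY hzY
    · exact Or.inr h
    · exfalso; apply hzY
      have : z = t⁻¹ * d := by rw [h]; group
      rw [this]; exact Y.mul_mem (Y.inv_mem hY.zQ) hdY
  -- Step (i)
  have stepI : ∀ y ∈ Y, y * z = z * y → ∀ x ∈ Q, x * t = t * x →
      (x * y * x⁻¹ * y⁻¹ = 1 ∨ x * y * x⁻¹ * y⁻¹ = t) := by
    intro y hyY hyz x hxQ hxt
    apply stepD
    · have h1 : y * x⁻¹ * y⁻¹ ∈ Q := hQ.norm y hyz x⁻¹ (Q.inv_mem hxQ)
      have : x * y * x⁻¹ * y⁻¹ = x * (y * x⁻¹ * y⁻¹) := by group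
      rw [this]; exact Q.mul_mem hxQ h1
    · exact Y.mul_mem (hY.norm x hxt y hyY) (Y.inv_mem hyY)
  -- an element of `Q` moving `t`
  obtain ⟨q, hqQ, hqt⟩ : ∃ q ∈ Q, q * t * q⁻¹ * t⁻¹ = z := by
    by_contra hcon
    push_neg at hcon
    have : ∀ a ∈ Q, a * t = t * a := by
      intro a ha
      rcases hQ.comm a ha t htQ with h | h
      · calc a * t = (a * t * a⁻¹ * t⁻¹) * (t * a) := by group
          _ = t * a := by rw [h, one_mul]
      · exact absurd h (hcon a ha)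
    rcases hQ.cent t this with h | h
    · exact hY.z1 h
    · exact htz h
  by_cases hA : ∃ y ∈ Y, y * z * y⁻¹ * z⁻¹ = t
  · -- Case A
    obtain ⟨y, hyY, hyz⟩ := hA
    have hyt : y * t = t * y := hY.zc y hyY
    have hqz : q * z = z * q := hQ.zc q hqQ
    have e1 : q⁻¹ * z * q = z := by
      calc q⁻¹ * z * q = q⁻¹ * (z * q) := by group
        _ = q⁻¹ * (q * z) := by rw [hqz]
        _ = z := by group
    have e4 : q * z * q⁻¹ = z := by
      calc q * z * q⁻¹ = (q * z) * q⁻¹ := by group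
        _ = (z * q) * q⁻¹ := by rw [hqz]
        _ = z := by group
    have e2 : y * z * y⁻¹ = t * z := by
      calc y * z * y⁻¹ = (y * z * y⁻¹ * z⁻¹) * z := by group
        _ = t * z := by rw [hyz]
    have e3 : q * t * q⁻¹ = z * t := by
      calc q * t * q⁻¹ = (q * t * q⁻¹ * t⁻¹) * t := by group
        _ = z * t := by rw [hqt]
    have e5 : q⁻¹ * t * q = z * t := by
      have h1 : q⁻¹ * (q * t * q⁻¹) * q = t := by group
      rw [e3] at h1
      have h2 : q⁻¹ * (z * t) * q = (q⁻¹ * z * q) * (q⁻¹ * t * q) := by group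
      rw [h2, e1] at h1
      -- h1 : z * (q⁻¹ * t * q) = t
      calc q⁻¹ * t * q = z⁻¹ * (z * (q⁻¹ * t * q)) := by group
        _ = z * t := by rw [h1, hzinv]
    have e6 : y * t * y⁻¹ = t := by
      calc y * t * y⁻¹ = (y * t) * y⁻¹ := by group
        _ = (t * y) * y⁻¹ := by rw [hyt]
        _ = t := by group
    have e7 : t * z * t = z := by rw [← hzt, mul_assoc, htt, mul_one]
    have hn1 : (q * y * q⁻¹) * z * (q * y * q⁻¹)⁻¹ = t := by
      calc (q * y * q⁻¹) * z * (q * y * q⁻¹)⁻¹ = q * (y * (q⁻¹ * z * q) * y⁻¹) * q⁻¹ := by group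
        _ = q * (y * z * y⁻¹) * q⁻¹ := by rw [e1]
        _ = q * (t * z) * q⁻¹ := by rw [e2]
        _ = (q * t * q⁻¹) * (q * z * q⁻¹) := by group
        _ = (z * t) * z := by rw [e3, e4]
        _ = t := by rw [hzt, mul_assoc, hzz, mul_one]
    have hn2 : (q * y * q⁻¹) * t * (q * y * q⁻¹)⁻¹ = z := by
      calc (q * y * q⁻¹) * t * (q * y * q⁻¹)⁻¹ = q * (y * (q⁻¹ * t * q) * y⁻¹) * q⁻¹ := by group
        _ = q * (y * (z * t) * y⁻¹) * q⁻¹ := by rw [e5]
        _ = q * ((y * z * y⁻¹) * (y * t * y⁻¹)) * q⁻¹ := by group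
        _ = q * ((t * z) * t) * q⁻¹ := by rw [e2, e6]
        _ = q * z * q⁻¹ := by rw [e7]
        _ = z := e4
    have := hlink _ hn1 t htQ
    rw [hn2] at this
    exact hzY this
  · -- Case B
    push_neg at hA
    have B1 : ∀ y ∈ Y, (y * z * y⁻¹ * z⁻¹ = 1 ∨ y * z * y⁻¹ * z⁻¹ = t) → y * z = z * y := by
      intro y hy h
      rcases h with h | h
      · calc y * z = (y * z * y⁻¹ * z⁻¹) * (z * y) := by group
          _ = z * y := by rw [h, one_mul]
      · exact absurd h (hA y hy)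
    have hznorm : ∀ y ∈ Y, z * y * z⁻¹ ∈ Y := fun y hy => hY.norm z hzt y hy
    have hcY : ∀ y ∈ Y, y * z * y⁻¹ * z⁻¹ ∈ Y := by
      intro y hy
      have : y * z * y⁻¹ * z⁻¹ = y * (z * y⁻¹ * z⁻¹) := by group
      rw [this]; exact Y.mul_mem hy (hznorm _ (Y.inv_mem hy))
    have B2 : ∀ y ∈ Y, (y * z * y⁻¹ * z⁻¹) * z = z * (y * z * y⁻¹ * z⁻¹) := by
      intro y hy
      obtain ⟨c, hc⟩ : ∃ c, c = y * z * y⁻¹ * z⁻¹ := ⟨_, rfl⟩
      have hcY' : c ∈ Y := by rw [hc]; exact hcY y hy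
      have h1 : z * c⁻¹ * z⁻¹ = c := by
        calc z * c⁻¹ * z⁻¹ = (z * z) * y * z⁻¹ * y⁻¹ * z⁻¹ := by rw [hc]; group
          _ = y * z⁻¹ * y⁻¹ * z⁻¹ := by rw [hzz, one_mul]
          _ = y * z * y⁻¹ * z⁻¹ := by rw [hzinv]
          _ = c := hc.symm
      have h2 : c * z * c⁻¹ * z⁻¹ = c * c := by
        calc c * z * c⁻¹ * z⁻¹ = c * (z * c⁻¹ * z⁻¹) := by group
          _ = c * c := by rw [h1]
      rw [← hc]
      apply B1 c hcY'
      rw [h2]
      exact hY.sq c hcY'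
    have B3 : ∀ y ∈ Y, ∀ x ∈ Q, x * t = t * x →
        (x * y * x⁻¹ * y⁻¹) * z = z * (x * y * x⁻¹ * y⁻¹) := by
      intro y hy x hxQ hxt
      obtain ⟨c, hc⟩ : ∃ c, c = y * z * y⁻¹ * z⁻¹ := ⟨_, rfl⟩
      have hcY' : c ∈ Y := by rw [hc]; exact hcY y hy
      have hcz : c * z = z * c := by rw [hc]; exact B2 y hy
      obtain ⟨u, hu⟩ : ∃ u, u = x * y * x⁻¹ * y⁻¹ := ⟨_, rfl⟩
      have huY : u ∈ Y := by
        rw [hu]; exact Y.mul_mem (hY.norm x hxt y hy) (Y.inv_mem hy)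
      obtain ⟨ε, hε⟩ : ∃ ε, ε = x * c * x⁻¹ * c⁻¹ := ⟨_, rfl⟩
      have hε' : ε = 1 ∨ ε = t := by rw [hε]; exact stepI c hcY' hcz x hxQ hxt
      obtain ⟨δ, hδ⟩ : ∃ δ, δ = c⁻¹ * u * c * u⁻¹ := ⟨_, rfl⟩
      have hδ' : δ = 1 ∨ δ = t := by
        have := hY.comm c⁻¹ (Y.inv_mem hcY') u huY
        rw [inv_inv] at this; rw [hδ]; exact this
      have hxz : x * z = z * x := hQ.zc x hxQ
      have e2 : z * x * z⁻¹ = x := by rw [← hxz]; group
      have e3 : z * y * z⁻¹ = c⁻¹ * y := by rw [hc]; group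
      have e4 : x * c⁻¹ = c⁻¹ * ε⁻¹ * x := by rw [hε]; group
      have hzu : z * u * z⁻¹ = c⁻¹ * ε⁻¹ * u * c := by
        calc z * u * z⁻¹
            = (z * x * z⁻¹) * (z * y * z⁻¹) * (z * x * z⁻¹)⁻¹ * (z * y * z⁻¹)⁻¹ := by
              rw [hu]; group
          _ = x * (c⁻¹ * y) * x⁻¹ * (c⁻¹ * y)⁻¹ := by rw [e2, e3]
          _ = (x * c⁻¹) * (y * x⁻¹ * y⁻¹ * c) := by group
          _ = (c⁻¹ * ε⁻¹ * x) * (y * x⁻¹ * y⁻¹ * c) := by rw [e4]
          _ = c⁻¹ * ε⁻¹ * u * c := by rw [hu]; group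
      have key : z * u * z⁻¹ * u⁻¹ = (c⁻¹ * ε⁻¹ * c) * δ := by
        calc z * u * z⁻¹ * u⁻¹ = (c⁻¹ * ε⁻¹ * u * c) * u⁻¹ := by rw [hzu]
          _ = (c⁻¹ * ε⁻¹ * c) * δ := by rw [hδ]; group
      have h2 : c⁻¹ * ε⁻¹ * c = 1 ∨ c⁻¹ * ε⁻¹ * c = t := by
        rcases hε' with h | h
        · left; rw [h]; group
        · right
          rw [h, htinv]
          have := hY.zc c hcY'
          calc c⁻¹ * t * c = c⁻¹ * (t * c) := by group
            _ = c⁻¹ * (c * t) := by rw [this]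
            _ = t := by group
      have h3 : z * u * z⁻¹ * u⁻¹ = 1 ∨ z * u * z⁻¹ * u⁻¹ = t := by
        rw [key]; exact pair_mul htt h2 hδ'
      have h4 : u * z * u⁻¹ * z⁻¹ = 1 ∨ u * z * u⁻¹ * z⁻¹ = t := by
        have : u * z * u⁻¹ * z⁻¹ = (z * u * z⁻¹ * u⁻¹)⁻¹ := by group
        rw [this]; exact pair_inv htt h3
      rw [← hu]; exact B1 u huY h4
    obtain ⟨x₁, hx₁Q, x₂, hx₂Q, hx₁t, hx₂t, hx12⟩ := hNA
    have hall : ∀ y' ∈ Y, y' * z = z * y' := by
      intro y' hy'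
      obtain ⟨w, hw⟩ : ∃ w, w = x₂ * x₁ := ⟨_, rfl⟩
      have hwt0 : w * t = t * w := by
        rw [hw]
        calc x₂ * x₁ * t = x₂ * (x₁ * t) := by group
          _ = x₂ * (t * x₁) := by rw [hx₁t]
          _ = (x₂ * t) * x₁ := by group
          _ = (t * x₂) * x₁ := by rw [hx₂t]
          _ = t * (x₂ * x₁) := by group
      have hwt : w⁻¹ * t = t * w⁻¹ := by
        calc w⁻¹ * t = w⁻¹ * (t * w) * w⁻¹ := by group
          _ = w⁻¹ * (w * t) * w⁻¹ := by rw [hwt0]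
          _ = t * w⁻¹ := by group
      obtain ⟨y, hy⟩ : ∃ y, y = w⁻¹ * y' * w := ⟨_, rfl⟩
      have hyY : y ∈ Y := by
        have := hY.norm w⁻¹ hwt y' hy'
        rw [inv_inv] at this; rw [hy]; exact this
      obtain ⟨a₁, ha₁⟩ : ∃ a₁, a₁ = x₁ * y * x₁⁻¹ * y⁻¹ := ⟨_, rfl⟩
      obtain ⟨a₂, ha₂⟩ : ∃ a₂, a₂ = x₂ * y * x₂⁻¹ * y⁻¹ := ⟨_, rfl⟩
      have ha₁Y : a₁ ∈ Y := by
        rw [ha₁]; exact Y.mul_mem (hY.norm x₁ hx₁t y hyY) (Y.inv_mem hyY)
      have ha₂Y : a₂ ∈ Y := by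
        rw [ha₂]; exact Y.mul_mem (hY.norm x₂ hx₂t y hyY) (Y.inv_mem hyY)
      have ha₁z : a₁ * z = z * a₁ := by rw [ha₁]; exact B3 y hyY x₁ hx₁Q hx₁t
      have ha₂z : a₂ * z = z * a₂ := by rw [ha₂]; exact B3 y hyY x₂ hx₂Q hx₂t
      have hε := stepI a₂ ha₂Y ha₂z x₁ hx₁Q hx₁t
      have hε' := stepI a₁ ha₁Y ha₁z x₂ hx₂Q hx₂t
      have hδ := hY.comm a₂ ha₂Y a₁ ha₁Y
      have key : z * y' * z⁻¹ * y'⁻¹ = (x₁ * a₂ * x₁⁻¹ * a₂⁻¹) * (a₂ * a₁ * a₂⁻¹ * a₁⁻¹) *
          (x₂ * a₁ * x₂⁻¹ * a₁⁻¹)⁻¹ := by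
        rw [← hx12, ha₁, ha₂, hy, hw]; group
      have h3 : z * y' * z⁻¹ * y'⁻¹ = 1 ∨ z * y' * z⁻¹ * y'⁻¹ = t := by
        rw [key]; exact pair_mul htt (pair_mul htt hε hδ) (pair_inv htt hε')
      have h4 : y' * z * y'⁻¹ * z⁻¹ = 1 ∨ y' * z * y'⁻¹ * z⁻¹ = t := by
        have : y' * z * y'⁻¹ * z⁻¹ = (z * y' * z⁻¹ * y'⁻¹)⁻¹ := by group
        rw [this]; exact pair_inv htt h3
      exact B1 y' hy' h4
    rcases hY.cent z hall with h | h
    · exact hQ.z1 h
    · exact htz h.symm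

/-- Width at least two: the double centralizer of a noncentral involution and non-commuting
elements in its centralizer. -/
theorem dc_na {E : Type*} [Group E] [Finite E] {z : E} (hes : ES z) (hcard : 32 ≤ Nat.card E)
    {t : E} (htt : t * t = 1) (ht1 : t ≠ 1) (htz : t ≠ z) :
    (∀ d : E, (∀ x : E, x * t = t * x → x * d = d * x) → d = 1 ∨ d = z ∨ d = t ∨ d = t * z) ∧
    (∃ x₁ x₂ : E, x₁ * t = t * x₁ ∧ x₂ * t = t * x₂ ∧ x₁ * x₂ * x₁⁻¹ * x₂⁻¹ = z) := by
  have C := hes.ctx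
  have hzt : z * t = t * z := (C.cen t).symm
  obtain ⟨V, hV4, hzV, htV, hVel⟩ := exists_kleinFour C.sq htt hzt C.ne ht1 (Ne.symm htz)
  have hVcard : Nat.card V = 4 := hV4.card_four
  have h1 := card_mul_card_centralizer hes V hzV
  have hzC : z ∈ Subgroup.centralizer (V : Set E) := by
    rw [Subgroup.mem_centralizer_iff]; intro v _; exact C.cen v
  have h2 := card_mul_card_centralizer hes (Subgroup.centralizer (V : Set E)) hzC
  have hcpos : 0 < Nat.card (Subgroup.centralizer (V : Set E)) := Nat.card_pos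
  rw [hVcard] at h1
  have hCC : Nat.card (Subgroup.centralizer
      ((Subgroup.centralizer (V : Set E) : Subgroup E) : Set E)) = 4 := by
    apply Nat.eq_of_mul_eq_mul_left hcpos
    rw [h2, ← h1, mul_comm]
  have hVle : V ≤ Subgroup.centralizer ((Subgroup.centralizer (V : Set E) : Subgroup E) : Set E) := by
    intro v hv
    rw [Subgroup.mem_centralizer_iff]
    intro c hc
    exact ((Subgroup.mem_centralizer_iff.mp hc) v hv).symm
  have hVeq : V = Subgroup.centralizer ((Subgroup.centralizer (V : Set E) : Subgroup E) : Set E) :=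
    Subgroup.eq_of_le_of_card_ge hVle (by rw [hCC, hVcard])
  have hmemC : ∀ x : E, x * t = t * x → x ∈ Subgroup.centralizer (V : Set E) := by
    intro x hx
    rw [Subgroup.mem_centralizer_iff]
    intro v hv
    rcases hVel v hv with rfl | rfl | rfl | rfl
    · simp
    · exact (C.cen x).symm
    · exact hx.symm
    · calc z * t * x = z * (t * x) := by group
        _ = z * (x * t) := by rw [hx]
        _ = (z * x) * t := by group
        _ = (x * z) * t := by rw [C.cen x]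
        _ = x * (z * t) := by group
  constructor
  · intro d hd
    have hdV : d ∈ V := by
      rw [hVeq, Subgroup.mem_centralizer_iff]
      intro c hc
      exact hd c ((Subgroup.mem_centralizer_iff.mp hc) t htV).symm
    rcases hVel d hdV with h | h | h | h
    · exact Or.inl h
    · exact Or.inr (Or.inl h)
    · exact Or.inr (Or.inr (Or.inl h))
    · exact Or.inr (Or.inr (Or.inr (by rw [h, hzt])))
  · by_contra hcon
    push_neg at hcon
    have hab : ∀ x₁ x₂ : E, x₁ * t = t * x₁ → x₂ * t = t * x₂ → x₁ * x₂ = x₂ * x₁ := by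
      intro x₁ x₂ h1' h2'
      rcases C.comm x₁ x₂ with h | h
      · exact commutatorElement_eq_one_iff_mul_comm.mp h
      · rw [commutatorElement_def] at h
        exact absurd h (hcon x₁ x₂ h1' h2')
    have hle : Subgroup.centralizer (V : Set E) ≤
        Subgroup.centralizer ((Subgroup.centralizer (V : Set E) : Subgroup E) : Set E) := by
      intro x hx
      rw [Subgroup.mem_centralizer_iff]
      intro c hc
      exact hab c x ((Subgroup.mem_centralizer_iff.mp hc) t htV).symm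
        ((Subgroup.mem_centralizer_iff.mp hx) t htV).symm
    have := Subgroup.card_le_of_le hle
    rw [hCC] at this
    omega

theorem dc_na_sub [Finite G] {Q : Subgroup G} {z₀ : ↥Q} (hes : ES z₀) (hcard : 32 ≤ Nat.card Q)
    {t : G} (htQ : t ∈ Q) (htt : t * t = 1) (ht1 : t ≠ 1) (htz : t ≠ (z₀ : G)) :
    (∀ d ∈ Q, (∀ x ∈ Q, x * t = t * x → x * d = d * x) →
      d = 1 ∨ d = (z₀ : G) ∨ d = t ∨ d = t * (z₀ : G)) ∧
    (∃ x₁ ∈ Q, ∃ x₂ ∈ Q, x₁ * t = t * x₁ ∧ x₂ * t = t * x₂ ∧ x₁ * x₂ * x₁⁻¹ * x₂⁻¹ = (z₀ : G)) := by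
  obtain ⟨h1, h2⟩ := dc_na hes hcard (t := (⟨t, htQ⟩ : ↥Q)) (Subtype.ext htt)
    (fun h => ht1 (congrArg Subtype.val h)) (fun h => htz (congrArg Subtype.val h))
  constructor
  · intro d hd hcen
    have := h1 ⟨d, hd⟩ (fun x hx => Subtype.ext (hcen x x.2 (congrArg Subtype.val hx)))
    rcases this with h | h | h | h
    · left; exact congrArg Subtype.val h
    · right; left; exact congrArg Subtype.val h
    · right; right; left; exact congrArg Subtype.val h
    · right; right; right; exact congrArg Subtype.val h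
  · obtain ⟨x₁, x₂, hx₁, hx₂, hx⟩ := h2
    exact ⟨x₁, x₁.2, x₂, x₂.2, congrArg Subtype.val hx₁, congrArg Subtype.val hx₂,
      congrArg Subtype.val hx⟩

/-- Combined form. -/
theorem center_mem' [Finite G] {Q Y : Subgroup G} {z₀ : ↥Q} {t : G} (hes : ES z₀)
    (hcard : 32 ≤ Nat.card Q) (hQ : LES Q (z₀ : G)) (hY : LES Y t) (htQ : t ∈ Q)
    (htz : t ≠ (z₀ : G)) (hlink : ∀ n : G, n * (z₀ : G) * n⁻¹ = t → ∀ a ∈ Q, n * a * n⁻¹ ∈ Y) :
    (z₀ : G) ∈ Y := by
  obtain ⟨hDC, hNA⟩ := dc_na_sub hes hcard htQ hY.zz hY.z1 htz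
  exact center_mem hQ hY htQ htz hDC hNA hlink

end Cfsg.Agent.Lead.LargeES
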