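import Mathlib
import Cfsg.Prelude.Def_Local
import Cfsg.Agent.H1.Cores
import Cfsg.Agent.H1.PrimPairB
import Cfsg.Agent.H2.Layer
import Cfsg.Agent.Lib.Lead.Conj

/-!
# Thompson–Wielandt: the key step

Two distinct "primitive" subgroups `X`, `Y` of a finite group `G` (the normalizer of every nontrivial
subgroup normalized by `X` lies in `X`, same for `Y`), `B` the core of `X ⊓ Y` in `Y` and `A ≤ B`
normalized by `X`.  If `A` is not a `p`-group then `O_p(X) = O_p(Y) = 1`
(provided `|O_p(X)| = |O_p(Y)|`, e.g. `X`, `Y` conjugate).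
-/

set_option autoImplicit false

namespace Cfsg.Agent.Lib.Lead.TW

open Cfsg.Agent.H1.PrimPair Cfsg.Agent.Lib.Lead.Conj

variable {G : Type*} [Group G]

theorem conj_mem_of_mem_normalizer {H : Subgroup G} {g x : G}
    (hg : g ∈ Subgroup.normalizer (H : Set G)) (hx : x ∈ H) : g * x * g⁻¹ ∈ H :=
  (Subgroup.mem_normalizer_iff.1 hg x).1 hx

theorem conj_mem_of_mem_normalizer' {H : Subgroup G} {g x : G}
    (hg : g ∈ Subgroup.normalizer (H : Set G)) (hx : x ∈ H) : g⁻¹ * x * g ∈ H := by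
  have := conj_mem_of_mem_normalizer (Subgroup.inv_mem _ hg) hx
  rwa [inv_inv] at this

theorem normalizer_inf_le_normalizer_inf (A B : Subgroup G) :
    Subgroup.normalizer (A : Set G) ⊓ Subgroup.normalizer (B : Set G) ≤
      Subgroup.normalizer ((A ⊓ B : Subgroup G) : Set G) := by
  intro g hg
  have hgA : g ∈ Subgroup.normalizer (A : Set G) := hg.1
  have hgB : g ∈ Subgroup.normalizer (B : Set G) := hg.2
  rw [Subgroup.mem_normalizer_iff] at hgA hgB ⊢
  intro x
  exact ⟨fun h => ⟨(hgA x).1 h.1, (hgB x).1 h.2⟩, fun h => ⟨(hgA x).2 h.1, (hgB x).2 h.2⟩⟩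

/-- A `p`-subgroup of `M` normalized by `M` lies in `O_p(M)`. -/
theorem le_PG {p : ℕ} {M N : Subgroup G} (hNM : N ≤ M)
    (hn : M ≤ Subgroup.normalizer (N : Set G)) (hN : IsPGroup p N) : N ≤ PG p M := by
  have hPn : (N.subgroupOf M).Normal := (Subgroup.normal_subgroupOf_iff_le_normalizer hNM).mpr hn
  have h1 : N.subgroupOf M ≤ Cfsg.pCore p ↥M := Cfsg.Agent.H1.le_pCore hPn hN.comap_subtype
  have h2 := Subgroup.map_mono (f := M.subtype) h1
  rw [Subgroup.map_subgroupOf_eq_of_le hNM] at h2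
  exact h2

/-- Whatever normalizes `M` normalizes `O_p(M)`. -/
theorem normalizer_le_normalizer_PG [Finite G] (p : ℕ) (M : Subgroup G) :
    Subgroup.normalizer (M : Set G) ≤ Subgroup.normalizer ((PG p M : Subgroup G) : Set G) := by
  intro g hg
  apply mem_normalizer_of_conj_mem
  intro r hr
  have hle : (PG p M).map (MulAut.conj g).toMonoidHom ≤ PG p M := by
    apply le_PG
    · rintro _ ⟨x, hx, rfl⟩
      exact conj_mem_of_mem_normalizer hg (PG_le p M hx)
    · intro m hm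
      apply mem_normalizer_of_conj_mem
      rintro _ ⟨x, hx, rfl⟩
      have hm' : g⁻¹ * m * g ∈ M := conj_mem_of_mem_normalizer' hg hm
      have hx' : (g⁻¹ * m * g) * x * (g⁻¹ * m * g)⁻¹ ∈ PG p M :=
        conj_mem_of_mem_normalizer (le_normalizer_PG p M hm') hx
      refine ⟨_, hx', ?_⟩
      show g * ((g⁻¹ * m * g) * x * (g⁻¹ * m * g)⁻¹) * g⁻¹ = m * (g * x * g⁻¹) * m⁻¹
      group
    · exact (PG_isPGroup p M).map _
  exact hle ⟨r, hr, rfl⟩

/-- The `p'`-elements of `A`. -/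
def pPrimeElts (p : ℕ) (A : Subgroup G) : Set G := {r | r ∈ A ∧ (orderOf r).Coprime p}

/-- The subgroup generated by the `p'`-elements of `A`. -/
def pPrimeGen (p : ℕ) (A : Subgroup G) : Subgroup G := Subgroup.closure (pPrimeElts p A)

theorem pPrimeGen_le (p : ℕ) (A : Subgroup G) : pPrimeGen p A ≤ A :=
  (Subgroup.closure_le A).2 (fun _ hr => hr.1)

theorem normalizer_le_normalizer_pPrimeGen (p : ℕ) (A : Subgroup G) :
    Subgroup.normalizer (A : Set G) ≤ Subgroup.normalizer ((pPrimeGen p A : Subgroup G) : Set G) := by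
  apply le_normalizer_closure
  rintro m hm s ⟨hsA, hs⟩
  refine ⟨conj_mem_of_mem_normalizer hm hsA, ?_⟩
  rwa [orderOf_conj]

theorem pPrimeGen_ne_bot [Finite G] {p : ℕ} [hp : Fact p.Prime] {A : Subgroup G}
    (hA : ¬ IsPGroup p A) : pPrimeGen p A ≠ ⊥ := by
  intro hbot
  apply hA
  intro a
  have hn : orderOf (a : G) ≠ 0 := (orderOf_pos (a : G)).ne'
  obtain ⟨k, m, hm, hkm⟩ := Nat.exists_eq_pow_mul_and_not_dvd hn p hp.out.ne_one
  refine ⟨k, ?_⟩
  have hb : (a : G) ^ (p ^ k) ∈ pPrimeGen p A := by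
    apply Subgroup.subset_closure
    refine ⟨A.pow_mem a.2 _, ?_⟩
    have hdvd : orderOf ((a : G) ^ (p ^ k)) ∣ m := by
      apply orderOf_dvd_of_pow_eq_one
      rw [← pow_mul, ← hkm, pow_orderOf_eq_one]
    exact Nat.Coprime.coprime_dvd_left hdvd ((Nat.Prime.coprime_iff_not_dvd hp.out).2 hm).symm
  rw [hbot, Subgroup.mem_bot] at hb
  exact Subtype.ext hb

theorem pow_mul_mem_of_mem_normalizer {A : Subgroup G} {a c : G} (ha : a ∈ A)
    (hc : c ∈ Subgroup.normalizer (A : Set G)) (n : ℕ) : ∃ a' ∈ A, (a * c) ^ n = a' * c ^ n := by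
  induction n with
  | zero => exact ⟨1, A.one_mem, by simp⟩
  | succ n ih =>
    obtain ⟨a', ha', h⟩ := ih
    refine ⟨a' * (c ^ n * a * (c ^ n)⁻¹), A.mul_mem ha'
      (conj_mem_of_mem_normalizer (Subgroup.pow_mem _ hc n) ha), ?_⟩
    rw [pow_succ, h, pow_succ]
    group

/-- Claim 2: an element acting trivially on `A` modulo a `p`-group `P` normalizing `A`
normalizes the subgroup generated by the `p'`-elements of `A`. -/
theorem mem_normalizer_pPrimeGen [Finite G] {p : ℕ} [Fact p.Prime] {A P : Subgroup G}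
    (hPA : P ≤ Subgroup.normalizer (A : Set G)) (hP : IsPGroup p P) (v : G)
    (hv : ∀ r ∈ A, r⁻¹ * (v * r * v⁻¹) ∈ P) :
    v ∈ Subgroup.normalizer ((pPrimeGen p A : Subgroup G) : Set G) := by
  have key : ∀ r ∈ pPrimeElts p A, v * r * v⁻¹ ∈ pPrimeElts p A := by
    rintro r ⟨hrA, hr⟩
    have hord : orderOf (v * r * v⁻¹) = orderOf r := orderOf_conj v r
    refine ⟨?_, by rwa [hord]⟩
    set c := r⁻¹ * (v * r * v⁻¹) with hc
    have hcP : c ∈ P := hv r hrA
    obtain ⟨k, hk⟩ := hP ⟨c, hcP⟩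
    have hk' : c ^ (p ^ k) = 1 := by
      have := congrArg Subtype.val hk
      simpa using this
    have hs : v * r * v⁻¹ = r * c := by rw [hc]; group
    obtain ⟨a', ha', h⟩ := pow_mul_mem_of_mem_normalizer hrA (hPA hcP) (p ^ k)
    rw [hk', mul_one] at h
    have hpow : (v * r * v⁻¹) ^ (p ^ k) ∈ A := by rw [hs, h]; exact ha'
    have hcop : (p ^ k).Coprime (orderOf (v * r * v⁻¹)) := by
      rw [hord]
      exact Nat.Coprime.pow_left k hr.symm
    obtain ⟨m, hm⟩ := exists_pow_eq_self_of_coprime hcop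
    rw [← hm]
    exact A.pow_mem hpow m
  apply mem_normalizer_of_conj_mem
  intro r hr
  unfold pPrimeGen at hr ⊢
  induction hr using Subgroup.closure_induction with
  | mem x hx => exact Subgroup.subset_closure (key x hx)
  | one => simp
  | mul x y _ _ hx hy =>
    have : v * (x * y) * v⁻¹ = (v * x * v⁻¹) * (v * y * v⁻¹) := by group
    rw [this]; exact Subgroup.mul_mem _ hx hy
  | inv x _ hx =>
    have : v * x⁻¹ * v⁻¹ = (v * x * v⁻¹)⁻¹ := by group
    rw [this]; exact Subgroup.inv_mem _ hx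


/-- The hypothesis on `X`: normalizers of nontrivial subgroups normalized by `X` stay in `X`. -/
def NormIn (X : Subgroup G) : Prop :=
  ∀ N : Subgroup G, N ≤ X → N ≠ ⊥ → X ≤ Subgroup.normalizer (N : Set G) →
    Subgroup.normalizer (N : Set G) ≤ X

/-- `B` is the core of `X ⊓ Y` in `Y`. -/
def IsCoreIn (X Y B : Subgroup G) : Prop :=
  ∀ u : G, u ∈ B ↔ ∀ y ∈ Y, y * u * y⁻¹ ∈ X ⊓ Y

theorem IsCoreIn.le_left {X Y B : Subgroup G} (hB : IsCoreIn X Y B) : B ≤ X := by
  intro u hu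
  have := ((hB u).1 hu 1 Y.one_mem).1
  simpa using this

theorem IsCoreIn.le_right {X Y B : Subgroup G} (hB : IsCoreIn X Y B) : B ≤ Y := by
  intro u hu
  have := ((hB u).1 hu 1 Y.one_mem).2
  simpa using this

theorem IsCoreIn.le_normalizer [Finite G] {X Y B : Subgroup G} (hB : IsCoreIn X Y B) :
    Y ≤ Subgroup.normalizer (B : Set G) := by
  intro y hy
  apply mem_normalizer_of_conj_mem
  intro u hu
  rw [hB]
  intro y' hy'
  have := (hB u).1 hu (y' * y) (Y.mul_mem hy' hy)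
  have e : y' * (y * u * y⁻¹) * y'⁻¹ = y' * y * u * (y' * y)⁻¹ := by group
  rw [e]; exact this

theorem IsCoreIn.le {X Y B N : Subgroup G} (hB : IsCoreIn X Y B) (hNX : N ≤ X) (hNY : N ≤ Y)
    (hn : Y ≤ Subgroup.normalizer (N : Set G)) : N ≤ B := by
  intro u hu
  rw [hB]
  intro y hy
  have := conj_mem_of_mem_normalizer (hn hy) hu
  exact ⟨hNX this, hNY this⟩

/-- **Key step of Thompson–Wielandt.** -/
theorem star [Finite G] {p : ℕ} [hp : Fact p.Prime] (X Y B A : Subgroup G)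
    (hX : NormIn X) (hY : NormIn Y) (hne : X ≠ Y)
    (hcard : Nat.card (PG p X) = Nat.card (PG p Y))
    (hB : IsCoreIn X Y B) (hAB : A ≤ B) (hAn : X ≤ Subgroup.normalizer (A : Set G))
    (hA : ¬ IsPGroup p A) : PG p Y = ⊥ ∧ PG p X = ⊥ := by
  have hBX : B ≤ X := hB.le_left
  have hBY : B ≤ Y := hB.le_right
  have hBn : Y ≤ Subgroup.normalizer (B : Set G) := hB.le_normalizer
  have hBK : B ≤ X ⊓ Y := le_inf hBX hBY
  -- the subgroup `R`
  have hRA : pPrimeGen p A ≤ A := pPrimeGen_le p A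
  have hRne : pPrimeGen p A ≠ ⊥ := pPrimeGen_ne_bot hA
  have hRX : Subgroup.normalizer ((pPrimeGen p A : Subgroup G) : Set G) ≤ X :=
    hX _ (hRA.trans (hAB.trans hBX)) hRne (hAn.trans (normalizer_le_normalizer_pPrimeGen p A))
  -- `P = O_p(B)`
  have hPB : PG p B ≤ B := PG_le p B
  have hPp : IsPGroup p (PG p B) := PG_isPGroup p B
  have hPn : Y ≤ Subgroup.normalizer ((PG p B : Subgroup G) : Set G) :=
    hBn.trans (normalizer_le_normalizer_PG p B)
  have hPA : PG p B ≤ Subgroup.normalizer (A : Set G) := hPB.trans (hBX.trans hAn)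
  -- Claim 2
  have claim2 : ∀ v : G, (∀ b ∈ B, b⁻¹ * (v * b * v⁻¹) ∈ PG p B) → v ∈ X := by
    intro v h
    exact hRX (mem_normalizer_pPrimeGen hPA hPp v (fun r hr => h r (hAB hr)))
  -- Claim 3
  have hBQ : B ⊓ PG p Y ≤ PG p B := by
    apply le_PG inf_le_left
    · refine le_trans ?_ (normalizer_inf_le_normalizer_inf B (PG p Y))
      exact le_inf Subgroup.le_normalizer (hBY.trans (le_normalizer_PG p Y))
    · exact (PG_isPGroup p Y).to_le inf_le_right
  have claim3 : PG p Y ≤ X := by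
    intro v hv
    have hvY : v ∈ Y := PG_le p Y hv
    apply claim2 v
    intro b hb
    apply hBQ
    constructor
    · exact B.mul_mem (B.inv_mem hb) (conj_mem_of_mem_normalizer (hBn hvY) hb)
    · have e : b⁻¹ * (v * b * v⁻¹) = (b⁻¹ * v * b) * v⁻¹ := by group
      rw [e]
      exact Subgroup.mul_mem _
        (conj_mem_of_mem_normalizer' (le_normalizer_PG p Y (hBY hb)) hv) (Subgroup.inv_mem _ hv)
  -- Claim 4
  have hKB : PG p (X ⊓ Y) ⊓ B ≤ PG p B := by
    apply le_PG inf_le_right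
    · refine le_trans ?_ (normalizer_inf_le_normalizer_inf (PG p (X ⊓ Y)) B)
      exact le_inf (hBK.trans (le_normalizer_PG p (X ⊓ Y))) Subgroup.le_normalizer
    · exact (PG_isPGroup p (X ⊓ Y)).to_le inf_le_left
  have claim4a : PG p (X ⊓ Y) ≤ B := by
    intro u hu
    have huK : u ∈ X ⊓ Y := PG_le p (X ⊓ Y) hu
    rw [hB]
    intro y hy
    have hwY : y * u * y⁻¹ ∈ Y := Y.mul_mem (Y.mul_mem hy huK.2) (Y.inv_mem hy)
    refine ⟨?_, hwY⟩
    apply claim2
    intro b hb
    have hb' : y⁻¹ * b * y ∈ B := conj_mem_of_mem_normalizer' (hBn hy) hb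
    have hc : (y⁻¹ * b * y)⁻¹ * (u * (y⁻¹ * b * y) * u⁻¹) ∈ PG p B := by
      apply hKB
      constructor
      · have e : (y⁻¹ * b * y)⁻¹ * (u * (y⁻¹ * b * y) * u⁻¹) =
            ((y⁻¹ * b * y)⁻¹ * u * (y⁻¹ * b * y)) * u⁻¹ := by group
        rw [e]
        exact Subgroup.mul_mem _ (conj_mem_of_mem_normalizer'
          (le_normalizer_PG p (X ⊓ Y) (hBK hb')) hu) (Subgroup.inv_mem _ hu)
      · exact B.mul_mem (B.inv_mem hb') (conj_mem_of_mem_normalizer (hBn huK.2) hb')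
    have := conj_mem_of_mem_normalizer (hPn hy) hc
    have e : b⁻¹ * (y * u * y⁻¹ * b * (y * u * y⁻¹)⁻¹) =
        y * ((y⁻¹ * b * y)⁻¹ * (u * (y⁻¹ * b * y) * u⁻¹)) * y⁻¹ := by group
    rw [e]; exact this
  have claim4 : PG p (X ⊓ Y) ≤ PG p B :=
    le_PG claim4a (hBK.trans (le_normalizer_PG p (X ⊓ Y))) (PG_isPGroup p (X ⊓ Y))
  have hPQY : PG p B ≤ PG p Y := le_PG (hPB.trans hBY) hPn hPp
  have hKQY : PG p (X ⊓ Y) ≤ PG p Y := claim4.trans hPQY
  -- Claim 6
  by_cases hQY : PG p Y = ⊥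
  · refine ⟨hQY, ?_⟩
    rw [hQY] at hcard
    have h1 : Nat.card (PG p X) = 1 := by rw [hcard]; simp
    exact Subgroup.card_eq_one.1 h1
  exfalso
  have hNY : Subgroup.normalizer ((PG p Y : Subgroup G) : Set G) ≤ Y :=
    hY _ (PG_le p Y) hQY (le_normalizer_PG p Y)
  have hQYn : PG p Y ≤ Subgroup.normalizer ((PG p X : Subgroup G) : Set G) :=
    claim3.trans (le_normalizer_PG p X)
  have hT : IsPGroup p (PG p X ⊔ PG p Y : Subgroup G) :=
    IsPGroup.to_sup_of_normal_left' (PG_isPGroup p X) (PG_isPGroup p Y) hQYn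
  have hTX : PG p X ⊔ PG p Y ≤ X := sup_le (PG_le p X) claim3
  have hKT : X ⊓ Y ≤ Subgroup.normalizer ((PG p X ⊔ PG p Y : Subgroup G) : Set G) := by
    refine le_trans ?_ (Cfsg.Agent.H2.normalizer_inf_le_normalizer_sup (PG p X) (PG p Y))
    exact le_inf (inf_le_left.trans (le_normalizer_PG p X)) (inf_le_right.trans (le_normalizer_PG p Y))
  have hTY : (PG p X ⊔ PG p Y) ⊓ Y ≤ PG p Y := by
    refine le_trans ?_ hKQY
    apply le_PG (le_inf (inf_le_left.trans hTX) inf_le_right)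
    · refine le_trans ?_ (normalizer_inf_le_normalizer_inf (PG p X ⊔ PG p Y) Y)
      exact le_inf hKT (inf_le_right.trans Subgroup.le_normalizer)
    · exact hT.to_le inf_le_left
  by_cases htop : (PG p Y).subgroupOf (PG p X ⊔ PG p Y) = ⊤
  · rw [Subgroup.subgroupOf_eq_top] at htop
    have hle : PG p X ≤ PG p Y := le_sup_left.trans htop
    have heq : PG p X = PG p Y := Subgroup.eq_of_le_of_card_ge hle (le_of_eq hcard.symm)
    have hNX : Subgroup.normalizer ((PG p X : Subgroup G) : Set G) ≤ X :=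
      hX _ (PG_le p X) (by rw [heq]; exact hQY) (le_normalizer_PG p X)
    apply hne
    apply le_antisymm
    · refine le_trans (le_normalizer_PG p X) ?_
      rw [heq]; exact hNY
    · refine le_trans (le_normalizer_PG p Y) ?_
      rw [← heq]; exact hNX
  · have hnil : Group.IsNilpotent ↥(PG p X ⊔ PG p Y : Subgroup G) := hT.isNilpotent
    have hNC := Group.normalizerCondition_of_isNilpotent (G := ↥(PG p X ⊔ PG p Y : Subgroup G))
    have hlt := hNC _ (lt_top_iff_ne_top.2 htop)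
    obtain ⟨t, htn, htH⟩ := SetLike.exists_of_lt hlt
    rw [← Subgroup.subgroupOf_normalizer_eq le_sup_right] at htn
    have h1 : (t : G) ∈ Subgroup.normalizer ((PG p Y : Subgroup G) : Set G) :=
      Subgroup.mem_subgroupOf.1 htn
    have h2 : (t : G) ∈ PG p Y := hTY ⟨t.2, hNY h1⟩
    exact htH (Subgroup.mem_subgroupOf.2 h2)

end Cfsg.Agent.Lib.Lead.TW
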