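import Mathlib
import Cfsg.Prelude.Def_Local
import Cfsg.Agent.H1.Cores
import Cfsg.Agent.H1.PrimPairB
import Cfsg.Agent.H1.PrimPairC
import Cfsg.Agent.H2.Layer
import Cfsg.Agent.H2.Components
import Cfsg.Agent.Lib.Lead.Conj
import Cfsg.Agent.Lib.Lead.TWStar

/-!
# Thompson–Wielandt: the layers of the two point stabilizers vanish
-/

set_option autoImplicit false
open scoped commutatorElement

namespace Cfsg.Agent.Lib.Lead.TW

open Cfsg.Agent.H1.PrimPair Cfsg.Agent.Lib.Lead.Conj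

variable {G : Type*} [Group G]

/-- Subnormality is transitive, in relative form. -/
theorem isSubnormal_subgroupOf_trans {L N M : Subgroup G} (hLN : L ≤ N) (_hNM : N ≤ M)
    (hL : (L.subgroupOf N).IsSubnormal) (hN : (N.subgroupOf M).IsSubnormal) :
    (L.subgroupOf M).IsSubnormal := by
  have hrange : ∀ x : ↥(N.subgroupOf M), ((x : ↥M) : G) ∈ N := fun x => Subgroup.mem_subgroupOf.1 x.2
  let f : ↥(N.subgroupOf M) →* ↥N := ((M.subtype).comp (N.subgroupOf M).subtype).codRestrict N hrange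
  have hcomap : (L.subgroupOf N).comap f = (L.subgroupOf M).subgroupOf (N.subgroupOf M) := by
    ext x
    simp only [Subgroup.mem_comap, Subgroup.mem_subgroupOf]
    rfl
  have hsn1 : ((L.subgroupOf M).subgroupOf (N.subgroupOf M)).IsSubnormal := by
    rw [← hcomap]; exact hL.comap f
  have hle2 : L.subgroupOf M ≤ N.subgroupOf M := Subgroup.subgroupOf_mono _ hLN
  exact Subgroup.IsSubnormal.trans hle2 hsn1 hN

/-- Restricting relative subnormality to an intermediate subgroup. -/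
theorem isSubnormal_subgroupOf_of_le {L N M : Subgroup G} (hNM : N ≤ M)
    (h : (L.subgroupOf M).IsSubnormal) : (L.subgroupOf N).IsSubnormal := by
  have := h.comap (Subgroup.inclusion hNM)
  have e : (L.subgroupOf M).comap (Subgroup.inclusion hNM) = L.subgroupOf N := by
    ext x
    simp only [Subgroup.mem_comap, Subgroup.mem_subgroupOf]
    rfl
  rwa [e] at this

theorem normal_subgroupOf_of_le_normalizer {N M : Subgroup G} (hNM : N ≤ M)
    (hn : M ≤ Subgroup.normalizer (N : Set G)) : (N.subgroupOf M).Normal :=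
  (Subgroup.normal_subgroupOf_iff_le_normalizer hNM).2 hn

/-- An element of `X` whose image in `↥X` normalizes `N.subgroupOf X` normalizes `N ≤ X`. -/
theorem mem_normalizer_of_subgroupOf [Finite G] {N X : Subgroup G} (l : ↥X)
    (hl : l ∈ Subgroup.normalizer ((N.subgroupOf X : Subgroup ↥X) : Set ↥X)) (hNX : N ≤ X) :
    (l : G) ∈ Subgroup.normalizer (N : Set G) := by
  apply mem_normalizer_of_conj_mem
  intro r hr
  have h1 : (⟨r, hNX hr⟩ : ↥X) ∈ N.subgroupOf X := Subgroup.mem_subgroupOf.2 hr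
  have h2 := (Subgroup.mem_normalizer_iff.1 hl _).1 h1
  exact Subgroup.mem_subgroupOf.1 h2

/-- `E(X) ≤ E(Y)` in the Thompson–Wielandt configuration. -/
theorem LS_le_LS_tw [Finite G] (X Y A₁ B₁ A₂ B₂ : Subgroup G)
    (hX : NormIn X) (hY : NormIn Y)
    (hA₁ : IsCoreIn Y X A₁) (hB₁ : IsCoreIn X Y B₁)
    (hA₂B : A₂ ≤ B₁) (hA₂ : A₂ ≠ ⊥) (hA₂n : X ≤ Subgroup.normalizer (A₂ : Set G))
    (hB₂A : B₂ ≤ A₁) (hB₂ : B₂ ≠ ⊥) (hB₂n : Y ≤ Subgroup.normalizer (B₂ : Set G)) :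
    LS X ≤ LS Y := by
  have hA₁X : A₁ ≤ X := hA₁.le_right
  have hA₁Y : A₁ ≤ Y := hA₁.le_left
  have hB₁X : B₁ ≤ X := hB₁.le_left
  have hB₁Y : B₁ ≤ Y := hB₁.le_right
  have hA₁n : X ≤ Subgroup.normalizer (A₁ : Set G) := hA₁.le_normalizer
  have hB₁n : Y ≤ Subgroup.normalizer (B₁ : Set G) := hB₁.le_normalizer
  -- `E(X) ≤ Y`
  have hB₂sn : (B₂.subgroupOf X).IsSubnormal := by
    apply isSubnormal_subgroupOf_trans hB₂A hA₁X
    · exact (normal_subgroupOf_of_le_normalizer hB₂A (hA₁Y.trans hB₂n)).isSubnormal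
    · exact (normal_subgroupOf_of_le_normalizer hA₁X hA₁n).isSubnormal
  have hNB₂ : Subgroup.normalizer (B₂ : Set G) ≤ Y := hY B₂ (hB₂A.trans hA₁Y) hB₂ hB₂n
  have hLSY : LS X ≤ Y := by
    rintro _ ⟨l, hl, rfl⟩
    have h1 := Cfsg.Agent.H2.layer_le_normalizer_of_isSubnormal hB₂sn hl
    exact hNB₂ (mem_normalizer_of_subgroupOf l h1 (hB₂A.trans hA₁X))
  have hLSA₁ : LS X ≤ A₁ := hA₁.le hLSY (LS_le X) (le_normalizer_LS X)
  -- the centralizer of `B₁` in `Y` lies in `B₁`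
  have hNA₂ : Subgroup.normalizer (A₂ : Set G) ≤ X := hX A₂ (hA₂B.trans hB₁X) hA₂ hA₂n
  have hCB : Y ⊓ Subgroup.centralizer (B₁ : Set G) ≤ B₁ := by
    apply hB₁.le
    · refine le_trans inf_le_right (le_trans ?_ hNA₂)
      exact (Subgroup.centralizer_le (by exact_mod_cast hA₂B)).trans (Subgroup.centralizer_le_normalizer _)
    · exact inf_le_left
    · intro y hy
      apply mem_normalizer_of_conj_mem
      intro c hc
      have hcY : c ∈ Y := hc.1
      have hcC : c ∈ Subgroup.centralizer (B₁ : Set G) := hc.2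
      refine ⟨Y.mul_mem (Y.mul_mem hy hcY) (Y.inv_mem hy), ?_⟩
      show y * c * y⁻¹ ∈ Subgroup.centralizer (B₁ : Set G)
      rw [Subgroup.mem_centralizer_iff]
      intro b hb
      have hb' : y⁻¹ * b * y ∈ B₁ := conj_mem_of_mem_normalizer' (hB₁n hy) hb
      have := Subgroup.mem_centralizer_iff.1 hcC _ hb'
      calc b * (y * c * y⁻¹) = y * ((y⁻¹ * b * y) * c) * y⁻¹ := by group
        _ = y * (c * (y⁻¹ * b * y)) * y⁻¹ := by rw [this]
        _ = y * c * y⁻¹ * b := by group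
  -- components
  unfold LS
  rw [Subgroup.map_le_iff_le_comap]
  apply Cfsg.Agent.H2.layer_le_iff.2
  intro K hK
  set K' : Subgroup G := K.map X.subtype with hK'
  suffices hsuff : K' ≤ (Cfsg.layer ↥Y).map Y.subtype by
    intro x hx
    exact hsuff (Subgroup.mem_map_of_mem X.subtype hx)
  have hK'X : K' ≤ X := Cfsg.Agent.H2.map_subtype_le _ _
  have hK'LS : K' ≤ LS X := Subgroup.map_mono (Cfsg.Agent.H2.component_le_layer hK)
  have hK'A₁ : K' ≤ A₁ := hK'LS.trans hLSA₁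
  have hK'Y : K' ≤ Y := hK'A₁.trans hA₁Y
  set D : Subgroup G := X ⊓ Y with hD
  have hK'D : K' ≤ D := le_inf hK'X hK'Y
  have hsub : K'.subgroupOf X = K := by
    rw [hK']
    exact Subgroup.comap_map_eq_self_of_injective X.subtype_injective K
  have hc1 : Cfsg.IsComponent (K'.subgroupOf X) := by rw [hsub]; exact hK
  have hcD : Cfsg.IsComponent (K'.subgroupOf D) := component_subgroupOf_of_le hK'D inf_le_left hc1
  have hqs : Cfsg.IsQuasisimple ↥K' :=
    (Cfsg.Agent.H2.isQuasisimple_map_of_injective _ X.subtype_injective K).2 hK.2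
  have hB₁D : B₁ ≤ D := le_inf hB₁X hB₁Y
  have hNn : (B₁.subgroupOf D).Normal :=
    normal_subgroupOf_of_le_normalizer hB₁D (inf_le_right.trans hB₁n)
  rcases Cfsg.Agent.H2.component_le_or_commutator_eq_bot _ _ hcD hNn.isSubnormal with hle | hcomm
  · have hK'B₁ : K' ≤ B₁ := by
      intro x hx
      exact Subgroup.mem_subgroupOf.1 (hle (show (⟨x, hK'D hx⟩ : ↥D) ∈ K'.subgroupOf D from
        Subgroup.mem_subgroupOf.2 hx))
    have hsn1 : (K'.subgroupOf B₁).IsSubnormal := isSubnormal_subgroupOf_of_le hB₁D hcD.1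
    have hsn2 : (K'.subgroupOf Y).IsSubnormal :=
      isSubnormal_subgroupOf_trans hK'B₁ hB₁Y hsn1
        (normal_subgroupOf_of_le_normalizer hB₁Y hB₁n).isSubnormal
    have hc2 : Cfsg.IsComponent (K'.subgroupOf Y) :=
      ⟨hsn2, (Cfsg.Agent.H2.isQuasisimple_subgroupOf hK'Y).2 hqs⟩
    have := Subgroup.map_mono (f := Y.subtype) (Cfsg.Agent.H2.component_le_layer hc2)
    rwa [Subgroup.map_subgroupOf_eq_of_le hK'Y] at this
  · exfalso
    have hcomm' : ⁅K', B₁⁆ = ⊥ :=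
      (Cfsg.Agent.H2.commutator_subgroupOf_eq_bot_iff hK'D hB₁D).1 hcomm
    have hcent : K' ≤ Subgroup.centralizer (B₁ : Set G) :=
      Subgroup.commutator_eq_bot_iff_le_centralizer.1 hcomm'
    have hK'B₁ : K' ≤ B₁ := (le_inf hK'Y hcent).trans hCB
    have hab : ⁅K', K'⁆ = ⊥ := by
      rw [eq_bot_iff, ← hcomm']
      exact Subgroup.commutator_mono le_rfl hK'B₁
    rw [Cfsg.Agent.H2.quasisimple_commutator_eq hqs] at hab
    exact Cfsg.Agent.H2.quasisimple_ne_bot hqs hab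

/-- `E(X) = 1` in the Thompson–Wielandt configuration. -/
theorem layer_eq_bot_tw [Finite G] (X Y A₁ B₁ A₂ B₂ : Subgroup G)
    (hX : NormIn X) (hY : NormIn Y) (hne : X ≠ Y)
    (hA₁ : IsCoreIn Y X A₁) (hB₁ : IsCoreIn X Y B₁)
    (hA₂B : A₂ ≤ B₁) (hA₂ : A₂ ≠ ⊥) (hA₂n : X ≤ Subgroup.normalizer (A₂ : Set G))
    (hB₂A : B₂ ≤ A₁) (hB₂ : B₂ ≠ ⊥) (hB₂n : Y ≤ Subgroup.normalizer (B₂ : Set G)) :
    Cfsg.layer ↥X = ⊥ := by
  by_contra hE
  have heq : LS X = LS Y :=
    le_antisymm (LS_le_LS_tw X Y A₁ B₁ A₂ B₂ hX hY hA₁ hB₁ hA₂B hA₂ hA₂n hB₂A hB₂ hB₂n)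
      (LS_le_LS_tw Y X B₁ A₁ B₂ A₂ hY hX hB₁ hA₁ hB₂A hB₂ hB₂n hA₂B hA₂ hA₂n)
  have hne' : LS X ≠ ⊥ := by
    intro h
    apply hE
    exact (Subgroup.map_eq_bot_iff_of_injective _ X.subtype_injective).1 h
  have h1 : Subgroup.normalizer ((LS X : Subgroup G) : Set G) ≤ X :=
    hX _ (LS_le X) hne' (le_normalizer_LS X)
  have h2 : Subgroup.normalizer ((LS Y : Subgroup G) : Set G) ≤ Y :=
    hY _ (LS_le Y) (by rw [← heq]; exact hne') (le_normalizer_LS Y)
  apply hne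
  apply le_antisymm
  · refine le_trans (le_normalizer_LS X) ?_
    rw [heq]; exact h2
  · refine le_trans (le_normalizer_LS Y) ?_
    rw [← heq]; exact h1

end Cfsg.Agent.Lib.Lead.TW
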