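import Mathlib
import Cfsg.Prelude.Def_Local
import Cfsg.Agent.H1.Cores
import Cfsg.Agent.H1.PrimPairB
import Cfsg.Agent.H2.Layer
import Cfsg.Agent.H2.Components
import Cfsg.Agent.Lib.Helper7.Core
import Cfsg.Agent.Lib.Lead.Conj
import Cfsg.Agent.Lib.Lead.TWStar
import Cfsg.Agent.Lib.Lead.TWComp

/-!
# Thompson–Wielandt: second cores are `p`-groups and `F* = O_p`
-/

set_option autoImplicit false
open scoped commutatorElement

namespace Cfsg.Agent.Lib.Lead.TW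

open Cfsg.Agent.H1.PrimPair Cfsg.Agent.Lib.Lead.Conj

variable {G : Type*} [Group G]

/-- The core of `H` in `M`, as a subgroup of the ambient group. -/
def coreIn (M H : Subgroup G) : Subgroup G := ((H.subgroupOf M).normalCore).map M.subtype

theorem mem_coreIn {M H : Subgroup G} {x : G} :
    x ∈ coreIn M H ↔ x ∈ M ∧ ∀ m ∈ M, m * x * m⁻¹ ∈ H := by
  constructor
  · rintro ⟨y, hy, rfl⟩
    refine ⟨y.2, fun m hm => ?_⟩
    have := hy ⟨m, hm⟩
    exact Subgroup.mem_subgroupOf.1 this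
  · rintro ⟨hx, h⟩
    refine ⟨⟨x, hx⟩, ?_, rfl⟩
    intro m
    exact Subgroup.mem_subgroupOf.2 (h m m.2)

theorem coreIn_le_left (M H : Subgroup G) : coreIn M H ≤ M := fun _ hx => (mem_coreIn.1 hx).1

theorem coreIn_le_right (M H : Subgroup G) : coreIn M H ≤ H := by
  intro x hx
  have := (mem_coreIn.1 hx).2 1 M.one_mem
  simpa using this

theorem le_normalizer_coreIn [Finite G] (M H : Subgroup G) :
    M ≤ Subgroup.normalizer ((coreIn M H : Subgroup G) : Set G) := by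
  intro m hm
  apply mem_normalizer_of_conj_mem
  intro u hu
  obtain ⟨huM, hu'⟩ := mem_coreIn.1 hu
  refine mem_coreIn.2 ⟨M.mul_mem (M.mul_mem hm huM) (M.inv_mem hm), fun m' hm' => ?_⟩
  have := hu' (m' * m) (M.mul_mem hm' hm)
  have e : m' * (m * u * m⁻¹) * m'⁻¹ = m' * m * u * (m' * m)⁻¹ := by group
  rw [e]; exact this

theorem isCoreIn_coreIn (X Y : Subgroup G) : IsCoreIn X Y (coreIn Y (X ⊓ Y)) := by
  intro u
  rw [mem_coreIn]
  constructor
  · exact fun h => h.2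
  · intro h
    refine ⟨?_, h⟩
    have := (h 1 Y.one_mem).2
    simpa using this

theorem normIn_of_isCoatom {X : Subgroup G} (hmax : IsCoatom X) (hcore : X.normalCore = ⊥) :
    NormIn X := by
  intro N hNX hN hn
  rcases hmax.le_iff.1 hn with h | h
  · exfalso
    apply hN
    have hnorm : N.Normal := Subgroup.normalizer_eq_top_iff.1 h
    rw [eq_bot_iff, ← hcore]
    exact Subgroup.normal_le_normalCore.2 hNX
  · exact le_of_eq h

theorem isCoatom_map_conj {X : Subgroup G} (hmax : IsCoatom X) (g : G) :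
    IsCoatom (X.map (MulAut.conj g).toMonoidHom) :=
  ((MulAut.conj g).mapSubgroup.isCoatom_iff X).2 hmax

theorem normalCore_map_conj_eq_bot {X : Subgroup G} (hcore : X.normalCore = ⊥) (g : G) :
    (X.map (MulAut.conj g).toMonoidHom).normalCore = ⊥ := by
  rw [eq_bot_iff]
  intro n hn
  have h1 : g⁻¹ * n * g ∈ X.normalCore := by
    intro h
    have := hn (g * h * g⁻¹)
    rw [mem_map_conj] at this
    have e : h * (g⁻¹ * n * g) * h⁻¹ = g⁻¹ * (g * h * g⁻¹ * n * (g * h * g⁻¹)⁻¹) * g := by group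
    rw [e]; exact this
  rw [hcore, Subgroup.mem_bot] at h1
  rw [Subgroup.mem_bot]
  have : n = g * (g⁻¹ * n * g) * g⁻¹ := by group
  rw [this, h1]; group

theorem card_PG_eq (p : ℕ) (M : Subgroup G) : Nat.card (PG p M) = Nat.card (Cfsg.pCore p ↥M) :=
  (Nat.card_congr ((Subgroup.equivMapOfInjective _ M.subtype M.subtype_injective).toEquiv)).symm

theorem card_PG_map_conj (p : ℕ) (X : Subgroup G) (g : G) :
    Nat.card (PG p X) = Nat.card (PG p (X.map (MulAut.conj g).toMonoidHom)) := by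
  rw [card_PG_eq, card_PG_eq]
  have e := X.equivMapOfInjective (MulAut.conj g).toMonoidHom (MulAut.conj g).injective
  rw [← Cfsg.Agent.Lib.Helper7.pCore_map_equiv (p := p) e]
  exact Nat.card_congr ((Subgroup.equivMapOfInjective _ e.toMonoidHom e.injective).toEquiv)

theorem PG_eq_bot_iff (p : ℕ) (M : Subgroup G) : PG p M = ⊥ ↔ Cfsg.pCore p ↥M = ⊥ :=
  Subgroup.map_eq_bot_iff_of_injective _ M.subtype_injective

theorem PG_eq_bot_of_normal [Finite G] {q : ℕ} {N M : Subgroup G} (hNM : N ≤ M)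
    (hn : M ≤ Subgroup.normalizer (N : Set G)) (h : PG q M = ⊥) : PG q N = ⊥ := by
  rw [eq_bot_iff, ← h]
  exact le_PG ((PG_le q N).trans hNM) (hn.trans (normalizer_le_normalizer_PG q N)) (PG_isPGroup q N)

theorem layer_eq_bot_of_normal {N M : Subgroup G} (hNM : N ≤ M)
    (hn : M ≤ Subgroup.normalizer (N : Set G)) (h : Cfsg.layer ↥M = ⊥) : Cfsg.layer ↥N = ⊥ := by
  rw [eq_bot_iff]
  apply Cfsg.Agent.H2.layer_le_iff.2
  intro K hK
  exfalso
  set K' : Subgroup G := K.map N.subtype with hK'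
  have hK'N : K' ≤ N := Cfsg.Agent.H2.map_subtype_le _ _
  have hsub : K'.subgroupOf N = K := by
    rw [hK']
    exact Subgroup.comap_map_eq_self_of_injective N.subtype_injective K
  have hqs : Cfsg.IsQuasisimple ↥K' :=
    (Cfsg.Agent.H2.isQuasisimple_map_of_injective _ N.subtype_injective K).2 hK.2
  have hsn : (K'.subgroupOf M).IsSubnormal := by
    apply isSubnormal_subgroupOf_trans hK'N hNM
    · rw [hsub]; exact hK.1
    · exact (normal_subgroupOf_of_le_normalizer hNM hn).isSubnormal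
  have hc : Cfsg.IsComponent (K'.subgroupOf M) :=
    ⟨hsn, (Cfsg.Agent.H2.isQuasisimple_subgroupOf (hK'N.trans hNM)).2 hqs⟩
  have h1 := Cfsg.Agent.H2.component_le_layer hc
  rw [h, le_bot_iff] at h1
  have h2 : K' = ⊥ := by
    rw [eq_bot_iff]
    intro x hx
    have : (⟨x, hNM (hK'N hx)⟩ : ↥M) ∈ K'.subgroupOf M := Subgroup.mem_subgroupOf.2 hx
    rw [h1, Subgroup.mem_bot] at this
    rw [Subgroup.mem_bot]
    exact congrArg Subtype.val this
  exact Cfsg.Agent.H2.quasisimple_ne_bot hqs h2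

theorem eq_bot_of_FS_eq_bot' [Finite G] (M : Subgroup G) (h : FS M = ⊥) : M = ⊥ := by
  rw [eq_bot_iff]
  intro x hx
  have : x ∈ FS M := by
    apply mem_FS_of_centralizes M x hx
    rw [h]
    simp [Subgroup.mem_centralizer_iff]
  rwa [h] at this

/-- `F*(M) = O_p(M)` when `E(M) = 1` and `O_q(M) = 1` for all primes `q ≠ p`. -/
theorem genFitting_eq_pCore [Finite G] {p : ℕ} (hp : p.Prime) (M : Subgroup G)
    (hE : Cfsg.layer ↥M = ⊥) (hq : ∀ q : ℕ, q.Prime → q ≠ p → PG q M = ⊥) :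
    Cfsg.generalizedFittingSubgroup ↥M = Cfsg.pCore p ↥M := by
  unfold Cfsg.generalizedFittingSubgroup
  rw [hE, bot_sup_eq, Cfsg.Agent.H1.fittingSubgroup_eq_iSup_pCore]
  apply le_antisymm
  · apply iSup_le
    intro q
    by_cases hqp : (q : ℕ) = p
    · rw [hqp]
    · rw [(PG_eq_bot_iff _ M).1 (hq q q.2 hqp)]
      exact bot_le
  · exact le_iSup (fun q : Nat.Primes => Cfsg.pCore (q : ℕ) ↥M) ⟨p, hp⟩

theorem eq_bot_of_isPGroup_of_isPGroup {p q : ℕ} (hp : p.Prime) (hq : q.Prime) (hne : q ≠ p)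
    {A : Subgroup G} (h1 : IsPGroup p A) (h2 : IsPGroup q A) : A = ⊥ := by
  rw [eq_bot_iff]
  intro a ha
  obtain ⟨k, hk⟩ := h1 ⟨a, ha⟩
  obtain ⟨l, hl⟩ := h2 ⟨a, ha⟩
  have hk' : a ^ (p ^ k) = 1 := by simpa using congrArg Subtype.val hk
  have hl' : a ^ (q ^ l) = 1 := by simpa using congrArg Subtype.val hl
  have hcop : (p ^ k).Coprime (q ^ l) :=
    Nat.Coprime.pow k l ((Nat.coprime_primes hp hq).2 (Ne.symm hne))
  have h3 : orderOf a ∣ 1 := by
    rw [← Nat.Coprime.gcd_eq_one hcop]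
    exact Nat.dvd_gcd (orderOf_dvd_of_pow_eq_one hk') (orderOf_dvd_of_pow_eq_one hl')
  rw [Subgroup.mem_bot]
  exact orderOf_eq_one_iff.1 (Nat.dvd_one.1 h3)

/-- **Thompson–Wielandt**, the form with second cores. -/
theorem tw_main [Finite G] (X Y A₁ B₁ A₂ B₂ : Subgroup G) (hX : NormIn X) (hY : NormIn Y)
    (hne : X ≠ Y) (hcard : ∀ p : ℕ, Nat.card (PG p X) = Nat.card (PG p Y))
    (hA₁ : IsCoreIn Y X A₁) (hB₁ : IsCoreIn X Y B₁)
    (hA₂A : A₂ ≤ A₁) (hA₂B : A₂ ≤ B₁) (hA₂ : A₂ ≠ ⊥)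
    (hA₂n : X ≤ Subgroup.normalizer (A₂ : Set G))
    (hB₂A : B₂ ≤ A₁) (hB₂ : B₂ ≠ ⊥)
    (hB₂n : Y ≤ Subgroup.normalizer (B₂ : Set G)) :
    ∃ p : ℕ, p.Prime ∧ IsPGroup p ↥(A₂ ⊔ B₂) ∧
      Cfsg.generalizedFittingSubgroup ↥X = Cfsg.pCore p ↥X ∧
      Cfsg.generalizedFittingSubgroup ↥A₁ = Cfsg.pCore p ↥A₁ ∧
      Cfsg.generalizedFittingSubgroup ↥Y = Cfsg.pCore p ↥Y ∧
      Cfsg.generalizedFittingSubgroup ↥B₁ = Cfsg.pCore p ↥B₁ := by
  have hEX : Cfsg.layer ↥X = ⊥ :=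
    layer_eq_bot_tw X Y A₁ B₁ A₂ B₂ hX hY hne hA₁ hB₁ hA₂B hA₂ hA₂n hB₂A hB₂ hB₂n
  have hEY : Cfsg.layer ↥Y = ⊥ :=
    layer_eq_bot_tw Y X B₁ A₁ B₂ A₂ hY hX hne.symm hB₁ hA₁ hB₂A hB₂ hB₂n hA₂B hA₂ hA₂n
  have hA₁X : A₁ ≤ X := hA₁.le_right
  have hB₁Y : B₁ ≤ Y := hB₁.le_right
  have hA₁n : X ≤ Subgroup.normalizer (A₁ : Set G) := hA₁.le_normalizer
  have hB₁n : Y ≤ Subgroup.normalizer (B₁ : Set G) := hB₁.le_normalizer
  have hXne : X ≠ ⊥ := by
    intro h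
    apply hA₂
    rw [eq_bot_iff, ← h]
    exact hA₂A.trans hA₁X
  -- a prime `p` with `O_p(X) ≠ 1`
  obtain ⟨p, hp, hpX⟩ : ∃ p : ℕ, p.Prime ∧ PG p X ≠ ⊥ := by
    by_contra hcon
    push Not at hcon
    apply hXne
    apply eq_bot_of_FS_eq_bot'
    unfold FS
    rw [Subgroup.map_eq_bot_iff_of_injective _ X.subtype_injective]
    unfold Cfsg.generalizedFittingSubgroup
    rw [hEX, bot_sup_eq, Cfsg.Agent.H1.fittingSubgroup_eq_iSup_pCore, eq_bot_iff]
    apply iSup_le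
    intro q
    rw [(PG_eq_bot_iff _ X).1 (hcon q q.2)]
  have hpf : Fact p.Prime := ⟨hp⟩
  have hA₂p : IsPGroup p A₂ := by
    by_contra h
    exact hpX (star X Y B₁ A₂ hX hY hne (hcard p) hB₁ hA₂B hA₂n h).2
  have hB₂p : IsPGroup p B₂ := by
    by_contra h
    exact hpX (star Y X A₁ B₂ hY hX hne.symm (hcard p).symm hA₁ hB₂A hB₂n h).1
  have hq : ∀ q : ℕ, q.Prime → q ≠ p → PG q Y = ⊥ ∧ PG q X = ⊥ := by
    intro q hq hqp
    have hqf : Fact q.Prime := ⟨hq⟩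
    apply star X Y B₁ A₂ hX hY hne (hcard q) hB₁ hA₂B hA₂n
    intro h
    exact hA₂ (eq_bot_of_isPGroup_of_isPGroup hp hq hqp hA₂p h)
  refine ⟨p, hp, ?_, ?_, ?_, ?_, ?_⟩
  · exact IsPGroup.to_sup_of_normal_right' hA₂p hB₂p ((hA₂B.trans hB₁Y).trans hB₂n)
  · exact genFitting_eq_pCore hp X hEX (fun q hq' hqp => (hq q hq' hqp).2)
  · exact genFitting_eq_pCore hp A₁ (layer_eq_bot_of_normal hA₁X hA₁n hEX)
      (fun q hq' hqp => PG_eq_bot_of_normal hA₁X hA₁n (hq q hq' hqp).2)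
  · exact genFitting_eq_pCore hp Y hEY (fun q hq' hqp => (hq q hq' hqp).1)
  · exact genFitting_eq_pCore hp B₁ (layer_eq_bot_of_normal hB₁Y hB₁n hEY)
      (fun q hq' hqp => PG_eq_bot_of_normal hB₁Y hB₁n (hq q hq' hqp).1)

end Cfsg.Agent.Lib.Lead.TW
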