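import Cfsg.Prelude.Def_ChevAutomorphisms
import Cfsg.Agent.S2157
import Mathlib

/-!
# Diagonal automorphisms of the Chevalley groups (lead)
-/

set_option autoImplicit false

namespace Cfsg.Agent.ChevAut
open Cfsg Cfsg.Lie
open scoped Matrix

variable {F : Type*} [Field F] (D : ChevalleyDatum)

theorem charDiag_mul_inv (χ : ℕ → Fˣ) :
    D.charDiag F χ * D.charDiag F (fun s => (χ s)⁻¹) = 1 := by
  unfold ChevalleyDatum.charDiag
  rw [Matrix.diagonal_mul_diagonal, ← Matrix.diagonal_one]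
  congr 1
  ext x
  rcases x with j | s
  · simp
  · simp

theorem charDiag_inv_mul' (χ : ℕ → Fˣ) :
    D.charDiag F (fun s => (χ s)⁻¹) * D.charDiag F χ = 1 := by
  unfold ChevalleyDatum.charDiag
  rw [Matrix.diagonal_mul_diagonal, ← Matrix.diagonal_one]
  congr 1
  ext x
  rcases x with j | s
  · simp
  · simp

/-- the diagonal matrix of a character as an invertible matrix -/
def diagGL (χ : ℕ → Fˣ) : GL D.Idx F :=
  ⟨D.charDiag F χ, D.charDiag F (fun s => (χ s)⁻¹), charDiag_mul_inv D χ, charDiag_inv_mul' D χ⟩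

theorem diagGL_val (χ : ℕ → Fˣ) : ((diagGL D χ : GL D.Idx F) : Matrix D.Idx D.Idx F) = D.charDiag F χ := rfl

theorem diagGL_inv_val (χ : ℕ → Fˣ) :
    (((diagGL D χ)⁻¹ : GL D.Idx F) : Matrix D.Idx D.Idx F) = D.charDiag F (fun s => (χ s)⁻¹) := rfl

theorem isRootCharacter_inv {χ : ℕ → Fˣ} (hχ : D.IsRootCharacter χ) :
    D.IsRootCharacter (fun s => (χ s)⁻¹) := by
  refine ⟨fun r hr => ?_, fun r s k hr hs hk => ?_⟩
  · show (χ (D.neg r))⁻¹ = ((χ r)⁻¹)⁻¹
    rw [hχ.1 r hr]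
  · show (χ k)⁻¹ = (χ r)⁻¹ * (χ s)⁻¹
    rw [hχ.2 r s k hr hs hk, mul_inv]

theorem diag_conj_mem_group
    (hD : D ∈ [chevG2, chevB2, chevD4, chevF4, chevE6, chevE7, chevE8])
    {χ : ℕ → Fˣ} (hχ : D.IsRootCharacter χ) {g : GL D.Idx F} (hg : g ∈ D.group F) :
    diagGL D χ * g * (diagGL D χ)⁻¹ ∈ D.group F := by
  unfold ChevalleyDatum.group at hg
  induction hg using Subgroup.closure_induction with
  | mem x hx =>
    obtain ⟨r, t, hx⟩ := hx
    apply Subgroup.subset_closure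
    refine ⟨r, (χ r.val : F) * t, ?_⟩
    have key := Cfsg.Agent.S2157.result D hD χ hχ r.val r.2 t
    have ex : D.x F r.val t = D.xMat F r t := by
      unfold ChevalleyDatum.x
      rw [dif_pos r.2]
    have ex' : D.x F r.val ((χ r.val : F) * t) = D.xMat F r ((χ r.val : F) * t) := by
      unfold ChevalleyDatum.x
      rw [dif_pos r.2]
    rw [Units.val_mul, Units.val_mul, diagGL_val, diagGL_inv_val, hx, ← ex, key, ex']
  | one =>
    rw [mul_one, mul_inv_cancel]; exact Subgroup.one_mem _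
  | mul x y _ _ hx hy =>
    have : diagGL D χ * (x * y) * (diagGL D χ)⁻¹ =
        (diagGL D χ * x * (diagGL D χ)⁻¹) * (diagGL D χ * y * (diagGL D χ)⁻¹) := by group
    rw [this]; exact Subgroup.mul_mem _ hx hy
  | inv x _ hx =>
    have : diagGL D χ * x⁻¹ * (diagGL D χ)⁻¹ = (diagGL D χ * x * (diagGL D χ)⁻¹)⁻¹ := by group
    rw [this]; exact Subgroup.inv_mem _ hx

theorem diagGL_inv (χ : ℕ → Fˣ) : (diagGL D χ)⁻¹ = diagGL D (fun s => (χ s)⁻¹) := by
  apply Units.ext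
  rfl

/-- the diagonal automorphism attached to a character of the root lattice -/
noncomputable def diagAut (hD : D ∈ [chevG2, chevB2, chevD4, chevF4, chevE6, chevE7, chevE8])
    (χ : ℕ → Fˣ) (hχ : D.IsRootCharacter χ) : ↥(D.group F) ≃* ↥(D.group F) where
  toFun g := ⟨diagGL D χ * g * (diagGL D χ)⁻¹, diag_conj_mem_group D hD hχ g.2⟩
  invFun g := ⟨(diagGL D χ)⁻¹ * g * diagGL D χ, by
    have := diag_conj_mem_group D hD (isRootCharacter_inv D hχ) g.2
    rw [← diagGL_inv, inv_inv] at this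
    exact this⟩
  left_inv g := by
    apply Subtype.ext
    show (diagGL D χ)⁻¹ * (diagGL D χ * g * (diagGL D χ)⁻¹) * diagGL D χ = g
    group
  right_inv g := by
    apply Subtype.ext
    show diagGL D χ * ((diagGL D χ)⁻¹ * g * diagGL D χ) * (diagGL D χ)⁻¹ = g
    group
  map_mul' a b := by
    apply Subtype.ext
    show diagGL D χ * (a * b : GL D.Idx F) * (diagGL D χ)⁻¹ =
      (diagGL D χ * a * (diagGL D χ)⁻¹) * (diagGL D χ * b * (diagGL D χ)⁻¹)
    group

theorem isDiagonalAut_diagAut (hD : D ∈ [chevG2, chevB2, chevD4, chevF4, chevE6, chevE7, chevE8])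
    (χ : ℕ → Fˣ) (hχ : D.IsRootCharacter χ) : D.IsDiagonalAut (diagAut D hD χ hχ) := by
  refine ⟨χ, hχ, fun g => ?_⟩
  show ((diagGL D χ * (g : GL D.Idx F) * (diagGL D χ)⁻¹ : GL D.Idx F) : Matrix D.Idx D.Idx F) = _
  rw [Units.val_mul, Units.val_mul, diagGL_val, diagGL_inv_val]

/-- action of the diagonal automorphism on root elements -/
theorem diagAut_x (hD : D ∈ [chevG2, chevB2, chevD4, chevF4, chevE6, chevE7, chevE8])
    (χ : ℕ → Fˣ) (hχ : D.IsRootCharacter χ) (g : ↥(D.group F)) (r : ℕ) (hr : r < D.nroots) (t : F)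
    (hg : ((g : GL D.Idx F) : Matrix D.Idx D.Idx F) = D.x F r t) :
    (((diagAut D hD χ hχ g : ↥(D.group F)) : GL D.Idx F) : Matrix D.Idx D.Idx F) =
      D.x F r ((χ r : F) * t) := by
  show ((diagGL D χ * (g : GL D.Idx F) * (diagGL D χ)⁻¹ : GL D.Idx F) : Matrix D.Idx D.Idx F) = _
  rw [Units.val_mul, Units.val_mul, diagGL_val, diagGL_inv_val, hg]
  exact Cfsg.Agent.S2157.result D hD χ hχ r hr t

end Cfsg.Agent.ChevAut
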