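import Cfsg.Prelude.Def_ChevAutomorphisms
import Mathlib

/-!
# Field automorphisms of the Chevalley groups (lead)
-/

set_option autoImplicit false

namespace Cfsg.Agent.ChevAut
open Cfsg Cfsg.Lie
open scoped Matrix

variable {F : Type*} [Field F] (D : ChevalleyDatum)

theorem xMat_map (σ : F ≃+* F) (r : Fin D.nroots) (t : F) :
    (D.xMat F r t).map σ = D.xMat F r (σ t) := by
  ext row col
  simp only [Matrix.map_apply, ChevalleyDatum.xMat, Matrix.of_apply]
  rcases col with i | s
  · rcases row with i' | u
    · simp only
      split_ifs <;> simp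
    · simp only
      split_ifs <;> simp
  · simp only
    split_ifs with h1 h2
    · rcases row with i' | u
      · simp
      · simp only
        split_ifs <;> simp
    · rcases row with i' | u
      · simp
      · simp only
        split_ifs <;> simp
    · rcases row with i' | u
      · simp
      · simp only [map_add, map_list_sum, List.map_map]
        congr 1
        · split_ifs <;> simp
        · congr 1
          apply List.map_congr_left
          intro km _
          simp

theorem x_map (σ : F ≃+* F) (r : ℕ) (t : F) : (D.x F r t).map σ = D.x F r (σ t) := by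
  unfold ChevalleyDatum.x
  split_ifs with h
  · exact xMat_map D σ ⟨r, h⟩ t
  · ext i j
    simp [Matrix.map_apply, Matrix.one_apply]

/-- entrywise application of a field automorphism to invertible matrices -/
noncomputable def glMap (σ : F ≃+* F) : GL D.Idx F ≃* GL D.Idx F :=
  Units.mapEquiv (RingEquiv.mapMatrix σ).toMulEquiv

theorem glMap_val (σ : F ≃+* F) (g : GL D.Idx F) :
    ((glMap D σ g : GL D.Idx F) : Matrix D.Idx D.Idx F) = (g : Matrix D.Idx D.Idx F).map σ := rfl

theorem glMap_symm (σ : F ≃+* F) (g : GL D.Idx F) : (glMap D σ).symm g = glMap D σ.symm g := by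
  apply Units.ext
  rfl

theorem glMap_mem_group (σ : F ≃+* F) {g : GL D.Idx F} (hg : g ∈ D.group F) :
    glMap D σ g ∈ D.group F := by
  unfold ChevalleyDatum.group at hg ⊢
  induction hg using Subgroup.closure_induction with
  | mem x hx =>
    obtain ⟨r, t, hx⟩ := hx
    apply Subgroup.subset_closure
    refine ⟨r, σ t, ?_⟩
    rw [glMap_val, hx, xMat_map]
  | one => rw [map_one]; exact Subgroup.one_mem _
  | mul x y _ _ hx hy => rw [map_mul]; exact Subgroup.mul_mem _ hx hy
  | inv x _ hx => rw [map_inv]; exact Subgroup.inv_mem _ hx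

/-- the field automorphism of the Chevalley group attached to `σ` -/
noncomputable def fieldAut (σ : F ≃+* F) : ↥(D.group F) ≃* ↥(D.group F) where
  toFun g := ⟨glMap D σ g, glMap_mem_group D σ g.2⟩
  invFun g := ⟨glMap D σ.symm g, glMap_mem_group D σ.symm g.2⟩
  left_inv g := by
    apply Subtype.ext
    apply Units.ext
    ext i j
    simp [glMap_val]
  right_inv g := by
    apply Subtype.ext
    apply Units.ext
    ext i j
    simp [glMap_val]
  map_mul' a b := by
    apply Subtype.ext
    simp

theorem fieldAut_val (σ : F ≃+* F) (g : ↥(D.group F)) :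
    (((fieldAut D σ g : ↥(D.group F)) : GL D.Idx F) : Matrix D.Idx D.Idx F) =
      ((g : GL D.Idx F) : Matrix D.Idx D.Idx F).map σ := rfl

theorem isFieldAut_fieldAut (σ : F ≃+* F) : D.IsFieldAut (fieldAut D σ) := by
  refine ⟨σ, ?_⟩
  intro g r t _ hg
  rw [fieldAut_val, hg, x_map]

end Cfsg.Agent.ChevAut
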