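import Cfsg.Prelude.Def_ChevAutomorphisms
import Cfsg.Agent.Lib.Helper5.Chev.RcAll
import Mathlib

/-!
# Characters of the root lattice with prescribed values on the fundamental roots (lead)
-/

set_option autoImplicit false

namespace Cfsg.Agent.ChevAut
open Cfsg Cfsg.Lie
open scoped Matrix

/-- numerator of the `j`-th root coordinate of the root `r`: `Σ_i M[j][i] * A_{p_i, r}` -/
def coordNum (D : ChevalleyDatum) (M : List (List ℤ)) (j r : ℕ) : ℤ :=
  ((List.range D.rank).map fun i => (M.getD j []).getD i 0 * D.cartan i r).sum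

/-- boolean check of the coordinate data -/
def coordb (D : ChevalleyDatum) (M : List (List ℤ)) (d : ℤ) : Bool :=
  ((List.range D.nroots).all fun r => (List.range D.rank).all fun j =>
    decide (coordNum D M j r % d = 0)) &&
  ((List.range D.rank).all fun j => (List.range D.rank).all fun k =>
    decide (coordNum D M j (D.simple k) = if j = k then d else 0))

theorem coordb_spec {D : ChevalleyDatum} {M : List (List ℤ)} {d : ℤ} (h : coordb D M d = true) :
    (∀ r < D.nroots, ∀ j < D.rank, coordNum D M j r % d = 0) ∧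
    (∀ j < D.rank, ∀ k < D.rank, coordNum D M j (D.simple k) = if j = k then d else 0) := by
  unfold coordb at h
  rw [Bool.and_eq_true, List.all_eq_true, List.all_eq_true] at h
  constructor
  · intro r hr j hj
    have := h.1 r (List.mem_range.2 hr)
    rw [List.all_eq_true] at this
    exact of_decide_eq_true (this j (List.mem_range.2 hj))
  · intro j hj k hk
    have := h.2 j (List.mem_range.2 hj)
    rw [List.all_eq_true] at this
    exact of_decide_eq_true (this k (List.mem_range.2 hk))

def MG2 : List (List ℤ) := [[2, 3], [1, 2]]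
def MB2 : List (List ℤ) := [[2, 2], [1, 2]]
def MD4 : List (List ℤ) := [[4, 4, 2, 2], [4, 8, 4, 4], [2, 4, 4, 2], [2, 4, 2, 4]]
def MF4 : List (List ℤ) := [[2, 3, 4, 2], [3, 6, 8, 4], [2, 4, 6, 3], [1, 2, 3, 2]]
def ME6 : List (List ℤ) := [[4, 3, 5, 6, 4, 2], [3, 6, 6, 9, 6, 3], [5, 6, 10, 12, 8, 4], [6, 9, 12, 18, 12, 6], [4, 6, 8, 12, 10, 5], [2, 3, 4, 6, 5, 4]]
def ME7 : List (List ℤ) := [[4, 4, 6, 8, 6, 4, 2], [4, 7, 8, 12, 9, 6, 3], [6, 8, 12, 16, 12, 8, 4], [8, 12, 16, 24, 18, 12, 6], [6, 9, 12, 18, 15, 10, 5], [4, 6, 8, 12, 10, 8, 4], [2, 3, 4, 6, 5, 4, 3]]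
def ME8 : List (List ℤ) := [[4, 5, 7, 10, 8, 6, 4, 2], [5, 8, 10, 15, 12, 9, 6, 3], [7, 10, 14, 20, 16, 12, 8, 4], [10, 15, 20, 30, 24, 18, 12, 6], [8, 12, 16, 24, 20, 15, 10, 5], [6, 9, 12, 18, 15, 12, 8, 4], [4, 6, 8, 12, 10, 8, 6, 3], [2, 3, 4, 6, 5, 4, 3, 2]]

theorem coordG2 : coordb chevG2 MG2 1 = true := by decide +kernel
theorem coordB2 : coordb chevB2 MB2 2 = true := by decide +kernel
theorem coordD4 : coordb chevD4 MD4 4 = true := by decide +kernel
theorem coordF4 : coordb chevF4 MF4 1 = true := by decide +kernel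
theorem coordE6 : coordb chevE6 ME6 3 = true := by decide +kernel
theorem coordE7 : coordb chevE7 ME7 2 = true := by decide +kernel
theorem coordE8 : coordb chevE8 ME8 1 = true := by decide +kernel

theorem coord_known (D : ChevalleyDatum)
    (hD : D ∈ [chevG2, chevB2, chevD4, chevF4, chevE6, chevE7, chevE8]) :
    ∃ (M : List (List ℤ)) (d : ℤ), d ≠ 0 ∧ coordb D M d = true := by
  simp only [List.mem_cons, List.not_mem_nil, or_false] at hD
  rcases hD with rfl | rfl | rfl | rfl | rfl | rfl | rfl
  · exact ⟨_, 1, by norm_num, coordG2⟩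
  · exact ⟨_, 2, by norm_num, coordB2⟩
  · exact ⟨_, 4, by norm_num, coordD4⟩
  · exact ⟨_, 1, by norm_num, coordF4⟩
  · exact ⟨_, 3, by norm_num, coordE6⟩
  · exact ⟨_, 2, by norm_num, coordE7⟩
  · exact ⟨_, 1, by norm_num, coordE8⟩

/-- the Cartan integers are odd under negation and additive (extracted from helper5's characters,
using the field `ℚ`) -/
theorem cartan_neg_add (D : ChevalleyDatum)
    (hD : D ∈ [chevG2, chevB2, chevD4, chevF4, chevE6, chevE7, chevE8]) (i : ℕ) (hi : i < D.rank) :
    (∀ r < D.nroots, D.cartan i (D.neg r) = - D.cartan i r) ∧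
    (∀ r s k, r < D.nroots → s < D.nroots → D.chainRoot r s 1 = some k →
      D.cartan i k = D.cartan i r + D.cartan i s) := by
  have h2 : (2 : ℚ) ≠ 0 := by norm_num
  have hχ := Cfsg.Agent.Lib.Helper5.Chev.isRootCharacter_cartan_all (F := ℚ) D hD i hi (Units.mk0 2 h2)
  have hinj : Function.Injective (fun n : ℤ => (2 : ℚ) ^ n) :=
    zpow_right_injective₀ (by norm_num) (by norm_num)
  constructor
  · intro r hr
    have := hχ.1 r hr
    have := congrArg Units.val this
    simp only [Units.val_zpow_eq_zpow_val, Units.val_mk0, Units.val_inv_eq_inv_val] at this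
    rw [← zpow_neg] at this
    exact hinj this
  · intro r s k hr hs hk
    have := hχ.2 r s k hr hs hk
    have := congrArg Units.val this
    simp only [Units.val_zpow_eq_zpow_val, Units.val_mk0, Units.val_mul] at this
    rw [← zpow_add₀ h2] at this
    exact hinj this

section

variable {D : ChevalleyDatum} {M : List (List ℤ)} {d : ℤ}

theorem coordNum_neg (hD : D ∈ [chevG2, chevB2, chevD4, chevF4, chevE6, chevE7, chevE8])
    (j r : ℕ) (hr : r < D.nroots) : coordNum D M j (D.neg r) = - coordNum D M j r := by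
  unfold coordNum
  rw [List.sum_neg, List.map_map]
  congr 1
  apply List.map_congr_left
  intro i hi
  show (M.getD j []).getD i 0 * D.cartan i (D.neg r) = -((M.getD j []).getD i 0 * D.cartan i r)
  rw [(cartan_neg_add D hD i (List.mem_range.1 hi)).1 r hr, mul_neg]

theorem coordNum_add (hD : D ∈ [chevG2, chevB2, chevD4, chevF4, chevE6, chevE7, chevE8])
    (j r s k : ℕ) (hr : r < D.nroots) (hs : s < D.nroots) (hk : D.chainRoot r s 1 = some k) :
    coordNum D M j k = coordNum D M j r + coordNum D M j s := by
  unfold coordNum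
  rw [← List.sum_map_add]
  congr 1
  apply List.map_congr_left
  intro i hi
  rw [(cartan_neg_add D hD i (List.mem_range.1 hi)).2 r s k hr hs hk, mul_add]

end

theorem list_prod_ite {α : Type*} [CommGroup α] (n k : ℕ) (hk : k < n) (a : α) :
    ((List.range n).map fun j => if j = k then a else 1).prod = a := by
  induction n with
  | zero => omega
  | succ n ih =>
    rw [List.prod_range_succ]
    by_cases h : k = n
    · subst h
      rw [if_pos rfl]
      have : ∀ j ∈ List.range k, (if j = k then a else 1) = (1 : α) := by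
        intro j hj
        rw [if_neg (by have := List.mem_range.1 hj; omega)]
      rw [List.map_congr_left this]
      simp
    · rw [if_neg (by omega), mul_one]
      exact ih (by omega)

/-- the character of the root lattice with value `c j` at the `j`-th fundamental root -/
noncomputable def rootChar {F : Type*} [Field F] (D : ChevalleyDatum) (M : List (List ℤ)) (d : ℤ)
    (c : ℕ → Fˣ) (r : ℕ) : Fˣ :=
  ((List.range D.rank).map fun j => c j ^ (coordNum D M j r / d)).prod

theorem isRootCharacter_rootChar {F : Type*} [Field F] (D : ChevalleyDatum)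
    (hD : D ∈ [chevG2, chevB2, chevD4, chevF4, chevE6, chevE7, chevE8])
    {M : List (List ℤ)} {d : ℤ} (hM : coordb D M d = true) (c : ℕ → Fˣ) :
    D.IsRootCharacter (rootChar D M d c) := by
  obtain ⟨h1, -⟩ := coordb_spec hM
  constructor
  · intro r hr
    unfold rootChar
    rw [List.prod_inv, List.map_map]
    congr 1
    apply List.map_congr_left
    intro j hj
    have hj' := List.mem_range.1 hj
    show c j ^ (coordNum D M j (D.neg r) / d) = (c j ^ (coordNum D M j r / d))⁻¹
    rw [coordNum_neg hD j r hr, ← zpow_neg]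
    congr 1
    exact Int.neg_ediv_of_dvd (Int.dvd_of_emod_eq_zero (h1 r hr j hj'))
  · intro r s k hr hs hk
    unfold rootChar
    rw [← List.prod_map_mul]
    congr 1
    apply List.map_congr_left
    intro j hj
    have hj' := List.mem_range.1 hj
    show c j ^ (coordNum D M j k / d) = c j ^ (coordNum D M j r / d) * c j ^ (coordNum D M j s / d)
    rw [coordNum_add hD j r s k hr hs hk, ← zpow_add]
    congr 1
    exact Int.add_ediv_of_dvd_left (Int.dvd_of_emod_eq_zero (h1 r hr j hj'))

theorem rootChar_simple {F : Type*} [Field F] (D : ChevalleyDatum)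
    {M : List (List ℤ)} {d : ℤ} (hd : d ≠ 0) (hM : coordb D M d = true) (c : ℕ → Fˣ)
    (k : ℕ) (hk : k < D.rank) : rootChar D M d c (D.simple k) = c k := by
  obtain ⟨-, h2⟩ := coordb_spec hM
  unfold rootChar
  have : ∀ j ∈ List.range D.rank, c j ^ (coordNum D M j (D.simple k) / d) =
      if j = k then c k else 1 := by
    intro j hj
    rw [h2 j (List.mem_range.1 hj) k hk]
    split_ifs with h
    · rw [Int.ediv_self hd, zpow_one, h]
    · rw [Int.zero_ediv, zpow_zero]
  rw [List.map_congr_left this]
  exact list_prod_ite D.rank k hk (c k)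

end Cfsg.Agent.ChevAut
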