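import Cfsg.Agent.Lib.Lead.ChevAutB3
import Cfsg.Agent.Lib.Helper5.Chev.RankOne
import Mathlib

/-!
# The rank one relation of an automorphism in root form (lead)
-/

set_option autoImplicit false

namespace Cfsg.Agent.ChevAut
open Cfsg Cfsg.Lie Cfsg.Agent.Lib.Helper5.Chev Cfsg.Agent.Lib.Helper8.Aut
open scoped Matrix

/-! ### data facts -/

/-- boolean check: `-(-p_i) = p_i`, `-p_i ≠ p_i`, the coroot of `-p_i` is `-h_{p_i}` -/
def rk1b (D : ChevalleyDatum) : Bool :=
  (List.range D.rank).all fun i =>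
    decide (D.neg (D.neg (D.simple i)) = D.simple i) && decide (D.neg (D.simple i) ≠ D.simple i) &&
    (List.range D.rank).all fun k =>
      decide ((D.coroot.getD (D.neg (D.simple i)) #[]).getD k 0 = if k = i then -1 else 0)

theorem rk1b_spec {D : ChevalleyDatum} (h : rk1b D = true) (i : ℕ) (hi : i < D.rank) :
    D.neg (D.neg (D.simple i)) = D.simple i ∧ D.neg (D.simple i) ≠ D.simple i ∧
      ∀ k < D.rank, (D.coroot.getD (D.neg (D.simple i)) #[]).getD k 0 = if k = i then -1 else 0 := by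
  unfold rk1b at h
  rw [List.all_eq_true] at h
  have := h i (List.mem_range.2 hi)
  rw [Bool.and_eq_true, Bool.and_eq_true, List.all_eq_true] at this
  refine ⟨of_decide_eq_true this.1.1, of_decide_eq_true this.1.2, fun k hk => ?_⟩
  exact of_decide_eq_true (this.2 k (List.mem_range.2 hk))

theorem rk1_known (D : ChevalleyDatum)
    (hD : D ∈ [chevG2, chevB2, chevD4, chevF4, chevE6, chevE7, chevE8]) : rk1b D = true := by
  simp only [List.mem_cons, List.not_mem_nil, or_false] at hD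
  rcases hD with rfl | rfl | rfl | rfl | rfl | rfl | rfl <;> decide +kernel

/-! ### matrix entries -/

variable {F : Type*} [Field F] {D : ChevalleyDatum}

theorem xMat_rr_self (r : Fin D.nroots) (t : F) (u : Fin D.nroots) :
    D.xMat F r t (Sum.inr u) (Sum.inr r) = if u = r then 1 else 0 := by
  simp [ChevalleyDatum.xMat, Matrix.of_apply]

theorem xMat_rr_neg (r s : Fin D.nroots) (hs : s ≠ r) (hn : s.val = D.negIdx.getD r.val 0) (t : F)
    (u : Fin D.nroots) :
    D.xMat F r t (Sum.inr u) (Sum.inr s) = if u = s then 1 else if u = r then -(t ^ 2) else 0 := by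
  simp [ChevalleyDatum.xMat, Matrix.of_apply, hs, hn]

theorem sum_two {ι : Type*} [Fintype ι] [DecidableEq ι] (f : ι → F) (r q : ι) (hne : q ≠ r) (c : F) :
    ∑ u, f u * (if u = r then 1 else if u = q then c else 0) = f r + f q * c := by
  have : ∀ u, f u * (if u = r then 1 else if u = q then c else 0)
      = (if u = r then f r else 0) + (if u = q then f q * c else 0) := by
    intro u
    by_cases h1 : u = r
    · subst h1
      have : ¬ u = q := fun h => hne h.symm
      simp [this]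
    · by_cases h2 : u = q
      · subst h2; simp [h1]
      · simp [h1, h2]
  simp only [this, Finset.sum_add_distrib, Finset.sum_ite_eq', Finset.mem_univ, if_true]

/-- the `(e_r, e_r)` entry of `x_r(a) x_{-r}(b) x_r(a)` is `(1 + ab)²` -/
theorem rank_one_entry (r q : Fin D.nroots) (i' : Fin D.rank)
    (hq : q.val = D.negIdx.getD r.val 0) (hr : r.val = D.negIdx.getD q.val 0) (hne : q ≠ r)
    (hcor : ∀ k : Fin D.rank,
      (D.coroot.getD q.val #[]).getD k.val 0 = if k = i' then -1 else 0)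
    (hcar : (D.cartanSR.getD i'.val #[]).getD r.val 0 = 2) (a b : F) :
    (D.xMat F r a * (D.xMat F q b * D.xMat F r a)) (Sum.inr r) (Sum.inr r) = (1 + a * b) ^ 2 := by
  have hne' : r ≠ q := fun h => hne h.symm
  -- the column `e_r` of `x_r(a)` is `e_r`
  have hcol : ∀ M : Matrix D.Idx D.Idx F, ∀ y : D.Idx,
      (M * D.xMat F r a) y (Sum.inr r) = M y (Sum.inr r) := by
    intro M y
    rw [Matrix.mul_apply, Fintype.sum_sum_type]
    have h1 : ∀ k : Fin D.rank, D.xMat F r a (Sum.inl k) (Sum.inr r) = 0 := by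
      intro k; rw [xMat_lr]; simp
    simp only [h1, mul_zero, Finset.sum_const_zero, zero_add, xMat_rr_self, mul_ite, mul_one,
      Finset.sum_ite_eq', Finset.mem_univ, if_true]
  rw [Matrix.mul_apply]
  simp only [hcol]
  rw [Fintype.sum_sum_type]
  have h1 : ∀ k : Fin D.rank, D.xMat F r a (Sum.inr r) (Sum.inl k) * D.xMat F q b (Sum.inl k) (Sum.inr r)
      = if k = i' then (((D.cartanSR.getD k.val #[]).getD r.val 0 : ℤ) : F) * a * b else 0 := by
    intro k
    rw [xMat_rl, xMat_lr, if_pos rfl, if_pos ⟨hr, hne'⟩, hcor k]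
    split_ifs <;> simp
  have h2 : ∀ u : Fin D.nroots, D.xMat F q b (Sum.inr u) (Sum.inr r)
      = if u = r then 1 else if u = q then -(b ^ 2) else 0 := fun u => xMat_rr_neg q r hne' hr b u
  simp only [h1, h2, Finset.sum_ite_eq', Finset.mem_univ, if_true]
  rw [sum_two (fun u => D.xMat F r a (Sum.inr r) (Sum.inr u)) r q hne, xMat_rr_self, if_pos rfl,
    xMat_rr_neg r q hne hq, if_neg hne', if_pos rfl, hcar]
  push_cast
  ring

/-- if `M x_r(s) = x_{-r}(c) M` then `c M_{rr} = 0` (read off the row `h_{p_i}`) -/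
theorem rank_one_rel (r q : Fin D.nroots) (i' : Fin D.rank)
    (hr : r.val = D.negIdx.getD q.val 0) (hne : q ≠ r)
    (hcor : (D.coroot.getD q.val #[]).getD i'.val 0 = -1)
    (M : Matrix D.Idx D.Idx F) (s c : F) (h : M * D.xMat F r s = D.xMat F q c * M) :
    c * M (Sum.inr r) (Sum.inr r) = 0 := by
  have hne' : r ≠ q := fun h => hne h.symm
  have e := congrFun (congrFun h (Sum.inl i')) (Sum.inr r)
  rw [Matrix.mul_apply, Matrix.mul_apply, Fintype.sum_sum_type, Fintype.sum_sum_type] at e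
  have h1 : ∀ k : Fin D.rank, D.xMat F r s (Sum.inl k) (Sum.inr r) = 0 := by
    intro k; rw [xMat_lr]; simp
  have h2 : ∀ u : Fin D.nroots, D.xMat F q c (Sum.inl i') (Sum.inr u)
      = if u = r then -c else 0 := by
    intro u
    rw [xMat_lr, hcor]
    by_cases hu : u = r
    · subst hu
      rw [if_pos ⟨hr, hne'⟩, if_pos rfl]
      push_cast; ring
    · rw [if_neg hu, if_neg]
      rintro ⟨h3, -⟩
      exact hu (Fin.ext (h3.trans hr.symm))
  simp only [h1, mul_zero, Finset.sum_const_zero, zero_add, xMat_rr_self, mul_ite, mul_one,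
    Finset.sum_ite_eq', Finset.mem_univ, if_true, xMat_ll, ite_mul, one_mul, zero_mul,
    Finset.sum_ite_eq, h2] at e
  linear_combination e


/-! ### the relation `n_{p_i}(t) x_{p_i}(1) = x_{-p_i}(c₀) n_{p_i}(t)` -/

theorem nMat_eq_dK_mul (D : ChevalleyDatum)
    (hD : D ∈ [chevG2, chevB2, chevD4, chevF4, chevE6, chevE7, chevE8]) (i : ℕ) (hi : i < D.rank)
    (t : F) (ht : t ≠ 0) :
    D.nMat F (D.simple i) t = dK F D (D.cartan i) t * D.nMat F (D.simple i) 1 := by
  have hadd := allAdd_all (F := F) D hD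
  have h1 : D.nMat F (D.simple i) t * D.nMat F (D.simple i) (-1) = dK F D (D.cartan i) t := by
    rw [← hMat_eq]; exact hMat_simple_all D hD i hi t ht
  have h3 : D.nMat F (D.simple i) (-1) * D.nMat F (D.simple i) 1 = 1 := by
    have := nMat_mul_nMat_neg hadd (D.simple i) (-1 : F)
    rwa [neg_neg] at this
  calc D.nMat F (D.simple i) t
      = D.nMat F (D.simple i) t * (D.nMat F (D.simple i) (-1) * D.nMat F (D.simple i) 1) := by
        rw [h3, mul_one]
    _ = dK F D (D.cartan i) t * D.nMat F (D.simple i) 1 := by rw [← mul_assoc, h1]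

theorem nMat_conj_x (D : ChevalleyDatum)
    (hD : D ∈ [chevG2, chevB2, chevD4, chevF4, chevE6, chevE7, chevE8]) (i : ℕ) (hi : i < D.rank)
    (t : F) (ht : t ≠ 0) :
    ∃ c₀ : F, D.nMat F (D.simple i) t * D.x F (D.simple i) 1
      = D.x F (D.neg (D.simple i)) c₀ * D.nMat F (D.simple i) t := by
  have hadd := allAdd_all (F := F) D hD
  obtain ⟨T, Bs, hA, hB, -⟩ := known_h D hD
  obtain ⟨hp, hq⟩ := simple_lt_all D hD i hi
  have e := nU_conj_xU hA hadd i (Bs.getD i 0) hi (hB i hi) hp hq (1 : F)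
  rw [mul_inv_eq_iff_eq_mul] at e
  have e' : D.nMat F (D.simple i) 1 * D.x F (D.simple i) 1
      = D.x F (D.neg (D.simple i)) (((etaOf (Bs.getD i 0) (D.simple i) : ℤ) : F) * 1) *
        D.nMat F (D.simple i) 1 := congrArg Units.val e
  refine ⟨t ^ (D.cartan i (D.neg (D.simple i))) *
    (((etaOf (Bs.getD i 0) (D.simple i) : ℤ) : F) * 1), ?_⟩
  have h2 := diag_conj_x_all D hD i hi t ht (D.neg (D.simple i)) hq
    (((etaOf (Bs.getD i 0) (D.simple i) : ℤ) : F) * 1)
  rw [nMat_eq_dK_mul D hD i hi t ht, mul_assoc, e', ← mul_assoc, ← mul_assoc]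
  congr 1

/-! ### B1 -/

/-- **B1**: the rank one relation between the maps `φp` and `φm` -/
theorem b1_of_root_form (D : ChevalleyDatum)
    (hD : D ∈ [chevG2, chevB2, chevD4, chevF4, chevE6, chevE7, chevE8])
    (θ' : ↥(D.group F) ≃* ↥(D.group F)) (ρ : Equiv.Perm (Fin D.rank)) (φp φm : Fin D.rank → F ≃+ F)
    (hp : ∀ (i : Fin D.rank) (g : ↥(D.group F)) (t : F),
        ((g : GL D.Idx F) : Matrix D.Idx D.Idx F) = D.x F (D.simple i) t →
        ((θ' g : GL D.Idx F) : Matrix D.Idx D.Idx F) = D.x F (D.simple (ρ i)) (φp i t))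
    (hm : ∀ (i : Fin D.rank) (g : ↥(D.group F)) (t : F),
        ((g : GL D.Idx F) : Matrix D.Idx D.Idx F) = D.x F (D.neg (D.simple i)) t →
        ((θ' g : GL D.Idx F) : Matrix D.Idx D.Idx F) = D.x F (D.neg (D.simple (ρ i))) (φm i t))
    (i : Fin D.rank) (t : F) (ht : t ≠ 0) : φm i (-t⁻¹) = -(φp i t)⁻¹ := by
  have hadd := allAdd_all (F := F) D hD
  obtain ⟨hr, hq⟩ := simple_lt_all D hD i i.2
  obtain ⟨hr', hq'⟩ := simple_lt_all D hD (ρ i) (ρ i).2
  have ha : φp i t ≠ 0 := by
    intro h0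
    exact ht ((φp i).injective (h0.trans (map_zero _).symm))
  -- the relation in the group
  obtain ⟨c₀, hc₀⟩ := nMat_conj_x D hD i i.2 t ht
  obtain ⟨nG, hnG⟩ : ∃ n : ↥(D.group F), n = xG D hadd (D.simple i) t *
    (xG D hadd (D.neg (D.simple i)) (-t⁻¹) * xG D hadd (D.simple i) t) := ⟨_, rfl⟩
  have hnGv : ((nG : GL D.Idx F) : Matrix D.Idx D.Idx F) = D.nMat F (D.simple i) t := by
    rw [hnG, group_mul_val, group_mul_val, xG_val, xG_val, nMat_eq_prod]
  have hnGθ : ((θ' nG : GL D.Idx F) : Matrix D.Idx D.Idx F)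
      = D.xMat F ⟨D.simple (ρ i), hr'⟩ (φp i t) * (D.xMat F ⟨D.neg (D.simple (ρ i)), hq'⟩ (φm i (-t⁻¹)) *
        D.xMat F ⟨D.simple (ρ i), hr'⟩ (φp i t)) := by
    rw [hnG, map_mul, map_mul, group_mul_val, group_mul_val,
      hp i _ t (xG_val D hadd _ t), hm i _ (-t⁻¹) (xG_val D hadd _ _),
      x_eq_xMat _ hr', x_eq_xMat _ hq']
  have hrel : nG * xG D hadd (D.simple i) 1 = xG D hadd (D.neg (D.simple i)) c₀ * nG := by
    apply group_ext
    rw [group_mul_val, group_mul_val, hnGv, xG_val, xG_val]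
    exact hc₀
  have hc₀ne : c₀ ≠ 0 := by
    intro h0
    rw [h0] at hrel
    have h1 : xG D hadd (D.neg (D.simple i)) (0 : F) = 1 := by
      apply group_ext
      rw [xG_val, x_zero]
      rfl
    rw [h1, one_mul] at hrel
    have h1' : xG D hadd (D.simple i) (1 : F) = 1 :=
      mul_left_cancel (a := nG) (by rw [hrel, mul_one])
    have h2 := congrArg (fun g : ↥(D.group F) => ((g : GL D.Idx F) : Matrix D.Idx D.Idx F)) h1'
    simp only [xG_val] at h2
    have h3 : D.x F (D.simple i) (1 : F) = D.x F (D.simple i) 0 := by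
      rw [h2, x_zero]; rfl
    exact one_ne_zero (x_inj D hD _ hr h3)
  have hc : φm i c₀ ≠ 0 := by
    intro h0
    exact hc₀ne ((φm i).injective (h0.trans (map_zero _).symm))
  -- its image
  have himg := congrArg (fun g : ↥(D.group F) => ((θ' g : GL D.Idx F) : Matrix D.Idx D.Idx F)) hrel
  simp only [map_mul, group_mul_val] at himg
  rw [hnGθ, hp i _ 1 (xG_val D hadd _ 1), hm i _ c₀ (xG_val D hadd _ c₀),
    x_eq_xMat _ hr', x_eq_xMat _ hq'] at himg
  -- the data facts
  obtain ⟨d1, d2, d3⟩ := rk1b_spec (rk1_known D hD) (ρ i) (ρ i).2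
  have hcar := cartan_self_all D hD (ρ i) (ρ i).2
  have hne : (⟨D.neg (D.simple (ρ i)), hq'⟩ : Fin D.nroots) ≠ ⟨D.simple (ρ i), hr'⟩ := by
    intro h; exact d2 (congrArg Fin.val h)
  have hcor : ∀ k : Fin D.rank,
      (D.coroot.getD (D.neg (D.simple (ρ i))) #[]).getD k.val 0 = if k = ρ i then -1 else 0 := by
    intro k
    rw [d3 k k.2]
    by_cases hk : k = ρ i
    · subst hk; simp
    · have : ¬ (k : ℕ) = ((ρ i : Fin D.rank) : ℕ) := fun h => hk (Fin.ext h)
      simp [hk, this]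
  have h1 := rank_one_rel (F := F) (⟨D.simple (ρ i), hr'⟩ : Fin D.nroots) ⟨D.neg (D.simple (ρ i)), hq'⟩
    (ρ i) d1.symm hne (by rw [hcor (ρ i), if_pos rfl]) _ _ _ himg
  rw [rank_one_entry (F := F) (⟨D.simple (ρ i), hr'⟩ : Fin D.nroots) ⟨D.neg (D.simple (ρ i)), hq'⟩
    (ρ i) rfl d1.symm hne hcor hcar] at h1
  have h2 : 1 + φp i t * φm i (-t⁻¹) = 0 := by
    rcases mul_eq_zero.1 h1 with h | h
    · exact absurd h hc
    · exact pow_eq_zero_iff (two_ne_zero) |>.1 h
  apply mul_left_cancel₀ ha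
  rw [mul_neg, mul_inv_cancel₀ ha]
  linear_combination h2

end Cfsg.Agent.ChevAut
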