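import Cfsg.Agent.Lib.Lead.ChevAutMain
import Cfsg.Agent.Lib.Helper8.Aut.DiagOfAut
import Cfsg.Agent.Lib.Helper5.Chev.DiagProd
import Mathlib

/-!
# The functional equation of an automorphism in root form, from the rank one relation (lead)
-/

set_option autoImplicit false

namespace Cfsg.Agent.ChevAut
open Cfsg Cfsg.Lie Cfsg.Agent.Lib.Helper5.Chev Cfsg.Agent.Lib.Helper8.Aut
open scoped Matrix

variable {F : Type*} [Field F]

theorem nMat_mul_nMat_neg {D : ChevalleyDatum} (hadd : AllAdd F D) (s : ℕ) (z : F) :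
    D.nMat F s z * D.nMat F s (-z) = 1 := by
  rw [nMat_eq_prod, nMat_eq_prod]
  have e : -(-z)⁻¹ = -(-z⁻¹) := by rw [inv_neg]
  rw [e]
  have h1 := hadd.x_mul_neg s z
  have h2 := hadd.x_mul_neg (D.neg s) (-z⁻¹)
  calc D.x F s z * (D.x F (D.neg s) (-z⁻¹) * D.x F s z) *
        (D.x F s (-z) * (D.x F (D.neg s) (-(-z⁻¹)) * D.x F s (-z)))
      = D.x F s z * (D.x F (D.neg s) (-z⁻¹) * (D.x F s z * D.x F s (-z)) *
          D.x F (D.neg s) (-(-z⁻¹))) * D.x F s (-z) := by simp only [mul_assoc]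
    _ = 1 := by rw [h1, mul_one, h2, mul_one, h1]

theorem dK_one' (D : ChevalleyDatum) (κ : ℕ → ℤ) : dK F D κ 1 = 1 := by
  unfold dK
  rw [← Matrix.diagonal_one]
  congr 1
  ext x
  rcases x with j | s <;> simp

/-- `n_{p_i}(a) n_{p_i}(-c) = h_{p_i}(a / c)` -/
theorem nMat_mul_nMat_neg' (D : ChevalleyDatum)
    (hD : D ∈ [chevG2, chevB2, chevD4, chevF4, chevE6, chevE7, chevE8]) (i : ℕ) (hi : i < D.rank)
    (a c : F) (ha : a ≠ 0) (hc : c ≠ 0) :
    D.nMat F (D.simple i) a * D.nMat F (D.simple i) (-c) = dK F D (D.cartan i) (a / c) := by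
  have hadd := allAdd_all (F := F) D hD
  have h1 : D.nMat F (D.simple i) a * D.nMat F (D.simple i) (-1) = dK F D (D.cartan i) a := by
    rw [← hMat_eq]; exact hMat_simple_all D hD i hi a ha
  have h2 : D.nMat F (D.simple i) c * D.nMat F (D.simple i) (-1) = dK F D (D.cartan i) c := by
    rw [← hMat_eq]; exact hMat_simple_all D hD i hi c hc
  have h3 : D.nMat F (D.simple i) (-1) * D.nMat F (D.simple i) 1 = 1 := by
    have := nMat_mul_nMat_neg hadd (D.simple i) (-1 : F)
    rwa [neg_neg] at this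
  have h4 : D.nMat F (D.simple i) c * D.nMat F (D.simple i) (-c) = 1 :=
    nMat_mul_nMat_neg hadd (D.simple i) c
  -- X := n(1) n(-c) is the inverse of dK c
  have h5 : dK F D (D.cartan i) c * (D.nMat F (D.simple i) 1 * D.nMat F (D.simple i) (-c)) = 1 := by
    rw [← h2]
    calc D.nMat F (D.simple i) c * D.nMat F (D.simple i) (-1) *
          (D.nMat F (D.simple i) 1 * D.nMat F (D.simple i) (-c))
        = D.nMat F (D.simple i) c * (D.nMat F (D.simple i) (-1) * D.nMat F (D.simple i) 1) *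
            D.nMat F (D.simple i) (-c) := by simp only [mul_assoc]
      _ = 1 := by rw [h3, mul_one, h4]
  have h6 : D.nMat F (D.simple i) 1 * D.nMat F (D.simple i) (-c) = dK F D (D.cartan i) c⁻¹ := by
    have : dK F D (D.cartan i) c⁻¹ * (dK F D (D.cartan i) c *
        (D.nMat F (D.simple i) 1 * D.nMat F (D.simple i) (-c))) = dK F D (D.cartan i) c⁻¹ := by
      rw [h5, mul_one]
    rw [← mul_assoc, dK_mul, inv_mul_cancel₀ hc, dK_one', one_mul] at this
    exact this
  calc D.nMat F (D.simple i) a * D.nMat F (D.simple i) (-c)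
      = D.nMat F (D.simple i) a * (D.nMat F (D.simple i) (-1) * D.nMat F (D.simple i) 1) *
          D.nMat F (D.simple i) (-c) := by rw [h3, mul_one]
    _ = (D.nMat F (D.simple i) a * D.nMat F (D.simple i) (-1)) *
          (D.nMat F (D.simple i) 1 * D.nMat F (D.simple i) (-c)) := by simp only [mul_assoc]
    _ = dK F D (D.cartan i) (a / c) := by rw [h1, h6, dK_mul, div_eq_mul_inv]


theorem dK_mul_inv (D : ChevalleyDatum) (κ : ℕ → ℤ) (c : F) (hc : c ≠ 0) :
    dK F D κ c * dK F D κ c⁻¹ = 1 := by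
  rw [dK_mul, mul_inv_cancel₀ hc, dK_one']

/-- **B3 from B1**: the functional equation of the maps `φp` -/
theorem b3_of_b1 (D : ChevalleyDatum)
    (hD : D ∈ [chevG2, chevB2, chevD4, chevF4, chevE6, chevE7, chevE8])
    (θ' : ↥(D.group F) ≃* ↥(D.group F)) (ρ : Equiv.Perm (Fin D.rank)) (φp φm : Fin D.rank → F ≃+ F)
    (hp : ∀ (i : Fin D.rank) (g : ↥(D.group F)) (t : F),
        ((g : GL D.Idx F) : Matrix D.Idx D.Idx F) = D.x F (D.simple i) t →
        ((θ' g : GL D.Idx F) : Matrix D.Idx D.Idx F) = D.x F (D.simple (ρ i)) (φp i t))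
    (hm : ∀ (i : Fin D.rank) (g : ↥(D.group F)) (t : F),
        ((g : GL D.Idx F) : Matrix D.Idx D.Idx F) = D.x F (D.neg (D.simple i)) t →
        ((θ' g : GL D.Idx F) : Matrix D.Idx D.Idx F) = D.x F (D.neg (D.simple (ρ i))) (φm i t))
    (hB1 : ∀ (i : Fin D.rank) (t : F), t ≠ 0 → φm i (-t⁻¹) = -(φp i t)⁻¹)
    (i j : Fin D.rank) (t u : F) (ht : t ≠ 0) :
    φp j (t ^ (D.cartan i (D.simple j)) * u) =
      (φp i t / φp i 1) ^ (D.cartan (ρ i) (D.simple (ρ j))) * φp j u := by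
  have hadd := allAdd_all (F := F) D hD
  have hne : ∀ (i : Fin D.rank) (t : F), t ≠ 0 → φp i t ≠ 0 := by
    intro i t ht h0
    exact ht ((φp i).injective (h0.trans (map_zero _).symm))
  -- the image of `n_{p_i}(t)`
  have hn : ∀ (t : F), t ≠ 0 →
      ((θ' (xG D hadd (D.simple i) t * (xG D hadd (D.neg (D.simple i)) (-t⁻¹) *
        xG D hadd (D.simple i) t)) : GL D.Idx F) : Matrix D.Idx D.Idx F)
        = D.nMat F (D.simple (ρ i)) (φp i t) := by
    intro t ht
    rw [map_mul, map_mul, group_mul_val, group_mul_val,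
      hp i _ t (xG_val D hadd _ t), hm i _ (-t⁻¹) (xG_val D hadd _ _), hB1 i t ht, nMat_eq_prod]
  have hn0 : ∀ (t : F),
      (((xG D hadd (D.simple i) t * (xG D hadd (D.neg (D.simple i)) (-t⁻¹) *
        xG D hadd (D.simple i) t) : ↥(D.group F)) : GL D.Idx F) : Matrix D.Idx D.Idx F)
        = D.nMat F (D.simple i) t := by
    intro t
    rw [group_mul_val, group_mul_val, xG_val, xG_val, nMat_eq_prod]
  -- the element `h_{p_i}(t)` and its image
  set nG : F → ↥(D.group F) := fun t => xG D hadd (D.simple i) t *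
    (xG D hadd (D.neg (D.simple i)) (-t⁻¹) * xG D hadd (D.simple i) t) with hnG
  have h1 : (((nG t * nG (-1) : ↥(D.group F)) : GL D.Idx F) : Matrix D.Idx D.Idx F)
      = dK F D (D.cartan i) t := by
    rw [group_mul_val, hn0, hn0, ← hMat_eq]
    exact hMat_simple_all D hD i i.2 t ht
  have h2 : ((θ' (nG t * nG (-1)) : GL D.Idx F) : Matrix D.Idx D.Idx F)
      = dK F D (D.cartan (ρ i)) (φp i t / φp i 1) := by
    rw [map_mul, group_mul_val, hn t ht, hn (-1) (neg_ne_zero.2 one_ne_zero), map_neg]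
    exact nMat_mul_nMat_neg' D hD (ρ i) (ρ i).2 _ _ (hne i t ht) (hne i 1 one_ne_zero)
  obtain ⟨hj, -⟩ := simple_lt_all D hD j j.2
  obtain ⟨hj', -⟩ := simple_lt_all D hD (ρ j) (ρ j).2
  -- the relation `h x_{p_j}(u) = x_{p_j}(t^A u) h`
  have h3 : nG t * nG (-1) * xG D hadd (D.simple j) u
      = xG D hadd (D.simple j) (t ^ (D.cartan i (D.simple j)) * u) * (nG t * nG (-1)) := by
    apply group_ext
    rw [group_mul_val, group_mul_val (h := nG t * nG (-1)), h1, xG_val, xG_val]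
    exact diag_conj_x_all D hD i i.2 t ht (D.simple j) hj u
  have h4 := congrArg (fun g : ↥(D.group F) => ((θ' g : GL D.Idx F) : Matrix D.Idx D.Idx F)) h3
  simp only [map_mul] at h4
  rw [group_mul_val, group_mul_val (h := θ' (nG t) * θ' (nG (-1))), ← map_mul, h2,
    hp j _ u (xG_val D hadd _ u), hp j _ _ (xG_val D hadd _ _)] at h4
  have hc : φp i t / φp i 1 ≠ 0 := div_ne_zero (hne i t ht) (hne i 1 one_ne_zero)
  have h5 := diag_conj_x_all D hD (ρ i) (ρ i).2 (φp i t / φp i 1) hc (D.simple (ρ j)) hj' (φp j u)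
  have h6 : D.x F (D.simple (ρ j)) (φp j (t ^ (D.cartan i (D.simple j)) * u)) *
        dK F D (D.cartan (ρ i)) (φp i t / φp i 1)
      = D.x F (D.simple (ρ j)) ((φp i t / φp i 1) ^ (D.cartan (ρ i) (D.simple (ρ j))) * φp j u) *
        dK F D (D.cartan (ρ i)) (φp i t / φp i 1) := by
    rw [← h4]
    exact h5
  have h7 := congrArg (fun M => M * dK F D (D.cartan (ρ i)) (φp i t / φp i 1)⁻¹) h6
  simp only [mul_assoc, dK_mul_inv D _ _ hc, mul_one] at h7
  exact x_inj D hD _ hj' h7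

end Cfsg.Agent.ChevAut
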