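import Cfsg.Prelude.Def_ChevAutomorphisms
import Cfsg.Prelude.Def_LieChev
import Cfsg.Prelude.Def_ChevB2
import Cfsg.Prelude.Def_ChevD4
import Cfsg.Prelude.Def_ChevE6
import Cfsg.Prelude.Def_ChevE7
import Cfsg.Prelude.Def_ChevE8
import Mathlib

/-!
# Functional equations for automorphisms of Chevalley groups (lead)

* `exists_ringEquiv_of_sq`: an additive map `ψ` of a finite field with `ψ 1 = 1` and
  `ψ (t² u) = ψ(t)² ψ(u)` is a field automorphism;
* `exists_global_sigma`: field automorphisms `σ i` attached to the nodes of the Dynkin diagram and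
  related along the bonds as in Steinberg's theorem are all powers `τ ^ graphExp` of one field
  automorphism.
-/

set_option autoImplicit false

namespace Cfsg.Agent.ChevAut
open Cfsg Cfsg.Lie
open Polynomial



/-- in a finite field every element is a sum of two squares -/
theorem exists_sq_add_sq {F : Type*} [Field F] [Finite F] (x : F) : ∃ a b : F, a ^ 2 + b ^ 2 = x := by
  classical
  have := Fintype.ofFinite F
  by_cases h2 : ringChar F = 2
  · obtain ⟨r, hr⟩ := FiniteField.isSquare_of_char_two h2 x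
    exact ⟨r, 0, by rw [hr]; ring⟩
  · have hodd : Fintype.card F % 2 = 1 := FiniteField.odd_card_of_char_ne_two h2
    have hf : degree (X ^ 2 : F[X]) = 2 := degree_X_pow 2
    have hg : degree (X ^ 2 - C x : F[X]) = 2 := degree_X_pow_sub_C (by norm_num) x
    obtain ⟨a, b, hab⟩ := FiniteField.exists_root_sum_quadratic hf hg hodd
    refine ⟨a, b, ?_⟩
    simp only [eval_pow, eval_X, eval_sub, eval_C] at hab
    linear_combination hab

/-- an additive map of a finite field with `ψ 1 = 1` and `ψ (t² u) = ψ(t)² ψ(u)` is a field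
automorphism -/
theorem exists_ringEquiv_of_sq {F : Type*} [Field F] [Finite F] (ψ : F → F)
    (hadd : ∀ a b, ψ (a + b) = ψ a + ψ b) (h1 : ψ 1 = 1)
    (hsq : ∀ t u, t ≠ 0 → ψ (t ^ 2 * u) = ψ t ^ 2 * ψ u) :
    ∃ σ : F ≃+* F, ∀ t, σ t = ψ t := by
  have h0 : ψ 0 = 0 := by
    have := hadd 0 0
    rw [add_zero] at this
    exact left_eq_add.1 this
  have hsq' : ∀ t u, ψ (t ^ 2 * u) = ψ (t ^ 2) * ψ u := by
    intro t u
    by_cases ht : t = 0
    · subst ht
      simp [h0]
    · rw [hsq t u ht]
      have := hsq t 1 ht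
      rw [mul_one, h1, mul_one] at this
      rw [this]
  have hmul : ∀ a u, ψ (a * u) = ψ a * ψ u := by
    intro a u
    obtain ⟨b, c, rfl⟩ := exists_sq_add_sq a
    rw [add_mul, hadd, hsq', hsq', hadd, add_mul]
  let f : F →+* F :=
    { toFun := ψ
      map_one' := h1
      map_mul' := hmul
      map_zero' := h0
      map_add' := hadd }
  have hinj : Function.Injective f := f.injective
  have hbij : Function.Bijective f := ⟨hinj, Finite.surjective_of_injective hinj⟩
  exact ⟨RingEquiv.ofBijective f hbij, fun t => rfl⟩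



/-- if squaring is additive then `t² = t ^ char` -/
theorem pow_two_eq_pow_char {F : Type*} [Field F] (h : ∀ a b : F, (a + b) ^ 2 = a ^ 2 + b ^ 2)
    (t : F) : t ^ 2 = t ^ ringChar F := by
  have h2 : ((2 : ℕ) : F) = 0 := by
    have := h 1 1
    push_cast
    linear_combination this
  rw [CharP.ringChar_of_prime_eq_zero Nat.prime_two h2]

/-- if cubing is additive then `t³ = t ^ char` -/
theorem pow_three_eq_pow_char {F : Type*} [Field F] (h : ∀ a b : F, (a + b) ^ 3 = a ^ 3 + b ^ 3)
    (t : F) : t ^ 3 = t ^ ringChar F := by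
  have h6 : (2 : F) * 3 = 0 := by
    have := h 1 1
    linear_combination this
  rcases mul_eq_zero.1 h6 with h2 | h3
  · have h2' : ((2 : ℕ) : F) = 0 := by push_cast; exact h2
    rw [CharP.ringChar_of_prime_eq_zero Nat.prime_two h2']
    have := h 1 t
    have e : t ^ 2 + t = 0 := by
      have h3 : (3 : F) = 1 := by linear_combination h2
      have : (3 : F) * (t ^ 2 + t) = 0 := by linear_combination this
      rwa [h3, one_mul] at this
    have e2 : t ^ 2 = t := by linear_combination e - t * h2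
    calc t ^ 3 = t ^ 2 * t := by ring
      _ = t * t := by rw [e2]
      _ = t ^ 2 := by ring
  · have h3' : ((3 : ℕ) : F) = 0 := by push_cast; exact h3
    rw [CharP.ringChar_of_prime_eq_zero Nat.prime_three h3']



/-- boolean check for simply laced data: Cartan pattern, no long roots, connectivity via `par` -/
def slb (D : ChevalleyDatum) (par : List ℕ) : Bool :=
  decide (0 < D.rank) &&
  ((List.range D.rank).all fun i => (List.range D.rank).all fun j =>
    (i == j) || (decide (D.cartan i (D.simple j) = 0) && decide (D.cartan j (D.simple i) = 0)) ||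
      (decide (D.cartan i (D.simple j) = -1) && decide (D.cartan j (D.simple i) = -1))) &&
  ((List.range D.rank).all fun i => !D.isLong (D.simple i)) &&
  ((List.range D.rank).all fun i => (i == 0) ||
     (decide (par.getD i 0 < D.rank) && decide (D.cartan i (D.simple (par.getD i 0)) = -1) &&
        !(par.getD i 0 == i))) &&
  ((List.range D.rank).all fun i => Nat.iterate (fun k => par.getD k 0) D.rank i == 0)

structure SLOK (D : ChevalleyDatum) (par : List ℕ) : Prop where
  pos : 0 < D.rank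
  cart : ∀ i < D.rank, ∀ j < D.rank, i ≠ j →
    (D.cartan i (D.simple j) = 0 ∧ D.cartan j (D.simple i) = 0) ∨
    (D.cartan i (D.simple j) = -1 ∧ D.cartan j (D.simple i) = -1)
  short : ∀ i < D.rank, D.isLong (D.simple i) = false
  par_ok : ∀ i < D.rank, i ≠ 0 → par.getD i 0 < D.rank ∧
    D.cartan i (D.simple (par.getD i 0)) = -1 ∧ par.getD i 0 ≠ i
  reach : ∀ i < D.rank, Nat.iterate (fun k => par.getD k 0) D.rank i = 0

theorem slok_of_slb {D : ChevalleyDatum} {par : List ℕ} (h : slb D par = true) : SLOK D par := by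
  unfold slb at h
  simp only [Bool.and_eq_true, decide_eq_true_eq, List.all_eq_true, List.mem_range, Bool.or_eq_true,
    beq_iff_eq, Bool.not_eq_eq_eq_not, Bool.not_true, beq_eq_false_iff_ne, ne_eq] at h
  obtain ⟨⟨⟨⟨h1, h2⟩, h3⟩, h4⟩, h5⟩ := h
  refine ⟨h1, ?_, h3, ?_, h5⟩
  · intro i hi j hj hij
    rcases h2 i hi j hj with (h | h) | h
    · exact absurd h hij
    · exact Or.inl h
    · exact Or.inr h
  · intro i hi hi0
    rcases h4 i hi with h | h
    · exact absurd h hi0
    · exact ⟨h.1.1, h.1.2, h.2⟩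

theorem slD4 : slb chevD4 [0, 0, 1, 1] = true := by decide +kernel
theorem slE6 : slb chevE6 [0, 3, 0, 2, 3, 4] = true := by decide +kernel
theorem slE7 : slb chevE7 [0, 3, 0, 2, 3, 4, 5] = true := by decide +kernel
theorem slE8 : slb chevE8 [0, 3, 0, 2, 3, 4, 5, 6] = true := by decide +kernel

/-- one global field automorphism, simply laced case -/
theorem global_sigma_sl {F : Type*} [Field F] (D : ChevalleyDatum) (par : List ℕ) (hok : SLOK D par)
    (ρ : Equiv.Perm (Fin D.rank)) (hρ : D.IsDiagramSymmetry ρ) (σ : Fin D.rank → (F ≃+* F))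
    (hrel : ∀ i j : Fin D.rank, i ≠ j → ∀ t : F, t ≠ 0 →
      (σ j t) ^ (D.cartan i (D.simple j)) = (σ i t) ^ (D.cartan (ρ i) (D.simple (ρ j)))) :
    ∃ τ : F ≃+* F, ∀ i t, σ i t = (τ t) ^ (D.graphExp (ringChar F) i (ρ i)) := by
  -- edges
  have hedge : ∀ i j : Fin D.rank, i ≠ j → D.cartan i (D.simple j) = -1 → σ j = σ i := by
    intro i j hij hA
    have hij' : i.val ≠ j.val := fun h => hij (Fin.ext h)
    have hA2 : D.cartan j (D.simple i) = -1 := by
      rcases hok.cart i i.2 j j.2 hij' with h | h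
      · rw [h.1] at hA; exact absurd hA (by norm_num)
      · exact h.2
    have hb := hρ i j hij
    unfold ChevalleyDatum.bonds at hb
    rw [hA, hA2] at hb
    have hρij : (ρ i).val ≠ (ρ j).val := fun h => hij (ρ.injective (Fin.ext h))
    have hA' : D.cartan (ρ i) (D.simple (ρ j)) = -1 := by
      rcases hok.cart (ρ i) (ρ i).2 (ρ j) (ρ j).2 hρij with h | h
      · rw [h.1, h.2] at hb; norm_num at hb
      · exact h.1
    apply RingEquiv.ext
    intro t
    by_cases ht : t = 0
    · subst ht; rw [map_zero, map_zero]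
    · have := hrel i j hij t ht
      rw [hA, hA', zpow_neg_one, zpow_neg_one] at this
      exact inv_injective this
  -- all equal to the automorphism of node 0
  let z : Fin D.rank := ⟨0, hok.pos⟩
  have hall : ∀ k : ℕ, ∀ i : Fin D.rank, Nat.iterate (fun k => par.getD k 0) k i.val = 0 →
      σ i = σ z := by
    intro k
    induction k with
    | zero =>
      intro i hi
      have : i = z := Fin.ext hi
      rw [this]
    | succ k ih =>
      intro i hi
      by_cases hi0 : i.val = 0
      · have : i = z := Fin.ext hi0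
        rw [this]
      · obtain ⟨hp1, hp2, hp3⟩ := hok.par_ok i i.2 hi0
        rw [Function.iterate_succ_apply] at hi
        have h1 := ih ⟨par.getD i.val 0, hp1⟩ hi
        have h2 := hedge i ⟨par.getD i.val 0, hp1⟩ (fun h => hp3 (congrArg Fin.val h).symm) hp2
        rw [← h1, h2]
  refine ⟨σ z, fun i t => ?_⟩
  rw [hall D.rank i (hok.reach i i.2)]
  unfold ChevalleyDatum.graphExp
  rw [hok.short (ρ i) (ρ i).2, Bool.false_and]
  simp



theorem pow_k_eq_pow_char {F : Type*} [Field F] (k : ℕ) (hk : k = 2 ∨ k = 3)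
    (h : ∀ a b : F, (a + b) ^ k = a ^ k + b ^ k) (t : F) : t ^ k = t ^ ringChar F := by
  rcases hk with rfl | rfl
  · exact pow_two_eq_pow_char h t
  · exact pow_three_eq_pow_char h t

/-- from `a⁻¹ = b ^ (-k)` to `a = b ^ k` -/
theorem eq_pow_of_inv_eq {F : Type*} [Field F] {a b : F} {k : ℕ}
    (h : a ^ (-1 : ℤ) = b ^ (-(k : ℤ))) : a = b ^ k := by
  rw [zpow_neg_one, zpow_neg, zpow_natCast] at h
  exact inv_injective h

/-- one global field automorphism, types of rank two with a multiple bond -/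
theorem global_sigma_rank2 {F : Type*} [Field F] (D : ChevalleyDatum) (hr : D.rank = 2) (k : ℕ)
    (hk : k = 2 ∨ k = 3) (h10 : D.cartan 1 (D.simple 0) = -1)
    (h01 : D.cartan 0 (D.simple 1) = -(k : ℤ))
    (hs : D.isLong (D.simple 0) = false) (hl : D.isLong (D.simple 1) = true)
    (ρ : Equiv.Perm (Fin D.rank)) (σ : Fin D.rank → (F ≃+* F))
    (hrel : ∀ i j : Fin D.rank, i ≠ j → ∀ t : F, t ≠ 0 →
      (σ j t) ^ (D.cartan i (D.simple j)) = (σ i t) ^ (D.cartan (ρ i) (D.simple (ρ j)))) :
    ∃ τ : F ≃+* F, ∀ i t, σ i t = (τ t) ^ (D.graphExp (ringChar F) i (ρ i)) := by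
  let i0 : Fin D.rank := ⟨0, by omega⟩
  let i1 : Fin D.rank := ⟨1, by omega⟩
  have h01ne : i1 ≠ i0 := fun h => by simpa [i0, i1] using congrArg Fin.val h
  have hcases : ∀ i : Fin D.rank, i = i0 ∨ i = i1 := by
    intro i
    have := i.2
    have : i.val = 0 ∨ i.val = 1 := by omega
    rcases this with h | h
    · exact Or.inl (Fin.ext h)
    · exact Or.inr (Fin.ext h)
  have hg00 : D.graphExp (ringChar F) 0 0 = 1 := by
    unfold ChevalleyDatum.graphExp; rw [hs]; simp
  have hg11 : D.graphExp (ringChar F) 1 1 = 1 := by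
    unfold ChevalleyDatum.graphExp; rw [hl]; simp
  have hg01 : D.graphExp (ringChar F) 0 1 = ringChar F := by
    unfold ChevalleyDatum.graphExp; rw [hl, hs]; simp
  have hg10 : D.graphExp (ringChar F) 1 0 = 1 := by
    unfold ChevalleyDatum.graphExp; rw [hs]; simp
  rcases hcases (ρ i0) with h0 | h0
  · -- the identity
    have h1 : ρ i1 = i1 := by
      rcases hcases (ρ i1) with h | h
      · exact absurd (ρ.injective (h.trans h0.symm)) h01ne
      · exact h
    refine ⟨σ i1, fun i t => ?_⟩
    rcases hcases i with rfl | rfl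
    · rw [h0]
      show σ i0 t = σ i1 t ^ D.graphExp (ringChar F) 0 0
      rw [hg00, pow_one]
      by_cases ht : t = 0
      · subst ht; rw [map_zero, map_zero]
      · have := hrel i1 i0 h01ne t ht
        rw [h1, h0] at this
        show σ i0 t = σ i1 t
        have e : D.cartan (i1 : ℕ) (D.simple (i0 : ℕ)) = -1 := h10
        rw [e, zpow_neg_one, zpow_neg_one] at this
        exact inv_injective this
    · rw [h1]
      show σ i1 t = σ i1 t ^ D.graphExp (ringChar F) 1 1
      rw [hg11, pow_one]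
  · -- the swap
    have h1 : ρ i1 = i0 := by
      rcases hcases (ρ i1) with h | h
      · exact h
      · exact absurd (ρ.injective (h.trans h0.symm)) h01ne
    have key : ∀ t, σ i0 t = σ i1 t ^ k := by
      intro t
      by_cases ht : t = 0
      · subst ht
        rw [map_zero, map_zero, zero_pow]
        rcases hk with rfl | rfl <;> norm_num
      · have := hrel i1 i0 h01ne t ht
        rw [h1, h0] at this
        have e : D.cartan (i1 : ℕ) (D.simple (i0 : ℕ)) = -1 := h10
        have e' : D.cartan (i0 : ℕ) (D.simple (i1 : ℕ)) = -(k : ℤ) := h01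
        rw [e, e'] at this
        exact eq_pow_of_inv_eq this
    have hadd : ∀ a b : F, (a + b) ^ k = a ^ k + b ^ k := by
      intro a b
      obtain ⟨a', rfl⟩ := (σ i1).surjective a
      obtain ⟨b', rfl⟩ := (σ i1).surjective b
      rw [← map_add, ← key, ← key, ← key, map_add]
    refine ⟨σ i1, fun i t => ?_⟩
    rcases hcases i with rfl | rfl
    · rw [h0]
      show σ i0 t = σ i1 t ^ D.graphExp (ringChar F) 0 1
      rw [hg01, key, pow_k_eq_pow_char k hk hadd]
    · rw [h1]
      show σ i1 t = σ i1 t ^ D.graphExp (ringChar F) 1 0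
      rw [hg10, pow_one]



theorem f4_sym : ∀ ρ : Equiv.Perm (Fin 4),
    (∀ i j : Fin 4, i ≠ j → chevF4.bonds (ρ i) (ρ j) = chevF4.bonds i j) →
      ρ = 1 ∨ ρ = Fin.revPerm := by
  decide +kernel

theorem f4_cartan : chevF4.cartan 0 (chevF4.simple 1) = -1 ∧ chevF4.cartan 3 (chevF4.simple 2) = -1 ∧
    chevF4.cartan 2 (chevF4.simple 1) = -1 ∧ chevF4.cartan 1 (chevF4.simple 2) = -2 ∧
    chevF4.cartan 2 (chevF4.simple 3) = -1 ∧ chevF4.cartan 1 (chevF4.simple 0) = -1 := by
  decide +kernel

theorem f4_long : chevF4.isLong (chevF4.simple 0) = false ∧ chevF4.isLong (chevF4.simple 1) = false ∧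
    chevF4.isLong (chevF4.simple 2) = true ∧ chevF4.isLong (chevF4.simple 3) = true := by
  decide +kernel

theorem inv_rel {F : Type*} [Field F] {a b : F} (h : a ^ (-1 : ℤ) = b ^ (-1 : ℤ)) : a = b := by
  rw [zpow_neg_one, zpow_neg_one] at h
  exact inv_injective h

theorem graphExp_self (D : ChevalleyDatum) (c i : ℕ) : D.graphExp c i i = 1 := by
  unfold ChevalleyDatum.graphExp
  cases D.isLong (D.simple i) <;> simp

/-- one global field automorphism, type F₄ -/
theorem global_sigma_F4 {F : Type*} [Field F]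
    (ρ : Equiv.Perm (Fin 4))
    (hρ : ∀ i j : Fin 4, i ≠ j → chevF4.bonds (ρ i) (ρ j) = chevF4.bonds i j)
    (σ : Fin 4 → (F ≃+* F))
    (hrel : ∀ i j : Fin 4, i ≠ j → ∀ t : F, t ≠ 0 →
      (σ j t) ^ (chevF4.cartan i (chevF4.simple j)) =
        (σ i t) ^ (chevF4.cartan (ρ i) (chevF4.simple (ρ j)))) :
    ∃ τ : F ≃+* F, ∀ (i : Fin 4) t, σ i t = (τ t) ^ (chevF4.graphExp (ringChar F) i (ρ i)) := by
  obtain ⟨c01, c32, c21, c12, c23, c10⟩ := f4_cartan
  obtain ⟨l0, l1, l2, l3⟩ := f4_long
  have ext0 : ∀ (a b : F ≃+* F), (∀ t, t ≠ 0 → a t = b t) → ∀ t, a t = b t := by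
    intro a b h t
    by_cases ht : t = 0
    · subst ht; rw [map_zero, map_zero]
    · exact h t ht
  rcases f4_sym ρ hρ with rfl | rfl
  · -- identity
    have e10 : ∀ t, σ 1 t = σ 0 t := ext0 _ _ fun t ht => by
      have := hrel 0 1 (by decide) t ht
      simp only [Equiv.Perm.coe_one, id_eq] at this
      have e : chevF4.cartan ((0 : Fin 4) : ℕ) (chevF4.simple ((1 : Fin 4) : ℕ)) = -1 := c01
      rw [e] at this
      exact inv_rel this
    have e12 : ∀ t, σ 1 t = σ 2 t := ext0 _ _ fun t ht => by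
      have := hrel 2 1 (by decide) t ht
      simp only [Equiv.Perm.coe_one, id_eq] at this
      have e : chevF4.cartan ((2 : Fin 4) : ℕ) (chevF4.simple ((1 : Fin 4) : ℕ)) = -1 := c21
      rw [e] at this
      exact inv_rel this
    have e32 : ∀ t, σ 3 t = σ 2 t := ext0 _ _ fun t ht => by
      have := hrel 2 3 (by decide) t ht
      simp only [Equiv.Perm.coe_one, id_eq] at this
      have e : chevF4.cartan ((2 : Fin 4) : ℕ) (chevF4.simple ((3 : Fin 4) : ℕ)) = -1 := c23
      rw [e] at this
      exact inv_rel this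
    refine ⟨σ 2, fun i t => ?_⟩
    have hg : chevF4.graphExp (ringChar F) i ((1 : Equiv.Perm (Fin 4)) i) = 1 :=
      graphExp_self chevF4 _ _
    rw [hg, pow_one]
    fin_cases i
    · show σ 0 t = σ 2 t
      rw [← e10, e12]
    · exact e12 t
    · rfl
    · exact e32 t
  · -- the reversal
    have r0 : (Fin.revPerm : Equiv.Perm (Fin 4)) 0 = 3 := by decide
    have r1 : (Fin.revPerm : Equiv.Perm (Fin 4)) 1 = 2 := by decide
    have r2 : (Fin.revPerm : Equiv.Perm (Fin 4)) 2 = 1 := by decide
    have r3 : (Fin.revPerm : Equiv.Perm (Fin 4)) 3 = 0 := by decide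
    have e10 : ∀ t, σ 1 t = σ 0 t := ext0 _ _ fun t ht => by
      have := hrel 0 1 (by decide) t ht
      rw [r0, r1] at this
      have e : chevF4.cartan ((0 : Fin 4) : ℕ) (chevF4.simple ((1 : Fin 4) : ℕ)) = -1 := c01
      have e' : chevF4.cartan ((3 : Fin 4) : ℕ) (chevF4.simple ((2 : Fin 4) : ℕ)) = -1 := c32
      rw [e, e'] at this
      exact inv_rel this
    have e32 : ∀ t, σ 3 t = σ 2 t := ext0 _ _ fun t ht => by
      have := hrel 2 3 (by decide) t ht
      rw [r2, r3] at this
      have e : chevF4.cartan ((2 : Fin 4) : ℕ) (chevF4.simple ((3 : Fin 4) : ℕ)) = -1 := c23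
      have e' : chevF4.cartan ((1 : Fin 4) : ℕ) (chevF4.simple ((0 : Fin 4) : ℕ)) = -1 := c10
      rw [e, e'] at this
      exact inv_rel this
    have key : ∀ t, σ 1 t = σ 2 t ^ 2 := by
      intro t
      by_cases ht : t = 0
      · subst ht; rw [map_zero, map_zero]; norm_num
      · have := hrel 2 1 (by decide) t ht
        rw [r2, r1] at this
        have e : chevF4.cartan ((2 : Fin 4) : ℕ) (chevF4.simple ((1 : Fin 4) : ℕ)) = -1 := c21
        have e' : chevF4.cartan ((1 : Fin 4) : ℕ) (chevF4.simple ((2 : Fin 4) : ℕ)) = -((2 : ℕ) : ℤ) := c12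
        rw [e, e'] at this
        exact eq_pow_of_inv_eq this
    have hadd : ∀ a b : F, (a + b) ^ 2 = a ^ 2 + b ^ 2 := by
      intro a b
      obtain ⟨a', rfl⟩ := (σ 2).surjective a
      obtain ⟨b', rfl⟩ := (σ 2).surjective b
      rw [← map_add, ← key, ← key, ← key, map_add]
    refine ⟨σ 2, fun i t => ?_⟩
    fin_cases i
    · show σ 0 t = σ 2 t ^ chevF4.graphExp (ringChar F) ((0 : Fin 4) : ℕ) ((Fin.revPerm (0 : Fin 4) : Fin 4) : ℕ)
      rw [r0]
      have hg : chevF4.graphExp (ringChar F) ((0 : Fin 4) : ℕ) ((3 : Fin 4) : ℕ) = ringChar F := by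
        unfold ChevalleyDatum.graphExp
        have a : chevF4.isLong (chevF4.simple ((3 : Fin 4) : ℕ)) = true := l3
        have b : chevF4.isLong (chevF4.simple ((0 : Fin 4) : ℕ)) = false := l0
        rw [a, b]; simp
      rw [hg, ← e10, key, pow_two_eq_pow_char hadd]
    · show σ 1 t = σ 2 t ^ chevF4.graphExp (ringChar F) ((1 : Fin 4) : ℕ) ((Fin.revPerm (1 : Fin 4) : Fin 4) : ℕ)
      rw [r1]
      have hg : chevF4.graphExp (ringChar F) ((1 : Fin 4) : ℕ) ((2 : Fin 4) : ℕ) = ringChar F := by
        unfold ChevalleyDatum.graphExp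
        have a : chevF4.isLong (chevF4.simple ((2 : Fin 4) : ℕ)) = true := l2
        have b : chevF4.isLong (chevF4.simple ((1 : Fin 4) : ℕ)) = false := l1
        rw [a, b]; simp
      rw [hg, key, pow_two_eq_pow_char hadd]
    · show σ 2 t = σ 2 t ^ chevF4.graphExp (ringChar F) ((2 : Fin 4) : ℕ) ((Fin.revPerm (2 : Fin 4) : Fin 4) : ℕ)
      rw [r2]
      have hg : chevF4.graphExp (ringChar F) ((2 : Fin 4) : ℕ) ((1 : Fin 4) : ℕ) = 1 := by
        unfold ChevalleyDatum.graphExp
        have a : chevF4.isLong (chevF4.simple ((1 : Fin 4) : ℕ)) = false := l1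
        rw [a]; simp
      rw [hg, pow_one]
    · show σ 3 t = σ 2 t ^ chevF4.graphExp (ringChar F) ((3 : Fin 4) : ℕ) ((Fin.revPerm (3 : Fin 4) : Fin 4) : ℕ)
      rw [r3]
      have hg : chevF4.graphExp (ringChar F) ((3 : Fin 4) : ℕ) ((0 : Fin 4) : ℕ) = 1 := by
        unfold ChevalleyDatum.graphExp
        have a : chevF4.isLong (chevF4.simple ((0 : Fin 4) : ℕ)) = false := l0
        rw [a]; simp
      rw [hg, pow_one, e32]


theorem g2_facts : chevG2.cartan 1 (chevG2.simple 0) = -1 ∧ chevG2.cartan 0 (chevG2.simple 1) = -3 ∧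
    chevG2.isLong (chevG2.simple 0) = false ∧ chevG2.isLong (chevG2.simple 1) = true := by
  decide +kernel

theorem b2_facts : chevB2.cartan 1 (chevB2.simple 0) = -1 ∧ chevB2.cartan 0 (chevB2.simple 1) = -2 ∧
    chevB2.isLong (chevB2.simple 0) = false ∧ chevB2.isLong (chevB2.simple 1) = true := by
  decide +kernel

/-- field automorphisms attached to the nodes and related along the bonds are powers of one field
automorphism, with the exponents of a graph automorphism -/
theorem exists_global_sigma {F : Type*} [Field F] (D : ChevalleyDatum)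
    (hD : D ∈ [chevG2, chevB2, chevD4, chevF4, chevE6, chevE7, chevE8])
    (ρ : Equiv.Perm (Fin D.rank)) (hρ : D.IsDiagramSymmetry ρ) (σ : Fin D.rank → (F ≃+* F))
    (hrel : ∀ i j : Fin D.rank, i ≠ j → ∀ t : F, t ≠ 0 →
      (σ j t) ^ (D.cartan i (D.simple j)) = (σ i t) ^ (D.cartan (ρ i) (D.simple (ρ j)))) :
    ∃ τ : F ≃+* F, ∀ i t, σ i t = (τ t) ^ (D.graphExp (ringChar F) i (ρ i)) := by
  simp only [List.mem_cons, List.not_mem_nil, or_false] at hD
  rcases hD with rfl | rfl | rfl | rfl | rfl | rfl | rfl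
  · obtain ⟨h1, h2, h3, h4⟩ := g2_facts
    exact global_sigma_rank2 chevG2 rfl 3 (Or.inr rfl) h1 h2 h3 h4 ρ σ hrel
  · obtain ⟨h1, h2, h3, h4⟩ := b2_facts
    exact global_sigma_rank2 chevB2 rfl 2 (Or.inl rfl) h1 h2 h3 h4 ρ σ hrel
  · exact global_sigma_sl chevD4 _ (slok_of_slb slD4) ρ hρ σ hrel
  · exact global_sigma_F4 ρ hρ σ hrel
  · exact global_sigma_sl chevE6 _ (slok_of_slb slE6) ρ hρ σ hrel
  · exact global_sigma_sl chevE7 _ (slok_of_slb slE7) ρ hρ σ hrel
  · exact global_sigma_sl chevE8 _ (slok_of_slb slE8) ρ hρ σ hrel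

end Cfsg.Agent.ChevAut
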