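import Cfsg.Agent.Lib.Lead.ChevFieldAut
import Cfsg.Agent.Lib.Lead.ChevDiagAut
import Cfsg.Agent.Lib.Lead.ChevRootChar
import Cfsg.Agent.Lib.Lead.ChevAutAlg
import Cfsg.Agent.Lib.Helper5.Chev.HAll
import Cfsg.Agent.Lib.Helper5.Chev.Core
import Mathlib

/-!
# Steinberg's theorem on automorphisms of Chevalley groups: the final assembly (lead)
-/

set_option autoImplicit false

namespace Cfsg.Agent.ChevAut
open Cfsg Cfsg.Lie Cfsg.Agent.Lib.Helper5.Chev
open scoped Matrix

variable {F : Type*} [Field F]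

/-- the data extracted from an automorphism stabilising `U` and `V` -/
structure AutData (D : ChevalleyDatum) (θ' : ↥(D.group F) ≃* ↥(D.group F)) where
  ρ : Equiv.Perm (Fin D.rank)
  φp : Fin D.rank → F → F
  φm : Fin D.rank → F → F
  sym : D.IsDiagramSymmetry ρ
  hp : ∀ (g : ↥(D.group F)) (i : Fin D.rank) (t : F),
    ((g : GL D.Idx F) : Matrix D.Idx D.Idx F) = D.x F (D.simple i) t →
    ((θ' g : GL D.Idx F) : Matrix D.Idx D.Idx F) = D.x F (D.simple (ρ i)) (φp i t)
  hm : ∀ (g : ↥(D.group F)) (i : Fin D.rank) (t : F),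
    ((g : GL D.Idx F) : Matrix D.Idx D.Idx F) = D.x F (D.neg (D.simple i)) t →
    ((θ' g : GL D.Idx F) : Matrix D.Idx D.Idx F) = D.x F (D.neg (D.simple (ρ i))) (φm i t)
  b1 : ∀ (i : Fin D.rank) (t : F), t ≠ 0 → φp i t ≠ 0 ∧ φm i (-t⁻¹) = -(φp i t)⁻¹
  b3 : ∀ (i j : Fin D.rank) (t u : F), t ≠ 0 →
    φp j (t ^ (D.cartan i (D.simple j)) * u) =
      (φp i t / φp i 1) ^ (D.cartan (ρ i) (D.simple (ρ j))) * φp j u

theorem x_inj (D : ChevalleyDatum)
    (hD : D ∈ [chevG2, chevB2, chevD4, chevF4, chevE6, chevE7, chevE8]) (r : ℕ) (hr : r < D.nroots)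
    {a b : F} (h : D.x F r a = D.x F r b) : a = b := by
  have hadd := allAdd_all (F := F) D hD
  have h1 : D.x F r (a - b) = 1 := by
    rw [sub_eq_add_neg, ← hadd.x_add, h, hadd.x_mul_neg]
  have := xInj_all (F := F) D hD r hr (a - b) h1
  exact sub_eq_zero.1 this

theorem cartan_self_all (D : ChevalleyDatum)
    (hD : D ∈ [chevG2, chevB2, chevD4, chevF4, chevE6, chevE7, chevE8]) (i : ℕ) (hi : i < D.rank) :
    D.cartan i (D.simple i) = 2 := by
  simp only [List.mem_cons, List.not_mem_nil, or_false] at hD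
  rcases hD with rfl | rfl | rfl | rfl | rfl | rfl | rfl
  · have : ∀ i < chevG2.rank, chevG2.cartan i (chevG2.simple i) = 2 := by decide +kernel
    exact this i hi
  · have : ∀ i < chevB2.rank, chevB2.cartan i (chevB2.simple i) = 2 := by decide +kernel
    exact this i hi
  · have : ∀ i < chevD4.rank, chevD4.cartan i (chevD4.simple i) = 2 := by decide +kernel
    exact this i hi
  · have : ∀ i < chevF4.rank, chevF4.cartan i (chevF4.simple i) = 2 := by decide +kernel
    exact this i hi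
  · have : ∀ i < chevE6.rank, chevE6.cartan i (chevE6.simple i) = 2 := by decide +kernel
    exact this i hi
  · have : ∀ i < chevE7.rank, chevE7.cartan i (chevE7.simple i) = 2 := by decide +kernel
    exact this i hi
  · have : ∀ i < chevE8.rank, chevE8.cartan i (chevE8.simple i) = 2 := by decide +kernel
    exact this i hi


/-- action of the inverse of a diagonal automorphism on root elements -/
theorem diagAut_symm_x (D : ChevalleyDatum)
    (hD : D ∈ [chevG2, chevB2, chevD4, chevF4, chevE6, chevE7, chevE8])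
    (χ : ℕ → Fˣ) (hχ : D.IsRootCharacter χ) (g : ↥(D.group F)) (r : ℕ) (hr : r < D.nroots) (t : F)
    (hg : ((g : GL D.Idx F) : Matrix D.Idx D.Idx F) = D.x F r t) :
    ((((diagAut D hD χ hχ).symm g : ↥(D.group F)) : GL D.Idx F) : Matrix D.Idx D.Idx F) =
      D.x F r (((χ r)⁻¹ : Fˣ) * t) := by
  show (((diagGL D χ)⁻¹ * (g : GL D.Idx F) * diagGL D χ : GL D.Idx F) : Matrix D.Idx D.Idx F) = _
  rw [Units.val_mul, Units.val_mul, diagGL_inv_val, diagGL_val, hg]
  have := Cfsg.Agent.S2157.result D hD (fun s => (χ s)⁻¹) (isRootCharacter_inv D hχ) r hr t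
  simp only [inv_inv] at this
  exact this

/-- the field automorphism inverse -/
theorem fieldAut_symm_val (D : ChevalleyDatum) (σ : F ≃+* F) (g : ↥(D.group F)) :
    ((((fieldAut D σ).symm g : ↥(D.group F)) : GL D.Idx F) : Matrix D.Idx D.Idx F) =
      ((g : GL D.Idx F) : Matrix D.Idx D.Idx F).map σ.symm := rfl

theorem graphExp_cases (D : ChevalleyDatum) (c i j : ℕ) :
    D.graphExp c i j = 1 ∨ D.graphExp c i j = c := by
  unfold ChevalleyDatum.graphExp
  split_ifs
  · exact Or.inr rfl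
  · exact Or.inl rfl

/-- `-(-1)^e = 1` for `e = 1` or `e` the characteristic of a finite field -/
theorem neg_neg_one_pow (F : Type*) [Field F] [Finite F] {e : ℕ} (he : e = 1 ∨ e = ringChar F) :
    -((-1 : F) ^ e) = 1 := by
  rcases he with rfl | rfl
  · simp
  · haveI : CharP F (ringChar F) := ringChar.charP F
    haveI : Fact (ringChar F).Prime := ⟨CharP.char_is_prime F (ringChar F)⟩
    rw [neg_one_pow_char F (ringChar F), neg_neg]

theorem graphExp_pos (F : Type*) [Field F] [Finite F] (D : ChevalleyDatum) (i j : ℕ) :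
    0 < D.graphExp (ringChar F) i j := by
  rcases graphExp_cases D (ringChar F) i j with h | h
  · rw [h]; norm_num
  · rw [h]
    haveI : CharP F (ringChar F) := ringChar.charP F
    exact (CharP.char_is_prime F (ringChar F)).pos


section main

variable [Finite F] (D : ChevalleyDatum)
  (hD : D ∈ [chevG2, chevB2, chevD4, chevF4, chevE6, chevE7, chevE8])
  {θ' : ↥(D.group F) ≃* ↥(D.group F)} (A : AutData D θ')

omit [Finite F] in
include hD in
theorem AutData.φp_add (i : Fin D.rank) (t u : F) : A.φp i (t + u) = A.φp i t + A.φp i u := by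
  have hadd := allAdd_all (F := F) D hD
  have hlt := (simple_lt_all D hD (A.ρ i) (A.ρ i).2).1
  let g : F → ↥(D.group F) := fun t => ⟨hadd.xU (D.simple i) t, hadd.xU_mem_group _ _⟩
  have h1 := A.hp (g (t + u)) i (t + u) rfl
  have e : g (t + u) = g t * g u := by
    apply Subtype.ext
    apply Units.ext
    show D.x F (D.simple i) (t + u) = D.x F (D.simple i) t * D.x F (D.simple i) u
    rw [hadd.x_add]
  rw [e, map_mul] at h1
  have h2 := A.hp (g t) i t rfl
  have h3 := A.hp (g u) i u rfl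
  have : ((θ' (g t) * θ' (g u) : ↥(D.group F)) : GL D.Idx F).val =
      D.x F (D.simple (A.ρ i)) (A.φp i t) * D.x F (D.simple (A.ρ i)) (A.φp i u) := by
    rw [Subgroup.coe_mul, Units.val_mul, h2, h3]
  rw [this, hadd.x_add] at h1
  exact (x_inj D hD _ hlt h1).symm

omit [Finite F] in
include hD in
theorem AutData.φm_add (i : Fin D.rank) (t u : F) : A.φm i (t + u) = A.φm i t + A.φm i u := by
  have hadd := allAdd_all (F := F) D hD
  have hlt := (simple_lt_all D hD (A.ρ i) (A.ρ i).2).2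
  let g : F → ↥(D.group F) := fun t => ⟨hadd.xU (D.neg (D.simple i)) t, hadd.xU_mem_group _ _⟩
  have h1 := A.hm (g (t + u)) i (t + u) rfl
  have e : g (t + u) = g t * g u := by
    apply Subtype.ext
    apply Units.ext
    show D.x F (D.neg (D.simple i)) (t + u) =
      D.x F (D.neg (D.simple i)) t * D.x F (D.neg (D.simple i)) u
    rw [hadd.x_add]
  rw [e, map_mul] at h1
  have h2 := A.hm (g t) i t rfl
  have h3 := A.hm (g u) i u rfl
  have : ((θ' (g t) * θ' (g u) : ↥(D.group F)) : GL D.Idx F).val =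
      D.x F (D.neg (D.simple (A.ρ i))) (A.φm i t) * D.x F (D.neg (D.simple (A.ρ i))) (A.φm i u) := by
    rw [Subgroup.coe_mul, Units.val_mul, h2, h3]
  rw [this, hadd.x_add] at h1
  exact (x_inj D hD _ hlt h1).symm

omit [Finite F] in
theorem AutData.c_ne (i : Fin D.rank) : A.φp i 1 ≠ 0 := (A.b1 i 1 one_ne_zero).1

include hD in
/-- the field automorphism at the node `i` -/
theorem AutData.exists_sigma (i : Fin D.rank) :
    ∃ σ : F ≃+* F, ∀ t, A.φp i t / A.φp i 1 = σ t := by
  have hc := A.c_ne D i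
  obtain ⟨σ, hσ⟩ := exists_ringEquiv_of_sq (fun t => A.φp i t / A.φp i 1)
    (fun a b => by
      show A.φp i (a + b) / A.φp i 1 = A.φp i a / A.φp i 1 + A.φp i b / A.φp i 1
      rw [A.φp_add D hD, add_div])
    (div_self hc)
    (fun t u ht => by
      show A.φp i (t ^ 2 * u) / A.φp i 1 = (A.φp i t / A.φp i 1) ^ 2 * (A.φp i u / A.φp i 1)
      have := A.b3 i i t u ht
      rw [cartan_self_all D hD i i.2, cartan_self_all D hD (A.ρ i) (A.ρ i).2] at this
      have e2 : ∀ a : F, a ^ (2 : ℤ) = a ^ 2 := fun a => zpow_ofNat a 2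
      rw [e2, e2] at this
      rw [this]
      ring)
  exact ⟨σ, fun t => (hσ t).symm⟩

include hD in
/-- one field automorphism for all nodes, with the exponents of a graph automorphism -/
theorem AutData.exists_tau :
    ∃ τ : F ≃+* F, ∀ (i : Fin D.rank) (t : F),
      A.φp i t = A.φp i 1 * (τ t) ^ (D.graphExp (ringChar F) i (A.ρ i)) := by
  choose σ hσ using A.exists_sigma D hD
  have hrel : ∀ i j : Fin D.rank, i ≠ j → ∀ t : F, t ≠ 0 →
      (σ j t) ^ (D.cartan i (D.simple j)) = (σ i t) ^ (D.cartan (A.ρ i) (D.simple (A.ρ j))) := by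
    intro i j _ t ht
    have h := A.b3 i j t 1 ht
    rw [mul_one] at h
    have h2 : A.φp j (t ^ D.cartan i (D.simple j)) / A.φp j 1 =
        (A.φp i t / A.φp i 1) ^ D.cartan (A.ρ i) (D.simple (A.ρ j)) := by
      rw [h, mul_div_assoc, div_self (A.c_ne D j), mul_one]
    rw [hσ j, hσ i, map_zpow₀] at h2
    exact h2
  obtain ⟨τ, hτ⟩ := exists_global_sigma D hD A.ρ A.sym σ hrel
  refine ⟨τ, fun i t => ?_⟩
  rw [← hτ i t, ← hσ i t, mul_div_cancel₀ _ (A.c_ne D i)]

include hD in
theorem AutData.φm_eq {τ : F ≃+* F} (hτ : ∀ (i : Fin D.rank) (t : F),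
      A.φp i t = A.φp i 1 * (τ t) ^ (D.graphExp (ringChar F) i (A.ρ i))) (i : Fin D.rank) (u : F) :
    A.φm i u = (A.φp i 1)⁻¹ * (τ u) ^ (D.graphExp (ringChar F) i (A.ρ i)) := by
  by_cases hu : u = 0
  · subst hu
    have h0 : A.φm i 0 = 0 := by
      have := A.φm_add D hD i 0 0
      rw [add_zero] at this
      exact left_eq_add.1 this
    rw [h0, map_zero, zero_pow (graphExp_pos F D _ _).ne', mul_zero]
  · have ht : -u⁻¹ ≠ 0 := neg_ne_zero.2 (inv_ne_zero hu)
    have h := (A.b1 i (-u⁻¹) ht).2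
    rw [inv_neg, inv_inv, neg_neg] at h
    have hneg := neg_neg_one_pow F (graphExp_cases D (ringChar F) i (A.ρ i))
    have hs : (-1 : F) ^ D.graphExp (ringChar F) i (A.ρ i) = -1 := neg_eq_iff_eq_neg.1 hneg
    rw [h, hτ i (-u⁻¹), map_neg, map_inv₀, neg_pow, hs, inv_pow]
    have hne : (τ u) ^ D.graphExp (ringChar F) i (A.ρ i) ≠ 0 :=
      pow_ne_zero _ ((map_ne_zero τ).2 hu)
    field_simp

include hD A in
/-- **Steinberg**: an automorphism stabilising the root subgroups of the fundamental roots and of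
their negatives (up to a permutation of the nodes) is diagonal ∘ graph ∘ field -/
theorem AutData.decompose :
    ∃ d g f : ↥(D.group F) ≃* ↥(D.group F),
      D.IsDiagonalAut d ∧ D.IsGraphAut g ∧ D.IsFieldAut f ∧ ∀ y, θ' y = d (g (f y)) := by
  obtain ⟨τ, hτ⟩ := A.exists_tau D hD
  have hτm := A.φm_eq D hD hτ
  obtain ⟨M, dd, hdd, hM⟩ := coord_known D hD
  -- the character with value `φp i 1` at the fundamental root `ρ i`
  let c : ℕ → Fˣ := fun k =>
    if h : k < D.rank then Units.mk0 (A.φp (A.ρ.symm ⟨k, h⟩) 1) (A.c_ne D _) else 1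
  have hc : ∀ i : Fin D.rank, ((c (A.ρ i) : Fˣ) : F) = A.φp i 1 := by
    intro i
    show (((if h : (A.ρ i).val < D.rank then
      Units.mk0 (A.φp (A.ρ.symm ⟨(A.ρ i).val, h⟩) 1) (A.c_ne D _) else 1) : Fˣ) : F) = _
    rw [dif_pos (A.ρ i).2]
    simp
  let χ := rootChar D M dd c
  have hχ : D.IsRootCharacter χ := isRootCharacter_rootChar D hD hM c
  have hχs : ∀ i : Fin D.rank, ((χ (D.simple (A.ρ i)) : Fˣ) : F) = A.φp i 1 := by
    intro i
    show ((rootChar D M dd c (D.simple (A.ρ i)) : Fˣ) : F) = _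
    rw [rootChar_simple D hdd hM c _ (A.ρ i).2, hc]
  let f := fieldAut D τ
  let d := diagAut D hD χ hχ
  let g : ↥(D.group F) ≃* ↥(D.group F) := (f.symm.trans θ').trans d.symm
  refine ⟨d, g, f, isDiagonalAut_diagAut D hD χ hχ, ?_, isFieldAut_fieldAut D τ, ?_⟩
  · refine ⟨A.ρ, A.sym, fun y i t => ⟨fun hy => ?_, fun hy => ?_⟩⟩
    · have hlt := (simple_lt_all D hD (A.ρ i) (A.ρ i).2).1
      have h1 : ((f.symm y : GL D.Idx F) : Matrix D.Idx D.Idx F) = D.x F (D.simple i) (τ.symm t) := by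
        rw [fieldAut_symm_val, hy, x_map]
      have h2 := A.hp (f.symm y) i _ h1
      have h3 := diagAut_symm_x D hD χ hχ (θ' (f.symm y)) _ hlt _ h2
      show ((d.symm (θ' (f.symm y)) : GL D.Idx F) : Matrix D.Idx D.Idx F) = _
      rw [h3]
      congr 1
      rw [hτ, RingEquiv.apply_symm_apply, Units.val_inv_eq_inv_val, hχs, ← mul_assoc,
        inv_mul_cancel₀ (A.c_ne D i), one_mul]
    · have hlt := (simple_lt_all D hD (A.ρ i) (A.ρ i).2)
      have h1 : ((f.symm y : GL D.Idx F) : Matrix D.Idx D.Idx F) =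
          D.x F (D.neg (D.simple i)) (τ.symm t) := by
        rw [fieldAut_symm_val, hy, x_map]
      have h2 := A.hm (f.symm y) i _ h1
      have h3 := diagAut_symm_x D hD χ hχ (θ' (f.symm y)) _ hlt.2 _ h2
      show ((d.symm (θ' (f.symm y)) : GL D.Idx F) : Matrix D.Idx D.Idx F) = _
      rw [h3]
      congr 1
      rw [hτm, RingEquiv.apply_symm_apply, hχ.1 _ hlt.1, inv_inv, hχs, ← mul_assoc,
        mul_inv_cancel₀ (A.c_ne D i), one_mul]
  · intro y
    show θ' y = d (d.symm (θ' (f.symm (f y))))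
    rw [MulEquiv.symm_apply_apply, MulEquiv.apply_symm_apply]

end main

end Cfsg.Agent.ChevAut

namespace Cfsg.Agent.ChevAut
open Cfsg Cfsg.Lie
open scoped Matrix

/-- the form of Steinberg's theorem asked for in S2156, from the data of `inn(x)⁻¹ ∘ θ` -/
theorem steinberg_of_autData {F : Type*} [Field F] [Finite F] (D : ChevalleyDatum)
    (hD : D ∈ [chevG2, chevB2, chevD4, chevF4, chevE6, chevE7, chevE8])
    (θ : ↥(D.group F) ≃* ↥(D.group F)) (x : ↥(D.group F))
    (A : AutData D (θ.trans (MulAut.conj x⁻¹))) :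
    ∃ (x : ↥(D.group F)) (d g f : ↥(D.group F) ≃* ↥(D.group F)),
      D.IsDiagonalAut d ∧ D.IsGraphAut g ∧ D.IsFieldAut f ∧
        ∀ y : ↥(D.group F), θ y = x * d (g (f y)) * x⁻¹ := by
  obtain ⟨d, g, f, hd, hg, hf, h⟩ := A.decompose D hD
  refine ⟨x, d, g, f, hd, hg, hf, fun y => ?_⟩
  rw [← h y]
  show θ y = x * (x⁻¹ * θ y * x⁻¹⁻¹) * x⁻¹
  group

end Cfsg.Agent.ChevAut
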