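import Mathlib
import Cfsg.Agent.Lib.Helper8.Tw.UDef
import Cfsg.Agent.Lib.Helper8.HermSplit

/-!
# Transport of the Steinberg character from the antidiagonal unitary model to `PSU_n(q)`: field facts
and the base change (lead, piece (ii) of S2546)
-/

set_option autoImplicit false

namespace Cfsg.Agent.PSUT

open Matrix Cfsg Cfsg.Agent.S0277 Cfsg.Agent.Lib.Helper8.Tw
open scoped MatrixGroups

variable {F : Type*} [Field F] [Fintype F]

/-! ### The Frobenius `x ↦ x ^ q` -/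

theorem exists_pow_eq (p : ℕ) [hp : Fact p.Prime] [CharP F p] (q : ℕ)
    (hF : Fintype.card F = q ^ 2) : ∃ m, q = p ^ m := by
  obtain ⟨k, -, hc⟩ := FiniteField.card F p
  have : q ∣ p ^ (k : ℕ) := by
    rw [← hc, hF]
    exact dvd_pow_self q (by norm_num)
  obtain ⟨m, -, hm⟩ := (Nat.dvd_prime_pow hp.out).1 this
  exact ⟨m, hm⟩

theorem two_le_q {q : ℕ} (hF : Fintype.card F = q ^ 2) : 2 ≤ q := by
  have h1 : 1 < Fintype.card F := Fintype.one_lt_card
  rw [hF] at h1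
  by_contra h
  have : q ≤ 1 := by omega
  have : q ^ 2 ≤ 1 := by
    calc q ^ 2 ≤ 1 ^ 2 := Nat.pow_le_pow_left this 2
      _ = 1 := by norm_num
  omega

/-- the ring endomorphism `x ↦ x ^ (p ^ m)` -/
noncomputable def frobQ (F : Type*) [Field F] (p m : ℕ) [Fact p.Prime] [CharP F p] : F →+* F :=
  iterateFrobenius F p m

omit [Fintype F] in
theorem frobQ_apply (p m : ℕ) [Fact p.Prime] [CharP F p] (x : F) :
    frobQ F p m x = x ^ p ^ m := iterateFrobenius_def p m x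

theorem frobQ_frobQ (p m : ℕ) [Fact p.Prime] [CharP F p] (hF : Fintype.card F = (p ^ m) ^ 2)
    (x : F) : frobQ F p m (frobQ F p m x) = x := by
  rw [frobQ_apply, frobQ_apply, ← pow_mul, ← sq, ← hF, FiniteField.pow_card]

theorem exists_not_fixed {q : ℕ} (hF : Fintype.card F = q ^ 2) : ∃ a : F, a ^ q ≠ a := by
  by_contra hcon
  push Not at hcon
  have hq := two_le_q hF
  have h1 : ∀ x : Fˣ, x ^ (q - 1) = 1 := by
    intro x
    have h2 := hcon (x : F)
    have h3 : ((x ^ (q - 1) : Fˣ) : F) * (x : F) = 1 * (x : F) := by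
      rw [Units.val_pow_eq_pow_val, ← pow_succ, Nat.sub_add_cancel (by omega), h2, one_mul]
    have h4 := mul_right_cancel₀ x.ne_zero h3
    exact Units.ext h4
  have h2 := (FiniteField.forall_pow_eq_one_iff F (q - 1)).1 h1
  rw [hF] at h2
  have h3 : q ^ 2 - 1 ≤ q - 1 := Nat.le_of_dvd (by omega) h2
  have h4 : q < q ^ 2 := by nlinarith
  omega

theorem exists_skew {q : ℕ} (hF : Fintype.card F = q ^ 2) : ∃ z : F, z ≠ 0 ∧ z + z ^ q = 0 := by
  obtain ⟨a, ha⟩ := exists_not_fixed hF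
  refine ⟨a - a ^ q, sub_ne_zero.2 (Ne.symm ha), ?_⟩
  obtain ⟨p, hp⟩ := CharP.exists F
  have := hp
  have : Fact p.Prime := ⟨CharP.char_is_prime F p⟩
  obtain ⟨m, rfl⟩ := exists_pow_eq p q hF
  have h1 : (a - a ^ p ^ m) ^ p ^ m = a ^ p ^ m - (a ^ p ^ m) ^ p ^ m := by
    rw [← frobQ_apply, map_sub, frobQ_apply, frobQ_apply]
  rw [h1, ← pow_mul, ← sq, ← hF, FiniteField.pow_card]
  ring

/-- Hilbert 90 for the quadratic extension of finite fields -/
theorem hilbert90 {q : ℕ} (hF : Fintype.card F = q ^ 2) (δ : F) (hδ : δ * δ ^ q = 1) :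
    ∃ t : F, t ≠ 0 ∧ δ * t ^ q = t := by
  classical
  have hq := two_le_q hF
  have hδ0 : δ ≠ 0 := by
    intro h
    rw [h, zero_mul] at hδ
    exact zero_ne_one hδ
  obtain ⟨ζ, hζ⟩ := IsCyclic.exists_monoid_generator (α := Fˣ)
  have hord : orderOf ζ = q ^ 2 - 1 := by
    rw [orderOf_eq_card_of_forall_mem_zpowers (fun x => Submonoid.powers_le_zpowers ζ (hζ x)),
      Nat.card_eq_fintype_card, Fintype.card_units, hF]
  obtain ⟨k, hk⟩ := (Submonoid.mem_powers_iff _ _).1 (hζ (Units.mk0 δ hδ0))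
  have h1 : ζ ^ (k * (q + 1)) = 1 := by
    rw [pow_mul, hk]
    apply Units.ext
    rw [Units.val_pow_eq_pow_val, Units.val_mk0, pow_succ, mul_comm, hδ, Units.val_one]
  have h2 : q ^ 2 - 1 ∣ k * (q + 1) := by
    rw [← hord]
    exact orderOf_dvd_of_pow_eq_one h1
  have h3 : q ^ 2 - 1 = (q - 1) * (q + 1) := by
    obtain ⟨r, rfl⟩ : ∃ r, q = r + 2 := ⟨q - 2, by omega⟩
    have : (r + 2) ^ 2 = (r + 1) * (r + 2 + 1) + 1 := by ring
    rw [this]
    simp
  rw [h3] at h2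
  obtain ⟨j, hj⟩ := Nat.dvd_of_mul_dvd_mul_right (by omega) h2
  set s : Fˣ := ζ ^ j with hs
  have hsδ : ((s ^ (q - 1) : Fˣ) : F) = δ := by
    rw [hs, ← pow_mul, mul_comm, ← hj, hk, Units.val_mk0]
  refine ⟨((s⁻¹ : Fˣ) : F), (s⁻¹).ne_zero, ?_⟩
  rw [← hsδ, ← Units.val_pow_eq_pow_val, ← Units.val_mul]
  congr 1
  have e : (s⁻¹) ^ q = (s⁻¹) ^ (q - 1) * s⁻¹ := by
    rw [← pow_succ, Nat.sub_add_cancel (by omega)]
  rw [e, ← mul_assoc, ← mul_pow, mul_inv_cancel, one_pow, one_mul]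

end Cfsg.Agent.PSUT
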