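import Mathlib
import Cfsg.Agent.Lib.Lead.PSUTransportA

/-!
# Transport of the Steinberg character to `PSU_n(q)`: the base change (lead, piece (ii) of S2546)
-/

set_option autoImplicit false

namespace Cfsg.Agent.PSUT

open Matrix Cfsg Cfsg.Agent.S0277 Cfsg.Agent.Lib.Helper8.Tw
open scoped MatrixGroups

variable {F : Type*} [Field F]

/-! ### The two forms in dot-product shape -/

theorem stdB_eq_dot (n : ℕ) (σ : F →+* F) (x y : Fin n → F) :
    stdB n σ x y = (fun i => σ (x i)) ⬝ᵥ y := rfl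

/-- the reversed Hermitian form `(x, y) ↦ Σ σ (x (rev i)) * y i` -/
noncomputable def revB (n : ℕ) (σ : F →+* F) : (Fin n → F) →ₛₗ[σ] (Fin n → F) →ₗ[F] F :=
  LinearMap.mk₂'ₛₗ σ (RingHom.id F) (fun x y => ∑ i, σ (x (Fin.rev i)) * y i)
    (fun x x' y => by
      simp only [Pi.add_apply, map_add, add_mul, Finset.sum_add_distrib])
    (fun c x y => by
      simp only [Pi.smul_apply, smul_eq_mul, map_mul, Finset.mul_sum, mul_assoc])
    (fun x y y' => by
      simp only [Pi.add_apply, mul_add, Finset.sum_add_distrib])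
    (fun c x y => by
      simp only [Pi.smul_apply, smul_eq_mul, RingHom.id_apply, Finset.mul_sum]
      exact Finset.sum_congr rfl (fun i _ => by ring))

theorem revB_apply (n : ℕ) (σ : F →+* F) (x y : Fin n → F) :
    revB n σ x y = ∑ i, σ (x (Fin.rev i)) * y i := rfl

theorem RG_mulVec (n : ℕ) (y : Fin n → F) :
    ((RG n F : GL (Fin n) F) : Matrix (Fin n) (Fin n) F) *ᵥ y = fun i => y (Fin.rev i) := by
  funext i
  rw [Matrix.mulVec, dotProduct, Finset.sum_eq_single (Fin.rev i)]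
  · rw [RG_apply, if_pos (Fin.rev_rev i).symm, one_mul]
  · intro j _ hj
    rw [RG_apply, if_neg, zero_mul]
    intro h
    apply hj
    rw [h, Fin.rev_rev]
  · intro h
    exact absurd (Finset.mem_univ _) h

theorem revB_eq_dot (n : ℕ) (σ : F →+* F) (x y : Fin n → F) :
    revB n σ x y = (fun i => σ (x i)) ⬝ᵥ
      (((RG n F : GL (Fin n) F) : Matrix (Fin n) (Fin n) F) *ᵥ y) := by
  rw [revB_apply, RG_mulVec, dotProduct]
  exact Fintype.sum_equiv Fin.revPerm _ _ (fun i => by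
    rw [Fin.revPerm_apply, Fin.rev_rev])

theorem revB_isSymm (n : ℕ) (σ : F →+* F) (hσ2 : ∀ a : F, σ (σ a) = a) : (revB n σ).IsSymm := by
  constructor
  intro x y
  rw [revB_apply, revB_apply, map_sum]
  refine Fintype.sum_equiv Fin.revPerm _ _ (fun i => ?_)
  rw [Fin.revPerm_apply, Fin.rev_rev, map_mul, hσ2, mul_comm]

theorem revB_sepLeft (n : ℕ) (σ : F →+* F) : (revB n σ).SeparatingLeft := by
  intro x hx
  funext i
  have := hx (Pi.single (Fin.rev i) 1)
  rw [revB_apply, Finset.sum_eq_single (Fin.rev i)] at this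
  · simpa using this
  · intro j _ hj
    simp [hj]
  · intro h
    exact absurd (Finset.mem_univ _) h

/-! ### Matrices preserving a form -/

theorem map_mulVec (σ : F →+* F) {n : ℕ} (g : Matrix (Fin n) (Fin n) F) (x : Fin n → F) :
    (fun i => σ ((g *ᵥ x) i)) = (g.map σ) *ᵥ (fun i => σ (x i)) := by
  funext i
  simp only [Matrix.mulVec, dotProduct, map_sum, map_mul, Matrix.map_apply]

/-- a matrix identity from a form identity -/
theorem eq_of_forall_dot {n : ℕ} (σ : F →+* F) (A B : Matrix (Fin n) (Fin n) F)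
    (h : ∀ x y : Fin n → F, (fun i => σ (x i)) ⬝ᵥ (A *ᵥ y) = (fun i => σ (x i)) ⬝ᵥ (B *ᵥ y)) :
    A = B := by
  ext i j
  have := h (Pi.single i 1) (Pi.single j 1)
  have e : (fun k => σ ((Pi.single i (1 : F) : Fin n → F) k)) = Pi.single i 1 := by
    funext k
    by_cases hk : k = i
    · subst hk
      simp
    · simp [Pi.single_eq_of_ne hk]
  rw [e, single_one_dotProduct, single_one_dotProduct, Matrix.mulVec_single_one,
    Matrix.mulVec_single_one] at this
  exact this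

theorem form_mulVec {n : ℕ} (σ : F →+* F) (g A : Matrix (Fin n) (Fin n) F) (x y : Fin n → F) :
    (fun i => σ ((g *ᵥ x) i)) ⬝ᵥ (A *ᵥ (g *ᵥ y))
      = (fun i => σ (x i)) ⬝ᵥ (((g.map σ)ᵀ * A * g) *ᵥ y) := by
  rw [map_mulVec, Matrix.dotProduct_mulVec, Matrix.dotProduct_mulVec]
  conv_rhs => rw [Matrix.dotProduct_mulVec, ← Matrix.vecMul_vecMul, ← Matrix.vecMul_vecMul,
    Matrix.vecMul_transpose]


theorem RG_transpose (n : ℕ) :
    ((RG n F : GL (Fin n) F) : Matrix (Fin n) (Fin n) F)ᵀ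
      = ((RG n F : GL (Fin n) F) : Matrix (Fin n) (Fin n) F) := by
  ext i j
  rw [Matrix.transpose_apply, RG_apply, RG_apply]
  by_cases h : i = Fin.rev j
  · rw [if_pos h, if_pos (by rw [h, Fin.rev_rev])]
  · rw [if_neg h, if_neg]
    intro h'
    apply h
    rw [h', Fin.rev_rev]

/-- `g ∈ UH` iff `g` preserves the reversed form -/
theorem mem_UH_iff_revB {n : ℕ} {σ : F →+* F} (g : GL (Fin n) F) :
    g ∈ UH n F σ ↔ ∀ x y : Fin n → F,
      revB n σ ((g : Matrix (Fin n) (Fin n) F) *ᵥ x) ((g : Matrix (Fin n) (Fin n) F) *ᵥ y)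
        = revB n σ x y := by
  rw [mem_UH_iff_mul]
  set G : Matrix (Fin n) (Fin n) F := (g : Matrix (Fin n) (Fin n) F) with hG
  set R : Matrix (Fin n) (Fin n) F := ((RG n F : GL (Fin n) F) : Matrix (Fin n) (Fin n) F) with hR
  have hRt : Rᵀ = R := RG_transpose n
  have key : Gᵀ * R * G.map σ = R ↔ (G.map σ)ᵀ * R * G = R := by
    constructor
    · intro h
      have := congrArg Matrix.transpose h
      rw [Matrix.transpose_mul, Matrix.transpose_mul, Matrix.transpose_transpose, hRt,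
        ← Matrix.mul_assoc] at this
      exact this
    · intro h
      have := congrArg Matrix.transpose h
      rw [Matrix.transpose_mul, Matrix.transpose_mul, Matrix.transpose_transpose, hRt,
        ← Matrix.mul_assoc] at this
      exact this
  rw [key]
  constructor
  · intro h x y
    rw [revB_eq_dot, revB_eq_dot, form_mulVec, h]
  · intro h
    apply eq_of_forall_dot σ
    intro x y
    rw [← form_mulVec, ← revB_eq_dot, ← revB_eq_dot, h]

/-- the base change: a matrix carrying the reversed form to the standard one -/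
theorem exists_baseChange [Finite F] (n : ℕ) (σ : F →+* F) (hσ : σ ≠ RingHom.id F)
    (hσ2 : ∀ a : F, σ (σ a) = a) :
    ∃ A : GL (Fin n) F, ∀ x y : Fin n → F,
      stdB n σ ((A : Matrix (Fin n) (Fin n) F) *ᵥ x) ((A : Matrix (Fin n) (Fin n) F) *ᵥ y)
        = revB n σ x y := by
  classical
  obtain ⟨Φ, hΦ⟩ := Cfsg.Agent.Lib.Helper8.HermSplit.exists_isometry hσ hσ2 n (Fin n → F)
    (revB n σ) (revB_isSymm n σ hσ2) (revB_sepLeft n σ) (Module.finrank_fin_fun F)
  have h1 : LinearMap.toMatrix' (Φ : (Fin n → F) →ₗ[F] (Fin n → F))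
      * LinearMap.toMatrix' (Φ.symm : (Fin n → F) →ₗ[F] (Fin n → F)) = 1 := by
    rw [← LinearMap.toMatrix'_comp, LinearEquiv.comp_coe, LinearEquiv.symm_trans_self,
      LinearEquiv.refl_toLinearMap, LinearMap.toMatrix'_id]
  have h2 : LinearMap.toMatrix' (Φ.symm : (Fin n → F) →ₗ[F] (Fin n → F))
      * LinearMap.toMatrix' (Φ : (Fin n → F) →ₗ[F] (Fin n → F)) = 1 := by
    rw [← LinearMap.toMatrix'_comp, LinearEquiv.comp_coe, LinearEquiv.self_trans_symm,
      LinearEquiv.refl_toLinearMap, LinearMap.toMatrix'_id]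
  refine ⟨⟨_, _, h1, h2⟩, ?_⟩
  intro x y
  change stdB n σ (LinearMap.toMatrix' (Φ : (Fin n → F) →ₗ[F] (Fin n → F)) *ᵥ x)
    (LinearMap.toMatrix' (Φ : (Fin n → F) →ₗ[F] (Fin n → F)) *ᵥ y) = _
  rw [LinearMap.toMatrix'_mulVec, LinearMap.toMatrix'_mulVec]
  exact hΦ x y

theorem GL_mulVec_inv {n : ℕ} (A : GL (Fin n) F) (u : Fin n → F) :
    (A : Matrix (Fin n) (Fin n) F) *ᵥ (((A⁻¹ : GL (Fin n) F) : Matrix (Fin n) (Fin n) F) *ᵥ u)
      = u := by
  rw [Matrix.mulVec_mulVec, ← Units.val_mul, mul_inv_cancel, Units.val_one, Matrix.one_mulVec]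

theorem GL_inv_mulVec {n : ℕ} (A : GL (Fin n) F) (u : Fin n → F) :
    ((A⁻¹ : GL (Fin n) F) : Matrix (Fin n) (Fin n) F) *ᵥ ((A : Matrix (Fin n) (Fin n) F) *ᵥ u)
      = u := by
  rw [Matrix.mulVec_mulVec, ← Units.val_mul, inv_mul_cancel, Units.val_one, Matrix.one_mulVec]

/-- conjugation by the base change carries `UH` onto the isometries of the standard form -/
theorem conj_mem_iff {n : ℕ} {σ : F →+* F} (A : GL (Fin n) F)
    (hA : ∀ x y : Fin n → F,
      stdB n σ ((A : Matrix (Fin n) (Fin n) F) *ᵥ x) ((A : Matrix (Fin n) (Fin n) F) *ᵥ y)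
        = revB n σ x y) (g : GL (Fin n) F) :
    g ∈ UH n F σ ↔ ∀ u v : Fin n → F,
      stdB n σ (((A * g * A⁻¹ : GL (Fin n) F) : Matrix (Fin n) (Fin n) F) *ᵥ u)
        (((A * g * A⁻¹ : GL (Fin n) F) : Matrix (Fin n) (Fin n) F) *ᵥ v) = stdB n σ u v := by
  have hmul : ∀ u : Fin n → F,
      ((A * g * A⁻¹ : GL (Fin n) F) : Matrix (Fin n) (Fin n) F) *ᵥ u
        = (A : Matrix (Fin n) (Fin n) F) *ᵥ ((g : Matrix (Fin n) (Fin n) F) *ᵥ
          (((A⁻¹ : GL (Fin n) F) : Matrix (Fin n) (Fin n) F) *ᵥ u)) := by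
    intro u
    rw [Units.val_mul, Units.val_mul, Matrix.mulVec_mulVec, Matrix.mulVec_mulVec,
      Matrix.mul_assoc]
  rw [mem_UH_iff_revB]
  constructor
  · intro h u v
    rw [hmul, hmul, hA, h, ← hA, GL_mulVec_inv, GL_mulVec_inv]
  · intro h x y
    have := h ((A : Matrix (Fin n) (Fin n) F) *ᵥ x) ((A : Matrix (Fin n) (Fin n) F) *ᵥ y)
    rw [hmul, hmul, GL_inv_mulVec, GL_inv_mulVec, hA, hA] at this
    exact this

end Cfsg.Agent.PSUT
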