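import Mathlib
import Cfsg.Agent.Lib.Lead.PSUTransportB
import Cfsg.Agent.Lib.S2544.Restrict
import Cfsg.Agent.S0279
import Cfsg.Agent.Lib.helper3.Inflate2
import Cfsg.Agent.Lib.helper3.Irr12
import Cfsg.Agent.Lib.helper3.DefectZero

/-!
# Transport of the Steinberg character to `PSU_n(q)`: diagonal elements, determinant one,
the isomorphism with `Cfsg.SU` (lead, piece (ii) of S2546)
-/

set_option autoImplicit false

namespace Cfsg.Agent.PSUT

open Matrix Cfsg Cfsg.Agent.S0277 Cfsg.Agent.Lib.Helper8.Tw Cfsg.Agent.Lib.Helper5.GLBN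
open scoped MatrixGroups

variable {F : Type*} [Field F]

/-! ### Diagonal elements of `UH` -/

/-- the diagonal `(t, 1, …, 1, s)` -/
def dfun (n : ℕ) (hn : 2 ≤ n) (t s : F) : Fin n → F :=
  Function.update (Function.update (fun _ => (1 : F)) ⟨n - 1, by omega⟩ s) ⟨0, by omega⟩ t

theorem dfun_first (n : ℕ) (hn : 2 ≤ n) (t s : F) : dfun n hn t s ⟨0, by omega⟩ = t := by
  unfold dfun
  rw [Function.update_self]

theorem dfun_last (n : ℕ) (hn : 2 ≤ n) (t s : F) : dfun n hn t s ⟨n - 1, by omega⟩ = s := by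
  unfold dfun
  rw [Function.update_of_ne, Function.update_self]
  intro h
  have := congrArg Fin.val h
  simp only at this
  omega

theorem dfun_mid (n : ℕ) (hn : 2 ≤ n) (t s : F) (i : Fin n) (h0 : i.val ≠ 0)
    (h1 : i.val ≠ n - 1) : dfun n hn t s i = 1 := by
  unfold dfun
  rw [Function.update_of_ne, Function.update_of_ne]
  · intro h
    exact h1 (congrArg Fin.val h)
  · intro h
    exact h0 (congrArg Fin.val h)

theorem dfun_mul (n : ℕ) (hn : 2 ≤ n) (t s t' s' : F) (i : Fin n) :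
    dfun n hn t s i * dfun n hn t' s' i = dfun n hn (t * t') (s * s') i := by
  by_cases h0 : i.val = 0
  · have : i = ⟨0, by omega⟩ := Fin.ext h0
    rw [this, dfun_first, dfun_first, dfun_first]
  · by_cases h1 : i.val = n - 1
    · have : i = ⟨n - 1, by omega⟩ := Fin.ext h1
      rw [this, dfun_last, dfun_last, dfun_last]
    · rw [dfun_mid n hn _ _ i h0 h1, dfun_mid n hn _ _ i h0 h1, dfun_mid n hn _ _ i h0 h1, one_mul]

theorem dfun_one (n : ℕ) (hn : 2 ≤ n) (i : Fin n) : dfun n hn (1 : F) 1 i = 1 := by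
  by_cases h0 : i.val = 0
  · have : i = ⟨0, by omega⟩ := Fin.ext h0
    rw [this, dfun_first]
  · by_cases h1 : i.val = n - 1
    · have : i = ⟨n - 1, by omega⟩ := Fin.ext h1
      rw [this, dfun_last]
    · rw [dfun_mid n hn _ _ i h0 h1]

theorem prod_dfun (n : ℕ) (hn : 2 ≤ n) (t s : F) : ∏ i, dfun n hn t s i = t * s := by
  classical
  unfold dfun
  rw [Finset.prod_update_of_mem (Finset.mem_univ _), Finset.prod_update_of_mem]
  · rw [Finset.prod_const_one, mul_one]
  · rw [Finset.mem_sdiff, Finset.mem_singleton]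
    refine ⟨Finset.mem_univ _, ?_⟩
    intro h
    have := congrArg Fin.val h
    simp only at this
    omega

/-- the diagonal matrix `(t, 1, …, 1, s)`, `t s ≠ 0`, in `GL_n` -/
def dGL (n : ℕ) (hn : 2 ≤ n) (t s : F) (ht : t ≠ 0) (hs : s ≠ 0) : GL (Fin n) F :=
  ⟨Matrix.diagonal (dfun n hn t s), Matrix.diagonal (dfun n hn t⁻¹ s⁻¹), by
    rw [Matrix.diagonal_mul_diagonal, ← Matrix.diagonal_one]
    congr 1
    funext i
    rw [dfun_mul, mul_inv_cancel₀ ht, mul_inv_cancel₀ hs, dfun_one], by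
    rw [Matrix.diagonal_mul_diagonal, ← Matrix.diagonal_one]
    congr 1
    funext i
    rw [dfun_mul, inv_mul_cancel₀ ht, inv_mul_cancel₀ hs, dfun_one]⟩

theorem dGL_val (n : ℕ) (hn : 2 ≤ n) (t s : F) (ht : t ≠ 0) (hs : s ≠ 0) :
    ((dGL n hn t s ht hs : GL (Fin n) F) : Matrix (Fin n) (Fin n) F)
      = Matrix.diagonal (dfun n hn t s) := rfl

theorem dGL_inv_val (n : ℕ) (hn : 2 ≤ n) (t s : F) (ht : t ≠ 0) (hs : s ≠ 0) :
    (((dGL n hn t s ht hs)⁻¹ : GL (Fin n) F) : Matrix (Fin n) (Fin n) F)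
      = Matrix.diagonal (dfun n hn t⁻¹ s⁻¹) := rfl

theorem isMono_dGL (n : ℕ) (hn : 2 ≤ n) (t s : F) (ht : t ≠ 0) (hs : s ≠ 0) :
    IsMono ((dGL n hn t s ht hs : GL (Fin n) F) : Matrix (Fin n) (Fin n) F) 1 := by
  intro i j hij
  rw [dGL_val, Matrix.diagonal_apply_ne _ (by simpa using hij)]

theorem det_dGL (n : ℕ) (hn : 2 ≤ n) (t s : F) (ht : t ≠ 0) (hs : s ≠ 0) :
    ((dGL n hn t s ht hs : GL (Fin n) F) : Matrix (Fin n) (Fin n) F).det = t * s := by
  rw [dGL_val, Matrix.det_diagonal, prod_dfun]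

theorem dfun_rev (n : ℕ) (hn : 2 ≤ n) (t s : F) (i : Fin n) :
    dfun n hn t s (Fin.rev i) = dfun n hn s t i := by
  by_cases h0 : i.val = 0
  · have hi : i = ⟨0, by omega⟩ := Fin.ext h0
    have hr : Fin.rev i = ⟨n - 1, by omega⟩ := by
      apply Fin.ext
      have := Fin.val_rev i
      simp only
      omega
    rw [hr, dfun_last, hi, dfun_first]
  · by_cases h1 : i.val = n - 1
    · have hi : i = ⟨n - 1, by omega⟩ := Fin.ext h1
      have hr : Fin.rev i = ⟨0, by omega⟩ := by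
        apply Fin.ext
        have := Fin.val_rev i
        have := i.2
        simp only
        omega
      rw [hr, dfun_first, hi, dfun_last]
    · have hr0 : (Fin.rev i).val ≠ 0 := by
        rw [Fin.val_rev]
        have := i.2
        omega
      have hr1 : (Fin.rev i).val ≠ n - 1 := by
        rw [Fin.val_rev]
        omega
      rw [dfun_mid n hn _ _ _ hr0 hr1, dfun_mid n hn _ _ i h0 h1]

theorem map_dfun (σ : F →+* F) (n : ℕ) (hn : 2 ≤ n) (t s : F) (i : Fin n) :
    σ (dfun n hn t s i) = dfun n hn (σ t) (σ s) i := by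
  by_cases h0 : i.val = 0
  · have hi : i = ⟨0, by omega⟩ := Fin.ext h0
    rw [hi, dfun_first, dfun_first]
  · by_cases h1 : i.val = n - 1
    · have hi : i = ⟨n - 1, by omega⟩ := Fin.ext h1
      rw [hi, dfun_last, dfun_last]
    · rw [dfun_mid n hn _ _ i h0 h1, dfun_mid n hn _ _ i h0 h1, map_one]

/-- `diag (t, 1, …, 1, σ(t)⁻¹)` is unitary -/
theorem dGL_mem_UH (σ : F →+* F) (hσ2 : ∀ a : F, σ (σ a) = a) (n : ℕ) (hn : 2 ≤ n) (t : F)
    (ht : t ≠ 0) :
    dGL n hn t (σ t)⁻¹ ht (inv_ne_zero (by rwa [Ne, map_eq_zero])) ∈ UH n F σ := by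
  rw [mem_UH_iff]
  intro a b
  rw [dGL_val, dGL_inv_val]
  by_cases hab : a = b
  · subst hab
    rw [Matrix.diagonal_apply_eq, Matrix.diagonal_apply_eq, dfun_rev, map_dfun, inv_inv,
      map_inv₀, hσ2]
  · rw [Matrix.diagonal_apply_ne _ hab, Matrix.diagonal_apply_ne, map_zero]
    intro h
    apply hab
    have := congrArg Fin.rev h
    rw [Fin.rev_rev, Fin.rev_rev] at this
    exact this.symm

end Cfsg.Agent.PSUT
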