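import Mathlib
import Cfsg.Agent.Lib.Lead.PSUTransportC

/-!
# Transport of the Steinberg character to `PSU_n(q)`: determinant one and the isomorphism with
`Cfsg.SU` (lead, piece (ii) of S2546)
-/

set_option autoImplicit false

namespace Cfsg.Agent.PSUT

open Matrix Cfsg Cfsg.Agent.S0277 Cfsg.Agent.Lib.Helper8.Tw Cfsg.Agent.Lib.Helper5.GLBN
open scoped MatrixGroups

variable {F : Type*} [Field F]

/-! ### Determinants of unitary matrices -/

theorem det_mul_map_det {n : ℕ} {σ : F →+* F} {g : GL (Fin n) F} (hg : g ∈ UH n F σ) :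
    (g : Matrix (Fin n) (Fin n) F).det * σ (g : Matrix (Fin n) (Fin n) F).det = 1 := by
  have h := congrArg Matrix.det (mem_UH_iff_mul.1 hg)
  rw [Matrix.det_mul, Matrix.det_mul, Matrix.det_transpose] at h
  have hR : ((RG n F : GL (Fin n) F) : Matrix (Fin n) (Fin n) F).det ≠ 0 := by
    exact ((Matrix.isUnit_iff_isUnit_det _).1 (RG n F).isUnit).ne_zero
  have hmap : ((g : Matrix (Fin n) (Fin n) F).map σ).det
      = σ (g : Matrix (Fin n) (Fin n) F).det := by
    rw [RingHom.map_det]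
    rfl
  rw [hmap] at h
  have h2 : ((g : Matrix (Fin n) (Fin n) F).det * σ (g : Matrix (Fin n) (Fin n) F).det)
      * ((RG n F : GL (Fin n) F) : Matrix (Fin n) (Fin n) F).det
      = 1 * ((RG n F : GL (Fin n) F) : Matrix (Fin n) (Fin n) F).det := by
    linear_combination h
  exact mul_right_cancel₀ hR h2

/-! ### The subgroup of determinant one -/

/-- the elements of determinant one of `UH` -/
def N1 (n : ℕ) (F : Type*) [Field F] (σ : F →+* F) : Subgroup ↥(UH n F σ) :=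
  ((Matrix.GeneralLinearGroup.det : GL (Fin n) F →* Fˣ).comp (UH n F σ).subtype).ker

instance N1_normal (n : ℕ) (σ : F →+* F) : (N1 n F σ).Normal := by
  unfold N1
  infer_instance

theorem mem_N1 {n : ℕ} {σ : F →+* F} {g : ↥(UH n F σ)} :
    g ∈ N1 n F σ ↔ ((g : GL (Fin n) F) : Matrix (Fin n) (Fin n) F).det = 1 := by
  unfold N1
  rw [MonoidHom.mem_ker, MonoidHom.comp_apply, Subgroup.coe_subtype, ← Units.val_inj,
    Matrix.GeneralLinearGroup.val_det_apply, Units.val_one]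

theorem commutator_mem_N1 {n : ℕ} {σ : F →+* F} (x y : ↥(UH n F σ)) :
    x * y * x⁻¹ * y⁻¹ ∈ N1 n F σ := by
  unfold N1
  rw [MonoidHom.mem_ker, map_mul, map_mul, map_mul, map_inv, map_inv]
  rw [mul_comm (((Matrix.GeneralLinearGroup.det : GL (Fin n) F →* Fˣ).comp
    (UH n F σ).subtype) x), mul_assoc, mul_assoc, mul_inv_cancel_left, mul_inv_cancel]

/-- every coset of `N1` contains a diagonal matrix -/
theorem exists_mem_N1_mul_diag [Fintype F] {q : ℕ} (hF : Fintype.card F = q ^ 2) {n : ℕ}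
    (hn : 2 ≤ n) {σ : F →+* F} (hσ : ∀ x, σ x = x ^ q) (hσ2 : ∀ a : F, σ (σ a) = a)
    (g : ↥(UH n F σ)) :
    ∃ m ∈ N1 n F σ, IsMono (((g * m : ↥(UH n F σ)) : GL (Fin n) F) :
      Matrix (Fin n) (Fin n) F) 1 := by
  have hδ := det_mul_map_det g.2
  rw [hσ] at hδ
  obtain ⟨t, ht, hte⟩ := hilbert90 hF _ hδ
  have hst : σ t ≠ 0 := by rwa [Ne, map_eq_zero]
  set d : ↥(UH n F σ) := ⟨dGL n hn t (σ t)⁻¹ ht (inv_ne_zero hst), dGL_mem_UH σ hσ2 n hn t ht⟩
    with hd
  refine ⟨g⁻¹ * d, ?_, ?_⟩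
  · rw [mem_N1, Subgroup.coe_mul, Units.val_mul, Matrix.det_mul, hd]
    simp only [Subgroup.coe_inv]
    rw [det_dGL]
    have h1 : (((g : GL (Fin n) F)⁻¹ : GL (Fin n) F) : Matrix (Fin n) (Fin n) F).det
        * ((g : GL (Fin n) F) : Matrix (Fin n) (Fin n) F).det = 1 := by
      rw [← Matrix.det_mul, ← Units.val_mul, inv_mul_cancel, Units.val_one, Matrix.det_one]
    have h2 : ((g : GL (Fin n) F) : Matrix (Fin n) (Fin n) F).det = t * (σ t)⁻¹ := by
      rw [hσ t, eq_mul_inv_iff_mul_eq₀ (by rw [← hσ t]; exact hst)]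
      exact hte
    rw [← h2]
    exact h1
  · rw [mul_inv_cancel_left]
    exact isMono_dGL n hn t (σ t)⁻¹ ht (inv_ne_zero hst)

end Cfsg.Agent.PSUT
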