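import Mathlib
import Cfsg.Agent.Lib.Lead.PSUTransportD

/-!
# Transport of the Steinberg character to `PSU_n(q)`: the isomorphism `Cfsg.SU ≃* N1`
(lead, piece (ii) of S2546)
-/

set_option autoImplicit false

namespace Cfsg.Agent.PSUT

open Matrix Cfsg Cfsg.Agent.S0277 Cfsg.Agent.Lib.Helper8.Tw Cfsg.Agent.Lib.Helper5.GLBN
open scoped MatrixGroups

variable {F : Type*} [Field F] {q n : ℕ} {σ : F →+* F}

/-- membership in `Cfsg.SU` through the standard form -/
theorem mem_SU_iff (hσ : ∀ x, σ x = x ^ q) (h : Matrix.SpecialLinearGroup (Fin n) F) :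
    h ∈ Cfsg.SU n F q ↔ ∀ u v : Fin n → F,
      stdB n σ ((h : Matrix (Fin n) (Fin n) F) *ᵥ u) ((h : Matrix (Fin n) (Fin n) F) *ᵥ v)
        = stdB n σ u v := by
  constructor
  · intro hh u v
    rw [stdB_eq_hermForm n σ hσ, stdB_eq_hermForm n σ hσ]
    exact hh v u
  · intro hh u v
    have := hh v u
    rw [stdB_eq_hermForm n σ hσ, stdB_eq_hermForm n σ hσ] at this
    exact this

variable (A : GL (Fin n) F)
  (hA : ∀ x y : Fin n → F,
    stdB n σ ((A : Matrix (Fin n) (Fin n) F) *ᵥ x) ((A : Matrix (Fin n) (Fin n) F) *ᵥ y)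
      = revB n σ x y)

/-- conjugation by the inverse base change, on `SU` -/
noncomputable def f0 (A : GL (Fin n) F) (q : ℕ) : ↥(Cfsg.SU n F q) →* GL (Fin n) F :=
  (MulAut.conj A⁻¹).toMonoidHom.comp
    (Matrix.SpecialLinearGroup.toGL.comp (Cfsg.SU n F q).subtype)

theorem f0_apply (h : ↥(Cfsg.SU n F q)) :
    f0 A q h = A⁻¹ * Matrix.SpecialLinearGroup.toGL h.1 * A := by
  unfold f0
  rw [MonoidHom.comp_apply, MonoidHom.comp_apply, Subgroup.coe_subtype, MulEquiv.coe_toMonoidHom,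
    MulAut.conj_apply, inv_inv]

include hA in
theorem f0_mem_UH (hσ : ∀ x, σ x = x ^ q) (h : ↥(Cfsg.SU n F q)) : f0 A q h ∈ UH n F σ := by
  rw [conj_mem_iff A hA, f0_apply]
  have e : A * (A⁻¹ * Matrix.SpecialLinearGroup.toGL h.1 * A) * A⁻¹
      = Matrix.SpecialLinearGroup.toGL h.1 := by group
  rw [e]
  exact (mem_SU_iff hσ h.1).1 h.2

theorem det_f0 (h : ↥(Cfsg.SU n F q)) : Matrix.GeneralLinearGroup.det (f0 A q h) = 1 := by
  rw [f0_apply, map_mul, map_mul, map_inv, Matrix.SpecialLinearGroup.coeToGL_det, mul_one,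
    inv_mul_cancel]

/-- the homomorphism `SU → N1` -/
noncomputable def toN1 (hσ : ∀ x, σ x = x ^ q) : ↥(Cfsg.SU n F q) →* ↥(N1 n F σ) :=
  ((f0 A q).codRestrict (UH n F σ) (f0_mem_UH A hA hσ)).codRestrict (N1 n F σ) (by
    intro h
    unfold N1
    rw [MonoidHom.mem_ker, MonoidHom.comp_apply, Subgroup.coe_subtype]
    exact det_f0 A h)

theorem toN1_coe (hσ : ∀ x, σ x = x ^ q) (h : ↥(Cfsg.SU n F q)) :
    (((toN1 A hA hσ h : ↥(N1 n F σ)) : ↥(UH n F σ)) : GL (Fin n) F)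
      = A⁻¹ * Matrix.SpecialLinearGroup.toGL h.1 * A := f0_apply A h

theorem toN1_injective (hσ : ∀ x, σ x = x ^ q) : Function.Injective (toN1 A hA hσ) := by
  intro a b hab
  have h1 := congrArg (fun k : ↥(N1 n F σ) => ((k : ↥(UH n F σ)) : GL (Fin n) F)) hab
  simp only [toN1_coe] at h1
  have h2 : Matrix.SpecialLinearGroup.toGL a.1 = Matrix.SpecialLinearGroup.toGL b.1 := by
    have := congrArg (fun k => A * k * A⁻¹) h1
    have ea : A * (A⁻¹ * Matrix.SpecialLinearGroup.toGL a.1 * A) * A⁻¹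
        = Matrix.SpecialLinearGroup.toGL a.1 := by group
    have eb : A * (A⁻¹ * Matrix.SpecialLinearGroup.toGL b.1 * A) * A⁻¹
        = Matrix.SpecialLinearGroup.toGL b.1 := by group
    change A * (A⁻¹ * Matrix.SpecialLinearGroup.toGL a.1 * A) * A⁻¹
      = A * (A⁻¹ * Matrix.SpecialLinearGroup.toGL b.1 * A) * A⁻¹ at this
    rw [ea, eb] at this
    exact this
  exact Subtype.ext (Matrix.SpecialLinearGroup.toGL_injective h2)

theorem toN1_surjective (hσ : ∀ x, σ x = x ^ q) : Function.Surjective (toN1 A hA hσ) := by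
  intro g
  set G : GL (Fin n) F := ((g : ↥(UH n F σ)) : GL (Fin n) F) with hG
  have hGdet : Matrix.GeneralLinearGroup.det G = 1 := by
    have := g.2
    unfold N1 at this
    rw [MonoidHom.mem_ker, MonoidHom.comp_apply, Subgroup.coe_subtype] at this
    exact this
  have hdet : ((A * G * A⁻¹ : GL (Fin n) F) : Matrix (Fin n) (Fin n) F).det = 1 := by
    have : Matrix.GeneralLinearGroup.det (A * G * A⁻¹) = 1 := by
      rw [map_mul, map_mul, map_inv, hGdet, mul_one, mul_inv_cancel]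
    have h2 := congrArg Units.val this
    rw [Matrix.GeneralLinearGroup.val_det_apply, Units.val_one] at h2
    exact h2
  set s : Matrix.SpecialLinearGroup (Fin n) F :=
    ⟨((A * G * A⁻¹ : GL (Fin n) F) : Matrix (Fin n) (Fin n) F), hdet⟩ with hs
  have hsGL : Matrix.SpecialLinearGroup.toGL s = A * G * A⁻¹ := Units.ext rfl
  have hsSU : s ∈ Cfsg.SU n F q := by
    rw [mem_SU_iff hσ]
    exact (conj_mem_iff A hA G).1 g.1.2
  refine ⟨⟨s, hsSU⟩, ?_⟩
  apply Subtype.ext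
  apply Subtype.ext
  rw [toN1_coe]
  change A⁻¹ * Matrix.SpecialLinearGroup.toGL s * A = G
  rw [hsGL]
  group

/-- `Cfsg.SU n F q` is isomorphic to the determinant one subgroup of the antidiagonal model -/
noncomputable def suEquiv (hσ : ∀ x, σ x = x ^ q) : ↥(Cfsg.SU n F q) ≃* ↥(N1 n F σ) :=
  MulEquiv.ofBijective (toN1 A hA hσ) ⟨toN1_injective A hA hσ, toN1_surjective A hA hσ⟩

theorem suEquiv_coe (hσ : ∀ x, σ x = x ^ q) (h : ↥(Cfsg.SU n F q)) :
    (((suEquiv A hA hσ h : ↥(N1 n F σ)) : ↥(UH n F σ)) : GL (Fin n) F)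
      = A⁻¹ * Matrix.SpecialLinearGroup.toGL h.1 * A := toN1_coe A hA hσ h

end Cfsg.Agent.PSUT
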