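import Mathlib

/-!
# Brauer–Suzuki–Wall, abstract form (towards S3282): the elementary facts, part a

(author: lead)  See `notes/BSW_blueprint.md`, §0.
-/

set_option autoImplicit false
set_option linter.unusedVariables false
set_option linter.unusedSectionVars false
set_option linter.style.haveILetI false

namespace Cfsg.Agent.Lib.Lead.BSW

open Subgroup

/-- the hypotheses of the abstract Brauer–Suzuki–Wall theorem -/
structure Hyp {G : Type*} [Group G] (t s : G) (K : Subgroup G) : Prop where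
  ht : orderOf t = 2
  hs : orderOf s = 2
  comm : ∀ a ∈ K, ∀ b ∈ K, a * b = b * a
  tK : t ∈ K
  KH : K ≤ centralizer ({t} : Set G)
  sH : s ∈ centralizer ({t} : Set G)
  sK : s ∉ K
  hH : K ⊔ zpowers s = centralizer ({t} : Set G)
  hCK : K ⊓ centralizer ({s} : Set G) = zpowers t
  inv : ∀ x ∈ K, s * x * s⁻¹ = x⁻¹
  TI : ∀ g : G, g ∉ centralizer ({t} : Set G) → K ⊓ K.map (MulAut.conj g).toMonoidHom = ⊥
  conj : ∀ x y : G, orderOf x = 2 → orderOf y = 2 → IsConj x y

theorem mul_self_of_orderOf_two {G : Type*} [Group G] {a : G} (h : orderOf a = 2) : a * a = 1 := by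
  have := pow_orderOf_eq_one a
  rw [h, pow_two] at this
  exact this

theorem inv_eq_self_of_orderOf_two {G : Type*} [Group G] {a : G} (h : orderOf a = 2) : a⁻¹ = a :=
  inv_eq_of_mul_eq_one_left (mul_self_of_orderOf_two h)

theorem ne_one_of_orderOf_two {G : Type*} [Group G] {a : G} (h : orderOf a = 2) : a ≠ 1 := by
  intro h1
  rw [h1, orderOf_one] at h
  omega

theorem orderOf_two_of {G : Type*} [Group G] {a : G} (h1 : a ≠ 1) (h2 : a * a = 1) : orderOf a = 2 := by
  haveI : Fact (Nat.Prime 2) := ⟨Nat.prime_two⟩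
  exact orderOf_eq_prime (by rw [pow_two]; exact h2) h1

theorem mem_centralizer_singleton {G : Type*} [Group G] {a g : G} :
    g ∈ centralizer ({a} : Set G) ↔ g * a = a * g := by
  rw [mem_centralizer_iff]
  constructor
  · intro h; exact (h a rfl).symm
  · intro h x hx
    rw [Set.mem_singleton_iff] at hx
    rw [hx]; exact h.symm

variable {G : Type*} [Group G] {t s : G} {K : Subgroup G}

namespace Hyp

theorem ss (h : Hyp t s K) : s * s = 1 := mul_self_of_orderOf_two h.hs
theorem tt (h : Hyp t s K) : t * t = 1 := mul_self_of_orderOf_two h.ht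
theorem sinv (h : Hyp t s K) : s⁻¹ = s := inv_eq_self_of_orderOf_two h.hs
theorem tinv (h : Hyp t s K) : t⁻¹ = t := inv_eq_self_of_orderOf_two h.ht

theorem ss_mul (h : Hyp t s K) (x : G) : s * (s * x) = x := by
  rw [← mul_assoc, h.ss, one_mul]

/-- `s y = y⁻¹ s` for `y ∈ K` -/
theorem s_mul (h : Hyp t s K) {y : G} (hy : y ∈ K) : s * y = y⁻¹ * s := by
  have := h.inv y hy
  rw [h.sinv] at this
  calc s * y = s * y * s * s := by rw [mul_assoc (s * y), h.ss, mul_one]
    _ = y⁻¹ * s := by rw [this]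

theorem s_mul_s (h : Hyp t s K) {y : G} (hy : y ∈ K) : s * y * s = y⁻¹ := by
  have := h.inv y hy
  rwa [h.sinv] at this

/-- the subgroup `K ∪ K s` -/
def L (h : Hyp t s K) : Subgroup G where
  carrier := {g | g ∈ K ∨ g * s ∈ K}
  one_mem' := Or.inl K.one_mem
  mul_mem' := by
    rintro a b (ha | ha) (hb | hb)
    · exact Or.inl (K.mul_mem ha hb)
    · right
      rw [mul_assoc]; exact K.mul_mem ha hb
    · right
      -- a * b * s = (a s) (s b s) = (a s) b⁻¹
      have : a * b * s = (a * s) * (s * b * s) := by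
        simp only [mul_assoc, h.ss_mul]
      rw [this, h.s_mul_s hb]
      exact K.mul_mem ha (K.inv_mem hb)
    · left
      -- a * b = (a s) (s b) = (a s) (s (b s) s) = (a s) (b s)⁻¹
      have : a * b = (a * s) * (s * (b * s) * s) := by
        simp only [mul_assoc, h.ss_mul, h.ss, mul_one]
      rw [this, h.s_mul_s hb]
      exact K.mul_mem ha (K.inv_mem hb)
  inv_mem' := by
    rintro a (ha | ha)
    · exact Or.inl (K.inv_mem ha)
    · right
      -- a⁻¹ s = (s a)⁻¹... a = y s, a⁻¹ = s y⁻¹, a⁻¹ s = s y⁻¹ s = y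
      have : a⁻¹ * s = s * (a * s)⁻¹ * s := by
        rw [mul_inv_rev, h.sinv]
        simp only [mul_assoc, h.ss_mul]
      rw [this, h.s_mul_s (K.inv_mem ha), inv_inv]
      exact ha

theorem mem_L (h : Hyp t s K) {g : G} : g ∈ h.L ↔ g ∈ K ∨ g * s ∈ K := Iff.rfl

theorem L_eq (h : Hyp t s K) : h.L = centralizer ({t} : Set G) := by
  rw [← h.hH]
  apply le_antisymm
  · rintro g (hg | hg)
    · exact (le_sup_left : K ≤ K ⊔ zpowers s) hg
    · have : g = (g * s) * s := by rw [mul_assoc, h.ss, mul_one]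
      rw [this]
      exact (K ⊔ zpowers s).mul_mem ((le_sup_left : K ≤ K ⊔ zpowers s) hg)
        ((le_sup_right : zpowers s ≤ K ⊔ zpowers s) (mem_zpowers s))
  · apply sup_le
    · intro g hg; exact Or.inl hg
    · rw [zpowers_le]
      right; rw [h.ss]; exact K.one_mem

/-- membership in `H = C(t)` -/
theorem mem_H_iff (h : Hyp t s K) {g : G} :
    g ∈ centralizer ({t} : Set G) ↔ g ∈ K ∨ g * s ∈ K := by
  rw [← h.L_eq]; rfl

/-- elements of `K s` are involutions -/
theorem orderOf_of_mul_s_mem (h : Hyp t s K) {g : G} (hg : g * s ∈ K) : orderOf g = 2 := by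
  have hne : g ≠ 1 := by
    intro h1
    rw [h1, one_mul] at hg
    exact h.sK hg
  apply orderOf_two_of hne
  -- g = y s, g g = y s y s = y y⁻¹ = 1
  have e : g = (g * s) * s := by rw [mul_assoc, h.ss, mul_one]
  have : g * g = (g * s) * (s * (g * s) * s) := by
    simp only [mul_assoc, h.ss_mul, h.ss, mul_one]
  rw [this, h.s_mul_s hg, mul_inv_cancel]

/-- elements of `K s` invert `K` -/
theorem inv_of_mul_s_mem (h : Hyp t s K) {g : G} (hg : g * s ∈ K) {x : G} (hx : x ∈ K) :
    g * x * g⁻¹ = x⁻¹ := by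
  have e : g = (g * s) * s := by rw [mul_assoc, h.ss, mul_one]
  set y := g * s with hy
  rw [e, mul_inv_rev, h.sinv]
  have : y * s * x * (s * y⁻¹) = y * (s * x * s) * y⁻¹ := by group
  rw [this, h.s_mul_s hx]
  have hc := h.comm y hg x⁻¹ (K.inv_mem hx)
  rw [hc, mul_assoc, mul_inv_cancel, mul_one]

/-- `t` is the only involution of `K` -/
theorem eq_t_of_mem_of_sq (h : Hyp t s K) {x : G} (hx : x ∈ K) (hxx : x * x = 1) : x = 1 ∨ x = t := by
  have hinv : x⁻¹ = x := inv_eq_of_mul_eq_one_left hxx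
  have hc : x ∈ centralizer ({s} : Set G) := by
    rw [mem_centralizer_singleton]
    have := h.s_mul hx
    rw [hinv] at this
    exact this.symm
  have hm : x ∈ K ⊓ centralizer ({s} : Set G) := ⟨hx, hc⟩
  rw [h.hCK, mem_zpowers_iff] at hm
  obtain ⟨n, hn⟩ := hm
  rcases Int.even_or_odd n with ⟨m, hm⟩ | ⟨m, hm⟩
  · left
    rw [← hn, hm, ← two_mul, zpow_mul, zpow_ofNat, pow_two, h.tt, one_zpow]
  · right
    rw [← hn, hm, zpow_add, zpow_mul, zpow_ofNat, pow_two, h.tt, one_zpow, one_mul, zpow_one]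

/-- `C(x) ≤ H` for `x ∈ K^#` -/
theorem mem_H_of_commute (h : Hyp t s K) {x g : G} (hx : x ∈ K) (hx1 : x ≠ 1) (hg : g * x = x * g) :
    g ∈ centralizer ({t} : Set G) := by
  by_contra hn
  have hTI := h.TI g hn
  have hm : x ∈ K ⊓ K.map (MulAut.conj g).toMonoidHom := by
    refine mem_inf.2 ⟨hx, ?_⟩
    rw [mem_map]
    refine ⟨x, hx, ?_⟩
    show g * x * g⁻¹ = x
    rw [hg, mul_assoc, mul_inv_cancel, mul_one]
  rw [hTI, mem_bot] at hm
  exact hx1 hm

/-- `C(x) = K` for `x ∈ K`, `x ≠ 1, t` -/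
theorem mem_K_of_commute (h : Hyp t s K) {x g : G} (hx : x ∈ K) (hx1 : x ≠ 1) (hxt : x ≠ t)
    (hg : g * x = x * g) : g ∈ K := by
  have hH := h.mem_H_of_commute hx hx1 hg
  rcases h.mem_H_iff.1 hH with hK | hKs
  · exact hK
  · exfalso
    have hinv := h.inv_of_mul_s_mem hKs hx
    rw [hg, mul_assoc, mul_inv_cancel, mul_one] at hinv
    -- x = x⁻¹
    have hxx : x * x = 1 := by
      nth_rewrite 1 [hinv]
      exact inv_mul_cancel x
    rcases h.eq_t_of_mem_of_sq hx hxx with h1 | h2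
    · exact hx1 h1
    · exact hxt h2

/-- the hypotheses are invariant under conjugation -/
theorem conj_hyp (h : Hyp t s K) (g : G) :
    Hyp (g * t * g⁻¹) (g * s * g⁻¹) (K.map (MulAut.conj g).toMonoidHom) := by
  have hmem : ∀ y : G, y ∈ K.map (MulAut.conj g).toMonoidHom ↔ g⁻¹ * y * g ∈ K := by
    intro y
    rw [mem_map]
    constructor
    · rintro ⟨x, hx, rfl⟩
      show g⁻¹ * (g * x * g⁻¹) * g ∈ K
      have : g⁻¹ * (g * x * g⁻¹) * g = x := by group
      rw [this]; exact hx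
    · intro hy
      refine ⟨g⁻¹ * y * g, hy, ?_⟩
      show g * (g⁻¹ * y * g) * g⁻¹ = y
      group
  have hcen : ∀ (a y : G), y ∈ centralizer ({g * a * g⁻¹} : Set G) ↔
      g⁻¹ * y * g ∈ centralizer ({a} : Set G) := by
    intro a y
    rw [mem_centralizer_singleton, mem_centralizer_singleton]
    constructor
    · intro hy
      have : g⁻¹ * y * g * a = g⁻¹ * (y * (g * a * g⁻¹)) * g := by group
      rw [this, hy]; group
    · intro hy
      have : y * (g * a * g⁻¹) = g * (g⁻¹ * y * g * a) * g⁻¹ := by group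
      rw [this, hy]; group
  refine ⟨?_, ?_, ?_, ?_, ?_, ?_, ?_, ?_, ?_, ?_, ?_, h.conj⟩
  · have := orderOf_injective (MulAut.conj g).toMonoidHom (MulAut.conj g).injective t
    have e : (MulAut.conj g).toMonoidHom t = g * t * g⁻¹ := rfl
    rw [e] at this; rw [this]; exact h.ht
  · have := orderOf_injective (MulAut.conj g).toMonoidHom (MulAut.conj g).injective s
    have e : (MulAut.conj g).toMonoidHom s = g * s * g⁻¹ := rfl
    rw [e] at this; rw [this]; exact h.hs
  · intro a ha b hb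
    rw [hmem] at ha hb
    have := h.comm _ ha _ hb
    have e1 : a * b = g * ((g⁻¹ * a * g) * (g⁻¹ * b * g)) * g⁻¹ := by group
    rw [e1, this]; group
  · rw [hmem]
    have : g⁻¹ * (g * t * g⁻¹) * g = t := by group
    rw [this]; exact h.tK
  · intro y hy
    rw [hmem] at hy
    rw [hcen]
    exact h.KH hy
  · rw [hcen]
    have : g⁻¹ * (g * s * g⁻¹) * g = s := by group
    rw [this]; exact h.sH
  · rw [hmem]
    have : g⁻¹ * (g * s * g⁻¹) * g = s := by group
    rw [this]; exact h.sK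
  · ext y
    rw [hcen, ← h.hH]
    have hz : zpowers (g * s * g⁻¹) = (zpowers s).map (MulAut.conj g).toMonoidHom := by
      rw [MonoidHom.map_zpowers]; rfl
    rw [hz, ← Subgroup.map_sup]
    rw [mem_map]
    constructor
    · rintro ⟨x, hx, rfl⟩
      show g⁻¹ * (g * x * g⁻¹) * g ∈ _
      have : g⁻¹ * (g * x * g⁻¹) * g = x := by group
      rw [this]; exact hx
    · intro hy
      refine ⟨g⁻¹ * y * g, hy, ?_⟩
      show g * (g⁻¹ * y * g) * g⁻¹ = y
      group
  · ext y
    rw [mem_inf, hmem, hcen]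
    have hz : zpowers (g * t * g⁻¹) = (zpowers t).map (MulAut.conj g).toMonoidHom := by
      rw [MonoidHom.map_zpowers]; rfl
    rw [hz, ← h.hCK]
    rw [mem_map]
    constructor
    · rintro ⟨h1, h2⟩
      refine ⟨g⁻¹ * y * g, ⟨h1, h2⟩, ?_⟩
      show g * (g⁻¹ * y * g) * g⁻¹ = y
      group
    · rintro ⟨x, hx, rfl⟩
      have : g⁻¹ * ((MulAut.conj g).toMonoidHom x) * g = x := by
        show g⁻¹ * (g * x * g⁻¹) * g = x
        group
      rw [this]; exact hx
  · intro x hx
    rw [hmem] at hx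
    have := h.inv _ hx
    have e : g * s * g⁻¹ * x * (g * s * g⁻¹)⁻¹ = g * (s * (g⁻¹ * x * g) * s⁻¹) * g⁻¹ := by group
    rw [e, this]; group
  · intro y hy
    rw [hcen] at hy
    have := h.TI _ hy
    rw [eq_bot_iff] at this ⊢
    intro z hz
    rw [mem_bot]
    rw [mem_inf] at hz
    obtain ⟨hz1, hz2⟩ := hz
    rw [hmem] at hz1
    have hz3 : g⁻¹ * z * g ∈ K.map (MulAut.conj (g⁻¹ * y * g)).toMonoidHom := by
      rw [mem_map] at hz2 ⊢
      obtain ⟨x, hx, rfl⟩ := hz2
      rw [hmem] at hx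
      refine ⟨g⁻¹ * x * g, hx, ?_⟩
      show g⁻¹ * y * g * (g⁻¹ * x * g) * (g⁻¹ * y * g)⁻¹ = g⁻¹ * (y * x * y⁻¹) * g
      group
    have := this ⟨hz1, hz3⟩
    rw [mem_bot] at this
    have e : z = g * (g⁻¹ * z * g) * g⁻¹ := by group
    rw [e, this]; group

end Hyp

end Cfsg.Agent.Lib.Lead.BSW
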