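import Mathlib
import Cfsg.Agent.Lib.Lead.BSW0a
import Cfsg.Agent.Lib.Helper8.Sh3A

/-!
# Brauer–Suzuki–Wall, abstract form (towards S3282): the elementary facts, part b

(author: lead)  See `notes/BSW_blueprint.md`, §0.7, §0.8 (a)–(c): the elements lying in no conjugate of `K`, and the
centralisers of the strongly real ones.
-/

set_option autoImplicit false
set_option linter.unusedVariables false
set_option linter.unusedSectionVars false
set_option linter.style.haveILetI false
set_option linter.unusedSimpArgs false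

namespace Cfsg.Agent.Lib.Lead.BSW

open Subgroup

variable {G : Type*} [Group G] {t s : G} {K : Subgroup G}

/-- `g` lies in no conjugate of `K` -/
def InR (K : Subgroup G) (g : G) : Prop := ∀ x : G, x⁻¹ * g * x ∉ K

theorem InR.ne_one {g : G} (hg : InR K g) : g ≠ 1 := by
  intro h1
  apply hg 1
  rw [h1]; simp

theorem InR.conj {g : G} (hg : InR K g) (y : G) : InR K (y * g * y⁻¹) := by
  intro x hx
  apply hg (y⁻¹ * x)
  have : (y⁻¹ * x)⁻¹ * g * (y⁻¹ * x) = x⁻¹ * (y * g * y⁻¹) * x := by group
  rw [this]; exact hx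

theorem InR.inv {g : G} (hg : InR K g) : InR K g⁻¹ := by
  intro x hx
  apply hg x
  have : x⁻¹ * g * x = (x⁻¹ * g⁻¹ * x)⁻¹ := by group
  rw [this]; exact K.inv_mem hx

theorem InR.map {g : G} (hg : InR K g) (y : G) : InR (K.map (MulAut.conj y).toMonoidHom) g := by
  intro x hx
  rw [mem_map] at hx
  obtain ⟨z, hz, hzx⟩ := hx
  apply hg (x * y)
  have e : (MulAut.conj y).toMonoidHom z = y * z * y⁻¹ := rfl
  rw [e] at hzx
  have : (x * y)⁻¹ * g * (x * y) = z := by
    have : z = y⁻¹ * (x⁻¹ * g * x) * y := by rw [← hzx]; group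
    rw [this]; group
  rw [this]; exact hz

namespace Hyp

theorem exists_conj_eq (h : Hyp t s K) {u : G} (hu : orderOf u = 2) : ∃ x : G, u = x * t * x⁻¹ := by
  obtain ⟨c, hc⟩ := isConj_iff.1 (h.conj t u h.ht hu)
  exact ⟨c, hc.symm⟩

theorem not_inR_of_orderOf_two (h : Hyp t s K) {g : G} (hg : orderOf g = 2) : ¬ InR K g := by
  intro hR
  obtain ⟨x, hx⟩ := h.exists_conj_eq hg
  apply hR x
  rw [hx]
  have : x⁻¹ * (x * t * x⁻¹) * x = t := by group
  rw [this]; exact h.tK

/-- an element of `H = C(t)` in no conjugate of `K` does not exist -/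
theorem not_inR_of_mem_H (h : Hyp t s K) {g : G} (hg : g ∈ centralizer ({t} : Set G)) : ¬ InR K g := by
  intro hR
  rcases h.mem_H_iff.1 hg with hK | hKs
  · apply hR 1; simpa using hK
  · exact h.not_inR_of_orderOf_two (h.orderOf_of_mul_s_mem hKs) hR

/-- elements in no conjugate of `K` commute with no involution -/
theorem not_commute_invol (h : Hyp t s K) {g v : G} (hR : InR K g) (hv : orderOf v = 2)
    (hc : v * g = g * v) : False := by
  obtain ⟨x, hx⟩ := h.exists_conj_eq hv
  have hR' : InR K (x⁻¹ * g * x) := by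
    have := hR.conj x⁻¹
    rwa [inv_inv] at this
  apply h.not_inR_of_mem_H _ hR'
  rw [mem_centralizer_singleton]
  rw [hx] at hc
  have e1 : x⁻¹ * g * x * t = x⁻¹ * (g * (x * t * x⁻¹)) * x := by group
  have e2 : t * (x⁻¹ * g * x) = x⁻¹ * ((x * t * x⁻¹) * g) * x := by group
  rw [e1, e2, hc]

/-- for `g` in no conjugate of `K` and an involution `u`: `C(g) ∩ C(u) = 1` -/
theorem eq_one_of_commute (h : Hyp t s K) {g u a : G} (hR : InR K g) (hu : orderOf u = 2)
    (hag : a * g = g * a) (hau : a * u = u * a) : a = 1 := by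
  obtain ⟨x, hx⟩ := h.exists_conj_eq hu
  have h' := h.conj_hyp x
  rw [← hx] at h'
  have hR' : InR (K.map (MulAut.conj x).toMonoidHom) g := hR.map x
  by_contra ha1
  have haH : a ∈ centralizer ({u} : Set G) := mem_centralizer_singleton.2 hau
  rcases h'.mem_H_iff.1 haH with hK | hKs
  · -- a ∈ K_u^#, so g ∈ C(a) ≤ H_u
    have hgH := h'.mem_H_of_commute hK ha1 hag.symm
    exact h'.not_inR_of_mem_H hgH hR'
  · -- a is an involution commuting with g
    exact h'.not_commute_invol hR' (h'.orderOf_of_mul_s_mem hKs) hag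

variable [Finite G]

/-- §0.8(a): an involution inverting `g` inverts `C(g)` -/
theorem inverts_centralizer (h : Hyp t s K) {g u : G} (hR : InR K g) (hu : orderOf u = 2)
    (hinv : u * g * u⁻¹ = g⁻¹) : ∀ a ∈ centralizer ({g} : Set G), u * a * u⁻¹ = a⁻¹ := by
  have huu : u * u = 1 := mul_self_of_orderOf_two hu
  have huinv : u⁻¹ = u := inv_eq_self_of_orderOf_two hu
  have key := Cfsg.Agent.Lib.Helper8.Sh3.inv_of_fpf_on (MulAut.conj u)
    (by intro x; show u * (u * x * u⁻¹) * u⁻¹ = x; rw [huinv]; simp only [mul_assoc, huu, mul_one]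
        rw [← mul_assoc, huu, one_mul])
    (centralizer ({g} : Set G))
    (by
      intro y hy
      rw [mem_centralizer_singleton] at hy ⊢
      show u * y * u⁻¹ * g = g * (u * y * u⁻¹)
      -- conjugate the relation y g⁻¹ = g⁻¹ y by u
      have hy' : y * g⁻¹ = g⁻¹ * y := by
        have : g⁻¹ * (y * g) * g⁻¹ = g⁻¹ * (g * y) * g⁻¹ := by rw [hy]
        simp only [mul_assoc, mul_inv_cancel, mul_one, inv_mul_cancel_left] at this
        exact this.symm
      have hg' : g = u * g⁻¹ * u⁻¹ := by
        have e : (u * g * u⁻¹)⁻¹ = u * g⁻¹ * u⁻¹ := by group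
        rw [← e, hinv, inv_inv]
      have e1 : u * y * u⁻¹ * g = u * (y * g⁻¹) * u⁻¹ := by nth_rewrite 1 [hg']; group
      have e2 : g * (u * y * u⁻¹) = u * (g⁻¹ * y) * u⁻¹ := by nth_rewrite 1 [hg']; group
      rw [e1, e2, hy'])
    (by
      intro y hy hfix
      rw [mem_centralizer_singleton] at hy
      have hyu : y * u = u * y := by
        have : u * y * u⁻¹ = y := hfix
        calc y * u = (u * y * u⁻¹) * u := by rw [this]
          _ = u * y := by group
      exact h.eq_one_of_commute hR hu hy hyu)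
  intro a ha
  exact key a ha

/-- §0.8(a): `C(g)` is commutative -/
theorem centralizer_comm (h : Hyp t s K) {g u : G} (hR : InR K g) (hu : orderOf u = 2)
    (hinv : u * g * u⁻¹ = g⁻¹) :
    ∀ a ∈ centralizer ({g} : Set G), ∀ b ∈ centralizer ({g} : Set G), a * b = b * a := by
  intro a ha b hb
  have h1 := h.inverts_centralizer hR hu hinv a ha
  have h2 := h.inverts_centralizer hR hu hinv b hb
  have h3 := h.inverts_centralizer hR hu hinv (a * b) (mul_mem ha hb)
  have e : u * (a * b) * u⁻¹ = (u * a * u⁻¹) * (u * b * u⁻¹) := by group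
  rw [e, h1, h2, mul_inv_rev] at h3
  have := congrArg (fun z => z⁻¹) h3
  simp only [mul_inv_rev, inv_inv] at this
  exact this.symm

/-- §0.8(b): non-identity elements of `C(g)` lie in no conjugate of `K` -/
theorem inR_of_mem_centralizer (h : Hyp t s K) {g a : G} (hR : InR K g)
    (ha : a ∈ centralizer ({g} : Set G)) (ha1 : a ≠ 1) : InR K a := by
  intro x hx
  rw [mem_centralizer_singleton] at ha
  -- a' = x⁻¹ a x ∈ K^#, g' = x⁻¹ g x commutes with it
  have ha1' : x⁻¹ * a * x ≠ 1 := by
    intro h1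
    apply ha1
    have : a = x * (x⁻¹ * a * x) * x⁻¹ := by group
    rw [this, h1]; group
  have hc : (x⁻¹ * g * x) * (x⁻¹ * a * x) = (x⁻¹ * a * x) * (x⁻¹ * g * x) := by
    have e1 : (x⁻¹ * g * x) * (x⁻¹ * a * x) = x⁻¹ * (g * a) * x := by group
    have e2 : (x⁻¹ * a * x) * (x⁻¹ * g * x) = x⁻¹ * (a * g) * x := by group
    rw [e1, e2, ha]
  have hgH := h.mem_H_of_commute hx ha1' hc
  have hR' : InR K (x⁻¹ * g * x) := by
    have := hR.conj x⁻¹
    rwa [inv_inv] at this
  exact h.not_inR_of_mem_H hgH hR'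

/-- §0.8(b): `C(a) = C(g)` for `1 ≠ a ∈ C(g)` -/
theorem centralizer_eq (h : Hyp t s K) {g u a : G} (hR : InR K g) (hu : orderOf u = 2)
    (hinv : u * g * u⁻¹ = g⁻¹) (ha : a ∈ centralizer ({g} : Set G)) (ha1 : a ≠ 1) :
    centralizer ({a} : Set G) = centralizer ({g} : Set G) := by
  have hRa := h.inR_of_mem_centralizer hR ha ha1
  have hinva : u * a * u⁻¹ = a⁻¹ := h.inverts_centralizer hR hu hinv a ha
  have hgg : g ∈ centralizer ({g} : Set G) := mem_centralizer_singleton.2 rfl
  have hga : g ∈ centralizer ({a} : Set G) := by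
    rw [mem_centralizer_singleton] at ha ⊢
    exact ha.symm
  apply le_antisymm
  · intro y hy
    rw [mem_centralizer_singleton]
    exact h.centralizer_comm hRa hu hinva y hy g hga
  · intro y hy
    rw [mem_centralizer_singleton]
    exact h.centralizer_comm hR hu hinv y hy a ha

/-- §0.8(c): the involutions inverting `g` are the elements `a u`, `a ∈ C(g)` -/
theorem inverting_invol_iff (h : Hyp t s K) {g u v : G} (hR : InR K g) (hu : orderOf u = 2)
    (hinv : u * g * u⁻¹ = g⁻¹) :
    (orderOf v = 2 ∧ v * g * v⁻¹ = g⁻¹) ↔ ∃ a ∈ centralizer ({g} : Set G), v = a * u := by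
  have huu : u * u = 1 := mul_self_of_orderOf_two hu
  have huinv : u⁻¹ = u := inv_eq_self_of_orderOf_two hu
  constructor
  · rintro ⟨hv, hvinv⟩
    refine ⟨v * u, ?_, ?_⟩
    · rw [mem_centralizer_singleton]
      -- v u g = v g⁻¹ u = g v u
      have e1 : u * g = g⁻¹ * u := by
        calc u * g = (u * g * u⁻¹) * u := by group
          _ = g⁻¹ * u := by rw [hinv]
      have e2 : v * g⁻¹ = g * v := by
        have : v * g⁻¹ * v⁻¹ = g := by
          have e : (v * g * v⁻¹)⁻¹ = v * g⁻¹ * v⁻¹ := by group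
          rw [← e, hvinv, inv_inv]
        calc v * g⁻¹ = (v * g⁻¹ * v⁻¹) * v := by group
          _ = g * v := by rw [this]
      calc v * u * g = v * (u * g) := by group
        _ = v * (g⁻¹ * u) := by rw [e1]
        _ = (v * g⁻¹) * u := by group
        _ = g * v * u := by rw [e2]
        _ = g * (v * u) := by group
    · rw [mul_assoc, huu, mul_one]
  · rintro ⟨a, ha, rfl⟩
    have hai := h.inverts_centralizer hR hu hinv a ha
    have hne : a * u ≠ 1 := by
      intro h1
      -- then u = a⁻¹ ∈ C(g), an involution commuting with g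
      have : u = a⁻¹ := by
        have := eq_inv_of_mul_eq_one_right h1
        exact this
      apply h.not_commute_invol hR hu
      have hau : a⁻¹ ∈ centralizer ({g} : Set G) := inv_mem ha
      rw [mem_centralizer_singleton] at hau
      rw [this]; exact hau
    refine ⟨orderOf_two_of hne ?_, ?_⟩
    · -- a u a u = a (u a u⁻¹) = a a⁻¹
      have : a * u * (a * u) = a * (u * a * u⁻¹) := by rw [huinv]; group
      rw [this, hai, mul_inv_cancel]
    · rw [mem_centralizer_singleton] at ha
      have : a * u * g * (a * u)⁻¹ = a * (u * g * u⁻¹) * a⁻¹ := by group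
      rw [this, hinv]
      have ha' : a * g⁻¹ = g⁻¹ * a := by
        have : g⁻¹ * (a * g) * g⁻¹ = g⁻¹ * (g * a) * g⁻¹ := by rw [ha]
        simp only [mul_assoc, mul_inv_cancel, mul_one, inv_mul_cancel_left] at this
        exact this.symm
      rw [ha', mul_assoc, mul_inv_cancel, mul_one]

end Hyp

end Cfsg.Agent.Lib.Lead.BSW
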