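import Mathlib
import Cfsg.Agent.Lib.Lead.BSW0b

/-!
# Brauer–Suzuki–Wall, abstract form (towards S3282): the interface between the character theory and the group theory

(author: lead)  See `notes/BSW_blueprint.md`.  `beta g` is the number of ordered pairs of involutions with product `g`.
`BB1` is the outcome of the character theory for `|K| ≥ 4` (§2 of the blueprint); `BB3` is the bound on the number
of factorisations inside `U` (§3.3, §3.4) needed when `δ = -1`.
-/

set_option autoImplicit false
set_option linter.unusedVariables false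
set_option linter.unusedSectionVars false
set_option linter.style.haveILetI false

namespace Cfsg.Agent.Lib.Lead.BSW

open Subgroup

variable {G : Type*} [Group G]

/-- the number of ordered pairs of involutions with product `g` -/
noncomputable def beta (g : G) : ℕ :=
  Nat.card {p : G × G // orderOf p.1 = 2 ∧ orderOf p.2 = 2 ∧ p.1 * p.2 = g}

/-- the elements in no conjugate of `K` which are not a product of two involutions -/
def InU (K : Subgroup G) (g : G) : Prop := InR K g ∧ beta g = 0

/-- outcome of the character theory for `|K| ≥ 4` -/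
def BB1 (K : Subgroup G) (q : ℕ) (δ : ℤ) : Prop :=
  (δ = 1 ∨ δ = -1) ∧ (q : ℤ) = 2 * (Nat.card K : ℤ) + δ ∧
  2 * Nat.card G = q * (q + 1) * (q - 1) ∧
  (∀ g : G, InR K g →
    (δ = 1 → beta g = q ∨ 2 * beta g = q + 1) ∧ (δ = -1 → beta g = 0 ∨ 2 * beta g + 1 = q)) ∧
  Nat.card {g : G // InR K g ∧ ((δ = 1 ∧ beta g = q) ∨ (δ = -1 ∧ beta g = 0))} = q ^ 2 - 1

/-- the bound on the number of factorisations inside `U` (case `δ = -1`) -/
def BB3 (K : Subgroup G) (q : ℕ) : Prop :=
  ∀ g : G, InU K g →
    Nat.card {p : G × G // InU K p.1 ∧ InU K p.2 ∧ p.1 * p.2 = g} ≤ 2 * (q - 1)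

end Cfsg.Agent.Lib.Lead.BSW
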