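import Mathlib
import Cfsg.Agent.Lib.Lead.BSW0c

/-!
# Brauer–Suzuki–Wall, abstract form (towards S3282): the elementary facts, part d

(author: lead)  See `notes/BSW_blueprint.md`, §0.8 (c), (d): for `g` in no conjugate of `K`, inverted by the
involution `u`, with `A = C(g)`: `beta g = |A|`, `N(A) = A · (N(A) ∩ C(u))`, `N(A) ∩ C(u) ≤ K_u`.
-/

set_option autoImplicit false
set_option linter.unusedVariables false
set_option linter.unusedSectionVars false
set_option linter.style.haveILetI false
set_option linter.unusedSimpArgs false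

namespace Cfsg.Agent.Lib.Lead.BSW

open Subgroup

variable {G : Type*} [Group G] {t s : G} {K : Subgroup G}

namespace Hyp

variable [Finite G]

/-- a factorisation `g = v v'` into involutions: `v` inverts `g` -/
theorem inverts_of_factor {g v v' : G} (hv : orderOf v = 2) (hv' : orderOf v' = 2) (hvv : v * v' = g) :
    v * g * v⁻¹ = g⁻¹ := by
  have h1 : v * v = 1 := mul_self_of_orderOf_two hv
  have h2 : v' * v' = 1 := mul_self_of_orderOf_two hv'
  have hi : v⁻¹ = v := inv_eq_self_of_orderOf_two hv
  have hi' : v'⁻¹ = v' := inv_eq_self_of_orderOf_two hv'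
  rw [← hvv, mul_inv_rev, hi, hi']
  calc v * (v * v') * v = (v * v) * v' * v := by group
    _ = v' * v := by rw [h1, one_mul]

/-- §0.8(c): `beta g = |C(g)|` -/
theorem beta_eq_card_centralizer (h : Hyp t s K) {g u : G} (hR : InR K g) (hu : orderOf u = 2)
    (hinv : u * g * u⁻¹ = g⁻¹) : beta g = Nat.card (centralizer ({g} : Set G)) := by
  have huu : u * u = 1 := mul_self_of_orderOf_two hu
  have huinv : u⁻¹ = u := inv_eq_self_of_orderOf_two hu
  unfold beta
  apply Nat.card_congr
  refine
    { toFun := fun p => ⟨p.1.1 * u, ?_⟩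
      invFun := fun a => ⟨((a : G) * u, ((a : G) * u)⁻¹ * g), ?_⟩
      left_inv := ?_
      right_inv := ?_ }
  · obtain ⟨h1, h2, h3⟩ := p.2
    have := (h.inverting_invol_iff hR hu hinv).1 ⟨h1, inverts_of_factor h1 h2 h3⟩
    obtain ⟨a, ha, hva⟩ := this
    rw [hva, mul_assoc, huu, mul_one]; exact ha
  · have hv := (h.inverting_invol_iff (v := (a : G) * u) hR hu hinv).2 ⟨a, a.2, rfl⟩
    obtain ⟨hv2, hvinv⟩ := hv
    have hvv : (a : G) * u * ((a : G) * u) = 1 := mul_self_of_orderOf_two hv2
    have hvi : ((a : G) * u)⁻¹ = (a : G) * u := inv_eq_self_of_orderOf_two hv2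
    refine ⟨hv2, ?_, ?_⟩
    · show orderOf (((a : G) * u)⁻¹ * g) = 2
      rw [hvi]
      set v := (a : G) * u with hvdef
      have e1 : v * g = g⁻¹ * v := by
        calc v * g = (v * g * v⁻¹) * v := by group
          _ = g⁻¹ * v := by rw [hvinv]
      apply orderOf_two_of
      · intro h1
        -- then g = v⁻¹ = v is an involution
        have : g = v := by
          have := eq_inv_of_mul_eq_one_right h1
          rw [this, hvi]
        rw [this] at hR
        exact h.not_inR_of_orderOf_two hv2 hR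
      · calc v * g * (v * g) = v * g * (g⁻¹ * v) := by rw [e1]
          _ = v * v := by group
          _ = 1 := hvv
    · show (a : G) * u * (((a : G) * u)⁻¹ * g) = g
      group
  · intro p
    obtain ⟨h1, h2, h3⟩ := p.2
    apply Subtype.ext
    apply Prod.ext
    · show p.1.1 * u * u = p.1.1
      rw [mul_assoc, huu, mul_one]
    · show (p.1.1 * u * u)⁻¹ * g = p.1.2
      rw [mul_assoc, huu, mul_one]
      have : g = p.1.1 * p.1.2 := h3.symm
      calc (p.1.1)⁻¹ * g = (p.1.1)⁻¹ * (p.1.1 * p.1.2) := by rw [← this]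
        _ = p.1.2 := by group
  · intro a
    apply Subtype.ext
    show (a : G) * u * u = a
    rw [mul_assoc, huu, mul_one]

/-- square roots in `C(g)` -/
theorem exists_sq_eq (h : Hyp t s K) {g u : G} (hR : InR K g) (hu : orderOf u = 2)
    (hinv : u * g * u⁻¹ = g⁻¹) (a : G) (ha : a ∈ centralizer ({g} : Set G)) :
    ∃ c ∈ centralizer ({g} : Set G), c * c = a := by
  set A := centralizer ({g} : Set G) with hA
  have hcomm := h.centralizer_comm hR hu hinv
  let f : A → A := fun x => x * x
  have hinj : Function.Injective f := by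
    intro x y hxy
    have hxy' : (x : G) * x = y * y := congrArg Subtype.val hxy
    -- (x y⁻¹)² = 1
    have hc := hcomm x x.2 y⁻¹ (inv_mem y.2)
    have hsq : ((x : G) * (y : G)⁻¹) * ((x : G) * (y : G)⁻¹) = 1 := by
      calc ((x : G) * (y : G)⁻¹) * ((x : G) * (y : G)⁻¹)
          = (x : G) * ((y : G)⁻¹ * x) * (y : G)⁻¹ := by group
        _ = (x : G) * (x * (y : G)⁻¹) * (y : G)⁻¹ := by rw [hc]
        _ = ((x : G) * x) * ((y : G)⁻¹ * (y : G)⁻¹) := by group
        _ = 1 := by rw [hxy']; group
    by_contra hne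
    have hne1 : (x : G) * (y : G)⁻¹ ≠ 1 := by
      intro h1
      apply hne
      apply Subtype.ext
      exact mul_inv_eq_one.1 h1
    have ho := orderOf_two_of hne1 hsq
    have hm : (x : G) * (y : G)⁻¹ ∈ A := mul_mem x.2 (inv_mem y.2)
    have hm' : (x : G) * (y : G)⁻¹ ∈ centralizer ({g} : Set G) := hm
    rw [mem_centralizer_singleton] at hm'
    exact h.not_commute_invol hR ho hm'
  have hsurj := Finite.injective_iff_surjective.1 hinj
  obtain ⟨c, hc⟩ := hsurj ⟨a, ha⟩
  exact ⟨c, c.2, congrArg Subtype.val hc⟩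

/-- an involution normalising `C(g)` inverts `g` -/
theorem inverts_of_normalizes (h : Hyp t s K) {g u v : G} (hR : InR K g) (hu : orderOf u = 2)
    (hinv : u * g * u⁻¹ = g⁻¹) (hv : orderOf v = 2)
    (hvN : v ∈ normalizer (centralizer ({g} : Set G) : Set G)) : v * g * v⁻¹ = g⁻¹ := by
  have hvv : v * v = 1 := mul_self_of_orderOf_two hv
  have hvi : v⁻¹ = v := inv_eq_self_of_orderOf_two hv
  have key := Cfsg.Agent.Lib.Helper8.Sh3.inv_of_fpf_on (MulAut.conj v)
    (by intro x; show v * (v * x * v⁻¹) * v⁻¹ = x; rw [hvi]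
        calc v * (v * x * v) * v = (v * v) * x * (v * v) := by group
          _ = x := by rw [hvv, one_mul, mul_one])
    (centralizer ({g} : Set G))
    (by
      intro y hy
      exact (mem_normalizer_iff.1 hvN y).1 hy)
    (by
      intro y hy hfix
      rw [mem_centralizer_singleton] at hy
      have hyv : y * v = v * y := by
        have : v * y * v⁻¹ = y := hfix
        calc y * v = (v * y * v⁻¹) * v := by rw [this]
          _ = v * y := by group
      exact h.eq_one_of_commute hR hv hy hyv)
  exact key g (mem_centralizer_singleton.2 rfl)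

/-- §0.8(d): `N(A) = A · C_{N(A)}(u)` -/
theorem normalizer_factor (h : Hyp t s K) {g u : G} (hR : InR K g) (hu : orderOf u = 2)
    (hinv : u * g * u⁻¹ = g⁻¹) {y : G} (hy : y ∈ normalizer (centralizer ({g} : Set G) : Set G)) :
    ∃ c ∈ centralizer ({g} : Set G), (c⁻¹ * y) * u = u * (c⁻¹ * y) := by
  have huu : u * u = 1 := mul_self_of_orderOf_two hu
  have huinv : u⁻¹ = u := inv_eq_self_of_orderOf_two hu
  -- v = y u y⁻¹ is an involution normalising A
  have hv : orderOf (y * u * y⁻¹) = 2 := by
    have := orderOf_injective (MulAut.conj y).toMonoidHom (MulAut.conj y).injective u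
    have e : (MulAut.conj y).toMonoidHom u = y * u * y⁻¹ := rfl
    rw [e] at this; rw [this]; exact hu
  have huN : u ∈ normalizer (centralizer ({g} : Set G) : Set G) := by
    rw [mem_normalizer_iff]
    intro a
    have hstab : ∀ b ∈ centralizer ({g} : Set G), u * b * u⁻¹ ∈ centralizer ({g} : Set G) := by
      intro b hb
      rw [h.inverts_centralizer hR hu hinv b hb]; exact inv_mem hb
    constructor
    · exact hstab a
    · intro ha
      have := hstab _ ha
      have e : u * (u * a * u⁻¹) * u⁻¹ = a := by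
        rw [huinv]
        calc u * (u * a * u) * u = (u * u) * a * (u * u) := by group
          _ = a := by rw [huu, one_mul, mul_one]
      rwa [e] at this
  have hvN : y * u * y⁻¹ ∈ normalizer (centralizer ({g} : Set G) : Set G) :=
    mul_mem (mul_mem hy huN) (inv_mem hy)
  have hvinv := h.inverts_of_normalizes hR hu hinv hv hvN
  obtain ⟨a, ha, hva⟩ := (h.inverting_invol_iff hR hu hinv).1 ⟨hv, hvinv⟩
  obtain ⟨c, hc, hcc⟩ := h.exists_sq_eq hR hu hinv a ha
  refine ⟨c, hc, ?_⟩
  -- c u c⁻¹ = c c u = a u = y u y⁻¹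
  have hci := h.inverts_centralizer hR hu hinv c hc
  have e1 : c * u * c⁻¹ = a * u := by
    have : u * c⁻¹ = c * u := by
      have e : u * c⁻¹ * u⁻¹ = c := by
        have e' : (u * c * u⁻¹)⁻¹ = u * c⁻¹ * u⁻¹ := by group
        rw [← e', hci, inv_inv]
      calc u * c⁻¹ = (u * c⁻¹ * u⁻¹) * u := by group
        _ = c * u := by rw [e]
    calc c * u * c⁻¹ = c * (u * c⁻¹) := by group
      _ = c * (c * u) := by rw [this]
      _ = (c * c) * u := by group
      _ = a * u := by rw [hcc]
  have e2 : y * u * y⁻¹ = c * u * c⁻¹ := by rw [e1, hva]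
  calc c⁻¹ * y * u = c⁻¹ * (y * u * y⁻¹) * y := by group
    _ = c⁻¹ * (c * u * c⁻¹) * y := by rw [e2]
    _ = u * (c⁻¹ * y) := by group

/-- §0.8(d): `N(A) ∩ C(u) ≤ K_u` -/
theorem normalizer_inf_le (h : Hyp t s K) {g u x : G} (hR : InR K g) (hu : orderOf u = 2)
    (hinv : u * g * u⁻¹ = g⁻¹) (hx : u = x * t * x⁻¹) {y : G}
    (hy : y ∈ normalizer (centralizer ({g} : Set G) : Set G)) (hyu : y * u = u * y) :
    y ∈ K.map (MulAut.conj x).toMonoidHom := by
  have h' := h.conj_hyp x
  rw [← hx] at h'
  have hR' : InR (K.map (MulAut.conj x).toMonoidHom) g := hR.map x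
  have hyH : y ∈ centralizer ({u} : Set G) := mem_centralizer_singleton.2 hyu
  rcases h'.mem_H_iff.1 hyH with hK | hKs
  · exact hK
  · exfalso
    have hyo := h'.orderOf_of_mul_s_mem hKs
    have hyinv := h.inverts_of_normalizes hR hu hinv hyo hy
    obtain ⟨a, ha, hya⟩ := (h.inverting_invol_iff hR hu hinv).1 ⟨hyo, hyinv⟩
    have huu : u * u = 1 := mul_self_of_orderOf_two hu
    -- a = y u commutes with u and g
    have hau : a * u = u * a := by
      have e : a = y * u := by rw [hya, mul_assoc, huu, mul_one]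
      rw [e]
      calc y * u * u = u * y * u := by rw [hyu]
        _ = u * (y * u) := by group
    rw [mem_centralizer_singleton] at ha
    have ha1 := h.eq_one_of_commute hR hu ha hau
    rw [ha1, one_mul] at hya
    -- y = u ∈ K_u but y s' ∈ K_u, so s' ∈ K_u
    rw [hya] at hKs
    have : x * s * x⁻¹ ∈ K.map (MulAut.conj x).toMonoidHom := by
      have hu' : u ∈ K.map (MulAut.conj x).toMonoidHom := h'.tK
      have := mul_mem (inv_mem hu') hKs
      rwa [← mul_assoc, inv_mul_cancel, one_mul] at this
    exact h'.sK this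

end Hyp

end Cfsg.Agent.Lib.Lead.BSW
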