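import Mathlib
import Cfsg.Agent.Lib.Lead.BSW0d

/-!
# Brauer–Suzuki–Wall, abstract form (towards S3282): the elementary facts, part e

(author: lead)  See `notes/BSW_blueprint.md`, §0.1, §0.3, §0.5: `|H| = 2 |K|`, `H` normalises `K`, `N(X) = H` for
`1 ≠ X ≤ K`, and `beta x = |K|` for `x ∈ K^#`.
-/

set_option autoImplicit false
set_option linter.unusedVariables false
set_option linter.unusedSectionVars false
set_option linter.style.haveILetI false
set_option linter.unusedSimpArgs false

namespace Cfsg.Agent.Lib.Lead.BSW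

open Subgroup

variable {G : Type*} [Group G] {t s : G} {K : Subgroup G}

namespace Hyp

/-- `|H| = 2 |K|` -/
theorem card_H (h : Hyp t s K) : Nat.card (centralizer ({t} : Set G)) = 2 * Nat.card K := by
  have h2 : K.relIndex (centralizer ({t} : Set G)) = 2 := by
    rw [relIndex_eq_two_iff]
    refine ⟨s, h.sH, ?_⟩
    intro b hb
    rcases h.mem_H_iff.1 hb with hK | hKs
    · right
      refine ⟨hK, ?_⟩
      intro hbs
      apply h.sK
      have := mul_mem (inv_mem hK) hbs
      rwa [← mul_assoc, inv_mul_cancel, one_mul] at this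
    · left
      refine ⟨hKs, ?_⟩
      intro hK
      apply h.sK
      have := mul_mem (inv_mem hK) hKs
      rwa [← mul_assoc, inv_mul_cancel, one_mul] at this
  have := relIndex_mul_relIndex (⊥ : Subgroup G) K (centralizer ({t} : Set G)) bot_le h.KH
  rw [relIndex_bot_left, relIndex_bot_left, h2] at this
  omega

/-- `H` normalises `K` (elementwise) -/
theorem conj_mem_K (h : Hyp t s K) {g x : G} (hg : g ∈ centralizer ({t} : Set G)) (hx : x ∈ K) :
    g * x * g⁻¹ ∈ K := by
  rcases h.mem_H_iff.1 hg with hK | hKs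
  · exact mul_mem (mul_mem hK hx) (inv_mem hK)
  · rw [h.inv_of_mul_s_mem hKs hx]; exact inv_mem hx

/-- `H` normalises every subgroup of `K` (elementwise) -/
theorem conj_mem_of_le (h : Hyp t s K) {X : Subgroup G} (hX : X ≤ K) {g x : G}
    (hg : g ∈ centralizer ({t} : Set G)) (hx : x ∈ X) : g * x * g⁻¹ ∈ X := by
  rcases h.mem_H_iff.1 hg with hK | hKs
  · have hc := h.comm g hK x (hX hx)
    rw [hc, mul_assoc, mul_inv_cancel, mul_one]; exact hx
  · rw [h.inv_of_mul_s_mem hKs (hX hx)]; exact inv_mem hx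

/-- `N_G(X) = H` for `1 ≠ X ≤ K` -/
theorem normalizer_eq (h : Hyp t s K) {X : Subgroup G} (hX : X ≤ K) (hX1 : X ≠ ⊥) :
    normalizer (X : Set G) = centralizer ({t} : Set G) := by
  apply le_antisymm
  · intro g hg
    by_contra hn
    have hTI := h.TI g hn
    obtain ⟨x, hx1⟩ := (Subgroup.ne_bot_iff_exists_ne_one).1 hX1
    have hx' : (x : G) ∈ X := x.2
    have hx1' : (x : G) ≠ 1 := fun e => hx1 (Subtype.ext e)
    have hm : g * x * g⁻¹ ∈ K ⊓ K.map (MulAut.conj g).toMonoidHom := by
      refine mem_inf.2 ⟨hX ((mem_normalizer_iff.1 hg x).1 hx'), ?_⟩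
      rw [mem_map]
      exact ⟨x, hX hx', rfl⟩
    rw [hTI, mem_bot] at hm
    apply hx1'
    have : (x : G) = g⁻¹ * (g * x * g⁻¹) * g := by group
    rw [this, hm]; group
  · intro g hg
    rw [mem_normalizer_iff]
    intro x
    constructor
    · intro hx; exact h.conj_mem_of_le hX hg hx
    · intro hx
      have := h.conj_mem_of_le hX (inv_mem hg) hx
      have e : g⁻¹ * (g * x * g⁻¹) * g⁻¹⁻¹ = x := by group
      rwa [e] at this

/-- an element inverting `x ∈ K^#` lies in `H` -/
theorem mem_H_of_inverts (h : Hyp t s K) {x g : G} (hx : x ∈ K) (hx1 : x ≠ 1)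
    (hg : g * x * g⁻¹ = x⁻¹) : g ∈ centralizer ({t} : Set G) := by
  by_contra hn
  have hTI := h.TI g hn
  have hm : x⁻¹ ∈ K ⊓ K.map (MulAut.conj g).toMonoidHom := by
    refine mem_inf.2 ⟨inv_mem hx, ?_⟩
    rw [mem_map]
    exact ⟨x, hx, hg⟩
  rw [hTI, mem_bot] at hm
  exact hx1 (inv_eq_one.1 hm)

/-- §0.5: `beta x = |K|` for `x ∈ K^#` -/
theorem beta_eq_card_K [Finite G] (h : Hyp t s K) {x : G} (hx : x ∈ K) (hx1 : x ≠ 1) : beta x = Nat.card K := by
  unfold beta
  apply Nat.card_congr
  -- every first factor lies in `K s`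
  have key : ∀ p : G × G, orderOf p.1 = 2 → orderOf p.2 = 2 → p.1 * p.2 = x → p.1 * s ∈ K := by
    intro p h1 h2 h3
    have hinv := inverts_of_factor h1 h2 h3
    have hH := h.mem_H_of_inverts hx hx1 hinv
    rcases h.mem_H_iff.1 hH with hK | hKs
    · exfalso
      -- p.1 ∈ K is an involution, so p.1 = t; it commutes with x, so x² = 1, x = t, p.2 = 1
      have h11 := mul_self_of_orderOf_two h1
      rcases h.eq_t_of_mem_of_sq hK h11 with e | e
      · exact ne_one_of_orderOf_two h1 e
      · have hc := h.comm p.1 hK x hx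
        rw [hc, mul_assoc, mul_inv_cancel, mul_one] at hinv
        have hxx : x * x = 1 := by
          nth_rewrite 1 [hinv]; exact inv_mul_cancel x
        rcases h.eq_t_of_mem_of_sq hx hxx with e' | e'
        · exact hx1 e'
        · apply ne_one_of_orderOf_two h2
          have : p.2 = p.1⁻¹ * x := by rw [← h3]; group
          rw [this, e, e', h.tinv, h.tt]
    · exact hKs
  refine
    { toFun := fun p => ⟨p.1.1 * s, key p.1 p.2.1 p.2.2.1 p.2.2.2⟩
      invFun := fun y => ⟨((y : G) * s, ((y : G) * s)⁻¹ * x), ?_⟩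
      left_inv := ?_
      right_inv := ?_ }
  · have hys : (y : G) * s * s ∈ K := by rw [mul_assoc, h.ss, mul_one]; exact y.2
    have ho := h.orderOf_of_mul_s_mem hys
    have hvv := mul_self_of_orderOf_two ho
    have hvi := inv_eq_self_of_orderOf_two ho
    have hinv := h.inv_of_mul_s_mem hys hx
    refine ⟨ho, ?_, ?_⟩
    · show orderOf (((y : G) * s)⁻¹ * x) = 2
      rw [hvi]
      set v := (y : G) * s with hv
      have e1 : v * x = x⁻¹ * v := by
        calc v * x = (v * x * v⁻¹) * v := by group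
          _ = x⁻¹ * v := by rw [hinv]
      apply orderOf_two_of
      · intro h1
        -- v = x⁻¹ ∈ K, so s ∈ K
        have hvK : v ∈ K := by
          have : v = x⁻¹ := by
            have := eq_inv_of_mul_eq_one_left h1
            exact this
          rw [this]; exact inv_mem hx
        apply h.sK
        have := mul_mem (inv_mem y.2) hvK
        rwa [hv, ← mul_assoc, inv_mul_cancel, one_mul] at this
      · calc v * x * (v * x) = v * x * (x⁻¹ * v) := by rw [e1]
          _ = v * v := by group
          _ = 1 := hvv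
    · show (y : G) * s * (((y : G) * s)⁻¹ * x) = x
      group
  · intro p
    obtain ⟨h1, h2, h3⟩ := p.2
    apply Subtype.ext
    apply Prod.ext
    · show p.1.1 * s * s = p.1.1
      rw [mul_assoc, h.ss, mul_one]
    · show (p.1.1 * s * s)⁻¹ * x = p.1.2
      rw [mul_assoc, h.ss, mul_one]
      have : x = p.1.1 * p.1.2 := h3.symm
      calc (p.1.1)⁻¹ * x = (p.1.1)⁻¹ * (p.1.1 * p.1.2) := by rw [← this]
        _ = p.1.2 := by group
  · intro y
    apply Subtype.ext
    show (y : G) * s * s = y
    rw [mul_assoc, h.ss, mul_one]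

end Hyp

end Cfsg.Agent.Lib.Lead.BSW
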