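import Mathlib
import Cfsg.Agent.Lib.Lead.BSW0e

/-!
# Brauer–Suzuki–Wall, abstract form (towards S3282): the elementary facts, part f (counting)

(author: lead)  See `notes/BSW_blueprint.md`, §0.4: the number `i` of involutions is `|G| / (2 |K|)`, and the number
of non-identity elements lying in some conjugate of `K` is `(|K| - 1) · i`.
-/

set_option autoImplicit false
set_option linter.unusedVariables false
set_option linter.unusedSectionVars false
set_option linter.style.haveILetI false
set_option linter.unusedSimpArgs false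

namespace Cfsg.Agent.Lib.Lead.BSW

open Subgroup

variable {G : Type*} [Group G] {t s : G} {K : Subgroup G}

namespace Hyp

/-- the involutions correspond to the cosets of `H = C(t)` -/
noncomputable def involEquiv (h : Hyp t s K) :
    (G ⧸ centralizer ({t} : Set G)) ≃ {u : G // orderOf u = 2} := by
  refine Equiv.ofBijective
    (fun c => Quotient.liftOn' c (fun x => (⟨x * t * x⁻¹, ?_⟩ : {u : G // orderOf u = 2})) ?_) ⟨?_, ?_⟩
  · have := orderOf_injective (MulAut.conj x).toMonoidHom (MulAut.conj x).injective t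
    have e : (MulAut.conj x).toMonoidHom t = x * t * x⁻¹ := rfl
    rw [e] at this; rw [this]; exact h.ht
  · intro x y hxy
    rw [QuotientGroup.leftRel_apply, mem_centralizer_singleton] at hxy
    apply Subtype.ext
    show x * t * x⁻¹ = y * t * y⁻¹
    have : y * t * y⁻¹ = x * (x⁻¹ * y * t) * (x⁻¹ * y)⁻¹ * x⁻¹ := by group
    rw [this, hxy]; group
  · intro c d
    induction c using Quotient.inductionOn' with | _ x => ?_
    induction d using Quotient.inductionOn' with | _ y => ?_
    intro hcd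
    have hcd' : x * t * x⁻¹ = y * t * y⁻¹ := congrArg Subtype.val hcd
    apply Quotient.sound'
    rw [QuotientGroup.leftRel_apply, mem_centralizer_singleton]
    have : x⁻¹ * y * t = x⁻¹ * (y * t * y⁻¹) * y := by group
    rw [this, ← hcd']; group
  · rintro ⟨u, hu⟩
    obtain ⟨x, hx⟩ := h.exists_conj_eq hu
    refine ⟨QuotientGroup.mk x, ?_⟩
    apply Subtype.ext
    exact hx.symm

/-- `i · 2|K| = |G|` -/
theorem card_invol_mul (h : Hyp t s K) :
    Nat.card {u : G // orderOf u = 2} * (2 * Nat.card K) = Nat.card G := by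
  rw [← h.card_H, ← Nat.card_congr h.involEquiv]
  exact (Subgroup.card_eq_card_quotient_mul_card_subgroup (centralizer ({t} : Set G))).symm

/-- the non-identity elements lying in a conjugate of `K` -/
noncomputable def conjKEquiv (h : Hyp t s K) :
    ((G ⧸ centralizer ({t} : Set G)) × {y : K // y ≠ 1}) ≃ {g : G // g ≠ 1 ∧ ¬ InR K g} := by
  refine Equiv.ofBijective
    (fun p => ⟨(Quotient.out p.1 : G) * (p.2.1 : G) * (Quotient.out p.1 : G)⁻¹, ?_, ?_⟩) ⟨?_, ?_⟩
  · intro h1
    apply p.2.2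
    apply Subtype.ext
    have : ((p.2.1 : K) : G) = (Quotient.out p.1 : G)⁻¹ *
        ((Quotient.out p.1 : G) * (p.2.1 : G) * (Quotient.out p.1 : G)⁻¹) * (Quotient.out p.1 : G) := by
      group
    rw [this, h1]
    show (Quotient.out p.1 : G)⁻¹ * 1 * (Quotient.out p.1 : G) = 1
    group
  · intro hR
    apply hR (Quotient.out p.1 : G)
    have : (Quotient.out p.1 : G)⁻¹ *
        ((Quotient.out p.1 : G) * (p.2.1 : G) * (Quotient.out p.1 : G)⁻¹) * (Quotient.out p.1 : G)
        = (p.2.1 : G) := by group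
    rw [this]; exact p.2.1.2
  · rintro ⟨c, y⟩ ⟨c', y'⟩ hpp
    have hpp' : (Quotient.out c : G) * (y.1 : G) * (Quotient.out c : G)⁻¹
        = (Quotient.out c' : G) * (y'.1 : G) * (Quotient.out c' : G)⁻¹ := congrArg Subtype.val hpp
    set x := (Quotient.out c : G) with hx
    set x' := (Quotient.out c' : G) with hx'
    -- z = x'⁻¹ x conjugates y to y'
    have hz : (x'⁻¹ * x) * (y.1 : G) * (x'⁻¹ * x)⁻¹ = (y'.1 : G) := by
      have : (x'⁻¹ * x) * (y.1 : G) * (x'⁻¹ * x)⁻¹ = x'⁻¹ * (x * (y.1 : G) * x⁻¹) * x' := by group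
      rw [this, hpp']; group
    have hy1 : (y.1 : G) ≠ 1 := fun e => y.2 (Subtype.ext e)
    have hy'1 : (y'.1 : G) ≠ 1 := fun e => y'.2 (Subtype.ext e)
    have hzH : x'⁻¹ * x ∈ centralizer ({t} : Set G) := by
      by_contra hn
      have hTI := h.TI _ hn
      have hm : (y'.1 : G) ∈ K ⊓ K.map (MulAut.conj (x'⁻¹ * x)).toMonoidHom := by
        refine mem_inf.2 ⟨y'.1.2, ?_⟩
        rw [mem_map]
        exact ⟨y.1, y.1.2, hz⟩
      rw [hTI, mem_bot] at hm
      exact hy'1 hm
    have hcc : c = c' := by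
      have e1 : c' = QuotientGroup.mk x' := (Quotient.out_eq' c').symm
      have e2 : c = QuotientGroup.mk x := (Quotient.out_eq' c).symm
      rw [e1, e2]
      exact (QuotientGroup.eq.2 hzH).symm
    subst hcc
    have hyy : (y.1 : G) = (y'.1 : G) := by
      have : x'⁻¹ * x = 1 := by rw [hx, hx']; group
      rw [this] at hz
      simpa using hz
    have : y = y' := Subtype.ext (Subtype.ext hyy)
    rw [this]
  · rintro ⟨g, hg1, hgR⟩
    have hgR' : ∃ x : G, x⁻¹ * g * x ∈ K := by
      by_contra hne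
      apply hgR
      intro x hx
      exact hne ⟨x, hx⟩
    obtain ⟨x, hx⟩ := hgR'
    set c : G ⧸ centralizer ({t} : Set G) := QuotientGroup.mk x with hc
    -- c.out = x * h₀ with h₀ ∈ H
    have hout : x⁻¹ * (Quotient.out c : G) ∈ centralizer ({t} : Set G) := by
      have : (QuotientGroup.mk (Quotient.out c : G) : G ⧸ centralizer ({t} : Set G)) = QuotientGroup.mk x :=
        Quotient.out_eq' c
      exact QuotientGroup.eq.1 this.symm
    set h₀ := x⁻¹ * (Quotient.out c : G) with hh₀
    have hyK : h₀⁻¹ * (x⁻¹ * g * x) * h₀⁻¹⁻¹ ∈ K := h.conj_mem_K (inv_mem hout) hx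
    have hy1 : (⟨h₀⁻¹ * (x⁻¹ * g * x) * h₀⁻¹⁻¹, hyK⟩ : K) ≠ 1 := by
      intro e
      have e' : h₀⁻¹ * (x⁻¹ * g * x) * h₀⁻¹⁻¹ = 1 := congrArg Subtype.val e
      apply hg1
      have : g = x * h₀ * (h₀⁻¹ * (x⁻¹ * g * x) * h₀⁻¹⁻¹) * (x * h₀)⁻¹ := by group
      rw [this, e']; group
    refine ⟨(c, ⟨⟨h₀⁻¹ * (x⁻¹ * g * x) * h₀⁻¹⁻¹, hyK⟩, hy1⟩), ?_⟩
    apply Subtype.ext
    show (Quotient.out c : G) * (h₀⁻¹ * (x⁻¹ * g * x) * h₀⁻¹⁻¹) * (Quotient.out c : G)⁻¹ = g
    have : (Quotient.out c : G) = x * h₀ := by rw [hh₀]; group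
    rw [this]; group

/-- the number of non-identity elements lying in a conjugate of `K` is `(|K| - 1) · i` -/
theorem card_conjK [Finite G] (h : Hyp t s K) :
    Nat.card {g : G // g ≠ 1 ∧ ¬ InR K g}
      = (Nat.card K - 1) * Nat.card {u : G // orderOf u = 2} := by
  rw [← Nat.card_congr h.conjKEquiv, Nat.card_prod, Nat.card_congr h.involEquiv, mul_comm]
  congr 1
  have : Nat.card {y : K // y ≠ 1} = Nat.card K - 1 := by
    classical
    haveI : Fintype K := Fintype.ofFinite K
    rw [Nat.card_eq_fintype_card, Nat.card_eq_fintype_card, Fintype.card_subtype_compl, Fintype.card_subtype_eq]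
  exact this

end Hyp

end Cfsg.Agent.Lib.Lead.BSW
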