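import Cfsg.Agent.Lib.Lead.AutPSLCountC
import Cfsg.Agent.S2602
import Mathlib

/-!
# `|Aut(PSL_n(q))|` and the structure of `Out(PSL_n(q))`, conditional on the factorisation of S2690 (lead)

`card_aut` (the statement of S0813) and `out_structure` (the statement of S2601), both under `Fac n F`.
-/

set_option autoImplicit false

namespace Cfsg.Agent.AutPSLCount
open Cfsg Matrix

variable {n : ℕ} {F : Type*} [Field F]

/-- **S0813, conditional on the factorisation** -/
theorem card_aut [Fintype F] (p f : ℕ) [Fact p.Prime] (hF : Fintype.card F = p ^ f) (n : ℕ)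
    (hn : 2 ≤ n) (hfac : Fac n F) :
    Nat.card (MulAut (Matrix.ProjectiveSpecialLinearGroup (Fin n) F)) =
      (if n = 2 then 1 else 2) * f * Nat.card (Matrix.ProjGenLinGroup (Fin n) F) := by
  have := charP_of_card_eq_prime_pow hF
  obtain ⟨-, hcard⟩ := Cfsg.Agent.S2602.ringAut_cyclic (F := F) p f hF
  by_cases h2 : n = 2
  · subst h2
    rw [if_pos rfl, one_mul, ← hcard]
    exact card_aut_two hfac
  · rw [if_neg h2, ← hcard]
    exact card_aut_three (by omega) hfac

/-! ### diagonal matrices `diag(t, 1, …, 1)` -/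

/-- `diag(t, 1, …, 1)` as a monoid homomorphism into matrices -/
def dgM (n : ℕ) (F : Type*) [Field F] (i0 : Fin n) : F →* Matrix (Fin n) (Fin n) F :=
  (Matrix.diagonalRingHom (Fin n) F).toMonoidHom.comp (MonoidHom.mulSingle (fun _ : Fin n => F) i0)

/-- `diag(t, 1, …, 1)` as a homomorphism `Fˣ → GL_n` -/
def dgHom (n : ℕ) (F : Type*) [Field F] (i0 : Fin n) : Fˣ →* GL (Fin n) F := Units.map (dgM n F i0)

theorem dgHom_val (i0 : Fin n) (t : Fˣ) :
    (dgHom n F i0 t).val = diagonal (Pi.mulSingle i0 (t : F)) := rfl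

theorem det_dgHom (i0 : Fin n) (t : Fˣ) : Matrix.GeneralLinearGroup.det (dgHom n F i0 t) = t := by
  apply Units.ext
  rw [Matrix.GeneralLinearGroup.val_det_apply, dgHom_val, det_diagonal]
  exact Fintype.prod_pi_mulSingle' i0 (t : F)

theorem exists_toGL (g : GL (Fin n) F) (h : Matrix.GeneralLinearGroup.det g = 1) :
    ∃ s : SLn n F, SpecialLinearGroup.toGL s = g := by
  refine ⟨⟨g.val, ?_⟩, ?_⟩
  · have := congrArg Units.val h
    rwa [Matrix.GeneralLinearGroup.val_det_apply] at this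
  · apply Units.ext
    rfl

/-! ### the outer automorphism group, `n ≥ 3` -/

theorem inn_le_Dsub : Cfsg.Inn (PSLn n F) ≤ Dsub n F := by
  rintro _ ⟨x, rfl⟩
  obtain ⟨s, rfl⟩ := pr_surjective x
  exact ⟨SpecialLinearGroup.toGL s, (conj_pr s).symm⟩

/-- `t ↦` the class of the diagonal automorphism attached to `diag(t, 1, …, 1)` -/
noncomputable def epsHom (i0 : Fin n) : Fˣ →* Cfsg.Out (PSLn n F) :=
  (QuotientGroup.mk' (Cfsg.Inn (PSLn n F))).comp (Dh.comp (dgHom n F i0))

theorem epsHom_apply (i0 : Fin n) (t : Fˣ) :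
    epsHom i0 t = (QuotientGroup.mk (Dh (dgHom n F i0 t)) : Cfsg.Out (PSLn n F)) := rfl

theorem Dh_scalar (hn : 2 ≤ n) (c : Fˣ) :
    Dh (Matrix.GeneralLinearGroup.scalar (Fin n) c) = (1 : MulAut (PSLn n F)) := by
  rw [← MonoidHom.mem_ker, Dh_ker hn, Matrix.GeneralLinearGroup.center_eq_range_scalar]
  exact ⟨c, rfl⟩

theorem det_scalarGL (c : Fˣ) :
    Matrix.GeneralLinearGroup.det (Matrix.GeneralLinearGroup.scalar (Fin n) c) = c ^ n := by
  apply Units.ext
  rw [Matrix.GeneralLinearGroup.val_det_apply, Matrix.GeneralLinearGroup.coe_scalar]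
  simp

theorem det_toGL (s : SLn n F) : Matrix.GeneralLinearGroup.det (SpecialLinearGroup.toGL s) = 1 := by
  apply Units.ext
  rw [Matrix.GeneralLinearGroup.val_det_apply]
  exact s.2

theorem epsHom_ker (hn : 2 ≤ n) (i0 : Fin n) :
    (epsHom i0 : Fˣ →* Cfsg.Out (PSLn n F)).ker = (powMonoidHom n : Fˣ →* Fˣ).range := by
  ext t
  rw [MonoidHom.mem_ker, MonoidHom.mem_range, epsHom_apply, QuotientGroup.eq_one_iff]
  constructor
  · rintro ⟨x, hx⟩
    obtain ⟨s, rfl⟩ := pr_surjective x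
    rw [conj_pr] at hx
    have h1 : (SpecialLinearGroup.toGL s)⁻¹ * dgHom n F i0 t
        ∈ (Dh : GL (Fin n) F →* MulAut (PSLn n F)).ker := by
      rw [MonoidHom.mem_ker, map_mul, map_inv, hx, inv_mul_cancel]
    rw [Dh_ker hn, Matrix.GeneralLinearGroup.center_eq_range_scalar] at h1
    obtain ⟨c, hc⟩ := h1
    refine ⟨c, ?_⟩
    have := congrArg Matrix.GeneralLinearGroup.det hc
    rw [det_scalarGL, map_mul, map_inv, det_dgHom, det_toGL, inv_one, one_mul] at this
    exact this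
  · rintro ⟨c, rfl⟩
    obtain ⟨s, hs⟩ := exists_toGL
      (dgHom n F i0 (c ^ n) * Matrix.GeneralLinearGroup.scalar (Fin n) c⁻¹) (by
        rw [map_mul, det_dgHom, det_scalarGL, inv_pow, mul_inv_cancel])
    refine ⟨pr s, ?_⟩
    rw [conj_pr, hs, map_mul, Dh_scalar hn, mul_one]
    rfl

/-- the projection `Out → Aut / Inndiag` -/
noncomputable def q1 [(Dsub n F).Normal] :
    Cfsg.Out (PSLn n F) →* MulAut (PSLn n F) ⧸ Dsub n F :=
  QuotientGroup.map _ _ (MonoidHom.id _) (fun _ hx => inn_le_Dsub hx)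

theorem q1_mk [(Dsub n F).Normal] (β : MulAut (PSLn n F)) :
    q1 (QuotientGroup.mk β : Cfsg.Out (PSLn n F)) = QuotientGroup.mk β := rfl

theorem q1_surjective [(Dsub n F).Normal] : Function.Surjective (q1 (n := n) (F := F)) := by
  intro y
  obtain ⟨β, rfl⟩ := QuotientGroup.mk_surjective y
  exact ⟨QuotientGroup.mk β, rfl⟩

theorem q1_ker [(Dsub n F).Normal] (i0 : Fin n) :
    (q1 (n := n) (F := F)).ker = (epsHom i0).range := by
  ext x
  obtain ⟨β, rfl⟩ := QuotientGroup.mk_surjective x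
  rw [MonoidHom.mem_ker, q1_mk, QuotientGroup.eq_one_iff]
  constructor
  · rintro ⟨g, rfl⟩
    obtain ⟨s, hs⟩ := exists_toGL ((dgHom n F i0 (Matrix.GeneralLinearGroup.det g))⁻¹ * g) (by
      rw [map_mul, map_inv, det_dgHom, inv_mul_cancel])
    refine ⟨Matrix.GeneralLinearGroup.det g, ?_⟩
    rw [epsHom_apply, QuotientGroup.eq]
    refine ⟨pr s, ?_⟩
    rw [conj_pr, hs, map_mul, map_inv]
  · rintro ⟨t, ht⟩
    rw [epsHom_apply] at ht
    have h1 := QuotientGroup.eq.1 ht
    have h2 := inn_le_Dsub h1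
    have h3 : Dh (dgHom n F i0 t) ∈ Dsub n F := ⟨_, rfl⟩
    have := Subgroup.mul_mem _ h3 h2
    rwa [mul_inv_cancel_left] at this

/-- **S2601, conditional on the factorisation** -/
theorem out_structure [Fintype F] {p f n : ℕ} [Fact p.Prime] (hF : Fintype.card F = p ^ f)
    (hn : 3 ≤ n) (hfac : Fac n F) :
    ∃ φ : Cfsg.Out (Matrix.ProjectiveSpecialLinearGroup (Fin n) F) →*
        Multiplicative (ZMod f × ZMod 2),
      Function.Surjective φ ∧ IsCyclic φ.ker ∧ Nat.card φ.ker = Nat.gcd n (p ^ f - 1) := by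
  classical
  have := charP_of_card_eq_prime_pow hF
  obtain ⟨hcyc, hcard⟩ := Cfsg.Agent.S2602.ringAut_cyclic (F := F) p f hF
  have := Dsub_normal hfac
  obtain ⟨e2⟩ : Nonempty (RingAut F ≃* Multiplicative (ZMod f)) := by
    subst hcard
    exact ⟨(zmodCyclicMulEquiv hcyc).symm⟩
  let e1 := splitEquiv (Dsub n F) κ3 (κ3_surj hfac) (κ3_inj hn)
  let e3 : RingAut F × Multiplicative (ZMod 2) ≃* Multiplicative (ZMod f × ZMod 2) :=
    (MulEquiv.prodCongr e2 (MulEquiv.refl _)).trans (MulEquiv.prodMultiplicative _ _).symm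
  let e := e1.symm.trans e3
  let i0 : Fin n := ⟨0, by omega⟩
  refine ⟨(e : (MulAut (PSLn n F) ⧸ Dsub n F) →* Multiplicative (ZMod f × ZMod 2)).comp q1,
    e.surjective.comp q1_surjective, ?_⟩
  rw [MonoidHom.ker_mulEquiv_comp, q1_ker i0]
  constructor
  · exact isCyclic_of_surjective (epsHom i0).rangeRestrict (epsHom i0).rangeRestrict_surjective
  · rw [← Subgroup.index_ker, epsHom_ker (by omega), IsCyclic.index_powMonoidHom_range,
      Nat.card_units, Nat.card_eq_fintype_card, hF, Nat.gcd_comm]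

end Cfsg.Agent.AutPSLCount
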