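import Cfsg.Agent.Lib.Lead.PChain

/-!
# Groups with a Sylow subgroup of prime order whose outer automorphism group has order two

With the notation of `PChain`: if the exponents modulo the powers of `m` have two classes, represented by `1` and `r₁`,
and no automorphism other than the identity fixes `x` and `y` and maps `w` into `w C(y)`, then the inner automorphisms have
index at most two in the automorphism group; the index is two if some automorphism is not inner.
-/

set_option autoImplicit false

namespace Cfsg.Agent.PChain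

variable {G : Type*} [Group G] [Finite G]

omit [Finite G] in
/-- an automorphism fixing `x` and `y` and mapping `w` into `w C(y)` is the identity -/
theorem eq_one_of_fix {x y w : G} (hgen : Subgroup.closure {x, y, w} = (⊤ : Subgroup G))
    (hkill : ∀ c : G, c * y = y * c → (∃ β : MulAut G, β x = x ∧ β y = y ∧ β w = w * c) → c = 1)
    (ν : MulAut G) (h1 : ν x = x) (h2 : ν y = y) (c : G) (hc : c * y = y * c) (h3 : ν w = w * c) : ν = 1 := by
  have hc1 := hkill c hc ⟨ν, h1, h2, h3⟩
  rw [hc1, mul_one] at h3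
  have hhom : ν.toMonoidHom = MonoidHom.id G := by
    apply MonoidHom.eq_of_eqOn_dense hgen
    intro z hz
    rcases hz with rfl | rfl | rfl
    · exact h1
    · exact h2
    · exact h3
  exact MulEquiv.ext fun z => congrArg (fun f : G →* G => f z) hhom

/-- **The outer automorphism group has order two.** -/
theorem card_out_eq_two (p : ℕ) [hp : Fact p.Prime] (hp2 : ¬ p ^ 2 ∣ Nat.card G)
    (x y w : G) (hx : orderOf x = p)
    (hCx : ∀ c : G, c * x = x * c → c ∈ Subgroup.zpowers x)
    (m : ℕ) (hy : y * x * y⁻¹ = x ^ m) (r₁ : ℕ)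
    (hR : ∀ k < p, k ≠ 0 → ∃ j : ℕ, ∃ r ∈ ({1, r₁} : Finset ℕ), (k * m ^ j) % p = r % p)
    (hsolve : ∀ i < p, ∃ a : ℕ, (a + m * i) % p = (m * a) % p)
    (s : ℕ) (hw : w * y * w⁻¹ = y ^ s)
    (hgen : Subgroup.closure {x, y, w} = (⊤ : Subgroup G))
    (hkill : ∀ c : G, c * y = y * c → (∃ β : MulAut G, β x = x ∧ β y = y ∧ β w = w * c) → c = 1)
    (σ : MulAut G) (hσ : ∀ g : G, σ ≠ MulAut.conj g) : Nat.card (Cfsg.Out G) = 2 := by
  classical
  have : Fintype G := Fintype.ofFinite G
  have hx1 : x ≠ 1 := by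
    intro h
    rw [h, orderOf_one] at hx
    exact hp.out.one_lt.ne hx
  -- the normal form of an automorphism
  have hnf : ∀ α : MulAut G, ∃ g : G, ∃ r ∈ ({1, r₁} : Finset ℕ), ∃ c : G, c * y = y * c ∧
      g * α x * g⁻¹ = x ^ r ∧ g * α y * g⁻¹ = y ∧ g * α w * g⁻¹ = w * c := by
    intro α
    obtain ⟨g, r, hr, c, hc, h1, h2, h3⟩ := aut_normal_form p hp2 x y w hx hCx m hy {1, r₁} hR hsolve
      (Finset.univ.filter fun c : G => c * y = y * c) (fun c hc => by simpa using hc) s hw α
    exact ⟨g, r, hr, c, by simpa using hc, h1, h2, h3⟩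
  -- an automorphism whose normal form fixes `x` is inner
  have hinner : ∀ (α : MulAut G) (g c : G), c * y = y * c → g * α x * g⁻¹ = x → g * α y * g⁻¹ = y →
      g * α w * g⁻¹ = w * c → ∃ h : G, α = MulAut.conj h := by
    intro α g c hc h1 h2 h3
    have hν : MulAut.conj g * α = 1 := by
      apply eq_one_of_fix hgen hkill (MulAut.conj g * α) _ _ c hc
      · rw [MulAut.mul_apply, MulAut.conj_apply, h3]
      · rw [MulAut.mul_apply, MulAut.conj_apply, h1]
      · rw [MulAut.mul_apply, MulAut.conj_apply, h2]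
    refine ⟨g⁻¹, ?_⟩
    rw [map_inv]
    exact eq_inv_of_mul_eq_one_right hν
  -- two automorphisms with the same non-trivial exponent differ by an inner automorphism
  have hsame : ∀ α β : MulAut G, (∀ h : G, α ≠ MulAut.conj h) → (∀ h : G, β ≠ MulAut.conj h) →
      ∃ h : G, α * β⁻¹ = MulAut.conj h := by
    intro α β hα hβ
    obtain ⟨g, r, hr, c, hc, h1, h2, h3⟩ := hnf α
    obtain ⟨g', r', hr', c', hc', h1', h2', h3'⟩ := hnf β
    have hr1 : r = r₁ := by
      simp only [Finset.mem_insert, Finset.mem_singleton] at hr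
      rcases hr with rfl | rfl
      · exfalso
        rw [pow_one] at h1
        obtain ⟨h, hh⟩ := hinner α g c hc h1 h2 h3
        exact hα h hh
      · rfl
    have hr1' : r' = r₁ := by
      simp only [Finset.mem_insert, Finset.mem_singleton] at hr'
      rcases hr' with rfl | rfl
      · exfalso
        rw [pow_one] at h1'
        obtain ⟨h, hh⟩ := hinner β g' c' hc' h1' h2' h3'
        exact hβ h hh
      · rfl
    rw [hr1] at h1
    rw [hr1'] at h1'
    clear hr hr' hr1 hr1'
    set ν : MulAut G := MulAut.conj g * α with hν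
    set ν' : MulAut G := MulAut.conj g' * β with hν'
    have e1 : ν x = x ^ r₁ := by rw [hν, MulAut.mul_apply, MulAut.conj_apply, h1]
    have e2 : ν y = y := by rw [hν, MulAut.mul_apply, MulAut.conj_apply, h2]
    have e3 : ν w = w * c := by rw [hν, MulAut.mul_apply, MulAut.conj_apply, h3]
    have e1' : ν' x = x ^ r₁ := by rw [hν', MulAut.mul_apply, MulAut.conj_apply, h1']
    have e2' : ν' y = y := by rw [hν', MulAut.mul_apply, MulAut.conj_apply, h2']
    have e3' : ν' w = w * c' := by rw [hν', MulAut.mul_apply, MulAut.conj_apply, h3']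
    -- `x` is a power of `x ^ r`
    have hu1 : x ^ r₁ ≠ 1 := by
      intro h
      rw [h] at e1
      exact hx1 ((map_eq_one_iff ν ν.injective).1 e1)
    have hxu : x ∈ Subgroup.zpowers (x ^ r₁) := by
      have hle : Subgroup.zpowers (x ^ r₁) ≤ Subgroup.zpowers x :=
        Subgroup.zpowers_le.2 (Subgroup.pow_mem _ (Subgroup.mem_zpowers x) r₁)
      have hou : orderOf (x ^ r₁) = p := by
        have hd : orderOf (x ^ r₁) ∣ p := by
          rw [← hx]
          exact orderOf_pow_dvd r₁
        rcases (Nat.dvd_prime hp.out).1 hd with h | h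
        · exact absurd (orderOf_eq_one_iff.1 h) hu1
        · exact h
      have : Subgroup.zpowers (x ^ r₁) = Subgroup.zpowers x :=
        Subgroup.eq_of_le_of_card_ge hle (by rw [Nat.card_zpowers, Nat.card_zpowers, hou, hx])
      rw [this]
      exact Subgroup.mem_zpowers x
    obtain ⟨t, ht⟩ := Subgroup.mem_zpowers_iff.1 hxu
    -- the automorphism `μ = ν' ν⁻¹`
    set μ : MulAut G := ν' * ν⁻¹ with hμ
    have m0 : μ (x ^ r₁) = x ^ r₁ := by
      have h4 : ν⁻¹ (x ^ r₁) = x := by
        conv_lhs => rw [← e1]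
        exact MulAut.inv_apply_self _ _ _
      rw [hμ, MulAut.mul_apply, h4, e1']
    have m1 : μ x = x := by
      rw [← ht, map_zpow, m0]
    have m2 : μ y = y := by
      rw [hμ, MulAut.mul_apply]
      have : ν⁻¹ y = y := by
        conv_lhs => rw [← e2]
        exact MulAut.inv_apply_self _ _ _
      rw [this, e2']
    have m3 : μ w = w * (c' * (μ c)⁻¹) := by
      have hu : ν⁻¹ w = w * (ν⁻¹ c)⁻¹ := by
        have h4 : ν⁻¹ (w * c) = w := by
          conv_lhs => rw [← e3]
          exact MulAut.inv_apply_self _ _ _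
        rw [map_mul] at h4
        exact eq_mul_inv_of_mul_eq h4
      rw [hμ, MulAut.mul_apply, hu, map_mul, e3', map_inv, mul_assoc]
      rfl
    have hc'' : (c' * (μ c)⁻¹) * y = y * (c' * (μ c)⁻¹) := by
      have h5 : μ c * y = y * μ c := by
        have := congrArg μ hc
        rw [map_mul, map_mul, m2] at this
        exact this
      have h6 : (μ c)⁻¹ * y = y * (μ c)⁻¹ := by
        have := congrArg (fun z => (μ c)⁻¹ * z * (μ c)⁻¹) h5
        simp only [mul_assoc, mul_inv_cancel, mul_one] at this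
        rw [← mul_assoc, ← mul_assoc, inv_mul_cancel, one_mul] at this
        exact this.symm
      rw [mul_assoc, h6, ← mul_assoc, hc', mul_assoc]
    have hμ1 : μ = 1 := eq_one_of_fix hgen hkill μ m1 m2 _ hc'' m3
    have hνν : ν' = ν := by
      rw [hμ] at hμ1
      exact mul_inv_eq_one.1 hμ1
    -- conclusion
    refine ⟨g⁻¹ * g', ?_⟩
    have hα' : α = (MulAut.conj g)⁻¹ * ν := by rw [hν, ← mul_assoc, inv_mul_cancel, one_mul]
    have hβ' : β = (MulAut.conj g')⁻¹ * ν := by rw [← hνν, hν', ← mul_assoc, inv_mul_cancel, one_mul]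
    rw [hα', hβ', mul_inv_rev, inv_inv, mul_assoc, ← mul_assoc ν, mul_inv_cancel, one_mul, map_mul, map_inv]
  -- the index of the inner automorphisms
  show Nat.card (MulAut G ⧸ Cfsg.Inn G) = 2
  rw [← Subgroup.index_eq_card, Subgroup.index_eq_two_iff_exists_notMem_and]
  refine ⟨σ⁻¹, ?_, ?_⟩
  · rintro ⟨h, hh⟩
    apply hσ h⁻¹
    rw [map_inv, hh, inv_inv]
  · intro b
    by_cases hb : b ∈ Cfsg.Inn G
    · exact Or.inr hb
    · left
      have hb' : ∀ h : G, b ≠ MulAut.conj h := fun h hh => hb ⟨h, hh.symm⟩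
      obtain ⟨h, hh⟩ := hsame b σ hb' hσ
      exact ⟨h, hh.symm⟩

end Cfsg.Agent.PChain
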