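import Mathlib

set_option autoImplicit false
set_option linter.unusedSectionVars false
set_option linter.unusedVariables false

namespace Cfsg.Agent.Lib.Lead.WedgeNorm

open Equiv MulAction

section counts

variable {α : Type*} [Fintype α] [DecidableEq α]

/-- number of fixed points -/
def F (σ : Perm α) : ℕ := (Finset.univ.filter fun a => σ a = a).card

/-- number of points in 2-cycles -/
def S (σ : Perm α) : ℕ := (Finset.univ.filter fun a => σ a ≠ a ∧ σ (σ a) = a).card

theorem F_sq (σ : Perm α) : F (σ ^ 2) = F σ + S σ := by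
  unfold F S
  rw [← Finset.card_union_of_disjoint]
  · congr 1
    ext a
    simp only [Finset.mem_filter, Finset.mem_univ, true_and, Finset.mem_union, pow_two,
      Perm.mul_apply]
    constructor
    · intro h
      by_cases h1 : σ a = a
      · exact Or.inl h1
      · exact Or.inr ⟨h1, h⟩
    · rintro (h | ⟨_, h⟩)
      · rw [h, h]
      · exact h
  · rw [Finset.disjoint_filter]
    intro a _ h1 h2
    exact h2.1 h1

/-- `k`-tuples of distinct fixed points -/
noncomputable def Q (k : ℕ) (σ : Perm α) : ℕ :=
  (Finset.univ.filter fun x : Fin k ↪ α => ∀ i, σ (x i) = x i).card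

theorem Q_eq (k : ℕ) (σ : Perm α) : Q k σ = (F σ).descFactorial k := by
  have h1 : Fintype.card (Fin k ↪ {a // σ a = a}) = (F σ).descFactorial k := by
    rw [Fintype.card_embedding_eq, Fintype.card_fin, Fintype.card_subtype]
    rfl
  unfold Q
  rw [← h1, ← Fintype.card_subtype]
  apply Fintype.card_congr
  refine ⟨fun x => ⟨fun i => ⟨x.1 i, x.2 i⟩, fun i j h => x.1.injective (congrArg Subtype.val h)⟩,
    fun y => ⟨⟨fun i => (y i).1, fun i j h => y.injective (Subtype.ext h)⟩, fun i => (y i).2⟩,
    fun x => ?_, fun y => ?_⟩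
  · rfl
  · rfl

end counts

end Cfsg.Agent.Lib.Lead.WedgeNorm
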