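import Mathlib
import Cfsg.Agent.Lib.Lead.WedgeNormA

set_option autoImplicit false
set_option linter.unusedSectionVars false
set_option linter.unusedVariables false

namespace Cfsg.Agent.Lib.Lead.WedgeNorm

open Equiv MulAction

section counts2

variable {α : Type*} [Fintype α] [DecidableEq α]


theorem inj2 {a b : α} (hab : a ≠ b) : Function.Injective ![a, b] := by
  intro i j h
  fin_cases i <;> fin_cases j <;>
    first | rfl | (exfalso; revert h; simp [hab, hab.symm])

theorem inj4 {a b c d : α} (hab : a ≠ b) (hac : a ≠ c) (had : a ≠ d) (hbc : b ≠ c) (hbd : b ≠ d)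
    (hcd : c ≠ d) : Function.Injective ![a, b, c, d] := by
  intro i j h
  fin_cases i <;> fin_cases j <;>
    first | rfl | (exfalso; revert h; simp [hab, hac, had, hbc, hbd, hcd, hab.symm, hac.symm,
      had.symm, hbc.symm, hbd.symm, hcd.symm])

/-- the points in 2-cycles -/
def Sset (σ : Perm α) : Finset α := Finset.univ.filter fun a => σ a ≠ a ∧ σ (σ a) = a

theorem S_def (σ : Perm α) : S σ = (Sset σ).card := rfl

theorem mem_Sset {σ : Perm α} {a : α} : a ∈ Sset σ ↔ σ a ≠ a ∧ σ (σ a) = a := by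
  simp [Sset]

theorem apply_mem_Sset {σ : Perm α} {a : α} (h : a ∈ Sset σ) : σ a ∈ Sset σ := by
  rw [mem_Sset] at h ⊢
  refine ⟨?_, by rw [h.2]⟩
  rw [h.2]
  exact fun h' => h.1 h'.symm

/-- ordered 2-cycles -/
noncomputable def V (σ : Perm α) : ℕ :=
  (Finset.univ.filter fun x : Fin 2 ↪ α => σ (x 0) = x 1 ∧ σ (x 1) = x 0).card

theorem V_eq (σ : Perm α) : V σ = S σ := by
  unfold V
  rw [S_def]
  apply Finset.card_bij (fun x _ => x 0)
  · intro x hx
    simp only [Finset.mem_filter, Finset.mem_univ, true_and] at hx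
    rw [mem_Sset]
    refine ⟨?_, by rw [hx.1, hx.2]⟩
    rw [hx.1]
    intro h
    have := x.injective h
    revert this; decide
  · intro x hx y hy h
    simp only [Finset.mem_filter, Finset.mem_univ, true_and] at hx hy
    ext i
    fin_cases i
    · exact h
    · show x 1 = y 1
      rw [← hx.1, ← hy.1, h]
  · intro a ha
    rw [mem_Sset] at ha
    refine ⟨⟨![a, σ a], inj2 (Ne.symm ha.1)⟩, ?_, rfl⟩
    · simp only [Finset.mem_filter, Finset.mem_univ, true_and]
      exact ⟨rfl, ha.2⟩

/-- ordered pairs of disjoint ordered 2-cycles -/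
noncomputable def W (σ : Perm α) : ℕ :=
  (Finset.univ.filter fun x : Fin 4 ↪ α =>
    σ (x 0) = x 1 ∧ σ (x 1) = x 0 ∧ σ (x 2) = x 3 ∧ σ (x 3) = x 2).card

theorem W_eq (σ : Perm α) : W σ = S σ * (S σ - 2) := by
  unfold W
  have hcard : ((Sset σ).sigma fun a => ((Sset σ).erase a).erase (σ a)).card =
      S σ * (S σ - 2) := by
    rw [Finset.card_sigma, S_def]
    rw [Finset.sum_congr rfl (g := fun _ => (Sset σ).card - 2)]
    · rw [Finset.sum_const, smul_eq_mul]
    · intro a ha
      have h1 : σ a ∈ (Sset σ).erase a := by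
        rw [Finset.mem_erase]
        exact ⟨(mem_Sset.1 ha).1, apply_mem_Sset ha⟩
      rw [Finset.card_erase_of_mem h1, Finset.card_erase_of_mem ha]
      omega
  rw [← hcard]
  apply Finset.card_bij (fun x _ => (⟨x 0, x 2⟩ : Σ _ : α, α))
  · intro x hx
    simp only [Finset.mem_filter, Finset.mem_univ, true_and] at hx
    obtain ⟨h01, h10, h23, h32⟩ := hx
    have hne : ∀ i j : Fin 4, i ≠ j → x i ≠ x j := fun i j hij h => hij (x.injective h)
    rw [Finset.mem_sigma]
    refine ⟨?_, ?_⟩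
    · rw [mem_Sset]
      refine ⟨?_, by rw [h01, h10]⟩
      rw [h01]; exact hne 1 0 (by decide)
    · show x 2 ∈ ((Sset σ).erase (x 0)).erase (σ (x 0))
      rw [Finset.mem_erase, Finset.mem_erase, mem_Sset, h01]
      refine ⟨hne 2 1 (by decide), hne 2 0 (by decide), ?_, by rw [h23, h32]⟩
      rw [h23]; exact hne 3 2 (by decide)
  · intro x hx y hy h
    simp only [Finset.mem_filter, Finset.mem_univ, true_and] at hx hy
    have h0 : x 0 = y 0 := congrArg Sigma.fst h
    have h2 : x 2 = y 2 := by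
      have := congrArg Sigma.snd h
      exact this
    ext i
    fin_cases i
    · exact h0
    · show x 1 = y 1
      rw [← hx.1, ← hy.1, h0]
    · exact h2
    · show x 3 = y 3
      rw [← hx.2.2.1, ← hy.2.2.1, h2]
  · rintro ⟨a, c⟩ hac
    rw [Finset.mem_sigma] at hac
    obtain ⟨ha, hc⟩ := hac
    simp only [Finset.mem_erase] at hc
    obtain ⟨hc1, hc2, hc3⟩ := hc
    have ha' := mem_Sset.1 ha
    have hc' := mem_Sset.1 hc3
    have e1 : σ c ≠ a := by
      intro h
      apply hc1
      rw [← hc'.2, h]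
    have e2 : σ c ≠ σ a := fun h => hc2 (σ.injective h)
    refine ⟨⟨![a, σ a, c, σ c], inj4 (Ne.symm ha'.1) (Ne.symm hc2) (Ne.symm e1) (Ne.symm hc1)
      (Ne.symm e2) (Ne.symm hc'.1)⟩, ?_, rfl⟩
    · simp only [Finset.mem_filter, Finset.mem_univ, true_and]
      exact ⟨rfl, ha'.2, rfl, hc'.2⟩

theorem S_ne_one (σ : Perm α) : S σ ≠ 1 := by
  intro h
  rw [S_def, Finset.card_eq_one] at h
  obtain ⟨a, ha⟩ := h
  have h1 : a ∈ Sset σ := by rw [ha]; exact Finset.mem_singleton_self a
  have h2 := apply_mem_Sset h1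
  rw [ha, Finset.mem_singleton] at h2
  exact (mem_Sset.1 h1).1 h2

end counts2

end Cfsg.Agent.Lib.Lead.WedgeNorm
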