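import Mathlib
import Cfsg.Agent.Lib.Lead.WedgeNormB

set_option autoImplicit false
set_option linter.unusedSectionVars false
set_option linter.unusedVariables false

namespace Cfsg.Agent.Lib.Lead.WedgeNorm

open Equiv MulAction

section dc

variable {α : Type*} [Fintype α] [DecidableEq α] (G : Subgroup (Perm α)) [Fintype G]

/-- double counting -/
theorem sum_card_filter_comm {X : Type*} [Fintype X] (R : G → X → Prop) [∀ g x, Decidable (R g x)] :
    ∑ g : G, (Finset.univ.filter fun x => R g x).card =
      ∑ x : X, (Finset.univ.filter fun g : G => R g x).card := by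
  simp_rw [Finset.card_filter]
  exact Finset.sum_comm

/-- the stabilizer count of a tuple -/
noncomputable def stabCard (k : ℕ) (x : Fin k ↪ α) : ℕ :=
  (Finset.univ.filter fun g : G => ∀ i, (g : Perm α) (x i) = x i).card

theorem sum_Q_eq (k : ℕ) : ∑ g : G, Q k (g : Perm α) = ∑ x : Fin k ↪ α, stabCard G k x := by
  unfold Q stabCard
  exact sum_card_filter_comm G (X := Fin k ↪ α)
    (fun (g : G) (x : Fin k ↪ α) => ∀ i, (g : Perm α) (x i) = x i)

/-- Burnside for `k`-tuples in a `k`-transitive group -/
theorem sum_Q (k : ℕ) (hk : IsMultiplyPretransitive G α k) (hkn : k ≤ Fintype.card α) :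
    ∑ g : G, Q k (g : Perm α) = Fintype.card G := by
  classical
  have hne : Nonempty (Fin k ↪ α) := by
    apply Function.Embedding.nonempty_of_card_le
    simpa using hkn
  have hpre : IsPretransitive G (Fin k ↪ α) := hk
  have hB := MulAction.sum_card_fixedBy_eq_card_orbits_mul_card_group G (Fin k ↪ α)
  have h1 : Fintype.card (Quotient (orbitRel G (Fin k ↪ α))) = 1 := by
    rw [Fintype.card_eq_one_iff]
    obtain ⟨x₀⟩ := hne
    refine ⟨Quotient.mk'' x₀, fun y => ?_⟩
    induction y using Quotient.inductionOn' with
    | h y =>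
      apply Quotient.sound'
      obtain ⟨g, hg⟩ := hpre.exists_smul_eq x₀ y
      exact ⟨g, hg⟩
  rw [h1, one_mul] at hB
  rw [← hB]
  apply Finset.sum_congr rfl
  intro g _
  unfold Q
  rw [← Fintype.card_subtype]
  apply Fintype.card_congr
  refine Equiv.subtypeEquivRight (fun x => ?_)
  rw [mem_fixedBy]
  constructor
  · intro h
    ext i
    exact h i
  · intro h i
    exact congrArg (fun e : Fin k ↪ α => e i) h

end dc

end Cfsg.Agent.Lib.Lead.WedgeNorm
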