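import Mathlib
import Cfsg.Agent.Lib.Lead.WedgeNormC

set_option autoImplicit false
set_option linter.unusedSectionVars false
set_option linter.unusedVariables false

namespace Cfsg.Agent.Lib.Lead.WedgeNorm

open Equiv MulAction

section dc2

variable {α : Type*} [Fintype α] [DecidableEq α] (G : Subgroup (Perm α)) [Fintype G]

theorem inv_apply_of_apply {g : G} {a b : α} (h : (g : Perm α) a = b) :
    ((g⁻¹ : G) : Perm α) b = a := by
  rw [Subgroup.coe_inv, Perm.inv_eq_iff_eq, h]

theorem sum_V (h2 : IsMultiplyPretransitive G α 2) :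
    ∑ g : G, V (g : Perm α) = ∑ g : G, Q 2 (g : Perm α) := by
  rw [sum_Q_eq]
  unfold V
  rw [sum_card_filter_comm G (X := Fin 2 ↪ α)
    (fun (g : G) (x : Fin 2 ↪ α) => (g : Perm α) (x 0) = x 1 ∧ (g : Perm α) (x 1) = x 0)]
  apply Finset.sum_congr rfl
  intro x _
  have hne : x 1 ≠ x 0 := fun h => by
    have := x.injective h
    revert this; decide
  obtain ⟨g₀, hg₀⟩ := h2.exists_smul_eq x ⟨![x 1, x 0], inj2 hne⟩
  have h0 : (g₀ : Perm α) (x 0) = x 1 := congrArg (fun e : Fin 2 ↪ α => e 0) hg₀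
  have h1 : (g₀ : Perm α) (x 1) = x 0 := congrArg (fun e : Fin 2 ↪ α => e 1) hg₀
  unfold stabCard
  apply Finset.card_bij (fun g _ => g₀⁻¹ * g)
  · intro g hg
    simp only [Finset.mem_filter, Finset.mem_univ, true_and] at hg ⊢
    intro i
    fin_cases i
    · show ((g₀⁻¹ * g : G) : Perm α) (x 0) = x 0
      rw [Subgroup.coe_mul, Perm.mul_apply, hg.1]
      exact inv_apply_of_apply G h0
    · show ((g₀⁻¹ * g : G) : Perm α) (x 1) = x 1
      rw [Subgroup.coe_mul, Perm.mul_apply, hg.2]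
      exact inv_apply_of_apply G h1
  · intro g _ g' _ h
    exact mul_left_cancel h
  · intro h hh
    simp only [Finset.mem_filter, Finset.mem_univ, true_and] at hh
    refine ⟨g₀ * h, ?_, by group⟩
    simp only [Finset.mem_filter, Finset.mem_univ, true_and]
    refine ⟨?_, ?_⟩
    · rw [Subgroup.coe_mul, Perm.mul_apply, hh 0, h0]
    · rw [Subgroup.coe_mul, Perm.mul_apply, hh 1, h1]

theorem sum_W_le : ∑ g : G, W (g : Perm α) ≤ ∑ g : G, Q 4 (g : Perm α) := by
  rw [sum_Q_eq]
  unfold W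
  rw [sum_card_filter_comm G (X := Fin 4 ↪ α)
    (fun (g : G) (x : Fin 4 ↪ α) => (g : Perm α) (x 0) = x 1 ∧ (g : Perm α) (x 1) = x 0 ∧
      (g : Perm α) (x 2) = x 3 ∧ (g : Perm α) (x 3) = x 2)]
  apply Finset.sum_le_sum
  intro x _
  unfold stabCard
  rcases (Finset.univ.filter fun g : G => (g : Perm α) (x 0) = x 1 ∧ (g : Perm α) (x 1) = x 0 ∧
      (g : Perm α) (x 2) = x 3 ∧ (g : Perm α) (x 3) = x 2).eq_empty_or_nonempty with he | ⟨g₀, hg₀⟩
  · rw [he, Finset.card_empty]; exact Nat.zero_le _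
  · simp only [Finset.mem_filter, Finset.mem_univ, true_and] at hg₀
    obtain ⟨h01, h10, h23, h32⟩ := hg₀
    apply Finset.card_le_card_of_injOn (fun g => g₀⁻¹ * g)
    · intro g hg
      simp only [Finset.coe_filter, Finset.mem_univ, true_and, Set.mem_ofPred_eq] at hg ⊢
      obtain ⟨k01, k10, k23, k32⟩ := hg
      intro i
      fin_cases i
      · show ((g₀⁻¹ * g : G) : Perm α) (x 0) = x 0
        rw [Subgroup.coe_mul, Perm.mul_apply, k01]
        exact inv_apply_of_apply G h01
      · show ((g₀⁻¹ * g : G) : Perm α) (x 1) = x 1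
        rw [Subgroup.coe_mul, Perm.mul_apply, k10]
        exact inv_apply_of_apply G h10
      · show ((g₀⁻¹ * g : G) : Perm α) (x 2) = x 2
        rw [Subgroup.coe_mul, Perm.mul_apply, k23]
        exact inv_apply_of_apply G h23
      · show ((g₀⁻¹ * g : G) : Perm α) (x 3) = x 3
        rw [Subgroup.coe_mul, Perm.mul_apply, k32]
        exact inv_apply_of_apply G h32
    · intro g _ g' _ h
      exact mul_left_cancel h

end dc2

end Cfsg.Agent.Lib.Lead.WedgeNorm
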