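import Mathlib
import Cfsg.Agent.Lib.Lead.WedgeNormD

set_option autoImplicit false
set_option linter.unusedSectionVars false
set_option linter.unusedVariables false

namespace Cfsg.Agent.Lib.Lead.WedgeNorm

open Equiv MulAction

section alg

theorem key (f s : ℕ) (hs : s ≠ 1) :
    ((f : ℤ) ^ 2 - ((f + s : ℕ) : ℤ)) ^ 2 =
      (f.descFactorial 4 : ℤ) + 4 * (f.descFactorial 3 : ℤ) + 2 * (f.descFactorial 2 : ℤ) +
        ((s * (s - 2) : ℕ) : ℤ) + 2 * (s : ℤ) - 2 * ((s * (f * (f - 1)) : ℕ) : ℤ) := by
  rcases s with _ | _ | s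
  · rcases f with _ | _ | _ | _ | f
    · simp [Nat.descFactorial]
    · simp [Nat.descFactorial]
    · simp [Nat.descFactorial]
    · simp [Nat.descFactorial]
    · simp only [Nat.descFactorial]
      push_cast
      simp
      ring
  · exact (hs rfl).elim
  · rcases f with _ | _ | _ | _ | f
    · simp [Nat.descFactorial]; ring
    · simp [Nat.descFactorial]; ring
    · simp [Nat.descFactorial]; ring
    · simp [Nat.descFactorial]; ring
    · simp only [Nat.descFactorial]
      push_cast
      simp
      ring

end alg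

end Cfsg.Agent.Lib.Lead.WedgeNorm
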