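import Mathlib
import Cfsg.Agent.Lib.Lead.WedgeNormE

set_option autoImplicit false
set_option linter.unusedSectionVars false
set_option linter.unusedVariables false

/-!
# The exterior square of the permutation character of a 3-transitive group

For a 3-transitive permutation group `G` of degree `n`, with `π(g)` the number of fixed points,
`∑_g (π(g)² - π(g²))² ≤ 2 (n + 1) |G|` (i.e. `‖∧²π‖² ≤ (n+1)/2`), and equality forces `G` to be
sharply 3-transitive.  Pure double counting (`WedgeNormA`–`E`): Burnside for tuples, the count of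
2-cycles, and the identity `(f(f-1) - s)² = f⁽⁴⁾ + 4f⁽³⁾ + 2f⁽²⁾ + s(s-2) + 2s - 2sf(f-1)`.
-/

namespace Cfsg.Agent.Lib.Lead.WedgeNorm

open Equiv MulAction

section main

variable {α : Type*} [Fintype α] [DecidableEq α] (G : Subgroup (Perm α)) [Fintype G]

theorem F_le (σ : Perm α) : F σ ≤ Fintype.card α := Finset.card_le_univ _

theorem Q4_le (σ : Perm α) : Q 4 σ ≤ (Fintype.card α - 3) * Q 3 σ := by
  rw [Q_eq, Q_eq, Nat.descFactorial_succ]
  exact Nat.mul_le_mul_right _ (Nat.sub_le_sub_right (F_le σ) 3)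

/-- the value `π(g)² - π(g²)` (twice the value of the exterior square of the permutation character) -/
def wedge2 (σ : Perm α) : ℤ := (F σ : ℤ) ^ 2 - (F (σ ^ 2) : ℤ)

theorem sum_wedge2_sq_le (h3 : IsMultiplyPretransitive G α 3) (hn : 3 ≤ Fintype.card α) :
    ∑ g : G, wedge2 (g : Perm α) ^ 2 ≤
      8 * (Fintype.card G : ℤ) + 2 * ((∑ g : G, Q 4 (g : Perm α) : ℕ) : ℤ) := by
  have h2 : IsMultiplyPretransitive G α 2 :=
    isMultiplyPretransitive_of_le (n := 3) (by norm_num)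
      (by rw [Nat.card_eq_fintype_card]; exact hn)
  have e : ∀ g : G, wedge2 (g : Perm α) ^ 2 =
      (Q 4 (g : Perm α) : ℤ) + 4 * (Q 3 (g : Perm α) : ℤ) + 2 * (Q 2 (g : Perm α) : ℤ) +
        (W (g : Perm α) : ℤ) + 2 * (V (g : Perm α) : ℤ) -
        2 * ((S (g : Perm α) * (F (g : Perm α) * (F (g : Perm α) - 1)) : ℕ) : ℤ) := by
    intro g
    unfold wedge2
    rw [F_sq, key _ _ (S_ne_one _), Q_eq, Q_eq, Q_eq, W_eq, V_eq]
  simp_rw [e]
  rw [Finset.sum_sub_distrib, Finset.sum_add_distrib, Finset.sum_add_distrib,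
    Finset.sum_add_distrib, Finset.sum_add_distrib]
  simp_rw [← Finset.mul_sum, ← Nat.cast_sum]
  rw [sum_V G h2, sum_Q G 2 h2 (by omega), sum_Q G 3 h3 hn]
  have hW := sum_W_le G
  have hW' : ((∑ g : G, W (g : Perm α) : ℕ) : ℤ) ≤ ((∑ g : G, Q 4 (g : Perm α) : ℕ) : ℤ) := by
    exact_mod_cast hW
  have hpos : (0 : ℤ) ≤ ((∑ g : G, S (g : Perm α) * (F (g : Perm α) * (F (g : Perm α) - 1)) : ℕ) : ℤ) :=
    Int.natCast_nonneg _
  linarith

theorem sum_Q4_le (h3 : IsMultiplyPretransitive G α 3) (hn : 3 ≤ Fintype.card α) :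
    ∑ g : G, Q 4 (g : Perm α) ≤ (Fintype.card α - 3) * Fintype.card G := by
  rw [← sum_Q G 3 h3 hn, Finset.mul_sum]
  exact Finset.sum_le_sum fun g _ => Q4_le _

/-- the norm bound `‖∧²π‖² ≤ (n+1)/2` for a 3-transitive group, in the form
`∑ (π(g)² - π(g²))² ≤ 2 (n + 1) |G|` -/
theorem sum_wedge2_sq_le' (h3 : IsMultiplyPretransitive G α 3) (hn : 3 ≤ Fintype.card α) :
    ∑ g : G, wedge2 (g : Perm α) ^ 2 ≤ 2 * ((Fintype.card α : ℤ) + 1) * (Fintype.card G : ℤ) := by
  have h1 := sum_wedge2_sq_le G h3 hn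
  have h2 := sum_Q4_le G h3 hn
  have h2' : ((∑ g : G, Q 4 (g : Perm α) : ℕ) : ℤ) ≤ ((Fintype.card α : ℤ) - 3) * (Fintype.card G : ℤ) := by
    have : (((Fintype.card α - 3) * Fintype.card G : ℕ) : ℤ) =
        ((Fintype.card α : ℤ) - 3) * (Fintype.card G : ℤ) := by
      push_cast [Nat.cast_sub hn]; ring
    rw [← this]
    exact_mod_cast h2
  nlinarith

/-- equality in the norm bound forces sharp 3-transitivity -/
theorem eq_one_of_fix_three (h3 : IsMultiplyPretransitive G α 3) (hn : 3 ≤ Fintype.card α)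
    (hσ : 2 * ((Fintype.card α : ℤ) + 1) * (Fintype.card G : ℤ) ≤ ∑ g : G, wedge2 (g : Perm α) ^ 2)
    (g : G) (hg : 3 ≤ F (g : Perm α)) : g = 1 := by
  have h1 := sum_wedge2_sq_le G h3 hn
  have h2 := sum_Q4_le G h3 hn
  have h4 : (Fintype.card α - 3) * Fintype.card G ≤ ∑ g : G, Q 4 (g : Perm α) := by
    have hz : ((Fintype.card α : ℤ) - 3) * (Fintype.card G : ℤ) ≤
        ((∑ g : G, Q 4 (g : Perm α) : ℕ) : ℤ) := by nlinarith
    have hc : (((Fintype.card α - 3) * Fintype.card G : ℕ) : ℤ) =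
        ((Fintype.card α : ℤ) - 3) * (Fintype.card G : ℤ) := by
      push_cast [Nat.cast_sub hn]; ring
    rw [← hc] at hz
    exact_mod_cast hz
  have h5 : ∑ g : G, Q 4 (g : Perm α) = ∑ g : G, (Fintype.card α - 3) * Q 3 (g : Perm α) := by
    rw [← Finset.mul_sum, sum_Q G 3 h3 hn]
    exact le_antisymm h2 h4
  have h6 := (Finset.sum_eq_sum_iff_of_le (s := Finset.univ) (f := fun g : G => Q 4 (g : Perm α))
    (g := fun g : G => (Fintype.card α - 3) * Q 3 (g : Perm α))
    (fun g _ => Q4_le (g : Perm α))).1 h5 g (Finset.mem_univ g)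
  rw [Q_eq, Q_eq, Nat.descFactorial_succ] at h6
  have hpos : 0 < (F (g : Perm α)).descFactorial 3 := Nat.descFactorial_pos.2 hg   
  have h7 : F (g : Perm α) - 3 = Fintype.card α - 3 := Nat.eq_of_mul_eq_mul_right hpos h6
  have h8 : F (g : Perm α) = Fintype.card α := by omega
  apply Subtype.ext
  ext a
  have h9 : (Finset.univ.filter fun a => (g : Perm α) a = a) = Finset.univ :=
    Finset.eq_univ_of_card _ h8
  have : a ∈ (Finset.univ.filter fun a => (g : Perm α) a = a) := by rw [h9]; exact Finset.mem_univ a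
  simpa using this

theorem sharp_of_norm (h3 : IsMultiplyPretransitive G α 3) (hn : 3 ≤ Fintype.card α)
    (hσ : 2 * ((Fintype.card α : ℤ) + 1) * (Fintype.card G : ℤ) ≤ ∑ g : G, wedge2 (g : Perm α) ^ 2)
    (x : Fin 3 ↪ α) : stabilizer G x = ⊥ := by
  rw [eq_bot_iff]
  intro g hg
  rw [Subgroup.mem_bot]
  apply eq_one_of_fix_three G h3 hn hσ
  have hfix : ∀ i, (g : Perm α) (x i) = x i := by
    intro i
    have := mem_stabilizer_iff.1 hg
    exact congrArg (fun e : Fin 3 ↪ α => e i) this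
  have : (Finset.univ.map x) ⊆ (Finset.univ.filter fun a => (g : Perm α) a = a) := by
    intro a ha
    rw [Finset.mem_map] at ha
    obtain ⟨i, _, rfl⟩ := ha
    simp [hfix i]
  have h1 := Finset.card_le_card this
  rw [Finset.card_map, Finset.card_univ, Fintype.card_fin] at h1
  exact h1

end main

end Cfsg.Agent.Lib.Lead.WedgeNorm
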