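import Mathlib
import Cfsg.Agent.Lib.Lead.WedgeNorm

set_option autoImplicit false
set_option linter.unusedSectionVars false
set_option linter.unusedVariables false

namespace Cfsg.Agent.Lib.Lead.WedgeNorm

open Equiv MulAction

section converse

variable {α : Type*} [Fintype α] [DecidableEq α] (G : Subgroup (Perm α)) [Fintype G]

/-- Burnside for `k`-tuples, general form: the sum counts the orbits on `k`-tuples. -/
theorem sum_Q_orbits (k : ℕ) [Fintype (Quotient (orbitRel G (Fin k ↪ α)))] :
    ∑ g : G, Q k (g : Perm α) =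
      Fintype.card (Quotient (orbitRel G (Fin k ↪ α))) * Fintype.card G := by
  classical
  have hB := MulAction.sum_card_fixedBy_eq_card_orbits_mul_card_group G (Fin k ↪ α)
  rw [← hB]
  apply Finset.sum_congr rfl
  intro g _
  unfold Q
  rw [← Fintype.card_subtype]
  apply Fintype.card_congr
  refine Equiv.subtypeEquivRight (fun x => ?_)
  rw [mem_fixedBy]
  constructor
  · intro h
    ext i
    exact h i
  · intro h i
    exact congrArg (fun e : Fin k ↪ α => e i) h

/-- converse of Burnside: if `∑_g F(g)⁽ᵏ⁾ = |G|` then `G` is `k`-transitive -/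
theorem isMultiplyPretransitive_of_sum_Q (k : ℕ)
    (h : ∑ g : G, Q k (g : Perm α) = Fintype.card G) : IsMultiplyPretransitive G α k := by
  classical
  have : Fintype (Quotient (orbitRel G (Fin k ↪ α))) := Fintype.ofFinite _
  have h1 := sum_Q_orbits G k
  rw [h] at h1
  have hG : 0 < Fintype.card G := Fintype.card_pos
  have h2 : Fintype.card (Quotient (orbitRel G (Fin k ↪ α))) = 1 := by
    have : 1 * Fintype.card G = Fintype.card (Quotient (orbitRel G (Fin k ↪ α))) * Fintype.card G := by
      rw [one_mul]; exact h1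
    exact (Nat.eq_of_mul_eq_mul_right hG this).symm
  rw [Fintype.card_eq_one_iff] at h2
  obtain ⟨q, hq⟩ := h2
  refine ⟨fun x y => ?_⟩
  have hxy : (Quotient.mk'' x : Quotient (orbitRel G (Fin k ↪ α))) = Quotient.mk'' y := by
    rw [hq (Quotient.mk'' x), hq (Quotient.mk'' y)]
  have := Quotient.exact' hxy
  obtain ⟨g, hg⟩ := (orbitRel_apply.1 this)
  have hg' : g • y = x := hg
  refine ⟨g⁻¹, ?_⟩
  rw [← hg']
  exact inv_smul_smul g y

end converse

end Cfsg.Agent.Lib.Lead.WedgeNorm
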