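import Mathlib
import Cfsg.Agent.Lib.Lead.WedgeNormF

set_option autoImplicit false
set_option linter.unusedSectionVars false
set_option linter.unusedVariables false

namespace Cfsg.Agent.Lib.Lead.WedgeNorm

open Equiv MulAction

section more

variable {α : Type*} [Fintype α] [DecidableEq α]

theorem inj3 {a b c : α} (hab : a ≠ b) (hac : a ≠ c) (hbc : b ≠ c) :
    Function.Injective ![a, b, c] := by
  intro i j h
  fin_cases i <;> fin_cases j <;>
    first | rfl | (exfalso; revert h; simp [hab, hac, hbc, hab.symm, hac.symm, hbc.symm])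

/-- the fixed points -/
def Fset (σ : Perm α) : Finset α := Finset.univ.filter fun a => σ a = a

theorem F_def (σ : Perm α) : F σ = (Fset σ).card := rfl

theorem mem_Fset {σ : Perm α} {a : α} : a ∈ Fset σ ↔ σ a = a := by simp [Fset]

/-- a 2-cycle together with a fixed point -/
noncomputable def U (σ : Perm α) : ℕ :=
  (Finset.univ.filter fun x : Fin 3 ↪ α => σ (x 0) = x 1 ∧ σ (x 1) = x 0 ∧ σ (x 2) = x 2).card

theorem U_eq (σ : Perm α) : U σ = S σ * F σ := by
  unfold U
  rw [S_def, F_def, ← Finset.card_product]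
  apply Finset.card_bij (fun x _ => (x 0, x 2))
  · intro x hx
    simp only [Finset.mem_filter, Finset.mem_univ, true_and] at hx
    obtain ⟨h01, h10, h22⟩ := hx
    rw [Finset.mem_product, mem_Sset, mem_Fset]
    refine ⟨⟨?_, by rw [h01, h10]⟩, h22⟩
    rw [h01]
    intro h
    have := x.injective h
    revert this; decide
  · intro x hx y hy h
    simp only [Finset.mem_filter, Finset.mem_univ, true_and] at hx hy
    have h0 : x 0 = y 0 := congrArg Prod.fst h
    have h2 : x 2 = y 2 := congrArg Prod.snd h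
    ext i
    fin_cases i
    · exact h0
    · show x 1 = y 1
      rw [← hx.1, ← hy.1, h0]
    · exact h2
  · rintro ⟨a, c⟩ hac
    rw [Finset.mem_product, mem_Sset, mem_Fset] at hac
    obtain ⟨ha, hc⟩ := hac
    have hne1 : a ≠ c := by
      intro h
      apply ha.1
      rw [h]; exact hc
    have hne2 : σ a ≠ c := by
      intro h
      apply ha.1
      have : σ (σ a) = σ c := by rw [h]
      rw [ha.2, hc] at this
      rw [this]; exact hc
    refine ⟨⟨![a, σ a, c], inj3 (Ne.symm ha.1) hne1 hne2⟩, ?_, rfl⟩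
    simp only [Finset.mem_filter, Finset.mem_univ, true_and]
    exact ⟨rfl, ha.2, hc⟩

variable (G : Subgroup (Perm α)) [Fintype G]

theorem sum_U (h3 : IsMultiplyPretransitive G α 3) :
    ∑ g : G, U (g : Perm α) = ∑ g : G, Q 3 (g : Perm α) := by
  rw [sum_Q_eq]
  unfold U
  rw [sum_card_filter_comm G (X := Fin 3 ↪ α)
    (fun (g : G) (x : Fin 3 ↪ α) => (g : Perm α) (x 0) = x 1 ∧ (g : Perm α) (x 1) = x 0 ∧
      (g : Perm α) (x 2) = x 2)]
  apply Finset.sum_congr rfl
  intro x _
  have hne : ∀ i j : Fin 3, i ≠ j → x i ≠ x j := fun i j hij h => hij (x.injective h)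
  obtain ⟨g₀, hg₀⟩ := h3.exists_smul_eq x
    ⟨![x 1, x 0, x 2], inj3 (hne 1 0 (by decide)) (hne 1 2 (by decide)) (hne 0 2 (by decide))⟩
  have h0 : (g₀ : Perm α) (x 0) = x 1 := congrArg (fun e : Fin 3 ↪ α => e 0) hg₀
  have h1 : (g₀ : Perm α) (x 1) = x 0 := congrArg (fun e : Fin 3 ↪ α => e 1) hg₀
  have h2 : (g₀ : Perm α) (x 2) = x 2 := congrArg (fun e : Fin 3 ↪ α => e 2) hg₀
  unfold stabCard
  apply Finset.card_bij (fun g _ => g₀⁻¹ * g)
  · intro g hg
    simp only [Finset.mem_filter, Finset.mem_univ, true_and] at hg ⊢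
    intro i
    fin_cases i
    · show ((g₀⁻¹ * g : G) : Perm α) (x 0) = x 0
      rw [Subgroup.coe_mul, Perm.mul_apply, hg.1]
      exact inv_apply_of_apply G h0
    · show ((g₀⁻¹ * g : G) : Perm α) (x 1) = x 1
      rw [Subgroup.coe_mul, Perm.mul_apply, hg.2.1]
      exact inv_apply_of_apply G h1
    · show ((g₀⁻¹ * g : G) : Perm α) (x 2) = x 2
      rw [Subgroup.coe_mul, Perm.mul_apply, hg.2.2]
      exact inv_apply_of_apply G h2
  · intro g _ g' _ h
    exact mul_left_cancel h
  · intro h hh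
    simp only [Finset.mem_filter, Finset.mem_univ, true_and] at hh
    refine ⟨g₀ * h, ?_, by group⟩
    simp only [Finset.mem_filter, Finset.mem_univ, true_and]
    refine ⟨?_, ?_, ?_⟩
    · rw [Subgroup.coe_mul, Perm.mul_apply, hh 0, h0]
    · rw [Subgroup.coe_mul, Perm.mul_apply, hh 1, h1]
    · rw [Subgroup.coe_mul, Perm.mul_apply, hh 2, h2]

/-- `∑ π(g) = |G|` -/
theorem sum_F (h1 : IsPretransitive G α) (hn : 1 ≤ Fintype.card α) :
    ∑ g : G, F (g : Perm α) = Fintype.card G := by
  have h1' : IsMultiplyPretransitive G α 1 := by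
    rw [is_one_pretransitive_iff]; exact h1
  have := sum_Q G 1 h1' hn
  simp_rw [Q_eq, Nat.descFactorial_one] at this
  exact this

/-- the sums needed for `⟨∧²π, 1⟩ = 0` and `⟨∧²π, π⟩ = 1` in a 3-transitive group -/
theorem sum_wedge2 (h3 : IsMultiplyPretransitive G α 3) (hn : 3 ≤ Fintype.card α) :
    ∑ g : G, wedge2 (g : Perm α) = 0 := by
  have h2 : IsMultiplyPretransitive G α 2 :=
    isMultiplyPretransitive_of_le (n := 3) (by norm_num)
      (by rw [Nat.card_eq_fintype_card]; exact hn)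
  have h1 : IsPretransitive G α := by
    have : IsMultiplyPretransitive G α 1 :=
      isMultiplyPretransitive_of_le (n := 3) (by norm_num)
        (by rw [Nat.card_eq_fintype_card]; exact hn)
    rwa [is_one_pretransitive_iff] at this
  have e : ∀ g : G, wedge2 (g : Perm α) = (Q 2 (g : Perm α) : ℤ) - (V (g : Perm α) : ℤ) := by
    intro g
    unfold wedge2
    rw [F_sq, Q_eq, V_eq]
    rcases hF : F (g : Perm α) with _ | f
    · simp [Nat.descFactorial]
    · simp only [Nat.descFactorial]
      push_cast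
      simp
      ring
  simp_rw [e]
  rw [Finset.sum_sub_distrib, ← Nat.cast_sum, ← Nat.cast_sum, sum_V G h2]
  ring

theorem sum_wedge2_mul_F (h3 : IsMultiplyPretransitive G α 3) (hn : 3 ≤ Fintype.card α) :
    ∑ g : G, wedge2 (g : Perm α) * (F (g : Perm α) : ℤ) = 2 * (Fintype.card G : ℤ) := by
  have h2 : IsMultiplyPretransitive G α 2 :=
    isMultiplyPretransitive_of_le (n := 3) (by norm_num)
      (by rw [Nat.card_eq_fintype_card]; exact hn)
  have e : ∀ g : G, wedge2 (g : Perm α) * (F (g : Perm α) : ℤ) =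
      (Q 3 (g : Perm α) : ℤ) + 2 * (Q 2 (g : Perm α) : ℤ) - (U (g : Perm α) : ℤ) := by
    intro g
    unfold wedge2
    rw [F_sq, Q_eq, Q_eq, U_eq]
    rcases hF : F (g : Perm α) with _ | _ | f
    · simp [Nat.descFactorial]
    · simp [Nat.descFactorial]
    · simp only [Nat.descFactorial]
      push_cast
      simp
      ring
  simp_rw [e]
  rw [Finset.sum_sub_distrib, Finset.sum_add_distrib, ← Finset.mul_sum]
  simp_rw [← Nat.cast_sum]
  rw [sum_U G h3, sum_Q G 3 h3 hn, sum_Q G 2 h2 (by omega)]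
  ring

end more

end Cfsg.Agent.Lib.Lead.WedgeNorm
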