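import Cfsg.Agent.Lib.Lead.Extraspecial2Rank
import Cfsg.Agent.H1.Frattini

/-! # Models of extraspecial 2-groups of both types -/

set_option autoImplicit false
open Cfsg
open scoped commutatorElement

namespace Cfsg.Agent.Lead.ES2

open Cfsg.Agent.S2880 (Ctx kmul half dcount sum_two)

universe u v

theorem extraspecial_of_ES {E : Type u} [Group E] [Finite E] {z : E} (hes : ES z)
    (hna : ¬ ∀ x y : E, ⁅x, y⁆ = 1) : Cfsg.IsExtraspecial 2 E := by
  have C := hes.ctx
  haveI : Fact (Nat.Prime 2) := ⟨Nat.prime_two⟩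
  have hp : IsPGroup 2 E := by
    intro g
    refine ⟨2, ?_⟩
    rw [show (2 : ℕ) ^ 2 = 2 * 2 by norm_num, pow_mul, pow_two, pow_two]
    rcases C.sqr g with h | h <;> rw [h]
    · simp
    · exact C.sq
  have hcenter : ∀ w, w ∈ Subgroup.center E ↔ w = 1 ∨ w = z := by
    intro w
    constructor
    · intro hw; exact hes.cent w (Subgroup.mem_center_iff.mp hw)
    · rintro (rfl | rfl)
      · exact one_mem _
      · exact Subgroup.mem_center_iff.mpr C.cen
  have hZ : Subgroup.center E = Subgroup.zpowers z := by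
    ext w
    rw [hcenter]
    constructor
    · rintro (h | h)
      · rw [h]; exact one_mem _
      · rw [h]; exact Subgroup.mem_zpowers z
    · intro hw
      obtain ⟨k, rfl⟩ := Subgroup.mem_zpowers_iff.mp hw
      rcases Int.even_or_odd' k with ⟨j, rfl | rfl⟩
      · left; rw [zpow_mul, zpow_two, C.sq, one_zpow]
      · right; rw [zpow_add, zpow_mul, zpow_two, C.sq, one_zpow, one_mul, zpow_one]
  have hcardZ : Nat.card (Subgroup.center E) = 2 := by rw [hZ, Nat.card_zpowers, orderOf_z C]
  have hcomm : commutator E = Subgroup.center E := by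
    apply le_antisymm
    · rw [commutator_eq_closure, Subgroup.closure_le]
      rintro g ⟨a, b, rfl⟩
      exact (hcenter _).mpr (C.comm a b)
    · obtain ⟨x, y, hxy⟩ := exists_pair hes hna
      rw [hZ, Subgroup.zpowers_le, ← hxy, commutator_def]
      exact Subgroup.commutator_mem_commutator (Subgroup.mem_top x) (Subgroup.mem_top y)
  have hfr : frattini E = Subgroup.center E := by
    apply le_antisymm
    · have hb : frattini (E ⧸ Subgroup.center E) = ⊥ := by
        apply Cfsg.Agent.H1.frattini_eq_bot_of_elementary_abelian (p := 2)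
        · intro a b
          obtain ⟨a, rfl⟩ := QuotientGroup.mk_surjective a
          obtain ⟨b, rfl⟩ := QuotientGroup.mk_surjective b
          rw [← QuotientGroup.mk_mul, ← QuotientGroup.mk_mul, QuotientGroup.eq, hcenter]
          have : (a * b)⁻¹ * (b * a) = ⁅b⁻¹, a⁻¹⁆ := by
            simp only [commutatorElement_def]; group
          rw [this]; exact C.comm _ _
        · intro v
          obtain ⟨a, rfl⟩ := QuotientGroup.mk_surjective v
          rw [← QuotientGroup.mk_pow, QuotientGroup.eq_one_iff, hcenter, pow_two]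
          exact C.sqr a
      have := frattini_le_comap_frattini_of_surjective
        (φ := QuotientGroup.mk' (Subgroup.center E)) (QuotientGroup.mk'_surjective _)
      rw [hb, MonoidHom.comap_bot, QuotientGroup.ker_mk'] at this
      exact this
    · rw [← hcomm]; exact Cfsg.Agent.H1.commutator_le_frattini hp
  exact ⟨⟨hp, hfr, hcomm⟩, hcardZ⟩

/-- central involution -/
def CentInv {E : Type u} [Group E] (z : E) : Prop := z * z = 1 ∧ ∀ g : E, g * z = z * g

/-- `t ↦ z ^ t` for `t : ZMod 2` -/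
def zp {E : Type u} [Group E] (z : E) (t : ZMod 2) : E := if t = 0 then 1 else z

theorem zmod2_cases (t : ZMod 2) : t = 0 ∨ t = 1 := by
  revert t; decide

section zp

variable {E : Type u} [Group E] {z : E}

theorem zp_zero : zp z 0 = 1 := by simp [zp]

theorem zp_one : zp z 1 = z := by simp [zp]

theorem zp_add (h : CentInv z) (s t : ZMod 2) : zp z (s + t) = zp z s * zp z t := by
  rcases zmod2_cases s with rfl | rfl <;> rcases zmod2_cases t with rfl | rfl
  · simp [zp_zero]
  · simp [zp_zero]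
  · simp [zp_zero]
  · rw [show (1 : ZMod 2) + 1 = 0 by decide, zp_zero, zp_one, h.1]

theorem zp_cen (h : CentInv z) (t : ZMod 2) (g : E) : zp z t * g = g * zp z t := by
  rcases zmod2_cases t with rfl | rfl
  · simp [zp_zero]
  · rw [zp_one]; exact (h.2 g).symm

theorem zp_cases (t : ZMod 2) : zp z t = 1 ∨ zp z t = z := by
  rcases zmod2_cases t with rfl | rfl
  · exact Or.inl zp_zero
  · exact Or.inr zp_one

theorem zp_eq_one (hz : z ≠ 1) (t : ZMod 2) (h : zp z t = 1) : t = 0 := by
  rcases zmod2_cases t with rfl | rfl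
  · rfl
  · rw [zp_one] at h; exact absurd h hz

end zp

/-- the extension of `E` by a hyperbolic plane: underlying type -/
@[ext] structure Ext {E : Type u} [Group E] (z : E) where
  e : E
  a : ZMod 2
  b : ZMod 2

namespace Ext

variable {E : Type u} [Group E] {z : E}

instance : Mul (Ext z) := ⟨fun p q => ⟨p.e * q.e * zp z (p.b * q.a), p.a + q.a, p.b + q.b⟩⟩
instance : One (Ext z) := ⟨⟨1, 0, 0⟩⟩
instance : Inv (Ext z) := ⟨fun p => ⟨p.e⁻¹ * zp z (p.b * p.a), -p.a, -p.b⟩⟩

@[simp] theorem mul_e (p q : Ext z) : (p * q).e = p.e * q.e * zp z (p.b * q.a) := rfl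
@[simp] theorem mul_a (p q : Ext z) : (p * q).a = p.a + q.a := rfl
@[simp] theorem mul_b (p q : Ext z) : (p * q).b = p.b + q.b := rfl
@[simp] theorem one_e : (1 : Ext z).e = 1 := rfl
@[simp] theorem one_a : (1 : Ext z).a = 0 := rfl
@[simp] theorem one_b : (1 : Ext z).b = 0 := rfl
@[simp] theorem inv_e (p : Ext z) : (p⁻¹).e = p.e⁻¹ * zp z (p.b * p.a) := rfl
@[simp] theorem inv_a (p : Ext z) : (p⁻¹).a = -p.a := rfl
@[simp] theorem inv_b (p : Ext z) : (p⁻¹).b = -p.b := rfl

instance instGroup [hz : Fact (CentInv z)] : Group (Ext z) where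
  mul_assoc p q r := by
    have h := hz.out
    ext
    · simp only [mul_e, mul_a, mul_b]
      have e1 : p.e * q.e * zp z (p.b * q.a) * r.e * zp z ((p.b + q.b) * r.a) =
          p.e * q.e * r.e * zp z (p.b * q.a + (p.b + q.b) * r.a) := by
        rw [zp_add h, mul_assoc (p.e * q.e) (zp z _) r.e, zp_cen h, ← mul_assoc, mul_assoc]
      have e2 : p.e * (q.e * r.e * zp z (q.b * r.a)) * zp z (p.b * (q.a + r.a)) =
          p.e * q.e * r.e * zp z (q.b * r.a + p.b * (q.a + r.a)) := by
        rw [zp_add h]; simp only [mul_assoc]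
      rw [e1, e2]
      congr 2
      ring
    · simp only [mul_a]; ring
    · simp only [mul_b]; ring
  one_mul p := by
    ext <;> simp [zp_zero]
  mul_one p := by
    ext <;> simp [zp_zero]
  inv_mul_cancel p := by
    have h := hz.out
    ext
    · simp only [mul_e, inv_e, inv_b, one_e]
      rw [mul_assoc (p.e⁻¹) (zp z _) p.e, zp_cen h, ← mul_assoc, inv_mul_cancel, one_mul,
        ← zp_add h]
      rw [show p.b * p.a + -p.b * p.a = 0 by ring, zp_zero]
    · simp only [mul_a, inv_a, one_a]; ring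
    · simp only [mul_b, inv_b, one_b]; ring


variable [hz : Fact (CentInv z)]

/-- the embedding of `E` -/
def ι (z : E) (e : E) : Ext z := ⟨e, 0, 0⟩

@[simp] theorem ι_e (e : E) : (ι z e).e = e := rfl
@[simp] theorem ι_a (e : E) : (ι z e).a = 0 := rfl
@[simp] theorem ι_b (e : E) : (ι z e).b = 0 := rfl

theorem ι_one : ι z 1 = 1 := rfl

theorem eq_ι (p : Ext z) (ha : p.a = 0) (hb : p.b = 0) : p = ι z p.e := by
  ext <;> simp [ha, hb]

theorem comm_form (C : Ctx z) (p q : Ext z) :
    ∃ w : E, (w = 1 ∨ w = z) ∧ p * q = ι z w * (q * p) := by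
  have h := hz.out
  refine ⟨⁅p.e, q.e⁆ * zp z (p.b * q.a + q.b * p.a), ?_, ?_⟩
  · rcases C.comm p.e q.e with h1 | h1 <;>
      rcases zp_cases (z := z) (p.b * q.a + q.b * p.a) with h2 | h2 <;> rw [h1, h2]
    · left; simp
    · right; simp
    · right; simp
    · left; exact C.sq
  · ext
    · simp only [mul_e, ι_e, ι_b, mul_a, zero_mul, zp_zero, mul_one]
      rw [mul_assoc ⁅p.e, q.e⁆, ← mul_assoc (zp z _), zp_cen h, mul_assoc (q.e * p.e),
        ← zp_add h, ← mul_assoc, ← swap_mul]
      congr 1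
      rw [show p.b * q.a + q.b * p.a + q.b * p.a = p.b * q.a + (q.b * p.a + q.b * p.a) by ring,
        CharTwo.add_self_eq_zero, add_zero]
    · simp only [mul_a, ι_a]; ring
    · simp only [mul_b, ι_b]; ring

theorem commutator_eq (p q w : Ext z) (h : p * q = w * (q * p)) : ⁅p, q⁆ = w := by
  rw [commutatorElement_def]
  have : p * q * p⁻¹ * q⁻¹ = (p * q) * (q * p)⁻¹ := by group
  rw [this, h]; group

/-- the hyperbolic pair -/
def X (z : E) : Ext z := ⟨1, 1, 0⟩
/-- the hyperbolic pair -/
def Y (z : E) : Ext z := ⟨1, 0, 1⟩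

theorem X_comm_iff (hz1 : z ≠ 1) (w : Ext z) : X z * w = w * X z ↔ w.b = 0 := by
  constructor
  · intro h
    have := congrArg Ext.e h
    simp only [mul_e, X, one_mul, zero_mul, zp_zero, mul_one] at this
    have h1 : zp z w.b = 1 := by
      have h2 : w.e * 1 = w.e * zp z w.b := by rw [mul_one]; exact this
      exact (mul_left_cancel h2).symm
    exact zp_eq_one hz1 _ h1
  · intro h
    ext
    · simp [X, h, zp_zero]
    · simp only [mul_a, X]; ring
    · simp only [mul_b, X]; ring

theorem Y_comm_iff (hz1 : z ≠ 1) (w : Ext z) : Y z * w = w * Y z ↔ w.a = 0 := by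
  constructor
  · intro h
    have := congrArg Ext.e h
    simp only [mul_e, Y, one_mul, mul_zero, zp_zero, mul_one] at this
    have h1 : zp z w.a = 1 := by
      have h2 : w.e * zp z w.a = w.e * 1 := by rw [mul_one]; exact this
      exact mul_left_cancel h2
    exact zp_eq_one hz1 _ h1
  · intro h
    ext
    · simp [Y, h, zp_zero]
    · simp only [mul_a, Y]; ring
    · simp only [mul_b, Y]; ring

theorem es (hes : ES z) : ES (ι z z) := by
  have C := hes.ctx
  have h := hz.out
  refine ⟨⟨?_, ?_, ?_, ?_, ?_⟩, ?_⟩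
  · intro hh; exact C.ne (congrArg Ext.e hh)
  · ext <;> simp [zp_zero, C.sq]
  · intro p
    ext
    · simp only [mul_e, ι_e, ι_a, ι_b, mul_zero, zero_mul, zp_zero, mul_one]
      exact C.cen p.e
    · simp
    · simp
  · intro p q
    obtain ⟨w, hw, hpq⟩ := comm_form C p q
    rcases hw with rfl | rfl
    · left; rw [commutator_eq p q _ hpq]; rfl
    · right; exact commutator_eq p q _ hpq
  · intro p
    have hpp : p * p = ι z (p.e * p.e * zp z (p.b * p.a)) := by
      ext <;> simp [CharTwo.add_self_eq_zero]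
    rw [hpp]
    rcases C.sqr p.e with h1 | h1 <;> rcases zp_cases (z := z) (p.b * p.a) with h2 | h2 <;>
      rw [h1, h2]
    · left; rw [one_mul]; rfl
    · right; rw [one_mul]
    · right; rw [mul_one]
    · left; rw [C.sq]; rfl
  · intro w hw
    have hb : w.b = 0 := (X_comm_iff C.ne w).mp (hw (X z))
    have ha : w.a = 0 := (Y_comm_iff C.ne w).mp (hw (Y z))
    have hcen : ∀ e : E, e * w.e = w.e * e := by
      intro e
      have := congrArg Ext.e (hw (ι z e))
      simpa [ha, hb, zp_zero] using this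
    rw [eq_ι w ha hb]
    rcases hes.cent w.e hcen with h1 | h1 <;> rw [h1]
    · left; rfl
    · right; rfl

theorem X_sq : X z * X z = 1 := by
  ext
  · simp [X, zp_zero]
  · simp only [mul_a, X, one_a]; decide
  · simp [X]

theorem Y_sq : Y z * Y z = 1 := by
  ext
  · simp [Y, zp_zero]
  · simp [Y]
  · simp only [mul_b, Y, one_b]; decide

theorem XY (hes : ES z) : ⁅X z, Y z⁆ = ι z z := by
  refine ((es hes).ctx.comm (X z) (Y z)).resolve_left (fun h => ?_)
  rw [commutatorElement_eq_one_iff_mul_comm] at h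
  have := congrArg Ext.e h
  simp [X, Y, zp_zero, zp_one] at this
  exact hes.ctx.ne this.symm

theorem mem_cent_iff (hz1 : z ≠ 1) (c : Ext z) :
    c ∈ Subgroup.centralizer ({X z, Y z} : Set (Ext z)) ↔ c.a = 0 ∧ c.b = 0 := by
  simp only [Subgroup.mem_centralizer_iff, Set.mem_insert_iff, Set.mem_singleton_iff,
    forall_eq_or_imp, forall_eq]
  rw [X_comm_iff hz1, Y_comm_iff hz1]
  exact and_comm

/-- `Ext z` as a plain product -/
def equivProd (z : E) : Ext z ≃ E × ZMod 2 × ZMod 2 where
  toFun p := (p.e, p.a, p.b)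
  invFun t := ⟨t.1, t.2.1, t.2.2⟩
  left_inv _ := rfl
  right_inv _ := rfl

instance [Finite E] : Finite (Ext z) := Finite.of_equiv _ (equivProd z).symm

theorem card_eq [Finite E] : Nat.card (Ext z) = 4 * Nat.card E := by
  rw [Nat.card_congr (equivProd z), Nat.card_prod, Nat.card_prod, Nat.card_zmod]
  ring

theorem nC_one (hz1 : z ≠ 1) : nC (X z) (Y z) (1 : Ext z) = NN E := by
  apply Nat.card_congr
  refine ⟨fun c => ⟨c.1.e, ?_⟩, fun e => ⟨ι z e.1, ?_, ?_⟩, ?_, ?_⟩
  · obtain ⟨c, hc, hcc⟩ := c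
    rw [mem_cent_iff hz1] at hc
    have := congrArg Ext.e hcc
    simpa [hc.1, hc.2, zp_zero] using this
  · rw [mem_cent_iff hz1]; exact ⟨rfl, rfl⟩
  · ext
    · simp [zp_zero, e.2]
    · simp
    · simp
  · rintro ⟨c, hc, hcc⟩
    rw [mem_cent_iff hz1] at hc
    apply Subtype.ext
    exact (eq_ι c hc.1 hc.2).symm
  · intro e; rfl

end Ext

section models

theorem step (E : Type u) [Group E] [Finite E] (z : E) (hes : ES z) :
    ∃ (E' : Type u) (_ : Group E') (_ : Finite E') (z' : E'), ES z' ∧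
      Nat.card E' = 4 * Nat.card E ∧ NN E' = 2 * NN E + Nat.card E := by
  have C := hes.ctx
  haveI : Fact (CentInv z) := ⟨⟨C.sq, C.cen⟩⟩
  refine ⟨Ext z, inferInstance, inferInstance, Ext.ι z z, Ext.es hes, Ext.card_eq, ?_⟩
  have hes' := Ext.es hes
  have hxy := Ext.XY hes
  have h1 := countD hes'.ctx hxy Ext.X_sq Ext.Y_sq
  have h2 := card_C (x := Ext.X z) (y := Ext.Y z) hes'.ctx
  have h3 := card_E hes'.ctx hxy
  have h4 := Ext.nC_one (z := z) C.ne
  have h5 := Ext.card_eq (z := z)
  omega

theorem es_of_card_two {E : Type u} [Group E] (h : Nat.card E = 2) (z : E) (hz : z ≠ 1) :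
    ES z := by
  obtain ⟨w, hw1, hw⟩ := (Nat.card_eq_two_iff' (1 : E)).mp h
  have hzw : z = w := hw z hz
  subst hzw
  have hall : ∀ e : E, e = 1 ∨ e = z := by
    intro e
    by_cases he : e = 1
    · exact Or.inl he
    · exact Or.inr (hw e he)
  have hsq : z * z = 1 := by
    rcases hall (z * z) with h1 | h1
    · exact h1
    · exfalso; apply hz
      have : z * z = z * 1 := by rw [h1, mul_one]
      exact mul_left_cancel this
  have hcomm : ∀ x y : E, x * y = y * x := by
    intro x y
    rcases hall x with rfl | rfl <;> rcases hall y with rfl | rfl <;> simp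
  refine ⟨⟨hz, hsq, fun x => hcomm x z, fun x y => Or.inl ?_, fun x => ?_⟩, fun w _ => hall w⟩
  · exact commutatorElement_eq_one_iff_mul_comm.mpr (hcomm x y)
  · rcases hall x with rfl | rfl
    · left; simp
    · left; exact hsq

theorem exists_plus : ∀ n : ℕ, ∃ (E : Type) (_ : Group E) (_ : Finite E) (z : E), ES z ∧
    Nat.card E = 2 ^ (2 * n + 1) ∧ NN E = 2 ^ (2 * n) + 2 ^ n := by
  intro n
  induction n with
  | zero =>
    have hc : Nat.card (Multiplicative (ZMod 2)) = 2 := by
      rw [Nat.card_congr Multiplicative.toAdd, Nat.card_zmod]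
    have hz : (Multiplicative.ofAdd (1 : ZMod 2)) ≠ 1 := by decide
    have hes := es_of_card_two hc _ hz
    refine ⟨Multiplicative (ZMod 2), inferInstance, inferInstance, _, hes, by rw [hc]; norm_num, ?_⟩
    have hab : ∀ x y : Multiplicative (ZMod 2), ⁅x, y⁆ = 1 := fun x y =>
      commutatorElement_eq_one_iff_mul_comm.mpr (mul_comm x y)
    rw [(abelian_case hes hab).2.2]; norm_num
  | succ k ih =>
    obtain ⟨E, _, _, z, hes, hc, hN⟩ := ih
    obtain ⟨E', i1, i2, z', hes', hc', hN'⟩ := step E z hes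
    obtain ⟨p1, p2, p3, p4, p5⟩ := pow_facts k
    refine ⟨E', i1, i2, z', hes', ?_, ?_⟩
    · rw [hc', hc, p4, p3]; ring
    · rw [hN', hN, hc, p1, p2, p3]; ring

theorem exists_minus : ∀ n : ℕ, ∃ (E : Type) (_ : Group E) (_ : Finite E) (z : E), ES z ∧
    Nat.card E = 2 ^ (2 * (n + 1) + 1) ∧ NN E + 2 ^ (n + 1) = 2 ^ (2 * (n + 1)) := by
  intro n
  induction n with
  | zero =>
    refine ⟨QuaternionGroup 2, inferInstance, inferInstance, QuaternionGroup.a 2,
      ⟨⟨by decide, by decide, by decide, by decide, by decide⟩, by decide⟩, ?_, ?_⟩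
    · rw [Nat.card_eq_fintype_card, QuaternionGroup.card]; norm_num
    · have : NN (QuaternionGroup 2) = 2 := by
        rw [NN, Nat.card_eq_fintype_card]; decide
      rw [this]; norm_num
  | succ k ih =>
    obtain ⟨E, _, _, z, hes, hc, hN⟩ := ih
    obtain ⟨E', i1, i2, z', hes', hc', hN'⟩ := step E z hes
    obtain ⟨p1, p2, p3, p4, p5⟩ := pow_facts (k + 1)
    refine ⟨E', i1, i2, z', hes', ?_, ?_⟩
    · rw [hc', hc, p4, p3]; ring
    · rw [hN', hc, p1, p2, p3]; omega

end models

end Cfsg.Agent.Lead.ES2
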