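import Cfsg.Agent.Lib.Lead.Extraspecial2
import Cfsg.Prelude.Def_CaseTheorems

/-! # Ranks of extraspecial 2-groups -/

set_option autoImplicit false
open Cfsg
open scoped commutatorElement

namespace Cfsg.Agent.Lead.ES2

open Cfsg.Agent.S2880 (Ctx kmul half dcount sum_two)

universe u v

section rank

/-- commutative of exponent two, in elementary terms -/
def EA' {E : Type*} [Group E] (A : Subgroup E) : Prop :=
  (∀ a ∈ A, ∀ b ∈ A, a * b = b * a) ∧ (∀ a ∈ A, a * a = 1)

theorem liftEA {E : Type u} [Group E] [Finite E] {z x y : E} (C : Ctx z) (hxy : ⁅x, y⁆ = z)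
    (hx : x * x = 1) (A₀ : Subgroup (Subgroup.centralizer ({x, y} : Set E))) (h₀ : EA' A₀) :
    ∃ A : Subgroup E, EA' A ∧ Nat.card A = 2 * Nat.card A₀ := by
  have hx1 : x ≠ 1 := by
    rintro rfl; rw [commutatorElement_one_left] at hxy; exact C.ne hxy.symm
  obtain ⟨f, hf⟩ : ∃ f : Subgroup.zpowers x →* E, ∀ u, f u = (u : E) :=
    ⟨(Subgroup.zpowers x).subtype, fun _ => rfl⟩
  obtain ⟨g, hg⟩ : ∃ g : A₀ →* E, ∀ a : A₀,
      g a = ((a : Subgroup.centralizer ({x, y} : Set E)) : E) :=
    ⟨(Subgroup.subtype _).comp A₀.subtype, fun _ => rfl⟩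
  have hcomm : ∀ (u : Subgroup.zpowers x) (a : A₀), Commute (f u) (g a) := by
    intro u a
    obtain ⟨k, hk⟩ := Subgroup.mem_zpowers_iff.mp u.2
    have hca : Commute x ((a : Subgroup.centralizer ({x, y} : Set E)) : E) := (memC_comm a.1.2).1
    rw [hf, hg, ← hk]
    exact Commute.zpow_left hca k
  obtain ⟨Φ, hΦ⟩ : ∃ Φ : Subgroup.zpowers x × A₀ →* E, ∀ p, Φ p = f p.1 * g p.2 :=
    ⟨MonoidHom.noncommCoprod f g hcomm, fun _ => rfl⟩
  have hu_sq : ∀ u : Subgroup.zpowers x, (u : E) * u = 1 := by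
    intro u
    obtain ⟨k, hk⟩ := Subgroup.mem_zpowers_iff.mp u.2
    rw [← hk, ← zpow_add, ← two_mul, zpow_mul, zpow_two, hx, one_zpow]
  have hinj : Function.Injective Φ := by
    rw [injective_iff_map_eq_one]
    rintro ⟨u, a⟩ h
    rw [hΦ, hf, hg] at h
    obtain ⟨k, hk⟩ := Subgroup.mem_zpowers_iff.mp u.2
    have h1 : z ^ k = 1 := by
      have := congrArg (fun e => ⁅e, y⁆) h
      simp only [commutatorElement_one_left] at this
      rw [kmul' C, ← hk, czpow C, hxy, (memC.mp a.1.2).2, mul_one] at this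
      exact this
    obtain ⟨j, rfl⟩ := z_zpow_eq_one C k h1
    have hu1 : (u : E) = 1 := by rw [← hk, zpow_mul, zpow_two, hx, one_zpow]
    have ha1 : ((a : Subgroup.centralizer ({x, y} : Set E)) : E) = 1 := by
      simp only [hu1, one_mul] at h; exact h
    exact Prod.ext (Subtype.ext hu1) (Subtype.ext (Subtype.ext ha1))
  have hzp : ∀ u v : Subgroup.zpowers x, u * v = v * u := by
    intro u v
    obtain ⟨k, hk⟩ := Subgroup.mem_zpowers_iff.mp u.2
    obtain ⟨l, hl⟩ := Subgroup.mem_zpowers_iff.mp v.2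
    apply Subtype.ext
    change (u : E) * v = v * u
    rw [← hk, ← hl]
    exact (Commute.zpow_zpow (Commute.refl x) k l).eq
  refine ⟨Φ.range, ⟨?_, ?_⟩, ?_⟩
  · rintro _ ⟨p, rfl⟩ _ ⟨q, rfl⟩
    rw [← map_mul, ← map_mul]
    congr 1
    exact Prod.ext (hzp p.1 q.1) (Subtype.ext (h₀.1 _ p.2.2 _ q.2.2))
  · rintro _ ⟨p, rfl⟩
    rw [← map_mul]
    have : p * p = 1 := Prod.ext (Subtype.ext (hu_sq p.1)) (Subtype.ext (h₀.2 _ p.2.2))
    rw [this, map_one]
  · rw [← Nat.card_congr (MonoidHom.ofInjective hinj).toEquiv, Nat.card_prod, Nat.card_zpowers,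
      orderOf_eq_prime (by rw [pow_two]; exact hx) hx1]

theorem T3 : ∀ m : ℕ, ∀ (E : Type u) [Group E] [Finite E] (z : E), ES z →
    Nat.card E = 2 ^ (2 * m + 1) →
    (NN E = 2 ^ (2 * m) + 2 ^ m → ∃ A : Subgroup E, EA' A ∧ Nat.card A = 2 ^ (m + 1)) ∧
    (1 ≤ m → NN E + 2 ^ m = 2 ^ (2 * m) → ∃ A : Subgroup E, EA' A ∧ Nat.card A = 2 ^ m) := by
  intro m
  induction m with
  | zero =>
    intro E _ _ z hes hn
    refine ⟨fun _ => ?_, fun h => absurd h (by norm_num)⟩
    have hab : ∀ x y : E, ⁅x, y⁆ = 1 := by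
      by_contra hab
      obtain ⟨x, y, hxy⟩ := exists_pair hes hab
      have := card_E hes.ctx hxy
      have hpos : 0 < Nat.card (Subgroup.centralizer ({x, y} : Set E)) := Nat.card_pos
      norm_num at hn
      omega
    obtain ⟨hall, h2, -⟩ := abelian_case hes hab
    refine ⟨⊤, ⟨fun a _ b _ => commutatorElement_eq_one_iff_mul_comm.mp (hab a b), fun a _ => ?_⟩, ?_⟩
    · rcases hall a with rfl | rfl
      · simp
      · exact hes.ctx.sq
    · rw [Subgroup.card_top, h2]; norm_num
  | succ k ih =>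
    intro E _ _ z hes hn
    have C := hes.ctx
    obtain ⟨p1, p2, p3, p4, p5⟩ := pow_facts k
    have hk0 : 0 < 2 ^ k := by positivity
    have hab : ¬ ∀ x y : E, ⁅x, y⁆ = 1 := by
      intro hab
      obtain ⟨-, h2, -⟩ := abelian_case hes hab
      rw [hn, p4] at h2
      have : 0 < 2 ^ (2 * k) := by positivity
      omega
    -- the inductive step with a dihedral pair
    have step : ∀ x y : E, ⁅x, y⁆ = z → x * x = 1 → y * y = 1 →
        (NN E = 2 ^ (2 * (k + 1)) + 2 ^ (k + 1) →
          ∃ A : Subgroup E, EA' A ∧ Nat.card A = 2 ^ (k + 1 + 1)) ∧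
        (1 ≤ k → NN E + 2 ^ (k + 1) = 2 ^ (2 * (k + 1)) →
          ∃ A : Subgroup E, EA' A ∧ Nat.card A = 2 ^ (k + 1)) := by
      intro x y hxy hx hy
      have hcE := card_E C hxy
      have hcC := card_C (x := x) (y := y) C
      have hNC := NN_C (x := x) (y := y)
      have hN := countD C hxy hx hy
      have hC : Nat.card (Subgroup.centralizer ({x, y} : Set E)) = 2 ^ (2 * k + 1) := by
        rw [hn, p4] at hcE; rw [p3]; omega
      obtain ⟨ih1, ih2⟩ := ih _ _ (es_sub hes hxy) hC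
      rw [hNC] at ih1 ih2
      rw [p3] at hC
      constructor
      · intro h
        rw [p1, p2] at h
        obtain ⟨A₀, hA₀, hc₀⟩ := ih1 (by omega)
        obtain ⟨A, hA, hc⟩ := liftEA C hxy hx A₀ hA₀
        exact ⟨A, hA, by rw [hc, hc₀, pow_succ 2 (k + 1)]; ring⟩
      · intro hk1 h
        rw [p1, p2] at h
        obtain ⟨A₀, hA₀, hc₀⟩ := ih2 hk1 (by omega)
        obtain ⟨A, hA, hc⟩ := liftEA C hxy hx A₀ hA₀
        exact ⟨A, hA, by rw [hc, hc₀, pow_succ 2 k]; ring⟩
    rcases exists_norm_pair hes hab with ⟨x, y, hxy, hx, hy⟩ | ⟨hno, -⟩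
    · obtain ⟨s1, s2⟩ := step x y hxy hx hy
      refine ⟨s1, fun _ h => ?_⟩
      by_cases hk : 1 ≤ k
      · exact s2 hk h
      · have hk0' : k = 0 := by omega
        subst hk0'
        refine ⟨Subgroup.zpowers z, ⟨?_, ?_⟩, ?_⟩
        · intro a ha b hb
          obtain ⟨i, rfl⟩ := Subgroup.mem_zpowers_iff.mp ha
          obtain ⟨j, rfl⟩ := Subgroup.mem_zpowers_iff.mp hb
          exact (Commute.zpow_zpow (Commute.refl z) i j).eq
        · intro a ha
          obtain ⟨i, rfl⟩ := Subgroup.mem_zpowers_iff.mp ha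
          rw [← zpow_add, ← two_mul, zpow_mul, zpow_two, C.sq, one_zpow]
        · rw [Nat.card_zpowers, orderOf_z C]; norm_num
    · have h2 := NN_two hes hno
      constructor
      · intro h
        rw [p1, p2] at h
        have : 0 < 2 ^ (2 * k) := by positivity
        omega
      · intro _ h
        rw [p1, p2] at h
        have hk0' : k = 0 := by
          by_contra hk
          have : 2 ≤ 2 ^ k := by
            calc 2 = 2 ^ 1 := by norm_num
              _ ≤ 2 ^ k := Nat.pow_le_pow_right (by norm_num) (by omega)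
          rw [p5] at h
          nlinarith
        subst hk0'
        refine ⟨Subgroup.zpowers z, ⟨?_, ?_⟩, ?_⟩
        · intro a ha b hb
          obtain ⟨i, rfl⟩ := Subgroup.mem_zpowers_iff.mp ha
          obtain ⟨j, rfl⟩ := Subgroup.mem_zpowers_iff.mp hb
          exact (Commute.zpow_zpow (Commute.refl z) i j).eq
        · intro a ha
          obtain ⟨i, rfl⟩ := Subgroup.mem_zpowers_iff.mp ha
          rw [← zpow_add, ← two_mul, zpow_mul, zpow_two, C.sq, one_zpow]
        · rw [Nat.card_zpowers, orderOf_z C]; norm_num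


/-- abelian subgroups are small -/
theorem abelian_bound {E : Type u} [Group E] [Finite E] {z : E} (hes : ES z) (A : Subgroup E)
    (hAcomm : ∀ a ∈ A, ∀ b ∈ A, a * b = b * a) :
    Nat.card A * Nat.card A ≤ 2 * Nat.card E := by
  classical
  have C := hes.ctx
  haveI : Fintype E := Fintype.ofFinite E
  haveI : Fintype A := Fintype.ofFinite A
  have hAC : A ≤ Subgroup.centralizer (A : Set E) := by
    intro a ha
    rw [Subgroup.mem_centralizer_iff]
    intro b hb
    exact hAcomm b hb a ha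
  have hf : ∑ a : A, 2 * Nat.card {y : E // (a : E) * y = y * a} =
      (Nat.card A + Nat.card {a : A // (a : E) ∈ Subgroup.center E}) * Nat.card E := by
    apply sum_two
    · intro a ha
      congr 1
      apply Nat.card_congr
      exact Equiv.subtypeUnivEquiv (fun y => ((Subgroup.mem_center_iff.mp ha) y).symm)
    · intro a ha
      have : ∃ y₀ : E, ¬ (y₀ * (a : E) = a * y₀) := by
        by_contra hcon
        push_neg at hcon
        exact ha (Subgroup.mem_center_iff.mpr hcon)
      obtain ⟨y₀, hy₀⟩ := this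
      have hh := half C (MonoidHom.id E) 1 (Or.inl rfl) (a : E) y₀ (by
        intro h
        rw [commutatorElement_eq_one_iff_mul_comm] at h
        exact hy₀ h.symm)
      rw [← hh]
      congr 1
      apply Nat.card_congr
      exact Equiv.subtypeEquivRight (fun y => by
        rw [MonoidHom.id_apply, commutatorElement_eq_one_iff_mul_comm])
  have hg : ∑ y : E, 2 * Nat.card {a : A // (a : E) * y = y * a} =
      (Nat.card E + Nat.card {y : E // y ∈ Subgroup.centralizer (A : Set E)}) * Nat.card A := by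
    apply sum_two
    · intro y hy
      congr 1
      apply Nat.card_congr
      exact Equiv.subtypeUnivEquiv (fun a => (Subgroup.mem_centralizer_iff.mp hy) a a.2)
    · intro y hy
      have : ∃ a₀ : A, ¬ ((a₀ : E) * y = y * a₀) := by
        by_contra hcon
        push_neg at hcon
        apply hy
        rw [Subgroup.mem_centralizer_iff]
        intro a ha
        exact hcon ⟨a, ha⟩
      obtain ⟨a₀, ha₀⟩ := this
      have hh := half C A.subtype 1 (Or.inl rfl) y a₀ (by
        intro h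
        rw [commutatorElement_eq_one_iff_mul_comm] at h
        exact ha₀ h.symm)
      rw [← hh]
      congr 1
      apply Nat.card_congr
      exact Equiv.subtypeEquivRight (fun a => by
        rw [Subgroup.coe_subtype, commutatorElement_eq_one_iff_mul_comm, eq_comm])
  have hdc := dcount (fun (a : A) (y : E) => (a : E) * y = y * a)
  have hfg : (Nat.card A + Nat.card {a : A // (a : E) ∈ Subgroup.center E}) * Nat.card E =
      (Nat.card E + Nat.card {y : E // y ∈ Subgroup.centralizer (A : Set E)}) * Nat.card A := by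
    rw [← hf, ← hg, ← Finset.mul_sum, ← Finset.mul_sum, hdc]
  have hnZ : Nat.card {a : A // (a : E) ∈ Subgroup.center E} ≤ 2 := by
    have : Nat.card (Fin 2) = 2 := Nat.card_fin 2
    rw [← this]
    apply Nat.card_le_card_of_injective (fun a => if (a.1 : E) = 1 then (0 : Fin 2) else 1)
    intro a b hab
    have ha := hes.cent a.1 (Subgroup.mem_center_iff.mp a.2)
    have hb := hes.cent b.1 (Subgroup.mem_center_iff.mp b.2)
    apply Subtype.ext; apply Subtype.ext
    by_cases h1 : (a.1 : E) = 1 <;> by_cases h2 : (b.1 : E) = 1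
    · rw [h1, h2]
    · simp [h1, h2] at hab
    · simp [h1, h2] at hab
    · rw [ha.resolve_left h1, hb.resolve_left h2]
  have hnC : Nat.card A ≤ Nat.card {y : E // y ∈ Subgroup.centralizer (A : Set E)} :=
    Subgroup.card_le_of_le hAC
  have h1 : Nat.card {a : A // (a : E) ∈ Subgroup.center E} * Nat.card E =
      Nat.card {y : E // y ∈ Subgroup.centralizer (A : Set E)} * Nat.card A := by
    have := hfg
    rw [add_mul, add_mul, mul_comm (Nat.card A) (Nat.card E)] at this
    exact Nat.add_left_cancel this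
  calc Nat.card A * Nat.card A
      ≤ Nat.card {y : E // y ∈ Subgroup.centralizer (A : Set E)} * Nat.card A :=
        Nat.mul_le_mul_right _ hnC
    _ = Nat.card {a : A // (a : E) ∈ Subgroup.center E} * Nat.card E := h1.symm
    _ ≤ 2 * Nat.card E := Nat.mul_le_mul_right _ hnZ

theorem NN_add_order4 {E : Type u} [Group E] [Finite E] {z : E} (C : Ctx z) :
    NN E + Nat.card {x : E // orderOf x = 4} = Nat.card E := by
  have h := card_split (fun _ : E => True) (fun e => e * e = 1)
  simp only [and_true] at h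
  rw [Nat.card_congr (Equiv.subtypeUnivEquiv (fun _ => trivial))] at h
  rw [h]
  congr 1
  apply Nat.card_congr
  refine Equiv.subtypeEquivRight (fun e => ?_)
  constructor
  · intro h4 h1
    have : orderOf e ∣ 2 := orderOf_dvd_of_pow_eq_one (by rw [pow_two]; exact h1)
    rw [h4] at this
    omega
  · intro h1
    have hz : e * e = z := (C.sqr e).resolve_left h1
    have := orderOf_eq_prime_pow (x := e) (p := 2) (n := 1) (by rw [pow_one, pow_two]; exact h1)
      (by
        rw [show (2 : ℕ) ^ (1 + 1) = 2 * 2 by norm_num, pow_mul, pow_two, pow_two, hz, C.sq])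
    rw [this]; norm_num

theorem plus_of_big_EA {E : Type u} [Group E] [Finite E] (hE : Cfsg.IsExtraspecial 2 E) (m : ℕ)
    (hm : 1 ≤ m) (hcard : Nat.card E = 2 ^ (2 * m + 1)) (A : Subgroup E)
    (hA : Cfsg.IsElementaryAbelian 2 A) (hAc : Nat.card A = 2 ^ (m + 1)) :
    NN E = 2 ^ (2 * m) + 2 ^ m := by
  have h4 := Cfsg.Agent.S2880.result m hm hE hcard ⟨A, hA, hAc⟩
  obtain ⟨z, hes, -⟩ := es_of_extraspecial hE
  have h := NN_add_order4 (E := E) hes.ctx
  rw [h4, hcard] at h
  have e1 : 2 ^ (2 * m + 1) = 2 * 2 ^ (2 * m) := by rw [pow_succ]; ring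
  have e2 : 2 ^ m ≤ 2 ^ (2 * m) := Nat.pow_le_pow_right (by norm_num) (by omega)
  omega

theorem isMulCommutative_of {E : Type*} [Group E] (A : Subgroup E)
    (h : ∀ a ∈ A, ∀ b ∈ A, a * b = b * a) : IsMulCommutative A :=
  ⟨⟨fun a b => Subtype.ext (h a a.2 b b.2)⟩⟩

theorem comm_of_isMulCommutative {E : Type*} [Group E] (A : Subgroup E) (hA : IsMulCommutative A) :
    ∀ a ∈ A, ∀ b ∈ A, a * b = b * a := by
  intro a ha b hb
  have := hA.is_comm.comm ⟨a, ha⟩ ⟨b, hb⟩
  simpa using congrArg Subtype.val this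

/-- the general upper bound for the rank -/
theorem rank_le {E : Type u} [Group E] [Finite E] (hE : Cfsg.IsExtraspecial 2 E) (n : ℕ)
    (hn : Nat.card E = 2 ^ (2 * n + 1)) (A : Subgroup E) (hA : IsMulCommutative A) :
    Nat.card A ≤ 2 ^ (n + 1) := by
  obtain ⟨z, hes, -⟩ := es_of_extraspecial hE
  have h := abelian_bound hes A (comm_of_isMulCommutative A hA)
  rw [hn] at h
  by_contra hcon
  push_neg at hcon
  have e : 2 * 2 ^ (2 * n + 1) = 2 ^ (n + 1) * 2 ^ (n + 1) := by
    rw [← pow_add, ← pow_succ']; congr 1; ring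
  rw [e] at h
  have := Nat.mul_lt_mul'' hcon hcon
  omega

theorem rank_plus {E : Type u} [Group E] [Finite E] (hE : Cfsg.IsExtraspecial 2 E) (n : ℕ)
    (hn : Nat.card E = 2 ^ (2 * n + 1)) (hplus : NN E = 2 ^ (2 * n) + 2 ^ n) :
    Cfsg.PRankLE 2 (n + 1) E ∧ ¬ Cfsg.PRankLE 2 n E ∧
      ∃ A : Subgroup E, Cfsg.IsElementaryAbelian 2 A ∧ Nat.card A = 2 ^ (n + 1) := by
  obtain ⟨z, hes, -⟩ := es_of_extraspecial hE
  obtain ⟨A, hA, hAc⟩ := (T3 n E z hes hn).1 hplus
  have hA2 : ∀ a ∈ A, a ^ 2 = 1 := fun a ha => by rw [pow_two]; exact hA.2 a ha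
  refine ⟨fun B hB _ => rank_le hE n hn B hB, fun h => ?_, A, ⟨isMulCommutative_of A hA.1, hA2⟩, hAc⟩
  have := h A (isMulCommutative_of A hA.1) hA2
  rw [hAc] at this
  have : 2 ^ n < 2 ^ (n + 1) := Nat.pow_lt_pow_right (by norm_num) (by omega)
  omega

theorem rank_minus {E : Type u} [Group E] [Finite E] (hE : Cfsg.IsExtraspecial 2 E) (n : ℕ)
    (hn1 : 1 ≤ n) (hn : Nat.card E = 2 ^ (2 * n + 1)) (hminus : NN E + 2 ^ n = 2 ^ (2 * n)) :
    Cfsg.PRankLE 2 n E ∧ ¬ Cfsg.PRankLE 2 (n - 1) E ∧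
      ∃ A : Subgroup E, Cfsg.IsElementaryAbelian 2 A ∧ Nat.card A = 2 ^ n := by
  obtain ⟨z, hes, -⟩ := es_of_extraspecial hE
  obtain ⟨A, hA, hAc⟩ := (T3 n E z hes hn).2 hn1 hminus
  have hA2 : ∀ a ∈ A, a ^ 2 = 1 := fun a ha => by rw [pow_two]; exact hA.2 a ha
  refine ⟨fun B hB hB2 => ?_, fun h => ?_, A, ⟨isMulCommutative_of A hA.1, hA2⟩, hAc⟩
  · have hle := rank_le hE n hn B hB
    have hdvd : Nat.card B ∣ 2 ^ (2 * n + 1) := by rw [← hn]; exact Subgroup.card_subgroup_dvd_card B
    obtain ⟨j, -, hj⟩ := (Nat.dvd_prime_pow Nat.prime_two).mp hdvd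
    rw [hj] at hle ⊢
    have hjle : j ≤ n + 1 := (Nat.pow_le_pow_iff_right (by norm_num)).mp hle
    by_cases hjn : j = n + 1
    · exfalso
      have := plus_of_big_EA hE n hn1 hn B ⟨hB, hB2⟩ (by rw [hj, hjn])
      have : 0 < 2 ^ n := by positivity
      omega
    · exact Nat.pow_le_pow_right (by norm_num) (by omega)
  · have := h A (isMulCommutative_of A hA.1) hA2
    rw [hAc] at this
    have : 2 ^ (n - 1) < 2 ^ n := Nat.pow_lt_pow_right (by norm_num) (by omega)
    omega

end rank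

end Cfsg.Agent.Lead.ES2
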