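import Mathlib

set_option autoImplicit false

namespace Cfsg.Agent.Lib.Lead.LWGlue

open MulAction SubMulAction

variable {α : Type*} [Fintype α] [DecidableEq α] (G : Subgroup (Equiv.Perm α))

/-- Number of points of the complement of a finite set. -/
theorem card_ofFixingSubgroup (s : Finset α) :
    Nat.card (ofFixingSubgroup G (s : Set α)) = Fintype.card α - s.card := by
  have h1 : Nat.card (ofFixingSubgroup G (s : Set α)) = Nat.card ((s : Set α)ᶜ : Set α) := rfl
  rw [h1, Nat.card_coe_set_eq, Set.ncard_compl, Set.ncard_coe_finset, Nat.card_eq_fintype_card]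

/-- An element of the fixing subgroup of `s` fixing `m` further points lies in the fixing
subgroup of a set with `s.card + m` elements. -/
theorem exists_finset_of_fix (s : Finset α) (g : fixingSubgroup G (s : Set α)) {m : ℕ}
    (x : Fin m ↪ ofFixingSubgroup G (s : Set α)) (hfix : ∀ i, g • x i = x i) :
    ∃ u : Finset α, u.card = s.card + m ∧ (g : G) ∈ fixingSubgroup G (u : Set α) := by
  classical
  let e : Fin m ↪ α := ⟨fun i => ((x i : ofFixingSubgroup G (s : Set α)) : α), by
    intro i i' h
    exact x.injective (Subtype.ext h)⟩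
  have hdisj : Disjoint s (Finset.univ.map e) := by
    rw [Finset.disjoint_left]
    intro a ha hb
    rw [Finset.mem_map] at hb
    obtain ⟨i, _, rfl⟩ := hb
    exact (x i).prop ha
  refine ⟨s.disjUnion (Finset.univ.map e) hdisj, ?_, ?_⟩
  · rw [Finset.card_disjUnion, Finset.card_map, Finset.card_univ, Fintype.card_fin]
  · rw [mem_fixingSubgroup_iff]
    intro y hy
    rw [Finset.mem_coe, Finset.mem_disjUnion] at hy
    rcases hy with hy | hy
    · exact (mem_fixingSubgroup_iff _).mp g.prop y hy
    · rw [Finset.mem_map] at hy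
      obtain ⟨i, _, rfl⟩ := hy
      have := congrArg (fun z : ofFixingSubgroup G (s : Set α) => (z : α)) (hfix i)
      exact this

end Cfsg.Agent.Lib.Lead.LWGlue

namespace Cfsg.Agent.Lib.Lead.LWGlue

open MulAction SubMulAction

variable {α : Type*} [Fintype α] [DecidableEq α] (G : Subgroup (Equiv.Perm α))

/-- An element of odd-order group whose square is one is trivial. -/
theorem eq_one_of_sq_of_odd_card {H : Type*} [Group H] (hodd : Odd (Nat.card H))
    (g : H) (hg : g ^ 2 = 1) : g = 1 := by
  have h1 : orderOf g ∣ 2 := orderOf_dvd_of_pow_eq_one hg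
  have h2 : orderOf g ∣ Nat.card H := orderOf_dvd_natCard g
  rcases (Nat.dvd_prime Nat.prime_two).mp h1 with h | h
  · exact orderOf_eq_one_iff.mp h
  · rw [h] at h2
    exact absurd (even_iff_two_dvd.mpr h2) (Nat.not_even_iff_odd.mpr hodd)

/-- The case `j ≥ 4` of Livingstone--Wagner, first form, given a bound for `4`-transitive
groups with odd four-point stabilisers and trivial five-point stabilisers. -/
theorem lw_big {j h : ℕ} (s : Finset α) (hs : s.card + 4 = j)
    (ht : IsMultiplyPretransitive G α j)
    (hbot : ∀ u : Finset α, u.card = j + 1 → fixingSubgroup G (u : Set α) = ⊥)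
    (hcard : ∀ u : Finset α, u.card = j → Nat.card (fixingSubgroup G (u : Set α)) = h)
    (hodd : Odd h) (hn : j + 8 ≤ Fintype.card α)
    (hH4 : IsMultiplyPretransitive (fixingSubgroup G (s : Set α))
        (ofFixingSubgroup G (s : Set α)) 4 →
      (∀ (g : fixingSubgroup G (s : Set α)) (x : Fin 4 ↪ ofFixingSubgroup G (s : Set α)),
        (∀ i, g • x i = x i) → g ^ 2 = 1 → g = 1) →
      (∀ (g : fixingSubgroup G (s : Set α)) (x : Fin 5 ↪ ofFixingSubgroup G (s : Set α)),
        (∀ i, g • x i = x i) → g = 1) →
      Nat.card (ofFixingSubgroup G (s : Set α)) ≤ 11) : False := by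
  have h4 : IsMultiplyPretransitive (fixingSubgroup G (s : Set α))
      (ofFixingSubgroup G (s : Set α)) 4 :=
    ofFixingSubgroup.isMultiplyPretransitive (G := G) (Hn := ht) (s : Set α)
      (by rw [Set.ncard_coe_finset]; exact hs)
  have hoddc : ∀ (g : fixingSubgroup G (s : Set α)) (x : Fin 4 ↪ ofFixingSubgroup G (s : Set α)),
      (∀ i, g • x i = x i) → g ^ 2 = 1 → g = 1 := by
    intro g x hfix hg2
    obtain ⟨u, hu, hgu⟩ := exists_finset_of_fix G s g x hfix
    have hodd' : Odd (Nat.card (fixingSubgroup G (u : Set α))) := by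
      rw [hcard u (by omega)]; exact hodd
    have hg2' : (⟨(g : G), hgu⟩ : fixingSubgroup G (u : Set α)) ^ 2 = 1 := by
      apply Subtype.ext
      have := congrArg (fun z : fixingSubgroup G (s : Set α) => (z : G)) hg2
      simpa using this
    have := eq_one_of_sq_of_odd_card hodd' _ hg2'
    apply Subtype.ext
    have h3 := congrArg (fun z : fixingSubgroup G (u : Set α) => (z : G)) this
    simpa using h3
  have htriv : ∀ (g : fixingSubgroup G (s : Set α)) (x : Fin 5 ↪ ofFixingSubgroup G (s : Set α)),
      (∀ i, g • x i = x i) → g = 1 := by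
    intro g x hfix
    obtain ⟨u, hu, hgu⟩ := exists_finset_of_fix G s g x hfix
    rw [hbot u (by omega), Subgroup.mem_bot] at hgu
    exact Subtype.ext hgu
  have hle := hH4 h4 hoddc htriv
  rw [card_ofFixingSubgroup] at hle
  omega

end Cfsg.Agent.Lib.Lead.LWGlue

namespace Cfsg.Agent.Lib.Lead.LWGlue

open MulAction SubMulAction

variable {α : Type*} [Fintype α] [DecidableEq α] (G : Subgroup (Equiv.Perm α))

/-- The fixing subgroup of `t` acts faithfully on the complement of `t`. -/
theorem faithful_ofFixingSubgroup (t : Finset α) :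
    FaithfulSMul (fixingSubgroup G (t : Set α)) (ofFixingSubgroup G (t : Set α)) := by
  refine ⟨fun {g₁ g₂} h => ?_⟩
  apply Subtype.ext
  apply Subtype.ext
  ext a
  by_cases ha : a ∈ t
  · have h1 := (mem_fixingSubgroup_iff _).mp g₁.prop a ha
    have h2 := (mem_fixingSubgroup_iff _).mp g₂.prop a ha
    change ((g₁ : G) : Equiv.Perm α) a = ((g₂ : G) : Equiv.Perm α) a
    change ((g₁ : G) : Equiv.Perm α) a = a at h1
    change ((g₂ : G) : Equiv.Perm α) a = a at h2
    rw [h1, h2]
  · have := congrArg (fun z : ofFixingSubgroup G (t : Set α) => (z : α)) (h ⟨a, ha⟩)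
    exact this

/-- The fixing subgroup of a `(j-1)`-set is transitive on the complement. -/
theorem pretransitive_ofFixingSubgroup {j : ℕ} (t : Finset α) (ht1 : t.card + 1 = j)
    (ht : IsMultiplyPretransitive G α j) :
    IsPretransitive (fixingSubgroup G (t : Set α)) (ofFixingSubgroup G (t : Set α)) := by
  have h1 : IsMultiplyPretransitive (fixingSubgroup G (t : Set α))
      (ofFixingSubgroup G (t : Set α)) 1 :=
    ofFixingSubgroup.isMultiplyPretransitive (G := G) (Hn := ht) (t : Set α)
      (by rw [Set.ncard_coe_finset]; exact ht1)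
  exact is_one_pretransitive_iff.mp h1

/-- The stabiliser of a point of the complement in the fixing subgroup is the fixing subgroup
of the enlarged set. -/
theorem card_stabilizer_ofFixingSubgroup (t : Finset α) (x : ofFixingSubgroup G (t : Set α)) :
    Nat.card (stabilizer (fixingSubgroup G (t : Set α)) x) =
      Nat.card (fixingSubgroup G ((insert (x : α) t : Finset α) : Set α)) := by
  refine Nat.card_congr ?_
  refine
    { toFun := fun g => ⟨((g : fixingSubgroup G (t : Set α)) : G), ?_⟩
      invFun := fun g => ⟨⟨(g : G), ?_⟩, ?_⟩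
      left_inv := fun g => rfl
      right_inv := fun g => rfl }
  · rw [mem_fixingSubgroup_iff]
    intro y hy
    rw [Finset.coe_insert, Set.mem_insert_iff] at hy
    rcases hy with rfl | hy
    · have := congrArg (fun z : ofFixingSubgroup G (t : Set α) => (z : α))
        (mem_stabilizer_iff.mp g.prop)
      exact this
    · exact (mem_fixingSubgroup_iff _).mp (g : fixingSubgroup G (t : Set α)).prop y hy
  · rw [mem_fixingSubgroup_iff]
    intro y hy
    exact (mem_fixingSubgroup_iff _).mp g.prop y
      (by rw [Finset.coe_insert]; exact Set.mem_insert_of_mem _ hy)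
  · rw [mem_stabilizer_iff]
    apply Subtype.ext
    exact (mem_fixingSubgroup_iff _).mp g.prop (x : α)
      (by rw [Finset.coe_insert]; exact Set.mem_insert _ _)

/-- A nonidentity element of a point stabiliser (in the fixing subgroup of a `(j-1)`-set) fixes
no other point, when `(j+1)`-sets have trivial fixing subgroups. -/
theorem fix_unique_ofFixingSubgroup {j : ℕ} (t : Finset α) (ht1 : t.card + 1 = j)
    (hbot : ∀ u : Finset α, u.card = j + 1 → fixingSubgroup G (u : Set α) = ⊥)
    (x y : ofFixingSubgroup G (t : Set α)) (g : fixingSubgroup G (t : Set α))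
    (hgx : g • x = x) (hg1 : g ≠ 1) (hgy : g • y = y) : y = x := by
  by_contra hne
  let e : Fin 2 ↪ ofFixingSubgroup G (t : Set α) := ⟨![x, y], by
    intro a b hab
    fin_cases a <;> fin_cases b <;> simp_all [Ne.symm hne]⟩
  obtain ⟨u, hu, hgu⟩ := exists_finset_of_fix G t g e (by
    intro i; fin_cases i
    · exact hgx
    · exact hgy)
  rw [hbot u (by omega), Subgroup.mem_bot] at hgu
  exact hg1 (Subtype.ext hgu)

end Cfsg.Agent.Lib.Lead.LWGlue
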