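import Mathlib

set_option autoImplicit false

/-!
# The Brauer--Wielandt formula for a four-group acting on a group of odd order

`X` a finite group of odd order, `τ σ` commuting involutory automorphisms.  Then
`|X| · |C_X(τ,σ)|² = |C_X(τ)| · |C_X(σ)| · |C_X(στ)|`.
-/

namespace Cfsg.Agent.Lib.Lead.BWFour

variable {X : Type*} [Group X]

/-- the square-root exponent -/
noncomputable def rootExp (X : Type*) : ℕ := (Nat.card X + 1) / 2

theorem two_mul_rootExp (hodd : Odd (Nat.card X)) : 2 * rootExp X = Nat.card X + 1 := by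
  obtain ⟨c, hc⟩ := hodd
  unfold rootExp
  omega

theorem pow_two_mul_rootExp [Finite X] (hodd : Odd (Nat.card X)) (x : X) :
    x ^ (2 * rootExp X) = x := by
  rw [two_mul_rootExp hodd, pow_succ, pow_card_eq_one', one_mul]

theorem sq_pow_rootExp [Finite X] (hodd : Odd (Nat.card X)) (x : X) :
    (x ^ 2) ^ rootExp X = x := by
  rw [← pow_mul, pow_two_mul_rootExp hodd]

theorem pow_rootExp_sq [Finite X] (hodd : Odd (Nat.card X)) (x : X) :
    (x ^ rootExp X) ^ 2 = x := by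
  rw [← pow_mul, mul_comm, pow_two_mul_rootExp hodd]

theorem pow_rootExp_mul_self [Finite X] (hodd : Odd (Nat.card X)) (x : X) :
    x ^ rootExp X * x ^ rootExp X = x := by
  rw [← pow_two, pow_rootExp_sq hodd]

/-- Decomposition `Y = C_Y(τ) · I_Y(τ)` for a `τ`-invariant subgroup. -/
theorem card_eq_fix_mul_inv [Finite X] (hodd : Odd (Nat.card X)) (τ : X ≃* X)
    (hτ : ∀ x, τ (τ x) = x) (Y : Subgroup X) (hY : ∀ y ∈ Y, τ y ∈ Y) :
    Nat.card Y = Nat.card {x : X // x ∈ Y ∧ τ x = x} * Nat.card {x : X // x ∈ Y ∧ τ x = x⁻¹} := by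
  rw [← Nat.card_prod]
  refine Nat.card_congr ?_
  set k := rootExp X with hk
  have hw : ∀ y : X, τ ((τ y)⁻¹ * y) = ((τ y)⁻¹ * y)⁻¹ := by
    intro y
    rw [map_mul, map_inv, hτ, mul_inv_rev, inv_inv]
  refine
    { toFun := fun y =>
        (⟨(y : X) * (((τ (y : X))⁻¹ * (y : X)) ^ k)⁻¹, ?_, ?_⟩,
         ⟨((τ (y : X))⁻¹ * (y : X)) ^ k, ?_, ?_⟩)
      invFun := fun p => ⟨(p.1 : X) * (p.2 : X), Y.mul_mem p.1.2.1 p.2.2.1⟩
      left_inv := ?_
      right_inv := ?_ }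
  · exact Y.mul_mem y.2 (Y.inv_mem (Y.pow_mem (Y.mul_mem (Y.inv_mem (hY _ y.2)) y.2) _))
  · -- τ c = c
    have hwy := hw (y : X)
    have h3 : τ (y : X) = (y : X) * ((τ (y : X))⁻¹ * (y : X))⁻¹ := by
      rw [mul_inv_rev, inv_inv, mul_inv_cancel_left]
    generalize (τ (y : X))⁻¹ * (y : X) = w at hwy h3 ⊢
    rw [map_mul, map_inv, map_pow, hwy, inv_pow, inv_inv, h3, mul_assoc]
    congr 1
    have h2 : w ^ k * w ^ k = w := pow_rootExp_mul_self hodd w
    calc w⁻¹ * w ^ k = (w ^ k * w ^ k)⁻¹ * w ^ k := by rw [h2]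
      _ = (w ^ k)⁻¹ := by rw [mul_inv_rev, inv_mul_cancel_right]
  · exact Y.pow_mem (Y.mul_mem (Y.inv_mem (hY _ y.2)) y.2) _
  · rw [map_pow, hw, inv_pow]
  · intro y
    apply Subtype.ext
    simp
  · rintro ⟨⟨c, hcY, hc⟩, ⟨i, hiY, hi⟩⟩
    have h1 : (τ (c * i))⁻¹ * (c * i) = i ^ 2 := by
      rw [map_mul, hc, hi, mul_inv_rev, inv_inv, mul_assoc, inv_mul_cancel_left, pow_two]
    have h2 : ((τ (c * i))⁻¹ * (c * i)) ^ k = i := by rw [h1, sq_pow_rootExp hodd]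
    apply Prod.ext
    · apply Subtype.ext
      show c * i * (((τ (c * i))⁻¹ * (c * i)) ^ k)⁻¹ = c
      rw [h2, mul_inv_cancel_right]
    · apply Subtype.ext
      show ((τ (c * i))⁻¹ * (c * i)) ^ k = i
      exact h2

/-- The twisted decomposition `I_τ = { x y x }`. -/
theorem card_inv_eq [Finite X] (hodd : Odd (Nat.card X)) (τ σ : X ≃* X)
    (hτ : ∀ x, τ (τ x) = x) (hσ : ∀ x, σ (σ x) = x) (hc : ∀ x, τ (σ x) = σ (τ x)) :
    Nat.card {z : X // τ z = z⁻¹} =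
      Nat.card {x : X // τ x = x⁻¹ ∧ σ x = x} * Nat.card {y : X // τ y = y⁻¹ ∧ σ y = y⁻¹} := by
  rw [← Nat.card_prod]
  refine Nat.card_congr ?_
  set k := rootExp X with hk
  -- for `z ∈ I_τ`: `r = σ z z⁻¹`, `s = r^k z`
  have hs : ∀ z : X, τ z = z⁻¹ →
      σ ((σ z * z⁻¹) ^ k * z) = (σ z * z⁻¹) ^ k * z ∧
      τ ((σ z * z⁻¹) ^ k * z) = ((σ z * z⁻¹) ^ k * z)⁻¹ ∧
      ((σ z * z⁻¹) ^ k * z) * z⁻¹ * ((σ z * z⁻¹) ^ k * z) = σ z := by
    intro z hz
    have hr1 : σ (σ z * z⁻¹) = (σ z * z⁻¹)⁻¹ := by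
      rw [map_mul, hσ, map_inv, mul_inv_rev, inv_inv]
    have hr2 : τ (σ z * z⁻¹) = z⁻¹ * (σ z * z⁻¹)⁻¹ * z := by
      rw [map_mul, hc, map_inv, hz, map_inv, inv_inv]
      group
    have hr0 : σ z = (σ z * z⁻¹) * z := by group
    generalize σ z * z⁻¹ = r at hr0 hr1 hr2 ⊢
    have h2 : r ^ k * r ^ k = r := pow_rootExp_mul_self hodd r
    have h3 : (r ^ k)⁻¹ * r = r ^ k := by
      nth_rewrite 2 [← h2]
      rw [inv_mul_cancel_left]
    refine ⟨?_, ?_, ?_⟩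
    · rw [map_mul, map_pow, hr1, hr0, inv_pow, ← mul_assoc, h3]
    · rw [map_mul, map_pow, hr2, hz, mul_inv_rev]
      have : z⁻¹ * r⁻¹ * z = z⁻¹ * r⁻¹ * (z⁻¹)⁻¹ := by rw [inv_inv]
      rw [this, conj_pow, inv_inv, inv_pow]
      group
    · rw [hr0]
      calc r ^ k * z * z⁻¹ * (r ^ k * z) = (r ^ k * r ^ k) * z := by group
        _ = r * z := by rw [h2]
  refine
    { toFun := fun z =>
        (⟨((σ (z : X) * (z : X)⁻¹) ^ k * (z : X)) ^ k, ?_, ?_⟩,
         ⟨(((σ (z : X) * (z : X)⁻¹) ^ k * (z : X)) ^ k)⁻¹ * (z : X) *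
            (((σ (z : X) * (z : X)⁻¹) ^ k * (z : X)) ^ k)⁻¹, ?_, ?_⟩)
      invFun := fun p => ⟨(p.1 : X) * (p.2 : X) * (p.1 : X), ?_⟩
      left_inv := ?_
      right_inv := ?_ }
  · -- τ x = x⁻¹
    obtain ⟨-, h2, -⟩ := hs z z.2
    rw [map_pow, h2, inv_pow]
  · -- σ x = x
    obtain ⟨h1, -, -⟩ := hs z z.2
    rw [map_pow, h1]
  · -- τ y = y⁻¹
    obtain ⟨-, h2, -⟩ := hs z z.2
    generalize (σ (z : X) * (z : X)⁻¹) ^ k * (z : X) = s at h2 ⊢
    rw [map_mul, map_mul, map_inv, map_pow, h2, z.2, inv_pow, inv_inv]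
    group
  · -- σ y = y⁻¹
    obtain ⟨h1, -, h3⟩ := hs z z.2
    generalize (σ (z : X) * (z : X)⁻¹) ^ k * (z : X) = s at h1 h3 ⊢
    have hss : s ^ k * s ^ k = s := pow_rootExp_mul_self hodd s
    have hA : (s ^ k)⁻¹ * s = s ^ k := by
      nth_rewrite 2 [← hss]
      rw [inv_mul_cancel_left]
    have hB : s * (s ^ k)⁻¹ = s ^ k := by
      nth_rewrite 1 [← hss]
      rw [mul_inv_cancel_right]
    rw [map_mul, map_mul, map_inv, map_pow, h1, ← h3]
    calc (s ^ k)⁻¹ * (s * (z : X)⁻¹ * s) * (s ^ k)⁻¹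
        = ((s ^ k)⁻¹ * s) * (z : X)⁻¹ * (s * (s ^ k)⁻¹) := by group
      _ = s ^ k * (z : X)⁻¹ * s ^ k := by rw [hA, hB]
      _ = ((s ^ k)⁻¹ * (z : X) * (s ^ k)⁻¹)⁻¹ := by group
  · -- τ (x y x) = (x y x)⁻¹
    rw [map_mul, map_mul, p.1.2.1, p.2.2.1]
    group
  · intro z
    apply Subtype.ext
    show _ * (_ * (z : X) * _) * _ = (z : X)
    group
  · rintro ⟨⟨x, hx1, hx2⟩, ⟨y, hy1, hy2⟩⟩
    have hr : σ (x * y * x) * (x * y * x)⁻¹ = x * (y ^ 2)⁻¹ * x⁻¹ := by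
      rw [map_mul, map_mul, hx2, hy2]
      group
    have hrk : (σ (x * y * x) * (x * y * x)⁻¹) ^ k = x * y⁻¹ * x⁻¹ := by
      rw [hr, conj_pow, inv_pow, sq_pow_rootExp hodd]
    have hsx : (σ (x * y * x) * (x * y * x)⁻¹) ^ k * (x * y * x) = x ^ 2 := by
      rw [hrk]
      calc x * y⁻¹ * x⁻¹ * (x * y * x) = x * x := by group
        _ = x ^ 2 := (pow_two x).symm
    have hx : ((σ (x * y * x) * (x * y * x)⁻¹) ^ k * (x * y * x)) ^ k = x := by
      rw [hsx, sq_pow_rootExp hodd]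
    apply Prod.ext
    · apply Subtype.ext
      exact hx
    · apply Subtype.ext
      show (((σ (x * y * x) * (x * y * x)⁻¹) ^ k * (x * y * x)) ^ k)⁻¹ * (x * y * x) *
        (((σ (x * y * x) * (x * y * x)⁻¹) ^ k * (x * y * x)) ^ k)⁻¹ = y
      rw [hx]
      group

/-- the subgroup of fixed points of an automorphism -/
def fixSub (α : X ≃* X) : Subgroup X where
  carrier := {x | α x = x}
  mul_mem' := by
    intro a b ha hb
    show α (a * b) = a * b
    rw [map_mul, ha, hb]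
  one_mem' := map_one α
  inv_mem' := by
    intro a ha
    show α a⁻¹ = a⁻¹
    rw [map_inv, ha]

theorem mem_fixSub (α : X ≃* X) (x : X) : x ∈ fixSub α ↔ α x = x := Iff.rfl

/-- **Brauer--Wielandt** for a four-group of automorphisms of a group of odd order. -/
theorem brauer_wielandt [Finite X] (hodd : Odd (Nat.card X)) (τ σ : X ≃* X)
    (hτ : ∀ x, τ (τ x) = x) (hσ : ∀ x, σ (σ x) = x) (hc : ∀ x, τ (σ x) = σ (τ x)) :
    Nat.card X * Nat.card {x : X // τ x = x ∧ σ x = x} ^ 2 =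
      Nat.card {x : X // τ x = x} * Nat.card {x : X // σ x = x} *
        Nat.card {x : X // σ (τ x) = x} := by
  -- `X = C(τ) I_τ`
  have h1 := card_eq_fix_mul_inv hodd τ hτ ⊤ (fun _ _ => Subgroup.mem_top _)
  have e1 : Nat.card {x : X // x ∈ (⊤ : Subgroup X) ∧ τ x = x} = Nat.card {x : X // τ x = x} :=
    Nat.card_congr (Equiv.subtypeEquivRight (fun x => by simp))
  have e2 : Nat.card {x : X // x ∈ (⊤ : Subgroup X) ∧ τ x = x⁻¹} =
      Nat.card {x : X // τ x = x⁻¹} :=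
    Nat.card_congr (Equiv.subtypeEquivRight (fun x => by simp))
  have e0 : Nat.card (⊤ : Subgroup X) = Nat.card X :=
    Nat.card_congr Subgroup.topEquiv.toEquiv
  rw [e0, e1, e2] at h1
  -- `I_τ`
  have h2 := card_inv_eq hodd τ σ hτ hσ hc
  -- `C(σ)`
  have h3 := card_eq_fix_mul_inv hodd τ hτ (fixSub σ) (by
      intro y hy
      rw [mem_fixSub] at hy ⊢
      rw [← hc, hy])
  have e3 : Nat.card (fixSub σ) = Nat.card {x : X // σ x = x} :=
    Nat.card_congr (Equiv.subtypeEquivRight (fun x => mem_fixSub σ x))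
  have e4 : Nat.card {x : X // x ∈ fixSub σ ∧ τ x = x} =
      Nat.card {x : X // τ x = x ∧ σ x = x} :=
    Nat.card_congr (Equiv.subtypeEquivRight (fun x => by
      rw [mem_fixSub]
      exact and_comm))
  have e5 : Nat.card {x : X // x ∈ fixSub σ ∧ τ x = x⁻¹} =
      Nat.card {x : X // τ x = x⁻¹ ∧ σ x = x} :=
    Nat.card_congr (Equiv.subtypeEquivRight (fun x => by
      rw [mem_fixSub]
      exact and_comm))
  rw [e3, e4, e5] at h3
  -- `C(στ)`
  have h4 := card_eq_fix_mul_inv hodd τ hτ (fixSub (τ.trans σ)) (by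
      intro y hy
      rw [mem_fixSub, MulEquiv.trans_apply] at hy ⊢
      have : τ y = σ y := by
        have := congrArg σ hy
        rw [hσ] at this
        exact this
      rw [hτ, this])
  have e6 : Nat.card (fixSub (τ.trans σ)) = Nat.card {x : X // σ (τ x) = x} :=
    Nat.card_congr (Equiv.subtypeEquivRight (fun x => by
      rw [mem_fixSub, MulEquiv.trans_apply]))
  have e7 : Nat.card {x : X // x ∈ fixSub (τ.trans σ) ∧ τ x = x} =
      Nat.card {x : X // τ x = x ∧ σ x = x} :=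
    Nat.card_congr (Equiv.subtypeEquivRight (fun x => by
      rw [mem_fixSub, MulEquiv.trans_apply]
      constructor
      · rintro ⟨h, h'⟩
        rw [h'] at h
        exact ⟨h', h⟩
      · rintro ⟨h, h'⟩
        refine ⟨?_, h⟩
        rw [h, h']))
  have e8 : Nat.card {x : X // x ∈ fixSub (τ.trans σ) ∧ τ x = x⁻¹} =
      Nat.card {x : X // τ x = x⁻¹ ∧ σ x = x⁻¹} :=
    Nat.card_congr (Equiv.subtypeEquivRight (fun x => by
      rw [mem_fixSub, MulEquiv.trans_apply]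
      constructor
      · rintro ⟨h, h'⟩
        rw [h', map_inv] at h
        refine ⟨h', ?_⟩
        rw [← inv_inj, h, inv_inv]
      · rintro ⟨h, h'⟩
        refine ⟨?_, h⟩
        rw [h, map_inv, h', inv_inv]))
  rw [e6, e7, e8] at h4
  rw [h1, h2, h3, h4]
  ring

end Cfsg.Agent.Lib.Lead.BWFour
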