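import Mathlib
import Cfsg.Agent.Lib.Lead.BWFour

set_option autoImplicit false

/-!
# Brauer--Wielandt for a subgroup of odd order normalised by two commuting involutions
-/

namespace Cfsg.Agent.Lib.Lead.BWSub

open Cfsg.Agent.Lib.Lead.BWFour

variable {T : Type*} [Group T]

/-- conjugation by an involution normalising `X`, as an automorphism of `X` -/
def conjAut (X : Subgroup T) (t : T) (ht : t * t = 1) (hX : ∀ x ∈ X, t * x * t⁻¹ ∈ X) :
    X ≃* X where
  toFun x := ⟨t * x * t⁻¹, hX x x.2⟩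
  invFun x := ⟨t * x * t⁻¹, hX x x.2⟩
  left_inv x := by
    apply Subtype.ext
    show t * (t * (x : T) * t⁻¹) * t⁻¹ = x
    have : t⁻¹ = t := inv_eq_of_mul_eq_one_right ht
    rw [this]
    calc t * (t * (x : T) * t) * t = (t * t) * x * (t * t) := by group
      _ = x := by rw [ht, one_mul, mul_one]
  right_inv x := by
    apply Subtype.ext
    show t * (t * (x : T) * t⁻¹) * t⁻¹ = x
    have : t⁻¹ = t := inv_eq_of_mul_eq_one_right ht
    rw [this]
    calc t * (t * (x : T) * t) * t = (t * t) * x * (t * t) := by group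
      _ = x := by rw [ht, one_mul, mul_one]
  map_mul' x y := by
    apply Subtype.ext
    show t * ((x : T) * y) * t⁻¹ = (t * x * t⁻¹) * (t * y * t⁻¹)
    group

theorem conjAut_apply (X : Subgroup T) (t : T) (ht : t * t = 1) (hX : ∀ x ∈ X, t * x * t⁻¹ ∈ X)
    (x : X) : ((conjAut X t ht hX x : X) : T) = t * x * t⁻¹ := rfl

theorem conjAut_fix_iff (X : Subgroup T) (t : T) (ht : t * t = 1)
    (hX : ∀ x ∈ X, t * x * t⁻¹ ∈ X) (x : X) :
    conjAut X t ht hX x = x ↔ t * (x : T) = x * t := by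
  rw [Subtype.ext_iff, conjAut_apply, mul_inv_eq_iff_eq_mul]

/-- transport of a count on `X` to a count on `T` -/
theorem card_subtype_sub (X : Subgroup T) (P : T → Prop) :
    Nat.card {x : X // P (x : T)} = Nat.card {g : T // g ∈ X ∧ P g} := by
  refine Nat.card_congr ?_
  exact
    { toFun := fun x => ⟨(x : X), (x : X).2, x.2⟩
      invFun := fun g => ⟨⟨g, g.2.1⟩, g.2.2⟩
      left_inv := fun x => rfl
      right_inv := fun g => rfl }

/-- **Brauer--Wielandt**, subgroup form. -/
theorem bw_sub (X : Subgroup T) [Finite X] (hodd : Odd (Nat.card X)) (t u : T)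
    (ht : t * t = 1) (hu : u * u = 1) (htu : t * u = u * t)
    (hXt : ∀ x ∈ X, t * x * t⁻¹ ∈ X) (hXu : ∀ x ∈ X, u * x * u⁻¹ ∈ X) :
    Nat.card X * Nat.card {g : T // g ∈ X ∧ (t * g = g * t ∧ u * g = g * u)} ^ 2 =
      Nat.card {g : T // g ∈ X ∧ t * g = g * t} * Nat.card {g : T // g ∈ X ∧ u * g = g * u} *
        Nat.card {g : T // g ∈ X ∧ (t * u) * g = g * (t * u)} := by
  set τ := conjAut X t ht hXt with hτdef
  set σ := conjAut X u hu hXu with hσdef
  have hτ : ∀ x, τ (τ x) = x := fun x => (conjAut X t ht hXt).left_inv x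
  have hσ : ∀ x, σ (σ x) = x := fun x => (conjAut X u hu hXu).left_inv x
  have hc : ∀ x, τ (σ x) = σ (τ x) := by
    intro x
    apply Subtype.ext
    show t * (u * (x : T) * u⁻¹) * t⁻¹ = u * (t * (x : T) * t⁻¹) * u⁻¹
    calc t * (u * (x : T) * u⁻¹) * t⁻¹ = (t * u) * x * (t * u)⁻¹ := by group
      _ = (u * t) * x * (u * t)⁻¹ := by rw [htu]
      _ = u * (t * (x : T) * t⁻¹) * u⁻¹ := by group
  have key := brauer_wielandt hodd τ σ hτ hσ hc
  have e1 : Nat.card {x : X // τ x = x ∧ σ x = x} =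
      Nat.card {g : T // g ∈ X ∧ (t * g = g * t ∧ u * g = g * u)} := by
    rw [← card_subtype_sub X (fun g => t * g = g * t ∧ u * g = g * u)]
    exact Nat.card_congr (Equiv.subtypeEquivRight (fun x => by
      rw [conjAut_fix_iff, conjAut_fix_iff]))
  have e2 : Nat.card {x : X // τ x = x} = Nat.card {g : T // g ∈ X ∧ t * g = g * t} := by
    rw [← card_subtype_sub X (fun g => t * g = g * t)]
    exact Nat.card_congr (Equiv.subtypeEquivRight (fun x => by rw [conjAut_fix_iff]))
  have e3 : Nat.card {x : X // σ x = x} = Nat.card {g : T // g ∈ X ∧ u * g = g * u} := by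
    rw [← card_subtype_sub X (fun g => u * g = g * u)]
    exact Nat.card_congr (Equiv.subtypeEquivRight (fun x => by rw [conjAut_fix_iff]))
  have e4 : Nat.card {x : X // σ (τ x) = x} =
      Nat.card {g : T // g ∈ X ∧ (t * u) * g = g * (t * u)} := by
    rw [← card_subtype_sub X (fun g => (t * u) * g = g * (t * u))]
    exact Nat.card_congr (Equiv.subtypeEquivRight (fun x => by
      rw [Subtype.ext_iff]
      show u * (t * (x : T) * t⁻¹) * u⁻¹ = x ↔ _
      have h2 : u * (t * (x : T) * t⁻¹) * u⁻¹ = (t * u) * x * (t * u)⁻¹ := by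
        calc u * (t * (x : T) * t⁻¹) * u⁻¹ = (u * t) * x * (u * t)⁻¹ := by group
          _ = (t * u) * x * (t * u)⁻¹ := by rw [htu]
      rw [h2, mul_inv_eq_iff_eq_mul]))
  rw [e1, e2, e3, e4] at key
  exact key

end Cfsg.Agent.Lib.Lead.BWSub
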