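import Mathlib
import Cfsg.Agent.Lib.Helper8.LwH4E
import Cfsg.Agent.Lib.Lead.BWSub

set_option autoImplicit false

/-!
# M. Hall's theorem on 4-transitive groups with odd 4-point stabilisers: generic lemmas
-/

namespace Cfsg.Agent.Lib.Lead.Hall4

open MulAction Cfsg.Agent.Lib.Helper8.LW

section basic

variable {T Ξ : Type*} [Group T] [MulAction T Ξ]

/-- pointwise stabiliser of an embedded 4-tuple -/
def St (x : Fin 4 ↪ Ξ) : Subgroup T where
  carrier := {g | ∀ i, g • x i = x i}
  mul_mem' := by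
    intro a b ha hb i
    rw [mul_smul, hb i, ha i]
  one_mem' := by
    intro i
    exact one_smul _ _
  inv_mem' := by
    intro a ha i
    rw [inv_smul_eq_iff, ha i]

theorem mem_St {x : Fin 4 ↪ Ξ} {g : T} : g ∈ St (T := T) x ↔ ∀ i, g • x i = x i := Iff.rfl

/-- centraliser of `s` in the pointwise stabiliser -/
def Cen (s : T) (x : Fin 4 ↪ Ξ) : Subgroup T where
  carrier := {g | g ∈ St (T := T) x ∧ s * g = g * s}
  mul_mem' := by
    rintro a b ⟨ha, ha'⟩ ⟨hb, hb'⟩
    refine ⟨(St x).mul_mem ha hb, ?_⟩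
    calc s * (a * b) = (s * a) * b := by rw [mul_assoc]
      _ = a * (s * b) := by rw [ha', mul_assoc]
      _ = a * b * s := by rw [hb', mul_assoc]
  one_mem' := ⟨(St x).one_mem, by rw [mul_one, one_mul]⟩
  inv_mem' := by
    rintro a ⟨ha, ha'⟩
    refine ⟨(St x).inv_mem ha, ?_⟩
    rw [eq_inv_mul_iff_mul_eq, ← mul_assoc, ← ha', mul_assoc, mul_inv_cancel, mul_one]

theorem mem_Cen {s : T} {x : Fin 4 ↪ Ξ} {g : T} :
    g ∈ Cen s x ↔ g ∈ St (T := T) x ∧ s * g = g * s := Iff.rfl

theorem Cen_le (s : T) (x : Fin 4 ↪ Ξ) : Cen s x ≤ St (T := T) x := fun _ hg => hg.1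

theorem card_Cen_eq (s : T) (x : Fin 4 ↪ Ξ) :
    Nat.card (Cen s x) = Nat.card {g : T // g ∈ St (T := T) x ∧ s * g = g * s} := rfl

theorem Cen_congr (s : T) {x x' : Fin 4 ↪ Ξ} (h : St (T := T) x = St x') : Cen s x = Cen s x' := by
  ext g
  rw [mem_Cen, mem_Cen, h]

theorem mem_St_emb4 {g : T} (a b c d : Ξ) (hab : a ≠ b) (hac : a ≠ c) (had : a ≠ d) (hbc : b ≠ c)
    (hbd : b ≠ d) (hcd : c ≠ d) :
    g ∈ St (T := T) (emb4 a b c d hab hac had hbc hbd hcd) ↔
      g • a = a ∧ g • b = b ∧ g • c = c ∧ g • d = d := by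
  constructor
  · intro h
    exact ⟨h 0, h 1, h 2, h 3⟩
  · rintro ⟨h0, h1, h2, h3⟩ i
    fin_cases i
    · exact h0
    · exact h1
    · exact h2
    · exact h3

/-- conjugation transports the centraliser counts -/
theorem card_Cen_conj (k s : T) (x x' : Fin 4 ↪ Ξ) (hk : ∀ i, k • x i = x' i) :
    Nat.card (Cen (k * s * k⁻¹) x') = Nat.card (Cen s x) := by
  symm
  refine Nat.card_congr ?_
  refine
    { toFun := fun g => ⟨k * g * k⁻¹, ?_, ?_⟩
      invFun := fun g => ⟨k⁻¹ * g * k, ?_, ?_⟩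
      left_inv := fun g => by
        apply Subtype.ext
        show k⁻¹ * (k * (g : T) * k⁻¹) * k = g
        group
      right_inv := fun g => by
        apply Subtype.ext
        show k * (k⁻¹ * (g : T) * k) * k⁻¹ = g
        group }
  · intro i
    rw [← hk i, mul_smul, mul_smul, inv_smul_smul, g.2.1 i]
  · have := g.2.2
    calc k * s * k⁻¹ * (k * (g : T) * k⁻¹) = k * (s * g) * k⁻¹ := by group
      _ = k * (g * s) * k⁻¹ := by rw [this]
      _ = k * (g : T) * k⁻¹ * (k * s * k⁻¹) := by group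
  · intro i
    rw [mul_smul, mul_smul, hk i, g.2.1 i, ← hk i, inv_smul_smul]
  · have := g.2.2
    calc s * (k⁻¹ * (g : T) * k) = k⁻¹ * ((k * s * k⁻¹) * g) * k := by group
      _ = k⁻¹ * (g * (k * s * k⁻¹)) * k := by rw [this]
      _ = k⁻¹ * (g : T) * k * s := by group

theorem card_St_eq_Cen_one (x : Fin 4 ↪ Ξ) : Nat.card (St (T := T) x) = Nat.card (Cen (1 : T) x) := by
  refine Nat.card_congr (Equiv.subtypeEquivRight (fun g => ?_))
  exact ⟨fun h => ⟨h, by rw [one_mul, mul_one]⟩, fun h => h.1⟩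

/-- an involution permuting the four points normalises their pointwise stabiliser -/
theorem conj_mem_St {s : T} (hs : s ^ 2 = 1) {x : Fin 4 ↪ Ξ} (σ : Equiv.Perm (Fin 4))
    (hx : ∀ i, s • x i = x (σ i)) : ∀ g ∈ St (T := T) x, s * g * s⁻¹ ∈ St (T := T) x := by
  intro g hg i
  rw [inv_eq_self_of_sq hs, mul_smul, mul_smul, hx i, hg (σ i), ← hx i, smul_smul_of_sq hs]

/-- an element of odd order cannot swap two distinct points -/
theorem no_swap {g : T} (hodd : Odd (orderOf g)) {a b : Ξ} (hab : g • a = b) (hba : g • b = a) :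
    a = b := by
  have := pow_smul_swap hab hba hodd
  rwa [pow_orderOf_eq_one, one_smul] at this

/-- orbit-stabiliser, `Nat.card` form -/
theorem card_orbit_mul_card_stab (K : Type*) [Group K] {Y : Type*} [MulAction K Y] (b : Y) :
    Nat.card (orbit K b) * Nat.card (stabilizer K b) = Nat.card K := by
  rw [← Nat.card_prod]
  exact Nat.card_congr (orbitProdStabilizerEquivGroup K b)

/-- if all orbits meeting an invariant finite set have the same size `s`, then `s` divides its
cardinality -/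
theorem dvd_card_of_orbits {K Y : Type*} [Group K] [MulAction K Y] [DecidableEq Y] (R : Finset Y)
    (hR : ∀ (g : K) (w : Y), w ∈ R → g • w ∈ R) (s : ℕ)
    (hs : ∀ w ∈ R, Nat.card (orbit K w) = s) : s ∣ R.card := by
  classical
  suffices H : ∀ n : ℕ, ∀ R : Finset Y, R.card = n →
      (∀ (g : K) (w : Y), w ∈ R → g • w ∈ R) →
      (∀ w ∈ R, Nat.card (orbit K w) = s) → s ∣ n from H _ R rfl hR hs
  intro n
  induction n using Nat.strong_induction_on with
  | _ n ih =>
    intro R hn hR hs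
    rcases R.eq_empty_or_nonempty with rfl | ⟨w, hw⟩
    · rw [Finset.card_empty] at hn
      rw [← hn]
      exact dvd_zero _
    · set O := R.filter (fun z => z ∈ orbit K w) with hO
      set R' := R.filter (fun z => ¬ z ∈ orbit K w) with hR'
      have hcardO : O.card = s := by
        rw [← hs w hw, Nat.card_coe_set_eq, ← Set.ncard_coe_finset]
        congr 1
        ext z
        rw [hO, Finset.coe_filter, Set.mem_setOf_eq]
        constructor
        · exact fun h => h.2
        · intro h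
          refine ⟨?_, h⟩
          obtain ⟨g, rfl⟩ := h
          exact hR g w hw
      have hsplit : O.card + R'.card = R.card := Finset.card_filter_add_card_filter_not _
      have hwO : w ∈ O := by
        rw [hO, Finset.mem_filter]
        exact ⟨hw, mem_orbit_self w⟩
      have hspos : 0 < s := by
        rw [← hcardO]
        exact Finset.card_pos.mpr ⟨w, hwO⟩
      have hR'inv : ∀ (g : K) (z : Y), z ∈ R' → g • z ∈ R' := by
        intro g z hz
        rw [hR', Finset.mem_filter] at hz ⊢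
        refine ⟨hR g z hz.1, fun h => hz.2 ?_⟩
        obtain ⟨g', hg'⟩ := h
        have hg'' : g' • w = g • z := hg'
        exact ⟨g⁻¹ * g', by
          show (g⁻¹ * g') • w = z
          rw [mul_smul, hg'', inv_smul_smul]⟩
      have hs' : ∀ z ∈ R', Nat.card (orbit K z) = s :=
        fun z hz => hs z (Finset.mem_of_mem_filter z hz)
      have hlt : R'.card < n := by omega
      have hdvd := ih R'.card hlt R' rfl hR'inv hs'
      rw [← hn, ← hsplit, hcardO]
      exact dvd_add (dvd_refl s) hdvd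

end basic

section trans

variable {T Ξ : Type*} [Group T] [Finite T] [MulAction T Ξ]

/-- pointwise stabilisers of four points have odd order -/
theorem odd_card_St
    (hodd : ∀ (g : T) (x : Fin 4 ↪ Ξ), (∀ i, g • x i = x i) → g ^ 2 = 1 → g = 1)
    (x : Fin 4 ↪ Ξ) : Odd (Nat.card (St (T := T) x)) := by
  by_contra hcon
  rw [Nat.not_odd_iff_even, even_iff_two_dvd] at hcon
  have : Fact (Nat.Prime 2) := ⟨Nat.prime_two⟩
  obtain ⟨g, hg⟩ := exists_prime_orderOf_dvd_card' 2 hcon
  have h2 : g ^ 2 = 1 := by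
    rw [← hg]
    exact pow_orderOf_eq_one g
  have h3 : (g : T) ^ 2 = 1 := by
    have := congrArg (fun z : St (T := T) x => (z : T)) h2
    simpa using this
  have h4 : (g : T) = 1 := hodd (g : T) x g.2 h3
  have h5 : g = 1 := Subtype.ext h4
  rw [h5, orderOf_one] at hg
  omega

/-- two involutions with the same pattern on two 4-tuples are conjugate by an element carrying one
tuple to the other -/
theorem pattern_conj (h4 : IsMultiplyPretransitive T Ξ 4)
    (hodd : ∀ (g : T) (x : Fin 4 ↪ Ξ), (∀ i, g • x i = x i) → g ^ 2 = 1 → g = 1)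
    (σ : Equiv.Perm (Fin 4)) {s s' : T} (hs : s ^ 2 = 1) (hs' : s' ^ 2 = 1)
    (x x' : Fin 4 ↪ Ξ) (hx : ∀ i, s • x i = x (σ i)) (hx' : ∀ i, s' • x' i = x' (σ i)) :
    ∃ k : T, k * s * k⁻¹ = s' ∧ ∀ i, k • x i = x' i := by
  obtain ⟨g, hg⟩ := h4.exists_smul_eq x x'
  have hg' : ∀ i, g • x i = x' i := by
    intro i
    have := DFunLike.congr_fun hg i
    simpa using this
  have hs2 : (g * s * g⁻¹) ^ 2 = 1 := by
    rw [conj_pow, hs]; simp
  have hagree : ∀ i, (g * s * g⁻¹) • x' i = s' • x' i := by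
    intro i
    rw [mul_smul, mul_smul, ← hg' i, inv_smul_smul, hx, hg', ← hx' i, hg']
  obtain ⟨h, hmem, hh⟩ := invol_conj hodd hs2 hs' x' hagree
  have hyfix : ∀ i, (g * s * g⁻¹ * s') • x' i = x' i := by
    intro i
    rw [mul_smul (g * s * g⁻¹) s', ← hagree i, smul_smul_of_sq hs2]
  obtain ⟨n, hn⟩ := Subgroup.mem_zpowers_iff.mp hmem
  refine ⟨h * g, ?_, ?_⟩
  · calc h * g * s * (h * g)⁻¹ = h * (g * s * g⁻¹) * h⁻¹ := by group
      _ = s' := hh
  · intro i
    rw [mul_smul, hg' i, ← hn, zpow_smul_fix (hyfix i)]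

theorem card_Cen_eq_of_pattern (h4 : IsMultiplyPretransitive T Ξ 4)
    (hodd : ∀ (g : T) (x : Fin 4 ↪ Ξ), (∀ i, g • x i = x i) → g ^ 2 = 1 → g = 1)
    (σ : Equiv.Perm (Fin 4)) {s s' : T} (hs : s ^ 2 = 1) (hs' : s' ^ 2 = 1)
    (x x' : Fin 4 ↪ Ξ) (hx : ∀ i, s • x i = x (σ i)) (hx' : ∀ i, s' • x' i = x' (σ i)) :
    Nat.card (Cen s' x') = Nat.card (Cen s x) := by
  obtain ⟨k, hk1, hk2⟩ := pattern_conj h4 hodd σ hs hs' x x' hx hx'
  rw [← hk1, card_Cen_conj k s x x' hk2]

omit [Finite T] in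
theorem card_St_eq (h4 : IsMultiplyPretransitive T Ξ 4) (x x' : Fin 4 ↪ Ξ) :
    Nat.card (St (T := T) x') = Nat.card (St (T := T) x) := by
  obtain ⟨k, hk⟩ := h4.exists_smul_eq x x'
  have hk' : ∀ i, k • x i = x' i := by
    intro i
    have := DFunLike.congr_fun hk i
    simpa using this
  rw [card_St_eq_Cen_one, card_St_eq_Cen_one, ← card_Cen_conj k 1 x x' hk']
  congr 2
  group

end trans

end Cfsg.Agent.Lib.Lead.Hall4
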