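import Mathlib
import Cfsg.Agent.Lib.Lead.Hall4A

set_option autoImplicit false

/-!
# M. Hall's theorem: the counting relation `(N - f - 2) h₁ = f (f - 1) h₂`
-/

namespace Cfsg.Agent.Lib.Lead.Hall4

open MulAction Cfsg.Agent.Lib.Helper8.LW

section count

variable {T Ξ : Type*} [Group T] [Finite T] [MulAction T Ξ] [Fintype Ξ] [DecidableEq Ξ]
  (c : Quad T Ξ)

/-- the base 4-tuple -/
def x0 : Fin 4 ↪ Ξ := emb4 c.p1 c.p2 c.p3 c.p4 c.h12 c.h13 c.h14 c.h23 c.h24 c.h34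

omit [Finite T] [Fintype Ξ] [DecidableEq Ξ] in
theorem mem_St_x0 {g : T} : g ∈ St (T := T) (x0 c) ↔
    g • c.p1 = c.p1 ∧ g • c.p2 = c.p2 ∧ g • c.p3 = c.p3 ∧ g • c.p4 = c.p4 :=
  mem_St_emb4 _ _ _ _ _ _ _ _ _ _

omit [Finite T] [Fintype Ξ] [DecidableEq Ξ] in
theorem t_x0 : ∀ i, c.t • x0 c i = x0 c (sig22 i) := by
  intro i
  fin_cases i
  · show c.t • c.p1 = x0 c (sig22 0)
    rw [sig22_zero]; exact c.t1
  · show c.t • c.p2 = x0 c (sig22 1)
    rw [sig22_one]; exact c.t2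
  · show c.t • c.p3 = x0 c (sig22 2)
    rw [sig22_two]; exact c.t3
  · show c.t • c.p4 = x0 c (sig22 3)
    rw [sig22_three]; exact c.t4

omit [Finite T] [Fintype Ξ] [DecidableEq Ξ] in
theorem u_x0 : ∀ i, c.u • x0 c i = x0 c (sig2 i) := by
  intro i
  fin_cases i
  · show c.u • c.p1 = x0 c (sig2 0)
    rw [sig2_zero]; exact c.u1
  · show c.u • c.p2 = x0 c (sig2 1)
    rw [sig2_one]; exact c.u2
  · show c.u • c.p3 = x0 c (sig2 2)
    rw [sig2_two]; exact c.u3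
  · show c.u • c.p4 = x0 c (sig2 3)
    rw [sig2_three]; exact c.u4

/-- centraliser of `t` in the stabiliser of `p1` -/
def K : Subgroup T where
  carrier := {g | c.t * g = g * c.t ∧ g • c.p1 = c.p1}
  mul_mem' := by
    rintro a b ⟨ha, ha'⟩ ⟨hb, hb'⟩
    refine ⟨?_, by rw [mul_smul, hb', ha']⟩
    calc c.t * (a * b) = (c.t * a) * b := by rw [mul_assoc]
      _ = a * (c.t * b) := by rw [ha, mul_assoc]
      _ = a * b * c.t := by rw [hb, mul_assoc]
  one_mem' := ⟨by rw [mul_one, one_mul], one_smul _ _⟩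
  inv_mem' := by
    rintro a ⟨ha, ha'⟩
    refine ⟨?_, by rw [inv_smul_eq_iff, ha']⟩
    rw [eq_inv_mul_iff_mul_eq, ← mul_assoc, ← ha, mul_assoc, mul_inv_cancel, mul_one]

omit [Finite T] [Fintype Ξ] [DecidableEq Ξ] in
theorem mem_K {g : T} : g ∈ K c ↔ c.t * g = g * c.t ∧ g • c.p1 = c.p1 := Iff.rfl

omit [Finite T] [Fintype Ξ] [DecidableEq Ξ] in
theorem K_smul_t {g : T} (hg : g ∈ K c) (z : Ξ) : g • c.t • z = c.t • g • z := by
  rw [← mul_smul, ← mul_smul, hg.1]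

omit [Finite T] [Fintype Ξ] [DecidableEq Ξ] in
theorem K_p2 {g : T} (hg : g ∈ K c) : g • c.p2 = c.p2 := by
  have h := K_smul_t c hg c.p1
  rw [c.t1, hg.2, c.t1] at h
  exact h

/-- the points moved by `t` other than `p1`, `p2` -/
def MvF : Finset Ξ := (fixF c.t)ᶜ \ {c.p1, c.p2}

omit [Finite T] in
theorem card_MvF : (MvF c).card = Fintype.card Ξ - (fixF c.t : Finset Ξ).card - 2 := by
  have hsub : ({c.p1, c.p2} : Finset Ξ) ⊆ (fixF c.t)ᶜ := by
    intro z hz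
    rw [Finset.mem_insert, Finset.mem_singleton] at hz
    rw [Finset.mem_compl, mem_fixF]
    rcases hz with rfl | rfl
    · rw [c.t1]; exact c.h12.symm
    · rw [c.t2]; exact c.h12
  rw [MvF, Finset.card_sdiff_of_subset hsub, Finset.card_compl, Finset.card_pair c.h12]

/-- the 4-tuple `(p1, p2, z, t z)` for a further moved point `z` -/
def xmv (z : Ξ) (h1 : c.t • z ≠ z) (hz1 : z ≠ c.p1) (hz2 : z ≠ c.p2) : Fin 4 ↪ Ξ :=
  emb4 c.p1 c.p2 z (c.t • z) c.h12 (Ne.symm hz1)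
    (by
      intro h
      apply hz2
      rw [← c.t1, h, c.t_smul_t])
    (Ne.symm hz2)
    (by
      intro h
      apply hz1
      rw [← c.t2, h, c.t_smul_t])
    (Ne.symm h1)

omit [Finite T] [Fintype Ξ] [DecidableEq Ξ] in
theorem t_xmv (z : Ξ) (h1 : c.t • z ≠ z) (hz1 : z ≠ c.p1) (hz2 : z ≠ c.p2) :
    ∀ i, c.t • xmv c z h1 hz1 hz2 i = xmv c z h1 hz1 hz2 (sig22 i) := by
  intro i
  fin_cases i
  · show c.t • c.p1 = xmv c z h1 hz1 hz2 (sig22 0)
    rw [sig22_zero]; exact c.t1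
  · show c.t • c.p2 = xmv c z h1 hz1 hz2 (sig22 1)
    rw [sig22_one]; exact c.t2
  · show c.t • z = xmv c z h1 hz1 hz2 (sig22 2)
    rw [sig22_two]; rfl
  · show c.t • c.t • z = xmv c z h1 hz1 hz2 (sig22 3)
    rw [sig22_three]; exact c.t_smul_t z

theorem orbit_K_p3 (h4 : IsMultiplyPretransitive T Ξ 4)
    (hodd : ∀ (g : T) (x : Fin 4 ↪ Ξ), (∀ i, g • x i = x i) → g ^ 2 = 1 → g = 1) :
    (orbit (K c) c.p3 : Set Ξ) = ↑(MvF c) := by
  ext z
  rw [Finset.mem_coe, MvF, Finset.mem_sdiff, Finset.mem_compl, mem_fixF, Finset.mem_insert,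
    Finset.mem_singleton]
  constructor
  · rintro ⟨g, rfl⟩
    have hg := g.2
    show ¬ c.t • ((g : T) • c.p3) = (g : T) • c.p3 ∧
      ¬ ((g : T) • c.p3 = c.p1 ∨ (g : T) • c.p3 = c.p2)
    refine ⟨?_, ?_⟩
    · rw [← K_smul_t c hg, c.t3]
      intro h
      exact c.h34 (MulAction.injective (g : T) h).symm
    · rintro (h | h)
      · have h' : (g : T) • c.p3 = (g : T) • c.p1 := by rw [h, hg.2]
        exact c.h13 (MulAction.injective _ h').symm
      · have h' : (g : T) • c.p3 = (g : T) • c.p2 := by rw [h, K_p2 c hg]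
        exact c.h23 (MulAction.injective _ h').symm
  · rintro ⟨h1, h2⟩
    have hz1 : z ≠ c.p1 := fun h => h2 (Or.inl h)
    have hz2 : z ≠ c.p2 := fun h => h2 (Or.inr h)
    obtain ⟨k, hk1, hk2⟩ := pattern_conj h4 hodd sig22 c.ht c.ht (x0 c) (xmv c z h1 hz1 hz2)
      (t_x0 c) (t_xmv c z h1 hz1 hz2)
    have hkK : k ∈ K c := ⟨by
      rw [mul_inv_eq_iff_eq_mul] at hk1
      exact hk1.symm, hk2 0⟩
    exact ⟨⟨k, hkK⟩, hk2 2⟩

omit [Finite T] [Fintype Ξ] [DecidableEq Ξ] in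
theorem card_stab_K_p3 : Nat.card (stabilizer (K c) c.p3) = Nat.card (Cen c.t (x0 c)) := by
  refine Nat.card_congr ?_
  refine
    { toFun := fun g => ⟨((g : K c) : T), ?_, ?_⟩
      invFun := fun g => ⟨⟨(g : T), ?_⟩, ?_⟩
      left_inv := fun g => rfl
      right_inv := fun g => rfl }
  · have hg := (g : K c).2
    have h3 : ((g : K c) : T) • c.p3 = c.p3 := g.2
    rw [mem_St_x0]
    refine ⟨hg.2, K_p2 c hg, h3, ?_⟩
    have h := K_smul_t c hg c.p3
    rw [c.t3, h3, c.t3] at h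
    exact h
  · exact (g : K c).2.1
  · have hg := g.2
    exact ⟨hg.2, ((mem_St_x0 c).mp hg.1).1⟩
  · have hg := g.2
    exact ((mem_St_x0 c).mp hg.1).2.2.1

omit [Finite T] [Fintype Ξ] [DecidableEq Ξ] in
theorem ne_fix {a : Ξ} (ha : c.t • a = a) : c.p1 ≠ a ∧ c.p2 ≠ a := by
  constructor
  · rintro rfl
    rw [c.t1] at ha
    exact c.h12 ha.symm
  · rintro rfl
    rw [c.t2] at ha
    exact c.h12 ha

/-- the 4-tuple `(p1, p2, d, e)` for fixed points `d ≠ e` of `t` -/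
def xpair (d e : Ξ) (hd : c.t • d = d) (he : c.t • e = e) (hde : d ≠ e) : Fin 4 ↪ Ξ :=
  emb4 c.p1 c.p2 d e c.h12 (ne_fix c hd).1 (ne_fix c he).1 (ne_fix c hd).2 (ne_fix c he).2 hde

omit [Finite T] [Fintype Ξ] [DecidableEq Ξ] in
theorem t_xpair (d e : Ξ) (hd : c.t • d = d) (he : c.t • e = e) (hde : d ≠ e) :
    ∀ i, c.t • xpair c d e hd he hde i = xpair c d e hd he hde (sig2 i) := by
  intro i
  fin_cases i
  · show c.t • c.p1 = xpair c d e hd he hde (sig2 0)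
    rw [sig2_zero]; exact c.t1
  · show c.t • c.p2 = xpair c d e hd he hde (sig2 1)
    rw [sig2_one]; exact c.t2
  · show c.t • d = xpair c d e hd he hde (sig2 2)
    rw [sig2_two]; exact hd
  · show c.t • e = xpair c d e hd he hde (sig2 3)
    rw [sig2_three]; exact he

omit [Finite T] [Fintype Ξ] [DecidableEq Ξ] in
theorem mem_St_xpair {g : T} (d e : Ξ) (hd : c.t • d = d) (he : c.t • e = e) (hde : d ≠ e) :
    g ∈ St (T := T) (xpair c d e hd he hde) ↔
      g • c.p1 = c.p1 ∧ g • c.p2 = c.p2 ∧ g • d = d ∧ g • e = e :=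
  mem_St_emb4 _ _ _ _ _ _ _ _ _ _

theorem orbit_K_pair (h4 : IsMultiplyPretransitive T Ξ 4)
    (hodd : ∀ (g : T) (x : Fin 4 ↪ Ξ), (∀ i, g • x i = x i) → g ^ 2 = 1 → g = 1)
    (d e : Ξ) (hd : c.t • d = d) (he : c.t • e = e) (hde : d ≠ e) :
    (orbit (K c) ((d, e) : Ξ × Ξ) : Set (Ξ × Ξ)) = ↑((fixF c.t : Finset Ξ).offDiag) := by
  ext q
  rw [Finset.mem_coe, Finset.mem_offDiag, mem_fixF, mem_fixF]
  constructor
  · rintro ⟨g, rfl⟩
    have hg := g.2
    show c.t • ((g : T) • d) = (g : T) • d ∧ c.t • ((g : T) • e) = (g : T) • e ∧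
      (g : T) • d ≠ (g : T) • e
    refine ⟨by rw [← K_smul_t c hg, hd], by rw [← K_smul_t c hg, he],
      fun h => hde (MulAction.injective _ h)⟩
  · rintro ⟨h1, h2, h3⟩
    obtain ⟨d', e'⟩ := q
    obtain ⟨k, hk1, hk2⟩ := pattern_conj h4 hodd sig2 c.ht c.ht (xpair c d e hd he hde)
      (xpair c d' e' h1 h2 h3) (t_xpair c d e hd he hde) (t_xpair c d' e' h1 h2 h3)
    have hkK : k ∈ K c := ⟨by
      rw [mul_inv_eq_iff_eq_mul] at hk1
      exact hk1.symm, hk2 0⟩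
    refine ⟨⟨k, hkK⟩, ?_⟩
    show ((k • d, k • e) : Ξ × Ξ) = (d', e')
    rw [show k • d = d' from hk2 2, show k • e = e' from hk2 3]

omit [Finite T] [Fintype Ξ] [DecidableEq Ξ] in
theorem card_stab_K_pair (d e : Ξ) (hd : c.t • d = d) (he : c.t • e = e) (hde : d ≠ e) :
    Nat.card (stabilizer (K c) ((d, e) : Ξ × Ξ)) =
      Nat.card (Cen c.t (xpair c d e hd he hde)) := by
  refine Nat.card_congr ?_
  refine
    { toFun := fun g => ⟨((g : K c) : T), ?_, ?_⟩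
      invFun := fun g => ⟨⟨(g : T), ?_⟩, ?_⟩
      left_inv := fun g => rfl
      right_inv := fun g => rfl }
  · have hg := (g : K c).2
    have h3 : ((((g : K c) : T) • d, ((g : K c) : T) • e) : Ξ × Ξ) = (d, e) := g.2
    rw [Prod.mk.injEq] at h3
    rw [mem_St_xpair]
    exact ⟨hg.2, K_p2 c hg, h3.1, h3.2⟩
  · exact (g : K c).2.1
  · have hg := g.2
    have h := (mem_St_xpair c d e hd he hde).mp hg.1
    exact ⟨hg.2, h.1⟩
  · have hg := g.2
    have h := (mem_St_xpair c d e hd he hde).mp hg.1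
    show ((((g : T) • d, (g : T) • e)) : Ξ × Ξ) = (d, e)
    rw [h.2.2.1, h.2.2.2]

/-- the counting relation -/
theorem count_star (h4 : IsMultiplyPretransitive T Ξ 4)
    (hodd : ∀ (g : T) (x : Fin 4 ↪ Ξ), (∀ i, g • x i = x i) → g ^ 2 = 1 → g = 1)
    (hcard : 7 ≤ Fintype.card Ξ) :
    (Fintype.card Ξ - (fixF c.t : Finset Ξ).card - 2) * Nat.card (Cen c.t (x0 c)) =
      ((fixF c.t : Finset Ξ).card * (fixF c.t : Finset Ξ).card - (fixF c.t : Finset Ξ).card) *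
        Nat.card (Cen c.u (x0 c)) := by
  have e1 := card_orbit_mul_card_stab (K c) c.p3
  rw [card_stab_K_p3, Nat.card_coe_set_eq, orbit_K_p3 c h4 hodd, Set.ncard_coe_finset,
    card_MvF] at e1
  obtain ⟨d, e, hde, hP⟩ := Finset.card_eq_two.mp (c.card_P h4 hodd hcard)
  have hdP : d ∈ c.P := by rw [hP]; exact Finset.mem_insert_self _ _
  have heP : e ∈ c.P := by
    rw [hP]; exact Finset.mem_insert_of_mem (Finset.mem_singleton_self _)
  have hd : c.t • d = d := by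
    rw [Quad.P, Finset.mem_sdiff, mem_fixF] at hdP
    exact hdP.1
  have he : c.t • e = e := by
    rw [Quad.P, Finset.mem_sdiff, mem_fixF] at heP
    exact heP.1
  have e2 := card_orbit_mul_card_stab (K c) ((d, e) : Ξ × Ξ)
  rw [card_stab_K_pair c d e hd he hde, Nat.card_coe_set_eq, orbit_K_pair c h4 hodd d e hd he hde,
    Set.ncard_coe_finset, Finset.offDiag_card,
    card_Cen_eq_of_pattern h4 hodd sig2 c.hu c.ht (x0 c) (xpair c d e hd he hde) (u_x0 c)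
      (t_xpair c d e hd he hde)] at e2
  rw [e1, e2]

end count

end Cfsg.Agent.Lib.Lead.Hall4
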