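import Mathlib
import Cfsg.Agent.Lib.Lead.Hall4B

set_option autoImplicit false

/-!
# M. Hall's theorem: the two applications of the Brauer--Wielandt formula
-/

namespace Cfsg.Agent.Lib.Lead.Hall4

open MulAction Cfsg.Agent.Lib.Helper8.LW Cfsg.Agent.Lib.Lead.BWSub

section bw

variable {T Ξ : Type*} [Group T] [Finite T] [MulAction T Ξ] [Fintype Ξ] [DecidableEq Ξ]
  (c : Quad T Ξ)

omit [Finite T] [Fintype Ξ] [DecidableEq Ξ] in
theorem comm_smul {s g : T} (h : s * g = g * s) (z : Ξ) : g • s • z = s • g • z := by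
  rw [← mul_smul, ← mul_smul, h]

/-- `D = C_{St(B)}(⟨t,u⟩)` -/
def Dg : Subgroup T := Cen c.t (x0 c) ⊓ Cen c.u (x0 c)

omit [Finite T] [Fintype Ξ] [DecidableEq Ξ] in
theorem mem_Dg {g : T} : g ∈ Dg c ↔
    g ∈ St (T := T) (x0 c) ∧ (c.t * g = g * c.t ∧ c.u * g = g * c.u) := by
  rw [Dg, Subgroup.mem_inf, mem_Cen, mem_Cen]
  tauto

omit [Finite T] [Fintype Ξ] [DecidableEq Ξ] in
theorem card_Dg : Nat.card (Dg c) =
    Nat.card {g : T // g ∈ St (T := T) (x0 c) ∧ (c.t * g = g * c.t ∧ c.u * g = g * c.u)} :=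
  Nat.card_congr (Equiv.subtypeEquivRight (fun _ => mem_Dg c))

omit [Finite T] [Fintype Ξ] [DecidableEq Ξ] in
theorem Dg_le : Dg c ≤ St (T := T) (x0 c) := fun _ hg => ((mem_Dg c).mp hg).1

/-- the base 4-tuple in the order `(p3, p4, p1, p2)` -/
def x0' : Fin 4 ↪ Ξ :=
  emb4 c.p3 c.p4 c.p1 c.p2 c.h34 c.h13.symm c.h23.symm c.h14.symm c.h24.symm c.h12

omit [Finite T] [Fintype Ξ] [DecidableEq Ξ] in
theorem mem_St_x0' {g : T} : g ∈ St (T := T) (x0' c) ↔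
    g • c.p3 = c.p3 ∧ g • c.p4 = c.p4 ∧ g • c.p1 = c.p1 ∧ g • c.p2 = c.p2 :=
  mem_St_emb4 _ _ _ _ _ _ _ _ _ _

omit [Finite T] [Fintype Ξ] [DecidableEq Ξ] in
theorem St_x0' : St (T := T) (x0 c) = St (T := T) (x0' c) := by
  ext g
  rw [mem_St_x0, mem_St_x0']
  tauto

omit [Finite T] [Fintype Ξ] [DecidableEq Ξ] in
theorem v_x0' : ∀ i, c.v • x0' c i = x0' c (sig2 i) := by
  intro i
  fin_cases i
  · show c.v • c.p3 = x0' c (sig2 0)
    rw [sig2_zero]; exact c.v3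
  · show c.v • c.p4 = x0' c (sig2 1)
    rw [sig2_one]; exact c.v4
  · show c.v • c.p1 = x0' c (sig2 2)
    rw [sig2_two]; exact c.v1
  · show c.v • c.p2 = x0' c (sig2 3)
    rw [sig2_three]; exact c.v2

/-- Brauer--Wielandt for the stabiliser of the base points -/
theorem bw_base (h4 : IsMultiplyPretransitive T Ξ 4)
    (hodd : ∀ (g : T) (x : Fin 4 ↪ Ξ), (∀ i, g • x i = x i) → g ^ 2 = 1 → g = 1) :
    Nat.card (St (T := T) (x0 c)) * Nat.card (Dg c) ^ 2 =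
      Nat.card (Cen c.t (x0 c)) * Nat.card (Cen c.u (x0 c)) * Nat.card (Cen c.u (x0 c)) := by
  have key := bw_sub (St (T := T) (x0 c)) (odd_card_St hodd (x0 c)) c.t c.u c.tt c.uu c.hcomm
    (conj_mem_St c.ht sig22 (t_x0 c)) (conj_mem_St c.hu sig2 (u_x0 c))
  have e3 : Nat.card {g : T // g ∈ St (T := T) (x0 c) ∧ (c.t * c.u) * g = g * (c.t * c.u)} =
      Nat.card (Cen c.u (x0 c)) := by
    have h1 : Nat.card {g : T // g ∈ St (T := T) (x0 c) ∧ (c.t * c.u) * g = g * (c.t * c.u)} =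
        Nat.card (Cen c.v (x0 c)) := rfl
    rw [h1, Cen_congr c.v (St_x0' c),
      card_Cen_eq_of_pattern h4 hodd sig2 c.hu c.hv (x0 c) (x0' c) (u_x0 c) (v_x0' c)]
  rw [e3, ← card_Dg, ← card_Cen_eq, ← card_Cen_eq] at key
  exact key

omit [Finite T] [Fintype Ξ] [DecidableEq Ξ] in
theorem tu_ne {w : Ξ} (h3 : c.v • w ≠ w) : c.t • w ≠ c.u • w := by
  intro h
  apply h3
  rw [c.v_smul, ← h, c.t_smul_t]

omit [Finite T] [Fintype Ξ] [DecidableEq Ξ] in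
theorem tv_ne {w : Ξ} (h2 : c.u • w ≠ w) : c.t • w ≠ c.v • w := by
  intro h
  apply h2
  rw [c.v_smul] at h
  exact (MulAction.injective c.t h).symm

omit [Finite T] [Fintype Ξ] [DecidableEq Ξ] in
theorem uv_ne {w : Ξ} (h1 : c.t • w ≠ w) : c.u • w ≠ c.v • w := by
  intro h
  apply h1
  rw [c.v_smul'] at h
  exact (MulAction.injective c.u h).symm

/-- the free orbit `(w, t w, u w, v w)` -/
def xw1 (w : Ξ) (h1 : c.t • w ≠ w) (h2 : c.u • w ≠ w) (h3 : c.v • w ≠ w) : Fin 4 ↪ Ξ :=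
  emb4 w (c.t • w) (c.u • w) (c.v • w) (Ne.symm h1) (Ne.symm h2) (Ne.symm h3)
    (tu_ne c h3) (tv_ne c h2) (uv_ne c h1)

/-- the free orbit `(w, u w, t w, v w)` -/
def xw2 (w : Ξ) (h1 : c.t • w ≠ w) (h2 : c.u • w ≠ w) (h3 : c.v • w ≠ w) : Fin 4 ↪ Ξ :=
  emb4 w (c.u • w) (c.t • w) (c.v • w) (Ne.symm h2) (Ne.symm h1) (Ne.symm h3)
    (tu_ne c h3).symm (uv_ne c h1) (tv_ne c h2)

/-- the free orbit `(w, v w, t w, u w)` -/
def xw3 (w : Ξ) (h1 : c.t • w ≠ w) (h2 : c.u • w ≠ w) (h3 : c.v • w ≠ w) : Fin 4 ↪ Ξ :=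
  emb4 w (c.v • w) (c.t • w) (c.u • w) (Ne.symm h3) (Ne.symm h1) (Ne.symm h2)
    (tv_ne c h2).symm (uv_ne c h1).symm (tu_ne c h3)

variable (w : Ξ) (h1 : c.t • w ≠ w) (h2 : c.u • w ≠ w) (h3 : c.v • w ≠ w)

omit [Finite T] [Fintype Ξ] [DecidableEq Ξ] in
theorem mem_St_xw1 {g : T} : g ∈ St (T := T) (xw1 c w h1 h2 h3) ↔
    g • w = w ∧ g • (c.t • w) = c.t • w ∧ g • (c.u • w) = c.u • w ∧ g • (c.v • w) = c.v • w :=
  mem_St_emb4 _ _ _ _ _ _ _ _ _ _

omit [Finite T] [Fintype Ξ] [DecidableEq Ξ] in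
theorem mem_St_xw2 {g : T} : g ∈ St (T := T) (xw2 c w h1 h2 h3) ↔
    g • w = w ∧ g • (c.u • w) = c.u • w ∧ g • (c.t • w) = c.t • w ∧ g • (c.v • w) = c.v • w :=
  mem_St_emb4 _ _ _ _ _ _ _ _ _ _

omit [Finite T] [Fintype Ξ] [DecidableEq Ξ] in
theorem mem_St_xw3 {g : T} : g ∈ St (T := T) (xw3 c w h1 h2 h3) ↔
    g • w = w ∧ g • (c.v • w) = c.v • w ∧ g • (c.t • w) = c.t • w ∧ g • (c.u • w) = c.u • w :=
  mem_St_emb4 _ _ _ _ _ _ _ _ _ _

omit [Finite T] [Fintype Ξ] [DecidableEq Ξ] in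
theorem St_xw2 : St (T := T) (xw1 c w h1 h2 h3) = St (T := T) (xw2 c w h1 h2 h3) := by
  ext g
  rw [mem_St_xw1, mem_St_xw2]
  tauto

omit [Finite T] [Fintype Ξ] [DecidableEq Ξ] in
theorem St_xw3 : St (T := T) (xw1 c w h1 h2 h3) = St (T := T) (xw3 c w h1 h2 h3) := by
  ext g
  rw [mem_St_xw1, mem_St_xw3]
  tauto

omit [Finite T] [Fintype Ξ] [DecidableEq Ξ] in
theorem t_xw1 : ∀ i, c.t • xw1 c w h1 h2 h3 i = xw1 c w h1 h2 h3 (sig22 i) := by
  intro i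
  fin_cases i
  · show c.t • w = xw1 c w h1 h2 h3 (sig22 0)
    rw [sig22_zero]; rfl
  · show c.t • c.t • w = xw1 c w h1 h2 h3 (sig22 1)
    rw [sig22_one]; exact c.t_smul_t w
  · show c.t • c.u • w = xw1 c w h1 h2 h3 (sig22 2)
    rw [sig22_two]; exact (c.v_smul w).symm
  · show c.t • c.v • w = xw1 c w h1 h2 h3 (sig22 3)
    rw [sig22_three]; exact c.t_smul_v w

omit [Finite T] [Fintype Ξ] [DecidableEq Ξ] in
theorem u_xw2 : ∀ i, c.u • xw2 c w h1 h2 h3 i = xw2 c w h1 h2 h3 (sig22 i) := by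
  intro i
  fin_cases i
  · show c.u • w = xw2 c w h1 h2 h3 (sig22 0)
    rw [sig22_zero]; rfl
  · show c.u • c.u • w = xw2 c w h1 h2 h3 (sig22 1)
    rw [sig22_one]; exact c.u_smul_u w
  · show c.u • c.t • w = xw2 c w h1 h2 h3 (sig22 2)
    rw [sig22_two]; exact (c.v_smul' w).symm
  · show c.u • c.v • w = xw2 c w h1 h2 h3 (sig22 3)
    rw [sig22_three]; exact c.u_smul_v w

omit [Finite T] [Fintype Ξ] [DecidableEq Ξ] in
theorem v_xw3 : ∀ i, c.v • xw3 c w h1 h2 h3 i = xw3 c w h1 h2 h3 (sig22 i) := by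
  intro i
  fin_cases i
  · show c.v • w = xw3 c w h1 h2 h3 (sig22 0)
    rw [sig22_zero]; rfl
  · show c.v • c.v • w = xw3 c w h1 h2 h3 (sig22 1)
    rw [sig22_one]; exact c.v_smul_v w
  · show c.v • c.t • w = xw3 c w h1 h2 h3 (sig22 2)
    rw [sig22_two]; exact c.v_smul_t w
  · show c.v • c.u • w = xw3 c w h1 h2 h3 (sig22 3)
    rw [sig22_three]; exact c.v_smul_u w

/-- Brauer--Wielandt for the stabiliser of a free orbit -/
theorem bw_free (h4 : IsMultiplyPretransitive T Ξ 4)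
    (hodd : ∀ (g : T) (x : Fin 4 ↪ Ξ), (∀ i, g • x i = x i) → g ^ 2 = 1 → g = 1) :
    Nat.card (St (T := T) (xw1 c w h1 h2 h3)) *
      Nat.card {g : T // g ∈ St (T := T) (xw1 c w h1 h2 h3) ∧
        (c.t * g = g * c.t ∧ c.u * g = g * c.u)} ^ 2 =
      Nat.card (Cen c.t (x0 c)) ^ 3 := by
  have hnu : ∀ g ∈ St (T := T) (xw1 c w h1 h2 h3), c.u * g * c.u⁻¹ ∈
      St (T := T) (xw1 c w h1 h2 h3) := by
    rw [St_xw2]
    exact conj_mem_St c.hu sig22 (u_xw2 c w h1 h2 h3)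
  have key := bw_sub (St (T := T) (xw1 c w h1 h2 h3)) (odd_card_St hodd _) c.t c.u c.tt c.uu
    c.hcomm (conj_mem_St c.ht sig22 (t_xw1 c w h1 h2 h3)) hnu
  have e1 : Nat.card {g : T // g ∈ St (T := T) (xw1 c w h1 h2 h3) ∧ c.t * g = g * c.t} =
      Nat.card (Cen c.t (x0 c)) := by
    rw [← card_Cen_eq]
    exact card_Cen_eq_of_pattern h4 hodd sig22 c.ht c.ht (x0 c) _ (t_x0 c) (t_xw1 c w h1 h2 h3)
  have e2 : Nat.card {g : T // g ∈ St (T := T) (xw1 c w h1 h2 h3) ∧ c.u * g = g * c.u} =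
      Nat.card (Cen c.t (x0 c)) := by
    rw [← card_Cen_eq, Cen_congr c.u (St_xw2 c w h1 h2 h3)]
    exact card_Cen_eq_of_pattern h4 hodd sig22 c.ht c.hu (x0 c) _ (t_x0 c) (u_xw2 c w h1 h2 h3)
  have e3 : Nat.card {g : T // g ∈ St (T := T) (xw1 c w h1 h2 h3) ∧
      (c.t * c.u) * g = g * (c.t * c.u)} = Nat.card (Cen c.t (x0 c)) := by
    have h : Nat.card {g : T // g ∈ St (T := T) (xw1 c w h1 h2 h3) ∧
        (c.t * c.u) * g = g * (c.t * c.u)} = Nat.card (Cen c.v (xw1 c w h1 h2 h3)) := rfl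
    rw [h, Cen_congr c.v (St_xw3 c w h1 h2 h3)]
    exact card_Cen_eq_of_pattern h4 hodd sig22 c.ht c.hv (x0 c) _ (t_x0 c) (v_xw3 c w h1 h2 h3)
  rw [e1, e2, e3] at key
  rw [key]
  ring

/-- an element of odd order centralising `t` and `u` fixes the four base points -/
theorem fix_base (h4 : IsMultiplyPretransitive T Ξ 4)
    (hodd : ∀ (g : T) (x : Fin 4 ↪ Ξ), (∀ i, g • x i = x i) → g ^ 2 = 1 → g = 1)
    (hcard : 7 ≤ Fintype.card Ξ) {g : T} (hgo : Odd (orderOf g))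
    (hgt : c.t * g = g * c.t) (hgu : c.u * g = g * c.u) : g ∈ St (T := T) (x0 c) := by
  have hgv : c.v * g = g * c.v := by
    show c.t * c.u * g = g * (c.t * c.u)
    rw [mul_assoc, hgu, ← mul_assoc, hgt, mul_assoc]
  have notE : ∀ z : Ξ, c.t • z ≠ z → g • z ∉ c.E := by
    intro z hz hE
    rw [Quad.mem_E] at hE
    apply hz
    have := hE.1
    rw [← comm_smul hgt] at this
    exact MulAction.injective g this
  -- p1, p2
  have hp1 : g • c.p1 = c.p1 := by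
    have hmem : g • c.p1 ∈ (fixF c.v : Finset Ξ) := by
      rw [mem_fixF, ← comm_smul hgv, c.v1]
    rw [c.fix_v_eq h4 hodd hcard, Finset.mem_union, Finset.mem_insert, Finset.mem_singleton] at hmem
    rcases hmem with (h | h) | h
    · exact h
    · exfalso
      have h' : g • c.p2 = c.p1 := by
        have := comm_smul hgt c.p1
        rw [c.t1, h, c.t2] at this
        exact this
      exact c.h12 (no_swap hgo h h')
    · exfalso
      refine notE c.p1 ?_ h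
      rw [c.t1]; exact c.h12.symm
  have hp2 : g • c.p2 = c.p2 := by
    have := comm_smul hgt c.p1
    rw [c.t1, hp1, c.t1] at this
    exact this
  have hp3 : g • c.p3 = c.p3 := by
    have hmem : g • c.p3 ∈ (fixF c.u : Finset Ξ) := by
      rw [mem_fixF, ← comm_smul hgu, c.u3]
    rw [(c.fix_u_eq h4 hodd hcard).1, Finset.mem_union, Finset.mem_insert,
      Finset.mem_singleton] at hmem
    rcases hmem with (h | h) | h
    · exact h
    · exfalso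
      have h' : g • c.p4 = c.p3 := by
        have := comm_smul hgt c.p3
        rw [c.t3, h, c.t4] at this
        exact this
      exact c.h34 (no_swap hgo h h')
    · exfalso
      refine notE c.p3 ?_ h
      rw [c.t3]; exact c.h34.symm
  have hp4 : g • c.p4 = c.p4 := by
    have := comm_smul hgt c.p3
    rw [c.t3, hp3, c.t3] at this
    exact this
  rw [mem_St_x0]
  exact ⟨hp1, hp2, hp3, hp4⟩

/-- the stabiliser of a free point in `D` is the `D'` of Brauer--Wielandt for its orbit -/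
theorem card_stab_Dg (h4 : IsMultiplyPretransitive T Ξ 4)
    (hodd : ∀ (g : T) (x : Fin 4 ↪ Ξ), (∀ i, g • x i = x i) → g ^ 2 = 1 → g = 1)
    (hcard : 7 ≤ Fintype.card Ξ) :
    Nat.card (stabilizer (Dg c) w) =
      Nat.card {g : T // g ∈ St (T := T) (xw1 c w h1 h2 h3) ∧
        (c.t * g = g * c.t ∧ c.u * g = g * c.u)} := by
  refine Nat.card_congr ?_
  refine
    { toFun := fun g => ⟨((g : Dg c) : T), ?_, ?_⟩
      invFun := fun g => ⟨⟨(g : T), ?_⟩, ?_⟩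
      left_inv := fun g => rfl
      right_inv := fun g => rfl }
  · have hg := (mem_Dg c).mp (g : Dg c).2
    have hw : ((g : Dg c) : T) • w = w := g.2
    rw [mem_St_xw1]
    refine ⟨hw, ?_, ?_, ?_⟩
    · rw [comm_smul hg.2.1, hw]
    · rw [comm_smul hg.2.2, hw]
    · rw [c.v_smul, comm_smul hg.2.1, comm_smul hg.2.2, hw]
  · exact ((mem_Dg c).mp (g : Dg c).2).2
  · have hg := g.2
    rw [mem_Dg]
    refine ⟨?_, hg.2⟩
    exact fix_base c h4 hodd hcard (odd_orderOf_of_fix hodd (xw1 c w h1 h2 h3) hg.1) hg.2.1 hg.2.2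
  · have hg := g.2
    exact ((mem_St_xw1 c w h1 h2 h3).mp hg.1).1

include h1 h2 h3 in
/-- orbit sizes of `D` on free points -/
theorem orbit_mul (h4 : IsMultiplyPretransitive T Ξ 4)
    (hodd : ∀ (g : T) (x : Fin 4 ↪ Ξ), (∀ i, g • x i = x i) → g ^ 2 = 1 → g = 1)
    (hcard : 7 ≤ Fintype.card Ξ) :
    Nat.card (orbit (Dg c) w) * Nat.card (Cen c.t (x0 c)) = Nat.card (Cen c.u (x0 c)) := by
  have ea := bw_base c h4 hodd
  have eb := bw_free c w h1 h2 h3 h4 hodd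
  have ec := card_orbit_mul_card_stab (Dg c) w
  rw [card_stab_Dg c w h1 h2 h3 h4 hodd hcard] at ec
  rw [card_St_eq h4 (x0 c) (xw1 c w h1 h2 h3)] at eb
  set H := Nat.card (St (T := T) (x0 c)) with hH
  set a := Nat.card (Dg c) with ha
  set b := Nat.card {g : T // g ∈ St (T := T) (xw1 c w h1 h2 h3) ∧
        (c.t * g = g * c.t ∧ c.u * g = g * c.u)} with hb
  set s := Nat.card (orbit (Dg c) w) with hs
  set k₁ := Nat.card (Cen c.t (x0 c)) with hk₁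
  set k₂ := Nat.card (Cen c.u (x0 c)) with hk₂
  have hk₁pos : 0 < k₁ := Nat.card_pos
  have e : (s * k₁) ^ 2 * k₁ = k₂ ^ 2 * k₁ := by
    calc (s * k₁) ^ 2 * k₁ = s ^ 2 * k₁ ^ 3 := by ring
      _ = s ^ 2 * (H * b ^ 2) := by rw [eb]
      _ = H * (s * b) ^ 2 := by ring
      _ = H * a ^ 2 := by rw [ec]
      _ = k₁ * k₂ * k₂ := ea
      _ = k₂ ^ 2 * k₁ := by ring
  have e' : (s * k₁) ^ 2 = k₂ ^ 2 := Nat.eq_of_mul_eq_mul_right hk₁pos e
  exact Nat.pow_left_injective (by norm_num) e'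

end bw

end Cfsg.Agent.Lib.Lead.Hall4
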