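import Mathlib
import Cfsg.Agent.Lib.Lead.Hall4C

set_option autoImplicit false

/-!
# M. Hall's theorem on 4-transitive groups with odd 4-point stabilisers: the degree is 7 or 11
-/

namespace Cfsg.Agent.Lib.Lead.Hall4

open MulAction Cfsg.Agent.Lib.Helper8.LW

section two

variable {T Ξ : Type*} [Group T] [MulAction T Ξ] [DecidableEq Ξ]

/-- an element of odd order preserving a set of at most two points fixes it pointwise -/
theorem fix_of_two {g : T} (hgo : Odd (orderOf g)) (S : Finset Ξ) (hS : S.card ≤ 2)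
    (hinv : ∀ z ∈ S, g • z ∈ S) : ∀ z ∈ S, g • z = z := by
  intro z hz
  by_contra hne
  have hsub : ({z, g • z} : Finset Ξ) ⊆ S := by
    intro y hy
    rw [Finset.mem_insert, Finset.mem_singleton] at hy
    rcases hy with rfl | rfl
    · exact hz
    · exact hinv _ hz
  have hc2 : ({z, g • z} : Finset Ξ).card = 2 := Finset.card_pair (Ne.symm hne)
  have heq : ({z, g • z} : Finset Ξ) = S :=
    Finset.eq_of_subset_of_card_le hsub (by rw [hc2]; exact hS)
  have hgg : g • g • z ∈ ({z, g • z} : Finset Ξ) := by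
    rw [heq]; exact hinv _ (hinv _ hz)
  rw [Finset.mem_insert, Finset.mem_singleton] at hgg
  rcases hgg with h | h
  · exact hne (no_swap hgo rfl h).symm
  · exact hne (MulAction.injective g h)

end two

section main

variable {T Ξ : Type*} [Group T] [Finite T] [MulAction T Ξ] [Fintype Ξ] [DecidableEq Ξ]
  (c : Quad T Ξ)

/-- `D` fixes every non-free point -/
theorem Dg_fix_U (h4 : IsMultiplyPretransitive T Ξ 4)
    (hodd : ∀ (g : T) (x : Fin 4 ↪ Ξ), (∀ i, g • x i = x i) → g ^ 2 = 1 → g = 1)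
    (hcard : 7 ≤ Fintype.card Ξ) {g : T} (hg : g ∈ Dg c) {z : Ξ} (hz : z ∈ c.U) : g • z = z := by
  have hg' := (mem_Dg c).mp hg
  have hgo : Odd (orderOf g) := odd_orderOf_of_fix hodd (x0 c) hg'.1
  have hb := (mem_St_x0 c).mp hg'.1
  rw [Quad.U, Finset.mem_union] at hz
  rcases hz with hz | hz
  · rw [Quad.mem_B] at hz
    rcases hz with rfl | rfl | rfl | rfl
    · exact hb.1
    · exact hb.2.1
    · exact hb.2.2.1
    · exact hb.2.2.2
  · rw [mem_fixF] at hz
    by_cases hzE : z ∈ c.E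
    · refine fix_of_two hgo c.E (by have := c.card_E_le h4 hodd hcard; omega) ?_ z hzE
      intro y hy
      rw [Quad.mem_E] at hy ⊢
      exact ⟨by rw [← comm_smul hg'.2.1, hy.1], by rw [← comm_smul hg'.2.2, hy.2]⟩
    · have hzP : z ∈ c.P := by
        rw [Quad.P, Finset.mem_sdiff, mem_fixF]; exact ⟨hz, hzE⟩
      refine fix_of_two hgo c.P (by rw [c.card_P h4 hodd hcard]) ?_ z hzP
      intro y hy
      rw [Quad.P, Finset.mem_sdiff, mem_fixF] at hy ⊢
      refine ⟨by rw [← comm_smul hg'.2.1, hy.1], ?_⟩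
      intro hE
      apply hy.2
      rw [Quad.mem_E] at hE ⊢
      refine ⟨hy.1, ?_⟩
      have := hE.2
      rw [← comm_smul hg'.2.2] at this
      exact MulAction.injective g this

/-- `D` preserves the set of free points -/
theorem Dg_free (h4 : IsMultiplyPretransitive T Ξ 4)
    (hodd : ∀ (g : T) (x : Fin 4 ↪ Ξ), (∀ i, g • x i = x i) → g ^ 2 = 1 → g = 1)
    (hcard : 7 ≤ Fintype.card Ξ) {g : T} (hg : g ∈ Dg c) {w : Ξ} (hw : w ∉ c.U) :
    g • w ∉ c.U := by
  intro h
  apply hw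
  have := Dg_fix_U c h4 hodd hcard ((Dg c).inv_mem hg) h
  rw [inv_smul_smul] at this
  rw [this]; exact h

theorem orbit_card (h4 : IsMultiplyPretransitive T Ξ 4)
    (hodd : ∀ (g : T) (x : Fin 4 ↪ Ξ), (∀ i, g • x i = x i) → g ^ 2 = 1 → g = 1)
    (hcard : 7 ≤ Fintype.card Ξ) {w : Ξ} (hw : w ∉ c.U) :
    ((fixF c.t : Finset Ξ).card * (fixF c.t : Finset Ξ).card - (fixF c.t : Finset Ξ).card) *
        Nat.card (orbit (Dg c) w) =
      Fintype.card Ξ - (fixF c.t : Finset Ξ).card - 2 := by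
  have h1 := c.t_ne_free hw
  have h2 := c.u_ne_free h4 hodd hcard hw
  have h3 := c.v_ne_free h4 hodd hcard hw
  have e1 := orbit_mul c w h1 h2 h3 h4 hodd hcard
  have e2 := count_star c h4 hodd hcard
  have hpos : 0 < Nat.card (Cen c.t (x0 c)) := Nat.card_pos
  rw [← e1] at e2
  apply Nat.eq_of_mul_eq_mul_right hpos
  rw [e2]; ring

theorem odd_orbit
    (hodd : ∀ (g : T) (x : Fin 4 ↪ Ξ), (∀ i, g • x i = x i) → g ^ 2 = 1 → g = 1)
    (w : Ξ) : Odd (Nat.card (orbit (Dg c) w)) := by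
  have h1 : Nat.card (orbit (Dg c) w) ∣ Nat.card (Dg c) :=
    Dvd.intro _ (card_orbit_mul_card_stab (Dg c) w)
  have h2 : Nat.card (Dg c) ∣ Nat.card (St (T := T) (x0 c)) := Subgroup.card_dvd_of_le (Dg_le c)
  exact (odd_card_St hodd (x0 c)).of_dvd_nat (h1.trans h2)

/-- **M. Hall**: the degree is `7` or `11`, with information on the order of the four-point
stabiliser. -/
theorem hall_main (h4 : IsMultiplyPretransitive T Ξ 4)
    (hodd : ∀ (g : T) (x : Fin 4 ↪ Ξ), (∀ i, g • x i = x i) → g ^ 2 = 1 → g = 1)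
    (hcard : 7 ≤ Fintype.card Ξ)
    (hfaith : ∀ g : T, (∀ a : Ξ, g • a = a) → g = 1)
    (x : Fin 4 ↪ Ξ) :
    (Fintype.card Ξ = 7 ∧ 3 ∣ Nat.card {g : T // ∀ i, g • x i = x i}) ∨
    (Fintype.card Ξ = 11 ∧ ∃ a : ℕ, Nat.card {g : T // ∀ i, g • x i = x i} = a ^ 3) := by
  obtain ⟨c⟩ := exists_quad h4 hodd x
  have hx : Nat.card {g : T // ∀ i, g • x i = x i} = Nat.card (St (T := T) (x0 c)) :=
    card_St_eq h4 (x0 c) x
  rw [hx]
  have hfE := (c.fix_u_eq h4 hodd hcard).2
  have hE1 := c.card_E_le h4 hodd hcard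
  have star := count_star c h4 hodd hcard
  have horb : ∀ w, w ∉ c.U →
      ((fixF c.t : Finset Ξ).card * (fixF c.t : Finset Ξ).card - (fixF c.t : Finset Ξ).card) *
        Nat.card (orbit (Dg c) w) = Fintype.card Ξ - (fixF c.t : Finset Ξ).card - 2 :=
    fun w hw => orbit_card c h4 hodd hcard hw
  have hRcard : (c.Uᶜ : Finset Ξ).card = Fintype.card Ξ - (4 + (fixF c.t : Finset Ξ).card) := by
    rw [Finset.card_compl, c.card_U]
  have hRinv : ∀ (g : Dg c) (w : Ξ), w ∈ (c.Uᶜ : Finset Ξ) → g • w ∈ (c.Uᶜ : Finset Ξ) := by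
    intro g w hw
    rw [Finset.mem_compl] at hw ⊢
    exact Dg_free c h4 hodd hcard g.2 hw
  have hf23 : (fixF c.t : Finset Ξ).card = 2 ∨ (fixF c.t : Finset Ξ).card = 3 := by omega
  rcases hf23 with hf2 | hf3
  · -- two fixed points: impossible
    exfalso
    have hne : (c.Uᶜ : Finset Ξ).Nonempty := by
      rw [← Finset.card_pos, hRcard]; omega
    obtain ⟨w, hw⟩ := hne
    rw [Finset.mem_compl] at hw
    have h0 := horb w hw
    rw [hf2] at h0
    have hall : ∀ w' ∈ (c.Uᶜ : Finset Ξ),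
        Nat.card (orbit (Dg c) w') = Nat.card (orbit (Dg c) w) := by
      intro w' hw'
      rw [Finset.mem_compl] at hw'
      have := horb w' hw'
      rw [hf2] at this
      omega
    have hdvd := dvd_card_of_orbits (K := Dg c) (c.Uᶜ : Finset Ξ) hRinv _ hall
    rw [hRcard, hf2] at hdvd
    obtain ⟨k, hk⟩ := odd_orbit c hodd w
    have h1 : Nat.card (orbit (Dg c) w) ∣ 2 * Nat.card (orbit (Dg c) w) := dvd_mul_left _ _
    have h3 := Nat.dvd_sub h1 hdvd
    have h4' : 2 * Nat.card (orbit (Dg c) w) - (Fintype.card Ξ - (4 + 2)) = 2 := by omega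
    rw [h4'] at h3
    have h5 := Nat.le_of_dvd (by norm_num) h3
    omega
  · by_cases hN : Fintype.card Ξ = 7
    · left
      refine ⟨hN, ?_⟩
      rw [hf3, hN] at star
      have h31 : 3 ∣ Nat.card (Cen c.t (x0 c)) := ⟨Nat.card (Cen c.u (x0 c)), by omega⟩
      exact h31.trans (Subgroup.card_dvd_of_le (Cen_le c.t (x0 c)))
    · right
      have hne : (c.Uᶜ : Finset Ξ).Nonempty := by
        rw [← Finset.card_pos, hRcard]; omega
      obtain ⟨w, hw⟩ := hne
      rw [Finset.mem_compl] at hw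
      have h0 := horb w hw
      rw [hf3] at h0
      have hall : ∀ w' ∈ (c.Uᶜ : Finset Ξ),
          Nat.card (orbit (Dg c) w') = Nat.card (orbit (Dg c) w) := by
        intro w' hw'
        rw [Finset.mem_compl] at hw'
        have := horb w' hw'
        rw [hf3] at this
        omega
      have hdvd := dvd_card_of_orbits (K := Dg c) (c.Uᶜ : Finset Ξ) hRinv _ hall
      rw [hRcard, hf3] at hdvd
      obtain ⟨k, hk⟩ := odd_orbit c hodd w
      have h1 : Nat.card (orbit (Dg c) w) ∣ 6 * Nat.card (orbit (Dg c) w) := dvd_mul_left _ _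
      have h3 := Nat.dvd_sub h1 hdvd
      have h4' : 6 * Nat.card (orbit (Dg c) w) - (Fintype.card Ξ - (4 + 3)) = 2 := by omega
      rw [h4'] at h3
      have h5 := Nat.le_of_dvd (by norm_num) h3
      have hs1 : Nat.card (orbit (Dg c) w) = 1 := by omega
      refine ⟨by omega, Nat.card (Cen c.t (x0 c)), ?_⟩
      have hD1 : Nat.card (Dg c) = 1 := by
        rw [Subgroup.card_eq_one, Subgroup.eq_bot_iff_forall]
        intro g hg
        apply hfaith
        intro a
        by_cases ha : a ∈ c.U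
        · exact Dg_fix_U c h4 hodd hcard hg ha
        · have h1 := hall a (Finset.mem_compl.mpr ha)
          rw [hs1] at h1
          obtain ⟨hsub, -⟩ := Nat.card_eq_one_iff_unique.mp h1
          have := @Subsingleton.elim _ hsub
            (⟨(⟨g, hg⟩ : Dg c) • a, mem_orbit _ _⟩ : orbit (Dg c) a) ⟨a, mem_orbit_self _⟩
          exact congrArg Subtype.val this
      have e1 := orbit_mul c w (c.t_ne_free hw) (c.u_ne_free h4 hodd hcard hw)
        (c.v_ne_free h4 hodd hcard hw) h4 hodd hcard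
      have ea := bw_base c h4 hodd
      rw [hD1, ← e1, hs1] at ea
      calc Nat.card (St (T := T) (x0 c)) = Nat.card (St (T := T) (x0 c)) * 1 ^ 2 := by ring
        _ = _ := ea
        _ = Nat.card (Cen c.t (x0 c)) ^ 3 := by ring

end main

end Cfsg.Agent.Lib.Lead.Hall4
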