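import Mathlib

/-! Swap lemma: a 2-subgroup `Q` which is a maximal 2-subgroup of the pointwise stabiliser of
every `(j+2)`-subset of its fixed-point set `Φ`, but of no `(j+1)`-subset, has the property that
`N_G(Q)` contains, for every `j`-subset `Γ₂` of `Φ` and points `a ≠ b` of `Φ` outside `Γ₂`,
an element fixing `Γ₂` pointwise and interchanging `a` and `b`. -/

set_option autoImplicit false

namespace Cfsg.Agent.Lib.Lead.Swap

open Equiv Subgroup

variable {α : Type*} [Fintype α] [DecidableEq α]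

/-- the normaliser of a subgroup (as a subgroup). -/
abbrev Nz (Q : Subgroup (Perm α)) : Subgroup (Perm α) :=
  Subgroup.normalizer ((Q : Subgroup (Perm α)) : Set (Perm α))

/-- elements of the normaliser of `Q` preserve the fixed-point set of `Q`. -/
lemma mem_fix_of_normalizer {Q : Subgroup (Perm α)} {Φ : Finset α}
    (hΦ : ∀ x, x ∈ Φ ↔ ∀ q ∈ Q, q x = x) {g : Perm α} (hg : g ∈ Nz Q) (x : α) :
    g x ∈ Φ ↔ x ∈ Φ := by
  rw [hΦ, hΦ]
  constructor
  · intro h q hq
    have h1 : g * q * g⁻¹ ∈ Q := (Subgroup.mem_normalizer_iff.mp hg q).mp hq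
    have h2 := h _ h1
    simpa using h2
  · intro h q hq
    have hg' : g⁻¹ ∈ Nz Q := Subgroup.inv_mem _ hg
    have h1 : g⁻¹ * q * g⁻¹⁻¹ ∈ Q := (Subgroup.mem_normalizer_iff.mp hg' q).mp hq
    have h2 := h _ h1
    have h3 : g⁻¹ (q (g x)) = x := by simpa using h2
    have h4 := congrArg g h3
    simpa using h4

/-- the action of the normaliser of `Q` on the fixed-point set of `Q`. -/
noncomputable def res (Q : Subgroup (Perm α)) (Φ : Finset α)
    (hΦ : ∀ x, x ∈ Φ ↔ ∀ q ∈ Q, q x = x) : Nz Q →* Perm {x // x ∈ Φ} where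
  toFun g := (g : Perm α).subtypePerm (fun x => mem_fix_of_normalizer hΦ g.2 x)
  map_one' := by ext x; rfl
  map_mul' g h := by ext x; rfl

lemma res_apply (Q : Subgroup (Perm α)) (Φ : Finset α)
    (hΦ : ∀ x, x ∈ Φ ↔ ∀ q ∈ Q, q x = x) (g : Nz Q) (x : α) (hx : x ∈ Φ) :
    ((res Q Φ hΦ g ⟨x, hx⟩ : {x // x ∈ Φ}) : α) = (g : Perm α) x := rfl

lemma res_eq_one_iff (Q : Subgroup (Perm α)) (Φ : Finset α)
    (hΦ : ∀ x, x ∈ Φ ↔ ∀ q ∈ Q, q x = x) (g : Nz Q) :
    res Q Φ hΦ g = 1 ↔ ∀ x ∈ Φ, (g : Perm α) x = x := by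
  constructor
  · intro h x hx
    have := congrArg (fun σ : Perm {x // x ∈ Φ} => ((σ ⟨x, hx⟩ : {x // x ∈ Φ}) : α)) h
    simpa [res_apply] using this
  · intro h
    ext ⟨x, hx⟩
    simp [res_apply, h x hx]

/-- pointwise fixing is inherited by the join of two subgroups. -/
lemma sup_fix {H K : Subgroup (Perm α)} {x : α} (hH : ∀ h ∈ H, h x = x) (hK : ∀ k ∈ K, k x = x) :
    ∀ r ∈ H ⊔ K, r x = x := by
  have h1 : H ≤ MulAction.stabilizer (Perm α) x := fun h hh => by
    rw [MulAction.mem_stabilizer_iff]; exact hH h hh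
  have h2 : K ≤ MulAction.stabilizer (Perm α) x := fun k hk => by
    rw [MulAction.mem_stabilizer_iff]; exact hK k hk
  intro r hr
  have := (sup_le h1 h2) hr
  rwa [MulAction.mem_stabilizer_iff] at this

lemma pow_fix {g : Perm α} {x : α} (h : g x = x) (n : ℕ) : (g ^ n) x = x := by
  induction n with
  | zero => simp
  | succ n ih => rw [pow_succ, Perm.mul_apply, h, ih]

/-- **Swap lemma.** -/
theorem swap_of_sylow_gap (G Q : Subgroup (Perm α)) (hQG : Q ≤ G) (hQ2 : IsPGroup 2 Q) (j : ℕ)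
    (Φ : Finset α) (hΦ : ∀ x, x ∈ Φ ↔ ∀ q ∈ Q, q x = x)
    (ha : ∀ Δ : Finset α, Δ ⊆ Φ → Δ.card = j + 2 → ∀ R : Subgroup (Perm α), IsPGroup 2 R →
      Q ≤ R → R ≤ G → (∀ r ∈ R, ∀ x ∈ Δ, r x = x) → R = Q)
    (hb : ∀ Γ : Finset α, Γ ⊆ Φ → Γ.card = j + 1 → ∃ R : Subgroup (Perm α), IsPGroup 2 R ∧
      Q < R ∧ R ≤ G ∧ (∀ r ∈ R, ∀ x ∈ Γ, r x = x))
    (Γ₂ : Finset α) (hΓ₂ : Γ₂ ⊆ Φ) (hcard : Γ₂.card = j) (a b : α) (haΦ : a ∈ Φ) (hbΦ : b ∈ Φ)
    (haΓ : a ∉ Γ₂) (hbΓ : b ∉ Γ₂) (hab : a ≠ b) :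
    ∃ g ∈ G, (∀ x ∈ Γ₂, g x = x) ∧ g a = b ∧ g b = a := by
  classical
  haveI : Fact (Nat.Prime 2) := ⟨Nat.prime_two⟩
  set ρ := res Q Φ hΦ with hρ
  have hQfix : ∀ q ∈ Q, ∀ x ∈ Φ, q x = x := fun q hq x hx => (hΦ x).mp hx q hq
  -- (F1) elements of `Q` act trivially
  have F1 : ∀ g : Nz Q, (g : Perm α) ∈ Q → ρ g = 1 := by
    intro g hg
    rw [hρ, res_eq_one_iff]
    exact hQfix _ hg
  -- Claim 3
  have claim3 : ∀ g : Nz Q, (g : Perm α) ∈ G → (ρ g) ^ 2 = 1 → ∀ Δ : Finset α, Δ ⊆ Φ →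
      Δ.card = j + 2 → (∀ x ∈ Δ, (g : Perm α) x = x) → ρ g = 1 := by
    intro g hgG hg2 Δ hΔΦ hΔc hfix
    obtain ⟨s, m', hm', hord⟩ := Nat.exists_eq_two_pow_mul_odd (orderOf_pos (g : Perm α)).ne'
    have hm'pos : 0 < m' := hm'.pos
    have hord2 : orderOf ((g : Perm α) ^ m') = 2 ^ s := by
      rw [orderOf_pow_of_dvd hm'pos.ne' (hord ▸ Dvd.intro_left _ rfl), hord]
      exact Nat.mul_div_cancel _ hm'pos
    have hz2 : IsPGroup 2 (zpowers ((g : Perm α) ^ m')) :=
      IsPGroup.of_card (n := s) (by rw [Nat.card_zpowers, hord2])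
    have hzN : zpowers ((g : Perm α) ^ m') ≤ Nz Q := by
      rw [zpowers_le]; exact pow_mem g.2 _
    have hR2 : IsPGroup 2 (Q ⊔ zpowers ((g : Perm α) ^ m') : Subgroup (Perm α)) :=
      hQ2.to_sup_of_normal_left' hz2 hzN
    have hRfix : ∀ r ∈ Q ⊔ zpowers ((g : Perm α) ^ m'), ∀ x ∈ Δ, r x = x := by
      intro r hr x hx
      refine sup_fix (fun q hq => hQfix q hq x (hΔΦ hx)) ?_ r hr
      intro k hk
      obtain ⟨i, rfl⟩ := mem_zpowers_iff.mp hk
      have h0 : ((g : Perm α) ^ m') x = x := pow_fix (hfix x hx) m'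
      have : (((g : Perm α) ^ m') ^ i) • x = x := by
        have hs : ((g : Perm α) ^ m') ∈ MulAction.stabilizer (Perm α) x := by
          rw [MulAction.mem_stabilizer_iff]; exact h0
        have := zpow_mem hs i
        rwa [MulAction.mem_stabilizer_iff] at this
      exact this
    have hRQ := ha Δ hΔΦ hΔc _ hR2 le_sup_left
      (sup_le hQG (by rw [zpowers_le]; exact pow_mem hgG _)) hRfix
    have hg₂Q : (g : Perm α) ^ m' ∈ Q := by
      have : (g : Perm α) ^ m' ∈ Q ⊔ zpowers ((g : Perm α) ^ m') :=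
        (le_sup_right : zpowers ((g : Perm α) ^ m') ≤ _) (mem_zpowers _)
      rwa [hRQ] at this
    have h1 : ρ (g ^ m') = 1 := F1 (g ^ m') (by simpa using hg₂Q)
    rw [map_pow] at h1
    obtain ⟨t, ht⟩ := hm'
    rw [ht, pow_succ, pow_mul, hg2, one_pow, one_mul] at h1
    exact h1
  -- Claim 2
  have claim2 : ∀ a b : α, a ∈ Φ → b ∈ Φ → a ∉ Γ₂ → b ∉ Γ₂ → a ≠ b →
      ∃ u : Nz Q, (u : Perm α) ∈ G ∧ (∀ x ∈ Γ₂, (u : Perm α) x = x) ∧
        (u : Perm α) a = a ∧ (ρ u) ^ 2 = 1 ∧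
        ∀ x ∈ Φ, (u : Perm α) x = x → x = a ∨ x ∈ Γ₂ := by
    intro a b haΦ hbΦ haΓ hbΓ hab
    have hΓc : (insert a Γ₂).card = j + 1 := by rw [Finset.card_insert_of_notMem haΓ, hcard]
    have hΓΦ : insert a Γ₂ ⊆ Φ := Finset.insert_subset haΦ hΓ₂
    obtain ⟨R, hR2, hQR, hRG, hRfix⟩ := hb _ hΓΦ hΓc
    -- an element of `N_R(Q)` outside `Q`
    obtain ⟨y', hy'R, hy'N, hy'Q⟩ : ∃ y' ∈ R, y' ∈ Nz Q ∧ y' ∉ Q := by
      have : Group.IsNilpotent R := hR2.isNilpotent
      have hnc : NormalizerCondition R := Group.normalizerCondition_of_isNilpotent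
      have hlt : Q.subgroupOf R < ⊤ := by
        rw [lt_top_iff_ne_top, Ne, subgroupOf_eq_top]
        exact fun h => (not_le_of_gt hQR) h
      obtain ⟨y'', hy''N, hy''Q⟩ := SetLike.exists_of_lt (hnc _ hlt)
      refine ⟨(y'' : Perm α), y''.2, ?_, fun h => hy''Q (mem_subgroupOf.mpr h)⟩
      rw [mem_normalizer_iff] at hy''N ⊢
      intro h
      constructor
      · intro hh
        have hhR : h ∈ R := hQR.le hh
        have := (hy''N ⟨h, hhR⟩).mp (mem_subgroupOf.mpr hh)
        exact mem_subgroupOf.mp this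
      · intro hh
        have hhR : h ∈ R := by
          have h1 : (y'' : Perm α) * h * (y'' : Perm α)⁻¹ ∈ R := hQR.le hh
          have h2 : (y'' : Perm α)⁻¹ * ((y'' : Perm α) * h * (y'' : Perm α)⁻¹) * (y'' : Perm α) ∈ R :=
            R.mul_mem (R.mul_mem (R.inv_mem y''.2) h1) y''.2
          have h3 : (y'' : Perm α)⁻¹ * ((y'' : Perm α) * h * (y'' : Perm α)⁻¹) * (y'' : Perm α) = h := by
            group
          rwa [h3] at h2
        have := (hy''N ⟨h, hhR⟩).mpr (mem_subgroupOf.mpr hh)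
        exact mem_subgroupOf.mp this
    -- minimal power of two landing in `Q`
    have hex : ∃ i : ℕ, y' ^ (2 ^ i) ∈ Q := by
      obtain ⟨k, hk⟩ := hR2 ⟨y', hy'R⟩
      refine ⟨k, ?_⟩
      have : y' ^ (2 ^ k) = 1 := by
        have := congrArg (Subtype.val) hk
        simpa using this
      rw [this]; exact Q.one_mem
    have hi0 : Nat.find hex ≠ 0 := by
      intro h0
      have := Nat.find_spec hex
      rw [h0] at this
      simp at this
      exact hy'Q this
    obtain ⟨i, hi⟩ := Nat.exists_eq_succ_of_ne_zero hi0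
    have hyQ : y' ^ (2 ^ i) ∉ Q := Nat.find_min hex (by omega)
    have hy2Q : (y' ^ (2 ^ i)) ^ 2 ∈ Q := by
      have := Nat.find_spec hex
      rw [hi, Nat.succ_eq_add_one, pow_succ, pow_mul] at this
      exact this
    have hyR : y' ^ (2 ^ i) ∈ R := pow_mem hy'R _
    have hyN : y' ^ (2 ^ i) ∈ Nz Q := pow_mem hy'N _
    set u : Nz Q := ⟨y' ^ (2 ^ i), hyN⟩ with hu
    have hu2 : (ρ u) ^ 2 = 1 := by
      rw [← map_pow]
      exact F1 _ (by simpa [hu] using hy2Q)
    have hufix : ∀ x ∈ insert a Γ₂, (u : Perm α) x = x := fun x hx => hRfix _ hyR x hx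
    have hρu : ρ u ≠ 1 := by
      intro h1
      rw [hρ, res_eq_one_iff] at h1
      have hz2 : IsPGroup 2 (zpowers (y' ^ (2 ^ i))) :=
        hR2.to_le (by rw [zpowers_le]; exact hyR)
      have hzN : zpowers (y' ^ (2 ^ i)) ≤ Nz Q := by rw [zpowers_le]; exact hyN
      have hR2' : IsPGroup 2 (Q ⊔ zpowers (y' ^ (2 ^ i)) : Subgroup (Perm α)) :=
        hQ2.to_sup_of_normal_left' hz2 hzN
      have hΔΦ : insert b (insert a Γ₂) ⊆ Φ := Finset.insert_subset hbΦ hΓΦ
      have hΔc : (insert b (insert a Γ₂)).card = j + 2 := by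
        rw [Finset.card_insert_of_notMem, hΓc]
        simp only [Finset.mem_insert, not_or]
        exact ⟨fun h => hab h.symm, hbΓ⟩
      have hfix' : ∀ r ∈ Q ⊔ zpowers (y' ^ (2 ^ i)), ∀ x ∈ insert b (insert a Γ₂), r x = x := by
        intro r hr x hx
        refine sup_fix (fun q hq => hQfix q hq x (hΔΦ hx)) ?_ r hr
        intro k hk
        obtain ⟨n, rfl⟩ := mem_zpowers_iff.mp hk
        have hs : (y' ^ (2 ^ i)) ∈ MulAction.stabilizer (Perm α) x := by
          rw [MulAction.mem_stabilizer_iff]; exact h1 x (hΔΦ hx)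
        have := zpow_mem hs n
        rwa [MulAction.mem_stabilizer_iff] at this
      have hRQ := ha _ hΔΦ hΔc _ hR2' le_sup_left
        (sup_le hQG (by rw [zpowers_le]; exact hRG hyR)) hfix'
      have : y' ^ (2 ^ i) ∈ Q ⊔ zpowers (y' ^ (2 ^ i)) :=
        (le_sup_right : zpowers (y' ^ (2 ^ i)) ≤ _) (mem_zpowers _)
      rw [hRQ] at this
      exact hyQ this
    refine ⟨u, hRG hyR, fun x hx => hufix x (Finset.mem_insert_of_mem hx),
      hufix a (Finset.mem_insert_self _ _), hu2, ?_⟩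
    intro x hxΦ hux
    by_contra hcon
    rw [not_or] at hcon
    have hxΓ : x ∉ insert a Γ₂ := by
      simp only [Finset.mem_insert, not_or]; exact hcon
    have hΔΦ : insert x (insert a Γ₂) ⊆ Φ := Finset.insert_subset hxΦ hΓΦ
    have hΔc : (insert x (insert a Γ₂)).card = j + 2 := by
      rw [Finset.card_insert_of_notMem hxΓ, hΓc]
    refine hρu (claim3 u (hRG hyR) hu2 _ hΔΦ hΔc ?_)
    intro z hz
    rcases Finset.mem_insert.mp hz with rfl | hz
    · exact hux
    · exact hufix z hz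
  -- the two involutions
  obtain ⟨u, huG, huΓ, hua, hu2, huFix⟩ := claim2 a b haΦ hbΦ haΓ hbΓ hab
  obtain ⟨v, hvG, hvΓ, hvb, hv2, hvFix⟩ := claim2 b a hbΦ haΦ hbΓ haΓ hab.symm
  set U := ρ u with hU
  set V := ρ v with hV
  have hUinv : U⁻¹ = U := inv_eq_of_mul_eq_one_left (by rwa [sq] at hu2)
  have hVinv : V⁻¹ = V := inv_eq_of_mul_eq_one_left (by rwa [sq] at hv2)
  set c := V * U with hc
  have hcinv : c⁻¹ = U * V := by rw [hc, mul_inv_rev, hUinv, hVinv]
  have hUc : U * c * U⁻¹ = c⁻¹ := by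
    rw [hcinv, hUinv, hc]
    have : U * U = 1 := by rwa [sq] at hu2
    rw [mul_assoc, mul_assoc, this, mul_one]
  have hVc : V * c * V⁻¹ = c⁻¹ := by
    rw [hcinv, hVinv, hc]
    have : V * V = 1 := by rwa [sq] at hv2
    rw [← mul_assoc, this, one_mul]
  have hUcp : ∀ n : ℕ, U * c ^ n * U⁻¹ = (c ^ n)⁻¹ := by
    intro n; rw [← conj_pow, hUc, inv_pow]
  have hVcp : ∀ n : ℕ, V * c ^ n * V⁻¹ = (c ^ n)⁻¹ := by
    intro n; rw [← conj_pow, hVc, inv_pow]
  have hcρ : c = ρ (v * u) := by rw [map_mul]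
  -- point-level translation
  have hact : ∀ (g : Nz Q) (x : α) (hx : x ∈ Φ), ((ρ g ⟨x, hx⟩ : {x // x ∈ Φ}) : α) = (g : Perm α) x :=
    fun g x hx => rfl
  have hd : 0 < orderOf c := orderOf_pos c
  rcases Nat.even_or_odd (orderOf c) with hev | hodd
  · -- even order: contradiction
    exfalso
    obtain ⟨e, he⟩ := hev
    have he0 : e ≠ 0 := by omega
    have helt : e < orderOf c := by omega
    set z : Nz Q := (v * u) ^ e with hz
    have hρz : ρ z = c ^ e := by rw [hz, map_pow, ← hcρ]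
    have hz2 : (ρ z) ^ 2 = 1 := by
      rw [hρz, ← pow_mul, mul_comm, two_mul, ← he, pow_orderOf_eq_one]
    have hzne : ρ z ≠ 1 := by rw [hρz]; exact pow_ne_one_of_lt_orderOf he0 helt
    have hzinv : (c ^ e)⁻¹ = c ^ e := by
      rw [hρz] at hz2
      exact inv_eq_of_mul_eq_one_left (by rwa [sq] at hz2)
    -- `z` commutes with `U` and `V`
    have hzU : c ^ e * U = U * c ^ e := by
      have := hUcp e
      rw [hzinv] at this
      calc c ^ e * U = (U * c ^ e * U⁻¹) * U := by rw [this]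
        _ = U * c ^ e := by group
    have hzV : c ^ e * V = V * c ^ e := by
      have := hVcp e
      rw [hzinv] at this
      calc c ^ e * V = (V * c ^ e * V⁻¹) * V := by rw [this]
        _ = V * c ^ e := by group
    have hzΓ : ∀ x ∈ Γ₂, (z : Perm α) x = x := by
      intro x hx
      have h1 : ((v * u : Nz Q) : Perm α) x = x := by
        simp [Perm.mul_apply, huΓ x hx, hvΓ x hx]
      simpa [hz] using pow_fix h1 e
    have hzG : (z : Perm α) ∈ G := by
      simp only [hz, SubgroupClass.coe_pow, Subgroup.coe_mul]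
      exact pow_mem (G.mul_mem hvG huG) _
    have hzΦ : ∀ x ∈ Φ, (z : Perm α) x ∈ Φ := fun x hx =>
      (mem_fix_of_normalizer hΦ z.2 x).mpr hx
    -- `z` fixes `a`
    have hza : (z : Perm α) a = a := by
      have h1 : (u : Perm α) ((z : Perm α) a) = (z : Perm α) a := by
        have := congrArg (fun σ : Perm {x // x ∈ Φ} => ((σ ⟨a, haΦ⟩ : {x // x ∈ Φ}) : α)) hzU
        simp only [Perm.mul_apply] at this
        rw [← hρz] at this
        simp only [hU, hact] at this
        rw [hua] at this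
        exact this.symm
      rcases huFix _ (hzΦ a haΦ) h1 with h | h
      · exact h
      · exfalso
        have := hzΓ _ h
        exact haΓ ((z : Perm α).injective this ▸ h)
    have hzb : (z : Perm α) b = b := by
      have h1 : (v : Perm α) ((z : Perm α) b) = (z : Perm α) b := by
        have := congrArg (fun σ : Perm {x // x ∈ Φ} => ((σ ⟨b, hbΦ⟩ : {x // x ∈ Φ}) : α)) hzV
        simp only [Perm.mul_apply] at this
        rw [← hρz] at this
        simp only [hV, hact] at this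
        rw [hvb] at this
        exact this.symm
      rcases hvFix _ (hzΦ b hbΦ) h1 with h | h
      · exact h
      · exfalso
        have := hzΓ _ h
        exact hbΓ ((z : Perm α).injective this ▸ h)
    have hΔΦ : insert b (insert a Γ₂) ⊆ Φ :=
      Finset.insert_subset hbΦ (Finset.insert_subset haΦ hΓ₂)
    have hΔc : (insert b (insert a Γ₂)).card = j + 2 := by
      rw [Finset.card_insert_of_notMem, Finset.card_insert_of_notMem haΓ, hcard]
      simp only [Finset.mem_insert, not_or]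
      exact ⟨fun h => hab h.symm, hbΓ⟩
    refine hzne (claim3 z hzG hz2 _ hΔΦ hΔc ?_)
    intro x hx
    rcases Finset.mem_insert.mp hx with rfl | hx
    · exact hzb
    rcases Finset.mem_insert.mp hx with rfl | hx
    · exact hza
    · exact hzΓ x hx
  · -- odd order: the conjugating involution
    obtain ⟨e', he'⟩ := hodd
    set w : Nz Q := (v * u) ^ (e' + 1) * u with hw
    have hρw : ρ w = c ^ (e' + 1) * U := by rw [hw, map_mul, map_pow, ← hcρ]
    have hUU : U * U = 1 := by rwa [sq] at hu2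
    have hUce : U * c ^ (e' + 1) = (c ^ (e' + 1))⁻¹ * U := by
      have := hUcp (e' + 1)
      calc U * c ^ (e' + 1) = (U * c ^ (e' + 1) * U⁻¹) * U := by group
        _ = (c ^ (e' + 1))⁻¹ * U := by rw [this]
    have hW2 : ρ w * ρ w = 1 := by
      rw [hρw]
      calc c ^ (e' + 1) * U * (c ^ (e' + 1) * U)
          = c ^ (e' + 1) * (U * c ^ (e' + 1)) * U := by group
        _ = c ^ (e' + 1) * ((c ^ (e' + 1))⁻¹ * U) * U := by rw [hUce]
        _ = U * U := by group
        _ = 1 := hUU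
    have hcc : c ^ (e' + 1) * c ^ (e' + 1) = c := by
      rw [← pow_add]
      have : e' + 1 + (e' + 1) = orderOf c + 1 := by omega
      rw [this, pow_succ, pow_orderOf_eq_one, one_mul]
    have hWU : ρ w * U = V * ρ w := by
      -- W U = c^e U U = c^e ; V W = V c^e U = c^{-e} V U = c^{-e} c = ...
      have hVce : V * c ^ (e' + 1) = (c ^ (e' + 1))⁻¹ * V := by
        have := hVcp (e' + 1)
        calc V * c ^ (e' + 1) = (V * c ^ (e' + 1) * V⁻¹) * V := by group
          _ = (c ^ (e' + 1))⁻¹ * V := by rw [this]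
      rw [hρw]
      calc c ^ (e' + 1) * U * U = c ^ (e' + 1) * (U * U) := by group
        _ = c ^ (e' + 1) := by rw [hUU, mul_one]
        _ = (c ^ (e' + 1))⁻¹ * (c ^ (e' + 1) * c ^ (e' + 1)) := by group
        _ = (c ^ (e' + 1))⁻¹ * c := by rw [hcc]
        _ = (c ^ (e' + 1))⁻¹ * (V * U) := by rw [hc]
        _ = (c ^ (e' + 1))⁻¹ * V * U := by group
        _ = V * c ^ (e' + 1) * U := by rw [← hVce]
        _ = V * (c ^ (e' + 1) * U) := by group
    have hwΓ : ∀ x ∈ Γ₂, (w : Perm α) x = x := by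
      intro x hx
      have h1 : ((v * u : Nz Q) : Perm α) x = x := by
        simp [Perm.mul_apply, huΓ x hx, hvΓ x hx]
      have h2 := pow_fix h1 (e' + 1)
      simp only [hw, Subgroup.coe_mul, SubgroupClass.coe_pow, Perm.mul_apply, huΓ x hx]
      simpa using h2
    have hwG : (w : Perm α) ∈ G := by
      simp only [hw, Subgroup.coe_mul, SubgroupClass.coe_pow]
      exact G.mul_mem (pow_mem (G.mul_mem hvG huG) _) huG
    have hwΦ : ∀ x ∈ Φ, (w : Perm α) x ∈ Φ := fun x hx =>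
      (mem_fix_of_normalizer hΦ w.2 x).mpr hx
    have hwa : (w : Perm α) a = b := by
      have h1 : (v : Perm α) ((w : Perm α) a) = (w : Perm α) a := by
        have := congrArg (fun σ : Perm {x // x ∈ Φ} => ((σ ⟨a, haΦ⟩ : {x // x ∈ Φ}) : α)) hWU
        simp only [Perm.mul_apply] at this
        simp only [hU, hV, hact] at this
        rw [hua] at this
        exact this.symm
      rcases hvFix _ (hwΦ a haΦ) h1 with h | h
      · exact h
      · exfalso
        have := hwΓ _ h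
        exact haΓ ((w : Perm α).injective this ▸ h)
    have hww : (w : Perm α) ((w : Perm α) a) = a := by
      have := congrArg (fun σ : Perm {x // x ∈ Φ} => ((σ ⟨a, haΦ⟩ : {x // x ∈ Φ}) : α)) hW2
      simp only [Perm.mul_apply] at this
      simpa [hact] using this
    refine ⟨(w : Perm α), hwG, hwΓ, hwa, ?_⟩
    rw [← hwa]; exact hww

end Cfsg.Agent.Lib.Lead.Swap
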