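import Mathlib
import Cfsg.Agent.Lib.Helper4.DegSeven

set_option autoImplicit false

namespace Cfsg.Agent.Lib.Lead.LWKill

open MulAction

/-- A subgroup of odd order lies in every subgroup of index two. -/
theorem le_of_index_two_of_odd {L : Type*} [Group L] (M H : Subgroup L) (hM : M.index = 2)
    (hH : Odd (Nat.card H)) : H ≤ M := by
  intro g hg
  obtain ⟨c, hc⟩ := hH
  have h1 : (⟨g, hg⟩ : H) ^ (Nat.card H) = 1 := pow_card_eq_one'
  have h2 : g ^ (2 * c + 1) = 1 := by
    have := congrArg (fun z : H => (z : L)) h1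
    simpa [hc] using this
  have h3 : g = ((g ^ c)⁻¹) ^ 2 := by
    have h5 : g ^ (2 * c) * g = 1 := by rw [← pow_succ]; exact h2
    have h4 : g = (g ^ (2 * c))⁻¹ := by
      rw [eq_inv_iff_mul_eq_one]
      rw [(Commute.self_pow g (2 * c)).eq]
      exact h5
    have h6 : ((g ^ c)⁻¹) ^ 2 = (g ^ (2 * c))⁻¹ := by
      rw [inv_pow, ← pow_mul, mul_comm c 2]
    rw [h6]
    exact h4
  rw [h3]
  exact Subgroup.sq_mem_of_index_two hM _

/-- Two distinct points cannot both have stabilisers of prime order `q`, semiregular off their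
fixed point, in a group of order `2 q p` with `p ≢ 1 mod q`. -/
theorem kill_two_stab {L Ξ : Type*} [Group L] [MulAction L Ξ] (q p : ℕ) [hq : Fact q.Prime]
    [hp : Fact p.Prime] (hq2 : q ≠ 2) (hp2 : p ≠ 2) (hqp : q ≠ p) (hmod : p % q ≠ 1)
    (hL : Nat.card L = 2 * (q * p)) (x y : Ξ)
    (hx : Nat.card (stabilizer L x) = q) (hy : Nat.card (stabilizer L y) = q)
    (hfix : ∀ g ∈ stabilizer L x, g ≠ 1 → g • y ≠ y) : False := by
  haveI : Finite L := Nat.finite_of_card_ne_zero (by
    rw [hL]; have := hq.out.pos; have := hp.out.pos; positivity)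
  have hqodd : Odd q := hq.out.odd_of_ne_two hq2
  have hpodd : Odd p := hp.out.odd_of_ne_two hp2
  obtain ⟨M, hMn, hMi⟩ := Cfsg.Agent.Lib.Helper4.DegSeven.exists_normal_index_two (G := L) (q * p)
    (hqodd.mul hpodd) hL
  have hMcard : Nat.card M = q * p := by
    have := M.card_mul_index
    rw [hMi, hL] at this
    omega
  have hxM : stabilizer L x ≤ M := le_of_index_two_of_odd M _ hMi (by rw [hx]; exact hqodd)
  have hyM : stabilizer L y ≤ M := le_of_index_two_of_odd M _ hMi (by rw [hy]; exact hqodd)
  -- the Sylow `q`-subgroup of `M` is unique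
  have hsub : Subsingleton (Sylow q M) := by
    let P : Sylow q M := default
    have h1 : Nat.card (Sylow q M) ≡ 1 [MOD q] := card_sylow_modEq_one q M
    have h2 : Nat.card (Sylow q M) ∣ (P : Subgroup M).index := Sylow.card_dvd_index P
    have hPcard : Nat.card (P : Subgroup M) = q := by
      rw [Sylow.card_eq_multiplicity, hMcard,
        Nat.factorization_mul hq.out.ne_zero hp.out.ne_zero]
      simp [Nat.Prime.factorization_self hq.out,
        Nat.factorization_eq_zero_of_not_dvd
          (fun h => hqp ((Nat.prime_dvd_prime_iff_eq hq.out hp.out).mp h))]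
    have hPidx : (P : Subgroup M).index = p := by
      have := (P : Subgroup M).card_mul_index
      rw [hPcard, hMcard] at this
      exact Nat.eq_of_mul_eq_mul_left hq.out.pos this
    rw [hPidx] at h2
    have h3 : Nat.card (Sylow q M) = 1 := by
      rcases (Nat.dvd_prime hp.out).mp h2 with h | h
      · exact h
      · exfalso
        rw [h] at h1
        have h5 : p % q = 1 % q := h1
        rw [Nat.mod_eq_of_lt hq.out.one_lt] at h5
        exact hmod h5
    exact (Nat.card_eq_one_iff_unique.mp h3).1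
  -- both stabilisers are that Sylow subgroup
  have key : ∀ H : Subgroup L, H ≤ M → Nat.card H = q →
      ∃ Q : Sylow q M, H.subgroupOf M = (Q : Subgroup M) := by
    intro H hHM hHq
    have hHc : Nat.card (H.subgroupOf M) = q := by
      rw [Nat.card_congr (Subgroup.subgroupOfEquivOfLe hHM).toEquiv, hHq]
    have hpg : IsPGroup q (H.subgroupOf M) := IsPGroup.of_card (n := 1) (by rw [hHc, pow_one])
    obtain ⟨Q, hQ⟩ := hpg.exists_le_sylow
    refine ⟨Q, ?_⟩
    have hQcard : Nat.card (Q : Subgroup M) = q := by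
      rw [Sylow.card_eq_multiplicity, hMcard,
        Nat.factorization_mul hq.out.ne_zero hp.out.ne_zero]
      simp [Nat.Prime.factorization_self hq.out,
        Nat.factorization_eq_zero_of_not_dvd
          (fun h => hqp ((Nat.prime_dvd_prime_iff_eq hq.out hp.out).mp h))]
    exact Subgroup.eq_of_le_of_card_ge hQ (by rw [hQcard, hHc])
  obtain ⟨Q₁, hQ₁⟩ := key _ hxM hx
  obtain ⟨Q₂, hQ₂⟩ := key _ hyM hy
  have hQ : Q₁ = Q₂ := Subsingleton.elim _ _
  have hxy : stabilizer L x = stabilizer L y := by
    have h1 : (stabilizer L x).subgroupOf M = (stabilizer L y).subgroupOf M := by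
      rw [hQ₁, hQ₂, hQ]
    have h2 := congrArg (Subgroup.map M.subtype) h1
    rwa [Subgroup.map_subgroupOf_eq_of_le hxM, Subgroup.map_subgroupOf_eq_of_le hyM] at h2
  -- a nonidentity element of the stabiliser of `x`
  have hnt : Nontrivial (stabilizer L x) := by
    rw [← Finite.one_lt_card_iff_nontrivial, hx]; exact hq.out.one_lt
  obtain ⟨g, hg⟩ := exists_ne (1 : stabilizer L x)
  have hgy : (g : L) ∈ stabilizer L y := hxy ▸ g.prop
  exact hfix g g.prop (fun h => hg (Subtype.ext h)) (mem_stabilizer_iff.mp hgy)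

end Cfsg.Agent.Lib.Lead.LWKill
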