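import Mathlib

set_option autoImplicit false

namespace Cfsg.Agent.Lib.Lead.LWNum

/-- The hypothesis side of the numerical check. -/
def lwHyp (j r h : ℕ) : Prop :=
  1 ≤ j ∧ 2 ≤ r ∧ r ∣ (j + 1).factorial ∧ r * (r * h - 1) ∣ (j + 2).factorial ∧
    h % 2 = 1 ∧ j + 4 ≤ r * h

instance (j r h : ℕ) : Decidable (lwHyp j r h) := by unfold lwHyp; infer_instance

/-- The conclusion side of the numerical check. -/
def lwConcl (j r h : ℕ) : Prop :=
  (j = 2 ∧ r = 3 ∧ h = 3) ∨ (j = 3 ∧ r = 3 ∧ h = 3) ∨ (j = 3 ∧ r = 3 ∧ h = 7)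

instance (j r h : ℕ) : Decidable (lwConcl j r h) := by unfold lwConcl; infer_instance

/-- Finite check behind the numerics of Livingstone--Wagner, first form. -/
theorem lw_check : ∀ j < 4, ∀ r < 25, ∀ h < 62, lwHyp j r h → lwConcl j r h := by
  decide +kernel

theorem lw_numerics {j r h : ℕ} (hj : 1 ≤ j) (hj3 : j ≤ 3) (hr : 2 ≤ r)
    (hr1 : r ∣ (j + 1).factorial) (hr2 : r * (r * h - 1) ∣ (j + 2).factorial)
    (hodd : Odd h) (hbig : j + 4 ≤ r * h) :
    (j = 2 ∧ r = 3 ∧ h = 3) ∨ (j = 3 ∧ r = 3 ∧ h = 3) ∨ (j = 3 ∧ r = 3 ∧ h = 7) := by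
  have hf1 : (j + 1).factorial ≤ 24 := by
    have : (j + 1).factorial ≤ (4 : ℕ).factorial := Nat.factorial_le (by omega)
    have h4 : (4 : ℕ).factorial = 24 := by decide
    omega
  have hf2 : (j + 2).factorial ≤ 120 := by
    have : (j + 2).factorial ≤ (5 : ℕ).factorial := Nat.factorial_le (by omega)
    have h5 : (5 : ℕ).factorial = 120 := by decide
    omega
  have hr24 : r ≤ 24 := le_trans (Nat.le_of_dvd (Nat.factorial_pos _) hr1) hf1
  have hrh : r * (r * h - 1) ≤ 120 := le_trans (Nat.le_of_dvd (Nat.factorial_pos _) hr2) hf2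
  have hh : h ≤ 61 := by
    by_contra hc
    push Not at hc
    have h1 : 2 * 62 ≤ r * h := Nat.mul_le_mul hr (by omega)
    have h2 : 2 * (2 * 62 - 1) ≤ r * (r * h - 1) := Nat.mul_le_mul hr (by omega)
    omega
  have hodd' : h % 2 = 1 := Nat.odd_iff.mp hodd
  exact lw_check j (by omega) r (by omega) h (by omega) ⟨hj, hr, hr1, hr2, hodd', hbig⟩

end Cfsg.Agent.Lib.Lead.LWNum
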