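import Mathlib
import Cfsg.Agent.Lib.Lead.LWNum
import Cfsg.Agent.Lib.Lead.LWKill
import Cfsg.Agent.Lib.Lead.LWGlue
import Cfsg.Agent.Lib.Helper8.LwH4H

set_option autoImplicit false

namespace Cfsg.Agent.Lib.Lead.LWStep

open MulAction SubMulAction Cfsg.Agent.Lib.Lead.LWGlue

variable {α : Type*} [Fintype α] [DecidableEq α] (G : Subgroup (Equiv.Perm α))

/-- There is a subset of any admissible size. -/
theorem exists_finset_card (m : ℕ) (hm : m ≤ Fintype.card α) : ∃ s : Finset α, s.card = m := by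
  have h1 : m ≤ (Finset.univ : Finset α).card := by rw [Finset.card_univ]; exact hm
  obtain ⟨s, _, hs⟩ := Finset.exists_subset_card_eq h1
  exact ⟨s, hs⟩

/-- The small cases: the fixing subgroup of a `(j-1)`-set has order `2 q p`. -/
theorem lw_small {j h q p : ℕ} [Fact q.Prime] [Fact p.Prime] (hj : 1 ≤ j)
    (ht : IsMultiplyPretransitive G α j)
    (hbot : ∀ u : Finset α, u.card = j + 1 → fixingSubgroup G (u : Set α) = ⊥)
    (hcard : ∀ u : Finset α, u.card = j → Nat.card (fixingSubgroup G (u : Set α)) = h)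
    (hhq : h = q) (hn : Fintype.card α - (j - 1) = 2 * p) (hjn : j ≤ Fintype.card α)
    (hq2 : q ≠ 2) (hp2 : p ≠ 2) (hqp : q ≠ p) (hmod : p % q ≠ 1) : False := by
  obtain ⟨t, ht1⟩ := exists_finset_card (α := α) (j - 1) (by omega)
  have ht1' : t.card + 1 = j := by omega
  haveI := pretransitive_ofFixingSubgroup G t ht1' ht
  have hΞ : Nat.card (ofFixingSubgroup G (t : Set α)) = 2 * p := by
    rw [card_ofFixingSubgroup, ht1]; exact hn
  have hstab : ∀ x : ofFixingSubgroup G (t : Set α),
      Nat.card (stabilizer (fixingSubgroup G (t : Set α)) x) = q := by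
    intro x
    rw [card_stabilizer_ofFixingSubgroup, hcard _ (by
      rw [Finset.card_insert_of_notMem x.prop]; exact ht1'), hhq]
  have hp1 : 1 < 2 * p := by have := (Fact.out : p.Prime).pos; omega
  haveI : Finite (ofFixingSubgroup G (t : Set α)) := Nat.finite_of_card_ne_zero (by omega)
  obtain ⟨x, y, hxy⟩ := (Finite.one_lt_card_iff_nontrivial.mp (hΞ ▸ hp1)).exists_pair_ne
  have hL : Nat.card (fixingSubgroup G (t : Set α)) = 2 * (q * p) := by
    have h1 := (stabilizer (fixingSubgroup G (t : Set α)) x).card_mul_index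
    rw [MulAction.index_stabilizer_of_transitive, hstab x, hΞ] at h1
    rw [← h1]; ring
  refine Cfsg.Agent.Lib.Lead.LWKill.kill_two_stab q p hq2 hp2 hqp hmod hL x y (hstab x) (hstab y)
    ?_
  intro g hg hg1 hgy
  exact hxy.symm (fix_unique_ofFixingSubgroup G t ht1' hbot x y g (mem_stabilizer_iff.mp hg) hg1 hgy)

end Cfsg.Agent.Lib.Lead.LWStep

namespace Cfsg.Agent.Lib.Lead.LWStep

open MulAction SubMulAction Cfsg.Agent.Lib.Lead.LWGlue

variable {α : Type*} [Fintype α] [DecidableEq α] (G : Subgroup (Equiv.Perm α))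

/-- The contradiction behind Livingstone--Wagner, first form. -/
theorem lw_step {j r h : ℕ} (hj : 1 ≤ j) (hn : 2 * j + 4 ≤ Fintype.card α)
    (ht : IsMultiplyPretransitive G α j)
    (hbot : ∀ u : Finset α, u.card = j + 1 → fixingSubgroup G (u : Set α) = ⊥)
    (hcard : ∀ u : Finset α, u.card = j → Nat.card (fixingSubgroup G (u : Set α)) = h)
    (hr : 2 ≤ r) (hodd : Odd h) (hrh : r * h = Fintype.card α - j)
    (hr1 : r ∣ (j + 1).factorial) (hr2 : r * (r * h - 1) ∣ (j + 2).factorial) : False := by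
  by_cases hj4 : 4 ≤ j
  · obtain ⟨s, hs⟩ := exists_finset_card (α := α) (j - 4) (by omega)
    exact lw_big G s (by omega) ht hbot hcard hodd (by omega)
      (fun h4 ho htr => Cfsg.Agent.Lib.Helper8.LW.four_trans_bound h4 ho htr)
  · push Not at hj4
    have hbig : j + 4 ≤ r * h := by omega
    rcases Cfsg.Agent.Lib.Lead.LWNum.lw_numerics hj (by omega) hr hr1 hr2 hodd hbig with
      ⟨rfl, rfl, rfl⟩ | ⟨rfl, rfl, rfl⟩ | ⟨rfl, rfl, rfl⟩
    · haveI : Fact (Nat.Prime 3) := ⟨by norm_num⟩
      haveI : Fact (Nat.Prime 5) := ⟨by norm_num⟩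
      exact lw_small G (j := 2) (h := 3) (q := 3) (p := 5) (by omega) ht hbot hcard rfl (by omega)
        (by omega) (by omega) (by omega) (by omega) (by norm_num)
    · haveI : Fact (Nat.Prime 3) := ⟨by norm_num⟩
      haveI : Fact (Nat.Prime 5) := ⟨by norm_num⟩
      exact lw_small G (j := 3) (h := 3) (q := 3) (p := 5) (by omega) ht hbot hcard rfl (by omega)
        (by omega) (by omega) (by omega) (by omega) (by norm_num)
    · haveI : Fact (Nat.Prime 7) := ⟨by norm_num⟩
      haveI : Fact (Nat.Prime 11) := ⟨by norm_num⟩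
      exact lw_small G (j := 3) (h := 7) (q := 7) (p := 11) (by omega) ht hbot hcard rfl (by omega)
        (by omega) (by omega) (by omega) (by omega) (by norm_num)

end Cfsg.Agent.Lib.Lead.LWStep
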