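import Mathlib

/-!
# Milnor–Stein, part B: abstract simply laced root systems with room (lead)
-/

set_option autoImplicit false

namespace Cfsg.Agent.MilnorStein

/-- an abstract simply laced root system, given by its Cartan pairing, with the two "room"
conditions used in the Milnor–Stein argument -/
structure SLRoots (Φ : Type*) where
  p : Φ → Φ → ℤ
  neg : Φ → Φ
  add : Φ → Φ → Φ
  p_self : ∀ α, p α α = 2
  p_symm : ∀ α β, p α β = p β α
  p_le : ∀ α β, p α β ≤ 2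
  eq_of_p : ∀ α β, p α β = 2 → α = β
  p_neg : ∀ α β, p (neg α) β = - p α β
  p_add : ∀ α β, p α β = -1 → ∀ γ, p (add α β) γ = p α γ + p β γ
  room1 : ∀ α β, 0 ≤ p α β → ∃ γ, p γ α = 1 ∧ 0 ≤ p γ β ∧ p γ β ≤ p α β
  room2 : ∀ γ τ, p γ τ = -1 → ∃ δ, p δ γ = -1 ∧ p δ τ = 1

namespace SLRoots

variable {Φ : Type*} (R : SLRoots Φ)

theorem p_neg' (α β : Φ) : R.p α (R.neg β) = - R.p α β := by
  rw [R.p_symm, R.p_neg, R.p_symm]

theorem p_add' {α β : Φ} (h : R.p α β = -1) (γ : Φ) :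
    R.p γ (R.add α β) = R.p γ α + R.p γ β := by
  rw [R.p_symm, R.p_add α β h, R.p_symm α, R.p_symm β]

theorem p_ge (α β : Φ) : -2 ≤ R.p α β := by
  have := R.p_le (R.neg α) β
  rw [R.p_neg] at this
  omega

/-- `α - γ` -/
def sub (α γ : Φ) : Φ := R.add α (R.neg γ)

theorem p_sub {α γ : Φ} (h : R.p γ α = 1) (ξ : Φ) :
    R.p (R.sub α γ) ξ = R.p α ξ - R.p γ ξ := by
  have h1 : R.p α (R.neg γ) = -1 := by rw [R.p_neg', R.p_symm, h]
  rw [sub, R.p_add _ _ h1, R.p_neg]; ring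

theorem p_sub' {α γ : Φ} (h : R.p γ α = 1) (ξ : Φ) :
    R.p ξ (R.sub α γ) = R.p ξ α - R.p ξ γ := by
  rw [R.p_symm, R.p_sub h, R.p_symm α, R.p_symm γ]

theorem p_sub_self {α γ : Φ} (h : R.p γ α = 1) : R.p γ (R.sub α γ) = -1 := by
  have h3 := R.p_self γ
  rw [R.p_sub' h]
  omega

theorem add_sub {α γ : Φ} (h : R.p γ α = 1) : R.add γ (R.sub α γ) = α := by
  apply R.eq_of_p
  have h2 := R.p_symm α γ
  have h3 := R.p_self α
  rw [R.p_add _ _ (R.p_sub_self h), R.p_sub h]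
  omega

theorem add_comm' {γ τ : Φ} (h : R.p γ τ = -1) : R.add τ γ = R.add γ τ := by
  have h' : R.p τ γ = -1 := by rw [R.p_symm, h]
  apply R.eq_of_p
  have h3 := R.p_self γ
  have h4 := R.p_self τ
  rw [R.p_add _ _ h', R.p_add' h, R.p_add' h]
  omega

theorem p_add_left {γ τ : Φ} (h : R.p γ τ = -1) : R.p γ (R.add γ τ) = 1 := by
  have h3 := R.p_self γ
  rw [R.p_add' h]
  omega

theorem p_add_right {γ τ : Φ} (h : R.p γ τ = -1) : R.p τ (R.add γ τ) = 1 := by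
  have h3 := R.p_self τ
  have h4 := R.p_symm τ γ
  rw [R.p_add' h]
  omega

theorem sub_add {γ τ : Φ} (h : R.p γ τ = -1) : R.sub (R.add γ τ) γ = τ := by
  apply R.eq_of_p
  have h3 := R.p_self τ
  rw [R.p_sub (R.p_add_left h), R.p_add _ _ h]
  omega

theorem sub_sub {α γ : Φ} (h : R.p γ α = 1) : R.sub α (R.sub α γ) = γ := by
  have h3 := R.p_self α
  have h4 := R.p_self γ
  have h5 := R.p_symm α γ
  have h1 : R.p (R.sub α γ) α = 1 := by rw [R.p_sub h]; omega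
  apply R.eq_of_p
  rw [R.p_sub h1, R.p_sub h]
  omega

theorem p_sub_alpha {α γ : Φ} (h : R.p γ α = 1) : R.p (R.sub α γ) α = 1 := by
  have h3 := R.p_self α
  rw [R.p_sub h]
  omega


/-! ### the configuration of type `A₃` -/

section a3

variable {γ τ δ : Φ}

theorem a3_pγδ (hδγ : R.p δ γ = -1) : R.p γ δ = -1 := by rw [R.p_symm]; exact hδγ

theorem a3_pδε (hδτ : R.p δ τ = 1) : R.p δ (R.sub τ δ) = -1 := R.p_sub_self hδτ

theorem a3_addδε (hδτ : R.p δ τ = 1) : R.add δ (R.sub τ δ) = τ := R.add_sub hδτ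

theorem a3_pγε (h : R.p γ τ = -1) (hδγ : R.p δ γ = -1) (hδτ : R.p δ τ = 1) :
    R.p γ (R.sub τ δ) = 0 := by
  have := R.p_symm γ δ
  rw [R.p_sub' hδτ]
  omega

theorem a3_pστ (h : R.p γ τ = -1) (hδγ : R.p δ γ = -1) (hδτ : R.p δ τ = 1) :
    R.p (R.add γ δ) τ = 0 := by
  rw [R.p_add _ _ (R.a3_pγδ hδγ)]
  omega

theorem a3_pσε (h : R.p γ τ = -1) (hδγ : R.p δ γ = -1) (hδτ : R.p δ τ = 1) :
    R.p (R.add γ δ) (R.sub τ δ) = -1 := by
  have h1 := R.a3_pστ h hδγ hδτ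
  have h2 := R.p_self δ
  have h3 := R.a3_pγδ hδγ
  rw [R.p_sub' hδτ, h1, R.p_add _ _ h3]
  omega

theorem a3_add (h : R.p γ τ = -1) (hδγ : R.p δ γ = -1) (hδτ : R.p δ τ = 1) :
    R.add (R.add γ δ) (R.sub τ δ) = R.add γ τ := by
  apply R.eq_of_p
  have h3 := R.a3_pγδ hδγ
  have h4 := R.p_self γ
  have h5 := R.p_self τ
  have h6 := R.p_symm τ γ
  have h7 := R.p_symm τ δ
  rw [R.p_add _ _ (R.a3_pσε h hδγ hδτ), R.p_add' h, R.p_add' h, R.p_add _ _ h3, R.p_add _ _ h3,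
    R.p_sub hδτ, R.p_sub hδτ]
  omega

theorem a3_pατ (h : R.p γ τ = -1) (hδγ : R.p δ γ = -1) (hδτ : R.p δ τ = 1) :
    0 ≤ R.p (R.add (R.add γ δ) (R.sub τ δ)) τ := by
  have h5 := R.p_self τ
  rw [R.a3_add h hδγ hδτ, R.p_add _ _ h]
  omega

end a3

/-! ### two decompositions of a root -/

section dec

variable {α γ γ' : Φ}

theorem dec_adj_δγ (hk : R.p γ γ' = 1) : R.p (R.sub γ' γ) γ = -1 := by
  have h1 := R.p_self γ
  have h2 := R.p_symm γ γ'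
  rw [R.p_sub hk]
  omega

theorem dec_adj_δτ (h : R.p γ α = 1) (h' : R.p γ' α = 1) (hk : R.p γ γ' = 1) :
    R.p (R.sub γ' γ) (R.sub α γ) = 1 := by
  have h1 := R.p_self γ
  have h2 := R.p_symm γ γ'
  rw [R.p_sub hk, R.p_sub' h, R.p_sub' h]
  omega

theorem dec_adj_sub (h : R.p γ α = 1) (h' : R.p γ' α = 1) (hk : R.p γ γ' = 1) :
    R.sub (R.sub α γ) (R.sub γ' γ) = R.sub α γ' := by
  apply R.eq_of_p
  have h1 := R.p_self γ
  have h1' := R.p_self γ'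
  have h1'' := R.p_self α
  have h2 := R.p_symm γ γ'
  have h3 := R.p_symm α γ
  have h4 := R.p_symm α γ'
  rw [R.p_sub (R.dec_adj_δτ h h' hk), R.p_sub h, R.p_sub hk, R.p_sub' h', R.p_sub' h', R.p_sub' h']
  omega

theorem dec_opp (h : R.p γ α = 1) (h' : R.p γ' α = 1) (hk : R.p γ γ' = -1) :
    R.sub α γ = γ' := by
  apply R.eq_of_p
  have h4 := R.p_symm α γ'
  rw [R.p_sub h]
  omega

theorem dec_orth (h : R.p γ α = 1) (h' : R.p γ' α = 1) (hk : R.p γ γ' = 0) :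
    R.p γ (R.sub α γ') = 1 := by
  rw [R.p_sub' h']
  omega

theorem dec_ne (h : R.p γ α = 1) (h' : R.p γ' α = 1) : R.p γ γ' ≠ -2 := by
  intro hk
  have : R.p (R.neg γ) γ' = 2 := by rw [R.p_neg]; omega
  have e := R.eq_of_p _ _ this
  rw [← e, R.p_neg] at h'
  omega

end dec

end SLRoots

end Cfsg.Agent.MilnorStein
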