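import Cfsg.Agent.Lib.Lead.MilnorSteinA
import Cfsg.Agent.Lib.Lead.MilnorSteinB

/-!
# Milnor–Stein, part C: the splitting (lead)

A group generated by root elements `x α t` (`α` in an abstract simply laced root system with room,
`t` in a commutative ring) and presented by Steinberg's relations is centrally closed: every
central extension of it splits.
-/

set_option autoImplicit false

namespace Cfsg.Agent.MilnorStein

open scoped commutatorElement

/-- root elements satisfying Steinberg's relations, simply laced case -/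
structure StData {Φ : Type*} (R : SLRoots Φ) (K : Type*) [CommRing K] (Δ : Type*) [Group Δ] where
  x : Φ → K → Δ
  N : Φ → Φ → K
  x_add : ∀ α t u, x α (t + u) = x α t * x α u
  x_comm : ∀ α β t u, 0 ≤ R.p α β → Commute (x α t) (x β u)
  x_sum : ∀ α β t u, R.p α β = -1 → ⁅x α t, x β u⁆ = x (R.add α β) (N α β * t * u)
  N_sq : ∀ α β, R.p α β = -1 → N α β * N α β = 1
  x_inj : ∀ α t u, x α t = x α u → t = u

section main

variable {Φ : Type*} {R : SLRoots Φ} {K : Type*} [CommRing K] {Δ Y : Type*} [Group Δ] [Group Y]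
  (S : StData R K Δ) {ψ : Y →* Δ} (hs : Function.Surjective ψ) (hc : CentralKer ψ)

theorem StData.x_zero (α : Φ) : S.x α 0 = 1 := by
  have := S.x_add α 0 0
  rw [add_zero] at this
  exact (mul_eq_left.1 this.symm)

theorem StData.x_neg (α : Φ) (t : K) : S.x α (-t) = (S.x α t)⁻¹ := by
  have := S.x_add α (-t) t
  rw [neg_add_cancel, S.x_zero] at this
  exact eq_inv_of_mul_eq_one_left this.symm

include hs hc in
/-- Step 1: lifts of commuting root elements commute -/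
theorem lift_commute {α β : Φ} (h : 0 ≤ R.p α β) {t u : K} {a b : Y}
    (ha : ψ a = S.x α t) (hb : ψ b = S.x β u) : Commute a b := by
  obtain ⟨γ, h1, h2, h3⟩ := R.room1 α β h
  have hγδ : R.p γ (R.sub α γ) = -1 := R.p_sub_self h1
  have hadd : R.add γ (R.sub α γ) = α := R.add_sub h1
  have hδβ : 0 ≤ R.p (R.sub α γ) β := by rw [R.p_sub h1]; omega
  obtain ⟨g, hg⟩ := hs (S.x γ (S.N γ (R.sub α γ) * t))
  obtain ⟨d, hd⟩ := hs (S.x (R.sub α γ) 1)
  have hgd : ψ ⁅g, d⁆ = S.x α t := by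
    rw [map_commutatorElement, hg, hd, S.x_sum _ _ _ _ hγδ, hadd]
    congr 1
    have := S.N_sq γ _ hγδ
    calc S.N γ (R.sub α γ) * (S.N γ (R.sub α γ) * t) * 1
        = (S.N γ (R.sub α γ) * S.N γ (R.sub α γ)) * t := by ring
      _ = t := by rw [this, one_mul]
  have hbg : ψ ⁅b, g⁆ = 1 := by
    rw [map_commutatorElement, hb, hg, commutatorElement_eq_one_iff_commute]
    exact S.x_comm _ _ _ _ (by rw [R.p_symm]; exact h2)
  have hbd : ψ ⁅b, d⁆ = 1 := by
    rw [map_commutatorElement, hb, hd, commutatorElement_eq_one_iff_commute]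
    exact S.x_comm _ _ _ _ (by rw [R.p_symm]; exact hδβ)
  have hcm : Commute b ⁅g, d⁆ := commute_comm hc hbg hbd
  have hz : ψ (⁅g, d⁆⁻¹ * a) = 1 := by rw [map_mul, map_inv, hgd, ha, inv_mul_cancel]
  have hzc : Commute b (⁅g, d⁆⁻¹ * a) := (hc _ hz b).symm
  have e : a = ⁅g, d⁆ * (⁅g, d⁆⁻¹ * a) := by group
  rw [e]
  exact (hcm.mul_right hzc).symm

/-- a chosen lift -/
noncomputable def lft (d : Δ) : Y := Classical.choose (hs d)

theorem psi_lft (d : Δ) : ψ (lft hs d) = d := Classical.choose_spec (hs d)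

/-- the commutator of lifts of `x γ a` and `x τ b` -/
noncomputable def F (γ τ : Φ) (a b : K) : Y := ⁅lft hs (S.x γ a), lft hs (S.x τ b)⁆

include hc in
theorem F_eq {γ τ : Φ} {a b : K} {g d : Y} (hg : ψ g = S.x γ a) (hd : ψ d = S.x τ b) :
    ⁅g, d⁆ = F S hs γ τ a b :=
  comm_congr hc (hg.trans (psi_lft hs _).symm) (hd.trans (psi_lft hs _).symm)

theorem psi_F {γ τ : Φ} (h : R.p γ τ = -1) (a b : K) :
    ψ (F S hs γ τ a b) = S.x (R.add γ τ) (S.N γ τ * a * b) := by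
  rw [F, map_commutatorElement, psi_lft, psi_lft, S.x_sum _ _ _ _ h]

include hc in
/-- the identity attached to a configuration of type `A₃` -/
theorem F_a3 {γ τ δ : Φ} (h : R.p γ τ = -1) (hδγ : R.p δ γ = -1) (hδτ : R.p δ τ = 1)
    (a b c : K) :
    F S hs γ τ a (S.N δ (R.sub τ δ) * b * c)
      = F S hs (R.add γ δ) (R.sub τ δ) (S.N γ δ * a * b) c := by
  have hγδ := R.a3_pγδ hδγ
  have hδε := R.a3_pδε hδτ
  have hδε_add := R.a3_addδε hδτ
  have hu := psi_lft hs (S.x γ a)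
  have hv := psi_lft hs (S.x δ b)
  have hw := psi_lft hs (S.x (R.sub τ δ) c)
  set u := lft hs (S.x γ a)
  set v := lft hs (S.x δ b)
  set w := lft hs (S.x (R.sub τ δ) c)
  have hvw : ψ ⁅v, w⁆ = S.x τ (S.N δ (R.sub τ δ) * b * c) := by
    rw [map_commutatorElement, hv, hw, S.x_sum _ _ _ _ hδε, hδε_add]
  have huv : ψ ⁅u, v⁆ = S.x (R.add γ δ) (S.N γ δ * a * b) := by
    rw [map_commutatorElement, hu, hv, S.x_sum _ _ _ _ hγδ]
  have h1 : Commute u w :=
    lift_commute S hs hc (by rw [R.a3_pγε h hδγ hδτ]) hu hw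
  have h2 : Commute ⁅u, v⁆ ⁅v, w⁆ :=
    lift_commute S hs hc (by rw [R.a3_pστ h hδγ hδτ]) huv hvw
  have huvw : ψ ⁅⁅u, v⁆, w⁆ = S.x (R.add (R.add γ δ) (R.sub τ δ))
      (S.N (R.add γ δ) (R.sub τ δ) * (S.N γ δ * a * b) * c) := by
    rw [map_commutatorElement, huv, hw, S.x_sum _ _ _ _ (R.a3_pσε h hδγ hδτ)]
  have h3 : Commute ⁅⁅u, v⁆, w⁆ ⁅v, w⁆ :=
    lift_commute S hs hc (R.a3_pατ h hδγ hδτ) huvw hvw
  have key := a3_identity h1 h2 h3
  rw [F_eq S hs hc hu hvw, F_eq S hs hc huv hw] at key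
  exact key

include hs hc in
/-- the sign identity of a configuration of type `A₃` -/
theorem sign_a3 {γ τ δ : Φ} (h : R.p γ τ = -1) (hδγ : R.p δ γ = -1) (hδτ : R.p δ τ = 1) :
    S.N γ τ * S.N δ (R.sub τ δ) = S.N (R.add γ δ) (R.sub τ δ) * S.N γ δ := by
  have e := congrArg ψ (F_a3 S hs hc h hδγ hδτ 1 1 1)
  rw [psi_F S hs h, psi_F S hs (R.a3_pσε h hδγ hδτ), R.a3_add h hδγ hδτ] at e
  have := S.x_inj _ _ _ e
  simpa [mul_assoc] using this

include hc in
theorem F_scalar {γ τ : Φ} (h : R.p γ τ = -1) (a b c : K) :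
    F S hs γ τ a (b * c) = F S hs γ τ (a * b) c := by
  obtain ⟨δ, hδγ, hδτ⟩ := R.room2 γ τ h
  have hnn : S.N δ (R.sub τ δ) * S.N δ (R.sub τ δ) = 1 := S.N_sq _ _ (R.p_sub_self hδτ)
  have e1 := F_a3 S hs hc h hδγ hδτ a b (S.N δ (R.sub τ δ) * c)
  have e2 := F_a3 S hs hc h hδγ hδτ (a * b) 1 (S.N δ (R.sub τ δ) * c)
  have a1 : S.N δ (R.sub τ δ) * b * (S.N δ (R.sub τ δ) * c) = b * c := by
    calc S.N δ (R.sub τ δ) * b * (S.N δ (R.sub τ δ) * c)
        = (S.N δ (R.sub τ δ) * S.N δ (R.sub τ δ)) * (b * c) := by ring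
      _ = b * c := by rw [hnn, one_mul]
  have a2 : S.N δ (R.sub τ δ) * 1 * (S.N δ (R.sub τ δ) * c) = c := by
    calc S.N δ (R.sub τ δ) * 1 * (S.N δ (R.sub τ δ) * c)
        = (S.N δ (R.sub τ δ) * S.N δ (R.sub τ δ)) * c := by ring
      _ = c := by rw [hnn, one_mul]
  have a3 : S.N γ δ * (a * b) * 1 = S.N γ δ * a * b := by ring
  rw [a1] at e1
  rw [a2, a3] at e2
  rw [e1, e2]

/-- the candidate lift of `x (γ + τ) t`, computed from the decomposition `(γ, τ)` -/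
noncomputable def Sd (γ τ : Φ) (t : K) : Y := F S hs γ τ (S.N γ τ * t) 1

include hc in
theorem F_Sd {γ τ : Φ} (h : R.p γ τ = -1) (a b : K) :
    F S hs γ τ a b = Sd S hs γ τ (S.N γ τ * a * b) := by
  have hnn := S.N_sq _ _ h
  have e := F_scalar S hs hc h a b 1
  rw [mul_one] at e
  rw [Sd, e]
  congr 1
  calc a * b = (S.N γ τ * S.N γ τ) * (a * b) := by rw [hnn, one_mul]
    _ = S.N γ τ * (S.N γ τ * a * b) := by ring

theorem psi_Sd {γ τ : Φ} (h : R.p γ τ = -1) (t : K) :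
    ψ (Sd S hs γ τ t) = S.x (R.add γ τ) t := by
  have hnn := S.N_sq _ _ h
  rw [Sd, psi_F S hs h]
  congr 1
  calc S.N γ τ * (S.N γ τ * t) * 1 = (S.N γ τ * S.N γ τ) * t := by ring
    _ = t := by rw [hnn, one_mul]

include hc in
theorem Sd_adj {γ τ δ : Φ} (h : R.p γ τ = -1) (hδγ : R.p δ γ = -1) (hδτ : R.p δ τ = 1)
    (t : K) : Sd S hs (R.add γ δ) (R.sub τ δ) t = Sd S hs γ τ t := by
  have hsign := sign_a3 S hs hc h hδγ hδτ
  have n1 := S.N_sq _ _ (R.a3_pγδ hδγ)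
  have n2 := S.N_sq _ _ (R.a3_pσε h hδγ hδτ)
  have e := F_a3 S hs hc h hδγ hδτ 1 (S.N γ δ * S.N (R.add γ δ) (R.sub τ δ) * t) 1
  rw [F_Sd S hs hc h] at e
  have a1 : S.N γ δ * 1 * (S.N γ δ * S.N (R.add γ δ) (R.sub τ δ) * t)
      = S.N (R.add γ δ) (R.sub τ δ) * t := by
    calc S.N γ δ * 1 * (S.N γ δ * S.N (R.add γ δ) (R.sub τ δ) * t)
        = (S.N γ δ * S.N γ δ) * (S.N (R.add γ δ) (R.sub τ δ) * t) := by ring
      _ = S.N (R.add γ δ) (R.sub τ δ) * t := by rw [n1, one_mul]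
  have a2 : S.N γ τ * 1 * (S.N δ (R.sub τ δ) *
      (S.N γ δ * S.N (R.add γ δ) (R.sub τ δ) * t) * 1) = t := by
    calc S.N γ τ * 1 * (S.N δ (R.sub τ δ) *
          (S.N γ δ * S.N (R.add γ δ) (R.sub τ δ) * t) * 1)
        = (S.N γ τ * S.N δ (R.sub τ δ)) * (S.N γ δ * S.N (R.add γ δ) (R.sub τ δ)) * t := by ring
      _ = (S.N (R.add γ δ) (R.sub τ δ) * S.N (R.add γ δ) (R.sub τ δ)) *
            (S.N γ δ * S.N γ δ) * t := by rw [hsign]; ring
      _ = t := by rw [n1, n2, one_mul, one_mul]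
  rw [a1, a2] at e
  rw [Sd, ← e]

include hc in
theorem Sd_add {γ τ : Φ} (h : R.p γ τ = -1) (t t' : K) :
    Sd S hs γ τ (t + t') = Sd S hs γ τ t * Sd S hs γ τ t' := by
  have sw : ∀ r : K, Sd S hs γ τ r = F S hs γ τ 1 (S.N γ τ * r) := by
    intro r
    have := F_scalar S hs hc h 1 (S.N γ τ * r) 1
    rw [mul_one, one_mul] at this
    rw [Sd, this]
  rw [sw, sw, sw]
  have hg := psi_lft hs (S.x γ (1 : K))
  have hd := psi_lft hs (S.x τ (S.N γ τ * t))
  have hd' := psi_lft hs (S.x τ (S.N γ τ * t'))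
  set g := lft hs (S.x γ (1 : K))
  set d := lft hs (S.x τ (S.N γ τ * t))
  set d' := lft hs (S.x τ (S.N γ τ * t'))
  have hdd : ψ (d * d') = S.x τ (S.N γ τ * (t + t')) := by
    rw [map_mul, hd, hd', ← S.x_add, mul_add]
  have hgd' : ψ ⁅g, d'⁆ = S.x (R.add γ τ) (S.N γ τ * 1 * (S.N γ τ * t')) := by
    rw [map_commutatorElement, hg, hd', S.x_sum _ _ _ _ h]
  have hcm : Commute d ⁅g, d'⁆ :=
    lift_commute S hs hc (by rw [R.p_add_right h]; norm_num) hd hgd'
  have e1 : ⁅g, d * d'⁆ = ⁅g, d⁆ * ⁅g, d'⁆ := by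
    rw [comm_mul_right, hcm.eq, mul_inv_cancel_right]
  rw [← F_eq S hs hc hg hdd, e1]
  rfl

include hc in
theorem Sd_zero {γ τ : Φ} (h : R.p γ τ = -1) : Sd S hs γ τ 0 = 1 := by
  have := Sd_add S hs hc h 0 0
  rw [add_zero] at this
  exact mul_eq_left.1 this.symm

include hc in
theorem Sd_neg {γ τ : Φ} (h : R.p γ τ = -1) (t : K) :
    Sd S hs γ τ (-t) = (Sd S hs γ τ t)⁻¹ := by
  have := Sd_add S hs hc h (-t) t
  rw [neg_add_cancel, Sd_zero S hs hc h] at this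
  exact eq_inv_of_mul_eq_one_left this.symm

include hs in
theorem N_flip {γ τ : Φ} (h : R.p γ τ = -1) : S.N τ γ = - S.N γ τ := by
  have h' : R.p τ γ = -1 := by rw [R.p_symm]; exact h
  have e : F S hs τ γ 1 1 = (F S hs γ τ 1 1)⁻¹ := by
    rw [F, F, commutatorElement_inv]
  have e' := congrArg ψ e
  rw [map_inv, psi_F S hs h', psi_F S hs h, R.add_comm' h, ← S.x_neg] at e'
  have := S.x_inj _ _ _ e'
  simpa using this

include hc in
theorem Sd_flip {γ τ : Φ} (h : R.p γ τ = -1) (t : K) : Sd S hs τ γ t = Sd S hs γ τ t := by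
  have hnn := S.N_sq _ _ h
  have e : Sd S hs τ γ t = (F S hs γ τ 1 (S.N τ γ * t))⁻¹ := by
    rw [Sd, F, F, commutatorElement_inv]
  rw [e, F_Sd S hs hc h, N_flip S hs h]
  have a1 : S.N γ τ * 1 * (-S.N γ τ * t) = -t := by
    calc S.N γ τ * 1 * (-S.N γ τ * t) = -((S.N γ τ * S.N γ τ) * t) := by ring
      _ = -t := by rw [hnn, one_mul]
  rw [a1, Sd_neg S hs hc h, inv_inv]

/-- the candidate lift of `x α t`, computed from the decomposition `α = γ + (α - γ)` -/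
noncomputable def Td (α γ : Φ) (t : K) : Y := Sd S hs γ (R.sub α γ) t

include hc in
theorem Td_adj {α γ γ' : Φ} (h : R.p γ α = 1) (h' : R.p γ' α = 1) (hk : R.p γ γ' = 1) (t : K) :
    Td S hs α γ' t = Td S hs α γ t := by
  have e := Sd_adj S hs hc (R.p_sub_self h) (R.dec_adj_δγ hk) (R.dec_adj_δτ h h' hk) t
  rw [R.add_sub hk, R.dec_adj_sub h h' hk] at e
  exact e

include hc in
theorem Td_indep {α γ γ' : Φ} (h : R.p γ α = 1) (h' : R.p γ' α = 1) (t : K) :
    Td S hs α γ t = Td S hs α γ' t := by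
  have hle := R.p_le γ γ'
  have hge := R.p_ge γ γ'
  have hne := R.dec_ne h h'
  have hcases : R.p γ γ' = 2 ∨ R.p γ γ' = 1 ∨ R.p γ γ' = 0 ∨ R.p γ γ' = -1 := by omega
  rcases hcases with hk | hk | hk | hk
  · rw [R.eq_of_p _ _ hk]
  · exact (Td_adj S hs hc h h' hk t).symm
  · -- orthogonal: pass through `α - γ'`
    have h'' : R.p (R.sub α γ') α = 1 := R.p_sub_alpha h'
    have hk' : R.p γ (R.sub α γ') = 1 := R.dec_orth h h' hk
    have e1 := Td_adj S hs hc h h'' hk' t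
    rw [← e1, Td, Td, R.sub_sub h']
    exact Sd_flip S hs hc (R.p_sub_self h') t
  · have e := R.dec_opp h h' hk
    rw [Td, Td, ← e, R.sub_sub h]
    exact (Sd_flip S hs hc (R.p_sub_self h) t).symm

/-- a chosen decomposition of every root -/
noncomputable def g0 (R : SLRoots Φ) (α : Φ) : Φ :=
  Classical.choose (R.room1 α α (by rw [R.p_self]; norm_num))

theorem g0_spec (α : Φ) : R.p (g0 R α) α = 1 :=
  (Classical.choose_spec (R.room1 α α (by rw [R.p_self]; norm_num))).1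

/-- the section on root elements -/
noncomputable def sd (α : Φ) (t : K) : Y := Td S hs α (g0 R α) t

theorem psi_sd (α : Φ) (t : K) : ψ (sd S hs α t) = S.x α t := by
  rw [sd, Td, psi_Sd S hs (R.p_sub_self (g0_spec α)), R.add_sub (g0_spec α)]

include hc in
theorem sd_add (α : Φ) (t u : K) : sd S hs α (t + u) = sd S hs α t * sd S hs α u :=
  Sd_add S hs hc (R.p_sub_self (g0_spec α)) t u

include hc in
theorem sd_key {γ τ : Φ} (h : R.p γ τ = -1) {a b : K} {g d : Y} (hg : ψ g = S.x γ a)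
    (hd : ψ d = S.x τ b) : ⁅g, d⁆ = sd S hs (R.add γ τ) (S.N γ τ * a * b) := by
  rw [F_eq S hs hc hg hd, F_Sd S hs hc h, sd,
    ← Td_indep S hs hc (R.p_add_left h) (g0_spec (R.add γ τ)), Td, R.sub_add h]

include hs hc in
/-- **Milnor–Stein**: a simply laced Steinberg group with room is centrally closed -/
theorem splits (hgen : Subgroup.closure {g : Δ | ∃ α t, g = S.x α t} = ⊤)
    (huniv : ∀ y : Φ → K → Y, (∀ α t u, y α (t + u) = y α t * y α u) →
      (∀ α β t u, 0 ≤ R.p α β → Commute (y α t) (y β u)) →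
      (∀ α β t u, R.p α β = -1 → ⁅y α t, y β u⁆ = y (R.add α β) (S.N α β * t * u)) →
      ∃ φ : Δ →* Y, ∀ α t, φ (S.x α t) = y α t) :
    ∃ φ : Δ →* Y, ψ.comp φ = MonoidHom.id Δ := by
  obtain ⟨φ, hφ⟩ := huniv (sd S hs) (sd_add S hs hc)
    (fun α β t u h => lift_commute S hs hc h (psi_sd S hs α t) (psi_sd S hs β u))
    (fun α β t u h => sd_key S hs hc h (psi_sd S hs α t) (psi_sd S hs β u))
  refine ⟨φ, ?_⟩
  apply MonoidHom.eq_of_eqOn_dense hgen
  rintro g ⟨α, t, rfl⟩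
  show ψ (φ (S.x α t)) = S.x α t
  rw [hφ, psi_sd]

end main

end Cfsg.Agent.MilnorStein
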