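import Mathlib

/-!
# Milnor–Stein: simply laced Steinberg groups with enough room are centrally closed (lead)

Part A: the group-theoretic lemmas.
-/

set_option autoImplicit false

namespace Cfsg.Agent.MilnorStein

open scoped commutatorElement

variable {Y Δ : Type*} [Group Y] [Group Δ]

/-- the kernel of `ψ` is central, elementwise -/
def CentralKer (ψ : Y →* Δ) : Prop := ∀ z : Y, ψ z = 1 → ∀ y : Y, z * y = y * z

theorem comm_congr_left {ψ : Y →* Δ} (hc : CentralKer ψ) {a a' : Y} (b : Y)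
    (ha : ψ a = ψ a') : ⁅a, b⁆ = ⁅a', b⁆ := by
  have hz : ψ (a'⁻¹ * a) = 1 := by rw [map_mul, map_inv, ha, inv_mul_cancel]
  have h1 := hc _ hz b
  rw [commutatorElement_def, commutatorElement_def]
  have h2 : a * b = a' * b * a'⁻¹ * a := by
    calc a * b = a' * (a'⁻¹ * a * b) := by group
      _ = a' * (b * (a'⁻¹ * a)) := by rw [h1]
      _ = a' * b * a'⁻¹ * a := by group
  rw [h2]
  group

theorem comm_congr_right {ψ : Y →* Δ} (hc : CentralKer ψ) (a : Y) {b b' : Y}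
    (hb : ψ b = ψ b') : ⁅a, b⁆ = ⁅a, b'⁆ := by
  rw [← commutatorElement_inv b a, ← commutatorElement_inv b' a, comm_congr_left hc a hb]

theorem comm_congr {ψ : Y →* Δ} (hc : CentralKer ψ) {a a' b b' : Y}
    (ha : ψ a = ψ a') (hb : ψ b = ψ b') : ⁅a, b⁆ = ⁅a', b'⁆ := by
  rw [comm_congr_left hc b ha, comm_congr_right hc a' hb]

/-- an element commuting with `g` and `d` modulo the kernel commutes with `⁅g, d⁆` -/
theorem commute_comm {ψ : Y →* Δ} (hc : CentralKer ψ) {b g d : Y}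
    (hg : ψ ⁅b, g⁆ = 1) (hd : ψ ⁅b, d⁆ = 1) : Commute b ⁅g, d⁆ := by
  have e1 : b * ⁅g, d⁆ * b⁻¹ = ⁅b * g * b⁻¹, b * d * b⁻¹⁆ := by
    simp only [commutatorElement_def]; group
  have e2 : ψ (b * g * b⁻¹) = ψ g := by
    rw [commutatorElement_def] at hg
    have : ψ (b * g * b⁻¹) * (ψ g)⁻¹ = 1 := by rw [← map_inv, ← map_mul]; exact hg
    exact mul_inv_eq_one.1 this
  have e3 : ψ (b * d * b⁻¹) = ψ d := by
    rw [commutatorElement_def] at hd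
    have : ψ (b * d * b⁻¹) * (ψ d)⁻¹ = 1 := by rw [← map_inv, ← map_mul]; exact hd
    exact mul_inv_eq_one.1 this
  rw [comm_congr hc e2 e3] at e1
  show b * ⁅g, d⁆ = ⁅g, d⁆ * b
  calc b * ⁅g, d⁆ = (b * ⁅g, d⁆ * b⁻¹) * b := by group
    _ = ⁅g, d⁆ * b := by rw [e1]

/-- the three-root identity -/
theorem a3_identity {u v w : Y} (h1 : Commute u w) (h2 : Commute ⁅u, v⁆ ⁅v, w⁆)
    (h3 : Commute ⁅⁅u, v⁆, w⁆ ⁅v, w⁆) : ⁅u, ⁅v, w⁆⁆ = ⁅⁅u, v⁆, w⁆ := by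
  have hw : u * w * u⁻¹ = w := by rw [h1.eq, mul_inv_cancel_right]
  have e1 : u * (v * w * v⁻¹) * u⁻¹ = ⁅u, ⁅v, w⁆⁆ * ⁅v, w⁆ * w := by
    calc u * (v * w * v⁻¹) * u⁻¹ = (u * ⁅v, w⁆ * u⁻¹) * (u * w * u⁻¹) := by
          simp only [commutatorElement_def]; group
      _ = (u * ⁅v, w⁆ * u⁻¹) * w := by rw [hw]
      _ = ⁅u, ⁅v, w⁆⁆ * ⁅v, w⁆ * w := by simp only [commutatorElement_def]; group
  have e2 : u * (v * w * v⁻¹) * u⁻¹ = ⁅⁅u, v⁆, w⁆ * ⁅v, w⁆ * w := by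
    calc u * (v * w * v⁻¹) * u⁻¹ = ⁅u, v⁆ * (v * (u * w * u⁻¹) * v⁻¹) * ⁅u, v⁆⁻¹ := by
          simp only [commutatorElement_def]; group
      _ = ⁅u, v⁆ * (v * w * v⁻¹) * ⁅u, v⁆⁻¹ := by rw [hw]
      _ = (⁅u, v⁆ * ⁅v, w⁆) * w * ⁅u, v⁆⁻¹ := by simp only [commutatorElement_def]; group
      _ = (⁅v, w⁆ * ⁅u, v⁆) * w * ⁅u, v⁆⁻¹ := by rw [h2.eq]
      _ = ⁅v, w⁆ * ⁅⁅u, v⁆, w⁆ * w := by
          rw [commutatorElement_def ⁅u, v⁆ w]; group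
      _ = ⁅⁅u, v⁆, w⁆ * ⁅v, w⁆ * w := by rw [h3.eq]
  exact mul_right_cancel (mul_right_cancel (e1.symm.trans e2))

/-- expansion of a commutator with a product -/
theorem comm_mul_right (g d d' : Y) : ⁅g, d * d'⁆ = ⁅g, d⁆ * (d * ⁅g, d'⁆ * d⁻¹) := by
  simp only [commutatorElement_def]; group

end Cfsg.Agent.MilnorStein
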