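import Mathlib

/-!
# Parity of permutations of 2-power order via fixed-point counts

* `sign_eq_mul` : the sign of a permutation is the product of the signs of its restrictions to an
  invariant predicate and to its negation.
* `cycleType_eq_replicate_of_fpf` : if `ρ ^ n = 1`, every proper divisor of `n` divides `m` and
  `ρ ^ m` has no fixed point, then every cycle of `ρ` has length `n`.
* `sign_of_pow_four`, `sign_of_pow_eight` : sign formulas.
* `sign_toPerm_eq_one` : a simple group of order `> 2` acts by even permutations.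
* `invol_parity`, `order_four_parity`, `order_eight_parity` : the consequences for group actions.
-/

set_option autoImplicit false
set_option linter.unusedSectionVars false

namespace Cfsg.Agent.Lib.Lead.Par

open Equiv

section perm

variable {α : Type*}

theorem eq_subtypeCongr (σ : Perm α) (p : α → Prop) [DecidablePred p]
    (h : ∀ x, p (σ x) ↔ p x) :
    σ = (σ.subtypePerm h).subtypeCongr
      (σ.subtypePerm (p := fun x => ¬ p x) (fun x => not_congr (h x))) := by
  ext x
  by_cases hx : p x
  · rw [Perm.subtypeCongr.left_apply _ _ hx]; rfl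
  · rw [Perm.subtypeCongr.right_apply _ _ hx]; rfl

variable [Fintype α] [DecidableEq α]

theorem sign_eq_mul (σ : Perm α) (p : α → Prop) [DecidablePred p]
    (h : ∀ x, p (σ x) ↔ p x) :
    Perm.sign σ = Perm.sign (σ.subtypePerm h) *
      Perm.sign (σ.subtypePerm (p := fun x => ¬ p x) (fun x => not_congr (h x))) := by
  conv_lhs => rw [eq_subtypeCongr σ p h]
  exact Perm.sign_subtypeCongr _ _

theorem cycleType_eq_replicate_of_fpf (ρ : Perm α) (n m : ℕ) (hn : ρ ^ n = 1)
    (hm : ∀ d, d ∣ n → d ≠ n → d ∣ m) (hfpf : ∀ a, (ρ ^ m) a ≠ a) :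
    ρ.cycleType = Multiset.replicate (Multiset.card ρ.cycleType) n := by
  rw [Multiset.eq_replicate_card]
  intro k hk
  by_contra hkn
  have hkd : k ∣ n := (Perm.dvd_of_mem_cycleType hk).trans (orderOf_dvd_of_pow_eq_one hn)
  have hkm : k ∣ m := hm k hkd hkn
  obtain ⟨c, τ, hρ, hdisj, hc, hcard⟩ := Perm.mem_cycleType_iff.1 hk
  obtain ⟨a, ha⟩ : ∃ a, a ∈ c.support := by
    have : 0 < c.support.card := by
      rw [hcard]; exact lt_of_lt_of_le (by norm_num) (Perm.two_le_of_mem_cycleType hk)
    exact Finset.card_pos.1 this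
  have hcm : c ^ m = 1 := by
    have : orderOf c = k := by rw [hc.orderOf, hcard]
    exact orderOf_dvd_iff_pow_eq_one.1 (this ▸ hkm)
  have hτa : τ a = a := by
    rcases hdisj a with h | h
    · exact absurd h (Perm.mem_support.1 ha)
    · exact h
  have hτm : (τ ^ m) a = a := Perm.pow_apply_eq_self_of_apply_eq_self hτa m
  apply hfpf a
  rw [hρ, hdisj.commute.mul_pow, hcm, one_mul, hτm]

theorem card_fixedPoints_subtypePerm (σ : Perm α) (p : α → Prop) [DecidablePred p]
    (h : ∀ x, p (σ x) ↔ p x) (hp : ∀ x, σ x = x → p x) :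
    Nat.card {y // (σ.subtypePerm h) y = y} = Nat.card {x // σ x = x} := by
  refine Nat.card_congr
    { toFun := fun y => ⟨y.1.1, congrArg Subtype.val y.2⟩
      invFun := fun x => ⟨⟨x.1, hp _ x.2⟩, Subtype.ext x.2⟩
      left_inv := fun y => rfl
      right_inv := fun x => rfl }

theorem card_fixedPoints_eq (σ : Perm α) :
    Fintype.card (Function.fixedPoints ⇑σ) = Nat.card {x // σ x = x} := by
  rw [Fintype.card_eq_nat_card]
  rfl

/-- the predicate "fixed by `σ ^ 2`" -/
def P2 (σ : Perm α) : α → Prop := fun x => (σ ^ 2) x = x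

instance (σ : Perm α) : DecidablePred (P2 σ) := fun x => by unfold P2; infer_instance

theorem p2_iff (σ : Perm α) (x : α) : P2 σ (σ x) ↔ P2 σ x := by
  unfold P2
  have e : (σ ^ 2) (σ x) = σ ((σ ^ 2) x) := by
    simp [pow_two, Perm.mul_apply]
  rw [e]
  exact σ.injective.eq_iff

theorem sign_of_pow_four (σ : Perm α) (h4 : σ ^ 4 = 1) :
    Perm.sign σ = (-1) ^ ((Nat.card {x // (σ ^ 2) x = x} - Nat.card {x // σ x = x}) / 2 +
      (Fintype.card α - Nat.card {x // (σ ^ 2) x = x}) / 4) := by
  have h := p2_iff σ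
  rw [sign_eq_mul σ (P2 σ) h, pow_add]
  congr 1
  · -- the involutive part
    have h2 : (σ.subtypePerm (p := P2 σ) h) ^ 2 = 1 := by
      ext x
      have : (((σ.subtypePerm (p := P2 σ) h) ^ 2) x : α) = (σ ^ 2) x := by
        rw [Perm.subtypePerm_pow]; rfl
      rw [this]
      exact x.2
    have e : Fintype.card {x // P2 σ x} = Nat.card {x // (σ ^ 2) x = x} :=
      Fintype.card_eq_nat_card
    rw [Perm.sign_of_pow_two_eq_one h2, card_fixedPoints_eq,
      card_fixedPoints_subtypePerm σ (P2 σ) h
        (fun x hx => by unfold P2; simp [pow_two, Perm.mul_apply, hx]), e]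
  · -- the part where all cycles have length 4
    set ρ := σ.subtypePerm (p := fun x => ¬ P2 σ x) (fun x => not_congr (h x)) with hρ
    have hpow : ∀ (n : ℕ) (x : {x // ¬ P2 σ x}), ((ρ ^ n) x : α) = (σ ^ n) x := by
      intro n x
      rw [hρ, Perm.subtypePerm_pow]; rfl
    have hρ4 : ρ ^ 4 = 1 := by
      ext x
      rw [hpow, h4]; rfl
    have hfpf : ∀ a, (ρ ^ 2) a ≠ a := by
      intro a ha
      apply a.2
      have := congrArg Subtype.val ha
      rw [hpow] at this
      exact this
    have hdiv : ∀ d, d ∣ 4 → d ≠ 4 → d ∣ 2 := by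
      intro d hd hne
      have : d ≤ 4 := Nat.le_of_dvd (by norm_num) hd
      interval_cases d <;> simp_all
    have hct := cycleType_eq_replicate_of_fpf ρ 4 2 hρ4 hdiv hfpf
    rw [Perm.sign_of_cycleType_eq_replicate (by norm_num) hct,
      if_neg (by decide)]
    have hfix : Fintype.card (Function.fixedPoints ⇑ρ) = 0 := by
      rw [Fintype.card_eq_zero_iff]
      refine ⟨fun a => hfpf a.1 ?_⟩
      have ha : ρ a.1 = a.1 := a.2
      rw [pow_two ρ, Perm.mul_apply, ha, ha]
    have e : Fintype.card {x // P2 σ x} = Nat.card {x // (σ ^ 2) x = x} :=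
      Fintype.card_eq_nat_card
    rw [hfix, Nat.sub_zero, Fintype.card_subtype_compl, e]

/-- the predicate "fixed by `σ`" -/
def P1 (σ : Perm α) : α → Prop := fun x => σ x = x

instance (σ : Perm α) : DecidablePred (P1 σ) := fun x => by unfold P1; infer_instance

theorem p1_iff (σ : Perm α) (x : α) : P1 σ (σ x) ↔ P1 σ x := by
  unfold P1
  exact σ.injective.eq_iff

/-- if every point moved by `σ` is moved by `σ ^ m`, `σ ^ n = 1` with `n` even and every proper
divisor of `n` divides `m`, then `σ` is a product of `(|α| - |Fix σ|) / n` cycles of length `n`. -/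
theorem sign_of_semiregular (σ : Perm α) (n m : ℕ) (hn : σ ^ n = 1) (hne : Even n) (hn0 : 0 < n)
    (hm : ∀ d, d ∣ n → d ≠ n → d ∣ m) (hfix : ∀ x, (σ ^ m) x = x → σ x = x) :
    Perm.sign σ = (-1) ^ ((Fintype.card α - Nat.card {x // σ x = x}) / n) := by
  have h := p1_iff σ
  rw [sign_eq_mul σ (P1 σ) h]
  have h1 : σ.subtypePerm (p := P1 σ) h = 1 := by
    ext x
    exact x.2
  rw [h1, Perm.sign_one, one_mul]
  set ρ := σ.subtypePerm (p := fun x => ¬ P1 σ x) (fun x => not_congr (h x)) with hρ
  have hpow : ∀ (k : ℕ) (x : {x // ¬ P1 σ x}), ((ρ ^ k) x : α) = (σ ^ k) x := by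
    intro k x
    rw [hρ, Perm.subtypePerm_pow]; rfl
  have hρn : ρ ^ n = 1 := by
    ext x
    rw [hpow, hn]; rfl
  have hfpf : ∀ a, (ρ ^ m) a ≠ a := by
    intro a ha
    apply a.2
    have := congrArg Subtype.val ha
    rw [hpow] at this
    exact hfix _ this
  have hct := cycleType_eq_replicate_of_fpf ρ n m hρn hm hfpf
  rw [Perm.sign_of_cycleType_eq_replicate hn0 hct, if_neg (Nat.not_odd_iff_even.2 hne)]
  have hfix0 : Fintype.card (Function.fixedPoints ⇑ρ) = 0 := by
    rw [Fintype.card_eq_zero_iff]
    refine ⟨fun a => a.1.2 ?_⟩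
    have ha : ρ a.1 = a.1 := a.2
    have := congrArg Subtype.val ha
    exact this
  have e : Fintype.card {x // P1 σ x} = Nat.card {x // σ x = x} :=
    Fintype.card_eq_nat_card
  rw [hfix0, Nat.sub_zero, Fintype.card_subtype_compl, e]

end perm

section action

variable {G : Type*} [Group G] {Ω : Type*} [MulAction G Ω] [Fintype Ω] [DecidableEq Ω]

/-- a simple group with more than two elements acts by even permutations -/
theorem sign_toPerm_eq_one [IsSimpleGroup G] (hG : 2 < Nat.card G) (g : G) :
    Perm.sign (MulAction.toPerm g : Perm Ω) = 1 := by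
  let φ : G →* ℤˣ := Perm.sign.comp (MulAction.toPermHom G Ω)
  have hφ : φ g = Perm.sign (MulAction.toPerm g : Perm Ω) := rfl
  rw [← hφ]
  rcases (MonoidHom.normal_ker φ).eq_bot_or_eq_top with hk | hk
  · exfalso
    have hinj : Function.Injective φ := (MonoidHom.ker_eq_bot_iff φ).1 hk
    have hle := Nat.card_le_card_of_injective φ hinj
    have : Nat.card ℤˣ = 2 := by
      rw [Nat.card_eq_fintype_card]; exact Fintype.card_units_int
    omega
  · have : g ∈ φ.ker := by rw [hk]; trivial
    exact this

theorem card_fixedBy_eq (g : G) :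
    Nat.card {x // (MulAction.toPerm g : Perm Ω) x = x} = Nat.card (MulAction.fixedBy Ω g) := rfl

theorem toPerm_pow (g : G) (n : ℕ) :
    (MulAction.toPerm g : Perm Ω) ^ n = MulAction.toPerm (g ^ n) := by
  have := map_pow (MulAction.toPermHom G Ω) g n
  exact this.symm

/-- an involution acting as an even permutation moves a multiple of 4 points -/
theorem invol_parity (g : G) (hg : g ^ 2 = 1)
    (hs : Perm.sign (MulAction.toPerm g : Perm Ω) = 1) :
    Even ((Fintype.card Ω - Nat.card (MulAction.fixedBy Ω g)) / 2) := by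
  have h2 : (MulAction.toPerm g : Perm Ω) ^ 2 = 1 := by
    rw [toPerm_pow, hg]; exact map_one (MulAction.toPermHom G Ω)
  rw [Perm.sign_of_pow_two_eq_one h2, card_fixedPoints_eq, card_fixedBy_eq] at hs
  exact (neg_one_pow_eq_one_iff_even (by decide)).1 hs

/-- an element of order dividing 4 acting as an even permutation: the number of its 2-cycles plus
the number of its 4-cycles is even -/
theorem order_four_parity (g : G) (hg : g ^ 4 = 1)
    (hs : Perm.sign (MulAction.toPerm g : Perm Ω) = 1) :
    Even ((Nat.card (MulAction.fixedBy Ω (g ^ 2)) - Nat.card (MulAction.fixedBy Ω g)) / 2 +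
      (Fintype.card Ω - Nat.card (MulAction.fixedBy Ω (g ^ 2))) / 4) := by
  have h4 : (MulAction.toPerm g : Perm Ω) ^ 4 = 1 := by
    rw [toPerm_pow, hg]; exact map_one (MulAction.toPermHom G Ω)
  rw [sign_of_pow_four _ h4, toPerm_pow, card_fixedBy_eq, card_fixedBy_eq] at hs
  exact (neg_one_pow_eq_one_iff_even (by decide)).1 hs

/-- an element of order dividing 8, all of whose nontrivial cycles have length 8, acting as an even
permutation has an even number of 8-cycles -/
theorem order_eight_parity (g : G) (hg : g ^ 8 = 1)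
    (hfix : ∀ x : Ω, g ^ 4 • x = x → g • x = x)
    (hs : Perm.sign (MulAction.toPerm g : Perm Ω) = 1) :
    Even ((Fintype.card Ω - Nat.card (MulAction.fixedBy Ω g)) / 8) := by
  have h8 : (MulAction.toPerm g : Perm Ω) ^ 8 = 1 := by
    rw [toPerm_pow, hg]; exact map_one (MulAction.toPermHom G Ω)
  have hdiv : ∀ d, d ∣ 8 → d ≠ 8 → d ∣ 4 := by
    intro d hd hne
    have : d ≤ 8 := Nat.le_of_dvd (by norm_num) hd
    interval_cases d <;> simp_all
  have hf : ∀ x : Ω, ((MulAction.toPerm g : Perm Ω) ^ 4) x = x →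
      (MulAction.toPerm g : Perm Ω) x = x := by
    intro x hx
    rw [toPerm_pow] at hx
    exact hfix x hx
  rw [sign_of_semiregular _ 8 4 h8 (by decide) (by norm_num) hdiv hf, card_fixedBy_eq] at hs
  exact (neg_one_pow_eq_one_iff_even (by decide)).1 hs

end action

end Cfsg.Agent.Lib.Lead.Par
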