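import Mathlib
import Cfsg.Agent.Lib.Lead.Par
import Cfsg.Agent.Lib.Helper4.Sylow

/-!
# Order 4320: no subgroup of order 432 (index 10), part 1: toolbox

General lemmas on finite groups acting on finite sets.
-/

set_option autoImplicit false
set_option linter.unusedSectionVars false

namespace Cfsg.Agent.Lib.Lead.O4320

open MulAction

section toolbox

variable {G : Type*} [Group G] {X : Type*} [MulAction G X]

/-- stabilizer in a subgroup, as a subgroup of the ambient group -/
theorem card_stab_sub (H : Subgroup G) (x : X) :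
    Nat.card (stabilizer H x) = Nat.card (H ⊓ stabilizer G x : Subgroup G) := by
  refine Nat.card_congr ⟨fun h => ⟨(h.1 : G), h.1.2, h.2⟩, fun g => ⟨⟨g.1, g.2.1⟩, g.2.2⟩,
    fun h => rfl, fun g => rfl⟩

/-- orbit-stabilizer for a subgroup -/
theorem orbit_stab [Finite G] (H : Subgroup G) (x : X) :
    Nat.card (orbit H x) * Nat.card (H ⊓ stabilizer G x : Subgroup G) = Nat.card H := by
  rw [← card_stab_sub, ← Nat.card_prod]
  exact Nat.card_congr (orbitProdStabilizerEquivGroup H x)

theorem mem_orbit_sub {H : Subgroup G} {x y : X} :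
    y ∈ orbit H x ↔ ∃ h ∈ H, h • x = y := by
  constructor
  · rintro ⟨h, rfl⟩
    exact ⟨h.1, h.2, rfl⟩
  · rintro ⟨h, hh, rfl⟩
    exact ⟨⟨h, hh⟩, rfl⟩

end toolbox



section L432

variable {L : Type*} [Group L] [Finite L]

/-- an element of order 3 in the kernel of the action on Sylow 3-subgroups lies in each of them -/
theorem mem_sylow_of_ker (P : Sylow 3 L) [Fact (Nat.Prime 3)] (y : L)
    (hy : y ∈ (MulAction.toPermHom L (Sylow 3 L)).ker) (hy3 : y ^ 3 = 1) : y ∈ (P : Subgroup L) := by
  have h1 : y • P = P := by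
    have := MonoidHom.mem_ker.1 hy
    have h2 := congrArg (fun σ : Equiv.Perm (Sylow 3 L) => σ P) this
    exact h2
  have h2 : y ∈ Subgroup.normalizer (P : Set L) := Sylow.smul_eq_iff_mem_normalizer.1 h1
  have h3 : IsPGroup 3 (Subgroup.zpowers y) := by
    intro ⟨z, hz⟩
    obtain ⟨k, rfl⟩ := Subgroup.mem_zpowers_iff.1 hz
    refine ⟨1, ?_⟩
    apply Subtype.ext
    simp only [pow_one, Subgroup.coe_pow, Subgroup.coe_one]
    rw [← zpow_natCast, ← zpow_mul, mul_comm, zpow_mul, zpow_natCast, hy3, one_zpow]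
  have h4 := h3.inf_normalizer_sylow P
  have h5 : y ∈ Subgroup.zpowers y ⊓ Subgroup.normalizer (P : Set L) :=
    ⟨Subgroup.mem_zpowers y, h2⟩
  rw [h4] at h5
  exact h5.2

theorem exists_normal_abelian (hL : Nat.card L = 432) (P : Sylow 3 L) [Fact (Nat.Prime 3)]
    (hN : Nat.card (Subgroup.normalizer ((P : Subgroup L) : Set L)) ≠ 27) :
    ∃ A : Subgroup L, A.Normal ∧ A ≤ P ∧ A ≠ ⊥ ∧ ∀ a ∈ A, ∀ b ∈ A, a * b = b * a := by
  classical
  have hidx : (P : Subgroup L).index = 16 :=
    Cfsg.Agent.Lib.Helper4.Sylow.index_sylow_of_card_eq (p := 3) (a := 3) (m := 16)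
      (by rw [hL]; norm_num) (by norm_num) P
  have hmod : Nat.card (Sylow 3 L) ≡ 1 [MOD 3] := card_sylow_modEq_one 3 L
  have hdvd : Nat.card (Sylow 3 L) ∣ 16 := hidx ▸ P.card_dvd_index
  have hnorm : Nat.card (Sylow 3 L) = (Subgroup.normalizer ((P : Subgroup L) : Set L)).index :=
    Sylow.card_eq_index_normalizer P
  have hmul := (Subgroup.normalizer ((P : Subgroup L) : Set L)).card_mul_index
  rw [← hnorm, hL] at hmul
  have hn4 : Nat.card (Sylow 3 L) = 1 ∨ Nat.card (Sylow 3 L) = 4 := by
    have hle : Nat.card (Sylow 3 L) ≤ 16 := Nat.le_of_dvd (by norm_num) hdvd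
    have hm : Nat.card (Sylow 3 L) % 3 = 1 := hmod
    generalize Nat.card (Sylow 3 L) = n at *
    interval_cases n <;> omega
  -- the action on Sylow subgroups
  have : Fintype (Sylow 3 L) := Fintype.ofFinite _
  let φ := MulAction.toPermHom L (Sylow 3 L)
  have hr : Nat.card φ.range ∣ 24 := by
    have h1 : Nat.card φ.range ∣ Nat.card (Equiv.Perm (Sylow 3 L)) := Subgroup.card_subgroup_dvd_card _
    rw [Nat.card_perm] at h1
    rcases hn4 with h | h <;> rw [h] at h1
    · exact h1.trans (by decide)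
    · exact h1
  have hk : Nat.card φ.ker * Nat.card φ.range = 432 := by
    rw [← Subgroup.index_ker, Subgroup.card_mul_index, hL]
  have h3 : 3 ∣ Nat.card φ.ker := by
    obtain ⟨c, hc⟩ := hr
    have : Nat.card φ.ker * Nat.card φ.range * c = 432 * c := by rw [hk]
    rw [mul_assoc, ← hc] at this
    omega
  obtain ⟨x, hx⟩ := exists_prime_orderOf_dvd_card' (G := φ.ker) 3 h3
  have hx3 : (x : L) ^ 3 = 1 := by
    have := pow_orderOf_eq_one x
    rw [hx] at this
    exact congrArg Subtype.val this
  have hx1 : (x : L) ≠ 1 := by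
    intro h
    have : x = 1 := Subtype.ext h
    rw [this, orderOf_one] at hx
    omega
  -- the normal core of `P`
  have hcore : (x : L) ∈ (P : Subgroup L).normalCore := by
    intro b
    apply mem_sylow_of_ker P
    · exact φ.normal_ker.conj_mem _ x.2 b
    · rw [conj_pow, hx3, mul_one, mul_inv_cancel]
  set A₀ := (P : Subgroup L).normalCore with hA₀
  have : A₀.Normal := Subgroup.normalCore_normal _
  have hA₀P : A₀ ≤ P := Subgroup.normalCore_le _
  have : Nontrivial A₀ := ⟨⟨⟨x, hcore⟩, 1, fun h => hx1 (congrArg Subtype.val h)⟩⟩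
  have hp : IsPGroup 3 A₀ := P.2.to_le hA₀P
  have := hp.center_nontrivial
  refine ⟨(Subgroup.center A₀).map A₀.subtype, inferInstance, ?_, ?_, ?_⟩
  · rintro _ ⟨a, _, rfl⟩
    exact hA₀P a.2
  · intro h
    obtain ⟨z, hz⟩ := exists_ne (1 : Subgroup.center A₀)
    apply hz
    have h1 : ((z : A₀) : L) ∈ (Subgroup.center A₀).map A₀.subtype := ⟨z, z.2, rfl⟩
    rw [h] at h1
    have h2 : ((z : A₀) : L) = 1 := h1
    apply Subtype.ext
    apply Subtype.ext
    exact h2
  · rintro _ ⟨a, ha, rfl⟩ _ ⟨b, hb, rfl⟩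
    have := Subgroup.mem_center_iff.1 ha b
    have h2 := congrArg Subtype.val this
    exact h2.symm

end L432



section toolbox2

variable {G : Type*} [Group G] [Finite G] {Ω : Type*} [MulAction G Ω] [Fintype Ω] [DecidableEq Ω]

/-- a subgroup fixing pointwise a set `F` of a faithful action has order dividing `(|Ω| - |F|)!` -/
theorem card_dvd_factorial_of_fix (hfaith : ∀ g : G, (∀ ω : Ω, g • ω = ω) → g = 1)
    (H : Subgroup G) (F : Finset Ω) (hF : ∀ h ∈ H, ∀ ω ∈ F, h • ω = ω) :
    Nat.card H ∣ (Fintype.card Ω - F.card).factorial := by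
  classical
  let S : SubMulAction H Ω :=
    { carrier := {ω | ω ∉ F}
      smul_mem' := by
        intro h ω hω hmem
        apply hω
        have h1 := hF ((h⁻¹ : H) : G) (h⁻¹).2 _ hmem
        have h2 : ((h⁻¹ : H) : G) • (h • ω) = ω := by
          show (h⁻¹ : H) • (h • ω) = ω
          rw [inv_smul_smul]
        rw [h2] at h1
        rw [h1]
        exact hmem }
  let φ : H →* Equiv.Perm S := MulAction.toPermHom H S
  have hinj : Function.Injective φ := by
    rw [← MonoidHom.ker_eq_bot_iff, eq_bot_iff]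
    intro h hh
    have h1 : ∀ s : S, h • s = s := by
      intro s
      have := MonoidHom.mem_ker.1 hh
      exact congrArg (fun σ : Equiv.Perm S => σ s) this
    have h2 : ∀ ω : Ω, (h : G) • ω = ω := by
      intro ω
      by_cases hω : ω ∈ F
      · exact hF _ h.2 _ hω
      · have := h1 ⟨ω, hω⟩
        exact congrArg Subtype.val this
    have := hfaith _ h2
    exact Subtype.ext this
  have h3 := Subgroup.card_dvd_of_injective φ hinj
  rw [Nat.card_perm] at h3
  have h4 : Nat.card S = Fintype.card Ω - F.card := by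
    have : Nat.card S = Nat.card {ω : Ω // ω ∉ F} := rfl
    rw [this, Nat.card_eq_fintype_card, Fintype.card_subtype_compl, Fintype.card_coe]
  rwa [h4] at h3

/-- Jordan: a primitive group of degree 10 and order 4320 contains no 3-cycle -/
theorem no_three_cycle [IsPreprimitive G Ω] (hG : Nat.card G = 4320) (hΩ : Fintype.card Ω = 10)
    (c : G) (h3 : (MulAction.toPerm c : Equiv.Perm Ω).IsThreeCycle) : False := by
  classical
  let φ := MulAction.toPermHom G Ω
  let R : Subgroup (Equiv.Perm Ω) := φ.range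
  let f : Ω →ₑ[(φ.rangeRestrict : G → R)] Ω :=
    { toFun := id
      map_smul' := fun g ω => rfl }
  have hprim : IsPreprimitive R Ω :=
    IsPreprimitive.of_surjective (f := f) Function.surjective_id
  have hmem : (MulAction.toPerm c : Equiv.Perm Ω) ∈ R := ⟨c, rfl⟩
  have hle := Equiv.Perm.alternatingGroup_le_of_isPreprimitive_of_isThreeCycle_mem hprim h3 hmem
  have h1 : Nat.card (alternatingGroup Ω) ≤ Nat.card R := Subgroup.card_le_of_le hle
  have h2 : Nat.card R ≤ Nat.card G := by
    have := Subgroup.card_range_dvd φ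
    exact Nat.le_of_dvd Nat.card_pos this
  have : Nontrivial Ω := by
    rw [← Fintype.one_lt_card_iff_nontrivial, hΩ]; norm_num
  have h4 := nat_card_alternatingGroup (α := Ω)
  rw [Nat.card_eq_fintype_card (α := Ω), hΩ] at h4
  have h5 : (10 : ℕ).factorial / 2 = 1814400 := by decide
  rw [h5] at h4
  omega

end toolbox2



section toolbox3

variable {G : Type*} [Group G] [Finite G] {Ω : Type*} [MulAction G Ω] [Fintype Ω] [DecidableEq Ω]

theorem relIndex_mul_card {H K : Subgroup G} (h : H ≤ K) :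
    H.relIndex K * Nat.card H = Nat.card K := by
  have := Subgroup.relIndex_mul_relIndex (⊥ : Subgroup G) H K bot_le h
  rw [Subgroup.relIndex_bot_left, Subgroup.relIndex_bot_left] at this
  rw [mul_comm]; exact this

/-- orbit-stabilizer, `ncard` form -/
theorem orbit_stab' (H : Subgroup G) (x : Ω) :
    (orbit H x).ncard * Nat.card (H ⊓ stabilizer G x : Subgroup G) = Nat.card H := by
  rw [← _root_.Nat.card_coe_set_eq]; exact orbit_stab H x

/-- the kernel of the action of `H` on an invariant set `B` -/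
theorem exists_ker (H : Subgroup G) (B : Set Ω) (hB : ∀ h ∈ H, ∀ ω ∈ B, h • ω ∈ B) :
    ∃ K : Subgroup G, K ≤ H ∧ (∀ k ∈ K, ∀ ω ∈ B, k • ω = ω) ∧
      K.relIndex H ∣ (B.ncard).factorial := by
  classical
  let S : SubMulAction H Ω :=
    { carrier := B
      smul_mem' := fun h ω hω => hB h.1 h.2 ω hω }
  let φ : H →* Equiv.Perm S := MulAction.toPermHom H S
  refine ⟨φ.ker.map H.subtype, Subgroup.map_subtype_le _, ?_, ?_⟩
  · rintro _ ⟨k, hk, rfl⟩ ω hω
    have := MonoidHom.mem_ker.1 hk
    have h2 := congrArg (fun σ : Equiv.Perm S => (σ ⟨ω, hω⟩ : Ω)) this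
    exact h2
  · have h1 : (φ.ker.map H.subtype).subgroupOf H = φ.ker := by
      ext x
      simp [Subgroup.mem_subgroupOf]
    rw [Subgroup.relIndex, h1, Subgroup.index_ker]
    have h2 : Nat.card φ.range ∣ Nat.card (Equiv.Perm S) := Subgroup.card_subgroup_dvd_card _
    rw [Nat.card_perm] at h2
    have h3 : Nat.card S = B.ncard := _root_.Nat.card_coe_set_eq B
    rwa [h3] at h2

/-- an element fixing pointwise a set `F` has support of size at most `|Ω| - |F|` -/
theorem support_card_le (s : G) (F : Set Ω) (hF : ∀ ω ∈ F, s • ω = ω) :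
    (MulAction.toPerm s : Equiv.Perm Ω).support.card + F.ncard ≤ Fintype.card Ω := by
  classical
  have h1 : ((MulAction.toPerm s : Equiv.Perm Ω).support : Set Ω) ⊆ Fᶜ := by
    intro ω hω hωF
    have : (MulAction.toPerm s : Equiv.Perm Ω) ω ≠ ω := by
      simpa using hω
    exact this (hF ω hωF)
  have h2 := Set.ncard_le_ncard h1
  rw [Set.ncard_coe_finset] at h2
  have h3 := Set.ncard_compl_add_ncard F
  rw [Nat.card_eq_fintype_card] at h3
  omega

end toolbox3

end Cfsg.Agent.Lib.Lead.O4320
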