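import Mathlib
import Cfsg.Agent.Lib.Lead.O4320I1

/-!
# Order 4320: no subgroup of order 432 (index 10), part 2

A simple group `G` of order 4320 acting primitively on 10 points, `T` a subgroup of order 27 fixing
the point `o`: `T` fixes no other point, and `T` is transitive on the other nine points (otherwise
`G` contains a 3-cycle, contradicting Jordan's theorem).
-/

set_option autoImplicit false
set_option linter.unusedSectionVars false
set_option linter.unusedVariables false

namespace Cfsg.Agent.Lib.Lead.O4320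

open MulAction

section config

variable {G : Type*} [Group G] [Finite G] [IsSimpleGroup G] {Ω : Type*} [MulAction G Ω]
  [Fintype Ω] [DecidableEq Ω] [IsPreprimitive G Ω]
  (hG : Nat.card G = 4320) (hΩ : Fintype.card Ω = 10)

include hΩ in
theorem faithful (g : G) (h : ∀ ω : Ω, g • ω = ω) : g = 1 := by
  have hker : (MulAction.toPermHom G Ω).ker = ⊥ := by
    rcases (MonoidHom.normal_ker (MulAction.toPermHom G Ω)).eq_bot_or_eq_top with hk | hk
    · exact hk
    · exfalso
      have : Nontrivial Ω := by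
        rw [← Fintype.one_lt_card_iff_nontrivial, hΩ]; norm_num
      obtain ⟨ω₁, ω₂, hne⟩ := exists_pair_ne Ω
      obtain ⟨g, hg⟩ := MulAction.exists_smul_eq G ω₁ ω₂
      have hmem : g ∈ (MulAction.toPermHom G Ω).ker := by rw [hk]; trivial
      have h1 := MonoidHom.mem_ker.1 hmem
      have h2 := congrArg (fun σ : Equiv.Perm Ω => σ ω₁) h1
      exact hne (hg.symm.trans h2).symm
  have hmem : g ∈ (MulAction.toPermHom G Ω).ker := by
    rw [MonoidHom.mem_ker]
    ext ω
    exact h ω
  rw [hker] at hmem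
  exact hmem

include hG hΩ in
theorem card_stab (o : Ω) : Nat.card (stabilizer G o) = 432 := by
  have h1 : (stabilizer G o).index = 10 := by
    rw [MulAction.index_stabilizer, MulAction.orbit_eq_univ, Set.ncard_univ,
      Nat.card_eq_fintype_card, hΩ]
  have h2 := (stabilizer G o).card_mul_index
  rw [h1, hG] at h2
  omega

theorem ncard_compl_pt (hΩ : Fintype.card Ω = 10) (o : Ω) : ({o}ᶜ : Set Ω).ncard = 9 := by
  rw [Set.ncard_compl, Set.ncard_singleton, Nat.card_eq_fintype_card, hΩ]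

theorem orbit_sub_compl (H : Subgroup G) (o : Ω) (hH : ∀ h ∈ H, h • o = o) (β : Ω) (hβ : β ≠ o) :
    orbit H β ⊆ ({o}ᶜ : Set Ω) := by
  rintro _ ⟨h, rfl⟩ hmem
  apply hβ
  have h1 : (h : G) • β = o := hmem
  have : (h : G) • β = (h : G) • o := by rw [h1, hH _ h.2]
  exact smul_left_cancel _ this

variable (o : Ω) (T : Subgroup G) (hT : Nat.card T = 27) (hTo : ∀ t ∈ T, t • o = o)

include hΩ hT hTo in
/-- `T` fixes no point other than `o` -/
theorem T_fix (β : Ω) (h : ∀ t ∈ T, t • β = β) : β = o := by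
  by_contra hne
  have h1 := card_dvd_factorial_of_fix (faithful hΩ) T ({o, β} : Finset Ω) (by
    intro t ht ω hω
    rcases Finset.mem_insert.1 hω with rfl | hω
    · exact hTo t ht
    · rw [Finset.mem_singleton.1 hω]; exact h t ht)
  rw [hT, hΩ, Finset.card_pair (Ne.symm hne)] at h1
  revert h1
  decide

include hΩ hT hTo in
theorem orbit_ncard (β : Ω) (hβ : β ≠ o) : (orbit T β).ncard = 3 ∨ (orbit T β).ncard = 9 := by
  have h1 := orbit_stab' T β
  rw [hT] at h1
  have h2 : (orbit T β).ncard ≤ 9 := by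
    rw [← ncard_compl_pt hΩ o]
    exact Set.ncard_le_ncard (orbit_sub_compl T o hTo β hβ)
  have h3 : (orbit T β).ncard ∣ 27 := ⟨_, h1.symm⟩
  have h4 : (orbit T β).ncard ≠ 1 := by
    intro h
    apply hβ
    apply T_fix hΩ o T hT hTo
    intro t ht
    obtain ⟨a, ha⟩ := Set.ncard_eq_one.1 h
    have hβa : β ∈ orbit T β := mem_orbit_self β
    have htβ : t • β ∈ orbit T β := ⟨⟨t, ht⟩, rfl⟩
    rw [ha] at hβa htβ
    have e1 : β = a := Set.mem_singleton_iff.1 hβa
    have e2 : t • β = a := Set.mem_singleton_iff.1 htβ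
    rw [e2]; exact e1.symm
  generalize (orbit T β).ncard = n at *
  have : n ≤ 9 := h2
  interval_cases n <;> omega

theorem smul_mem_orbit_sub (H : Subgroup G) (β ω : Ω) (hω : ω ∈ orbit H β) (h : G) (hh : h ∈ H) :
    h • ω ∈ orbit H β := by
  obtain ⟨u, rfl⟩ := hω
  exact ⟨⟨h, hh⟩ * u, mul_smul (⟨h, hh⟩ : H) u β⟩

include hG hΩ in
/-- a nontrivial element with small support is impossible: at most three moved points -/
theorem no_small_support (c : G) (hc : c ≠ 1)
    (h : (MulAction.toPerm c : Equiv.Perm Ω).support.card ≤ 3) : False := by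
  have hne : (MulAction.toPerm c : Equiv.Perm Ω) ≠ 1 := by
    intro h1
    apply hc
    apply faithful hΩ
    intro ω
    exact congrArg (fun σ : Equiv.Perm Ω => σ ω) h1
  have h2 := Equiv.Perm.two_le_card_support_of_ne_one hne
  have hsign : Equiv.Perm.sign (MulAction.toPerm c : Equiv.Perm Ω) = 1 :=
    Par.sign_toPerm_eq_one (by rw [hG]; norm_num) c
  rcases Nat.lt_or_ge (MulAction.toPerm c : Equiv.Perm Ω).support.card 3 with h3 | h3
  · have h4 : (MulAction.toPerm c : Equiv.Perm Ω).support.card = 2 := by omega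
    have h5 := (Equiv.Perm.card_support_eq_two.1 h4).sign_eq
    rw [hsign] at h5
    revert h5; decide
  · have h4 : (MulAction.toPerm c : Equiv.Perm Ω).support.card = 3 := by omega
    exact no_three_cycle hG hΩ c (_root_.card_support_eq_three_iff.1 h4)

include hG hΩ hT hTo in
theorem no_orbit_three (β : Ω) (hβ : β ≠ o) (h3 : (orbit T β).ncard = 3) : False := by
  obtain ⟨K₁, hK₁T, hK₁fix, hK₁idx⟩ := exists_ker T (orbit T β)
    (fun t ht ω hω => smul_mem_orbit_sub T β ω hω t ht)
  obtain ⟨γ, hγo, hγβ⟩ : ∃ γ, γ ≠ o ∧ γ ∉ orbit T β := by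
    by_contra hcon
    push Not at hcon
    have h1 : (Set.univ : Set Ω) ⊆ insert o (orbit T β) := by
      intro γ _
      by_cases hγ : γ = o
      · rw [hγ]; exact Set.mem_insert _ _
      · exact Set.mem_insert_of_mem _ (hcon γ hγ)
    have h2 := Set.ncard_le_ncard h1
    have h3' := Set.ncard_insert_le o (orbit T β)
    rw [Set.ncard_univ, Nat.card_eq_fintype_card, hΩ] at h2
    omega
  have hγ3 : (orbit T γ).ncard = 3 := by
    rcases orbit_ncard hΩ o T hT hTo γ hγo with h | h
    · exact h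
    · exfalso
      have h1 : orbit T γ = ({o}ᶜ : Set Ω) :=
        Set.eq_of_subset_of_ncard_le (orbit_sub_compl T o hTo γ hγo)
          (by rw [ncard_compl_pt hΩ o, h])
      have h2 : β ∈ orbit T γ := by rw [h1]; exact hβ
      exact hγβ (MulAction.mem_orbit_symm.1 h2)
  obtain ⟨K₂, hK₂T, hK₂fix, hK₂idx⟩ := exists_ker T (orbit T γ)
    (fun t ht ω hω => smul_mem_orbit_sub T γ ω hω t ht)
  rw [h3] at hK₁idx
  rw [hγ3] at hK₂idx
  have hd1 : K₁.relIndex T ∣ 3 := by
    have := Nat.dvd_gcd hK₁idx (hT ▸ Subgroup.relIndex_dvd_card K₁ T)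
    exact this
  have hd2 : K₂.relIndex T ∣ 3 := by
    have := Nat.dvd_gcd hK₂idx (hT ▸ Subgroup.relIndex_dvd_card K₂ T)
    exact this
  have hle1 : K₁.relIndex T ≤ 3 := Nat.le_of_dvd (by norm_num) hd1
  have hle2 : K₂.relIndex T ≤ 3 := Nat.le_of_dvd (by norm_num) hd2
  have hle : (K₁ ⊓ K₂).relIndex T ≤ 9 :=
    (Subgroup.relIndex_inf_le).trans (by nlinarith)
  have hcard := relIndex_mul_card (inf_le_left.trans hK₁T : K₁ ⊓ K₂ ≤ T)
  rw [hT] at hcard
  have hgt : 1 < Nat.card (K₁ ⊓ K₂ : Subgroup G) := by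
    by_contra hcon
    have : Nat.card (K₁ ⊓ K₂ : Subgroup G) ≤ 1 := by omega
    nlinarith
  obtain ⟨c, hc, hc1⟩ : ∃ c ∈ K₁ ⊓ K₂, c ≠ 1 := by
    have : Nontrivial (K₁ ⊓ K₂ : Subgroup G) := Finite.one_lt_card_iff_nontrivial.1 hgt
    obtain ⟨x, hx⟩ := exists_ne (1 : (K₁ ⊓ K₂ : Subgroup G))
    exact ⟨x, x.2, fun h => hx (Subtype.ext h)⟩
  -- `c` fixes seven points
  have hdisj : Disjoint (orbit T β) (orbit T γ) := by
    rcases orbit.eq_or_disjoint (G := T) β γ with h | h
    · exfalso
      apply hγβ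
      rw [h]
      exact mem_orbit_self γ
    · exact h
  have hF : ∀ ω ∈ insert o (orbit T β ∪ orbit T γ), c • ω = ω := by
    intro ω hω
    rcases hω with rfl | hω | hω
    · exact hTo c (hK₁T hc.1)
    · exact hK₁fix c hc.1 ω hω
    · exact hK₂fix c hc.2 ω hω
  have hcardF : (insert o (orbit T β ∪ orbit T γ)).ncard = 7 := by
    rw [Set.ncard_insert_of_notMem, Set.ncard_union_eq hdisj, h3, hγ3]
    rintro (h | h)
    · exact orbit_sub_compl T o hTo β hβ h rfl
    · exact orbit_sub_compl T o hTo γ hγo h rfl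
  have hsupp := support_card_le c _ hF
  rw [hcardF, hΩ] at hsupp
  exact no_small_support hG hΩ c hc1 (by omega)

include hG hΩ hT hTo in
/-- `T` is transitive on the nine points other than `o` -/
theorem T_trans (β γ : Ω) (hβ : β ≠ o) (hγ : γ ≠ o) : ∃ t ∈ T, t • β = γ := by
  have h9 : (orbit T β).ncard = 9 := by
    rcases orbit_ncard hΩ o T hT hTo β hβ with h | h
    · exact (no_orbit_three hG hΩ o T hT hTo β hβ h).elim
    · exact h
  have h1 : orbit T β = ({o}ᶜ : Set Ω) :=
    Set.eq_of_subset_of_ncard_le (orbit_sub_compl T o hTo β hβ)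
      (by rw [ncard_compl_pt hΩ o, h9])
  have h2 : γ ∈ orbit T β := by rw [h1]; exact hγ
  exact mem_orbit_sub.1 h2

end config

end Cfsg.Agent.Lib.Lead.O4320
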