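import Mathlib
import Cfsg.Agent.Lib.Lead.O4320I2
import Cfsg.Agent.Lib.Helper7.YoshidaTransfer

/-!
# Order 4320: no subgroup of order 432 (index 10), part 3

Yoshida's transfer theorem excludes a self-normalizing Sylow 3-subgroup; hence the point stabilizer
(of order 432) has a nontrivial abelian normal 3-subgroup `A`.
-/

set_option autoImplicit false
set_option linter.unusedSectionVars false
set_option linter.unusedVariables false

namespace Cfsg.Agent.Lib.Lead.O4320

open MulAction

section yoshida

universe u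

variable {G : Type u} [Group G] [Finite G] [IsSimpleGroup G]

/-- a simple group of order 4320 has no self-normalizing Sylow 3-subgroup (Yoshida) -/
theorem no_self_normalizing (hG : Nat.card G = 4320) (T : Subgroup G) (hT : Nat.card T = 27)
    (hN : Subgroup.normalizer (T : Set G) ≤ T) : False := by
  have : Fact (Nat.Prime 3) := ⟨by norm_num⟩
  have hTp : IsPGroup 3 T := IsPGroup.of_card (n := 3) (by rw [hT]; norm_num)
  obtain ⟨S, hTS⟩ := hTp.exists_le_sylow
  have hS : Nat.card S = 27 := by
    have := Cfsg.Agent.Lib.Helper4.Sylow.card_sylow_of_card_eq (p := 3) (a := 3) (m := 160)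
      (by rw [hG]; norm_num) (by norm_num) S
    rw [this]; norm_num
  have hST : (S : Subgroup G) = T :=
    (Subgroup.eq_of_le_of_card_ge hTS (by rw [hT]; exact hS.le)).symm
  have hNS : Subgroup.normalizer ((S : Subgroup G) : Set G) = (S : Subgroup G) := by
    rw [hST]
    exact le_antisymm hN Subgroup.le_normalizer
  have hcomm : commutator G = ⊤ := by
    rcases (inferInstance : (commutator G).Normal).eq_bot_or_eq_top with h | h
    · exfalso
      have hTn : T.Normal := by
        constructor
        intro n hn g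
        have hcen := (commutator_eq_bot_iff_center_eq_top G).1 h
        have hn' : n ∈ Subgroup.center G := by rw [hcen]; trivial
        have := Subgroup.mem_center_iff.1 hn' g
        rw [this, mul_inv_cancel_right]
        exact hn
      rcases hTn.eq_bot_or_eq_top with h1 | h1
      · rw [h1, Subgroup.card_bot] at hT; omega
      · rw [h1, Subgroup.card_top, hG] at hT; omega
    · exact h
  have hne : (S : Subgroup G) ⊓ commutator G ≠ (S : Subgroup G) ⊓
      ⁅Subgroup.normalizer ((S : Subgroup G) : Set G),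
        Subgroup.normalizer ((S : Subgroup G) : Set G)⁆ := by
    rw [hNS, hcomm, inf_top_eq]
    intro heq
    have hle : (S : Subgroup G) ≤ ⁅(S : Subgroup G), (S : Subgroup G)⁆ := inf_eq_left.1 heq.symm
    rw [← Subgroup.map_subtype_commutator] at hle
    have hSp : IsPGroup 3 (S : Subgroup G) := S.2
    have : Nontrivial (S : Subgroup G) := by
      rw [← Finite.one_lt_card_iff_nontrivial]
      show 1 < Nat.card S
      rw [hS]; norm_num
    have hnil : Group.IsNilpotent (S : Subgroup G) := hSp.isNilpotent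
    have hlt := Group.IsSolvable.commutator_lt_top_of_nontrivial (S : Subgroup G)
    apply hlt.ne
    rw [eq_top_iff]
    intro x _
    obtain ⟨y, hy, hyx⟩ := hle x.2
    have : y = x := Subtype.ext hyx
    rw [← this]; exact hy
  obtain ⟨P', f, hf⟩ := Cfsg.Agent.Lib.Helper7.YoshidaTransfer.yoshida_main S hne
  have hP' : Nat.card P' = 81 := by
    have h9 : Nat.card (Equiv.Perm (Fin (3 ^ 2))) = 3 ^ 4 * 4480 := by
      rw [Nat.card_perm, Nat.card_eq_fintype_card, Fintype.card_fin]
      decide
    have := Cfsg.Agent.Lib.Helper4.Sylow.card_sylow_of_card_eq (p := 3) (a := 4) (m := 4480)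
      h9 (by norm_num) P'
    rw [this]; norm_num
  have hle := Nat.card_le_card_of_surjective f hf
  have h1 : Nat.card (S : Subgroup G) = 27 := hS
  have h2 : Nat.card (P' : Subgroup (Equiv.Perm (Fin (3 ^ 2)))) = 81 := hP'
  omega

end yoshida

section config

universe u v

variable {G : Type u} [Group G] [Finite G] [IsSimpleGroup G] {Ω : Type v} [MulAction G Ω]
  [Fintype Ω] [DecidableEq Ω] [IsPreprimitive G Ω]
  (hG : Nat.card G = 4320) (hΩ : Fintype.card Ω = 10)
  (o : Ω) (T : Subgroup G) (hT : Nat.card T = 27) (hTo : ∀ t ∈ T, t • o = o)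

include hG hΩ hT hTo in
/-- a nontrivial abelian subgroup of `T` normalised by the stabilizer of `o` -/
theorem exists_A : ∃ A : Subgroup G, A ≤ T ∧ (∃ a ∈ A, a ≠ 1) ∧
    (∀ a ∈ A, ∀ b ∈ A, a * b = b * a) ∧ (∀ l : G, l • o = o → ∀ a ∈ A, l * a * l⁻¹ ∈ A) := by
  have : Fact (Nat.Prime 3) := ⟨by norm_num⟩
  set L := stabilizer G o with hLdef
  have hL : Nat.card L = 432 := card_stab hG hΩ o
  have hTL : T ≤ L := fun t ht => hTo t ht
  have hP₀ : Nat.card (T.subgroupOf L) = 27 := by
    rw [← hT]
    exact Nat.card_congr (Subgroup.subgroupOfEquivOfLe hTL).toEquiv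
  have hP₀p : IsPGroup 3 (T.subgroupOf L) := IsPGroup.of_card (n := 3) (by rw [hP₀]; norm_num)
  obtain ⟨P, hP₀P⟩ := hP₀p.exists_le_sylow
  have hP : Nat.card P = 27 := by
    have := Cfsg.Agent.Lib.Helper4.Sylow.card_sylow_of_card_eq (p := 3) (a := 3) (m := 16)
      (by rw [hL]; norm_num) (by norm_num) P
    rw [this]; norm_num
  have hPeq : (P : Subgroup L) = T.subgroupOf L :=
    (Subgroup.eq_of_le_of_card_ge hP₀P (by rw [hP₀]; exact hP.le)).symm
  have hN : Nat.card (Subgroup.normalizer ((P : Subgroup L) : Set L)) ≠ 27 := by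
    intro h27
    have hNP : Subgroup.normalizer ((P : Subgroup L) : Set L) = (P : Subgroup L) :=
      (Subgroup.eq_of_le_of_card_ge Subgroup.le_normalizer (by rw [h27]; exact hP.ge)).symm
    apply no_self_normalizing hG T hT
    intro g hg
    have hg' := Subgroup.mem_set_normalizer_iff.1 hg
    have hg'' := Subgroup.mem_set_normalizer_iff''.1 hg
    have hgo : g • o = o := by
      apply T_fix hΩ o T hT hTo
      intro t ht
      have h1 : g⁻¹ * t * g ∈ T := (hg'' t).1 ht
      have h2 := hTo _ h1
      rw [mul_smul, mul_smul] at h2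
      have := congrArg (fun x => g • x) h2
      simpa only [smul_inv_smul] using this
    have hmem : (⟨g, hgo⟩ : L) ∈ Subgroup.normalizer ((P : Subgroup L) : Set L) := by
      rw [Subgroup.mem_set_normalizer_iff]
      intro h
      rw [hPeq]
      simp only [SetLike.mem_coe, Subgroup.mem_subgroupOf]
      exact hg' h
    rw [hNP, hPeq] at hmem
    exact hmem
  obtain ⟨A, hAn, hAP, hAne, hAab⟩ := exists_normal_abelian hL P hN
  refine ⟨A.map L.subtype, ?_, ?_, ?_, ?_⟩
  · rintro _ ⟨a, ha, rfl⟩
    have := hAP ha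
    rw [hPeq] at this
    exact this
  · obtain ⟨a, ha1⟩ := (Subgroup.ne_bot_iff_exists_ne_one).1 hAne
    refine ⟨((a : L) : G), ⟨a, a.2, rfl⟩, ?_⟩
    intro h
    apply ha1
    apply Subtype.ext
    apply Subtype.ext
    exact h
  · rintro _ ⟨a, ha, rfl⟩ _ ⟨b, hb, rfl⟩
    exact congrArg Subtype.val (hAab a ha b hb)
  · rintro l hl _ ⟨a, ha, rfl⟩
    exact ⟨⟨l, hl⟩ * a * ⟨l, hl⟩⁻¹, hAn.conj_mem a ha ⟨l, hl⟩, rfl⟩

end config

end Cfsg.Agent.Lib.Lead.O4320
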