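import Mathlib
import Cfsg.Agent.Lib.Lead.O4320I3

set_option autoImplicit false
set_option linter.unusedSectionVars false
set_option linter.unusedVariables false

/-!
# Order 4320: no subgroup of order 432 (index 10), part 4

The orbits of the normal abelian subgroup `A` on the nine points have equal length 9 or 3; the case
of length 9 (a regular normal subgroup) is excluded by the parity of an involution.
-/

namespace Cfsg.Agent.Lib.Lead.O4320

open MulAction

section gen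

variable {G : Type*} [Group G]

theorem exists_invol_pow (u : G) (hu : u ≠ 1) (h16 : u ^ 16 = 1) :
    ∃ k : ℕ, (u ^ k) ^ 2 = 1 ∧ u ^ k ≠ 1 := by
  by_cases h2 : u ^ 2 = 1
  · exact ⟨1, by rw [pow_one]; exact h2, by rw [pow_one]; exact hu⟩
  by_cases h4 : u ^ 4 = 1
  · exact ⟨2, by rw [← pow_mul]; exact h4, h2⟩
  by_cases h8 : u ^ 8 = 1
  · exact ⟨4, by rw [← pow_mul]; exact h8, h4⟩
  · exact ⟨8, by rw [← pow_mul]; exact h16, h8⟩

theorem exists_two_subgroup [Finite G] (H : Subgroup G) (n : ℕ) (h : 2 ^ n ∣ Nat.card H) :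
    ∃ S : Subgroup G, S ≤ H ∧ Nat.card S = 2 ^ n := by
  have : Fact (Nat.Prime 2) := ⟨Nat.prime_two⟩
  obtain ⟨K, hK⟩ := Sylow.exists_subgroup_card_pow_prime 2 h
  refine ⟨K.map H.subtype, Subgroup.map_subtype_le _, ?_⟩
  rw [Subgroup.card_map_of_injective H.subtype_injective, hK]

end gen

section config

universe u v

variable {G : Type u} [Group G] [Finite G] [IsSimpleGroup G] {Ω : Type v} [MulAction G Ω]
  [Fintype Ω] [DecidableEq Ω] [IsPreprimitive G Ω]
  (hG : Nat.card G = 4320) (hΩ : Fintype.card Ω = 10)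
  (o : Ω) (T : Subgroup G) (hT : Nat.card T = 27) (hTo : ∀ t ∈ T, t • o = o)
  (A : Subgroup G) (hAT : A ≤ T) (hA1 : ∃ a ∈ A, a ≠ 1)
  (hAab : ∀ a ∈ A, ∀ b ∈ A, a * b = b * a)
  (hAn : ∀ l : G, l • o = o → ∀ a ∈ A, l * a * l⁻¹ ∈ A)

include hAn in
theorem smul_orbit_A (l : G) (hl : l • o = o) (β : Ω) :
    (fun ω => l • ω) '' (orbit A β) = orbit A (l • β) := by
  ext ω
  constructor
  · rintro ⟨_, ⟨a, rfl⟩, rfl⟩
    refine ⟨⟨l * a * l⁻¹, hAn l hl a a.2⟩, ?_⟩
    show (l * (a : G) * l⁻¹) • l • β = l • (a : G) • β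
    rw [smul_smul, inv_mul_cancel_right, mul_smul]
  · rintro ⟨a, rfl⟩
    have hl' : l⁻¹ • o = o := by rw [inv_smul_eq_iff, hl]
    have hmem := hAn l⁻¹ hl' a a.2
    rw [inv_inv] at hmem
    refine ⟨(l⁻¹ * (a : G) * l) • β, ⟨⟨_, hmem⟩, rfl⟩, ?_⟩
    show l • (l⁻¹ * (a : G) * l) • β = (a : G) • l • β
    rw [smul_smul, smul_smul, mul_assoc, mul_inv_cancel_left]

include hG hΩ hT hTo hAn in
theorem A_orbit_eq (β γ : Ω) (hβ : β ≠ o) (hγ : γ ≠ o) :
    (orbit A β).ncard = (orbit A γ).ncard := by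
  obtain ⟨t, ht, rfl⟩ := T_trans hG hΩ o T hT hTo β γ hβ hγ
  rw [← smul_orbit_A o A hAn t (hTo t ht) β]
  exact (Set.ncard_image_of_injective _ (MulAction.injective t)).symm

include hG hΩ hT hTo hAT hA1 hAn in
theorem A_orbit_cases : (∀ β : Ω, β ≠ o → (orbit A β).ncard = 9) ∨
    (∀ β : Ω, β ≠ o → (orbit A β).ncard = 3) := by
  have hAo : ∀ a ∈ A, a • o = o := fun a ha => hTo a (hAT ha)
  obtain ⟨β₀, hβ₀⟩ : ∃ β₀ : Ω, β₀ ≠ o := by
    have : Nontrivial Ω := by
      rw [← Fintype.one_lt_card_iff_nontrivial, hΩ]; norm_num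
    exact exists_ne o
  have h1 := orbit_stab' A β₀
  have h2 : Nat.card A ∣ 27 := hT ▸ Subgroup.card_dvd_of_le hAT
  have h3 : (orbit A β₀).ncard ∣ 27 := (Dvd.intro _ h1).trans h2
  have h4 : (orbit A β₀).ncard ≤ 9 := by
    rw [← ncard_compl_pt hΩ o]
    exact Set.ncard_le_ncard (orbit_sub_compl A o hAo β₀ hβ₀)
  have h5 : (orbit A β₀).ncard ≠ 1 := by
    intro h
    obtain ⟨a, ha, ha1⟩ := hA1
    apply ha1
    apply faithful hΩ
    intro ω
    by_cases hω : ω = o
    · rw [hω]; exact hAo a ha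
    · have h6 : (orbit A ω).ncard = 1 := by
        rw [A_orbit_eq hG hΩ o T hT hTo A hAn ω β₀ hω hβ₀, h]
      obtain ⟨x, hx⟩ := Set.ncard_eq_one.1 h6
      have e1 : ω ∈ orbit A ω := mem_orbit_self ω
      have e2 : a • ω ∈ orbit A ω := ⟨⟨a, ha⟩, rfl⟩
      rw [hx] at e1 e2
      rw [Set.mem_singleton_iff.1 e2]; exact (Set.mem_singleton_iff.1 e1).symm
  have h6 : (orbit A β₀).ncard = 9 ∨ (orbit A β₀).ncard = 3 := by
    generalize (orbit A β₀).ncard = n at *
    interval_cases n <;> omega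
  rcases h6 with h | h
  · left
    intro β hβ
    rw [A_orbit_eq hG hΩ o T hT hTo A hAn β β₀ hβ hβ₀, h]
  · right
    intro β hβ
    rw [A_orbit_eq hG hΩ o T hT hTo A hAn β β₀ hβ hβ₀, h]

include hG hΩ hT hTo in
/-- the two-point stabilizer has order 48 -/
theorem card_stab_two (β : Ω) (hβ : β ≠ o) :
    Nat.card (stabilizer G o ⊓ stabilizer G β : Subgroup G) = 48 := by
  have h1 := orbit_stab' (stabilizer G o) β
  rw [card_stab hG hΩ o] at h1
  have h2 : (orbit (stabilizer G o) β).ncard = 9 := by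
    apply le_antisymm
    · rw [← ncard_compl_pt hΩ o]
      exact Set.ncard_le_ncard (orbit_sub_compl (stabilizer G o) o (fun h hh => hh) β hβ)
    · rw [← ncard_compl_pt hΩ o]
      refine Set.ncard_le_ncard (fun γ hγ => ?_) (Set.toFinite _)
      obtain ⟨t, ht, rfl⟩ := T_trans hG hΩ o T hT hTo β γ hβ hγ
      exact mem_orbit_sub.2 ⟨t, hTo t ht, rfl⟩
  rw [h2] at h1
  omega

include hG hΩ hT hTo in
/-- a subgroup of order 16 of the two-point stabilizer -/
theorem exists_S2 (β : Ω) (hβ : β ≠ o) :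
    ∃ S : Subgroup G, Nat.card S = 16 ∧ (∀ s ∈ S, s • o = o) ∧ (∀ s ∈ S, s • β = β) := by
  obtain ⟨S, hS, hcard⟩ := exists_two_subgroup (stabilizer G o ⊓ stabilizer G β : Subgroup G) 4
    (by rw [card_stab_two hG hΩ o T hT hTo β hβ]; norm_num)
  exact ⟨S, by rw [hcard]; norm_num, fun s hs => (hS hs).1, fun s hs => (hS hs).2⟩

include hG hΩ hT hTo hAT hA1 hAab hAn in
theorem case_nine (h9 : ∀ β : Ω, β ≠ o → (orbit A β).ncard = 9) : False := by
  have hAo : ∀ a ∈ A, a • o = o := fun a ha => hTo a (hAT ha)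
  obtain ⟨β, hβ⟩ : ∃ β : Ω, β ≠ o := by
    have : Nontrivial Ω := by
      rw [← Fintype.one_lt_card_iff_nontrivial, hΩ]; norm_num
    exact exists_ne o
  have horb : orbit A β = ({o}ᶜ : Set Ω) :=
    Set.eq_of_subset_of_ncard_le (orbit_sub_compl A o hAo β hβ)
      (by rw [ncard_compl_pt hΩ o, h9 β hβ])
  have htrans : ∀ ω : Ω, ω ≠ o → ∃ a ∈ A, a • β = ω := by
    intro ω hω
    have : ω ∈ orbit A β := by rw [horb]; exact hω
    exact mem_orbit_sub.1 this
  -- `A` is regular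
  have hreg : ∀ a ∈ A, a • β = β → a = 1 := by
    intro a ha hfix
    apply faithful hΩ
    intro ω
    by_cases hω : ω = o
    · rw [hω]; exact hAo a ha
    · obtain ⟨b, hb, rfl⟩ := htrans ω hω
      rw [smul_smul, hAab a ha b hb, mul_smul, hfix]
  have hregeq : ∀ a ∈ A, ∀ b ∈ A, a • β = b • β → a = b := by
    intro a ha b hb h
    have := hreg (b⁻¹ * a) (A.mul_mem (A.inv_mem hb) ha) (by rw [mul_smul, h, inv_smul_smul])
    exact (inv_mul_eq_one.1 this).symm
  have hcardA : Nat.card A = 9 := by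
    have h1 := orbit_stab' A β
    have h2 : (A ⊓ stabilizer G β : Subgroup G) = ⊥ := by
      rw [eq_bot_iff]
      intro a ha
      exact hreg a ha.1 ha.2
    rw [h2, Subgroup.card_bot, h9 β hβ] at h1
    omega
  -- the 2-subgroup
  obtain ⟨S, hS, hSo, hSβ⟩ := exists_S2 hG hΩ o T hT hTo β hβ
  obtain ⟨a₀, ha₀, ha₀1⟩ := hA1
  -- pigeonhole
  obtain ⟨u, huS, hu1, hua⟩ : ∃ u ∈ S, u ≠ 1 ∧ u * a₀ = a₀ * u := by
    let f : S → A := fun s => ⟨(s : G) * a₀ * (s : G)⁻¹, hAn s (hSo s s.2) a₀ ha₀⟩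
    have hninj : ¬ Function.Injective f := by
      intro hinj
      have := Nat.card_le_card_of_injective f hinj
      omega
    rw [Function.not_injective_iff] at hninj
    obtain ⟨s₁, s₂, heq, hne⟩ := hninj
    have heq' : (s₁ : G) * a₀ * (s₁ : G)⁻¹ = (s₂ : G) * a₀ * (s₂ : G)⁻¹ := congrArg Subtype.val heq
    refine ⟨(s₂ : G)⁻¹ * s₁, S.mul_mem (S.inv_mem s₂.2) s₁.2, ?_, ?_⟩
    · intro h
      apply hne
      apply Subtype.ext
      exact (inv_mul_eq_one.1 h).symm
    · have : (s₂ : G)⁻¹ * ((s₁ : G) * a₀ * (s₁ : G)⁻¹) * s₂ = a₀ := by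
        rw [heq']; group
      calc (s₂ : G)⁻¹ * s₁ * a₀ = ((s₂ : G)⁻¹ * ((s₁ : G) * a₀ * (s₁ : G)⁻¹) * s₂) * ((s₂ : G)⁻¹ * s₁) := by group
        _ = a₀ * ((s₂ : G)⁻¹ * s₁) := by rw [this]
  -- an involution
  have hu16 : u ^ 16 = 1 := by
    have := pow_card_eq_one' (G := S) (x := ⟨u, huS⟩)
    rw [hS] at this
    exact congrArg Subtype.val this
  obtain ⟨k, hk2, hk1⟩ := exists_invol_pow u hu1 hu16
  set s := u ^ k with hs
  have hsS : s ∈ S := S.pow_mem huS k
  have hsa : s * a₀ = a₀ * s := (Commute.pow_left (show Commute u a₀ from hua) k).eq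
  have hso : s • o = o := hSo s hsS
  have hsβ : s • β = β := hSβ s hsS
  have hsinv : s⁻¹ • β = β := by rw [inv_smul_eq_iff, hsβ]
  -- the centralizer of `s` in `A`
  set C : Subgroup G := A ⊓ Subgroup.centralizer ({s} : Set G) with hC
  have hCmem : ∀ a, a ∈ C ↔ a ∈ A ∧ s * a = a * s := by
    intro a
    rw [hC, Subgroup.mem_inf, Subgroup.mem_centralizer_iff]
    constructor
    · rintro ⟨h1, h2⟩
      exact ⟨h1, h2 s rfl⟩
    · rintro ⟨h1, h2⟩
      refine ⟨h1, ?_⟩
      intro x hx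
      rw [Set.mem_singleton_iff.1 hx]; exact h2
  have hCA : C ≤ A := inf_le_left
  have hcardC : Nat.card C = 3 := by
    have h1 : Nat.card C ∣ 9 := hcardA ▸ Subgroup.card_dvd_of_le hCA
    have h2 : Nat.card C ≠ 1 := by
      intro h
      have := (Subgroup.card_eq_one.1 h)
      have hm : a₀ ∈ C := (hCmem a₀).2 ⟨ha₀, hsa⟩
      rw [this] at hm
      exact ha₀1 hm
    have h3 : Nat.card C ≠ 9 := by
      intro h
      have hCeq : C = A := Subgroup.eq_of_le_of_card_ge hCA (by rw [h, hcardA])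
      apply hk1
      apply faithful hΩ
      intro ω
      by_cases hω : ω = o
      · rw [hω]; exact hso
      · obtain ⟨b, hb, rfl⟩ := htrans ω hω
        have hbC : b ∈ C := by rw [hCeq]; exact hb
        rw [smul_smul, ((hCmem b).1 hbC).2, mul_smul, hsβ]
    have h4 : Nat.card C ≤ 9 := Nat.le_of_dvd (by norm_num) h1
    generalize Nat.card C = n at *
    interval_cases n <;> omega
  -- the fixed points of `s`
  have hfix : (fixedBy Ω s : Set Ω) = insert o ((fun a : G => a • β) '' (C : Set G)) := by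
    ext ω
    simp only [mem_fixedBy, Set.mem_insert_iff, Set.mem_image, SetLike.mem_coe]
    constructor
    · intro h
      by_cases hω : ω = o
      · left; exact hω
      · right
        obtain ⟨b, hb, rfl⟩ := htrans ω hω
        refine ⟨b, (hCmem b).2 ⟨hb, ?_⟩, rfl⟩
        have h1 : (s * b * s⁻¹) • β = b • β := by
          rw [mul_smul, hsinv, mul_smul]; exact h
        have h2 := hregeq _ (hAn s hso b hb) b hb h1
        calc s * b = (s * b * s⁻¹) * s := by group
          _ = b * s := by rw [h2]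
    · rintro (h | ⟨b, hb, rfl⟩)
      · rw [h]; exact hso
      · rw [smul_smul, ((hCmem b).1 hb).2, mul_smul, hsβ]
  have hcardfix : Nat.card (fixedBy Ω s) = 4 := by
    have hinj : Set.InjOn (fun a : G => a • β) (C : Set G) :=
      fun a ha b hb h => hregeq a (hCA ha) b (hCA hb) h
    rw [Nat.card_coe_set_eq, hfix, Set.ncard_insert_of_notMem, hinj.ncard_image]
    · show Nat.card C + 1 = 4
      rw [hcardC]
    · rintro ⟨b, hb, h⟩
      apply hβ
      have h1 := hAo b (hCA hb)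
      have : b • β = b • o := by rw [h1]; exact h
      exact smul_left_cancel b this
  have hpar := Par.invol_parity (Ω := Ω) s hk2 (Par.sign_toPerm_eq_one (by rw [hG]; norm_num) s)
  rw [hcardfix, hΩ] at hpar
  revert hpar; decide

end config

end Cfsg.Agent.Lib.Lead.O4320
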