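import Mathlib
import Cfsg.Agent.Lib.Lead.O4320I4

set_option autoImplicit false
set_option linter.unusedSectionVars false
set_option linter.unusedVariables false

/-!
# Order 4320: no subgroup of order 432 (index 10), part 5

The case where the orbits of `A` have length 3: a 2-element fixing eight points is a
transposition, which is odd.
-/

namespace Cfsg.Agent.Lib.Lead.O4320

open MulAction
open scoped Pointwise

section config

universe u v

variable {G : Type u} [Group G] [Finite G] [IsSimpleGroup G] {Ω : Type v} [MulAction G Ω]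
  [Fintype Ω] [DecidableEq Ω] [IsPreprimitive G Ω]
  (hG : Nat.card G = 4320) (hΩ : Fintype.card Ω = 10)
  (o : Ω) (T : Subgroup G) (hT : Nat.card T = 27) (hTo : ∀ t ∈ T, t • o = o)
  (A : Subgroup G) (hAT : A ≤ T) (hA1 : ∃ a ∈ A, a ≠ 1)
  (hAab : ∀ a ∈ A, ∀ b ∈ A, a * b = b * a)
  (hAn : ∀ l : G, l • o = o → ∀ a ∈ A, l * a * l⁻¹ ∈ A)

include hΩ in
/-- a point outside a set with fewer than 10 elements -/
theorem exists_notMem (F : Set Ω) (hF : F.ncard < 10) : ∃ ω : Ω, ω ∉ F := by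
  by_contra hcon
  push Not at hcon
  have h1 : F = Set.univ := Set.eq_univ_of_forall hcon
  rw [h1, Set.ncard_univ, Nat.card_eq_fintype_card, hΩ] at hF
  omega

include hG hΩ hT hTo hAT hA1 hAab hAn in
theorem case_three (h3 : ∀ β : Ω, β ≠ o → (orbit A β).ncard = 3) : False := by
  have hAo : ∀ a ∈ A, a • o = o := fun a ha => hTo a (hAT ha)
  -- three blocks
  obtain ⟨β, hβ⟩ : ∃ β : Ω, β ∉ ({o} : Set Ω) := exists_notMem hΩ _ (by rw [Set.ncard_singleton]; norm_num)
  have hβo : β ≠ o := hβ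
  have hB₁ := h3 β hβo
  have hB₁o : o ∉ orbit A β := fun h => orbit_sub_compl A o hAo β hβo h rfl
  obtain ⟨γ, hγ⟩ : ∃ γ : Ω, γ ∉ insert o (orbit A β) :=
    exists_notMem hΩ _ (by rw [Set.ncard_insert_of_notMem hB₁o, hB₁]; norm_num)
  have hγo : γ ≠ o := fun h => hγ (h ▸ Set.mem_insert _ _)
  have hγB₁ : γ ∉ orbit A β := fun h => hγ (Set.mem_insert_of_mem _ h)
  have hB₂ := h3 γ hγo
  have hB₂o : o ∉ orbit A γ := fun h => orbit_sub_compl A o hAo γ hγo h rfl
  have hd12 : Disjoint (orbit A β) (orbit A γ) := by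
    rcases orbit.eq_or_disjoint (G := A) β γ with h | h
    · exact (hγB₁ (h ▸ mem_orbit_self γ)).elim
    · exact h
  have hcard12 : (orbit A β ∪ orbit A γ).ncard = 6 := by
    rw [Set.ncard_union_eq hd12, hB₁, hB₂]
  obtain ⟨δ, hδ⟩ : ∃ δ : Ω, δ ∉ insert o (orbit A β ∪ orbit A γ) :=
    exists_notMem hΩ _ (by
      rw [Set.ncard_insert_of_notMem (by rintro (h | h); exacts [hB₁o h, hB₂o h]), hcard12]
      norm_num)
  have hδo : δ ≠ o := fun h => hδ (h ▸ Set.mem_insert _ _)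
  have hδB₁ : δ ∉ orbit A β := fun h => hδ (Set.mem_insert_of_mem _ (Or.inl h))
  have hδB₂ : δ ∉ orbit A γ := fun h => hδ (Set.mem_insert_of_mem _ (Or.inr h))
  have hB₃ := h3 δ hδo
  have hB₃o : o ∉ orbit A δ := fun h => orbit_sub_compl A o hAo δ hδo h rfl
  have hd13 : Disjoint (orbit A β) (orbit A δ) := by
    rcases orbit.eq_or_disjoint (G := A) β δ with h | h
    · exact (hδB₁ (h ▸ mem_orbit_self δ)).elim
    · exact h
  have hd23 : Disjoint (orbit A γ) (orbit A δ) := by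
    rcases orbit.eq_or_disjoint (G := A) γ δ with h | h
    · exact (hδB₂ (h ▸ mem_orbit_self δ)).elim
    · exact h
  have hd123 : Disjoint (orbit A β ∪ orbit A γ) (orbit A δ) :=
    Set.disjoint_union_left.2 ⟨hd13, hd23⟩
  have hcover : (orbit A β ∪ orbit A γ) ∪ orbit A δ = ({o}ᶜ : Set Ω) := by
    refine Set.eq_of_subset_of_ncard_le ?_ ?_ (Set.toFinite _)
    · rintro ω ((h | h) | h)
      · exact orbit_sub_compl A o hAo β hβo h
      · exact orbit_sub_compl A o hAo γ hγo h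
      · exact orbit_sub_compl A o hAo δ hδo h
    · rw [ncard_compl_pt hΩ o, Set.ncard_union_eq hd123, hcard12, hB₃]
  -- the 2-subgroup
  obtain ⟨S, hS, hSo, hSβ⟩ := exists_S2 hG hΩ o T hT hTo β hβo
  -- elements of `S` preserve the first block
  have himg : ∀ s ∈ S, ∀ ω : Ω, (fun x => s • x) '' (orbit A ω) = orbit A (s • ω) :=
    fun s hs ω => smul_orbit_A o A hAn s (hSo s hs) ω
  have hB₁inv : ∀ s ∈ S, ∀ ω : Ω, s • ω ∈ orbit A β → ω ∈ orbit A β := by
    intro s hs ω hω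
    have h1 := himg s⁻¹ (S.inv_mem hs) β
    have h2 : s⁻¹ • β = β := by rw [inv_smul_eq_iff, hSβ s hs]
    rw [h2] at h1
    rw [← h1]
    exact ⟨s • ω, hω, inv_smul_smul s ω⟩
  have hmove : ∀ s ∈ S, ∀ ω : Ω, ω ≠ o → ω ∉ orbit A β →
      s • ω ∈ orbit A γ ∨ s • ω ∈ orbit A δ := by
    intro s hs ω hωo hωB
    have h1 : s • ω ∈ ({o}ᶜ : Set Ω) := by
      intro h
      apply hωo
      have h2 : s • ω = s • o := by rw [hSo s hs]; exact h
      exact smul_left_cancel s h2
    rw [← hcover] at h1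
    rcases h1 with (h | h) | h
    · exact (hωB (hB₁inv s hs ω h)).elim
    · exact Or.inl h
    · exact Or.inr h
  -- the stabilizer of the second block
  have hSB : ∀ s ∈ S, s • (orbit A γ : Set Ω) = orbit A γ ∨ s • (orbit A γ : Set Ω) = orbit A δ := by
    intro s hs
    rw [← Set.image_smul, himg s hs γ]
    rcases hmove s hs γ hγo hγB₁ with h | h
    · left; exact orbit_eq_iff.2 h
    · right; exact orbit_eq_iff.2 h
  set S' : Subgroup G := S ⊓ stabilizer G (orbit A γ : Set Ω) with hS'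
  have hcardS' : 16 ≤ 2 * Nat.card S' := by
    have h1 := orbit_stab S (orbit A γ : Set Ω)
    rw [hS] at h1
    have h2 : (orbit S (orbit A γ : Set Ω)).ncard ≤ 2 := by
      have hsub : orbit S (orbit A γ : Set Ω) ⊆ {(orbit A γ : Set Ω), (orbit A δ : Set Ω)} := by
        rintro _ ⟨s, rfl⟩
        rcases hSB s s.2 with h | h
        · left; exact h
        · right; exact h
      refine (Set.ncard_le_ncard hsub (Set.toFinite _)).trans ?_
      refine (Set.ncard_insert_le _ _).trans ?_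
      rw [Set.ncard_singleton]
    rw [Nat.card_coe_set_eq] at h1
    have : Nat.card S' = Nat.card (S ⊓ stabilizer G (orbit A γ : Set Ω) : Subgroup G) := rfl
    nlinarith
  have hS'S : S' ≤ S := inf_le_left
  have hS'2 : ∀ s ∈ S', ∀ ω ∈ orbit A γ, s • ω ∈ orbit A γ := by
    intro s hs ω hω
    have h1 : s • (orbit A γ : Set Ω) = orbit A γ := hs.2
    rw [← h1]
    exact Set.smul_mem_smul_set hω
  have hS'3 : ∀ s ∈ S', ∀ ω ∈ orbit A δ, s • ω ∈ orbit A δ := by
    intro s hs ω hω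
    have hsδ : s • δ ∈ orbit A δ := by
      rcases hmove s (hS'S hs) δ hδo hδB₁ with h | h
      · exfalso
        apply hδB₂
        have h1 := hS'2 s⁻¹ (S'.inv_mem hs) _ h
        rwa [inv_smul_smul] at h1
      · exact h
    have h2 := himg s (hS'S hs) δ
    rw [orbit_eq_iff.2 hsδ] at h2
    rw [← h2]
    exact ⟨ω, hω, rfl⟩
  have hS'dvd : Nat.card S' ∣ 16 := hS ▸ Subgroup.card_dvd_of_le hS'S
  -- kernel on the second block
  obtain ⟨K₂, hK₂S', hK₂fix, hK₂idx⟩ := exists_ker S' (orbit A γ) hS'2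
  rw [hB₂] at hK₂idx
  have hK₂2 : K₂.relIndex S' ≤ 2 := by
    have h1 : K₂.relIndex S' ∣ 16 := (Subgroup.relIndex_dvd_card K₂ S').trans hS'dvd
    have := Nat.dvd_gcd hK₂idx h1
    exact Nat.le_of_dvd (by norm_num) this
  have hK₂card := relIndex_mul_card hK₂S'
  have hK₂dvd : Nat.card K₂ ∣ 16 := (Subgroup.card_dvd_of_le hK₂S').trans hS'dvd
  -- kernel on the third block
  obtain ⟨K₃, hK₃K₂, hK₃fix, hK₃idx⟩ := exists_ker K₂ (orbit A δ)
    (fun s hs => hS'3 s (hK₂S' hs))
  rw [hB₃] at hK₃idx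
  have hK₃2 : K₃.relIndex K₂ ≤ 2 := by
    have h1 : K₃.relIndex K₂ ∣ 16 := (Subgroup.relIndex_dvd_card K₃ K₂).trans hK₂dvd
    have := Nat.dvd_gcd hK₃idx h1
    exact Nat.le_of_dvd (by norm_num) this
  have hK₃card := relIndex_mul_card hK₃K₂
  have hgt : 1 < Nat.card K₃ := by
    by_contra hcon
    have : Nat.card K₃ ≤ 1 := by omega
    nlinarith
  obtain ⟨s, hs, hs1⟩ : ∃ s ∈ K₃, s ≠ 1 := by
    have : Nontrivial K₃ := Finite.one_lt_card_iff_nontrivial.1 hgt
    obtain ⟨x, hx⟩ := exists_ne (1 : K₃)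
    exact ⟨x, x.2, fun h => hx (Subtype.ext h)⟩
  have hsS : s ∈ S := hS'S (hK₂S' (hK₃K₂ hs))
  have hF : ∀ ω ∈ insert o (insert β (orbit A γ ∪ orbit A δ)), s • ω = ω := by
    intro ω hω
    rcases hω with rfl | rfl | hω | hω
    · exact hSo s hsS
    · exact hSβ s hsS
    · exact hK₂fix s (hK₃K₂ hs) ω hω
    · exact hK₃fix s hs ω hω
  have hcardF : (insert o (insert β (orbit A γ ∪ orbit A δ))).ncard = 8 := by
    rw [Set.ncard_insert_of_notMem, Set.ncard_insert_of_notMem, Set.ncard_union_eq hd23, hB₂, hB₃]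
    · rintro (h | h)
      · exact hγB₁ (MulAction.mem_orbit_symm.1 h)
      · exact hδB₁ (MulAction.mem_orbit_symm.1 h)
    · rintro (h | h | h)
      · exact hβo h.symm
      · exact hB₂o h
      · exact hB₃o h
  have hsupp := support_card_le s _ hF
  rw [hcardF, hΩ] at hsupp
  exact no_small_support hG hΩ s hs1 (by omega)

end config

end Cfsg.Agent.Lib.Lead.O4320
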