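import Mathlib
import Cfsg.Agent.Lib.Lead.O4320I5

/-!
# Order 4320: a simple group of order 4320 has no subgroup of order 432 (index 10)

The action on the ten cosets is primitive and faithful, by even permutations.  A Sylow 3-subgroup
`T` of the point stabilizer `L` fixes exactly one point; if it is not transitive on the other nine
points, `G` contains a 3-cycle (Jordan: contradiction).  Otherwise `N_G(T) ≤ L`; by Yoshida's
transfer theorem `N_G(T) ≠ T`, so `L` has at most four Sylow 3-subgroups and hence a nontrivial
abelian normal 3-subgroup `A`, with orbits of equal length 9 or 3 on the nine points.  In both cases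
a 2-subgroup of order 16 of the two-point stabilizer contains an odd permutation.
-/

set_option autoImplicit false
set_option linter.unusedSectionVars false
set_option linter.unusedVariables false

namespace Cfsg.Agent.Lib.Lead.O4320

open MulAction

section final

universe u v

theorem config_false {G : Type u} [Group G] [Finite G] [IsSimpleGroup G] {Ω : Type v}
    [MulAction G Ω] [Fintype Ω] [DecidableEq Ω] [IsPreprimitive G Ω]
    (hG : Nat.card G = 4320) (hΩ : Fintype.card Ω = 10) : False := by
  have : Fact (Nat.Prime 3) := ⟨by norm_num⟩
  obtain ⟨o⟩ : Nonempty Ω := by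
    rw [← Fintype.card_pos_iff, hΩ]; norm_num
  have hL := card_stab hG hΩ o
  obtain ⟨K, hK⟩ := Sylow.exists_subgroup_card_pow_prime (G := stabilizer G o) 3 (n := 3)
    (by rw [hL]; norm_num)
  set T : Subgroup G := K.map (stabilizer G o).subtype with hTdef
  have hT : Nat.card T = 27 := by
    rw [hTdef, Subgroup.card_map_of_injective (stabilizer G o).subtype_injective, hK]; norm_num
  have hTo : ∀ t ∈ T, t • o = o := fun t ht => Subgroup.map_subtype_le K ht
  obtain ⟨A, hAT, hA1, hAab, hAn⟩ := exists_A hG hΩ o T hT hTo
  rcases A_orbit_cases hG hΩ o T hT hTo A hAT hA1 hAn with h9 | h3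
  · exact case_nine hG hΩ o T hT hTo A hAT hA1 hAab hAn h9
  · exact case_three hG hΩ o T hT hTo A hAT hA1 hAab hAn h3

/-- **A simple group of order 4320 has no subgroup of order 432.** -/
theorem no_card_432 {G : Type u} [Group G] [Finite G] [IsSimpleGroup G]
    (hn : Nat.card G = 4320) (L : Subgroup G) (hL : Nat.card L = 432) : False := by
  classical
  have hidx : L.index = 10 := by
    have := L.card_mul_index
    rw [hL, hn] at this
    omega
  have hLtop : L ≠ ⊤ := by
    intro h
    rw [h, Subgroup.card_top, hn] at hL
    omega
  have hcoatom : IsCoatom L := by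
    refine ⟨hLtop, fun M hLM => ?_⟩
    by_contra hM
    have h1 := Cfsg.Agent.Lib.Helper4.Sylow.card_dvd_factorial_of_simple M hM
    have h2 : M.index ∣ 10 := hidx ▸ Subgroup.index_dvd_of_le hLM.le
    have h3 : M.index ≠ 10 := by
      intro h
      have hc := M.card_mul_index
      rw [h, hn] at hc
      have hcM : Nat.card M = 432 := by omega
      have : L = M := Subgroup.eq_of_le_of_card_ge hLM.le (by rw [hcM, hL])
      exact hLM.ne this
    have h4 : M.index ≠ 1 := fun h => hM (Subgroup.index_eq_one.1 h)
    have h5 : M.index ≤ 10 := Nat.le_of_dvd (by norm_num) h2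
    rw [hn] at h1
    generalize M.index = k at *
    interval_cases k <;> first | omega | (revert h1; decide)
  have : Fintype (G ⧸ L) := Fintype.ofFinite _
  have hΩ : Fintype.card (G ⧸ L) = 10 := by
    rw [← Nat.card_eq_fintype_card, ← Subgroup.index_eq_card, hidx]
  have : Nontrivial (G ⧸ L) := by
    rw [← Fintype.one_lt_card_iff_nontrivial, hΩ]; norm_num
  have hprim : IsPreprimitive G (G ⧸ L) := by
    rw [← isCoatom_stabilizer_iff_preprimitive G ((1 : G) : G ⧸ L), MulAction.stabilizer_quotient]
    exact hcoatom
  exact config_false (Ω := G ⧸ L) hn hΩ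

end final

end Cfsg.Agent.Lib.Lead.O4320
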