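import Cfsg.Agent.Lib.Helper5.Ree.U1Fix
import Mathlib

/-!
# Cubes in the Sylow 3-subgroup `U¹` of the small Ree group (lead, for S1154)

`(g₀ ζ)³ = g₀³` for `g₀ = x_a(A) x_b(B) ζ₀` and `ζ, ζ₀` in the abelian normal subgroup
`Z = X_{a+b} X_{2a+b} X_{3a+b} X_{3a+2b}`; the cube of the Ree word `x(t,0,0)`.
-/

set_option autoImplicit false

namespace Cfsg.Agent.ReeL

open Cfsg.Lie Cfsg.Agent.Lib.Helper5.Chev Cfsg.Agent.Lib.Helper5.GA Cfsg.Agent.Lib.Helper5.Tw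
open Cfsg.Agent.Lib.Helper5.Ree

/-! ### checks -/

/-- `x_{a+b}(u) x_a(t) = x_a(t) x_{a+b}(u) x_{2a+b}(-t u)` -/
theorem ck_1a : mlEqb 3 DataG2.fd [(8, 1, 0, 1, 0), (7, 1, 1, 0, 0)]
    [(7, 1, 1, 0, 0), (8, 1, 0, 1, 0), (9, -1, 1, 1, 0)] = true := by decide +kernel

/-- `x_{3a+b}(u) x_b(t) = x_b(t) x_{3a+b}(u) x_{3a+2b}(-t u)` -/
theorem ck_3b : mlEqb 3 DataG2.fd [(10, 1, 0, 1, 0), (6, 1, 1, 0, 0)]
    [(6, 1, 1, 0, 0), (10, 1, 0, 1, 0), (11, -1, 1, 1, 0)] = true := by decide +kernel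

theorem ck_comm : commb 3 DataG2.fd 7 9 = true ∧ commb 3 DataG2.fd 7 10 = true ∧
    commb 3 DataG2.fd 7 11 = true ∧ commb 3 DataG2.fd 6 8 = true ∧ commb 3 DataG2.fd 6 9 = true ∧
    commb 3 DataG2.fd 6 11 = true := by decide +kernel

/-- the cube of `x_a(t) x_b(u) x_{a+b}(t u) x_{2a+b}(t² u)` -/
theorem ck_cube : mlEqb 3 DataG2.fd
    [(7, 1, 1, 0, 0), (6, 1, 0, 1, 0), (8, 1, 1, 1, 0), (9, 1, 2, 1, 0),
     (7, 1, 1, 0, 0), (6, 1, 0, 1, 0), (8, 1, 1, 1, 0), (9, 1, 2, 1, 0),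
     (7, 1, 1, 0, 0), (6, 1, 0, 1, 0), (8, 1, 1, 1, 0), (9, 1, 2, 1, 0)]
    [(9, -1, 2, 1, 0), (11, -1, 3, 2, 0)] = true := by decide +kernel

section

variable {K : Type*} [Field K] [CharP K 3]

/-- root elements of `G₂` -/
noncomputable abbrev X (r : ℕ) (c : K) : GL chevG2.Idx K := (hadd2 K).xU r c

theorem swap_1a (A c : K) : X 8 c * X 7 A = X 7 A * X 8 c * X 9 (-(A * c)) := by
  have e := wordU_eq_of_ml 3 DataG2.agrees (hadd2 K) _ _ ck_1a A c (1 : K)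
  simp only [mlEval, List.map_cons, List.map_nil, wordU_cons, wordU_nil, Int.cast_one, one_mul,
    pow_zero, mul_one, pow_one, Int.cast_neg, neg_mul] at e
  rw [e]
  simp only [mul_assoc]

theorem swap_3b (B c : K) : X 10 c * X 6 B = X 6 B * X 10 c * X 11 (-(B * c)) := by
  have e := wordU_eq_of_ml 3 DataG2.agrees (hadd2 K) _ _ ck_3b B c (1 : K)
  simp only [mlEval, List.map_cons, List.map_nil, wordU_cons, wordU_nil, Int.cast_one, one_mul,
    pow_zero, mul_one, pow_one, Int.cast_neg, neg_mul] at e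
  rw [e]
  simp only [mul_assoc]

theorem comm_7_9 (A c : K) : Commute (X 7 A) (X 9 c) :=
  commute_of_check 3 DataG2.agrees (hadd2 K) 7 9 ck_comm.1 A c
theorem comm_7_10 (A c : K) : Commute (X 7 A) (X 10 c) :=
  commute_of_check 3 DataG2.agrees (hadd2 K) 7 10 ck_comm.2.1 A c
theorem comm_7_11 (A c : K) : Commute (X 7 A) (X 11 c) :=
  commute_of_check 3 DataG2.agrees (hadd2 K) 7 11 ck_comm.2.2.1 A c
theorem comm_6_8 (B c : K) : Commute (X 6 B) (X 8 c) :=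
  commute_of_check 3 DataG2.agrees (hadd2 K) 6 8 ck_comm.2.2.2.1 B c
theorem comm_6_9 (B c : K) : Commute (X 6 B) (X 9 c) :=
  commute_of_check 3 DataG2.agrees (hadd2 K) 6 9 ck_comm.2.2.2.2.1 B c
theorem comm_6_11 (B c : K) : Commute (X 6 B) (X 11 c) :=
  commute_of_check 3 DataG2.agrees (hadd2 K) 6 11 ck_comm.2.2.2.2.2 B c

end

section

variable {K : Type*} [Field K] [CharP K 3]

theorem three_eq_zero : (3 : K) = 0 := by
  have := CharP.cast_eq_zero K 3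
  exact_mod_cast this

omit [CharP K 3] in
theorem X_add (r : ℕ) (c d : K) : X r c * X r d = X r (c + d) := xU_add r c d

omit [CharP K 3] in
theorem X_zero (r : ℕ) : X r (0 : K) = 1 := by
  have h := X_add r (0 : K) 0
  rw [add_zero] at h
  exact mul_left_cancel (h.trans (mul_one _).symm)

/-- the elements of the abelian normal subgroup of `U` -/
noncomputable abbrev Z (c1 c2 c3 c4 : K) : GL chevG2.Idx K := X 8 c1 * X 9 c2 * X 10 c3 * X 11 c4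

theorem Z_eq (c1 c2 c3 c4 : K) : Z c1 c2 c3 c4 = (posSide (hadd2 K)).z c1 c2 c3 c4 := rfl

theorem Z_mul (c1 c2 c3 c4 d1 d2 d3 d4 : K) :
    Z c1 c2 c3 c4 * Z d1 d2 d3 d4 = Z (c1 + d1) (c2 + d2) (c3 + d3) (c4 + d4) := by
  rw [Z_eq, Z_eq, Z_eq, Side.z_mul]

theorem Z_comm (c1 c2 c3 c4 d1 d2 d3 d4 : K) :
    Z c1 c2 c3 c4 * Z d1 d2 d3 d4 = Z d1 d2 d3 d4 * Z c1 c2 c3 c4 := by
  rw [Z_mul, Z_mul, add_comm c1, add_comm c2, add_comm c3, add_comm c4]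

omit [CharP K 3] in
theorem Z_zero : Z (0 : K) 0 0 0 = 1 := by
  unfold Z
  rw [X_zero, X_zero, X_zero, X_zero, mul_one, mul_one, mul_one]

theorem Z_mul_Xa (c1 c2 c3 c4 A : K) :
    Z c1 c2 c3 c4 * X 7 A = X 7 A * Z c1 (c2 - A * c1) c3 c4 := by
  have h : Commute (X 7 A) (X 9 c2 * X 10 c3 * X 11 c4) :=
    ((comm_7_9 A c2).mul_right (comm_7_10 A c3)).mul_right (comm_7_11 A c4)
  calc Z c1 c2 c3 c4 * X 7 A
      = X 8 c1 * ((X 9 c2 * X 10 c3 * X 11 c4) * X 7 A) := by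
        unfold Z; simp only [mul_assoc]
    _ = X 8 c1 * (X 7 A * (X 9 c2 * X 10 c3 * X 11 c4)) := by rw [h.eq]
    _ = (X 8 c1 * X 7 A) * (X 9 c2 * X 10 c3 * X 11 c4) := by simp only [mul_assoc]
    _ = (X 7 A * X 8 c1 * X 9 (-(A * c1))) * (X 9 c2 * X 10 c3 * X 11 c4) := by rw [swap_1a]
    _ = X 7 A * (X 8 c1 * (X 9 (-(A * c1)) * X 9 c2) * X 10 c3 * X 11 c4) := by
        simp only [mul_assoc]
    _ = X 7 A * Z c1 (c2 - A * c1) c3 c4 := by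
        rw [X_add]
        unfold Z
        have : -(A * c1) + c2 = c2 - A * c1 := by ring
        rw [this]

theorem Z_mul_Xb (c1 c2 c3 c4 B : K) :
    Z c1 c2 c3 c4 * X 6 B = X 6 B * Z c1 c2 c3 (c4 - B * c3) := by
  have h : Commute (X 6 B) (X 8 c1 * X 9 c2) := (comm_6_8 B c1).mul_right (comm_6_9 B c2)
  calc Z c1 c2 c3 c4 * X 6 B
      = X 8 c1 * X 9 c2 * X 10 c3 * (X 11 c4 * X 6 B) := by
        unfold Z; simp only [mul_assoc]
    _ = X 8 c1 * X 9 c2 * X 10 c3 * (X 6 B * X 11 c4) := by rw [(comm_6_11 B c4).eq]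
    _ = X 8 c1 * X 9 c2 * (X 10 c3 * X 6 B) * X 11 c4 := by simp only [mul_assoc]
    _ = X 8 c1 * X 9 c2 * (X 6 B * X 10 c3 * X 11 (-(B * c3))) * X 11 c4 := by rw [swap_3b]
    _ = (X 8 c1 * X 9 c2 * X 6 B) * X 10 c3 * (X 11 (-(B * c3)) * X 11 c4) := by
        simp only [mul_assoc]
    _ = (X 6 B * (X 8 c1 * X 9 c2)) * X 10 c3 * (X 11 (-(B * c3)) * X 11 c4) := by rw [h.eq]
    _ = X 6 B * Z c1 c2 c3 (c4 - B * c3) := by
        rw [X_add]
        unfold Z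
        have : -(B * c3) + c4 = c4 - B * c3 := by ring
        rw [this]
        simp only [mul_assoc]

/-- moving an element of `Z` to the right of an element of `U` -/
theorem Z_mul_g (A B d1 d2 d3 d4 c1 c2 c3 c4 : K) :
    Z c1 c2 c3 c4 * (X 7 A * X 6 B * Z d1 d2 d3 d4)
      = (X 7 A * X 6 B * Z d1 d2 d3 d4) * Z c1 (c2 - A * c1) c3 (c4 - B * c3) := by
  calc Z c1 c2 c3 c4 * (X 7 A * X 6 B * Z d1 d2 d3 d4)
      = (Z c1 c2 c3 c4 * X 7 A) * X 6 B * Z d1 d2 d3 d4 := by simp only [mul_assoc]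
    _ = X 7 A * (Z c1 (c2 - A * c1) c3 c4 * X 6 B) * Z d1 d2 d3 d4 := by
        rw [Z_mul_Xa]; simp only [mul_assoc]
    _ = X 7 A * X 6 B * (Z c1 (c2 - A * c1) c3 (c4 - B * c3) * Z d1 d2 d3 d4) := by
        rw [Z_mul_Xb]; simp only [mul_assoc]
    _ = _ := by rw [Z_comm]; simp only [mul_assoc]

/-- `(g₀ ζ)³ = g₀³` -/
theorem cube_mul_Z (A B d1 d2 d3 d4 c1 c2 c3 c4 : K) :
    ((X 7 A * X 6 B * Z d1 d2 d3 d4) * Z c1 c2 c3 c4) ^ 3
      = (X 7 A * X 6 B * Z d1 d2 d3 d4) ^ 3 := by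
  set g := X 7 A * X 6 B * Z d1 d2 d3 d4 with hg
  have h3 := three_eq_zero (K := K)
  calc (g * Z c1 c2 c3 c4) ^ 3
      = g * (Z c1 c2 c3 c4 * g) * (Z c1 c2 c3 c4 * g) * Z c1 c2 c3 c4 := by
        rw [pow_succ, pow_two]; simp only [mul_assoc]
    _ = g * (g * Z c1 (c2 - A * c1) c3 (c4 - B * c3)) * (g * Z c1 (c2 - A * c1) c3 (c4 - B * c3))
          * Z c1 c2 c3 c4 := by rw [hg, Z_mul_g]
    _ = g * g * (Z c1 (c2 - A * c1) c3 (c4 - B * c3) * g)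
          * (Z c1 (c2 - A * c1) c3 (c4 - B * c3) * Z c1 c2 c3 c4) := by simp only [mul_assoc]
    _ = g * g * (g * Z c1 (c2 - A * c1 - A * c1) c3 (c4 - B * c3 - B * c3))
          * (Z c1 (c2 - A * c1) c3 (c4 - B * c3) * Z c1 c2 c3 c4) := by rw [hg, Z_mul_g]
    _ = g * g * g * (Z c1 (c2 - A * c1 - A * c1) c3 (c4 - B * c3 - B * c3)
          * (Z c1 (c2 - A * c1) c3 (c4 - B * c3) * Z c1 c2 c3 c4)) := by simp only [mul_assoc]
    _ = g ^ 3 := by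
        rw [Z_mul, Z_mul]
        have e1 : c1 + (c1 + c1) = 0 := by linear_combination c1 * h3
        have e2 : c2 - A * c1 - A * c1 + (c2 - A * c1 + c2) = 0 := by
          linear_combination (c2 - A * c1) * h3
        have e3 : c3 + (c3 + c3) = 0 := by linear_combination c3 * h3
        have e4 : c4 - B * c3 - B * c3 + (c4 - B * c3 + c4) = 0 := by
          linear_combination (c4 - B * c3) * h3
        rw [e1, e2, e3, e4, Z_zero, mul_one, pow_succ, pow_two]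

/-- the cube of `x_a(s) x_b(t) x_{a+b}(s t) x_{2a+b}(s² t)` -/
theorem cube_base (s t : K) :
    (X 7 s * X 6 t * Z (s * t) (s ^ 2 * t) 0 0) ^ 3 = Z 0 (-(s ^ 2 * t)) 0 (-(s ^ 3 * t ^ 2)) := by
  have e := wordU_eq_of_ml 3 DataG2.agrees (hadd2 K) _ _ ck_cube s t (1 : K)
  simp only [mlEval, List.map_cons, List.map_nil, wordU_cons, wordU_nil, Int.cast_one, one_mul,
    pow_zero, mul_one, pow_one, Int.cast_neg, neg_mul] at e
  unfold Z
  simp only [X_zero, mul_one, one_mul]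
  rw [pow_succ, pow_two]
  simp only [mul_assoc] at e ⊢
  exact e

end

section

variable {K : Type*} [Field K] [Fintype K] [CharP K 3] {m : ℕ}

omit [Fintype K] in
theorem wordU_w6_pos (a7 a6 a8 a9 a10 a11 : K) :
    (hadd2 K).wordU ((posSide (hadd2 K)).w6 a7 a6 a8 a9 a10 a11)
      = X 7 a7 * X 6 a6 * Z a8 a9 a10 a11 := Side.wordU_w6 _ _ _ _ _ _ _

omit [Fintype K] in
theorem wordU_rw (t u v : K) :
    (hadd2 K).wordU ((posSide (hadd2 K)).rw m t u v)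
      = (X 7 (ph1 K m t) * X 6 t * Z (ph1 K m t * t) ((ph1 K m t) ^ 2 * t) 0 0)
        * Z (ph1 K m u) (ph1 K m v) u v := by
  unfold Side.rw
  rw [wordU_w6_pos, mul_assoc (X 7 (ph1 K m t) * X 6 t), Z_mul]
  show X 7 (ph1 K m t) * X 6 t * Z (ph1 K m u + 1 * (ph1 K m t * t))
      (ph1 K m v + 1 * ((ph1 K m t) ^ 2 * t)) u v = _
  rw [one_mul, one_mul, zero_add, zero_add, add_comm (ph1 K m u), add_comm (ph1 K m v)]

omit [Fintype K] in
/-- the cube of a Ree word -/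
theorem cube_rw (t u v : K) :
    ((hadd2 K).wordU ((posSide (hadd2 K)).rw m t u v)) ^ 3
      = Z 0 (-((ph1 K m t) ^ 2 * t)) 0 (-((ph1 K m t) ^ 3 * t ^ 2)) := by
  rw [wordU_rw, cube_mul_Z, cube_base]

theorem Z_eq_one_iff (c1 c2 c3 c4 : K) : Z c1 c2 c3 c4 = 1 ↔ c1 = 0 ∧ c2 = 0 ∧ c3 = 0 ∧ c4 = 0 := by
  constructor
  · intro h
    have h1 : (hadd2 K).wordU ((posSide (hadd2 K)).w6 0 0 c1 c2 c3 c4)
        = (hadd2 K).wordU ((posSide (hadd2 K)).w6 0 0 0 0 0 0) := by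
      rw [wordU_w6_pos, wordU_w6_pos, X_zero, X_zero, one_mul, one_mul, h, Z_zero, one_mul]
    obtain ⟨-, -, e1, e2, e3, e4⟩ := w6_injective _ _ _ _ _ _ _ _ _ _ _ _ h1
    exact ⟨e1, e2, e3, e4⟩
  · rintro ⟨rfl, rfl, rfl, rfl⟩
    exact Z_zero

theorem cube_rw_eq_one_iff (t u v : K) :
    ((hadd2 K).wordU ((posSide (hadd2 K)).rw m t u v)) ^ 3 = 1 ↔ t = 0 := by
  rw [cube_rw, Z_eq_one_iff]
  constructor
  · rintro ⟨-, h, -, -⟩
    rw [neg_eq_zero, ph1_apply] at h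
    rcases mul_eq_zero.1 h with h | h
    · exact (pow_eq_zero_iff (by positivity)).1 ((pow_eq_zero_iff (by norm_num)).1 h)
    · exact h
  · rintro rfl
    rw [map_zero]
    refine ⟨rfl, ?_, rfl, ?_⟩ <;> simp

theorem rw_eq_one_iff (t u v : K) :
    (hadd2 K).wordU ((posSide (hadd2 K)).rw m t u v) = 1 ↔ t = 0 ∧ u = 0 ∧ v = 0 := by
  constructor
  · intro h
    have h1 : (hadd2 K).wordU ((posSide (hadd2 K)).rw m t u v)
        = (hadd2 K).wordU ((posSide (hadd2 K)).w6 0 0 0 0 0 0) := by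
      rw [h, wordU_w6_pos, X_zero, X_zero, one_mul, one_mul, Z_zero]
    unfold Side.rw at h1
    obtain ⟨-, e6, -, -, e10, e11⟩ := w6_injective _ _ _ _ _ _ _ _ _ _ _ _ h1
    exact ⟨e6, e10, e11⟩
  · rintro ⟨rfl, rfl, rfl⟩
    rw [wordU_rw, map_zero]
    simp only [mul_zero, ne_eq, OfNat.ofNat_ne_zero, not_false_eq_true, zero_pow]
    rw [X_zero, X_zero, Z_zero, mul_one, mul_one, mul_one]

/-- a Ree word has order 3 iff `t = 0` and `(u, v) ≠ 0` -/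
theorem orderOf_rw_eq_three_iff (t u v : K) :
    orderOf ((hadd2 K).wordU ((posSide (hadd2 K)).rw m t u v)) = 3 ↔ t = 0 ∧ ¬ (u = 0 ∧ v = 0) := by
  have : Fact (Nat.Prime 3) := ⟨Nat.prime_three⟩
  constructor
  · intro h
    have h1 : ((hadd2 K).wordU ((posSide (hadd2 K)).rw m t u v)) ^ 3 = 1 := by
      rw [← h]; exact pow_orderOf_eq_one _
    have ht := (cube_rw_eq_one_iff t u v).1 h1
    refine ⟨ht, fun huv => ?_⟩
    have h2 := (rw_eq_one_iff (m := m) t u v).2 ⟨ht, huv.1, huv.2⟩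
    rw [h2, orderOf_one] at h
    norm_num at h
  · rintro ⟨ht, huv⟩
    apply orderOf_eq_prime
    · exact (cube_rw_eq_one_iff t u v).2 ht
    · intro h
      obtain ⟨-, hu, hv⟩ := (rw_eq_one_iff t u v).1 h
      exact huv ⟨hu, hv⟩

end

end Cfsg.Agent.ReeL
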