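import Cfsg.Agent.Lib.Lead.ChevAutB1
import Cfsg.Agent.Lib.Helper5.Chev.DiagProd
import Cfsg.Agent.Lib.Helper5.Chev.CmAll
import Cfsg.Agent.Lib.Helper5.Chev.RcAll
import Mathlib

/-!
# Rank one and torus relations for products of orthogonal fundamental root elements (lead)

For a list `L` of indices of pairwise orthogonal fundamental roots and arbitrary parameter families
`a b : ℕ → F`, put `XJ a = ∏_{i ∈ L} x_{p_i}(a i)`, `YJ b = ∏ x_{-p_i}(b i)`.  This is the shape of
the root elements of the twisted groups `³D₄` (`L = [0, 2, 3]`, `a i = t^(q^k)`) and `²E₆`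
(`L = [0, 5]`, `[2, 4]`).  Main results, all on the level of matrices:

* `rank_one`, `rank_one'` (R1): `M = XJ a * YJ b * XJ a`, `M * XJ s = YJ c * M` force
  `c_i (1 + a_i b_i)² = 0` for every `i ∈ L`;
* `NJ_eq` (R2): `XJ a * YJ (-a⁻¹) * XJ a = (∏ h_{p_i}(a_i)) * (XJ 1 * YJ (-1) * XJ 1)`;
* `dProdL_conj_x`, `dProdL_conj_XJ`, `dProdL_conj_YJ`: conjugation by `∏ h_{p_i}(a_i)`;
* namespace `D4`: the instances for `³D₄` (`xA`, `yA`, `nA`, `hA`, `hB`, `rank_one_A`, `nA_eq`,
  `hA_xA`, `hA_yA`, `hA_xB`, `hA_yB`, `hB_xA`, `hB_yA`, `hB_xB`, `hB_yB`, `nB_eq`).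
-/

set_option autoImplicit false

namespace Cfsg.Agent.TwRankOne
open Cfsg Cfsg.Lie Cfsg.Agent.Lib.Helper5.Chev Cfsg.Agent.ChevAut
open scoped Matrix

variable {F : Type*} [Field F] {D : ChevalleyDatum}

/-! ### entries of root elements -/

theorem xMat_lr_self (r : Fin D.nroots) (t : F) (k : Fin D.rank) :
    D.xMat F r t (Sum.inl k) (Sum.inr r) = 0 := by
  rw [xMat_lr]; simp

theorem xMat_rr_other (r s : Fin D.nroots) (hne : s ≠ r) (hneg : s.val ≠ D.negIdx.getD r.val 0)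
    (t : F) (u : Fin D.nroots) :
    D.xMat F r t (Sum.inr u) (Sum.inr s) = (if u = s then 1 else 0) +
      ((D.chainCoeff r.val s.val u.val).map fun km => ((km.2 : ℤ) : F) * t ^ km.1).sum := by
  simp only [ChevalleyDatum.xMat, Matrix.of_apply]
  rw [if_neg hne, if_neg hneg]

theorem xMat_lr_other (r s : Fin D.nroots) (hneg : s.val ≠ D.negIdx.getD r.val 0)
    (t : F) (k : Fin D.rank) : D.xMat F r t (Sum.inl k) (Sum.inr s) = 0 := by
  rw [xMat_lr, if_neg]
  exact fun h => hneg h.1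

theorem xMat_rl_other (r s : Fin D.nroots) (hne : s ≠ r) (t : F) (k : Fin D.rank) :
    D.xMat F r t (Sum.inr s) (Sum.inl k) = 0 := by
  rw [xMat_rl, if_neg hne]

/-! ### columns and rows of root elements -/

theorem col_self (r : Fin D.nroots) (t : F) :
    D.xMat F r t *ᵥ Pi.single (Sum.inr r) 1 = Pi.single (Sum.inr r) 1 := by
  rw [Matrix.mulVec_single_one]
  ext y
  rcases y with i | u
  · rw [Matrix.col_apply, xMat_lr_self]; simp
  · rw [Matrix.col_apply, xMat_rr_self]; simp [Pi.single_apply]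

theorem col_fix (r s : Fin D.nroots) (hne : s ≠ r) (hneg : s.val ≠ D.negIdx.getD r.val 0)
    (hch : ∀ u : Fin D.nroots, D.chainCoeff r.val s.val u.val = []) (t : F) :
    D.xMat F r t *ᵥ Pi.single (Sum.inr s) 1 = Pi.single (Sum.inr s) 1 := by
  rw [Matrix.mulVec_single_one]
  ext y
  rcases y with i | u
  · rw [Matrix.col_apply, xMat_lr_other r s hneg]; simp
  · rw [Matrix.col_apply, xMat_rr_other r s hne hneg, hch u]; simp [Pi.single_apply]

theorem row_fix (r s : Fin D.nroots) (hne : s ≠ r)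
    (hch : ∀ v : Fin D.nroots, D.chainCoeff r.val v.val s.val = []) (t : F) :
    Pi.single (Sum.inr s) 1 ᵥ* D.xMat F r t = Pi.single (Sum.inr s) 1 := by
  rw [Matrix.single_one_vecMul]
  ext y
  rcases y with i | v
  · rw [Matrix.row_apply, xMat_rl_other r s hne]; simp
  · rw [Matrix.row_apply]
    by_cases h1 : v = r
    · subst h1
      rw [xMat_rr_self, if_neg hne]
      simp [Pi.single_apply, hne.symm]
    · by_cases h2 : v.val = D.negIdx.getD r.val 0
      · rw [xMat_rr_neg r v h1 h2, if_neg hne]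
        simp [Pi.single_apply, eq_comm]
      · rw [xMat_rr_other r v h1 h2, hch v]
        simp [Pi.single_apply, eq_comm]

theorem row_h_fix (r : Fin D.nroots) (i : Fin D.rank)
    (hcor : (D.coroot.getD r.val #[]).getD i.val 0 = 0) (t : F) :
    Pi.single (Sum.inl i) 1 ᵥ* D.xMat F r t = Pi.single (Sum.inl i) 1 := by
  rw [Matrix.single_one_vecMul]
  ext y
  rcases y with k | s
  · rw [Matrix.row_apply, xMat_ll]; simp [Pi.single_apply, eq_comm]
  · rw [Matrix.row_apply, xMat_lr, hcor]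
    simp

theorem row_h_self (q r : Fin D.nroots) (i : Fin D.rank) (hr : r.val = D.negIdx.getD q.val 0)
    (hne : r ≠ q) (hcor : (D.coroot.getD q.val #[]).getD i.val 0 = -1) (c : F) :
    Pi.single (Sum.inl i) 1 ᵥ* D.xMat F q c
      = Pi.single (Sum.inl i) 1 - c • Pi.single (Sum.inr r) 1 := by
  rw [Matrix.single_one_vecMul]
  ext y
  rcases y with k | s
  · rw [Matrix.row_apply, xMat_ll]; simp [Pi.single_apply, eq_comm]
  · rw [Matrix.row_apply, xMat_lr, hcor]
    by_cases hs : s = r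
    · subst hs
      rw [if_pos ⟨hr, hne⟩]
      simp [Pi.single_apply]
    · rw [if_neg (fun h => hs (Fin.ext (h.1.trans hr.symm)))]
      simp [Pi.single_apply, hs]


/-! ### orthogonal fundamental roots, at the level of the tables -/

/-- table-level facts on an ordered pair `(j, k)` of distinct orthogonal fundamental roots -/
def OrthPair (D : ChevalleyDatum) (j k : ℕ) : Prop :=
  j ≠ k ∧
  D.commTerms (D.simple j) (D.simple k) = [] ∧
  D.commTerms (D.simple j) (D.neg (D.simple k)) = [] ∧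
  D.commTerms (D.neg (D.simple j)) (D.simple k) = [] ∧
  D.commTerms (D.neg (D.simple j)) (D.neg (D.simple k)) = [] ∧
  D.simple k ≠ D.simple j ∧ D.simple k ≠ D.neg (D.simple j) ∧
  D.neg (D.simple k) ≠ D.simple j ∧ D.neg (D.simple k) ≠ D.neg (D.simple j) ∧
  (∀ u < D.nroots, D.chainCoeff (D.simple j) (D.simple k) u = []) ∧
  (∀ u < D.nroots, D.chainCoeff (D.neg (D.simple j)) (D.simple k) u = []) ∧
  (∀ v < D.nroots, D.chainCoeff (D.neg (D.simple j)) v (D.simple k) = [])

instance (D : ChevalleyDatum) (j k : ℕ) : Decidable (OrthPair D j k) := by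
  unfold OrthPair; infer_instance

/-- the symmetric version -/
def Orth (D : ChevalleyDatum) (j k : ℕ) : Prop := OrthPair D j k ∧ OrthPair D k j

instance (D : ChevalleyDatum) (j k : ℕ) : Decidable (Orth D j k) := by
  unfold Orth; infer_instance

theorem Orth.symm {j k : ℕ} (h : Orth D j k) : Orth D k j := ⟨h.2, h.1⟩

theorem Orth.ne {j k : ℕ} (h : Orth D j k) : j ≠ k := h.1.1

/-- root elements with no terms in the commutator formula commute -/
theorem x_commute (hD : D ∈ [chevG2, chevB2, chevD4, chevF4, chevE6, chevE7, chevE8])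
    (r s : ℕ) (hr : r < D.nroots) (hs : s < D.nroots) (hne : s ≠ r)
    (hneg : s ≠ D.neg r) (hc : D.commTerms r s = []) (t u : F) :
    Commute (D.x F r t) (D.x F s u) := by
  have h := comm_formula D hD r s hr hs hne hneg t u
  unfold ChevalleyDatum.commWord at h
  rw [hc, List.map_nil] at h
  unfold ChevalleyDatum.wordMat at h
  rw [List.map_nil, List.prod_nil, Matrix.mul_one] at h
  exact h.symm

section orth

variable (hD : D ∈ [chevG2, chevB2, chevD4, chevF4, chevE6, chevE7, chevE8])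
include hD

theorem neg_neg_simple (i : ℕ) (hi : i < D.rank) : D.neg (D.neg (D.simple i)) = D.simple i :=
  (rk1b_spec (rk1_known D hD) i hi).1

theorem neg_simple_ne (i : ℕ) (hi : i < D.rank) : D.neg (D.simple i) ≠ D.simple i :=
  (rk1b_spec (rk1_known D hD) i hi).2.1

theorem coroot_neg_simple (i : ℕ) (hi : i < D.rank) (k : ℕ) (hk : k < D.rank) :
    (D.coroot.getD (D.neg (D.simple i)) #[]).getD k 0 = if k = i then -1 else 0 :=
  (rk1b_spec (rk1_known D hD) i hi).2.2 k hk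

/-- the four commutations between `x_{±p_j}` and `x_{±p_k}` -/
theorem Orth.comm_pp {j k : ℕ} (h : Orth D j k) (hj : j < D.rank) (hk : k < D.rank) (t u : F) :
    Commute (D.x F (D.simple j) t) (D.x F (D.simple k) u) := by
  obtain ⟨-, c1, -, -, -, d1, d2, -, -, -⟩ := h.1
  exact x_commute hD _ _ (simple_lt_all D hD j hj).1 (simple_lt_all D hD k hk).1 d1 d2 c1 t u

theorem Orth.comm_pm {j k : ℕ} (h : Orth D j k) (hj : j < D.rank) (hk : k < D.rank) (t u : F) :
    Commute (D.x F (D.simple j) t) (D.x F (D.neg (D.simple k)) u) := by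
  obtain ⟨-, -, c2, -, -, -, -, d3, d4, -⟩ := h.1
  exact x_commute hD _ _ (simple_lt_all D hD j hj).1 (simple_lt_all D hD k hk).2 d3 d4 c2 t u

theorem Orth.comm_mp {j k : ℕ} (h : Orth D j k) (hj : j < D.rank) (hk : k < D.rank) (t u : F) :
    Commute (D.x F (D.neg (D.simple j)) t) (D.x F (D.simple k) u) := by
  obtain ⟨-, -, -, c3, -, d1, d2, -, -, -⟩ := h.1
  refine x_commute hD _ _ (simple_lt_all D hD j hj).2 (simple_lt_all D hD k hk).1 d2 ?_ c3 t u
  rw [neg_neg_simple hD j hj]; exact d1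

theorem Orth.comm_mm {j k : ℕ} (h : Orth D j k) (hj : j < D.rank) (hk : k < D.rank) (t u : F) :
    Commute (D.x F (D.neg (D.simple j)) t) (D.x F (D.neg (D.simple k)) u) := by
  obtain ⟨-, -, -, -, c4, -, -, d3, d4, -⟩ := h.1
  refine x_commute hD _ _ (simple_lt_all D hD j hj).2 (simple_lt_all D hD k hk).2 d4 ?_ c4 t u
  rw [neg_neg_simple hD j hj]; exact d3

end orth


/-! ### products over a list of pairwise orthogonal fundamental roots -/

/-- `∏_{i ∈ L} x_{p_i}(a i)` -/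
def XJ (F : Type*) [Field F] (D : ChevalleyDatum) (L : List ℕ) (a : ℕ → F) : Matrix D.Idx D.Idx F :=
  (L.map fun i => D.x F (D.simple i) (a i)).prod

/-- `∏_{i ∈ L} x_{-p_i}(b i)` -/
def YJ (F : Type*) [Field F] (D : ChevalleyDatum) (L : List ℕ) (b : ℕ → F) : Matrix D.Idx D.Idx F :=
  (L.map fun i => D.x F (D.neg (D.simple i)) (b i)).prod

/-- `x_{p_i}(a) x_{-p_i}(b) x_{p_i}(a)` -/
def M1 (F : Type*) [Field F] (D : ChevalleyDatum) (i : ℕ) (a b : F) : Matrix D.Idx D.Idx F :=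
  D.x F (D.simple i) a * D.x F (D.neg (D.simple i)) b * D.x F (D.simple i) a

/-- `XJ a * YJ b * XJ a` -/
def MJ (F : Type*) [Field F] (D : ChevalleyDatum) (L : List ℕ) (a b : ℕ → F) : Matrix D.Idx D.Idx F :=
  XJ F D L a * YJ F D L b * XJ F D L a

theorem XJ_nil (a : ℕ → F) : XJ F D [] a = 1 := rfl
theorem YJ_nil (a : ℕ → F) : YJ F D [] a = 1 := rfl
theorem XJ_cons (j : ℕ) (L : List ℕ) (a : ℕ → F) :
    XJ F D (j :: L) a = D.x F (D.simple j) (a j) * XJ F D L a := by
  unfold XJ; rw [List.map_cons, List.prod_cons]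
theorem YJ_cons (j : ℕ) (L : List ℕ) (a : ℕ → F) :
    YJ F D (j :: L) a = D.x F (D.neg (D.simple j)) (a j) * YJ F D L a := by
  unfold YJ; rw [List.map_cons, List.prod_cons]

section orth2

variable (hD : D ∈ [chevG2, chevB2, chevD4, chevF4, chevE6, chevE7, chevE8])
include hD

theorem commute_x_XJ {j : ℕ} (hj : j < D.rank) (L : List ℕ) (hL : ∀ k ∈ L, k < D.rank)
    (ho : ∀ k ∈ L, Orth D j k) (t : F) (a : ℕ → F) :
    Commute (D.x F (D.simple j) t) (XJ F D L a) := by
  unfold XJ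
  apply Commute.list_prod_right
  intro g hg
  rw [List.mem_map] at hg
  obtain ⟨k, hk, rfl⟩ := hg
  exact (ho k hk).comm_pp hD hj (hL k hk) t (a k)

theorem commute_x_YJ {j : ℕ} (hj : j < D.rank) (L : List ℕ) (hL : ∀ k ∈ L, k < D.rank)
    (ho : ∀ k ∈ L, Orth D j k) (t : F) (a : ℕ → F) :
    Commute (D.x F (D.simple j) t) (YJ F D L a) := by
  unfold YJ
  apply Commute.list_prod_right
  intro g hg
  rw [List.mem_map] at hg
  obtain ⟨k, hk, rfl⟩ := hg
  exact (ho k hk).comm_pm hD hj (hL k hk) t (a k)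

theorem commute_y_XJ {j : ℕ} (hj : j < D.rank) (L : List ℕ) (hL : ∀ k ∈ L, k < D.rank)
    (ho : ∀ k ∈ L, Orth D j k) (t : F) (a : ℕ → F) :
    Commute (D.x F (D.neg (D.simple j)) t) (XJ F D L a) := by
  unfold XJ
  apply Commute.list_prod_right
  intro g hg
  rw [List.mem_map] at hg
  obtain ⟨k, hk, rfl⟩ := hg
  exact (ho k hk).comm_mp hD hj (hL k hk) t (a k)

theorem commute_y_YJ {j : ℕ} (hj : j < D.rank) (L : List ℕ) (hL : ∀ k ∈ L, k < D.rank)
    (ho : ∀ k ∈ L, Orth D j k) (t : F) (a : ℕ → F) :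
    Commute (D.x F (D.neg (D.simple j)) t) (YJ F D L a) := by
  unfold YJ
  apply Commute.list_prod_right
  intro g hg
  rw [List.mem_map] at hg
  obtain ⟨k, hk, rfl⟩ := hg
  exact (ho k hk).comm_mm hD hj (hL k hk) t (a k)

/-- `M_{j :: L} = M_j * M_L` -/
theorem MJ_cons {j : ℕ} (hj : j < D.rank) (L : List ℕ) (hL : ∀ k ∈ L, k < D.rank)
    (ho : ∀ k ∈ L, Orth D j k) (a b : ℕ → F) :
    MJ F D (j :: L) a b = M1 F D j (a j) (b j) * MJ F D L a b := by
  have c1 := commute_x_XJ hD hj L hL ho (a j) a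
  have c2 := commute_x_YJ hD hj L hL ho (a j) b
  have c3 := commute_y_XJ hD hj L hL ho (b j) a
  unfold MJ M1
  rw [XJ_cons, YJ_cons]
  set x := D.x F (D.simple j) (a j)
  set y := D.x F (D.neg (D.simple j)) (b j)
  set X := XJ F D L a
  set Y := YJ F D L b
  calc x * X * (y * Y) * (x * X) = x * (X * y) * (Y * x) * X := by simp only [mul_assoc]
    _ = x * (y * X) * (x * Y) * X := by rw [c3.eq, c2.eq]
    _ = x * y * (X * x) * Y * X := by simp only [mul_assoc]
    _ = x * y * (x * X) * Y * X := by rw [c1.eq]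
    _ = x * y * x * (X * Y * X) := by simp only [mul_assoc]

theorem commute_M1_MJ {j : ℕ} (hj : j < D.rank) (L : List ℕ) (hL : ∀ k ∈ L, k < D.rank)
    (ho : ∀ k ∈ L, Orth D j k) (s t : F) (a b : ℕ → F) :
    Commute (M1 F D j s t) (MJ F D L a b) := by
  have c1 := commute_x_XJ hD hj L hL ho s a
  have c2 := commute_x_YJ hD hj L hL ho s b
  have c3 := commute_y_XJ hD hj L hL ho t a
  have c4 := commute_y_YJ hD hj L hL ho t b
  unfold M1 MJ
  exact ((c1.mul_right c2).mul_right c1).mul_left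
    (((c3.mul_right c4).mul_right c3)) |>.mul_left ((c1.mul_right c2).mul_right c1)

end orth2


/-! ### basis vectors -/

/-- the basis vector `e_n` (zero if `n` is out of range) -/
def eR (F : Type*) [Field F] (D : ChevalleyDatum) (n : ℕ) : D.Idx → F :=
  fun y => Sum.elim (fun _ => 0) (fun u : Fin D.nroots => if u.val = n then 1 else 0) y

/-- the basis vector `h_{p_i}` -/
def eH (F : Type*) [Field F] (D : ChevalleyDatum) (i : ℕ) : D.Idx → F :=
  fun y => Sum.elim (fun k : Fin D.rank => if k.val = i then 1 else 0) (fun _ => 0) y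

theorem eR_eq (n : ℕ) (hn : n < D.nroots) : eR F D n = Pi.single (Sum.inr ⟨n, hn⟩) 1 := by
  ext y
  rcases y with k | u
  · simp [eR]
  · by_cases h : u.val = n
    · have : u = ⟨n, hn⟩ := Fin.ext h
      subst this
      simp [eR]
    · have : u ≠ ⟨n, hn⟩ := fun h' => h (congrArg Fin.val h')
      simp [eR, h, this]

theorem eH_eq (i : ℕ) (hi : i < D.rank) : eH F D i = Pi.single (Sum.inl ⟨i, hi⟩) 1 := by
  ext y
  rcases y with k | u
  · by_cases h : k.val = i
    · have : k = ⟨i, hi⟩ := Fin.ext h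
      subst this
      simp [eH]
    · have : k ≠ ⟨i, hi⟩ := fun h' => h (congrArg Fin.val h')
      simp [eH, h, this]
  · simp [eH]

section orth3

variable (hD : D ∈ [chevG2, chevB2, chevD4, chevF4, chevE6, chevE7, chevE8])
include hD

theorem x_self_col (i : ℕ) (hi : i < D.rank) (t : F) :
    D.x F (D.simple i) t *ᵥ eR F D (D.simple i) = eR F D (D.simple i) := by
  have h1 := (simple_lt_all D hD i hi).1
  rw [x_eq_xMat _ h1, eR_eq _ h1, col_self]

theorem x_simple_col {k i : ℕ} (h : Orth D k i) (hk : k < D.rank) (hi : i < D.rank) (t : F) :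
    D.x F (D.simple k) t *ᵥ eR F D (D.simple i) = eR F D (D.simple i) := by
  have h1 := (simple_lt_all D hD k hk).1
  have h2 := (simple_lt_all D hD i hi).1
  obtain ⟨-, -, -, -, -, d1, d2, -, -, cp, -, -⟩ := h.1
  rw [x_eq_xMat _ h1, eR_eq _ h2]
  exact col_fix ⟨D.simple k, h1⟩ ⟨D.simple i, h2⟩ (fun h => d1 (congrArg Fin.val h)) d2
    (fun u => cp u.val u.2) t

theorem y_simple_col {k i : ℕ} (h : Orth D k i) (hk : k < D.rank) (hi : i < D.rank) (t : F) :
    D.x F (D.neg (D.simple k)) t *ᵥ eR F D (D.simple i) = eR F D (D.simple i) := by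
  have h1 := (simple_lt_all D hD k hk).2
  have h2 := (simple_lt_all D hD i hi).1
  obtain ⟨-, -, -, -, -, d1, d2, -, -, -, cm, -⟩ := h.1
  rw [x_eq_xMat _ h1, eR_eq _ h2]
  refine col_fix ⟨D.neg (D.simple k), h1⟩ ⟨D.simple i, h2⟩ (fun h => d2 (congrArg Fin.val h)) ?_
    (fun u => cm u.val u.2) t
  show D.simple i ≠ D.neg (D.neg (D.simple k))
  rw [neg_neg_simple hD k hk]; exact d1

theorem y_simple_rowR {k i : ℕ} (h : Orth D k i) (hk : k < D.rank) (hi : i < D.rank) (t : F) :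
    eR F D (D.simple i) ᵥ* D.x F (D.neg (D.simple k)) t = eR F D (D.simple i) := by
  have h1 := (simple_lt_all D hD k hk).2
  have h2 := (simple_lt_all D hD i hi).1
  obtain ⟨-, -, -, -, -, -, d2, -, -, -, -, rm⟩ := h.1
  rw [x_eq_xMat _ h1, eR_eq _ h2]
  exact row_fix ⟨D.neg (D.simple k), h1⟩ ⟨D.simple i, h2⟩ (fun h => d2 (congrArg Fin.val h))
    (fun v => rm v.val v.2) t

theorem y_simple_rowH {k i : ℕ} (hne : i ≠ k) (hk : k < D.rank) (hi : i < D.rank) (t : F) :
    eH F D i ᵥ* D.x F (D.neg (D.simple k)) t = eH F D i := by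
  have h1 := (simple_lt_all D hD k hk).2
  rw [x_eq_xMat _ h1, eH_eq _ hi]
  refine row_h_fix ⟨D.neg (D.simple k), h1⟩ ⟨i, hi⟩ ?_ t
  show (D.coroot.getD (D.neg (D.simple k)) #[]).getD i 0 = 0
  rw [coroot_neg_simple hD k hk i hi, if_neg hne]

theorem y_self_rowH (i : ℕ) (hi : i < D.rank) (c : F) :
    eH F D i ᵥ* D.x F (D.neg (D.simple i)) c = eH F D i - c • eR F D (D.simple i) := by
  have h1 := (simple_lt_all D hD i hi).2
  have h2 := (simple_lt_all D hD i hi).1
  rw [x_eq_xMat _ h1, eH_eq _ hi, eR_eq _ h2]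
  refine row_h_self ⟨D.neg (D.simple i), h1⟩ ⟨D.simple i, h2⟩ ⟨i, hi⟩ ?_ ?_ ?_ c
  · show D.simple i = D.neg (D.neg (D.simple i))
    rw [neg_neg_simple hD i hi]
  · intro h; exact neg_simple_ne hD i hi (congrArg Fin.val h).symm
  · show (D.coroot.getD (D.neg (D.simple i)) #[]).getD i 0 = -1
    rw [coroot_neg_simple hD i hi i hi, if_pos rfl]

/-! ### the products -/

theorem XJ_col (L : List ℕ) (hL : ∀ k ∈ L, k < D.rank) (i : ℕ) (hi : i < D.rank)
    (ho : ∀ k ∈ L, k = i ∨ Orth D k i) (a : ℕ → F) :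
    XJ F D L a *ᵥ eR F D (D.simple i) = eR F D (D.simple i) := by
  induction L with
  | nil => rw [XJ_nil, Matrix.one_mulVec]
  | cons j L ih =>
    rw [XJ_cons, ← Matrix.mulVec_mulVec,
      ih (fun k hk => hL k (List.mem_cons_of_mem _ hk)) (fun k hk => ho k (List.mem_cons_of_mem _ hk))]
    rcases ho j List.mem_cons_self with rfl | h
    · exact x_self_col hD j hi _
    · exact x_simple_col hD h (hL j List.mem_cons_self) hi _

theorem YJ_col (L : List ℕ) (hL : ∀ k ∈ L, k < D.rank) (i : ℕ) (hi : i < D.rank)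
    (ho : ∀ k ∈ L, Orth D k i) (b : ℕ → F) :
    YJ F D L b *ᵥ eR F D (D.simple i) = eR F D (D.simple i) := by
  induction L with
  | nil => rw [YJ_nil, Matrix.one_mulVec]
  | cons j L ih =>
    rw [YJ_cons, ← Matrix.mulVec_mulVec,
      ih (fun k hk => hL k (List.mem_cons_of_mem _ hk)) (fun k hk => ho k (List.mem_cons_of_mem _ hk))]
    exact y_simple_col hD (ho j List.mem_cons_self) (hL j List.mem_cons_self) hi _

theorem MJ_col (L : List ℕ) (hL : ∀ k ∈ L, k < D.rank) (i : ℕ) (hi : i < D.rank)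
    (ho : ∀ k ∈ L, Orth D k i) (a b : ℕ → F) :
    MJ F D L a b *ᵥ eR F D (D.simple i) = eR F D (D.simple i) := by
  unfold MJ
  rw [← Matrix.mulVec_mulVec, ← Matrix.mulVec_mulVec,
    XJ_col hD L hL i hi (fun k hk => Or.inr (ho k hk)), YJ_col hD L hL i hi ho,
    XJ_col hD L hL i hi (fun k hk => Or.inr (ho k hk))]

theorem M1_col {k i : ℕ} (h : Orth D k i) (hk : k < D.rank) (hi : i < D.rank) (s t : F) :
    M1 F D k s t *ᵥ eR F D (D.simple i) = eR F D (D.simple i) := by
  unfold M1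
  rw [← Matrix.mulVec_mulVec, ← Matrix.mulVec_mulVec, x_simple_col hD h hk hi,
    y_simple_col hD h hk hi, x_simple_col hD h hk hi]

theorem YJ_rowR (L : List ℕ) (hL : ∀ k ∈ L, k < D.rank) (i : ℕ) (hi : i < D.rank)
    (ho : ∀ k ∈ L, Orth D k i) (c : ℕ → F) :
    eR F D (D.simple i) ᵥ* YJ F D L c = eR F D (D.simple i) := by
  induction L with
  | nil => rw [YJ_nil, Matrix.vecMul_one]
  | cons j L ih =>
    rw [YJ_cons, ← Matrix.vecMul_vecMul,
      y_simple_rowR hD (ho j List.mem_cons_self) (hL j List.mem_cons_self) hi,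
      ih (fun k hk => hL k (List.mem_cons_of_mem _ hk)) (fun k hk => ho k (List.mem_cons_of_mem _ hk))]

theorem YJ_rowH_notin (L : List ℕ) (hL : ∀ k ∈ L, k < D.rank) (i : ℕ) (hi : i < D.rank)
    (hn : i ∉ L) (c : ℕ → F) : eH F D i ᵥ* YJ F D L c = eH F D i := by
  induction L with
  | nil => rw [YJ_nil, Matrix.vecMul_one]
  | cons j L ih =>
    rw [YJ_cons, ← Matrix.vecMul_vecMul,
      y_simple_rowH hD (fun h : i = j => hn (by rw [h]; exact List.mem_cons_self)) (hL j List.mem_cons_self) hi,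
      ih (fun k hk => hL k (List.mem_cons_of_mem _ hk)) (fun h => hn (List.mem_cons_of_mem _ h))]

theorem YJ_rowH (L : List ℕ) (hL : ∀ k ∈ L, k < D.rank) (hp : L.Pairwise (Orth D)) (i : ℕ)
    (hi : i ∈ L) (c : ℕ → F) :
    eH F D i ᵥ* YJ F D L c = eH F D i - c i • eR F D (D.simple i) := by
  induction L with
  | nil => exact absurd hi List.not_mem_nil
  | cons j L ih =>
    rw [List.pairwise_cons] at hp
    have hL' : ∀ k ∈ L, k < D.rank := fun k hk => hL k (List.mem_cons_of_mem _ hk)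
    rw [YJ_cons, ← Matrix.vecMul_vecMul]
    by_cases hij : i = j
    · subst hij
      have hn : i ∉ L := fun h => (hp.1 i h).ne rfl
      rw [y_self_rowH hD i (hL i List.mem_cons_self), Matrix.sub_vecMul, Matrix.smul_vecMul,
        YJ_rowH_notin hD L hL' i (hL i List.mem_cons_self) hn,
        YJ_rowR hD L hL' i (hL i List.mem_cons_self) (fun k hk => (hp.1 k hk).symm)]
    · have hi' : i ∈ L := by
        rcases List.mem_cons.1 hi with h | h
        · exact absurd h hij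
        · exact h
      rw [y_simple_rowH hD hij (hL j List.mem_cons_self) (hL' i hi'), ih hL' hp.2 hi']

end orth3


/-! ### (R1): the rank one relation -/

section R1

variable (hD : D ∈ [chevG2, chevB2, chevD4, chevF4, chevE6, chevE7, chevE8])
include hD

/-- the `(e_{p_i}, e_{p_i})` entry of `x_{p_i}(a) x_{-p_i}(b) x_{p_i}(a)` is `(1 + ab)²` -/
theorem M1_entry (i : ℕ) (hi : i < D.rank) (a b : F) :
    eR F D (D.simple i) ⬝ᵥ (M1 F D i a b *ᵥ eR F D (D.simple i)) = (1 + a * b) ^ 2 := by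
  obtain ⟨h1, h2⟩ := simple_lt_all D hD i hi
  have hne : (⟨D.neg (D.simple i), h2⟩ : Fin D.nroots) ≠ ⟨D.simple i, h1⟩ := fun h =>
    neg_simple_ne hD i hi (congrArg Fin.val h)
  have hcor : ∀ k : Fin D.rank,
      (D.coroot.getD (D.neg (D.simple i)) #[]).getD k.val 0 = if k = ⟨i, hi⟩ then -1 else 0 := by
    intro k
    rw [coroot_neg_simple hD i hi k k.2]
    by_cases hk : k = ⟨i, hi⟩
    · subst hk; simp
    · have : ¬ (k : ℕ) = i := fun h => hk (Fin.ext h)
      simp [hk, this]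
  have := rank_one_entry (F := F) (⟨D.simple i, h1⟩ : Fin D.nroots) ⟨D.neg (D.simple i), h2⟩ ⟨i, hi⟩
    rfl (neg_neg_simple hD i hi).symm hne hcor (cartan_self_all D hD i hi) a b
  unfold M1
  rw [eR_eq _ h1, Matrix.mulVec_single_one, single_one_dotProduct, Matrix.col_apply,
    x_eq_xMat _ h1, x_eq_xMat _ h2, mul_assoc]
  exact this

/-- the `(e_{p_i}, e_{p_i})` entry of `XJ a * YJ b * XJ a` is `(1 + a_i b_i)²` -/
theorem MJ_entry (L : List ℕ) (hL : ∀ k ∈ L, k < D.rank) (hp : L.Pairwise (Orth D)) (i : ℕ)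
    (hi : i ∈ L) (a b : ℕ → F) :
    eR F D (D.simple i) ⬝ᵥ (MJ F D L a b *ᵥ eR F D (D.simple i)) = (1 + a i * b i) ^ 2 := by
  induction L with
  | nil => exact absurd hi List.not_mem_nil
  | cons j L ih =>
    rw [List.pairwise_cons] at hp
    have hL' : ∀ k ∈ L, k < D.rank := fun k hk => hL k (List.mem_cons_of_mem _ hk)
    have hj := hL j List.mem_cons_self
    rw [MJ_cons hD hj L hL' hp.1]
    by_cases hij : i = j
    · subst hij
      rw [← Matrix.mulVec_mulVec, MJ_col hD L hL' i hj (fun k hk => (hp.1 k hk).symm)]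
      exact M1_entry hD i hj _ _
    · have hi' : i ∈ L := by
        rcases List.mem_cons.1 hi with h | h
        · exact absurd h hij
        · exact h
      rw [(commute_M1_MJ hD hj L hL' hp.1 _ _ a b).eq, ← Matrix.mulVec_mulVec,
        M1_col hD (hp.1 i hi') hj (hL' i hi')]
      exact ih hL' hp.2 hi'

/-- reading the relation `M * XJ s = YJ c * M` at the entry `(h_{p_i}, e_{p_i})` -/
theorem rel_entry (L : List ℕ) (hL : ∀ k ∈ L, k < D.rank) (hp : L.Pairwise (Orth D))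
    (M : Matrix D.Idx D.Idx F) (s c : ℕ → F) (h : M * XJ F D L s = YJ F D L c * M) (i : ℕ)
    (hi : i ∈ L) : c i * (eR F D (D.simple i) ⬝ᵥ (M *ᵥ eR F D (D.simple i))) = 0 := by
  have hi' := hL i hi
  have ho : ∀ k ∈ L, k = i ∨ Orth D k i := by
    intro k hk
    by_cases hki : k = i
    · exact Or.inl hki
    · have : Std.Symm (Orth D) := ⟨fun _ _ h => Orth.symm h⟩
      exact Or.inr (List.Pairwise.forall hp hk hi hki)
  have e1 : eH F D i ⬝ᵥ ((M * XJ F D L s) *ᵥ eR F D (D.simple i))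
      = eH F D i ⬝ᵥ (M *ᵥ eR F D (D.simple i)) := by
    rw [← Matrix.mulVec_mulVec, XJ_col hD L hL i hi' ho]
  have e2 : eH F D i ⬝ᵥ ((YJ F D L c * M) *ᵥ eR F D (D.simple i))
      = eH F D i ⬝ᵥ (M *ᵥ eR F D (D.simple i))
        - c i * (eR F D (D.simple i) ⬝ᵥ (M *ᵥ eR F D (D.simple i))) := by
    rw [← Matrix.mulVec_mulVec, Matrix.dotProduct_mulVec, YJ_rowH hD L hL hp i hi, sub_dotProduct,
      smul_dotProduct, smul_eq_mul]
  rw [h, e2] at e1
  linear_combination -e1

/-- **(R1)** if `M = XJ a * YJ b * XJ a` satisfies `M * XJ s = YJ c * M` then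
`c_i (1 + a_i b_i)² = 0` for every `i ∈ L` -/
theorem rank_one (L : List ℕ) (hL : ∀ k ∈ L, k < D.rank) (hp : L.Pairwise (Orth D))
    (a b s c : ℕ → F) (h : MJ F D L a b * XJ F D L s = YJ F D L c * MJ F D L a b) (i : ℕ)
    (hi : i ∈ L) : c i * (1 + a i * b i) ^ 2 = 0 := by
  have := rel_entry hD L hL hp _ s c h i hi
  rwa [MJ_entry hD L hL hp i hi] at this

/-- **(R1)**, the usual consequence: `c_i ≠ 0` forces `b_i = -a_i⁻¹` -/
theorem rank_one' (L : List ℕ) (hL : ∀ k ∈ L, k < D.rank) (hp : L.Pairwise (Orth D))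
    (a b s c : ℕ → F) (h : MJ F D L a b * XJ F D L s = YJ F D L c * MJ F D L a b) (i : ℕ)
    (hi : i ∈ L) (hc : c i ≠ 0) (ha : a i ≠ 0) : b i = -(a i)⁻¹ := by
  have h1 := rank_one hD L hL hp a b s c h i hi
  have h2 : 1 + a i * b i = 0 := by
    rcases mul_eq_zero.1 h1 with h | h
    · exact absurd h hc
    · exact pow_eq_zero_iff (two_ne_zero) |>.1 h
  apply mul_left_cancel₀ ha
  rw [mul_neg, mul_inv_cancel₀ ha]
  linear_combination h2

end R1


/-! ### (R2): the torus elements -/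

/-- `NJ a = XJ a * YJ (-a⁻¹) * XJ a = ∏ n_{p_i}(a_i)` -/
def NJ (F : Type*) [Field F] (D : ChevalleyDatum) (L : List ℕ) (a : ℕ → F) : Matrix D.Idx D.Idx F :=
  MJ F D L a (fun i => -(a i)⁻¹)

theorem M1_eq_nMat (i : ℕ) (c : F) : M1 F D i c (-c⁻¹) = D.nMat F (D.simple i) c := by
  unfold M1
  rw [nMat_eq_prod, mul_assoc]

theorem dProdL_nil (a : ℕ → F) : dProdL F D [] a = 1 := by
  unfold dProdL
  rw [← Matrix.diagonal_one]
  congr 1
  ext x
  rcases x with j | s <;> simp

theorem dProdL_cons (j : ℕ) (L : List ℕ) (a : ℕ → F) :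
    dProdL F D (j :: L) a = dK F D (D.cartan j) (a j) * dProdL F D L a := by
  unfold dProdL dK
  rw [Matrix.diagonal_mul_diagonal]
  congr 1
  ext x
  rcases x with k | s
  · simp
  · simp

section R2

variable (hD : D ∈ [chevG2, chevB2, chevD4, chevF4, chevE6, chevE7, chevE8])
include hD

/-- conjugation of a root element by `∏ h_{p_i}(a_i)` -/
theorem dProdL_conj_x (L : List ℕ) (hL : ∀ k ∈ L, k < D.rank) (a : ℕ → F) (ha : ∀ k ∈ L, a k ≠ 0)
    (s : ℕ) (hs : s < D.nroots) (t : F) :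
    dProdL F D L a * D.x F s t
      = D.x F s ((L.map fun i => a i ^ (D.cartan i s)).prod * t) * dProdL F D L a := by
  induction L generalizing t with
  | nil => rw [dProdL_nil, List.map_nil, List.prod_nil, one_mul, one_mul, mul_one]
  | cons j L ih =>
    have hL' : ∀ k ∈ L, k < D.rank := fun k hk => hL k (List.mem_cons_of_mem _ hk)
    have ha' : ∀ k ∈ L, a k ≠ 0 := fun k hk => ha k (List.mem_cons_of_mem _ hk)
    rw [dProdL_cons, mul_assoc, ih hL' ha', ← mul_assoc]
    have := diag_conj_x_all (F := F) D hD j (hL j List.mem_cons_self) (a j) (ha j List.mem_cons_self)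
      s hs ((L.map fun i => a i ^ (D.cartan i s)).prod * t)
    unfold dK
    rw [this, List.map_cons, List.prod_cons, mul_assoc, mul_assoc]

theorem commute_x_nMat {j k : ℕ} (h : Orth D j k) (hj : j < D.rank) (hk : k < D.rank) (t c : F) :
    Commute (D.x F (D.simple j) t) (D.nMat F (D.simple k) c) := by
  rw [nMat_eq_prod]
  exact (h.comm_pp hD hj hk t c).mul_right ((h.comm_pm hD hj hk t _).mul_right (h.comm_pp hD hj hk t c))

theorem commute_y_nMat {j k : ℕ} (h : Orth D j k) (hj : j < D.rank) (hk : k < D.rank) (t c : F) :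
    Commute (D.x F (D.neg (D.simple j)) t) (D.nMat F (D.simple k) c) := by
  rw [nMat_eq_prod]
  exact (h.comm_mp hD hj hk t c).mul_right ((h.comm_mm hD hj hk t _).mul_right (h.comm_mp hD hj hk t c))

theorem commute_nMat_hMat {j k : ℕ} (h : Orth D j k) (hj : j < D.rank) (hk : k < D.rank) (c c' : F) :
    Commute (D.nMat F (D.simple j) c) (D.hMat F (D.simple k) c') := by
  have h1 : ∀ c'' : F, Commute (D.nMat F (D.simple j) c) (D.nMat F (D.simple k) c'') := by
    intro c''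
    rw [nMat_eq_prod (D := D) (D.simple j)]
    exact (commute_x_nMat hD h hj hk c c'').mul_left
      ((commute_y_nMat hD h hj hk _ c'').mul_left (commute_x_nMat hD h hj hk c c''))
  rw [hMat_eq]
  exact (h1 c').mul_right (h1 (-1))

theorem commute_nMat_dProdL {j : ℕ} (hj : j < D.rank) (L : List ℕ) (hL : ∀ k ∈ L, k < D.rank)
    (ho : ∀ k ∈ L, Orth D j k) (a : ℕ → F) (ha : ∀ k ∈ L, a k ≠ 0) (c : F) :
    Commute (D.nMat F (D.simple j) c) (dProdL F D L a) := by
  rw [← prod_hMat_eq hD L hL a ha]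
  apply Commute.list_prod_right
  intro g hg
  rw [List.mem_map] at hg
  obtain ⟨k, hk, rfl⟩ := hg
  exact commute_nMat_hMat hD (ho k hk) hj (hL k hk) c (a k)

/-- **(R2)** `NJ a = (∏ h_{p_i}(a_i)) * NJ 1` -/
theorem NJ_eq (L : List ℕ) (hL : ∀ k ∈ L, k < D.rank) (hp : L.Pairwise (Orth D)) (a : ℕ → F)
    (ha : ∀ k ∈ L, a k ≠ 0) : NJ F D L a = dProdL F D L a * NJ F D L (fun _ => 1) := by
  induction L with
  | nil =>
    rw [dProdL_nil, one_mul]
    rfl
  | cons j L ih =>
    rw [List.pairwise_cons] at hp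
    have hL' : ∀ k ∈ L, k < D.rank := fun k hk => hL k (List.mem_cons_of_mem _ hk)
    have ha' : ∀ k ∈ L, a k ≠ 0 := fun k hk => ha k (List.mem_cons_of_mem _ hk)
    have hj := hL j List.mem_cons_self
    have e1 : NJ F D (j :: L) a = D.nMat F (D.simple j) (a j) * NJ F D L a := by
      unfold NJ
      rw [MJ_cons hD hj L hL' hp.1, M1_eq_nMat]
    have e2 : NJ F D (j :: L) (fun _ => (1 : F)) = D.nMat F (D.simple j) 1 * NJ F D L (fun _ => 1) := by
      unfold NJ
      rw [MJ_cons hD hj L hL' hp.1, M1_eq_nMat]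
    rw [e1, e2, ih hL' hp.2 ha', nMat_eq_dK_mul D hD j hj (a j) (ha j List.mem_cons_self),
      dProdL_cons]
    have hc := commute_nMat_dProdL hD hj L hL' hp.1 a ha' (1 : F)
    calc dK F D (D.cartan j) (a j) * D.nMat F (D.simple j) 1 * (dProdL F D L a * NJ F D L fun _ => 1)
        = dK F D (D.cartan j) (a j) * (D.nMat F (D.simple j) 1 * dProdL F D L a) * NJ F D L fun _ => 1 := by
          simp only [mul_assoc]
      _ = dK F D (D.cartan j) (a j) * (dProdL F D L a * D.nMat F (D.simple j) 1) * NJ F D L fun _ => 1 := by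
          rw [hc.eq]
      _ = dK F D (D.cartan j) (a j) * dProdL F D L a * (D.nMat F (D.simple j) 1 * NJ F D L fun _ => 1) := by
          simp only [mul_assoc]

/-- conjugation of `XJ` by `∏_{i ∈ L} h_{p_i}(a_i)` (the lists need not be the same) -/
theorem dProdL_conj_XJ (L : List ℕ) (hL : ∀ k ∈ L, k < D.rank) (a : ℕ → F) (ha : ∀ k ∈ L, a k ≠ 0)
    (L' : List ℕ) (hL' : ∀ k ∈ L', k < D.rank) (t : ℕ → F) :
    dProdL F D L a * XJ F D L' t
      = XJ F D L' (fun k => (L.map fun i => a i ^ (D.cartan i (D.simple k))).prod * t k) *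
        dProdL F D L a := by
  induction L' with
  | nil => rw [XJ_nil, XJ_nil, mul_one, one_mul]
  | cons k L' ih =>
    rw [XJ_cons, XJ_cons, ← mul_assoc,
      dProdL_conj_x hD L hL a ha _ (simple_lt_all D hD k (hL' k List.mem_cons_self)).1, mul_assoc,
      ih (fun k hk => hL' k (List.mem_cons_of_mem _ hk)), mul_assoc]

theorem dProdL_conj_YJ (L : List ℕ) (hL : ∀ k ∈ L, k < D.rank) (a : ℕ → F) (ha : ∀ k ∈ L, a k ≠ 0)
    (L' : List ℕ) (hL' : ∀ k ∈ L', k < D.rank) (t : ℕ → F) :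
    dProdL F D L a * YJ F D L' t
      = YJ F D L' (fun k => (L.map fun i => a i ^ (D.cartan i (D.neg (D.simple k)))).prod * t k) *
        dProdL F D L a := by
  induction L' with
  | nil => rw [YJ_nil, YJ_nil, mul_one, one_mul]
  | cons k L' ih =>
    rw [YJ_cons, YJ_cons, ← mul_assoc,
      dProdL_conj_x hD L hL a ha _ (simple_lt_all D hD k (hL' k List.mem_cons_self)).2, mul_assoc,
      ih (fun k hk => hL' k (List.mem_cons_of_mem _ hk)), mul_assoc]

end R2


theorem XJ_congr (L : List ℕ) (t t' : ℕ → F) (h : ∀ k ∈ L, t k = t' k) : XJ F D L t = XJ F D L t' := by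
  unfold XJ
  congr 1
  apply List.map_congr_left
  intro k hk
  rw [h k hk]

theorem YJ_congr (L : List ℕ) (t t' : ℕ → F) (h : ∀ k ∈ L, t k = t' k) : YJ F D L t = YJ F D L t' := by
  unfold YJ
  congr 1
  apply List.map_congr_left
  intro k hk
  rw [h k hk]

/-! ### the triality twisted group `³D₄` -/

namespace D4

variable {K : Type*} [Field K]

/-- the orbit `A = {p₁, p₃, p₄}` -/
def LA : List ℕ := [0, 2, 3]
/-- the orbit `B = {p₂}` -/
def LB : List ℕ := [1]

/-- the parameters `t, t^q, t^(q²)` at the indices `0, 2, 3` -/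
def pA (q : ℕ) (t : K) : ℕ → K := fun i => if i = 0 then t else if i = 2 then t ^ q else t ^ (q ^ 2)

/-- `x_A(t) = x_{p₁}(t) x_{p₃}(t^q) x_{p₄}(t^(q²))` -/
def xA (q : ℕ) (t : K) : Matrix chevD4.Idx chevD4.Idx K := XJ K chevD4 LA (pA q t)
/-- `y_A(t) = x_{-p₁}(t) x_{-p₃}(t^q) x_{-p₄}(t^(q²))` -/
def yA (q : ℕ) (t : K) : Matrix chevD4.Idx chevD4.Idx K := YJ K chevD4 LA (pA q t)
/-- `n_A(a) = x_A(a) y_A(-a⁻¹) x_A(a)` -/
def nA (q : ℕ) (a : K) : Matrix chevD4.Idx chevD4.Idx K := xA q a * yA q (-a⁻¹) * xA q a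
/-- `h_A(a) = h_{p₁}(a) h_{p₃}(a^q) h_{p₄}(a^(q²))`, a diagonal matrix -/
def hA (q : ℕ) (a : K) : Matrix chevD4.Idx chevD4.Idx K := dProdL K chevD4 LA (pA q a)
/-- `h_B(b) = h_{p₂}(b)`, a diagonal matrix -/
def hB (b : K) : Matrix chevD4.Idx chevD4.Idx K := dProdL K chevD4 LB (fun _ => b)

theorem hD4 : chevD4 ∈ [chevG2, chevB2, chevD4, chevF4, chevE6, chevE7, chevE8] := by simp

theorem xA_eq (q : ℕ) (t : K) :
    xA q t = chevD4.x K 18 t * chevD4.x K 13 (t ^ q) * chevD4.x K 12 (t ^ (q ^ 2)) := by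
  unfold xA XJ LA
  simp only [List.map_cons, List.map_nil, List.prod_cons, List.prod_nil, mul_one, mul_assoc]
  rfl

theorem yA_eq (q : ℕ) (t : K) :
    yA q t = chevD4.x K 5 t * chevD4.x K 10 (t ^ q) * chevD4.x K 11 (t ^ (q ^ 2)) := by
  unfold yA YJ LA
  simp only [List.map_cons, List.map_nil, List.prod_cons, List.prod_nil, mul_one, mul_assoc]
  rfl

theorem orthA : LA.Pairwise (Orth chevD4) := by decide +kernel
theorem orthB : LB.Pairwise (Orth chevD4) := by decide +kernel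
theorem ltA : ∀ k ∈ LA, k < chevD4.rank := by decide
theorem ltB : ∀ k ∈ LB, k < chevD4.rank := by decide


/-- **(R1) for `³D₄`** : if `M = x_A(a) y_A(b) x_A(a)` satisfies `M x_A(s) = y_A(c) M` with
`a, c ≠ 0`, then `b = -a⁻¹` -/
theorem rank_one_A (q : ℕ) (a b s c : K)
    (h : xA q a * yA q b * xA q a * xA q s = yA q c * (xA q a * yA q b * xA q a))
    (hc : c ≠ 0) (ha : a ≠ 0) : b = -a⁻¹ :=
  rank_one' hD4 LA ltA orthA (pA q a) (pA q b) (pA q s) (pA q c) h 0 (by decide) hc ha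

/-- **(R1) for `³D₄`**, all three components -/
theorem rank_one_A' (q : ℕ) (a b s c : K)
    (h : xA q a * yA q b * xA q a * xA q s = yA q c * (xA q a * yA q b * xA q a)) :
    c * (1 + a * b) ^ 2 = 0 :=
  rank_one hD4 LA ltA orthA (pA q a) (pA q b) (pA q s) (pA q c) h 0 (by decide)

theorem pA_one (q : ℕ) : pA q (1 : K) = fun _ => 1 := by
  funext i
  unfold pA
  split_ifs <;> simp

theorem pA_ne_zero (q : ℕ) {a : K} (ha : a ≠ 0) : ∀ k ∈ LA, pA q a k ≠ 0 := by
  intro k _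
  unfold pA
  split_ifs
  · exact ha
  · exact pow_ne_zero _ ha
  · exact pow_ne_zero _ ha

theorem pA_neg_inv (q : ℕ) (hq : (-1 : K) ^ q = -1) (a : K) :
    pA q (-a⁻¹) = fun i => -(pA q a i)⁻¹ := by
  have h1 : ∀ n : ℕ, (-1 : K) ^ (q ^ n) = -1 := by
    intro n
    induction n with
    | zero => simp
    | succ n ih => rw [pow_succ, pow_mul, ih, hq]
  funext i
  unfold pA
  split_ifs
  · rfl
  · rw [neg_eq_neg_one_mul, mul_pow, hq, inv_pow, neg_one_mul]
  · rw [neg_eq_neg_one_mul, mul_pow, h1 2, inv_pow, neg_one_mul]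

/-- **(R2)** `n_A(a) = h_A(a) n_A(1)` -/
theorem nA_eq (q : ℕ) (hq : (-1 : K) ^ q = -1) (a : K) (ha : a ≠ 0) :
    nA q a = hA q a * nA q 1 := by
  have h1 : nA q a = NJ K chevD4 LA (pA q a) := by
    unfold nA NJ MJ xA yA
    rw [pA_neg_inv q hq]
  have h2 : nA q (1 : K) = NJ K chevD4 LA (fun _ => 1) := by
    unfold nA NJ MJ xA yA
    rw [pA_neg_inv q hq, pA_one]
  rw [h1, h2]
  exact NJ_eq hD4 LA ltA orthA (pA q a) (pA_ne_zero q ha)

theorem cartan_vals :
    (∀ i ∈ LA, ∀ k ∈ LA, chevD4.cartan i (chevD4.simple k) = if i = k then 2 else 0) ∧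
    (∀ i ∈ LA, ∀ k ∈ LA, chevD4.cartan i (chevD4.neg (chevD4.simple k)) = if i = k then -2 else 0) ∧
    (∀ i ∈ LA, chevD4.cartan i 14 = -1) ∧ (∀ i ∈ LA, chevD4.cartan i 9 = 1) ∧
    (∀ k ∈ LA, chevD4.cartan 1 (chevD4.simple k) = -1) ∧
    (∀ k ∈ LA, chevD4.cartan 1 (chevD4.neg (chevD4.simple k)) = 1) ∧
    chevD4.cartan 1 14 = 2 ∧ chevD4.cartan 1 9 = -2 := by decide +kernel

/-- `h_A(a) x_A(t) = x_A(a² t) h_A(a)` -/
theorem hA_xA (q : ℕ) (a t : K) (ha : a ≠ 0) : hA q a * xA q t = xA q (a ^ 2 * t) * hA q a := by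
  unfold hA xA
  rw [dProdL_conj_XJ hD4 LA ltA (pA q a) (pA_ne_zero q ha) LA ltA]
  congr 1
  apply XJ_congr
  intro k hk
  have hv := cartan_vals.1
  simp only [LA, List.mem_cons, List.not_mem_nil, or_false] at hk hv
  rcases hk with rfl | rfl | rfl
  · simp only [LA, List.map_cons, List.map_nil, List.prod_cons, List.prod_nil]
    rw [hv 0 (by simp) 0 (by simp), hv 2 (by simp) 0 (by simp), hv 3 (by simp) 0 (by simp)]
    simp [pA]
  · simp only [LA, List.map_cons, List.map_nil, List.prod_cons, List.prod_nil]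
    rw [hv 0 (by simp) 2 (by simp), hv 2 (by simp) 2 (by simp), hv 3 (by simp) 2 (by simp)]
    simp [pA, mul_pow]
    left; ring
  · simp only [LA, List.map_cons, List.map_nil, List.prod_cons, List.prod_nil]
    rw [hv 0 (by simp) 3 (by simp), hv 2 (by simp) 3 (by simp), hv 3 (by simp) 3 (by simp)]
    simp [pA, mul_pow]
    left; ring


/-- `h_A(a) y_A(t) = y_A(a⁻² t) h_A(a)` -/
theorem hA_yA (q : ℕ) (a t : K) (ha : a ≠ 0) :
    hA q a * yA q t = yA q ((a ^ 2)⁻¹ * t) * hA q a := by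
  unfold hA yA
  rw [dProdL_conj_YJ hD4 LA ltA (pA q a) (pA_ne_zero q ha) LA ltA]
  congr 1
  apply YJ_congr
  intro k hk
  have hv := cartan_vals.2.1
  simp only [LA, List.mem_cons, List.not_mem_nil, or_false] at hk hv
  rcases hk with rfl | rfl | rfl
  · simp only [LA, List.map_cons, List.map_nil, List.prod_cons, List.prod_nil]
    rw [hv 0 (by simp) 0 (by simp), hv 2 (by simp) 0 (by simp), hv 3 (by simp) 0 (by simp)]
    simp [pA, zpow_neg]
  · simp only [LA, List.map_cons, List.map_nil, List.prod_cons, List.prod_nil]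
    rw [hv 0 (by simp) 2 (by simp), hv 2 (by simp) 2 (by simp), hv 3 (by simp) 2 (by simp)]
    simp [pA, mul_pow, zpow_neg]
    left; ring
  · simp only [LA, List.map_cons, List.map_nil, List.prod_cons, List.prod_nil]
    rw [hv 0 (by simp) 3 (by simp), hv 2 (by simp) 3 (by simp), hv 3 (by simp) 3 (by simp)]
    simp [pA, mul_pow, zpow_neg]
    left; ring

/-- `h_A(a) x_B(u) = x_B(N(a)⁻¹ u) h_A(a)`, `N(a) = a^(1+q+q²)` -/
theorem hA_xB (q : ℕ) (a u : K) (ha : a ≠ 0) :
    hA q a * chevD4.x K 14 u = chevD4.x K 14 ((a ^ (1 + q + q ^ 2))⁻¹ * u) * hA q a := by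
  unfold hA
  rw [dProdL_conj_x hD4 LA ltA (pA q a) (pA_ne_zero q ha) 14 (by decide)]
  congr 2
  have hv := cartan_vals.2.2.1
  simp only [LA, List.mem_cons, List.not_mem_nil, or_false] at hv
  simp only [LA, List.map_cons, List.map_nil, List.prod_cons, List.prod_nil]
  rw [hv 0 (by simp), hv 2 (by simp), hv 3 (by simp)]
  simp [pA, zpow_neg]
  left; rw [pow_add, pow_add, pow_one]; ring

/-- `h_A(a) y_B(u) = y_B(N(a) u) h_A(a)` -/
theorem hA_yB (q : ℕ) (a u : K) (ha : a ≠ 0) :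
    hA q a * chevD4.x K 9 u = chevD4.x K 9 (a ^ (1 + q + q ^ 2) * u) * hA q a := by
  unfold hA
  rw [dProdL_conj_x hD4 LA ltA (pA q a) (pA_ne_zero q ha) 9 (by decide)]
  congr 2
  have hv := cartan_vals.2.2.2.1
  simp only [LA, List.mem_cons, List.not_mem_nil, or_false] at hv
  simp only [LA, List.map_cons, List.map_nil, List.prod_cons, List.prod_nil]
  rw [hv 0 (by simp), hv 2 (by simp), hv 3 (by simp)]
  simp [pA]
  left; rw [pow_add, pow_add, pow_one]; ring

/-- `h_B(b) x_A(t) = x_A(b⁻¹ t) h_B(b)` for `b` in the fixed field -/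
theorem hB_xA (q : ℕ) (b t : K) (hb : b ≠ 0) (hbq : b ^ q = b) :
    hB b * xA q t = xA q (b⁻¹ * t) * hB b := by
  have hbq2 : b ^ (q ^ 2) = b := by rw [pow_two, pow_mul, hbq, hbq]
  unfold hB xA
  rw [dProdL_conj_XJ hD4 LB ltB (fun _ => b) (fun _ _ => hb) LA ltA]
  congr 1
  apply XJ_congr
  intro k hk
  have hv := cartan_vals.2.2.2.2.1
  simp only [LA, List.mem_cons, List.not_mem_nil, or_false] at hk hv
  rcases hk with rfl | rfl | rfl
  · simp only [LB, List.map_cons, List.map_nil, List.prod_cons, List.prod_nil]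
    rw [hv 0 (by simp)]
    simp [pA, zpow_neg]
  · simp only [LB, List.map_cons, List.map_nil, List.prod_cons, List.prod_nil]
    rw [hv 2 (by simp)]
    simp [pA, mul_pow, zpow_neg, hbq]
  · simp only [LB, List.map_cons, List.map_nil, List.prod_cons, List.prod_nil]
    rw [hv 3 (by simp)]
    simp [pA, mul_pow, zpow_neg, hbq2]

/-- `h_B(b) y_A(t) = y_A(b t) h_B(b)` for `b` in the fixed field -/
theorem hB_yA (q : ℕ) (b t : K) (hb : b ≠ 0) (hbq : b ^ q = b) :
    hB b * yA q t = yA q (b * t) * hB b := by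
  have hbq2 : b ^ (q ^ 2) = b := by rw [pow_two, pow_mul, hbq, hbq]
  unfold hB yA
  rw [dProdL_conj_YJ hD4 LB ltB (fun _ => b) (fun _ _ => hb) LA ltA]
  congr 1
  apply YJ_congr
  intro k hk
  have hv := cartan_vals.2.2.2.2.2.1
  simp only [LA, List.mem_cons, List.not_mem_nil, or_false] at hk hv
  rcases hk with rfl | rfl | rfl
  · simp only [LB, List.map_cons, List.map_nil, List.prod_cons, List.prod_nil]
    rw [hv 0 (by simp)]
    simp [pA]
  · simp only [LB, List.map_cons, List.map_nil, List.prod_cons, List.prod_nil]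
    rw [hv 2 (by simp)]
    simp [pA, mul_pow, hbq]
  · simp only [LB, List.map_cons, List.map_nil, List.prod_cons, List.prod_nil]
    rw [hv 3 (by simp)]
    simp [pA, mul_pow, hbq2]

/-- `h_B(b) x_B(u) = x_B(b² u) h_B(b)` -/
theorem hB_xB (b u : K) (hb : b ≠ 0) :
    hB b * chevD4.x K 14 u = chevD4.x K 14 (b ^ 2 * u) * hB b := by
  unfold hB
  rw [dProdL_conj_x hD4 LB ltB (fun _ => b) (fun _ _ => hb) 14 (by decide)]
  congr 2
  simp only [LB, List.map_cons, List.map_nil, List.prod_cons, List.prod_nil]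
  rw [cartan_vals.2.2.2.2.2.2.1]
  simp

/-- `h_B(b) y_B(u) = y_B(b⁻² u) h_B(b)` -/
theorem hB_yB (b u : K) (hb : b ≠ 0) :
    hB b * chevD4.x K 9 u = chevD4.x K 9 ((b ^ 2)⁻¹ * u) * hB b := by
  unfold hB
  rw [dProdL_conj_x hD4 LB ltB (fun _ => b) (fun _ _ => hb) 9 (by decide)]
  congr 2
  simp only [LB, List.map_cons, List.map_nil, List.prod_cons, List.prod_nil]
  rw [cartan_vals.2.2.2.2.2.2.2]
  simp [zpow_neg]

/-- `h_B(b) = n_{p₂}(b) n_{p₂}(-1)`, and `n_{p₂}(b) = h_B(b) n_{p₂}(1)` -/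
theorem nB_eq (b : K) (hb : b ≠ 0) :
    chevD4.nMat K 14 b = hB b * chevD4.nMat K 14 1 := by
  have := nMat_eq_dK_mul (F := K) chevD4 hD4 1 (by decide) b hb
  unfold hB LB
  rw [dProdL_cons, dProdL_nil, mul_one]
  exact this

end D4


/-! ### the twisted group `²E₆`: the orbits of fundamental roots -/

namespace E6

theorem hE6 : chevE6 ∈ [chevG2, chevB2, chevD4, chevF4, chevE6, chevE7, chevE8] := by simp

/-- the orbit `{p₁, p₆}` -/
def L16 : List ℕ := [0, 5]
/-- the orbit `{p₃, p₅}` -/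
def L35 : List ℕ := [2, 4]

theorem orth16 : L16.Pairwise (Orth chevE6) := by decide +kernel
theorem orth35 : L35.Pairwise (Orth chevE6) := by decide +kernel
theorem lt16 : ∀ k ∈ L16, k < chevE6.rank := by decide
theorem lt35 : ∀ k ∈ L35, k < chevE6.rank := by decide

end E6

end Cfsg.Agent.TwRankOne
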