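import Cfsg.Agent.Lib.Lead.TwShapeGen
import Mathlib

/-!
# The algebra step of `Out(²E₆(q))` (lead, for helper5's S2130)

`e6_shape` : an automorphism of a group generated by the root elements of the four orbits
`A = {p₁, p₆}`, `B = {p₃, p₅}` (parameters in `K = F_{q²}`), `C = {p₄}`, `E = {p₂}` (parameters in `F_q`)
of `²E₆(q)` which permutes each of the eight families of root elements acts on them through one field
automorphism `ψ` of `K` and four scalars.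
-/

set_option autoImplicit false

namespace Cfsg.Agent.TwRankOne.E6
open Cfsg Cfsg.Lie Cfsg.Agent.Lib.Helper5.Chev Cfsg.Agent.ChevAut Cfsg.Agent.TwRankOne.Shape
open scoped Matrix

variable {K : Type*} [Field K]

/-- the facts on `q` used below: `t ↦ t^q` is a ring endomorphism -/
structure FrobOK (K : Type*) [Field K] (q : ℕ) : Prop where
  q0 : q ≠ 0
  add : ∀ s t : K, (s + t) ^ q = s ^ q + t ^ q

/-- `t ↦ t^q` as a ring homomorphism -/
def frobQ {q : ℕ} (Q : FrobOK K q) : K →+* K where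
  toFun t := t ^ q
  map_one' := one_pow q
  map_mul' s t := mul_pow s t q
  map_zero' := zero_pow Q.q0
  map_add' := Q.add

theorem frobQ_apply {q : ℕ} (Q : FrobOK K q) (t : K) : frobQ Q t = t ^ q := rfl

/-- the fixed field of `t ↦ t^q` -/
def fixF {q : ℕ} (Q : FrobOK K q) : Subfield K where
  carrier := {u | u ^ q = u}
  mul_mem' := fun {a b} (ha : a ^ q = a) (hb : b ^ q = b) =>
    show (a * b) ^ q = a * b by rw [mul_pow, ha, hb]
  one_mem' := one_pow q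
  add_mem' := fun {a b} (ha : a ^ q = a) (hb : b ^ q = b) =>
    show (a + b) ^ q = a + b by rw [Q.add, ha, hb]
  zero_mem' := zero_pow Q.q0
  neg_mem' := fun {a} (ha : a ^ q = a) =>
    show (-a) ^ q = -a by rw [← frobQ_apply Q, map_neg, frobQ_apply, ha]
  inv_mem' := fun a (ha : a ^ q = a) =>
    show (a⁻¹) ^ q = a⁻¹ by rw [inv_pow, ha]

theorem mem_fixF {q : ℕ} (Q : FrobOK K q) (u : fixF Q) : (u : K) ^ q = u := u.2

/-- the rank one swap for the six fundamental roots of `E₆` -/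
theorem swap1 (i : ℕ) (hi : i < 6) (s : K) :
    chevE6.nMat K (chevE6.simple i) 1 * chevE6.x K (chevE6.simple i) s
      = chevE6.x K (chevE6.neg (chevE6.simple i)) (-s) * chevE6.nMat K (chevE6.simple i) 1 := by
  have hadd := allAdd_all (F := K) chevE6 hE6
  obtain ⟨hp, hq⟩ := simple_lt_all chevE6 hE6 i hi
  have e := nU_conj_xU DataE6.agrees hadd i (BsE6.Bs.getD i 0) hi (HsE6.reflBs' i hi) hp hq s
  rw [mul_inv_eq_iff_eq_mul] at e
  have e' := congrArg Units.val e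
  have heta : etaOf (BsE6.Bs.getD i 0) (chevE6.simple i) = -1 := by
    interval_cases i <;> decide
  rw [heta] at e'
  have : ((-1 : ℤ) : K) * s = -s := by push_cast; ring
  rw [this] at e'
  exact e'

/-- the parametrisation `(t, t^q)` of a pair orbit: identity at `i0`, Frobenius elsewhere -/
def ρP {q : ℕ} (Q : FrobOK K q) (i0 : ℕ) : ℕ → K →+* K :=
  fun i => if i = i0 then RingHom.id K else frobQ Q

/-- the parametrisation of a single orbit defined over the fixed field -/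
def ρS {q : ℕ} (Q : FrobOK K q) : ℕ → fixF Q →+* K := fun _ => (fixF Q).subtype

def L4 : List ℕ := [3]
def L2 : List ℕ := [1]

theorem orth4 : L4.Pairwise (Orth chevE6) := List.pairwise_singleton _ _
theorem orth2 : L2.Pairwise (Orth chevE6) := List.pairwise_singleton _ _
theorem lt4 : ∀ k ∈ L4, k < chevE6.rank := by decide
theorem lt2 : ∀ k ∈ L2, k < chevE6.rank := by decide

theorem cart16 : CartOrth chevE6 L16 := by decide +kernel
theorem cart35 : CartOrth chevE6 L35 := by decide +kernel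
theorem cart4 : CartOrth chevE6 L4 := by decide +kernel
theorem cart2 : CartOrth chevE6 L2 := by decide +kernel

theorem cartan_links :
    chevE6.cartan 0 (chevE6.simple 2) = -1 ∧ chevE6.cartan 5 (chevE6.simple 2) = 0 ∧
    chevE6.cartan 0 (chevE6.simple 4) = 0 ∧ chevE6.cartan 5 (chevE6.simple 4) = -1 ∧
    chevE6.cartan 3 (chevE6.simple 2) = -1 ∧ chevE6.cartan 3 (chevE6.simple 4) = -1 ∧
    chevE6.cartan 1 (chevE6.simple 3) = -1 := by decide +kernel

/-- the four orbits -/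
def OA {q : ℕ} (Q : FrobOK K q) : Orbit K chevE6 K :=
  { L := L16, ρ := ρP Q 0, hL := lt16, hp := orth16, hc := cart16
    hsw := fun i hi s => swap1 i (lt16 i hi) s, i0 := 0, hi0 := by decide }
def OB {q : ℕ} (Q : FrobOK K q) : Orbit K chevE6 K :=
  { L := L35, ρ := ρP Q 2, hL := lt35, hp := orth35, hc := cart35
    hsw := fun i hi s => swap1 i (lt35 i hi) s, i0 := 2, hi0 := by decide }
def OC {q : ℕ} (Q : FrobOK K q) : Orbit K chevE6 (fixF Q) :=
  { L := L4, ρ := ρS Q, hL := lt4, hp := orth4, hc := cart4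
    hsw := fun i hi s => swap1 i (lt4 i hi) s, i0 := 3, hi0 := by decide }
def OE {q : ℕ} (Q : FrobOK K q) : Orbit K chevE6 (fixF Q) :=
  { L := L2, ρ := ρS Q, hL := lt2, hp := orth2, hc := cart2
    hsw := fun i hi s => swap1 i (lt2 i hi) s, i0 := 1, hi0 := by decide }

theorem XR_A {q : ℕ} (Q : FrobOK K q) (t : K) :
    XR chevE6 (OA Q).L (OA Q).ρ t = chevE6.x K 56 t * chevE6.x K 36 (t ^ q) := by
  show XJ K chevE6 [0, 5] (fun i => ρP Q 0 i t) = _
  unfold XJ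
  simp only [List.map_cons, List.map_nil, List.prod_cons, List.prod_nil, mul_one]
  rfl

theorem YR_A {q : ℕ} (Q : FrobOK K q) (t : K) :
    YR chevE6 (OA Q).L (OA Q).ρ t = chevE6.x K 15 t * chevE6.x K 35 (t ^ q) := by
  show YJ K chevE6 [0, 5] (fun i => ρP Q 0 i t) = _
  unfold YJ
  simp only [List.map_cons, List.map_nil, List.prod_cons, List.prod_nil, mul_one]
  rfl

theorem XR_B {q : ℕ} (Q : FrobOK K q) (t : K) :
    XR chevE6 (OB Q).L (OB Q).ρ t = chevE6.x K 42 t * chevE6.x K 37 (t ^ q) := by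
  show XJ K chevE6 [2, 4] (fun i => ρP Q 2 i t) = _
  unfold XJ
  simp only [List.map_cons, List.map_nil, List.prod_cons, List.prod_nil, mul_one]
  rfl

theorem YR_B {q : ℕ} (Q : FrobOK K q) (t : K) :
    YR chevE6 (OB Q).L (OB Q).ρ t = chevE6.x K 29 t * chevE6.x K 34 (t ^ q) := by
  show YJ K chevE6 [2, 4] (fun i => ρP Q 2 i t) = _
  unfold YJ
  simp only [List.map_cons, List.map_nil, List.prod_cons, List.prod_nil, mul_one]
  rfl

theorem XR_C {q : ℕ} (Q : FrobOK K q) (u : fixF Q) :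
    XR chevE6 (OC Q).L (OC Q).ρ u = chevE6.x K 39 (u : K) := by
  show XJ K chevE6 [3] (fun i => ρS Q i u) = _
  unfold XJ
  simp only [List.map_cons, List.map_nil, List.prod_cons, List.prod_nil, mul_one]
  rfl

theorem YR_C {q : ℕ} (Q : FrobOK K q) (u : fixF Q) :
    YR chevE6 (OC Q).L (OC Q).ρ u = chevE6.x K 32 (u : K) := by
  show YJ K chevE6 [3] (fun i => ρS Q i u) = _
  unfold YJ
  simp only [List.map_cons, List.map_nil, List.prod_cons, List.prod_nil, mul_one]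
  rfl

theorem XR_E {q : ℕ} (Q : FrobOK K q) (u : fixF Q) :
    XR chevE6 (OE Q).L (OE Q).ρ u = chevE6.x K 46 (u : K) := by
  show XJ K chevE6 [1] (fun i => ρS Q i u) = _
  unfold XJ
  simp only [List.map_cons, List.map_nil, List.prod_cons, List.prod_nil, mul_one]
  rfl

theorem YR_E {q : ℕ} (Q : FrobOK K q) (u : fixF Q) :
    YR chevE6 (OE Q).L (OE Q).ρ u = chevE6.x K 25 (u : K) := by
  show YJ K chevE6 [1] (fun i => ρS Q i u) = _
  unfold YJ
  simp only [List.map_cons, List.map_nil, List.prod_cons, List.prod_nil, mul_one]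
  rfl

/-- the link `A → B` -/
theorem link_AB {q : ℕ} (Q : FrobOK K q) (j : ℕ) (hj : j ∈ (OB Q).L) (a : K) (_ha : a ≠ 0) :
    ((OA Q).L.map fun l => ((OA Q).ρ l a) ^ chevE6.cartan l (chevE6.simple j)).prod
      = ((OB Q).ρ j (RingHom.id K a))⁻¹ := by
  obtain ⟨c1, c2, c3, c4, -⟩ := cartan_links
  have hj' : j = 2 ∨ j = 4 := by
    have : j ∈ [2, 4] := hj
    simpa using this
  show ([0, 5].map fun l => (ρP Q 0 l a) ^ chevE6.cartan l (chevE6.simple j)).prod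
    = (ρP Q 2 j a)⁻¹
  rcases hj' with rfl | rfl
  · simp [ρP, c1, c2, zpow_neg]
  · simp [ρP, c3, c4, zpow_neg]

/-- the link `C → B` -/
theorem link_CB {q : ℕ} (Q : FrobOK K q) (j : ℕ) (hj : j ∈ (OB Q).L) (a : fixF Q) (_ha : a ≠ 0) :
    ((OC Q).L.map fun l => ((OC Q).ρ l a) ^ chevE6.cartan l (chevE6.simple j)).prod
      = ((OB Q).ρ j ((fixF Q).subtype a))⁻¹ := by
  obtain ⟨-, -, -, -, c5, c6, -⟩ := cartan_links
  have hj' : j = 2 ∨ j = 4 := by
    have : j ∈ [2, 4] := hj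
    simpa using this
  show ([3].map fun l => (ρS Q l a) ^ chevE6.cartan l (chevE6.simple j)).prod
    = (ρP Q 2 j ((fixF Q).subtype a))⁻¹
  rcases hj' with rfl | rfl
  · simp [ρP, ρS, c5, zpow_neg]
  · simp [ρP, ρS, c6, zpow_neg, frobQ_apply, mem_fixF Q a]

/-- the link `E → C` -/
theorem link_EC {q : ℕ} (Q : FrobOK K q) (j : ℕ) (hj : j ∈ (OC Q).L) (a : fixF Q) (_ha : a ≠ 0) :
    ((OE Q).L.map fun l => ((OE Q).ρ l a) ^ chevE6.cartan l (chevE6.simple j)).prod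
      = ((OC Q).ρ j (RingHom.id (fixF Q) a))⁻¹ := by
  obtain ⟨-, -, -, -, -, -, c7⟩ := cartan_links
  have hj' : j = 3 := by
    have : j ∈ [3] := hj
    simpa using this
  subst hj'
  show ([1].map fun l => (ρS Q l a) ^ chevE6.cartan l (chevE6.simple 3)).prod
    = (ρS Q 3 (RingHom.id (fixF Q) a))⁻¹
  simp [ρS, c7, zpow_neg]

/-- the facts on `q = p^f` -/
theorem frobOK_of_char (p f : ℕ) [Fact p.Prime] [CharP K p] : FrobOK K (p ^ f) :=
  ⟨pow_ne_zero _ (Fact.out : p.Prime).ne_zero, fun s t => add_pow_char_pow s t p f⟩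

/-- **the algebra step of `Out(²E₆(q))`** : an automorphism of a group generated by the root elements
of the four orbits `A = {p₁, p₆}`, `B = {p₃, p₅}` (over `K = F_{q²}`), `C = {p₄}`, `E = {p₂}` (over
`F_q`) of `²E₆(q)` which permutes each of the eight families acts on them through one field
automorphism and four scalars -/
theorem e6_shape {K : Type*} [Field K] [Fintype K] (p f : ℕ) [Fact p.Prime] [CharP K p]
    (hK : Fintype.card K = p ^ (2 * f)) (hf : 1 ≤ f)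
    {G : Type*} [Group G] (i : G →* GL chevE6.Idx K) (hi : Function.Injective i)
    (gxA gyA gxB gyB gxC gyC gxE gyE : K → G)
    (hxA : ∀ t, (i (gxA t)).val = chevE6.x K 56 t * chevE6.x K 36 (t ^ (p ^ f)))
    (hyA : ∀ t, (i (gyA t)).val = chevE6.x K 15 t * chevE6.x K 35 (t ^ (p ^ f)))
    (hxB : ∀ t, (i (gxB t)).val = chevE6.x K 42 t * chevE6.x K 37 (t ^ (p ^ f)))
    (hyB : ∀ t, (i (gyB t)).val = chevE6.x K 29 t * chevE6.x K 34 (t ^ (p ^ f)))
    (hxC : ∀ u, u ^ (p ^ f) = u → (i (gxC u)).val = chevE6.x K 39 u)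
    (hyC : ∀ u, u ^ (p ^ f) = u → (i (gyC u)).val = chevE6.x K 32 u)
    (hxE : ∀ u, u ^ (p ^ f) = u → (i (gxE u)).val = chevE6.x K 46 u)
    (hyE : ∀ u, u ^ (p ^ f) = u → (i (gyE u)).val = chevE6.x K 25 u)
    (th : G ≃* G)
    (hthxA : ∀ t, ∃ t', th (gxA t) = gxA t') (hthyA : ∀ t, ∃ t', th (gyA t) = gyA t')
    (hthxB : ∀ t, ∃ t', th (gxB t) = gxB t') (hthyB : ∀ t, ∃ t', th (gyB t) = gyB t')
    (hthxC : ∀ u, u ^ (p ^ f) = u → ∃ u', u' ^ (p ^ f) = u' ∧ th (gxC u) = gxC u')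
    (hthyC : ∀ u, u ^ (p ^ f) = u → ∃ u', u' ^ (p ^ f) = u' ∧ th (gyC u) = gyC u')
    (hthxE : ∀ u, u ^ (p ^ f) = u → ∃ u', u' ^ (p ^ f) = u' ∧ th (gxE u) = gxE u')
    (hthyE : ∀ u, u ^ (p ^ f) = u → ∃ u', u' ^ (p ^ f) = u' ∧ th (gyE u) = gyE u') :
    ∃ (cA cB cC cE : K) (psi : K ≃+* K), cA ≠ 0 ∧ cB ≠ 0 ∧ cC ≠ 0 ∧ cC ^ (p ^ f) = cC ∧
      cE ≠ 0 ∧ cE ^ (p ^ f) = cE ∧
      (∀ t, th (gxA t) = gxA (cA * psi t)) ∧ (∀ t, th (gyA t) = gyA (cA⁻¹ * psi t)) ∧
      (∀ t, th (gxB t) = gxB (cB * psi t)) ∧ (∀ t, th (gyB t) = gyB (cB⁻¹ * psi t)) ∧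
      (∀ u, u ^ (p ^ f) = u → th (gxC u) = gxC (cC * psi u)) ∧
      (∀ u, u ^ (p ^ f) = u → th (gyC u) = gyC (cC⁻¹ * psi u)) ∧
      (∀ u, u ^ (p ^ f) = u → th (gxE u) = gxE (cE * psi u)) ∧
      (∀ u, u ^ (p ^ f) = u → th (gyE u) = gyE (cE⁻¹ * psi u)) := by
  have _ := hK
  have _ := hf
  have Q : FrobOK K (p ^ f) := frobOK_of_char p f
  -- the four families
  let RA : RFam K G := RFam.ofMatrix hE6 (OA Q) i hi gxA gyA
    (fun t => by rw [XR_A]; exact hxA t) (fun t => by rw [YR_A]; exact hyA t)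
  let RB : RFam K G := RFam.ofMatrix hE6 (OB Q) i hi gxB gyB
    (fun t => by rw [XR_B]; exact hxB t) (fun t => by rw [YR_B]; exact hyB t)
  let RC : RFam (fixF Q) G := RFam.ofMatrix hE6 (OC Q) i hi (fun u => gxC u.1) (fun u => gyC u.1)
    (fun u => by rw [XR_C]; exact hxC u.1 u.2) (fun u => by rw [YR_C]; exact hyC u.1 u.2)
  let RE : RFam (fixF Q) G := RFam.ofMatrix hE6 (OE Q) i hi (fun u => gxE u.1) (fun u => gyE u.1)
    (fun u => by rw [XR_E]; exact hxE u.1 u.2) (fun u => by rw [YR_E]; exact hyE u.1 u.2)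
  -- the maps induced by `θ`
  choose alA halA using hthxA
  choose gaA hgaA using hthyA
  choose alB halB using hthxB
  choose gaB hgaB using hthyB
  have hC1 : ∀ u : fixF Q, ∃ u' : fixF Q, th (RC.X u) = RC.X u' := fun u => by
    obtain ⟨u', h1, h2⟩ := hthxC u.1 u.2
    exact ⟨⟨u', h1⟩, h2⟩
  have hC2 : ∀ u : fixF Q, ∃ u' : fixF Q, th (RC.Y u) = RC.Y u' := fun u => by
    obtain ⟨u', h1, h2⟩ := hthyC u.1 u.2
    exact ⟨⟨u', h1⟩, h2⟩
  have hE1 : ∀ u : fixF Q, ∃ u' : fixF Q, th (RE.X u) = RE.X u' := fun u => by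
    obtain ⟨u', h1, h2⟩ := hthxE u.1 u.2
    exact ⟨⟨u', h1⟩, h2⟩
  have hE2 : ∀ u : fixF Q, ∃ u' : fixF Q, th (RE.Y u) = RE.Y u' := fun u => by
    obtain ⟨u', h1, h2⟩ := hthyE u.1 u.2
    exact ⟨⟨u', h1⟩, h2⟩
  choose alC halC using hC1
  choose gaC hgaC using hC2
  choose alE halE using hE1
  choose gaE hgaE using hE2
  -- shapes
  obtain ⟨ψA, a1, hφA, hγA, torA⟩ := RA.shape th (φ := alA) (γ := gaA) halA hgaA
  obtain ⟨ψB, b1, hφB, hγB, -⟩ := RB.shape th (φ := alB) (γ := gaB) halB hgaB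
  obtain ⟨ψC, c1, hφC, hγC, torC⟩ := RC.shape th (φ := alC) (γ := gaC) halC hgaC
  obtain ⟨ψE, e1, hφE, hγE, torE⟩ := RE.shape th (φ := alE) (γ := gaE) halE hgaE
  -- links
  have lAB : ∀ a : K, ψB a = ψA a := fun a =>
    RFam.link RA RB (RingHom.id K)
      (RFam.ofMatrix_link hE6 (OA Q) i hi gxA gyA _ _ (OB Q) gxB gyB _ _ (RingHom.id K)
        (link_AB Q)) th halB ψA ψB a1 hφA b1 hφB torA a
  have lCB : ∀ c : fixF Q, ψB (c : K) = (ψC c : K) := fun c =>
    RFam.link RC RB (fixF Q).subtype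
      (RFam.ofMatrix_link hE6 (OC Q) i hi _ _ _ _ (OB Q) gxB gyB _ _ (fixF Q).subtype
        (link_CB Q)) th halB ψC ψB c1 hφC b1 hφB torC c
  have lEC : ∀ e : fixF Q, ψC e = ψE e := fun e =>
    RFam.link RE RC (RingHom.id (fixF Q))
      (RFam.ofMatrix_link hE6 (OE Q) i hi _ _ _ _ (OC Q) _ _ _ _ (RingHom.id (fixF Q))
        (link_EC Q)) th halC ψE ψC e1 hφE c1 hφC torE e
  have hCK : ∀ c : fixF Q, (ψC c : K) = ψA (c : K) := fun c => by rw [← lCB, lAB]
  have hEK : ∀ c : fixF Q, (ψE c : K) = ψA (c : K) := fun c => by rw [← lEC, hCK]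
  have cne : ∀ b : fixF Q, b ≠ 0 → (b : K) ≠ 0 := fun b hb h => hb (Subtype.ext h)
  refine ⟨alA 1, alB 1, (alC 1 : K), (alE 1 : K), ψA, a1, b1, cne _ c1, (alC 1).2, cne _ e1,
    (alE 1).2, ?_, ?_, ?_, ?_, ?_, ?_, ?_, ?_⟩
  · intro t
    rw [halA, hφA]
  · intro t
    rw [hgaA, hγA]
  · intro t
    rw [halB, hφB, lAB]
  · intro t
    rw [hgaB, hγB, lAB]
  · intro u hu
    have := halC ⟨u, hu⟩
    show th (RC.X ⟨u, hu⟩) = _
    rw [this, hφC]
    show gxC ((alC 1 * ψC ⟨u, hu⟩ : fixF Q) : K) = _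
    rw [Subfield.coe_mul, hCK]
  · intro u hu
    have := hgaC ⟨u, hu⟩
    show th (RC.Y ⟨u, hu⟩) = _
    rw [this, hγC]
    show gyC (((alC 1)⁻¹ * ψC ⟨u, hu⟩ : fixF Q) : K) = _
    rw [Subfield.coe_mul, Subfield.coe_inv, hCK]
  · intro u hu
    have := halE ⟨u, hu⟩
    show th (RE.X ⟨u, hu⟩) = _
    rw [this, hφE]
    show gxE ((alE 1 * ψE ⟨u, hu⟩ : fixF Q) : K) = _
    rw [Subfield.coe_mul, hEK]
  · intro u hu
    have := hgaE ⟨u, hu⟩
    show th (RE.Y ⟨u, hu⟩) = _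
    rw [this, hγE]
    show gyE (((alE 1)⁻¹ * ψE ⟨u, hu⟩ : fixF Q) : K) = _
    rw [Subfield.coe_mul, Subfield.coe_inv, hEK]

end Cfsg.Agent.TwRankOne.E6
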