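import Mathlib

set_option autoImplicit false

/-!
# Sylow conjugacy and the Frattini argument in ambient form

Pure group theory used for S3401 (2-transitive groups of degree `≡ 2 mod 4`).
-/

namespace Cfsg.Agent.Lib.Lead.SylowAmb

/-- Sylow conjugacy inside `B ≤ A`, for subgroups of the ambient group. -/
theorem sylow_conj_in {G : Type*} [Group G] [Finite G] (p : ℕ) [Fact p.Prime]
    (A B Q Q' : Subgroup G)
    (hBA : B ≤ A) (hQ : Q ≤ B) (hQ' : Q' ≤ B)
    (hcQ : Nat.card Q = p ^ (Nat.card A).factorization p)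
    (hcQ' : Nat.card Q' = p ^ (Nat.card A).factorization p) :
    ∃ u ∈ B, ∀ x : G, x ∈ Q' ↔ u * x * u⁻¹ ∈ Q := by
  have hp : p.Prime := Fact.out
  -- the `p`-parts of `|A|` and `|B|` agree
  have hfac : (Nat.card B).factorization p = (Nat.card A).factorization p := by
    apply le_antisymm
    · exact (Nat.factorization_le_iff_dvd Nat.card_pos.ne' Nat.card_pos.ne').mpr
        (Subgroup.card_dvd_of_le hBA) p
    · have h1 : Nat.card Q ∣ Nat.card B := Subgroup.card_dvd_of_le hQ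
      rw [hcQ] at h1
      exact (hp.pow_dvd_iff_le_factorization Nat.card_pos.ne').mp h1
  have hc1 : Nat.card (Q.subgroupOf B) = p ^ (Nat.card B).factorization p := by
    rw [hfac, ← hcQ]
    exact Nat.card_congr (Subgroup.subgroupOfEquivOfLe hQ).toEquiv
  have hc2 : Nat.card (Q'.subgroupOf B) = p ^ (Nat.card B).factorization p := by
    rw [hfac, ← hcQ']
    exact Nat.card_congr (Subgroup.subgroupOfEquivOfLe hQ').toEquiv
  let P : Sylow p B := Sylow.ofCard (Q.subgroupOf B) hc1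
  let P' : Sylow p B := Sylow.ofCard (Q'.subgroupOf B) hc2
  obtain ⟨g, hg⟩ := MulAction.exists_smul_eq B P' P
  refine ⟨(g : G), g.2, ?_⟩
  intro x
  constructor
  · intro hx
    have hxB : x ∈ B := hQ' hx
    have h1 : (⟨x, hxB⟩ : B) ∈ (P' : Subgroup B) := by
      show (⟨x, hxB⟩ : B) ∈ Q'.subgroupOf B
      rw [Subgroup.mem_subgroupOf]; exact hx
    have h2 : g * ⟨x, hxB⟩ * g⁻¹ ∈ ((g • P' : Sylow p B) : Subgroup B) := by
      rw [Sylow.coe_subgroup_smul, Subgroup.mem_pointwise_smul_iff_inv_smul_mem]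
      have e : (MulAut.conj g)⁻¹ • (g * ⟨x, hxB⟩ * g⁻¹) = ⟨x, hxB⟩ := by
        rw [MulAut.smul_def, MulAut.conj_inv_apply]
        group
      rw [e]; exact h1
    rw [hg] at h2
    have h3 : g * ⟨x, hxB⟩ * g⁻¹ ∈ Q.subgroupOf B := h2
    rw [Subgroup.mem_subgroupOf] at h3
    exact h3
  · intro hx
    have hxB : x ∈ B := by
      have h1 : (g : G) * x * (g : G)⁻¹ ∈ B := hQ hx
      have e : x = (g : G)⁻¹ * ((g : G) * x * (g : G)⁻¹) * (g : G) := by group
      rw [e]
      exact B.mul_mem (B.mul_mem (B.inv_mem g.2) h1) g.2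
    have h1 : g * ⟨x, hxB⟩ * g⁻¹ ∈ (P : Subgroup B) := by
      show g * ⟨x, hxB⟩ * g⁻¹ ∈ Q.subgroupOf B
      rw [Subgroup.mem_subgroupOf]; exact hx
    rw [← hg, Sylow.coe_subgroup_smul, Subgroup.mem_pointwise_smul_iff_inv_smul_mem] at h1
    have e : (MulAut.conj g)⁻¹ • (g * ⟨x, hxB⟩ * g⁻¹) = ⟨x, hxB⟩ := by
      rw [MulAut.smul_def, MulAut.conj_inv_apply]
      group
    rw [e] at h1
    have h2 : (⟨x, hxB⟩ : B) ∈ Q'.subgroupOf B := h1
    rw [Subgroup.mem_subgroupOf] at h2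
    exact h2

/-- The Frattini argument, for subgroups of the ambient group. -/
theorem frattini_in {G : Type*} [Group G] [Finite G] (p : ℕ) [Fact p.Prime] (H A Q : Subgroup G)
    (hAH : A ≤ H) (hAn : H ≤ Subgroup.normalizer (A : Set G)) (hQA : Q ≤ A)
    (hcQ : Nat.card Q = p ^ (Nat.card A).factorization p) :
    ∀ h ∈ H, ∃ a ∈ A, ∃ y ∈ H, y ∈ Subgroup.normalizer (Q : Set G) ∧ h = a * y := by
  intro h hh
  set Q' : Subgroup G := Q.map (MulAut.conj h).toMonoidHom with hQ'def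
  have hmemQ' : ∀ x : G, x ∈ Q' ↔ h⁻¹ * x * h ∈ Q := by
    intro x
    constructor
    · rintro ⟨q, hq, rfl⟩
      have e : h⁻¹ * ((MulAut.conj h).toMonoidHom q) * h = q := by
        show h⁻¹ * (h * q * h⁻¹) * h = q
        group
      rw [e]; exact hq
    · intro hx
      refine ⟨h⁻¹ * x * h, hx, ?_⟩
      show h * (h⁻¹ * x * h) * h⁻¹ = x
      group
  have hQ'A : Q' ≤ A := by
    intro x hx
    rw [hmemQ'] at hx
    have h1 : h⁻¹ * x * h ∈ A := hQA hx
    have h2 := (Subgroup.mem_normalizer_iff.mp (hAn hh) (h⁻¹ * x * h)).mp h1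
    have e : h * (h⁻¹ * x * h) * h⁻¹ = x := by group
    rwa [e] at h2
  have hcQ' : Nat.card Q' = p ^ (Nat.card A).factorization p := by
    rw [← hcQ]
    exact (Nat.card_congr (Q.equivMapOfInjective _ (MulAut.conj h).injective).toEquiv).symm
  obtain ⟨u, huA, hu⟩ := sylow_conj_in p A A Q Q' le_rfl hQA hQ'A hcQ hcQ'
  refine ⟨u⁻¹, A.inv_mem huA, u * h, H.mul_mem (hAH huA) hh, ?_, by group⟩
  rw [Subgroup.mem_normalizer_iff]
  intro q
  have e : u * h * q * (u * h)⁻¹ = u * (h * q * h⁻¹) * u⁻¹ := by group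
  rw [e, ← hu (h * q * h⁻¹), hmemQ']
  have e2 : h⁻¹ * (h * q * h⁻¹) * h = q := by group
  rw [e2]

/-- A `2`-subgroup of index two below a Sylow `2`-subgroup: one more step. -/
theorem exists_two_step {M : Type*} [Group M] [Finite M] (Q : Subgroup M) (k : ℕ)
    (hcQ : Nat.card Q = 2 ^ k) (hM : (Nat.card M).factorization 2 = k + 1) :
    ∃ s : M, s ∉ Q ∧ s * s ∈ Q ∧ (∀ q : M, q ∈ Q ↔ s * q * s⁻¹ ∈ Q) ∧
      Nat.card ↥(Q ⊔ Subgroup.zpowers s) = 2 ^ (k + 1) := by
  have : Fact (Nat.Prime 2) := ⟨Nat.prime_two⟩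
  have hdvd : 2 ^ (k + 1) ∣ Nat.card M := by
    rw [← hM]; exact Nat.ordProj_dvd _ _
  obtain ⟨K, hK, hQK⟩ := Sylow.exists_subgroup_card_pow_succ hdvd hcQ
  -- index two
  have hcQK : Nat.card (Q.subgroupOf K) = 2 ^ k := by
    rw [← hcQ]
    exact Nat.card_congr (Subgroup.subgroupOfEquivOfLe hQK).toEquiv
  have hidx : (Q.subgroupOf K).index = 2 := by
    have h1 := Subgroup.card_mul_index (Q.subgroupOf K)
    rw [hcQK, hK, pow_succ] at h1
    exact Nat.eq_of_mul_eq_mul_left (pow_pos (by norm_num) k) h1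
  have hnorm : (Q.subgroupOf K).Normal := Subgroup.normal_of_index_eq_two hidx
  -- an element outside
  have hex : ∃ s : K, s ∉ Q.subgroupOf K := by
    by_contra hcon
    push Not at hcon
    have : Q.subgroupOf K = ⊤ := by
      rw [eq_top_iff]; intro x _; exact hcon x
    rw [this, Subgroup.index_top] at hidx
    norm_num at hidx
  obtain ⟨s, hs⟩ := hex
  have hsQ : (s : M) ∉ Q := fun h => hs (Subgroup.mem_subgroupOf.mpr h)
  refine ⟨(s : M), hsQ, ?_, ?_, ?_⟩
  · have h1 := Subgroup.mul_self_mem_of_index_two hidx s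
    rw [Subgroup.mem_subgroupOf] at h1
    exact h1
  · intro q
    constructor
    · intro hq
      have hqK : q ∈ K := hQK hq
      have h1 : (⟨q, hqK⟩ : K) ∈ Q.subgroupOf K := Subgroup.mem_subgroupOf.mpr hq
      have h2 := hnorm.conj_mem _ h1 s
      rw [Subgroup.mem_subgroupOf] at h2
      exact h2
    · intro hq
      have hqK : q ∈ K := by
        have h1 : (s : M) * q * (s : M)⁻¹ ∈ K := hQK hq
        have e : q = (s : M)⁻¹ * ((s : M) * q * (s : M)⁻¹) * (s : M) := by group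
        rw [e]
        exact K.mul_mem (K.mul_mem (K.inv_mem s.2) h1) s.2
      have h1 : s * ⟨q, hqK⟩ * s⁻¹ ∈ Q.subgroupOf K := Subgroup.mem_subgroupOf.mpr hq
      have h2 := hnorm.conj_mem _ h1 s⁻¹
      have e : s⁻¹ * (s * ⟨q, hqK⟩ * s⁻¹) * s⁻¹⁻¹ = ⟨q, hqK⟩ := by group
      rw [e, Subgroup.mem_subgroupOf] at h2
      exact h2
  · have hKeq : Q ⊔ Subgroup.zpowers (s : M) = K := by
      apply le_antisymm
      · apply sup_le hQK
        rw [Subgroup.zpowers_le]; exact s.2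
      · intro x hx
        by_cases hxQ : x ∈ Q
        · exact (le_sup_left : Q ≤ Q ⊔ Subgroup.zpowers (s : M)) hxQ
        · have hxs : s⁻¹ * ⟨x, hx⟩ ∈ Q.subgroupOf K := by
            rw [Subgroup.mul_mem_iff_of_index_two hidx]
            constructor
            · intro h; exact absurd ((Subgroup.inv_mem_iff _).mp h) hs
            · intro h; exact absurd (Subgroup.mem_subgroupOf.mp h) hxQ
          rw [Subgroup.mem_subgroupOf] at hxs
          have e : x = (s : M) * ((s : M)⁻¹ * x) := by group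
          rw [e]
          apply Subgroup.mul_mem
          · exact (le_sup_right : Subgroup.zpowers (s : M) ≤ Q ⊔ Subgroup.zpowers (s : M))
              (Subgroup.mem_zpowers _)
          · exact (le_sup_left : Q ≤ Q ⊔ Subgroup.zpowers (s : M)) hxs
    rw [hKeq, hK]

end Cfsg.Agent.Lib.Lead.SylowAmb
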