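import Mathlib

/-!
Interface for S1903: the abstract characterisation `K64 T η` of the Sylow 2-subgroup of
`U₃(4)` together with a fixed-point-free automorphism of order 5.
-/

set_option autoImplicit false

namespace Cfsg.Agent.Lib.Lead.K64Def

/-- `K64 T η`: `T` has order 64, centre `V` elementary abelian of order 4, `T / V` elementary abelian,
only elements of `V` square to one; `η` is an automorphism with `η ^ 5 = 1`, trivial on `V`, and
fixed-point-free on `T / V`. -/
structure K64 (T : Type*) [Group T] (η : T ≃* T) : Prop where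
  card : Nat.card T = 64
  card_center : Nat.card (Subgroup.center T) = 4
  center_sq : ∀ x ∈ Subgroup.center T, x ^ 2 = 1
  sq_mem : ∀ x : T, x ^ 2 ∈ Subgroup.center T
  comm_mem : ∀ x y : T, x * y * x⁻¹ * y⁻¹ ∈ Subgroup.center T
  sq_eq_one : ∀ x : T, x ^ 2 = 1 → x ∈ Subgroup.center T
  pow_five : ∀ x : T, η (η (η (η (η x)))) = x
  fix_center : ∀ x ∈ Subgroup.center T, η x = x
  fpf : ∀ x : T, x⁻¹ * η x ∈ Subgroup.center T → x ∈ Subgroup.center T

end Cfsg.Agent.Lib.Lead.K64Def
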