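import Mathlib

set_option autoImplicit false
set_option linter.unusedVariables false
set_option linter.style.haveILetI false

/-! Counting elements of order 3 in a two-point stabiliser of a sharply 3-transitive group. -/

namespace Cfsg.Agent.Lead.SharpThree

open MulAction

variable {K Ω : Type*} [Group K] [MulAction K Ω]

lemma vec3_inj {p q r : Ω} (hpq : p ≠ q) (hpr : p ≠ r) (hqr : q ≠ r) :
    Function.Injective ![p, q, r] := by
  intro i j hij
  fin_cases i <;> fin_cases j <;> simp_all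

lemma eq_one_of_fix3 (hsharp : ∀ x : Fin 3 ↪ Ω, stabilizer K x = ⊥) (g : K) {p q r : Ω}
    (hpq : p ≠ q) (hpr : p ≠ r) (hqr : q ≠ r) (hp : g • p = p) (hq : g • q = q)
    (hr : g • r = r) : g = 1 := by
  let x : Fin 3 ↪ Ω := ⟨![p, q, r], vec3_inj hpq hpr hqr⟩
  have hmem : g ∈ stabilizer K x := by
    rw [mem_stabilizer_iff]
    ext i
    rw [Function.Embedding.smul_apply]
    fin_cases i
    · exact hp
    · exact hq
    · exact hr
  rw [hsharp x, Subgroup.mem_bot] at hmem
  exact hmem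

lemma eq_of_agree3 (hsharp : ∀ x : Fin 3 ↪ Ω, stabilizer K x = ⊥) (g h : K) {p q r : Ω}
    (hpq : p ≠ q) (hpr : p ≠ r) (hqr : q ≠ r) (hp : g • p = h • p) (hq : g • q = h • q)
    (hr : g • r = h • r) : g = h := by
  have : h⁻¹ * g = 1 := by
    apply eq_one_of_fix3 hsharp (h⁻¹ * g) hpq hpr hqr
    · rw [mul_smul, hp, inv_smul_smul]
    · rw [mul_smul, hq, inv_smul_smul]
    · rw [mul_smul, hr, inv_smul_smul]
  exact (inv_mul_eq_one.1 this).symm

lemma cube_smul {z : K} (hz : orderOf z = 3) (c : Ω) : z • z • z • c = c := by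
  have h : z ^ 3 = 1 := by rw [← hz]; exact pow_orderOf_eq_one z
  rw [smul_smul, smul_smul, ← pow_three', h, one_smul]

lemma conj_smul (g z : K) (c : Ω) : (g * z * g⁻¹) • (g • c) = g • z • c := by
  rw [mul_smul, mul_smul, inv_smul_smul]

lemma tri_distinct (hsharp : ∀ x : Fin 3 ↪ Ω, stabilizer K x = ⊥) {a b c₀ : Ω} (hab : a ≠ b)
    (hac : a ≠ c₀) (hbc : b ≠ c₀) {z : K} (hza : z • a = a) (hzb : z • b = b)
    (hz : orderOf z = 3) :
    c₀ ≠ z • c₀ ∧ c₀ ≠ z • z • c₀ ∧ z • c₀ ≠ z • z • c₀ := by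
  have hz1 : z ≠ 1 := by
    rintro rfl
    rw [orderOf_one] at hz
    omega
  have h1 : z • c₀ ≠ c₀ := fun h => hz1 (eq_one_of_fix3 hsharp z hab hac hbc hza hzb h)
  refine ⟨fun h => h1 h.symm, fun h => ?_, fun h => ?_⟩
  · apply h1
    have h2 : z • c₀ = z • z • z • c₀ := congrArg (fun t => z • t) h
    rw [cube_smul hz] at h2
    exact h2
  · exact h1 (smul_left_cancel z h).symm

/-- In a sharply 3-transitive group, a two-point stabiliser contains at most two elements
of order 3. -/
theorem card_order3_le_two [Finite K] [Finite Ω] (h3 : IsMultiplyPretransitive K Ω 3)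
    (hsharp : ∀ x : Fin 3 ↪ Ω, stabilizer K x = ⊥) {a b c₀ : Ω} (hab : a ≠ b) (hac : a ≠ c₀)
    (hbc : b ≠ c₀) :
    Nat.card {z : K // z • a = a ∧ z • b = b ∧ orderOf z = 3} ≤ 2 := by
  classical
  haveI := Fintype.ofFinite K
  haveI := Fintype.ofFinite Ω
  haveI : Fintype {z : K // z • a = a ∧ z • b = b ∧ orderOf z = 3} := Fintype.ofFinite _
  let f : {z : K // z • a = a ∧ z • b = b ∧ orderOf z = 3} × K → (Fin 3 ↪ Ω) := fun p =>
    ⟨![p.2 • c₀, p.2 • p.1.1 • c₀, p.2 • p.1.1 • p.1.1 • c₀], by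
      obtain ⟨h1, h2, h3⟩ := tri_distinct hsharp hab hac hbc p.1.2.1 p.1.2.2.1 p.1.2.2.2
      exact vec3_inj (fun h => h1 (smul_left_cancel _ h)) (fun h => h2 (smul_left_cancel _ h))
        (fun h => h3 (smul_left_cancel _ h))⟩
  have key : ∀ p p' : {z : K // z • a = a ∧ z • b = b ∧ orderOf z = 3} × K, f p = f p' →
      p = p' ∨ (p'.2 • a = p.2 • b ∧ p'.2 • b = p.2 • a) := by
    rintro ⟨⟨z, hza, hzb, hz⟩, g⟩ ⟨⟨z', hza', hzb', hz'⟩, g'⟩ h
    have e0 : g • c₀ = g' • c₀ := DFunLike.congr_fun h 0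
    have e1 : g • z • c₀ = g' • z' • c₀ := DFunLike.congr_fun h 1
    have e2 : g • z • z • c₀ = g' • z' • z' • c₀ := DFunLike.congr_fun h 2
    obtain ⟨d1, d2, d3⟩ := tri_distinct hsharp hab hac hbc hza hzb hz
    have D1 : g • c₀ ≠ g • z • c₀ := fun h => d1 (smul_left_cancel _ h)
    have D2 : g • c₀ ≠ g • z • z • c₀ := fun h => d2 (smul_left_cancel _ h)
    have D3 : g • z • c₀ ≠ g • z • z • c₀ := fun h => d3 (smul_left_cancel _ h)
    have hw : g * z * g⁻¹ = g' * z' * g'⁻¹ := by
      apply eq_of_agree3 hsharp _ _ D1 D2 D3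
      · rw [conj_smul]
        rw [e0, conj_smul, e1]
      · rw [conj_smul]
        rw [e1, conj_smul, e2]
      · rw [conj_smul, cube_smul hz]
        rw [e2, conj_smul, cube_smul hz', e0]
    have hz1 : g * z * g⁻¹ ≠ 1 := by
      intro h1
      rw [conj_eq_one_iff] at h1
      rw [h1, orderOf_one] at hz
      omega
    have fa : (g * z * g⁻¹) • (g • a) = g • a := by rw [conj_smul, hza]
    have fb : (g * z * g⁻¹) • (g • b) = g • b := by rw [conj_smul, hzb]
    have fa' : (g * z * g⁻¹) • (g' • a) = g' • a := by rw [hw, conj_smul, hza']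
    have fb' : (g * z * g⁻¹) • (g' • b) = g' • b := by rw [hw, conj_smul, hzb']
    have Dab : g • a ≠ g • b := fun h => hab (smul_left_cancel _ h)
    have Dab' : g' • a ≠ g' • b := fun h => hab (smul_left_cancel _ h)
    have c1 : g' • a = g • a ∨ g' • a = g • b := by
      by_contra hcon
      push_neg at hcon
      exact hz1 (eq_one_of_fix3 hsharp _ Dab (Ne.symm hcon.1) (Ne.symm hcon.2) fa fb fa')
    have c2 : g' • b = g • a ∨ g' • b = g • b := by
      by_contra hcon
      push_neg at hcon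
      exact hz1 (eq_one_of_fix3 hsharp _ Dab (Ne.symm hcon.1) (Ne.symm hcon.2) fa fb fb')
    rcases c1 with c1 | c1 <;> rcases c2 with c2 | c2
    · exact absurd (c1.trans c2.symm) Dab'
    · left
      have hgg : g = g' := eq_of_agree3 hsharp g g' hab hac hbc c1.symm c2.symm e0
      subst hgg
      have hzz : z = z' := mul_left_cancel (mul_right_cancel hw)
      subst hzz
      rfl
    · right
      exact ⟨c1, c2⟩
    · exact absurd (c1.trans c2.symm) Dab'
  have hfib : ∀ e ∈ (Finset.univ : Finset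
      ({z : K // z • a = a ∧ z • b = b ∧ orderOf z = 3} × K)).image f,
      (Finset.univ.filter (fun p => f p = e)).card ≤ 2 := by
    intro e _
    by_contra hcon
    push_neg at hcon
    obtain ⟨p₁, p₂, p₃, h1, h2, h3, h12, h13, h23⟩ := Finset.two_lt_card_iff.1 hcon
    simp only [Finset.mem_filter, Finset.mem_univ, true_and] at h1 h2 h3
    rcases key p₁ p₂ (h1.trans h2.symm) with h | ⟨k1, k2⟩
    · exact h12 h
    rcases key p₁ p₃ (h1.trans h3.symm) with h | ⟨k3, k4⟩
    · exact h13 h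
    rcases key p₂ p₃ (h2.trans h3.symm) with h | ⟨k5, k6⟩
    · exact h23 h
    have : p₂.2 • b = p₂.2 • a := by rw [← k5, k3, ← k1]
    exact hab (smul_left_cancel _ this).symm
  have hcard := Finset.card_le_mul_card_image (Finset.univ : Finset
      ({z : K // z • a = a ∧ z • b = b ∧ orderOf z = 3} × K)) 2 hfib
  rw [Finset.card_univ, Fintype.card_prod] at hcard
  have him : ((Finset.univ : Finset
      ({z : K // z • a = a ∧ z • b = b ∧ orderOf z = 3} × K)).image f).card ≤
      Fintype.card (Fin 3 ↪ Ω) := Finset.card_le_univ _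
  have hKE : Fintype.card K = Fintype.card (Fin 3 ↪ Ω) := by
    let x₀ : Fin 3 ↪ Ω := ⟨![a, b, c₀], vec3_inj hab hac hbc⟩
    apply Fintype.card_of_bijective (f := fun g : K => g • x₀)
    constructor
    · intro g g' h
      have h' : g • x₀ = g' • x₀ := h
      have : g'⁻¹ * g ∈ stabilizer K x₀ := by
        rw [mem_stabilizer_iff, mul_smul, h', inv_smul_smul]
      rw [hsharp, Subgroup.mem_bot] at this
      exact (inv_mul_eq_one.1 this).symm
    · intro y
      exact h3.exists_smul_eq x₀ y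
  rw [Nat.card_eq_fintype_card]
  have hpos : 0 < Fintype.card K := Fintype.card_pos
  have : Fintype.card {z : K // z • a = a ∧ z • b = b ∧ orderOf z = 3} * Fintype.card K ≤
      2 * Fintype.card K := by
    calc _ ≤ 2 * _ := hcard
      _ ≤ 2 * Fintype.card K := by rw [hKE]; exact Nat.mul_le_mul_left 2 him
  exact Nat.le_of_mul_le_mul_right this hpos

end Cfsg.Agent.Lead.SharpThree
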