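import Cfsg.Agent.Lib.Lead.AutPSLCountB
import Mathlib

/-!
# Counting `Aut(PSL_n(F))` from the factorisation `Aut = Inndiag · Field · ⟨inverse transpose⟩` (lead)

`Fac n F` is the factorisation (the statement of S2690, see `fac_of_statement`); under it the group `Dsub n F` of
inner-diagonal automorphisms is normal, isomorphic to `PGL_n(F)`, with complement `Aut(F) × ⟨Γ⟩` (`n ≥ 3`) or `Aut(F)`
(`n = 2`): `card_aut_three`, `card_aut_two`.
-/

set_option autoImplicit false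

namespace Cfsg.Agent.AutPSLCount
open Cfsg Matrix

/-! ### an abstract splitting lemma -/

section abstract

variable {A X : Type*} [Group A] [Group X] (D : Subgroup A) [D.Normal] (κ : X →* A)

theorem split_bijective (hsurj : ∀ β : A, ∃ δ ∈ D, ∃ x : X, β = δ * κ x)
    (hinj : ∀ x, κ x ∈ D → x = 1) :
    Function.Bijective ((QuotientGroup.mk' D).comp κ) := by
  constructor
  · rw [injective_iff_map_eq_one]
    intro x hx
    apply hinj
    rwa [MonoidHom.comp_apply, QuotientGroup.mk'_apply, QuotientGroup.eq_one_iff] at hx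
  · intro y
    obtain ⟨β, rfl⟩ := QuotientGroup.mk'_surjective D y
    obtain ⟨δ, hδ, x, rfl⟩ := hsurj β
    refine ⟨x, ?_⟩
    have h1 : (QuotientGroup.mk' D) δ = 1 := (QuotientGroup.eq_one_iff δ).2 hδ
    rw [MonoidHom.comp_apply, map_mul, h1, one_mul]

/-- the complement `X` is isomorphic to the quotient -/
noncomputable def splitEquiv (hsurj : ∀ β : A, ∃ δ ∈ D, ∃ x : X, β = δ * κ x)
    (hinj : ∀ x, κ x ∈ D → x = 1) : X ≃* A ⧸ D :=
  MulEquiv.ofBijective _ (split_bijective D κ hsurj hinj)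

theorem splitEquiv_apply (hsurj : ∀ β : A, ∃ δ ∈ D, ∃ x : X, β = δ * κ x)
    (hinj : ∀ x, κ x ∈ D → x = 1) (x : X) :
    splitEquiv D κ hsurj hinj x = QuotientGroup.mk (κ x) := rfl

theorem split_card (hsurj : ∀ β : A, ∃ δ ∈ D, ∃ x : X, β = δ * κ x)
    (hinj : ∀ x, κ x ∈ D → x = 1) : Nat.card A = Nat.card X * Nat.card D := by
  rw [Subgroup.card_eq_card_quotient_mul_card_subgroup D,
    Nat.card_congr (splitEquiv D κ hsurj hinj).toEquiv]

end abstract

variable {n : ℕ} {F : Type*} [Field F]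

/-- the inner-diagonal automorphisms, as a homomorphism from `GL_n` -/
noncomputable def Dh : GL (Fin n) F →* MulAut (PSLn n F) := liftAut.comp conjSL
/-- the standard field automorphisms -/
noncomputable def Ph : RingAut F →* MulAut (PSLn n F) := liftAut.comp fieldSL
/-- the inverse transpose automorphism -/
noncomputable def Γ : MulAut (PSLn n F) := liftAut itSL

theorem Dh_apply (g : GL (Fin n) F) : Dh g = liftAut (conjSL g) := rfl
theorem Ph_apply (σ : RingAut F) : (Ph σ : MulAut (PSLn n F)) = liftAut (fieldSL σ) := rfl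

theorem Ph_Dh (σ : RingAut F) (g : GL (Fin n) F) :
    Ph σ * Dh g = Dh (Matrix.GeneralLinearGroup.map (σ : F →+* F) g) * Ph σ := by
  rw [Ph_apply, Dh_apply, Dh_apply, ← map_mul, field_conj, map_mul]

theorem Γ_Dh (g : GL (Fin n) F) : Γ * Dh g = Dh (gti g) * Γ := by
  unfold Γ
  rw [Dh_apply, Dh_apply, ← map_mul, it_conj, map_mul]

theorem Γ_Ph (σ : RingAut F) : Γ * Ph σ = Ph σ * (Γ : MulAut (PSLn n F)) := by
  unfold Γ
  rw [Ph_apply, ← map_mul, it_field, map_mul]

theorem Γ_Γ : Γ * Γ = (1 : MulAut (PSLn n F)) := by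
  unfold Γ
  rw [← map_mul, it_it, map_one]

/-- inner automorphisms are inner-diagonal -/
theorem conj_pr (s : SLn n F) : MulAut.conj (pr s) = Dh (SpecialLinearGroup.toGL s) := by
  apply aut_ext
  intro t
  rw [Dh_apply, liftAut_pr, MulAut.conj_apply, ← map_mul, ← map_inv, ← map_mul]
  congr 1

/-- the kernel of `Dh` is the centre of `GL_n` -/
theorem Dh_ker (hn : 2 ≤ n) : (Dh : GL (Fin n) F →* MulAut (PSLn n F)).ker = Subgroup.center _ := by
  ext g
  rw [MonoidHom.mem_ker, Matrix.GeneralLinearGroup.mem_center_iff_val_mem_range_scalar]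
  constructor
  · intro h
    have h' : liftAut (conjSL g) = liftAut (fieldSL (1 : RingAut F)) := by
      rw [← Dh_apply, h, map_one, map_one]
    obtain ⟨⟨c, hc⟩, -⟩ := conj_eq_field hn g 1 h'
    exact ⟨c, hc.symm⟩
  · rintro ⟨c, hc⟩
    apply aut_ext
    intro s
    rw [Dh_apply, liftAut_pr, MulAut.one_apply]
    congr 1
    apply Subtype.ext
    rw [conjSL_apply, conjFun_val, ← hc]
    have hg' : g.val * g⁻¹.val = 1 := by rw [← Units.val_mul, mul_inv_cancel, Units.val_one]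
    rw [(Matrix.scalar_commute c (fun r' => mul_comm c r') s.val).eq, Matrix.mul_assoc, hc, hg',
      Matrix.mul_one]

/-- the group of inner-diagonal automorphisms -/
noncomputable def Dsub (n : ℕ) (F : Type*) [Field F] : Subgroup (MulAut (PSLn n F)) :=
  (Dh : GL (Fin n) F →* MulAut (PSLn n F)).range

theorem card_Dsub (hn : 2 ≤ n) :
    Nat.card (Dsub n F) = Nat.card (Matrix.ProjGenLinGroup (Fin n) F) := by
  have e := QuotientGroup.quotientKerEquivRange (Dh : GL (Fin n) F →* MulAut (PSLn n F))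
  have e2 : GL (Fin n) F ⧸ (Dh : GL (Fin n) F →* MulAut (PSLn n F)).ker
      ≃* Matrix.ProjGenLinGroup (Fin n) F :=
    QuotientGroup.quotientMulEquivOfEq (Dh_ker hn)
  exact (Nat.card_congr e.toEquiv).symm.trans (Nat.card_congr e2.toEquiv)

/-! ### the factorisation hypothesis (the statement of S2690) -/

/-- every automorphism is `D(g) Φ(σ)` or `D(g) Φ(σ) Γ` -/
def Fac (n : ℕ) (F : Type*) [Field F] : Prop :=
  ∀ β : MulAut (PSLn n F), ∃ (g : GL (Fin n) F) (σ : RingAut F) (c : MulAut (PSLn n F)),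
    (c = 1 ∨ c = Γ) ∧ β = Dh g * Ph σ * c

theorem fac_of_statement
    (h : ∀ β : MulAut (Matrix.ProjectiveSpecialLinearGroup (Fin n) F),
      ∃ (δ φ γ : MulAut (Matrix.ProjectiveSpecialLinearGroup (Fin n) F)) (σ : F ≃+* F),
        Cfsg.IsInnerDiagonalAutPSL δ ∧ Cfsg.IsStdFieldAutPSL σ φ ∧
          (γ = 1 ∨ Cfsg.IsInverseTransposeAutPSL γ) ∧ β = δ * φ * γ) : Fac n F := by
  intro β
  obtain ⟨δ, φ, γ, σ, h1, h2, h3, h4⟩ := h β
  obtain ⟨g, rfl⟩ := (innerDiag_iff δ).1 h1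
  have h2' := (stdField_iff σ φ).1 h2
  subst h2'
  refine ⟨g, σ, γ, ?_, h4⟩
  rcases h3 with h3 | h3
  · exact Or.inl h3
  · exact Or.inr ((invTr_iff γ).1 h3)

theorem Dsub_normal (hfac : Fac n F) : (Dsub n F).Normal := by
  have hP : ∀ (σ : RingAut F) (g' : GL (Fin n) F),
      Ph σ * Dh g' * (Ph σ)⁻¹ = Dh (Matrix.GeneralLinearGroup.map (σ : F →+* F) g') := by
    intro σ g'
    rw [Ph_Dh, mul_inv_cancel_right]
  have hG : ∀ g' : GL (Fin n) F, Γ * Dh g' * Γ⁻¹ = Dh (gti g') := by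
    intro g'
    rw [Γ_Dh, mul_inv_cancel_right]
  constructor
  rintro d ⟨g', rfl⟩ β
  obtain ⟨g, σ, c, hc, rfl⟩ := hfac β
  have hc' : ∃ g'', c * Dh g' * c⁻¹ = Dh g'' := by
    rcases hc with rfl | rfl
    · exact ⟨g', by rw [one_mul, inv_one, mul_one]⟩
    · exact ⟨_, hG g'⟩
  obtain ⟨g'', hg''⟩ := hc'
  have : Dh g * Ph σ * c * Dh g' * (Dh g * Ph σ * c)⁻¹
      = Dh g * (Ph σ * (c * Dh g' * c⁻¹) * (Ph σ)⁻¹) * (Dh g)⁻¹ := by group
  rw [this, hg'', hP, ← map_inv, ← map_mul, ← map_mul]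
  exact ⟨_, rfl⟩

/-! ### the complement for `n ≥ 3` -/

theorem zmod2_cases (x : ZMod 2) : x = 0 ∨ x = 1 := by
  revert x
  decide

/-- the homomorphism `ZMod 2 → Aut(PSL_n)` onto `⟨Γ⟩` -/
noncomputable def zh : Multiplicative (ZMod 2) →* MulAut (PSLn n F) :=
  MonoidHom.mk' (fun a => if Multiplicative.toAdd a = 0 then 1 else Γ) (by
    intro a b
    have h11 : (1 + 1 : ZMod 2) = 0 := by decide
    rcases zmod2_cases (Multiplicative.toAdd a) with ha | ha <;>
      rcases zmod2_cases (Multiplicative.toAdd b) with hb | hb <;>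
      simp [toAdd_mul, ha, hb, h11, Γ_Γ])

theorem zh_apply (a : Multiplicative (ZMod 2)) :
    (zh a : MulAut (PSLn n F)) = if Multiplicative.toAdd a = 0 then 1 else Γ := rfl

/-- the complement `Aut(F) × ⟨Γ⟩` -/
noncomputable def κ3 : RingAut F × Multiplicative (ZMod 2) →* MulAut (PSLn n F) :=
  MonoidHom.noncommCoprod Ph zh (by
    intro σ a
    rw [zh_apply]
    split_ifs
    · exact Commute.one_right _
    · exact (Γ_Ph σ).symm)

theorem κ3_apply (σ : RingAut F) (a : Multiplicative (ZMod 2)) :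
    (κ3 (σ, a) : MulAut (PSLn n F)) = Ph σ * zh a := rfl

theorem κ3_inj (hn : 3 ≤ n) (x : RingAut F × Multiplicative (ZMod 2))
    (hx : (κ3 x : MulAut (PSLn n F)) ∈ Dsub n F) : x = 1 := by
  obtain ⟨σ, a⟩ := x
  obtain ⟨g, hg⟩ := hx
  rw [κ3_apply, zh_apply] at hg
  rcases zmod2_cases (Multiplicative.toAdd a) with ha | ha
  · rw [if_pos ha, mul_one] at hg
    obtain ⟨-, h1⟩ := conj_eq_field (by omega) g σ hg
    rw [h1]
    have : a = 1 := by
      apply Multiplicative.toAdd.injective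
      rw [ha]
      rfl
    rw [this]
    rfl
  · rw [if_neg (by rw [ha]; decide)] at hg
    exact (conj_ne_field_it hn g σ hg).elim

theorem κ3_surj (hfac : Fac n F) (β : MulAut (PSLn n F)) :
    ∃ δ ∈ Dsub n F, ∃ x : RingAut F × Multiplicative (ZMod 2), β = δ * κ3 x := by
  obtain ⟨g, σ, c, hc, rfl⟩ := hfac β
  refine ⟨Dh g, ⟨g, rfl⟩, ?_⟩
  rcases hc with rfl | rfl
  · refine ⟨(σ, 1), ?_⟩
    rw [κ3_apply, map_one, mul_one, mul_one]
  · refine ⟨(σ, Multiplicative.ofAdd 1), ?_⟩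
    rw [κ3_apply, zh_apply, if_neg (by rw [toAdd_ofAdd]; decide), mul_assoc]

/-- the order of `Aut(PSL_n(F))`, `n ≥ 3`, given the factorisation -/
theorem card_aut_three (hn : 3 ≤ n) (hfac : Fac n F) :
    Nat.card (MulAut (PSLn n F)) =
      2 * Nat.card (RingAut F) * Nat.card (Matrix.ProjGenLinGroup (Fin n) F) := by
  have := Dsub_normal hfac
  rw [split_card (Dsub n F) κ3 (κ3_surj hfac) (κ3_inj hn), card_Dsub (by omega), Nat.card_prod,
    Nat.card_congr Multiplicative.toAdd, Nat.card_zmod]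
  ring

/-! ### the case `n = 2` -/

/-- the matrix `[[0, 1], [-1, 0]]` -/
def w2 : GL (Fin 2) F :=
  ⟨!![0, 1; -1, 0], !![0, -1; 1, 0], by
    ext i j; fin_cases i <;> fin_cases j <;> simp [Matrix.mul_apply, Fin.sum_univ_two],
   by
    ext i j; fin_cases i <;> fin_cases j <;> simp [Matrix.mul_apply, Fin.sum_univ_two]⟩

theorem itSL_two : (itSL : MulAut (SLn 2 F)) = conjSL w2 := by
  ext s : 1
  apply Subtype.ext
  rw [itSL_apply, conjSL_apply, conjFun_val]
  show (adjugate s.val)ᵀ = w2.val * s.val * (w2⁻¹ : GL (Fin 2) F).val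
  rw [Matrix.adjugate_fin_two]
  ext i j
  fin_cases i <;> fin_cases j <;>
    simp [w2, Matrix.mul_apply, Fin.sum_univ_two, Matrix.vecMul, dotProduct]

theorem Γ_two : (Γ : MulAut (PSLn 2 F)) = Dh w2 := by
  unfold Γ
  rw [itSL_two, Dh_apply]

theorem Ph_inj (hn : 2 ≤ n) (σ : RingAut F) (h : (Ph σ : MulAut (PSLn n F)) ∈ Dsub n F) : σ = 1 := by
  obtain ⟨g, hg⟩ := h
  exact (conj_eq_field hn g σ hg).2

theorem Ph_surj_two (hfac : Fac 2 F) (β : MulAut (PSLn 2 F)) :
    ∃ δ ∈ Dsub 2 F, ∃ σ : RingAut F, β = δ * Ph σ := by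
  obtain ⟨g, σ, c, hc, rfl⟩ := hfac β
  rcases hc with rfl | rfl
  · exact ⟨Dh g, ⟨g, rfl⟩, σ, by rw [mul_one]⟩
  · refine ⟨Dh g * Γ, ?_, σ, ?_⟩
    · rw [Γ_two, ← map_mul]
      exact ⟨_, rfl⟩
    · rw [mul_assoc, mul_assoc, Γ_Ph]

theorem card_aut_two (hfac : Fac 2 F) :
    Nat.card (MulAut (PSLn 2 F)) =
      Nat.card (RingAut F) * Nat.card (Matrix.ProjGenLinGroup (Fin 2) F) := by
  have := Dsub_normal hfac
  rw [split_card (Dsub 2 F) Ph (Ph_surj_two hfac) (Ph_inj le_rfl), card_Dsub le_rfl]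

end Cfsg.Agent.AutPSLCount
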