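import Mathlib
import Cfsg.Prelude.Def_PLocal
import Cfsg.Prelude.Def_ConjugacyFunctors
import Cfsg.Agent.Lib.Helper7.CentrallyLarge2

/-!
# The centre of the abelian-version Thompson subgroup as an isomorphism-invariant `p`-group functor
-/

set_option autoImplicit false
set_option linter.style.haveILetI false
set_option linter.unusedSectionVars false
set_option linter.unusedVariables false

namespace Cfsg.Agent.Lib.Lead.ZJFunctor

open Cfsg Cfsg.Agent.Lib.Helper7

universe u

/-- `Z(J(Q))`, `J` generated by the abelian subgroups of largest order -/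
def zjA (Q : Type u) [Group Q] : Subgroup Q :=
  Cfsg.thompsonSubgroupA Q ⊓ Subgroup.centralizer (Cfsg.thompsonSubgroupA Q : Set Q)

theorem center_le_zjA (Q : Type u) [Group Q] [Finite Q] : Subgroup.center Q ≤ zjA Q := by
  obtain ⟨A, hA⟩ := exists_mem_maxAbelianSubgroups (X := Q)
  have hCA := centralizer_eq_of_mem_maxAbelianSubgroups hA
  refine le_inf ?_ (Subgroup.center_le_centralizer _)
  have h1 : Subgroup.center Q ≤ A := by
    rw [← hCA]; exact Subgroup.center_le_centralizer _
  exact h1.trans (le_sSup hA)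

section iso

variable {Q R : Type u} [Group Q] [Group R]

theorem map_le_centralizer_map (φ : Q ≃* R) {A : Subgroup Q}
    (hA : A ≤ Subgroup.centralizer (A : Set Q)) :
    A.map φ.toMonoidHom ≤ Subgroup.centralizer ((A.map φ.toMonoidHom : Subgroup R) : Set R) := by
  rintro _ ⟨a, ha, rfl⟩
  rw [Subgroup.mem_centralizer_iff]
  rintro _ ⟨b, hb, rfl⟩
  have h1 := Subgroup.mem_centralizer_iff.mp (hA ha) b hb
  show φ b * φ a = φ a * φ b
  rw [← map_mul, ← map_mul, h1]

theorem map_mem_maxAbelian [Finite Q] (φ : Q ≃* R) {A : Subgroup Q} (hA : A ∈ maxAbelianSubgroups Q) :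
    A.map φ.toMonoidHom ∈ maxAbelianSubgroups R := by
  haveI : Finite R := Finite.of_equiv Q φ.toEquiv
  refine ⟨?_, ?_⟩
  · rw [isMulCommutative_iff_le_centralizer]
    exact map_le_centralizer_map φ ((isMulCommutative_iff_le_centralizer A).mp hA.1)
  · intro B hB
    have hB' : IsMulCommutative ↥(B.map φ.symm.toMonoidHom) := by
      rw [isMulCommutative_iff_le_centralizer]
      exact map_le_centralizer_map φ.symm ((isMulCommutative_iff_le_centralizer B).mp hB)
    have h1 := hA.2 _ hB'
    have h2 : Nat.card ↥(B.map φ.symm.toMonoidHom) = Nat.card ↥B :=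
      Subgroup.card_map_of_injective φ.symm.injective
    have h3 : Nat.card ↥(A.map φ.toMonoidHom) = Nat.card ↥A :=
      Subgroup.card_map_of_injective φ.injective
    omega

theorem thompsonSubgroupA_map_le [Finite Q] (φ : Q ≃* R) :
    (thompsonSubgroupA Q).map φ.toMonoidHom ≤ thompsonSubgroupA R := by
  rw [Subgroup.map_le_iff_le_comap]
  unfold thompsonSubgroupA
  apply sSup_le
  intro A hA
  rw [← Subgroup.map_le_iff_le_comap]
  exact le_sSup (map_mem_maxAbelian φ hA)

theorem thompsonSubgroupA_map [Finite Q] (φ : Q ≃* R) :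
    (thompsonSubgroupA Q).map φ.toMonoidHom = thompsonSubgroupA R := by
  haveI : Finite R := Finite.of_equiv Q φ.toEquiv
  apply le_antisymm (thompsonSubgroupA_map_le φ)
  have h1 := thompsonSubgroupA_map_le φ.symm
  intro r hr
  refine ⟨φ.symm r, h1 ⟨r, hr, rfl⟩, ?_⟩
  exact φ.apply_symm_apply r

theorem zjA_map [Finite Q] (φ : Q ≃* R) : (zjA Q).map φ.toMonoidHom = zjA R := by
  unfold zjA
  rw [Subgroup.map_inf_eq _ _ _ φ.injective, thompsonSubgroupA_map φ]
  congr 1
  rw [← thompsonSubgroupA_map φ]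
  ext r
  constructor
  · rintro ⟨x, hx, rfl⟩
    rw [Subgroup.mem_centralizer_iff]
    rintro _ ⟨b, hb, rfl⟩
    have h1 := Subgroup.mem_centralizer_iff.mp hx b hb
    show φ b * φ x = φ x * φ b
    rw [← map_mul, ← map_mul, h1]
  · intro hr
    refine ⟨φ.symm r, ?_, φ.apply_symm_apply r⟩
    refine Subgroup.mem_centralizer_iff.mpr ?_
    intro b hb
    have h1 := Subgroup.mem_centralizer_iff.mp hr (φ b) ⟨b, hb, rfl⟩
    apply φ.injective
    rw [map_mul, map_mul, φ.apply_symm_apply]
    exact h1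

end iso

theorem isCharPFunctor_zjA (p : ℕ) [hp : Fact p.Prime] : Cfsg.IsCharPFunctor.{u} p zjA := by
  refine ⟨?_, ?_⟩
  · intro Q _ _ hQ hnt
    have h1 := center_le_zjA Q
    haveI := hQ.center_nontrivial
    intro h
    rw [h, le_bot_iff] at h1
    exact (Subgroup.nontrivial_iff_ne_bot _).mp inferInstance h1
  · intro Q R _ _ _ _ φ
    exact zjA_map φ

section induced

variable {G : Type u} [Group G]

theorem induced_zjA (T : Subgroup G) :
    Cfsg.inducedFunctor zjA T = Cfsg.centerThompsonAOf T := by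
  unfold Cfsg.inducedFunctor Cfsg.centerThompsonAOf Cfsg.thompsonSubgroupAOf zjA
  ext x
  constructor
  · rintro ⟨y, hy, rfl⟩
    refine ⟨⟨y, hy.1, rfl⟩, ?_⟩
    refine Subgroup.mem_centralizer_iff.mpr ?_
    rintro _ ⟨w, hw, rfl⟩
    have h1 := Subgroup.mem_centralizer_iff.mp hy.2 w hw
    exact congrArg Subtype.val h1
  · rintro ⟨⟨y, hy, rfl⟩, hc⟩
    refine ⟨y, ⟨hy, ?_⟩, rfl⟩
    refine Subgroup.mem_centralizer_iff.mpr ?_
    intro w hw
    have h1 := Subgroup.mem_centralizer_iff.mp hc (T.subtype w) ⟨w, hw, rfl⟩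
    exact Subtype.ext h1

theorem center_le_induced_zjA [Finite G] (R : Subgroup G) :
    R ⊓ Subgroup.centralizer (R : Set G) ≤ Cfsg.inducedFunctor zjA R := by
  intro x hx
  have hxc : (⟨x, hx.1⟩ : ↥R) ∈ Subgroup.center ↥R := by
    rw [Subgroup.mem_center_iff]
    intro w
    apply Subtype.ext
    exact Subgroup.mem_centralizer_iff.mp hx.2 w w.2
  exact ⟨⟨x, hx.1⟩, center_le_zjA ↥R hxc, rfl⟩

end induced

end Cfsg.Agent.Lib.Lead.ZJFunctor
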