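import Mathlib
import Cfsg.Agent.Lib.Lead.BSW0f

/-!
# Brauer–Suzuki–Wall, abstract form (towards S3282): the elementary facts, part g

(author: lead)  Restatements in the exact forms requested by helper7 (message 2547), and the 2-part of `|G|`.
-/

set_option autoImplicit false
set_option linter.unusedVariables false
set_option linter.unusedSectionVars false
set_option linter.style.haveILetI false
set_option linter.unusedSimpArgs false

namespace Cfsg.Agent.Lib.Lead.BSW

open Subgroup

variable {G : Type*} [Group G] {t s : G} {K : Subgroup G}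

namespace Hyp

theorem K_ne_bot (h : Hyp t s K) : K ≠ ⊥ := by
  intro hK
  have := h.tK
  rw [hK, mem_bot] at this
  exact ne_one_of_orderOf_two h.ht this

/-- (E1) `N_G(K) = C_G(t)` -/
theorem normalizer_K (h : Hyp t s K) : normalizer (K : Set G) = centralizer ({t} : Set G) :=
  h.normalizer_eq le_rfl h.K_ne_bot

/-- (E3) -/
theorem card_invol (h : Hyp t s K) :
    Nat.card {u : G // orderOf u = 2} * (2 * Nat.card ↥K) = Nat.card G := h.card_invol_mul

/-- (E5) -/
theorem beta_eq_card [Finite G] (h : Hyp t s K) {x : G} (hx : x ∈ K) (hx1 : x ≠ 1) :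
    beta x = Nat.card ↥K := h.beta_eq_card_K hx hx1

/-- (E6) the trivial-intersection property, elementwise -/
theorem ti (h : Hyp t s K) : ∀ x ∈ K, x ≠ 1 → ∀ g : G, g⁻¹ * x * g ∈ K →
    g ∈ centralizer ({t} : Set G) := by
  intro x hx hx1 g hg
  by_contra hn
  have hTI := h.TI g hn
  have hm : x ∈ K ⊓ K.map (MulAut.conj g).toMonoidHom := by
    refine mem_inf.2 ⟨hx, ?_⟩
    rw [mem_map]
    refine ⟨g⁻¹ * x * g, hg, ?_⟩
    show g * (g⁻¹ * x * g) * g⁻¹ = x
    group
  rw [hTI, mem_bot] at hm
  exact hx1 hm

/-- (E8) the 2-part of `|G|` is the 2-part of `|C(t)| = 2 |K|` -/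
theorem two_part [Finite G] (h : Hyp t s K) :
    (Nat.card G).factorization 2 = (2 * Nat.card ↥K).factorization 2 := by
  haveI : Fact (Nat.Prime 2) := ⟨Nat.prime_two⟩
  have hkpos : 0 < Nat.card ↥K := Nat.card_pos
  have hGpos : 0 < Nat.card G := Nat.card_pos
  have hdvd : 2 * Nat.card ↥K ∣ Nat.card G := by
    rw [← h.card_H]; exact Subgroup.card_subgroup_dvd_card _
  apply le_antisymm
  · -- a Sylow 2-subgroup lies in the centralizer of an involution of its centre
    obtain T : Sylow 2 G := default
    have hTcard : Nat.card T = 2 ^ (Nat.card G).factorization 2 := T.card_eq_multiplicity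
    have h2G : 2 ∣ Nat.card G := dvd_trans (dvd_mul_right 2 _) hdvd
    have hTnt : Nontrivial T := by
      rw [← Finite.one_lt_card_iff_nontrivial, hTcard]
      apply Nat.one_lt_two_pow
      intro h0
      have := (Nat.Prime.factorization_pos_of_dvd Nat.prime_two hGpos.ne' h2G)
      omega
    have hcen : Nontrivial (center T) := (T.isPGroup').center_nontrivial
    -- an involution in the centre of `T`
    have h2c : 2 ∣ Nat.card (center T) := by
      obtain ⟨n, hn⟩ := (IsPGroup.iff_card.1 ((T.isPGroup').to_subgroup (center T)))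
      rw [hn]
      have : n ≠ 0 := by
        intro h0
        rw [h0, pow_zero] at hn
        have := Finite.one_lt_card_iff_nontrivial.2 hcen
        omega
      exact dvd_pow_self 2 this
    obtain ⟨z, hz⟩ := exists_prime_orderOf_dvd_card' 2 h2c
    have hzG : orderOf ((z : T) : G) = 2 := by
      rw [Subgroup.orderOf_coe, Subgroup.orderOf_coe]; exact hz
    obtain ⟨x, hx⟩ := h.exists_conj_eq hzG
    have h' := h.conj_hyp x
    rw [← hx] at h'
    -- `T ≤ C(z)`
    have hle : (T : Subgroup G) ≤ centralizer ({((z : T) : G)} : Set G) := by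
      intro y hy
      rw [mem_centralizer_singleton]
      have hzc := z.2
      rw [Subgroup.mem_center_iff] at hzc
      have := hzc ⟨y, hy⟩
      have e := congrArg (fun w : T => (w : G)) this
      exact e
    have hcard := Subgroup.card_dvd_of_le hle
    have hH' := h'.card_H
    have hKcard : Nat.card ↥(K.map (MulAut.conj x).toMonoidHom) = Nat.card ↥K :=
      Subgroup.card_map_of_injective (MulAut.conj x).injective
    rw [hH', hKcard] at hcard
    have hT' : Nat.card (T : Subgroup G) = 2 ^ (Nat.card G).factorization 2 := hTcard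
    rw [hT'] at hcard
    exact (Nat.Prime.pow_dvd_iff_le_factorization Nat.prime_two (by positivity)).1 hcard
  · exact (Nat.factorization_le_iff_dvd (by positivity) hGpos.ne').2 hdvd 2

end Hyp

end Cfsg.Agent.Lib.Lead.BSW
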