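import Mathlib
import Cfsg.Prelude.Def_Involutions

/-!
# Strongly embedded subgroups: the permutation action on the cosets

For `H` strongly embedded in the finite group `G` acting on `G ⧸ H`:
* `dihedral_dichotomy` : two involutions `t, s` either commute with a common involution
  or are conjugate by an element `w` with `w * w = 1`;
* `fix_unique`  : an involution fixes at most one coset;
* `exists_fix`  : every involution fixes a coset;
* `exists_swap` : involutions `t`, `s` fixing `x ≠ y` are conjugate by an involution swapping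
  `x` and `y`.
-/

set_option autoImplicit false

namespace Cfsg.Agent.Lib.Lead.StrEmb2

variable {G : Type*} [Group G]

theorem dihedral_dichotomy [Finite G] (t s : G) (ht : t * t = 1) (hs : s * s = 1) :
    (∃ z : G, orderOf z = 2 ∧ z * t = t * z ∧ z * s = s * z) ∨
    (∃ w : G, w * w = 1 ∧ w * t * w⁻¹ = s) := by
  have htinv : t⁻¹ = t := inv_eq_of_mul_eq_one_right ht
  have hsinv : s⁻¹ = s := inv_eq_of_mul_eq_one_right hs
  have hrinv : (t * s)⁻¹ = s * t := by rw [mul_inv_rev, htinv, hsinv]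
  have htr : t * (t * s) * t⁻¹ = (t * s)⁻¹ := by
    rw [hrinv, htinv]
    calc t * (t * s) * t = (t * t) * s * t := by group
      _ = s * t := by rw [ht, one_mul]
  have hsr : s * (t * s) * s⁻¹ = (t * s)⁻¹ := by
    rw [hrinv, hsinv]
    calc s * (t * s) * s = s * t * (s * s) := by group
      _ = s * t := by rw [hs, mul_one]
  have htpow : ∀ n : ℕ, t * (t * s) ^ n * t⁻¹ = ((t * s) ^ n)⁻¹ := by
    intro n; rw [← conj_pow, htr, inv_pow]
  have hspow : ∀ n : ℕ, s * (t * s) ^ n * s⁻¹ = ((t * s) ^ n)⁻¹ := by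
    intro n; rw [← conj_pow, hsr, inv_pow]
  rcases Nat.even_or_odd (orderOf (t * s)) with hev | hodd
  · left
    obtain ⟨l, hl⟩ := hev
    have hpos : 0 < orderOf (t * s) := orderOf_pos _
    have hl0 : 0 < l := by omega
    have hz2 : (t * s) ^ l * (t * s) ^ l = 1 := by
      rw [← pow_add, ← hl, pow_orderOf_eq_one]
    have hzinv : ((t * s) ^ l)⁻¹ = (t * s) ^ l := inv_eq_of_mul_eq_one_right hz2
    refine ⟨(t * s) ^ l, ?_, ?_, ?_⟩
    · haveI : Fact (Nat.Prime 2) := ⟨Nat.prime_two⟩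
      apply orderOf_eq_prime
      · rw [pow_two]; exact hz2
      · intro h
        have h1 := orderOf_dvd_of_pow_eq_one h
        have h2 := Nat.le_of_dvd hl0 h1
        omega
    · have h1 := htpow l
      rw [hzinv] at h1
      exact (mul_inv_eq_iff_eq_mul.mp h1).symm
    · have h1 := hspow l
      rw [hzinv] at h1
      exact (mul_inv_eq_iff_eq_mul.mp h1).symm
  · right
    obtain ⟨j, hj⟩ := hodd
    have hcc : (t * s) ^ (j + 1) * (t * s) ^ (j + 1) = t * s := by
      rw [← pow_add, show j + 1 + (j + 1) = orderOf (t * s) + 1 by omega, pow_succ,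
        pow_orderOf_eq_one, one_mul]
    have h1 : t * (t * s) ^ (j + 1) * t⁻¹ = ((t * s) ^ (j + 1))⁻¹ := htpow (j + 1)
    generalize (t * s) ^ (j + 1) = c at hcc h1
    have h2 : t * c = c⁻¹ * t := mul_inv_eq_iff_eq_mul.mp h1
    have h3 : t * c⁻¹ = c * t := by
      have e0 : c * (t * c) * c⁻¹ = c * (c⁻¹ * t) * c⁻¹ := by rw [h2]
      have e1 : c * (t * c) * c⁻¹ = c * t := by group
      have e2 : c * (c⁻¹ * t) * c⁻¹ = t * c⁻¹ := by group
      rw [e1, e2] at e0; exact e0.symm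
    refine ⟨c⁻¹ * t, ?_, ?_⟩
    · calc c⁻¹ * t * (c⁻¹ * t) = c⁻¹ * (t * c⁻¹) * t := by group
        _ = c⁻¹ * (c * t) * t := by rw [h3]
        _ = t * t := by group
        _ = 1 := ht
    · calc c⁻¹ * t * t * (c⁻¹ * t)⁻¹ = c⁻¹ * (t * t) * (t⁻¹ * c) := by group
        _ = c⁻¹ * (t * c) := by rw [ht, htinv, mul_one]
        _ = c⁻¹ * (c⁻¹ * t) := by rw [h2]
        _ = (c * c)⁻¹ * t := by group
        _ = (t * s)⁻¹ * t := by rw [hcc]
        _ = s * (t * t) := by rw [hrinv, mul_assoc]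
        _ = s := by rw [ht, mul_one]

section action

variable [Finite G] {H : Subgroup G}

theorem smul_mk_eq_iff (t g : G) : t • (g : G ⧸ H) = (g : G ⧸ H) ↔ g⁻¹ * t * g ∈ H := by
  rw [MulAction.Quotient.smul_mk, QuotientGroup.eq, smul_eq_mul, mul_inv_rev]
  rw [← H.inv_mem_iff (x := g⁻¹ * t * g)]
  simp [mul_assoc]

theorem smul_one_eq_iff (t : G) : t • ((1 : G) : G ⧸ H) = ((1 : G) : G ⧸ H) ↔ t ∈ H := by
  rw [smul_mk_eq_iff]; simp

theorem not_odd_of_mem (K : Subgroup G) (t : G) (htK : t ∈ K) (ht : orderOf t = 2) :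
    ¬ Odd (Nat.card K) := by
  intro hK
  have h1 : orderOf (⟨t, htK⟩ : K) ∣ Nat.card K := orderOf_dvd_natCard _
  rw [Subgroup.orderOf_mk, ht] at h1
  exact (Nat.not_even_iff_odd.mpr hK) (even_iff_two_dvd.mpr h1)

theorem orderOf_conj_inv (k x : G) : orderOf (k⁻¹ * x * k) = orderOf x := by
  have := orderOf_injective (MulAut.conj k⁻¹).toMonoidHom (MulAut.conj k⁻¹).injective x
  simpa using this

theorem invol_mul_self {t : G} (ht : orderOf t = 2) : t * t = 1 := by
  rw [← pow_two, ← ht, pow_orderOf_eq_one]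

theorem orderOf_eq_two_of {w : G} (h : w * w = 1) (h1 : w ≠ 1) : orderOf w = 2 := by
  haveI : Fact (Nat.Prime 2) := ⟨Nat.prime_two⟩
  apply orderOf_eq_prime _ h1
  rw [pow_two]; exact h

variable (hH : Cfsg.IsStronglyEmbedded H)
include hH

theorem fix_unique (u : G) (hu : orderOf u = 2) (a b : G ⧸ H) (ha : u • a = a) (hb : u • b = b) :
    a = b := by
  induction a using QuotientGroup.induction_on with | _ g =>
  induction b using QuotientGroup.induction_on with | _ k =>
  by_contra hne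
  rw [smul_mk_eq_iff] at ha hb
  have hc : g⁻¹ * k ∉ H := by
    intro h
    exact hne (QuotientGroup.eq.mpr h)
  have hv : g⁻¹ * u * g ∈ H.map (MulAut.conj (g⁻¹ * k)).toMonoidHom := by
    refine ⟨k⁻¹ * u * k, hb, ?_⟩
    simp only [MulEquiv.coe_toMonoidHom, MulAut.conj_apply]
    group
  exact not_odd_of_mem _ (g⁻¹ * u * g) (Subgroup.mem_inf.mpr ⟨ha, hv⟩)
    ((orderOf_conj_inv g u).trans hu) (hH.2.2 _ hc)

theorem exists_invol_mem : ∃ t ∈ H, orderOf t = 2 := by
  haveI : Fact (Nat.Prime 2) := ⟨Nat.prime_two⟩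
  obtain ⟨⟨t, htH⟩, ht⟩ := exists_prime_orderOf_dvd_card' 2 (even_iff_two_dvd.mp hH.2.1)
  rw [Subgroup.orderOf_mk] at ht
  exact ⟨t, htH, ht⟩

theorem commute_fix (z t : G) (x : G ⧸ H) (ht : orderOf t = 2) (hx : t • x = x)
    (hz : z * t = t * z) : z • x = x := by
  apply fix_unique hH t ht
  · rw [← mul_smul, ← hz, mul_smul, hx]
  · exact hx

theorem exists_swap {t s : G} {x y : G ⧸ H} (ht : orderOf t = 2) (hs : orderOf s = 2)
    (hx : t • x = x) (hy : s • y = y) (hxy : x ≠ y) :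
    ∃ w : G, orderOf w = 2 ∧ w • x = y ∧ w * t * w⁻¹ = s := by
  rcases dihedral_dichotomy t s (invol_mul_self ht) (invol_mul_self hs) with
    ⟨z, hz, hzt, hzs⟩ | ⟨w, hww, hw⟩
  · exfalso
    apply hxy
    exact fix_unique hH z hz x y (commute_fix hH z t x ht hx hzt) (commute_fix hH z s y hs hy hzs)
  · have hwx : w • x = y := by
      apply fix_unique hH s hs _ _ _ hy
      rw [← hw, ← mul_smul]
      have : w * t * w⁻¹ * w = w * t := by group
      rw [this, mul_smul, hx]
    refine ⟨w, orderOf_eq_two_of hww ?_, hwx, hw⟩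
    rintro rfl
    rw [one_smul] at hwx
    exact hxy hwx

theorem exists_fix (u : G) (hu : orderOf u = 2) : ∃ x : G ⧸ H, u • x = x := by
  obtain ⟨t, htH, ht⟩ := exists_invol_mem hH
  have hx₀ : t • ((1 : G) : G ⧸ H) = ((1 : G) : G ⧸ H) := (smul_one_eq_iff t).mpr htH
  rcases dihedral_dichotomy t u (invol_mul_self ht) (invol_mul_self hu) with
    ⟨z, hz, hzt, hzu⟩ | ⟨w, hww, hw⟩
  · have h1 := commute_fix hH z t _ ht hx₀ hzt
    exact ⟨_, commute_fix hH u z _ hz h1 hzu.symm⟩
  · refine ⟨w • ((1 : G) : G ⧸ H), ?_⟩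
    rw [← hw, ← mul_smul]
    have : w * t * w⁻¹ * w = w * t := by group
    rw [this, mul_smul, hx₀]

end action

end Cfsg.Agent.Lib.Lead.StrEmb2
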