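import Mathlib
import Cfsg.Agent.H1.OnanScott
import Cfsg.Agent.Lib.Helper7.DerP

set_option autoImplicit false

/-!
# Extremely primitive groups: a non-abelian minimal normal subgroup has at most two factors

If `G` is extremely primitive on `Ω` (primitive, and every point stabilizer is primitive on each of
its orbits) and `N` is a non-abelian minimal normal subgroup with at least two simple factors, then
there are exactly two factors, each of them semiregular, and `N_α` is the graph of an isomorphism
between them.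
-/

namespace Cfsg.Agent.Lib.Lead.ExtPrimProd

open Cfsg.Agent.Lib.Helper4.MinNormal Cfsg.Agent.H1.OnanScott Cfsg.Agent.Lib.Helper7.DerP

section

variable {G : Type*} [Group G] {Ω : Type*} [MulAction G Ω]

/-- the subgroup criterion extracted from primitivity of `G_α` on the orbit of `ω` -/
theorem fix_of_hep
    (hep : ∀ (α ω : Ω), MulAction.IsPreprimitive (MulAction.stabilizer G α)
      (MulAction.orbit (MulAction.stabilizer G α) ω))
    (α ω : Ω) (H : Subgroup G)
    (hωH : ∀ h ∈ MulAction.stabilizer G α, h • ω = ω → h ∈ H)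
    (hne : ∃ h ∈ MulAction.stabilizer G α, h ∉ H) :
    ∀ h ∈ H, h ∈ MulAction.stabilizer G α → h • ω = ω := by
  intro h hh hhΓ
  let a : MulAction.orbit (MulAction.stabilizer G α) ω := ⟨ω, MulAction.mem_orbit_self ω⟩
  have hpre := hep α ω
  have hval : ∀ k : MulAction.stabilizer G α, ((k • a : MulAction.orbit (MulAction.stabilizer G α) ω) : Ω)
      = (k : G) • ω := fun k => rfl
  by_cases hnt : Nontrivial (MulAction.orbit (MulAction.stabilizer G α) ω)
  · have hco : IsCoatom (MulAction.stabilizer (MulAction.stabilizer G α) a) :=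
      (MulAction.isCoatom_stabilizer_iff_preprimitive _ a).mpr hpre
    have hle : MulAction.stabilizer (MulAction.stabilizer G α) a
        ≤ H.subgroupOf (MulAction.stabilizer G α) := by
      intro k hk
      rw [Subgroup.mem_subgroupOf]
      apply hωH k k.2
      have h1 : k • a = a := hk
      have h2 := congrArg Subtype.val h1
      rw [hval] at h2
      exact h2
    have hnetop : H.subgroupOf (MulAction.stabilizer G α) ≠ ⊤ := by
      intro htop
      obtain ⟨h', hh', hh'H⟩ := hne
      apply hh'H
      have : (⟨h', hh'⟩ : MulAction.stabilizer G α) ∈ H.subgroupOf (MulAction.stabilizer G α) := by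
        rw [htop]; trivial
      exact this
    have heq : MulAction.stabilizer (MulAction.stabilizer G α) a
        = H.subgroupOf (MulAction.stabilizer G α) := by
      by_contra hneq
      exact hnetop (hco.2 _ (lt_of_le_of_ne hle hneq))
    have hmem : (⟨h, hhΓ⟩ : MulAction.stabilizer G α)
        ∈ MulAction.stabilizer (MulAction.stabilizer G α) a := by
      rw [heq, Subgroup.mem_subgroupOf]; exact hh
    have h1 : (⟨h, hhΓ⟩ : MulAction.stabilizer G α) • a = a := hmem
    have h2 := congrArg Subtype.val h1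
    rw [hval] at h2
    exact h2
  · rw [not_nontrivial_iff_subsingleton] at hnt
    have h1 : (⟨h, hhΓ⟩ : MulAction.stabilizer G α) • a = a := Subsingleton.elim _ _
    have h2 := congrArg Subtype.val h1
    rw [hval] at h2
    exact h2

end

section fam

variable {G : Type*} [Group G] {Ω : Type*} [MulAction G Ω]
  {N : Subgroup G} [hNn : N.Normal] {S : Subgroup G}

/-- the core block argument: an element of `G_α` preserving the class of `i₀` fixes `x • α` for
`x` in the factor `i₀` -/
theorem fix_of_class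
    (hep : ∀ (α ω : Ω), MulAction.IsPreprimitive (MulAction.stabilizer G α)
      (MulAction.orbit (MulAction.stabilizer G α) ω))
    (F : IsFam N (fun i : Idx S => i.1)) (α : Ω)
    (E : Idx S → Idx S → Prop) (hErefl : ∀ i, E i i) (hEsymm : ∀ i j, E i j → E j i)
    (hEtrans : ∀ i j k, E i j → E j k → E i k)
    (hE1 : ∀ h ∈ MulAction.stabilizer G α, ∀ i j, E i j → E (act S h i) (act S h j))
    (hE2 : ∃ i j, ¬ E i j)
    (htrans : ∀ i j : Idx S, ∃ h ∈ MulAction.stabilizer G α, act S h i = j)
    (hE3 : ∀ i j, ¬ E i j → ∀ m m' : N, (∀ k, ¬ E i k → F.π k m = 1) →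
      (∀ k, ¬ E j k → F.π k m' = 1) → (m : G) • α = (m' : G) • α → (m : G) • α = α)
    (i₀ : Idx S) (x : G) (hx : x ∈ i₀.1) (h : G) (hh : h ∈ MulAction.stabilizer G α)
    (hE : E (act S h i₀) i₀) : h • x • α = x • α := by
  by_cases hxα : x • α = α
  · rw [hxα]; exact hh
  -- the subgroup `H`
  let H : Subgroup G :=
    { carrier := {h | h ∈ MulAction.stabilizer G α ∧ E (act S h i₀) i₀}
      one_mem' := ⟨Subgroup.one_mem _, by rw [act_one]; exact hErefl i₀⟩
      mul_mem' := by
        rintro a b ⟨ha, hEa⟩ ⟨hb, hEb⟩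
        refine ⟨Subgroup.mul_mem _ ha hb, ?_⟩
        rw [← act_act]
        exact hEtrans _ _ _ (hE1 a ha _ _ hEb) hEa
      inv_mem' := by
        rintro a ⟨ha, hEa⟩
        refine ⟨Subgroup.inv_mem _ ha, ?_⟩
        have h1 := hE1 a⁻¹ (Subgroup.inv_mem _ ha) _ _ hEa
        rw [act_inv_act] at h1
        exact hEsymm _ _ h1 }
  have hHmem : ∀ k : G, k ∈ H ↔ k ∈ MulAction.stabilizer G α ∧ E (act S k i₀) i₀ := fun k => Iff.rfl
  have hxN : x ∈ N := F.le i₀ hx
  apply fix_of_hep hep α (x • α) H
  · -- the stabilizer of `x • α` in `G_α` lies in `H`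
    intro k hk hkx
    rw [hHmem]
    refine ⟨hk, ?_⟩
    by_contra hnE
    apply hxα
    have hkα : k • α = α := hk
    have hkinvα : k⁻¹ • α = α := by rw [inv_smul_eq_iff, hkα]
    let m : N := conjN (N := N) k ⟨x, hxN⟩
    let m' : N := ⟨x, hxN⟩
    have hmmem : (m : G) ∈ (act S k i₀).1 := by
      show k * x * k⁻¹ ∈ cj k i₀.1
      exact conj_mem_cj k hx
    have hm : ∀ j, ¬ E (act S k i₀) j → F.π j m = 1 := by
      intro j hj
      have hne : j ≠ act S k i₀ := by
        rintro rfl; exact hj (hErefl _)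
      exact F.π_other hne m hmmem
    have hm' : ∀ j, ¬ E i₀ j → F.π j m' = 1 := by
      intro j hj
      have hne : j ≠ i₀ := by
        rintro rfl; exact hj (hErefl _)
      exact F.π_other hne m' hx
    have hmα : (m : G) • α = (m' : G) • α := by
      show (k * x * k⁻¹) • α = x • α
      rw [mul_smul, mul_smul, hkinvα, hkx]
    have := hE3 _ _ hnE m m' hm hm' hmα
    rw [hmα] at this
    exact this
  · -- `H` is proper
    obtain ⟨a, b, hab⟩ := hE2
    have hex : ∃ j, ¬ E j i₀ := by
      by_contra hcon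
      push Not at hcon
      exact hab (hEtrans _ _ _ (hcon a) (hEsymm _ _ (hcon b)))
    obtain ⟨j, hj⟩ := hex
    obtain ⟨k, hk, hkj⟩ := htrans i₀ j
    refine ⟨k, hk, ?_⟩
    rw [hHmem]
    rintro ⟨-, hE'⟩
    rw [hkj] at hE'
    exact hj hE'
  · rw [hHmem]; exact ⟨hh, hE⟩
  · exact hh

/-- if every element of `N_α` fixes `x • α` for all `x` in the factors, then `N_α = 1` -/
theorem stab_eq_bot_of_fix [FaithfulSMul G Ω] [hNt : MulAction.IsPretransitive N Ω]
    (hsup : (⨆ i : Idx S, i.1) = N) (α : Ω)
    (hfix : ∀ (i₀ : Idx S) (x : G), x ∈ i₀.1 → ∀ d ∈ N, d • α = α → d • x • α = x • α) :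
    ∀ d ∈ N, d • α = α → d = 1 := by
  set D : Subgroup G := N ⊓ MulAction.stabilizer G α with hD
  have hDmem : ∀ d : G, d ∈ D ↔ d ∈ N ∧ d • α = α := fun d => Iff.rfl
  have hfac : ∀ i₀ : Idx S, i₀.1 ≤ Subgroup.normalizer (D : Set G) := by
    intro i₀ x hx
    have hxN : x ∈ N := by rw [← hsup]; exact le_iSup (fun i : Idx S => i.1) i₀ hx
    rw [Subgroup.mem_normalizer_iff]
    intro d
    constructor
    · intro hd
      rw [hDmem] at hd ⊢
      refine ⟨hNn.conj_mem d hd.1 x, ?_⟩
      have h1 := hfix i₀ x⁻¹ (Subgroup.inv_mem _ hx) d hd.1 hd.2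
      rw [mul_smul, mul_smul, h1, smul_inv_smul]
    · intro hd
      rw [hDmem] at hd ⊢
      have hdN : d ∈ N := by
        have h1 := hNn.conj_mem _ hd.1 x⁻¹
        have e : x⁻¹ * (x * d * x⁻¹) * x⁻¹⁻¹ = d := by group
        rwa [e] at h1
      refine ⟨hdN, ?_⟩
      have h1 := hfix i₀ x hx _ hd.1 hd.2
      rw [mul_smul, mul_smul, inv_smul_smul] at h1
      exact smul_left_cancel x h1
  have hNnorm : N ≤ Subgroup.normalizer (D : Set G) := by
    rw [← hsup]
    exact iSup_le hfac
  intro d hdN hdα
  apply FaithfulSMul.eq_of_smul_eq_smul (α := Ω)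
  intro ω
  rw [one_smul]
  obtain ⟨n, hn⟩ := MulAction.exists_smul_eq N α ω
  have hnnorm : (n : G)⁻¹ ∈ Subgroup.normalizer (D : Set G) := hNnorm (N.inv_mem n.2)
  have h1 : (n : G)⁻¹ * d * (n : G)⁻¹⁻¹ ∈ D :=
    (Subgroup.mem_normalizer_iff.mp hnnorm d).mp ((hDmem d).mpr ⟨hdN, hdα⟩)
  rw [inv_inv, hDmem] at h1
  have h2 := h1.2
  rw [← hn]
  show d • ((n : G) • α) = (n : G) • α
  rw [mul_smul, mul_smul] at h2
  rw [inv_smul_eq_iff] at h2
  exact h2

/-- a regular non-abelian minimal normal subgroup whose factor normalizers in `G_α` centralize the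
factors is impossible -/
theorem false_of_regular [Finite G]
    (F : IsFam N (fun i : Idx S => i.1)) (α : Ω)
    (hΓ : IsCoatom (MulAction.stabilizer G α))
    (hZN : N ⊓ Subgroup.centralizer (N : Set G) = ⊥)
    (htrans : ∀ i j : Idx S, ∃ h ∈ MulAction.stabilizer G α, act S h i = j)
    (hreg : ∀ d ∈ N, d • α = α → d = 1)
    (hcent : ∀ (i₀ : Idx S) (x : G), x ∈ i₀.1 → ∀ h ∈ MulAction.stabilizer G α,
      act S h i₀ = i₀ → h • x • α = x • α) (i : Idx S) : False := by
  classical
  -- `N_{G_α}(T_i)` centralizes `T_i`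
  have hcomm : ∀ (i₀ : Idx S) (x : G), x ∈ i₀.1 → ∀ h ∈ MulAction.stabilizer G α,
      act S h i₀ = i₀ → h * x * h⁻¹ = x := by
    intro i₀ x hx h hh hact
    have hxN : x ∈ N := F.le i₀ hx
    have hhα : h • α = α := hh
    have hhinvα : h⁻¹ • α = α := by rw [inv_smul_eq_iff, hhα]
    have h1 : x⁻¹ * (h * x * h⁻¹) ∈ N := N.mul_mem (N.inv_mem hxN) (hNn.conj_mem x hxN h)
    have h2 : (x⁻¹ * (h * x * h⁻¹)) • α = α := by
      rw [mul_smul, mul_smul, mul_smul, hhinvα, hcent i₀ x hx h hh hact, inv_smul_smul]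
    have h3 := hreg _ h1 h2
    exact (inv_mul_eq_one.mp h3).symm
  -- a non-trivial element of the factor `i`
  have := F.simple i
  obtain ⟨t, ht1⟩ := exists_ne (1 : i.1)
  choose g hgΓ hgact using fun k : Idx S => htrans i k
  have hsmem : ∀ k : Idx S, g k * (t : G) * (g k)⁻¹ ∈ k.1 := by
    intro k
    have h1 : g k * (t : G) * (g k)⁻¹ ∈ cj (g k) i.1 := conj_mem_cj (g k) t.2
    have h2 : (act S (g k) i).1 = k.1 := congrArg Subtype.val (hgact k)
    rw [act_val] at h2
    rwa [h2] at h1
  -- isomorphisms of the factors with `S`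
  have hψ₀ : ∀ k : Idx S, Nonempty (k.1 ≃* S) := by
    intro k
    obtain ⟨u, hu⟩ := k.2
    exact ⟨(MulEquiv.subgroupCongr hu).trans
      (S.equivMapOfInjective _ (MulAut.conj u).injective).symm⟩
  let ψ : ∀ k : Idx S, k.1 ≃* S := fun k => Classical.choice (hψ₀ k)
  have : Finite (Idx S) := by
    apply Finite.of_injective (fun k : Idx S => (k.1 : Subgroup G)) Subtype.val_injective
  obtain ⟨z, hz⟩ := F.coordHom_surjective ψ (fun k => ψ k ⟨g k * (t : G) * (g k)⁻¹, hsmem k⟩)
  have hzπ : ∀ k : Idx S, ((F.π k z : k.1) : G) = g k * (t : G) * (g k)⁻¹ := by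
    intro k
    have h1 := congrFun hz k
    rw [IsFam.coordHom_apply] at h1
    have h2 := (ψ k).injective h1
    rw [h2]
  have key : ∀ (n : N) (r r' : Idx S), r = r' →
      ((F.π r n : r.1) : G) = ((F.π r' n : r'.1) : G) := by
    rintro n r _ rfl; rfl
  -- `z` is centralized by `G_α`
  have hzcent : ∀ h ∈ MulAction.stabilizer G α, h * (z : G) * h⁻¹ = z := by
    intro h hh
    have : conjN (N := N) h z = z := by
      apply F.ext_π
      intro k
      apply Subtype.ext
      set k' := act S h⁻¹ k with hk'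
      have hkk' : act S h k' = k := act_act_inv S h k
      rw [← key (conjN (N := N) h z) _ _ hkk', π_conj, hzπ k', hzπ k]
      -- the element `u = (g k)⁻¹ h (g k')` normalizes the factor `i`
      have huΓ : (g k)⁻¹ * h * g k' ∈ MulAction.stabilizer G α :=
        Subgroup.mul_mem _ (Subgroup.mul_mem _ (Subgroup.inv_mem _ (hgΓ k)) hh) (hgΓ k')
      have huact : act S ((g k)⁻¹ * h * g k') i = i := by
        rw [← act_act, ← act_act, hgact k', hkk']
        have h0 := act_inv_act S (g k) i
        rw [hgact k] at h0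
        exact h0
      have h1 := hcomm i t t.2 _ huΓ huact
      calc h * (g k' * (t : G) * (g k')⁻¹) * h⁻¹
          = g k * (((g k)⁻¹ * h * g k') * (t : G) * ((g k)⁻¹ * h * g k')⁻¹) * (g k)⁻¹ := by group
        _ = g k * (t : G) * (g k)⁻¹ := by rw [h1]
    exact congrArg Subtype.val this
  -- `z ≠ 1`
  have hz1 : z ≠ 1 := by
    intro hz1
    have h1 := hzπ i
    rw [hz1, map_one] at h1
    have h2 : (t : G) = 1 := by
      have e : (t : G) = (g i)⁻¹ * (g i * (t : G) * (g i)⁻¹) * g i := by group
      rw [e, ← h1]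
      simp
    exact ht1 (Subtype.ext h2)
  have hzΓ : (z : G) ∉ MulAction.stabilizer G α := by
    intro hzΓ
    exact hz1 (Subtype.ext (hreg z z.2 hzΓ))
  -- `C_G(z) = G`
  have hle : MulAction.stabilizer G α ≤ Subgroup.centralizer ({(z : G)} : Set G) := by
    intro h hh
    rw [Subgroup.mem_centralizer_iff]
    intro y hy
    rw [Set.mem_singleton_iff] at hy
    subst hy
    have h1 := hzcent h hh
    calc (z : G) * h = (h * (z : G) * h⁻¹) * h := by rw [h1]
      _ = h * (z : G) := by group
  have hlt : MulAction.stabilizer G α < Subgroup.centralizer ({(z : G)} : Set G) := by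
    refine lt_of_le_of_ne hle ?_
    intro heq
    apply hzΓ
    rw [heq]
    exact Subgroup.mem_centralizer_singleton_iff.mpr rfl
  have htop := hΓ.2 _ hlt
  have hzZ : (z : G) ∈ N ⊓ Subgroup.centralizer (N : Set G) := by
    refine Subgroup.mem_inf.mpr ⟨z.2, ?_⟩
    rw [Subgroup.mem_centralizer_iff]
    intro y _
    have hy : y ∈ Subgroup.centralizer ({(z : G)} : Set G) := by rw [htop]; trivial
    exact ((Subgroup.mem_centralizer_iff.mp hy) z (Set.mem_singleton _)).symm
  rw [hZN, Subgroup.mem_bot] at hzZ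
  exact hz1 (Subtype.ext hzZ)

end fam

section main

variable {G : Type*} [Group G] [Finite G] {Ω : Type*} [MulAction G Ω]

/-- **Main theorem of this file**: with at least two simple factors there are exactly two, each
factor is semiregular, and `N_α` is the graph of an isomorphism between them. -/
theorem two_factor_structure [FaithfulSMul G Ω]
    (hprim : MulAction.IsPreprimitive G Ω)
    (hep : ∀ (α ω : Ω), MulAction.IsPreprimitive (MulAction.stabilizer G α)
      (MulAction.orbit (MulAction.stabilizer G α) ω))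
    (N : Subgroup G) [hNn : N.Normal] (hNne : N ≠ ⊥)
    (hmin : ∀ M : Subgroup G, M.Normal → M ≤ N → M = ⊥ ∨ M = N) (hnab : ¬ IsMulCommutative N)
    {S : Subgroup G} (hS : MinNormalIn N S) (α : Ω) (i j : Idx S) (hij : i ≠ j) :
    (∀ k : Idx S, k = i ∨ k = j) ∧ (∀ t ∈ i.1, t • α = α → t = 1) ∧
      (∀ s ∈ i.1, ∃ c ∈ j.1, (s * c) • α = α) := by
  classical
  have hNt : MulAction.IsPretransitive N Ω := pretransitive_of_normal hprim N hNne
  have F := isFam_of_minNormalIn N hmin hnab hS
  have hZN := center_eq_bot N hmin hnab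
  -- `Ω` is non-trivial
  have hΩ : Nontrivial Ω := by
    by_contra hnt
    rw [not_nontrivial_iff_subsingleton] at hnt
    apply hNne
    rw [eq_bot_iff]
    intro n _
    rw [Subgroup.mem_bot]
    apply FaithfulSMul.eq_of_smul_eq_smul (α := Ω)
    intro ω
    exact Subsingleton.elim _ _
  set Γ : Subgroup G := MulAction.stabilizer G α with hΓdef
  have hΓ : IsCoatom Γ := MulAction.IsPreprimitive.isCoatom_stabilizer_of_isPreprimitive G α
  have hNΓ : ¬ N ≤ Γ := by
    intro hle
    obtain ⟨ω, hω⟩ := exists_ne α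
    obtain ⟨n, hn⟩ := MulAction.exists_smul_eq N α ω
    apply hω
    rw [← hn]
    exact hle n.2
  have hsup : Γ ⊔ N = ⊤ := by
    apply hΓ.2
    apply lt_of_le_of_ne le_sup_left
    intro h
    apply hNΓ
    rw [h]; exact le_sup_right
  have hnorm : ∀ i : Idx S, N ≤ Subgroup.normalizer ((i.1 : Subgroup G) : Set G) := by
    intro i
    obtain ⟨g, hg⟩ := i.2
    rw [hg]
    exact (hS.map_conj g).2.2.1
  have htrans : ∀ i j : Idx S, ∃ h ∈ Γ, act S h i = j := by
    intro i j
    obtain ⟨g, hg⟩ := act_transitive S i j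
    have : g ∈ Γ ⊔ N := by rw [hsup]; trivial
    obtain ⟨h, hh, n, hn, rfl⟩ := Subgroup.mem_sup_of_normal_right.mp this
    refine ⟨h, hh, ?_⟩
    rw [← hg, ← act_act, act_of_normalizes S i (hnorm i hn)]
  have hsupN : (⨆ i : Idx S, i.1) = N := by
    apply le_antisymm
    · exact iSup_le fun i => F.le i
    · rw [← iSup_map_conj_eq N hmin hS]
      refine iSup_le fun h => ?_
      exact le_iSup (fun i : Idx S => i.1) ⟨cj h S, ⟨h, rfl⟩⟩
  have hfacne : ∀ k : Idx S, ∃ t : G, t ∈ k.1 ∧ t ≠ 1 := by
    intro k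
    have := F.simple k
    obtain ⟨t, ht1⟩ := exists_ne (1 : k.1)
    exact ⟨t, t.2, fun h => ht1 (Subtype.ext h)⟩
  -- membership of `N ∩ Γ`
  have hDmem : ∀ n : N, n ∈ DD (N := N) Γ ↔ (n : G) • α = α := by
    intro n
    rw [Subgroup.mem_subgroupOf]
    exact Iff.rfl
  -- from the core block statement to regularity
  have hregOf : ∀ (E : Idx S → Idx S → Prop), (∀ i, E i i) → (∀ i j, E i j → E j i) →
      (∀ i j k, E i j → E j k → E i k) →
      (∀ h ∈ Γ, ∀ i j, E i j → E (act S h i) (act S h j)) → (∃ i j, ¬ E i j) →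
      (∀ i j, ¬ E i j → ∀ m m' : N, (∀ k, ¬ E i k → F.π k m = 1) →
        (∀ k, ¬ E j k → F.π k m' = 1) → (m : G) • α = (m' : G) • α → (m : G) • α = α) →
      ∀ d ∈ N, d • α = α → d = 1 := by
    intro E hr hs ht hE1 hE2 hE3
    apply stab_eq_bot_of_fix hsupN α
    intro i₀ x hx d hdN hdα
    apply fix_of_class hep F α E hr hs ht hE1 hE2 htrans hE3 i₀ x hx d hdα
    rw [act_of_normalizes S i₀ (hnorm i₀ hdN)]
    exact hr i₀
  by_cases hcase : ∃ i₁ : Idx S, (DD (N := N) Γ).map (F.π i₁) ≠ ⊤
  · -- product action type (including the regular case)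
    exfalso
    obtain ⟨i₁, hi₁⟩ := hcase
    obtain ⟨hall, hmem⟩ := case1 F Γ hΓ hmin htrans i₁ hi₁
    have hE3 : ∀ a b : Idx S, ¬ a = b → ∀ m m' : N, (∀ k, ¬ a = k → F.π k m = 1) →
        (∀ k, ¬ b = k → F.π k m' = 1) → (m : G) • α = (m' : G) • α → (m : G) • α = α := by
      intro a b hab m m' hm hm' hmα
      have hnΓ : ((m'⁻¹ * m : N) : G) ∈ Γ := by
        show ((m' : G)⁻¹ * (m : G)) • α = α
        rw [mul_smul, hmα, inv_smul_smul]
      rw [hmem] at hnΓ
      have hmΓ : (m : G) ∈ Γ := by
        rw [hmem]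
        intro k
        by_cases hk : a = k
        · subst hk
          have h1 := hnΓ a
          rw [map_mul, map_inv, hm' a (fun h => hab h.symm), inv_one, one_mul] at h1
          exact h1
        · rw [hm k hk]
          exact Subgroup.one_mem _
      exact hmΓ
    have hE1 : ∀ h ∈ Γ, ∀ a b : Idx S, a = b → act S h a = act S h b := by
      rintro h _ a _ rfl; rfl
    have hreg := hregOf Eq (fun _ => rfl) (fun _ _ h => h.symm) (fun _ _ _ h h' => h.trans h')
      hE1 ⟨i, j, hij⟩ hE3
    apply false_of_regular F α hΓ hZN htrans hreg _ i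
    intro i₀ x hx h hh hact
    exact fix_of_class hep F α Eq (fun _ => rfl) (fun _ _ h => h.symm)
      (fun _ _ _ h h' => h.trans h') hE1 ⟨i, j, hij⟩ htrans hE3 i₀ x hx h hh hact
  · -- diagonal type
    push Not at hcase
    have hψ₀ : ∀ k : Idx S, Nonempty (k.1 ≃* S) := by
      intro k
      obtain ⟨u, hu⟩ := k.2
      exact ⟨(MulEquiv.subgroupCongr hu).trans
        (S.equivMapOfInjective _ (MulAut.conj u).injective).symm⟩
    obtain ⟨ψ, hψ⟩ := case2_core F Γ hcase (fun k => Classical.choice (hψ₀ k))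
    -- regularity contradicts the surjectivity of the projections
    have hnotreg : ¬ ∀ d ∈ N, d • α = α → d = 1 := by
      intro hreg
      obtain ⟨t, ht, ht1⟩ := hfacne i
      have h1 : (⟨t, ht⟩ : i.1) ∈ (DD (N := N) Γ).map (F.π i) := by rw [hcase i]; trivial
      obtain ⟨d, hd, hdt⟩ := Subgroup.mem_map.mp h1
      rw [hDmem] at hd
      have hd1 : d = 1 := Subtype.ext (hreg d d.2 hd)
      rw [hd1, map_one] at hdt
      exact ht1 (congrArg Subtype.val hdt).symm
    have hπinv : ∀ (k : Idx S) (m m' : N), F.π k m' = 1 → F.π k (m'⁻¹ * m) = F.π k m := by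
      intro k m m' h
      rw [map_mul, map_inv, h, inv_one, one_mul]
    by_cases hcls : ∃ a b : Idx S, ¬ rel F Γ a b
    · -- at least two classes
      exfalso
      apply hnotreg
      apply hregOf (rel F Γ) (rel_refl F Γ) (fun _ _ h => rel_symm F Γ h)
        (fun _ _ _ h h' => rel_trans F Γ h h') (fun h hh _ _ hab => rel_act F Γ hh hab) hcls
      intro a b hab m m' hm hm' hmα
      have hnΓ : ((m'⁻¹ * m : N) : G) ∈ Γ := by
        show ((m' : G)⁻¹ * (m : G)) • α = α
        rw [mul_smul, hmα, inv_smul_smul]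
      rw [hψ] at hnΓ
      have hmΓ : (m : G) ∈ Γ := by
        rw [hψ]
        intro p q hpq
        by_cases hap : rel F Γ a p
        · have haq : rel F Γ a q := rel_trans F Γ hap hpq
          have hbp : ¬ rel F Γ b p := fun h => hab (rel_trans F Γ hap (rel_symm F Γ h))
          have hbq : ¬ rel F Γ b q := fun h => hab (rel_trans F Γ haq (rel_symm F Γ h))
          have h1 := hnΓ p q hpq
          rw [hπinv p m m' (hm' p hbp), hπinv q m m' (hm' q hbq)] at h1
          exact h1
        · have haq : ¬ rel F Γ a q := fun h => hap (rel_trans F Γ h (rel_symm F Γ hpq))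
          rw [hm p hap, hm q haq, map_one, map_one]
      exact hmΓ
    · push Not at hcls
      by_cases hthird : ∃ k : Idx S, k ≠ i ∧ k ≠ j
      · -- a single class with at least three factors
        exfalso
        obtain ⟨k, hki, hkj⟩ := hthird
        apply hnotreg
        have hE1 : ∀ h ∈ Γ, ∀ a b : Idx S, a = b → act S h a = act S h b := by
          rintro h _ a _ rfl; rfl
        apply hregOf Eq (fun _ => rfl) (fun _ _ h => h.symm) (fun _ _ _ h h' => h.trans h')
          hE1 ⟨i, j, hij⟩
        intro a b hab m m' hm hm' hmα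
        have hnΓ : ((m'⁻¹ * m : N) : G) ∈ Γ := by
          show ((m' : G)⁻¹ * (m : G)) • α = α
          rw [mul_smul, hmα, inv_smul_smul]
        rw [hψ] at hnΓ
        have hc : ∃ c : Idx S, c ≠ a ∧ c ≠ b := by
          by_cases h1 : i ≠ a ∧ i ≠ b
          · exact ⟨i, h1⟩
          by_cases h2 : j ≠ a ∧ j ≠ b
          · exact ⟨j, h2⟩
          by_cases h3 : k ≠ a ∧ k ≠ b
          · exact ⟨k, h3⟩
          exfalso
          have hi : i = a ∨ i = b := by
            by_contra hc; push Not at hc; exact h1 hc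
          have hj : j = a ∨ j = b := by
            by_contra hc; push Not at hc; exact h2 hc
          have hk : k = a ∨ k = b := by
            by_contra hc; push Not at hc; exact h3 hc
          rcases hi with hi | hi <;> rcases hj with hj | hj <;> rcases hk with hk | hk
          · exact hij (hi.trans hj.symm)
          · exact hij (hi.trans hj.symm)
          · exact hki (hk.trans hi.symm)
          · exact hkj (hk.trans hj.symm)
          · exact hkj (hk.trans hj.symm)
          · exact hki (hk.trans hi.symm)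
          · exact hij (hi.trans hj.symm)
          · exact hij (hi.trans hj.symm)
        obtain ⟨c, hca, hcb⟩ := hc
        have h1 := hnΓ c a (hcls c a)
        rw [hπinv a m m' (hm' a (fun h => hab h.symm)), map_mul, map_inv,
          hm c (fun h => hca h.symm), hm' c (fun h => hcb h.symm), inv_one, one_mul, map_one] at h1
        have h2 : F.π a m = 1 := by
          have := (ψ a).injective (h1.symm.trans (map_one (ψ a)).symm)
          exact this
        have hm1 : m = 1 := by
          apply F.eq_one_of_π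
          intro p
          by_cases hp : a = p
          · subst hp; exact h2
          · exact hm p hp
        rw [hm1]
        exact one_smul _ _
      · -- exactly two factors, a single class
        push Not at hthird
        have htwo : ∀ k : Idx S, k = i ∨ k = j := by
          intro k
          by_cases hk : k = i
          · exact Or.inl hk
          · exact Or.inr (hthird k hk)
        refine ⟨htwo, ?_, ?_⟩
        · intro t ht htα
          have hn : ((⟨t, F.le i ht⟩ : N) : G) ∈ Γ := htα
          rw [hψ] at hn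
          have h1 := hn i j (hcls i j)
          rw [F.π_other (Ne.symm hij) ⟨t, F.le i ht⟩ ht, map_one] at h1
          have h2 : F.π i ⟨t, F.le i ht⟩ = 1 :=
            (ψ i).injective (h1.trans (map_one (ψ i)).symm)
          have h3 := F.π_self i ⟨t, F.le i ht⟩ ht
          rw [h2] at h3
          exact h3.symm
        · intro s hs
          let c : j.1 := (ψ j).symm (ψ i ⟨s, hs⟩)
          refine ⟨(c : G), c.2, ?_⟩
          let n : N := ⟨s, F.le i hs⟩ * ⟨(c : G), F.le j c.2⟩
          have hπi : F.π i n = ⟨s, hs⟩ := by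
            show F.π i (⟨s, F.le i hs⟩ * ⟨(c : G), F.le j c.2⟩) = _
            rw [map_mul, F.π_other hij ⟨(c : G), F.le j c.2⟩ c.2, mul_one]
            exact Subtype.ext (F.π_self i ⟨s, F.le i hs⟩ hs)
          have hπj : F.π j n = c := by
            show F.π j (⟨s, F.le i hs⟩ * ⟨(c : G), F.le j c.2⟩) = _
            rw [map_mul, F.π_other (Ne.symm hij) ⟨s, F.le i hs⟩ hs, one_mul]
            exact Subtype.ext (F.π_self j ⟨(c : G), F.le j c.2⟩ c.2)
          have hij' : ψ i (F.π i n) = ψ j (F.π j n) := by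
            rw [hπi, hπj]
            show _ = ψ j ((ψ j).symm (ψ i ⟨s, hs⟩))
            rw [MulEquiv.apply_symm_apply]
          have hnΓ : (n : G) ∈ Γ := by
            rw [hψ]
            intro p q _
            rcases htwo p with rfl | rfl <;> rcases htwo q with rfl | rfl
            · rfl
            · exact hij'
            · exact hij'.symm
            · rfl
          exact hnΓ

end main

end Cfsg.Agent.Lib.Lead.ExtPrimProd
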