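import Mathlib
import Cfsg.Prelude.Def_ConjugacyFunctors

/-!
# The K-infinity subgroups: relative sequences, monotonicity, transport along injective maps

For a subgroup `H` of a group `G` the sequences `relOdd H n`, `relEven H n` are the K-sequences of the group `H`,
computed inside `G`.  We show that they are the images of `kSeqOdd ↥H n`, `kSeqEven ↥H n`, that they are
carried to each other by injective homomorphisms, and that `kInfLower`, `kInfUpper` are isomorphism-invariant
`p`-group functors containing the centre.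
-/

set_option autoImplicit false
set_option linter.style.haveILetI false
set_option linter.unusedVariables false
set_option linter.unusedSectionVars false

namespace Cfsg.Agent.Lib.Lead.KInf

open Cfsg
open scoped commutatorElement

section basic

variable {G : Type*} [Group G]

/-- the centre of a subgroup, as a subgroup of the ambient group -/
abbrev Zc (B : Subgroup G) : Subgroup G := B ⊓ Subgroup.centralizer (B : Set G)

theorem le_normalizer_iff_commutator_le (Q B : Subgroup G) :
    Q ≤ Subgroup.normalizer (B : Set G) ↔ ⁅Q, B⁆ ≤ B := by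
  constructor
  · intro h
    rw [Subgroup.commutator_le]
    intro q hq b hb
    have h1 := (Subgroup.mem_normalizer_iff.mp (h hq) b).mp hb
    have e : ⁅q, b⁆ = (q * b * q⁻¹) * b⁻¹ := by rw [commutatorElement_def]
    rw [e]
    exact B.mul_mem h1 (B.inv_mem hb)
  · intro h q hq
    rw [Subgroup.mem_normalizer_iff]
    intro b
    constructor
    · intro hb
      have h1 : ⁅q, b⁆ ∈ B := h (Subgroup.commutator_mem_commutator hq hb)
      have e : q * b * q⁻¹ = ⁅q, b⁆ * b := by rw [commutatorElement_def]; group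
      rw [e]
      exact B.mul_mem h1 hb
    · intro hb
      have h1 : ⁅q⁻¹, q * b * q⁻¹⁆ ∈ B :=
        h (Subgroup.commutator_mem_commutator (Q.inv_mem hq) hb)
      have e : b = ⁅q⁻¹, q * b * q⁻¹⁆ * (q * b * q⁻¹) := by rw [commutatorElement_def]; group
      rw [e]
      exact B.mul_mem h1 hb

theorem classTwo_iff (B : Subgroup G) :
    B ∈ classTwoSubgroups G ↔ ⁅⁅B, B⁆, B⁆ = ⊥ := by
  rw [Subgroup.commutator_eq_bot_iff_le_centralizer]
  rfl

theorem commutator_le_of_le_normalizer {H K : Subgroup G}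
    (h : K ≤ Subgroup.normalizer (H : Set G)) : ⁅H, K⁆ ≤ H := by
  rw [Subgroup.commutator_comm]
  exact (le_normalizer_iff_commutator_le K H).mp h

theorem lower_antitone {Q R : Subgroup G} (h : Q ≤ R) :
    kLowerStarFamily R ⊆ kLowerStarFamily Q := by
  rintro B ⟨h1, h2, h3⟩
  exact ⟨h1, h.trans h2, fun A hA hAQ => h3 A hA (hAQ.trans h)⟩

theorem upper_antitone {Q R : Subgroup G} (h : Q ≤ R) :
    kUpperStarFamily R ⊆ kUpperStarFamily Q := by
  rintro B ⟨h1, h2⟩
  exact ⟨h1, (Subgroup.commutator_mono le_rfl h).trans h2⟩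

/-- the lower-star family relative to `Q`, restricted to the subgroups of `H` -/
def relLower (H Q : Subgroup G) : Set (Subgroup G) := {B | B ∈ kLowerStarFamily Q ∧ B ≤ H}

/-- the upper-star family relative to `Q`, restricted to the subgroups of `H` -/
def relUpper (H Q : Subgroup G) : Set (Subgroup G) := {B | B ∈ kUpperStarFamily Q ∧ B ≤ H}

/-- the odd terms of the K-sequence of the subgroup `H`, inside `G` -/
def relOdd (H : Subgroup G) : ℕ → Subgroup G
  | 0 => H
  | n + 1 => sSup (relUpper H (sSup (relLower H (relOdd H n))))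

/-- the even terms of the K-sequence of the subgroup `H`, inside `G` -/
def relEven (H : Subgroup G) (n : ℕ) : Subgroup G := sSup (relLower H (relOdd H n))

theorem relOdd_zero (H : Subgroup G) : relOdd H 0 = H := rfl

theorem relOdd_succ (H : Subgroup G) (n : ℕ) :
    relOdd H (n + 1) = sSup (relUpper H (relEven H n)) := rfl

theorem relEven_le (H : Subgroup G) (n : ℕ) : relEven H n ≤ H :=
  sSup_le fun B hB => hB.2

theorem relOdd_le (H : Subgroup G) (n : ℕ) : relOdd H n ≤ H := by
  cases n with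
  | zero => exact le_rfl
  | succ n => exact sSup_le fun B hB => hB.2

theorem relLower_antitone (H : Subgroup G) {Q R : Subgroup G} (h : Q ≤ R) :
    relLower H R ⊆ relLower H Q := fun B hB => ⟨lower_antitone h hB.1, hB.2⟩

theorem relUpper_antitone (H : Subgroup G) {Q R : Subgroup G} (h : Q ≤ R) :
    relUpper H R ⊆ relUpper H Q := fun B hB => ⟨upper_antitone h hB.1, hB.2⟩

theorem relLower_mono_left {H H' : Subgroup G} (h : H ≤ H') (Q : Subgroup G) :
    relLower H Q ⊆ relLower H' Q := fun B hB => ⟨hB.1, hB.2.trans h⟩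

theorem relOdd_succ_le (H : Subgroup G) (n : ℕ) : relOdd H (n + 1) ≤ relOdd H n := by
  induction n with
  | zero => exact relOdd_le H 1
  | succ n ih =>
    have h1 : relEven H n ≤ relEven H (n + 1) := sSup_le_sSup (relLower_antitone H ih)
    exact sSup_le_sSup (relUpper_antitone H h1)

theorem relEven_le_succ (H : Subgroup G) (n : ℕ) : relEven H n ≤ relEven H (n + 1) :=
  sSup_le_sSup (relLower_antitone H (relOdd_succ_le H n))

theorem relOdd_antitone (H : Subgroup G) : Antitone (relOdd H) :=
  antitone_nat_of_succ_le (relOdd_succ_le H)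

theorem relEven_monotone (H : Subgroup G) : Monotone (relEven H) :=
  monotone_nat_of_le_succ (relEven_le_succ H)

theorem relLower_top (Q : Subgroup G) : relLower ⊤ Q = kLowerStarFamily Q := by
  ext B; simp [relLower]

theorem relUpper_top (Q : Subgroup G) : relUpper ⊤ Q = kUpperStarFamily Q := by
  ext B; simp [relUpper]

theorem relOdd_top (n : ℕ) : relOdd (⊤ : Subgroup G) n = kSeqOdd G n := by
  induction n with
  | zero => rfl
  | succ n ih =>
    show sSup (relUpper ⊤ (sSup (relLower ⊤ (relOdd ⊤ n)))) =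
      sSup (kUpperStarFamily (sSup (kLowerStarFamily (kSeqOdd G n))))
    rw [relUpper_top, relLower_top, ih]

theorem relEven_top (n : ℕ) : relEven (⊤ : Subgroup G) n = kSeqEven G n := by
  show sSup (relLower ⊤ (relOdd ⊤ n)) = sSup (kLowerStarFamily (kSeqOdd G n))
  rw [relLower_top, relOdd_top]

/-- abelian subgroups normalized by `Q` belong to the lower family -/
theorem abelian_mem_lower {B Q : Subgroup G} (hB : ⁅B, B⁆ = ⊥)
    (hQ : Q ≤ Subgroup.normalizer (B : Set G)) : B ∈ kLowerStarFamily Q := by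
  have hBc : B ≤ Subgroup.centralizer (B : Set G) :=
    (Subgroup.commutator_eq_bot_iff_le_centralizer).mp hB
  refine ⟨?_, hQ, ?_⟩
  · show ⁅B, B⁆ ≤ _
    rw [hB]; exact bot_le
  · intro A _ hAQ _ _ _
    have h1 : ⁅B, A⁆ ≤ B := commutator_le_of_le_normalizer (hAQ.trans hQ)
    exact le_inf h1 (h1.trans hBc)

/-- abelian subgroups normalized by `Q` belong to the upper family -/
theorem abelian_mem_upper {B Q : Subgroup G} (hB : ⁅B, B⁆ = ⊥)
    (hQ : Q ≤ Subgroup.normalizer (B : Set G)) : B ∈ kUpperStarFamily Q := by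
  have hBc : B ≤ Subgroup.centralizer (B : Set G) :=
    (Subgroup.commutator_eq_bot_iff_le_centralizer).mp hB
  refine ⟨?_, ?_⟩
  · show ⁅B, B⁆ ≤ _
    rw [hB]; exact bot_le
  · have h1 : ⁅B, Q⁆ ≤ B := commutator_le_of_le_normalizer hQ
    exact le_inf h1 (h1.trans hBc)

theorem commutator_self_eq_bot_of_le_centralizer {B : Subgroup G}
    (h : B ≤ Subgroup.centralizer (B : Set G)) : ⁅B, B⁆ = ⊥ :=
  (Subgroup.commutator_eq_bot_iff_le_centralizer).mpr h

/-- an abelian subgroup of `H` normalized by `H` lies in every even term -/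
theorem abelian_le_relEven {H B : Subgroup G} (hBH : B ≤ H) (hB : ⁅B, B⁆ = ⊥)
    (hHB : H ≤ Subgroup.normalizer (B : Set G)) (n : ℕ) : B ≤ relEven H n :=
  le_sSup ⟨abelian_mem_lower hB ((relOdd_le H n).trans hHB), hBH⟩

/-- an abelian subgroup of `H` normalized by `H` lies in every odd term -/
theorem abelian_le_relOdd {H B : Subgroup G} (hBH : B ≤ H) (hB : ⁅B, B⁆ = ⊥)
    (hHB : H ≤ Subgroup.normalizer (B : Set G)) (n : ℕ) : B ≤ relOdd H n := by
  cases n with
  | zero => exact hBH
  | succ n => exact le_sSup ⟨abelian_mem_upper hB ((relEven_le H n).trans hHB), hBH⟩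

theorem center_le_kSeqEven (n : ℕ) : Subgroup.center G ≤ kSeqEven G n := by
  rw [← relEven_top]
  refine abelian_le_relEven le_top ?_ ?_ n
  · rw [Subgroup.commutator_eq_bot_iff_le_centralizer]
    intro x hx
    rw [Subgroup.mem_centralizer_iff]
    intro y _
    exact (Subgroup.mem_center_iff.mp hx y)
  · intro x _
    exact (Subgroup.normalizer_eq_top (H := Subgroup.center G)) ▸ Subgroup.mem_top x

theorem center_le_kSeqOdd (n : ℕ) : Subgroup.center G ≤ kSeqOdd G n := by
  rw [← relOdd_top]
  refine abelian_le_relOdd le_top ?_ ?_ n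
  · rw [Subgroup.commutator_eq_bot_iff_le_centralizer]
    intro x hx
    rw [Subgroup.mem_centralizer_iff]
    intro y _
    exact (Subgroup.mem_center_iff.mp hx y)
  · intro x _
    exact (Subgroup.normalizer_eq_top (H := Subgroup.center G)) ▸ Subgroup.mem_top x

theorem center_le_kInfLower {P : Type*} [Group P] : Subgroup.center P ≤ kInfLower P :=
  (center_le_kSeqEven 0).trans (le_iSup (fun n => kSeqEven P n) 0)

theorem center_le_kInfUpper {P : Type*} [Group P] : Subgroup.center P ≤ kInfUpper P :=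
  le_iInf fun n => center_le_kSeqOdd n

end basic

section transport

variable {P G : Type*} [Group P] [Group G] (f : P →* G) (hf : Function.Injective f)
include hf

theorem map_Zc (B : Subgroup P) : (Zc B).map f = Zc (B.map f) := by
  ext x
  constructor
  · rintro ⟨b, hb, rfl⟩
    have hb1 : b ∈ B := hb.1
    have hb2 : b ∈ Subgroup.centralizer (B : Set P) := hb.2
    refine Subgroup.mem_inf.mpr ⟨Subgroup.mem_map_of_mem f hb1, ?_⟩
    rw [Subgroup.mem_centralizer_iff]
    rintro y ⟨b', hb', rfl⟩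
    have := Subgroup.mem_centralizer_iff.mp hb2 b' hb'
    rw [← map_mul, ← map_mul, this]
  · intro hx
    obtain ⟨hx1, hx2⟩ := Subgroup.mem_inf.mp hx
    obtain ⟨b, hb, rfl⟩ := hx1
    refine ⟨b, Subgroup.mem_inf.mpr ⟨hb, ?_⟩, rfl⟩
    rw [Subgroup.mem_centralizer_iff]
    intro b' hb'
    have := Subgroup.mem_centralizer_iff.mp hx2 (f b') (Subgroup.mem_map_of_mem f hb')
    rw [← map_mul, ← map_mul] at this
    exact hf this

theorem classTwo_map_iff (B : Subgroup P) :
    B.map f ∈ classTwoSubgroups G ↔ B ∈ classTwoSubgroups P := by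
  rw [classTwo_iff, classTwo_iff, ← Subgroup.map_commutator, ← Subgroup.map_commutator,
    Subgroup.map_eq_bot_iff_of_injective _ hf]

theorem normalizer_map_iff (Q B : Subgroup P) :
    Q.map f ≤ Subgroup.normalizer ((B.map f : Subgroup G) : Set G) ↔
      Q ≤ Subgroup.normalizer (B : Set P) := by
  rw [le_normalizer_iff_commutator_le, le_normalizer_iff_commutator_le, ← Subgroup.map_commutator,
    Subgroup.map_le_map_iff_of_injective hf]

theorem upper_map_iff (Q B : Subgroup P) :
    B.map f ∈ kUpperStarFamily (Q.map f) ↔ B ∈ kUpperStarFamily Q := by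
  show (B.map f ∈ classTwoSubgroups G ∧ ⁅B.map f, Q.map f⁆ ≤ Zc (B.map f)) ↔
    (B ∈ classTwoSubgroups P ∧ ⁅B, Q⁆ ≤ Zc B)
  rw [classTwo_map_iff f hf, ← Subgroup.map_commutator, ← map_Zc f hf,
    Subgroup.map_le_map_iff_of_injective hf]

theorem lower_test_map_iff (B A : Subgroup P) :
    ((A.map f ∈ classTwoSubgroups G) ∧
      (B.map f ≤ Subgroup.normalizer ((A.map f : Subgroup G) : Set G)) ∧
      (⁅B.map f, ⁅A.map f, A.map f⁆⁆ = ⊥) ∧
      (⁅⁅Zc (B.map f), A.map f⁆, A.map f⁆ = ⊥)) ↔
    ((A ∈ classTwoSubgroups P) ∧ (B ≤ Subgroup.normalizer (A : Set P)) ∧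
      (⁅B, ⁅A, A⁆⁆ = ⊥) ∧ (⁅⁅Zc B, A⁆, A⁆ = ⊥)) := by
  rw [classTwo_map_iff f hf, normalizer_map_iff f hf, ← map_Zc f hf]
  simp only [← Subgroup.map_commutator, Subgroup.map_eq_bot_iff_of_injective _ hf]

theorem lower_concl_map_iff (B A : Subgroup P) :
    ⁅B.map f, A.map f⁆ ≤ Zc (B.map f) ↔ ⁅B, A⁆ ≤ Zc B := by
  rw [← Subgroup.map_commutator, ← map_Zc f hf, Subgroup.map_le_map_iff_of_injective hf]

theorem lower_map_iff (Q B : Subgroup P) :
    B.map f ∈ kLowerStarFamily (Q.map f) ↔ B ∈ kLowerStarFamily Q := by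
  constructor
  · rintro ⟨h1, h2, h3⟩
    refine ⟨(classTwo_map_iff f hf B).mp h1, (normalizer_map_iff f hf Q B).mp h2, ?_⟩
    intro A hA hAQ hBA hc1 hc2
    obtain ⟨t1, t2, t3, t4⟩ := (lower_test_map_iff f hf B A).mpr ⟨hA, hBA, hc1, hc2⟩
    exact (lower_concl_map_iff f hf B A).mp (h3 (A.map f) t1 (Subgroup.map_mono hAQ) t2 t3 t4)
  · rintro ⟨h1, h2, h3⟩
    refine ⟨(classTwo_map_iff f hf B).mpr h1, (normalizer_map_iff f hf Q B).mpr h2, ?_⟩
    intro A' hA' hA'Q hBA' hc1 hc2
    have hr : A' ≤ f.range := hA'Q.trans (Subgroup.map_le_range f Q)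
    have hA'eq : (A'.comap f).map f = A' := Subgroup.map_comap_eq_self hr
    rw [← hA'eq] at hA' hA'Q hBA' hc1 hc2 ⊢
    obtain ⟨t1, t2, t3, t4⟩ := (lower_test_map_iff f hf B (A'.comap f)).mp ⟨hA', hBA', hc1, hc2⟩
    exact (lower_concl_map_iff f hf B _).mpr
      (h3 _ t1 ((Subgroup.map_le_map_iff_of_injective hf).mp hA'Q) t2 t3 t4)

theorem sSup_map_eq (𝓕 : Set (Subgroup P)) (𝓕' : Set (Subgroup G))
    (h1 : ∀ B ∈ 𝓕, B.map f ∈ 𝓕') (h2 : ∀ B' ∈ 𝓕', ∃ B ∈ 𝓕, B.map f = B') :
    (sSup 𝓕).map f = sSup 𝓕' := by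
  apply le_antisymm
  · rw [Subgroup.map_le_iff_le_comap]
    refine sSup_le fun B hB => ?_
    rw [← Subgroup.map_le_iff_le_comap]
    exact le_sSup (h1 B hB)
  · refine sSup_le fun B' hB' => ?_
    obtain ⟨B, hB, rfl⟩ := h2 B' hB'
    exact Subgroup.map_mono (le_sSup hB)

theorem relLower_map (H Q : Subgroup P) :
    (sSup (relLower H Q)).map f = sSup (relLower (H.map f) (Q.map f)) := by
  refine sSup_map_eq f hf _ _ ?_ ?_
  · rintro B ⟨hB1, hB2⟩
    exact ⟨(lower_map_iff f hf Q B).mpr hB1, Subgroup.map_mono hB2⟩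
  · rintro B' ⟨hB1, hB2⟩
    have hr : B' ≤ f.range := hB2.trans (Subgroup.map_le_range f H)
    have hB'eq : (B'.comap f).map f = B' := Subgroup.map_comap_eq_self hr
    refine ⟨B'.comap f, ⟨?_, ?_⟩, hB'eq⟩
    · rw [← hB'eq] at hB1
      exact (lower_map_iff f hf Q _).mp hB1
    · rw [← hB'eq] at hB2
      exact (Subgroup.map_le_map_iff_of_injective hf).mp hB2

theorem relUpper_map (H Q : Subgroup P) :
    (sSup (relUpper H Q)).map f = sSup (relUpper (H.map f) (Q.map f)) := by
  refine sSup_map_eq f hf _ _ ?_ ?_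
  · rintro B ⟨hB1, hB2⟩
    exact ⟨(upper_map_iff f hf Q B).mpr hB1, Subgroup.map_mono hB2⟩
  · rintro B' ⟨hB1, hB2⟩
    have hr : B' ≤ f.range := hB2.trans (Subgroup.map_le_range f H)
    have hB'eq : (B'.comap f).map f = B' := Subgroup.map_comap_eq_self hr
    refine ⟨B'.comap f, ⟨?_, ?_⟩, hB'eq⟩
    · rw [← hB'eq] at hB1
      exact (upper_map_iff f hf Q _).mp hB1
    · rw [← hB'eq] at hB2
      exact (Subgroup.map_le_map_iff_of_injective hf).mp hB2

theorem relOdd_map (H : Subgroup P) (n : ℕ) :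
    (relOdd H n).map f = relOdd (H.map f) n := by
  induction n with
  | zero => rfl
  | succ n ih =>
    show (sSup (relUpper H (sSup (relLower H (relOdd H n))))).map f =
      sSup (relUpper (H.map f) (sSup (relLower (H.map f) (relOdd (H.map f) n))))
    rw [relUpper_map f hf, relLower_map f hf, ih]

theorem relEven_map (H : Subgroup P) (n : ℕ) :
    (relEven H n).map f = relEven (H.map f) n := by
  show (sSup (relLower H (relOdd H n))).map f = sSup (relLower (H.map f) (relOdd (H.map f) n))
  rw [relLower_map f hf, relOdd_map f hf]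

theorem kSeqOdd_map (n : ℕ) : (kSeqOdd P n).map f = relOdd f.range n := by
  rw [← relOdd_top, relOdd_map f hf, ← MonoidHom.range_eq_map]

theorem kSeqEven_map (n : ℕ) : (kSeqEven P n).map f = relEven f.range n := by
  rw [← relEven_top, relEven_map f hf, ← MonoidHom.range_eq_map]

end transport

section transport2

theorem kInfLower_map {P G : Type*} [Group P] [Group G] (f : P →* G) (hf : Function.Injective f) :
    (kInfLower P).map f = ⨆ n, relEven f.range n := by
  show (⨆ n, kSeqEven P n).map f = _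
  rw [Subgroup.map_iSup]
  exact iSup_congr fun n => kSeqEven_map f hf n

theorem kInfUpper_map {P G : Type*} [Group P] [Group G] (f : P →* G) (hf : Function.Injective f) :
    (kInfUpper P).map f = ⨅ n, relOdd f.range n := by
  show (⨅ n, kSeqOdd P n).map f = _
  rw [Subgroup.map_iInf _ hf]
  exact iInf_congr fun n => kSeqOdd_map f hf n

end transport2

section functor

universe u

theorem kInfLower_iso {Q R : Type u} [Group Q] [Group R] (φ : Q ≃* R) :
    (kInfLower Q).map φ.toMonoidHom = kInfLower R := by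
  rw [kInfLower_map φ.toMonoidHom φ.injective]
  have hr : φ.toMonoidHom.range = ⊤ := MonoidHom.range_eq_top.mpr φ.surjective
  rw [hr]
  exact iSup_congr fun n => relEven_top n

theorem kInfUpper_iso {Q R : Type u} [Group Q] [Group R] (φ : Q ≃* R) :
    (kInfUpper Q).map φ.toMonoidHom = kInfUpper R := by
  rw [kInfUpper_map φ.toMonoidHom φ.injective]
  have hr : φ.toMonoidHom.range = ⊤ := MonoidHom.range_eq_top.mpr φ.surjective
  rw [hr]
  exact iInf_congr fun n => relOdd_top n

theorem isCharPFunctor_kInfLower (p : ℕ) [Fact p.Prime] :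
    Cfsg.IsCharPFunctor.{u} p (fun Q [Group Q] => kInfLower Q) := by
  refine ⟨?_, ?_⟩
  · intro Q _ _ hQ hnt h
    have h1 : Subgroup.center Q ≤ ⊥ := h ▸ center_le_kInfLower
    haveI := hQ.center_nontrivial
    exact (Subgroup.nontrivial_iff_ne_bot _).mp inferInstance (le_bot_iff.mp h1)
  · intro Q R _ _ _ _ φ
    exact kInfLower_iso φ

theorem isCharPFunctor_kInfUpper (p : ℕ) [Fact p.Prime] :
    Cfsg.IsCharPFunctor.{u} p (fun Q [Group Q] => kInfUpper Q) := by
  refine ⟨?_, ?_⟩
  · intro Q _ _ hQ hnt h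
    have h1 : Subgroup.center Q ≤ ⊥ := h ▸ center_le_kInfUpper
    haveI := hQ.center_nontrivial
    exact (Subgroup.nontrivial_iff_ne_bot _).mp inferInstance (le_bot_iff.mp h1)
  · intro Q R _ _ _ _ φ
    exact kInfUpper_iso φ

/-- the lower K-infinity subgroup of a subgroup, computed inside the ambient group -/
theorem induced_kInfLower {G : Type u} [Group G] (S : Subgroup G) :
    Cfsg.inducedFunctor (G := G) Cfsg.kInfLower S = ⨆ n, relEven S n := by
  show (kInfLower ↥S).map S.subtype = _
  rw [kInfLower_map S.subtype S.subtype_injective, Subgroup.range_subtype]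

theorem induced_kInfUpper {G : Type u} [Group G] (S : Subgroup G) :
    Cfsg.inducedFunctor (G := G) Cfsg.kInfUpper S = ⨅ n, relOdd S n := by
  show (kInfUpper ↥S).map S.subtype = _
  rw [kInfUpper_map S.subtype S.subtype_injective, Subgroup.range_subtype]

end functor

end Cfsg.Agent.Lib.Lead.KInf
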