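import Mathlib
import Cfsg.Prelude.Def_PLocal
import Cfsg.Prelude.Def_LocalEven
import Cfsg.Agent.H2.ThreeSubgroups
import Cfsg.Agent.Lib.Lead.KInf1

/-!
# Engel degrees through a pairing

`engel_pairing`: let `Y, M ≥ M₀, R` be normal subgroups of `L` with `[M, Y] ≤ R`, `[M₀, Y] = 1`, `R` centralized by
`Y` and by `M`, and `g ∈ L` with `[M, g; i] ≤ M₀` and `[R, g; j] = 1`.  Then `[M, [Y, g; i + j - 1]] = 1`.
-/

set_option autoImplicit false
set_option linter.style.haveILetI false
set_option linter.unusedVariables false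
set_option linter.unusedSectionVars false

namespace Cfsg.Agent.Lib.Lead.KInf

open Cfsg
open scoped commutatorElement

section iter

variable {L : Type*} [Group L]

theorem iter_succ (N K : Subgroup L) (k : ℕ) :
    Cfsg.iterCommutator N K (k + 1) = ⁅Cfsg.iterCommutator N K k, K⁆ := rfl

theorem iter_zero (N K : Subgroup L) : Cfsg.iterCommutator N K 0 = N := rfl

theorem iter_le (N K : Subgroup L) [hN : N.Normal] (k : ℕ) : Cfsg.iterCommutator N K k ≤ N := by
  induction k with
  | zero => exact le_rfl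
  | succ k ih =>
    rw [iter_succ]
    exact (Subgroup.commutator_mono ih le_rfl).trans (Subgroup.commutator_le_left N K)

theorem iter_mono {N₁ N₂ : Subgroup L} (h : N₁ ≤ N₂) (K : Subgroup L) (k : ℕ) :
    Cfsg.iterCommutator N₁ K k ≤ Cfsg.iterCommutator N₂ K k := by
  induction k with
  | zero => exact h
  | succ k ih => exact Subgroup.commutator_mono ih le_rfl

theorem iter_le_of_le {N V K : Subgroup L} [hV : V.Normal] {n n' : ℕ} (hn : n ≤ n')
    (h : Cfsg.iterCommutator N K n ≤ V) : Cfsg.iterCommutator N K n' ≤ V := by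
  induction n' with
  | zero =>
    have : n = 0 := Nat.le_zero.mp hn
    subst this; exact h
  | succ m ih =>
    rcases Nat.lt_or_ge n (m + 1) with h1 | h1
    · rw [iter_succ]
      exact (Subgroup.commutator_mono (ih (Nat.lt_succ_iff.mp h1)) le_rfl).trans
        (Subgroup.commutator_le_left V K)
    · have : n = m + 1 := le_antisymm hn h1
      subst this; exact h

theorem iter_map {L' : Type*} [Group L'] (f : L →* L') (N K : Subgroup L) (k : ℕ) :
    (Cfsg.iterCommutator N K k).map f = Cfsg.iterCommutator (N.map f) (K.map f) k := by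
  induction k with
  | zero => rfl
  | succ k ih =>
    rw [iter_succ, iter_succ, Subgroup.map_commutator, ih]

theorem map_conj_of_mem_normalizer {H : Subgroup L} {g : L}
    (hg : g ∈ Subgroup.normalizer (H : Set L)) : H.map (MulAut.conj g).toMonoidHom = H := by
  ext x
  constructor
  · rintro ⟨y, hy, rfl⟩
    exact (Subgroup.mem_normalizer_iff.mp hg y).mp hy
  · intro hx
    refine ⟨g⁻¹ * x * g, ?_, ?_⟩
    · have := (Subgroup.mem_normalizer_iff.mp (Subgroup.inv_mem _ hg) x).mp hx
      rwa [inv_inv] at this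
    · show g * (g⁻¹ * x * g) * g⁻¹ = x
      group

theorem mem_normalizer_of_map_conj {H : Subgroup L} {g : L}
    (h1 : H.map (MulAut.conj g).toMonoidHom = H) : g ∈ Subgroup.normalizer (H : Set L) := by
  rw [Subgroup.mem_normalizer_iff]
  intro x
  constructor
  · intro hx
    have : (MulAut.conj g).toMonoidHom x ∈ H.map (MulAut.conj g).toMonoidHom :=
      Subgroup.mem_map_of_mem _ hx
    rw [h1] at this
    exact this
  · intro hx
    rw [← h1] at hx
    obtain ⟨y, hy, hyx⟩ := hx
    have e : y = x := by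
      have : g * y * g⁻¹ = g * x * g⁻¹ := hyx
      have h2 : y = g⁻¹ * (g * y * g⁻¹) * g := by group
      rw [h2, this]; group
    rw [← e]; exact hy

/-- `K` normalizes `[H, K]` when it normalizes `H` -/
theorem le_normalizer_commutator {H K : Subgroup L} (h : K ≤ Subgroup.normalizer (H : Set L)) :
    K ≤ Subgroup.normalizer ((⁅H, K⁆ : Subgroup L) : Set L) := by
  intro k hk
  apply mem_normalizer_of_map_conj
  rw [Subgroup.map_commutator, map_conj_of_mem_normalizer (h hk),
    map_conj_of_mem_normalizer (Subgroup.le_normalizer hk)]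

theorem le_normalizer_iter (N K : Subgroup L) (h : K ≤ Subgroup.normalizer (N : Set L)) (k : ℕ) :
    K ≤ Subgroup.normalizer ((Cfsg.iterCommutator N K k : Subgroup L) : Set L) := by
  induction k with
  | zero => exact h
  | succ k ih => exact le_normalizer_commutator ih

/-- three subgroups lemma modulo a subgroup normalized by the three subgroups -/
theorem rotate_le_of_le_normalizer {H₁ H₂ H₃ N : Subgroup L}
    (n1 : H₁ ≤ Subgroup.normalizer (N : Set L)) (n2 : H₂ ≤ Subgroup.normalizer (N : Set L))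
    (n3 : H₃ ≤ Subgroup.normalizer (N : Set L))
    (h1 : ⁅⁅H₂, H₃⁆, H₁⁆ ≤ N) (h2 : ⁅⁅H₃, H₁⁆, H₂⁆ ≤ N) : ⁅⁅H₁, H₂⁆, H₃⁆ ≤ N := by
  set K := Subgroup.normalizer (N : Set L) with hK
  haveI : (N.subgroupOf K).Normal := Subgroup.normal_in_normalizer
  have hmap : ∀ H : Subgroup L, H ≤ K → (H.subgroupOf K).map K.subtype = H := by
    intro H hH
    rw [Subgroup.map_subgroupOf_eq_of_le hH]
  have key : ∀ A B C : Subgroup L, A ≤ K → B ≤ K → C ≤ K → ⁅⁅A, B⁆, C⁆ ≤ N →
      ⁅⁅A.subgroupOf K, B.subgroupOf K⁆, C.subgroupOf K⁆ ≤ N.subgroupOf K := by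
    intro A B C hA hB hC h
    rw [← Subgroup.map_le_map_iff_of_injective K.subtype_injective,
      Subgroup.map_commutator, Subgroup.map_commutator, hmap A hA, hmap B hB, hmap C hC]
    have hNK : N ≤ K := Subgroup.le_normalizer
    rw [hmap N hNK]
    exact h
  have h3 := Cfsg.Agent.H2.commutator_commutator_le_of_rotate (key H₂ H₃ H₁ n2 n3 n1 h1)
    (key H₃ H₁ H₂ n3 n1 n2 h2)
  rw [← Subgroup.map_le_map_iff_of_injective K.subtype_injective,
    Subgroup.map_commutator, Subgroup.map_commutator, hmap H₁ n1, hmap H₂ n2, hmap H₃ n3,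
    hmap N Subgroup.le_normalizer] at h3
  exact h3

theorem le_normalizer_of_commutator_eq_bot {R X N : Subgroup L} (hNR : N ≤ R)
    (h : ⁅R, X⁆ = ⊥) : X ≤ Subgroup.normalizer (N : Set L) := by
  rw [le_normalizer_iff_commutator_le]
  have h1 : ⁅X, N⁆ ≤ ⁅R, X⁆ := by
    rw [Subgroup.commutator_comm X N]
    exact Subgroup.commutator_mono hNR le_rfl
  rw [h] at h1
  exact h1.trans bot_le

variable (g : L) (Y M M₀ R : Subgroup L) [hYn : Y.Normal] [hMn : M.Normal] [hM0n : M₀.Normal]
  [hRn : R.Normal]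

/-- the Engel degree of a pairing -/
theorem engel_pairing (hMY : ⁅M, Y⁆ ≤ R) (hM0Y : ⁅M₀, Y⁆ = ⊥) (hRY : ⁅R, Y⁆ = ⊥) (hRM : ⁅R, M⁆ = ⊥)
    (i j : ℕ) (hi : 1 ≤ i)
    (hMi : Cfsg.iterCommutator M (Subgroup.zpowers g) i ≤ M₀)
    (hRj : Cfsg.iterCommutator R (Subgroup.zpowers g) j = ⊥) :
    ⁅M, Cfsg.iterCommutator Y (Subgroup.zpowers g) (i + j - 1)⁆ = ⊥ := by
  set Γ := Subgroup.zpowers g with hΓ
  have hMt : ∀ t, i ≤ t → Cfsg.iterCommutator M Γ t ≤ M₀ := fun t ht => iter_le_of_le ht hMi
  have hYk : ∀ k, Cfsg.iterCommutator Y Γ k ≤ Y := iter_le Y Γ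
  have hMk : ∀ k, Cfsg.iterCommutator M Γ k ≤ M := iter_le M Γ
  have hRk : ∀ k, Cfsg.iterCommutator R Γ k ≤ R := iter_le R Γ
  have hΓR : ∀ e, Γ ≤ Subgroup.normalizer ((Cfsg.iterCommutator R Γ e : Subgroup L) : Set L) :=
    fun e => le_normalizer_iter R Γ (by rw [Subgroup.normalizer_eq_top]; exact le_top) e
  have hbig : ∀ t k, i ≤ t → ⁅Cfsg.iterCommutator M Γ t, Cfsg.iterCommutator Y Γ k⁆ = ⊥ := by
    intro t k ht
    have := Subgroup.commutator_mono (hMt t ht) (hYk k)
    rw [hM0Y] at this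
    exact le_bot_iff.mp this
  have key : ∀ k t e, i - 1 + e ≤ k + t →
      ⁅Cfsg.iterCommutator M Γ t, Cfsg.iterCommutator Y Γ k⁆ ≤ Cfsg.iterCommutator R Γ e := by
    intro k
    induction k with
    | zero =>
      intro t e h
      rcases Nat.eq_zero_or_pos e with he | he
      · subst he
        exact (Subgroup.commutator_mono (hMk t) (hYk 0)).trans hMY
      · rw [hbig t 0 (by omega)]; exact bot_le
    | succ k ih =>
      intro t e h
      rcases Nat.eq_zero_or_pos e with he | he
      · subst he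
        exact (Subgroup.commutator_mono (hMk t) (hYk (k + 1))).trans hMY
      · obtain ⟨e', rfl⟩ : ∃ e', e = e' + 1 := ⟨e - 1, by omega⟩
        have hA := ih t e' (by omega)
        have hB := ih (t + 1) (e' + 1) (by omega)
        set N := Cfsg.iterCommutator R Γ (e' + 1) with hN
        have hNR : N ≤ R := hRk (e' + 1)
        have n1 : Cfsg.iterCommutator Y Γ k ≤ Subgroup.normalizer (N : Set L) :=
          (hYk k).trans (le_normalizer_of_commutator_eq_bot hNR hRY)
        have n3 : Cfsg.iterCommutator M Γ t ≤ Subgroup.normalizer (N : Set L) :=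
          (hMk t).trans (le_normalizer_of_commutator_eq_bot hNR hRM)
        have n2 : Γ ≤ Subgroup.normalizer (N : Set L) := hΓR (e' + 1)
        have h1 : ⁅⁅Γ, Cfsg.iterCommutator M Γ t⁆, Cfsg.iterCommutator Y Γ k⁆ ≤ N := by
          rw [Subgroup.commutator_comm Γ]
          exact hB
        have h2 : ⁅⁅Cfsg.iterCommutator M Γ t, Cfsg.iterCommutator Y Γ k⁆, Γ⁆ ≤ N :=
          Subgroup.commutator_mono hA le_rfl
        have h3 := rotate_le_of_le_normalizer n1 n2 n3 h1 h2
        rw [iter_succ, Subgroup.commutator_comm]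
        exact h3
  have := key (i + j - 1) 0 j (by omega)
  rw [hRj] at this
  exact le_bot_iff.mp this

end iter

end Cfsg.Agent.Lib.Lead.KInf
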