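import Mathlib

/-!
# The action of `G` on a section `M / K` (`K ≤ M` normal in `G`) by conjugation

* `quotAut M K : G →* MulAut (↥M ⧸ K.subgroupOf M)`;
* `quotAut_mk` : `quotAut M K g (mk x) = mk (g x g⁻¹)`;
* `trivOnFrattini P` : the subgroup of `MulAut P` of the automorphisms inducing the identity on `P / Φ(P)`; it is normal.
-/

set_option autoImplicit false
set_option linter.style.haveILetI false

namespace Cfsg.Agent.Lib.Lead.QuotAut

variable {G : Type*} [Group G]

theorem map_conjNormal_le (M K : Subgroup G) [hM : M.Normal] [hK : K.Normal] (g : G) :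
    (K.subgroupOf M).map ((MulAut.conjNormal g : MulAut ↥M) : ↥M →* ↥M) ≤ K.subgroupOf M := by
  rintro _ ⟨y, hy, rfl⟩
  have hy' : (y : G) ∈ K := Subgroup.mem_subgroupOf.1 hy
  apply Subgroup.mem_subgroupOf.2
  show ((MulAut.conjNormal g y : ↥M) : G) ∈ K
  rw [MulAut.conjNormal_apply]
  exact hK.conj_mem _ hy' g

theorem map_conjNormal_eq (M K : Subgroup G) [hM : M.Normal] [hK : K.Normal] (g : G) :
    (K.subgroupOf M).map ((MulAut.conjNormal g : MulAut ↥M) : ↥M →* ↥M) = K.subgroupOf M := by
  apply le_antisymm (map_conjNormal_le M K g)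
  intro x hx
  refine ⟨(MulAut.conjNormal g⁻¹ : MulAut ↥M) x, ?_, ?_⟩
  · apply map_conjNormal_le M K g⁻¹
    exact ⟨x, hx, rfl⟩
  · show (MulAut.conjNormal g : MulAut ↥M) ((MulAut.conjNormal g⁻¹ : MulAut ↥M) x) = x
    rw [← MulAut.mul_apply, ← map_mul, mul_inv_cancel, map_one, MulAut.one_apply]

/-- the conjugation action of `G` on `M / K` -/
noncomputable def quotAut (M K : Subgroup G) [hM : M.Normal] [hK : K.Normal] :
    G →* MulAut (↥M ⧸ K.subgroupOf M) where
  toFun g := QuotientGroup.congr (K.subgroupOf M) (K.subgroupOf M) (MulAut.conjNormal g)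
    (map_conjNormal_eq M K g)
  map_one' := by
    ext x
    induction x using QuotientGroup.induction_on with
    | H x =>
      rw [QuotientGroup.congr_mk, map_one, MulAut.one_apply, MulAut.one_apply]
  map_mul' := fun g h => by
    ext x
    induction x using QuotientGroup.induction_on with
    | H x =>
      rw [MulAut.mul_apply, QuotientGroup.congr_mk, QuotientGroup.congr_mk, QuotientGroup.congr_mk, map_mul,
        MulAut.mul_apply]

theorem quotAut_mk (M K : Subgroup G) [hM : M.Normal] [hK : K.Normal] (g : G) (x : ↥M) :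
    quotAut M K g (x : ↥M ⧸ K.subgroupOf M) =
      (((MulAut.conjNormal g : MulAut ↥M) x : ↥M) : ↥M ⧸ K.subgroupOf M) :=
  QuotientGroup.congr_mk _ _ _ (map_conjNormal_eq M K g) x

/-- the automorphisms acting trivially on the Frattini quotient -/
def trivOnFrattini (P : Type*) [Group P] : Subgroup (MulAut P) where
  carrier := {α | ∀ x : P, α x * x⁻¹ ∈ frattini P}
  one_mem' := fun x => by simp
  mul_mem' := by
    intro α β hα hβ x
    have e : (α * β) x * x⁻¹ = (α (β x) * (β x)⁻¹) * (β x * x⁻¹) := by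
      rw [MulAut.mul_apply]; group
    rw [e]
    exact mul_mem (hα (β x)) (hβ x)
  inv_mem' := by
    intro α hα x
    have h1 := hα (α⁻¹ x)
    rw [MulAut.apply_inv_self] at h1
    have := inv_mem h1
    have e : (x * (α⁻¹ x)⁻¹)⁻¹ = α⁻¹ x * x⁻¹ := by group
    rwa [e] at this

theorem mem_trivOnFrattini {P : Type*} [Group P] (α : MulAut P) :
    α ∈ trivOnFrattini P ↔ ∀ x : P, α x * x⁻¹ ∈ frattini P := Iff.rfl

instance trivOnFrattini_normal (P : Type*) [Group P] : (trivOnFrattini P).Normal := by
  constructor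
  intro α hα β x
  have h1 := hα (β⁻¹ x)
  have hchar : ∀ y ∈ frattini P, β y ∈ frattini P := by
    intro y hy
    have := (frattini_characteristic (G := P)).fixed β
    have h2 : y ∈ (frattini P).comap β.toMonoidHom := by rw [this]; exact hy
    exact h2
  have h2 := hchar _ h1
  have e : β (α (β⁻¹ x) * (β⁻¹ x)⁻¹) = (β * α * β⁻¹) x * x⁻¹ := by
    rw [map_mul, map_inv, MulAut.apply_inv_self, MulAut.mul_apply, MulAut.mul_apply]
  rwa [e] at h2

end Cfsg.Agent.Lib.Lead.QuotAut
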