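import Cfsg.Agent.S2880

/-!
# Extraspecial 2-groups: classification by order and number of involutions

Elementary set-up: `ES z` says that `z` is a central involution of `E`, all squares and all
commutators lie in `{1, z}`, and the centre of `E` is `{1, z}`.
-/

set_option autoImplicit false
open Cfsg
open scoped commutatorElement

namespace Cfsg.Agent.Lead.ES2

open Cfsg.Agent.S2880 (Ctx kmul half dcount sum_two)

universe u v

section basic

variable {E : Type u} [Group E]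

/-- Elementary description of an extraspecial 2-group with centre `{1, z}` (the group of
order two is allowed). -/
structure ES (z : E) : Prop where
  ctx : Ctx z
  cent : ∀ w : E, (∀ x : E, x * w = w * x) → w = 1 ∨ w = z

/-- number of solutions of `e * e = 1` -/
noncomputable abbrev NN (E : Type*) [Group E] : ℕ := Nat.card {e : E // e * e = 1}

variable {z : E}

theorem z_inv (C : Ctx z) : z⁻¹ = z := inv_eq_of_mul_eq_one_right C.sq

theorem one_ne_z (C : Ctx z) : (1 : E) ≠ z := fun h => C.ne h.symm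

theorem cval_inv (C : Ctx z) (a b : E) : (⁅a, b⁆)⁻¹ = ⁅a, b⁆ := by
  rcases C.comm a b with h | h <;> rw [h]
  · simp
  · exact z_inv C

theorem csymm (C : Ctx z) (a b : E) : ⁅a, b⁆ = ⁅b, a⁆ := by
  rw [← commutatorElement_inv, cval_inv C]

theorem kmul' (C : Ctx z) (g g' y : E) : ⁅g * g', y⁆ = ⁅g, y⁆ * ⁅g', y⁆ := by
  rw [csymm C (g * g') y, kmul C, csymm C y g, csymm C y g']

theorem ccen (C : Ctx z) (a b g : E) : ⁅a, b⁆ * g = g * ⁅a, b⁆ := by
  rcases C.comm a b with h | h <;> rw [h]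
  · simp
  · exact (C.cen g).symm

theorem cinv_left (C : Ctx z) (a b : E) : ⁅a⁻¹, b⁆ = ⁅a, b⁆ := by
  have h := kmul' C a a⁻¹ b
  rw [mul_inv_cancel, commutatorElement_one_left] at h
  rw [← cval_inv C a b]
  exact (inv_eq_of_mul_eq_one_right h.symm).symm

theorem swap_mul (a b : E) : b * a = ⁅b, a⁆ * (a * b) := by
  simp [commutatorElement_def]

theorem sq_mul (C : Ctx z) (a b : E) : (a * b) * (a * b) = a * a * (b * b) * ⁅a, b⁆ := by
  have h1 : b * a = ⁅a, b⁆ * (a * b) := by rw [csymm C a b]; exact swap_mul a b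
  have h2 := ccen C a b
  calc a * b * (a * b) = a * (b * a) * b := by simp only [mul_assoc]
    _ = a * (⁅a, b⁆ * (a * b)) * b := by rw [h1]
    _ = a * a * (b * b) * ⁅a, b⁆ := by
        rw [← mul_assoc a, ← h2 a, ← h2 (a * a * (b * b))]; simp only [mul_assoc]

theorem sq_comm_mul {a c : E} (h : a * c = c * a) : (a * c) * (a * c) = a * a * (c * c) := by
  calc a * c * (a * c) = a * (c * a) * c := by simp only [mul_assoc]
    _ = a * (a * c) * c := by rw [h]
    _ = a * a * (c * c) := by simp only [mul_assoc]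

theorem sq_inv (C : Ctx z) (a : E) : (a * a)⁻¹ = a * a := by
  rcases C.sqr a with h | h <;> rw [h]
  · simp
  · exact z_inv C

theorem orderOf_z (C : Ctx z) : orderOf z = 2 :=
  orderOf_eq_prime (by rw [pow_two]; exact C.sq) C.ne

theorem z_zpow_eq_one (C : Ctx z) (a : ℤ) (h : z ^ a = 1) : ∃ k : ℤ, a = 2 * k := by
  have := (orderOf_dvd_iff_zpow_eq_one (x := z) (i := a)).mpr h
  rw [orderOf_z C] at this
  exact this

/-- `g ↦ ⁅g, y⁆` as a homomorphism -/
def chom (C : Ctx z) (y : E) : E →* E := MonoidHom.mk' (fun g => ⁅g, y⁆) (fun g g' => kmul' C g g' y)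

theorem czpow (C : Ctx z) (x y : E) (a : ℤ) : ⁅x ^ a, y⁆ = ⁅x, y⁆ ^ a :=
  map_zpow (chom C y) x a

end basic


section pair

variable {E : Type u} [Group E] {z x y : E}

theorem memC {x y c : E} : c ∈ Subgroup.centralizer ({x, y} : Set E) ↔ ⁅c, x⁆ = 1 ∧ ⁅c, y⁆ = 1 := by
  simp only [Subgroup.mem_centralizer_iff, Set.mem_insert_iff, Set.mem_singleton_iff,
    forall_eq_or_imp, forall_eq, commutatorElement_eq_one_iff_mul_comm]
  constructor <;> rintro ⟨h1, h2⟩ <;> exact ⟨h1.symm, h2.symm⟩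

theorem memC_comm {x y c : E} (hc : c ∈ Subgroup.centralizer ({x, y} : Set E)) :
    x * c = c * x ∧ y * c = c * y := by
  rw [memC] at hc
  exact ⟨(commutatorElement_eq_one_iff_mul_comm.mp hc.1).symm,
    (commutatorElement_eq_one_iff_mul_comm.mp hc.2).symm⟩

theorem z_memC (C : Ctx z) : z ∈ Subgroup.centralizer ({x, y} : Set E) := by
  rw [memC]
  constructor <;> rw [commutatorElement_eq_one_iff_mul_comm] <;> exact (C.cen _).symm

/-- Every element is `c`, `x c`, `y c` or `x y c` with `c` centralising `x` and `y`. -/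
theorem decomp (C : Ctx z) (hxy : ⁅x, y⁆ = z) (e : E) :
    ∃ c ∈ Subgroup.centralizer ({x, y} : Set E), e = c ∨ e = x * c ∨ e = y * c ∨ e = x * (y * c) := by
  have hyx : ⁅y, x⁆ = z := by rw [csymm C]; exact hxy
  rcases C.comm e y with h1 | h1 <;> rcases C.comm e x with h2 | h2
  · exact ⟨e, memC.mpr ⟨h2, h1⟩, Or.inl rfl⟩
  · refine ⟨y⁻¹ * e, memC.mpr ⟨?_, ?_⟩, Or.inr (Or.inr (Or.inl (by group)))⟩
    · rw [kmul' C, cinv_left C, hyx, h2, C.sq]
    · rw [kmul' C, cinv_left C, commutatorElement_self, h1, one_mul]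
  · refine ⟨x⁻¹ * e, memC.mpr ⟨?_, ?_⟩, Or.inr (Or.inl (by group))⟩
    · rw [kmul' C, cinv_left C, commutatorElement_self, h2, one_mul]
    · rw [kmul' C, cinv_left C, hxy, h1, C.sq]
  · refine ⟨y⁻¹ * (x⁻¹ * e), memC.mpr ⟨?_, ?_⟩, Or.inr (Or.inr (Or.inr (by group)))⟩
    · rw [kmul' C, kmul' C, cinv_left C, cinv_left C, commutatorElement_self, hyx, h2, one_mul, C.sq]
    · rw [kmul' C, kmul' C, cinv_left C, cinv_left C, commutatorElement_self, hxy, h1, one_mul, C.sq]

theorem ctx_sub (C : Ctx z) (H : Subgroup E) (hz : z ∈ H) : Ctx (⟨z, hz⟩ : H) := by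
  refine ⟨fun h => C.ne (by simpa using congrArg Subtype.val h), Subtype.ext C.sq,
    fun a => Subtype.ext (C.cen a), fun a b => ?_, fun a => ?_⟩
  · rcases C.comm a b with h | h
    · left; apply Subtype.ext; simpa [commutatorElement_def] using h
    · right; apply Subtype.ext; simpa [commutatorElement_def] using h
  · rcases C.sqr a with h | h
    · left; exact Subtype.ext h
    · right; exact Subtype.ext h

theorem es_sub (hes : ES z) (hxy : ⁅x, y⁆ = z) :
    ES (⟨z, z_memC hes.ctx⟩ : Subgroup.centralizer ({x, y} : Set E)) := by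
  refine ⟨ctx_sub hes.ctx _ _, ?_⟩
  intro w hw
  have hwc := memC_comm w.2
  have hcen : ∀ e : E, e * (w : E) = w * e := by
    intro e
    obtain ⟨c, hc, he⟩ := decomp hes.ctx hxy e
    have h1 : c * (w : E) = w * c := by
      have := hw ⟨c, hc⟩
      simpa using congrArg Subtype.val this
    rcases he with rfl | rfl | rfl | rfl
    · exact h1
    · rw [mul_assoc, h1, ← mul_assoc, hwc.1, mul_assoc]
    · rw [mul_assoc, h1, ← mul_assoc, hwc.2, mul_assoc]
    · rw [mul_assoc, mul_assoc, h1, ← mul_assoc y, hwc.2, mul_assoc, ← mul_assoc x, hwc.1,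
        mul_assoc]
  rcases hes.cent w hcen with h | h
  · left; exact Subtype.ext h
  · right; exact Subtype.ext h

theorem card_split {α : Type*} [Finite α] (P Q : α → Prop) :
    Nat.card {a // P a} = Nat.card {a // Q a ∧ P a} + Nat.card {a // ¬ Q a ∧ P a} := by
  classical
  haveI := Fintype.ofFinite α
  rw [Nat.card_eq_fintype_card, Nat.card_eq_fintype_card, Nat.card_eq_fintype_card,
    Fintype.card_subtype, Fintype.card_subtype, Fintype.card_subtype,
    ← Finset.card_union_of_disjoint]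
  · congr 1
    ext a
    by_cases h : Q a <;> simp [h]
  · rw [Finset.disjoint_filter]
    intro a _ h1 h2
    exact h2.1 h1.1

theorem idx2 [Finite E] (C : Ctx z) (g w : E) (hw : ⁅w, g⁆ = z) (P : E → Prop) :
    Nat.card {e // P e} =
      Nat.card {e // ⁅e, g⁆ = 1 ∧ P e} + Nat.card {e // ⁅e, g⁆ = 1 ∧ P (w * e)} := by
  rw [card_split P (fun e => ⁅e, g⁆ = 1)]
  congr 1
  apply Nat.card_congr
  symm
  refine (Equiv.mulLeft w).subtypeEquiv (fun e => ?_)
  simp only [Equiv.coe_mulLeft]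
  rw [kmul' C, hw]
  rcases C.comm e g with h | h <;> rw [h]
  · simp [C.ne]
  · simp [C.sq, C.ne]

/-- the four cosets of the centraliser of a hyperbolic pair -/
theorem four [Finite E] (C : Ctx z) (hxy : ⁅x, y⁆ = z) (P : E → Prop) :
    Nat.card {e // P e} =
      Nat.card {c // c ∈ Subgroup.centralizer ({x, y} : Set E) ∧ P c} +
      Nat.card {c // c ∈ Subgroup.centralizer ({x, y} : Set E) ∧ P (y * c)} +
      Nat.card {c // c ∈ Subgroup.centralizer ({x, y} : Set E) ∧ P (x * c)} +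
      Nat.card {c // c ∈ Subgroup.centralizer ({x, y} : Set E) ∧ P (x * (y * c))} := by
  have hyx : ⁅y, x⁆ = z := by rw [csymm C]; exact hxy
  have hyy : ∀ e : E, ⁅y * e, y⁆ = ⁅e, y⁆ := by
    intro e; rw [kmul' C, commutatorElement_self, one_mul]
  rw [idx2 C y x hxy P, idx2 C x y hyx (fun e => ⁅e, y⁆ = 1 ∧ P e),
    idx2 C x y hyx (fun e => ⁅e, y⁆ = 1 ∧ P (x * e))]
  simp only [hyy, memC, and_assoc]
  ring


/-- number of elements of the centraliser of the pair with a given square -/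
noncomputable abbrev nC (x y w : E) : ℕ :=
  Nat.card {c : E // c ∈ Subgroup.centralizer ({x, y} : Set E) ∧ c * c = w}

theorem card_E [Finite E] (C : Ctx z) (hxy : ⁅x, y⁆ = z) :
    Nat.card E = 4 * Nat.card (Subgroup.centralizer ({x, y} : Set E)) := by
  have h := four C hxy (fun _ => True)
  simp only [and_true] at h
  rw [Nat.card_congr (Equiv.subtypeUnivEquiv (fun _ => trivial))] at h
  rw [h]
  change _ = 4 * Nat.card {c // c ∈ Subgroup.centralizer ({x, y} : Set E)}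
  ring

theorem card_C [Finite E] (C : Ctx z) :
    Nat.card (Subgroup.centralizer ({x, y} : Set E)) = nC x y 1 + nC x y z := by
  change Nat.card {c // c ∈ Subgroup.centralizer ({x, y} : Set E)} = _
  rw [card_split (fun c => c ∈ Subgroup.centralizer ({x, y} : Set E)) (fun c => c * c = 1)]
  congr 1
  · exact Nat.card_congr (Equiv.subtypeEquivRight (fun c => and_comm))
  · apply Nat.card_congr
    refine Equiv.subtypeEquivRight (fun c => ?_)
    constructor
    · rintro ⟨h1, h2⟩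
      exact ⟨h2, (C.sqr c).resolve_left h1⟩
    · rintro ⟨h1, h2⟩
      exact ⟨fun h => C.ne (h2.symm.trans h), h1⟩

theorem NN_C : NN (Subgroup.centralizer ({x, y} : Set E)) = nC x y 1 := by
  apply Nat.card_congr
  refine (Equiv.subtypeEquivRight (fun c => ?_)).trans
    (Equiv.subtypeSubtypeEquivSubtypeInter (fun c => c ∈ Subgroup.centralizer ({x, y} : Set E))
      (fun c => c * c = 1))
  rw [Subtype.ext_iff]
  simp

theorem sq_one_iff (_C : Ctx z) {w c : E} (hwc : w * c = c * w) (hw : w * w = 1) :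
    (w * c) * (w * c) = 1 ↔ c * c = 1 := by
  rw [sq_comm_mul hwc, hw, one_mul]

theorem sq_z_iff (C : Ctx z) {w c : E} (hwc : w * c = c * w) (hw : w * w = z) :
    (w * c) * (w * c) = 1 ↔ c * c = z := by
  rw [sq_comm_mul hwc, hw, mul_eq_one_iff_eq_inv, sq_inv C]
  exact eq_comm

theorem xy_comm {c : E} (hc : c ∈ Subgroup.centralizer ({x, y} : Set E)) :
    (x * y) * c = c * (x * y) := by
  have h := memC_comm hc
  rw [mul_assoc, h.2, ← mul_assoc, h.1, mul_assoc]

theorem countD [Finite E] (C : Ctx z) (hxy : ⁅x, y⁆ = z) (hx : x * x = 1) (hy : y * y = 1) :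
    NN E = 3 * nC x y 1 + nC x y z := by
  have hxyz : (x * y) * (x * y) = z := by rw [sq_mul C, hx, hy, hxy]; simp
  have h := four C hxy (fun e => e * e = 1)
  have e1 : Nat.card {c // c ∈ Subgroup.centralizer ({x, y} : Set E) ∧ (y * c) * (y * c) = 1} =
      nC x y 1 :=
    Nat.card_congr (Equiv.subtypeEquivRight (fun c =>
      and_congr_right (fun hc => sq_one_iff C (memC_comm hc).2 hy)))
  have e2 : Nat.card {c // c ∈ Subgroup.centralizer ({x, y} : Set E) ∧ (x * c) * (x * c) = 1} =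
      nC x y 1 :=
    Nat.card_congr (Equiv.subtypeEquivRight (fun c =>
      and_congr_right (fun hc => sq_one_iff C (memC_comm hc).1 hx)))
  have e3 : Nat.card {c // c ∈ Subgroup.centralizer ({x, y} : Set E) ∧
      (x * (y * c)) * (x * (y * c)) = 1} = nC x y z :=
    Nat.card_congr (Equiv.subtypeEquivRight (fun c =>
      and_congr_right (fun hc => by
        rw [← mul_assoc x y c]; exact sq_z_iff C (xy_comm hc) hxyz)))
  rw [e1, e2, e3] at h
  rw [NN, h]; ring

theorem countQ [Finite E] (C : Ctx z) (hxy : ⁅x, y⁆ = z) (hx : x * x = z) (hy : y * y = z) :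
    NN E = nC x y 1 + 3 * nC x y z := by
  have hxyz : (x * y) * (x * y) = z := by rw [sq_mul C, hx, hy, hxy, C.sq, one_mul]
  have h := four C hxy (fun e => e * e = 1)
  have e1 : Nat.card {c // c ∈ Subgroup.centralizer ({x, y} : Set E) ∧ (y * c) * (y * c) = 1} =
      nC x y z :=
    Nat.card_congr (Equiv.subtypeEquivRight (fun c =>
      and_congr_right (fun hc => sq_z_iff C (memC_comm hc).2 hy)))
  have e2 : Nat.card {c // c ∈ Subgroup.centralizer ({x, y} : Set E) ∧ (x * c) * (x * c) = 1} =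
      nC x y z :=
    Nat.card_congr (Equiv.subtypeEquivRight (fun c =>
      and_congr_right (fun hc => sq_z_iff C (memC_comm hc).1 hx)))
  have e3 : Nat.card {c // c ∈ Subgroup.centralizer ({x, y} : Set E) ∧
      (x * (y * c)) * (x * (y * c)) = 1} = nC x y z :=
    Nat.card_congr (Equiv.subtypeEquivRight (fun c =>
      and_congr_right (fun hc => by
        rw [← mul_assoc x y c]; exact sq_z_iff C (xy_comm hc) hxyz)))
  rw [e1, e2, e3] at h
  rw [NN, h]; ring

end pair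


section choose

variable {E : Type u} [Group E] {z : E}

theorem abelian_case [Finite E] (hes : ES z) (hab : ∀ x y : E, ⁅x, y⁆ = 1) :
    (∀ e : E, e = 1 ∨ e = z) ∧ Nat.card E = 2 ∧ NN E = 2 := by
  have hall : ∀ e : E, e = 1 ∨ e = z := by
    intro e
    apply hes.cent
    intro x
    exact commutatorElement_eq_one_iff_mul_comm.mp (hab x e)
  have h2 : Nat.card E = 2 := by
    rw [Nat.card_eq_two_iff]
    refine ⟨1, z, one_ne_z hes.ctx, ?_⟩
    ext e
    simpa using hall e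
  refine ⟨hall, h2, ?_⟩
  rw [← h2]
  apply Nat.card_congr
  refine Equiv.subtypeUnivEquiv (fun e => ?_)
  rcases hall e with rfl | rfl
  · simp
  · exact hes.ctx.sq

theorem exists_pair (hes : ES z) (hna : ¬ ∀ x y : E, ⁅x, y⁆ = 1) : ∃ x y : E, ⁅x, y⁆ = z := by
  push_neg at hna
  obtain ⟨x, y, h⟩ := hna
  exact ⟨x, y, (hes.ctx.comm x y).resolve_left h⟩

theorem exists_pairD (hes : ES z) {x : E} (hx : x * x = 1) (hx1 : x ≠ 1) (hxz : x ≠ z) :
    ∃ y, ⁅x, y⁆ = z ∧ y * y = 1 := by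
  have C := hes.ctx
  have : ∃ y₀ : E, ⁅x, y₀⁆ ≠ 1 := by
    by_contra hcon
    push_neg at hcon
    rcases hes.cent x (fun y => (commutatorElement_eq_one_iff_mul_comm.mp (hcon y)).symm) with h | h
    · exact hx1 h
    · exact hxz h
  obtain ⟨y₀, hy₀⟩ := this
  have hz : ⁅x, y₀⁆ = z := (C.comm x y₀).resolve_left hy₀
  rcases C.sqr y₀ with h | h
  · exact ⟨y₀, hz, h⟩
  · refine ⟨x * y₀, ?_, ?_⟩
    · rw [kmul C, commutatorElement_self, one_mul, hz]
    · rw [sq_mul C, hx, h, hz, one_mul, C.sq]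

theorem pairQ (hes : ES z) (hno : ∀ x : E, x * x = 1 → x = 1 ∨ x = z) {x y : E}
    (hxy : ⁅x, y⁆ = z) : x * x = z ∧ y * y = z := by
  have C := hes.ctx
  have hzc : ∀ g : E, ⁅z, g⁆ = 1 := fun g =>
    commutatorElement_eq_one_iff_mul_comm.mpr (C.cen g).symm
  constructor
  · refine (C.sqr x).resolve_left (fun h => ?_)
    rcases hno x h with rfl | rfl
    · rw [commutatorElement_one_left] at hxy; exact C.ne hxy.symm
    · rw [hzc] at hxy; exact C.ne hxy.symm
  · refine (C.sqr y).resolve_left (fun h => ?_)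
    rcases hno y h with rfl | rfl
    · rw [commutatorElement_one_right] at hxy; exact C.ne hxy.symm
    · rw [csymm C, hzc] at hxy; exact C.ne hxy.symm

theorem NN_two (hes : ES z) (hno : ∀ x : E, x * x = 1 → x = 1 ∨ x = z) : NN E = 2 := by
  rw [NN, Nat.card_eq_two_iff]
  refine ⟨⟨1, by simp⟩, ⟨z, hes.ctx.sq⟩, fun h => hes.ctx.ne (congrArg Subtype.val h).symm, ?_⟩
  ext ⟨e, he⟩
  simp only [Set.mem_insert_iff, Set.mem_singleton_iff, Set.mem_univ, iff_true, Subtype.mk.injEq]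
  exact hno e he

theorem NN_gt_two [Finite E] (hes : ES z) {x : E} (hx : x * x = 1) (hx1 : x ≠ 1) (hxz : x ≠ z) :
    2 < NN E := by
  haveI := Fintype.ofFinite {e : E // e * e = 1}
  rw [NN, Nat.card_eq_fintype_card, Fintype.two_lt_card_iff]
  refine ⟨⟨1, by simp⟩, ⟨z, hes.ctx.sq⟩, ⟨x, hx⟩, ?_, ?_, ?_⟩
  · exact fun h => hes.ctx.ne (congrArg Subtype.val h).symm
  · exact fun h => hx1 (congrArg Subtype.val h).symm
  · exact fun h => hxz (congrArg Subtype.val h).symm

end choose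

section nf

variable {E : Type u} [Group E] {z x y : E}

theorem zc1 (C : Ctx z) (hxy : ⁅x, y⁆ = z) (a : ℤ) : y * x ^ a = x ^ a * y * z ^ a := by
  have hyx : ⁅y, x⁆ = z := by rw [csymm C]; exact hxy
  have h1 : y * x * y⁻¹ = x * z := by
    have : ⁅y, x⁆ * x = y * x * y⁻¹ := by simp [commutatorElement_def]
    rw [← this, hyx, C.cen x]
  have hxz : Commute x z := C.cen x
  have h2 : y * x ^ a * y⁻¹ = x ^ a * z ^ a := by
    rw [← conj_zpow, h1, hxz.mul_zpow]
  have hz : Commute (z ^ a) y := Commute.zpow_left (C.cen y).symm a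
  calc y * x ^ a = (y * x ^ a * y⁻¹) * y := by group
    _ = x ^ a * z ^ a * y := by rw [h2]
    _ = x ^ a * y * z ^ a := by rw [mul_assoc, hz.eq, ← mul_assoc]

theorem zc2 (C : Ctx z) (hxy : ⁅x, y⁆ = z) (a b : ℤ) :
    y ^ b * x ^ a = x ^ a * y ^ b * z ^ (a * b) := by
  obtain ⟨X, hX⟩ : ∃ X, X = x ^ a := ⟨_, rfl⟩
  rw [← hX]
  have h1 : X⁻¹ * y * X = y * z ^ a := by
    rw [mul_assoc, hX, zc1 C hxy a]; group
  have hyz : Commute y (z ^ a) := Commute.zpow_right (C.cen y) a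
  have h2 : X⁻¹ * y ^ b * X = y ^ b * z ^ (a * b) := by
    have := conj_zpow (a := X⁻¹) (b := y) (i := b)
    rw [inv_inv] at this
    rw [← this, h1, hyz.mul_zpow, ← zpow_mul]
  calc y ^ b * X = X * (X⁻¹ * y ^ b * X) := by group
    _ = X * (y ^ b * z ^ (a * b)) := by rw [h2]
    _ = X * y ^ b * z ^ (a * b) := (mul_assoc _ _ _).symm

theorem prodNF (C : Ctx z) (hxy : ⁅x, y⁆ = z) (a b a' b' : ℤ) (c c' : E)
    (hc : c ∈ Subgroup.centralizer ({x, y} : Set E)) :
    (x ^ a * y ^ b * c) * (x ^ a' * y ^ b' * c') =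
      x ^ (a + a') * y ^ (b + b') * (z ^ (a' * b) * c * c') := by
  have hcc := memC_comm hc
  have hcx : Commute c x := hcc.1.symm
  have hcy : Commute c y := hcc.2.symm
  have hcomm : c * (x ^ a' * y ^ b') = (x ^ a' * y ^ b') * c :=
    ((hcx.zpow_right a').mul_right (hcy.zpow_right b')).eq
  have hZ : z ^ (a' * b) * y ^ b' = y ^ b' * z ^ (a' * b) :=
    (Commute.zpow_zpow (C.cen y).symm _ _).eq
  calc (x ^ a * y ^ b * c) * (x ^ a' * y ^ b' * c')
      = x ^ a * y ^ b * (c * (x ^ a' * y ^ b')) * c' := by simp only [mul_assoc]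
    _ = x ^ a * y ^ b * ((x ^ a' * y ^ b') * c) * c' := by rw [hcomm]
    _ = x ^ a * (y ^ b * x ^ a') * y ^ b' * c * c' := by simp only [mul_assoc]
    _ = x ^ a * (x ^ a' * y ^ b * z ^ (a' * b)) * y ^ b' * c * c' := by rw [zc2 C hxy a' b]
    _ = x ^ a * x ^ a' * y ^ b * (z ^ (a' * b) * y ^ b') * c * c' := by simp only [mul_assoc]
    _ = x ^ a * x ^ a' * y ^ b * (y ^ b' * z ^ (a' * b)) * c * c' := by rw [hZ]
    _ = (x ^ a * x ^ a') * (y ^ b * y ^ b') * (z ^ (a' * b) * c * c') := by simp only [mul_assoc]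
    _ = _ := by rw [← zpow_add, ← zpow_add]

theorem invNF (C : Ctx z) (hxy : ⁅x, y⁆ = z) (a b : ℤ) (c : E)
    (hc : c ∈ Subgroup.centralizer ({x, y} : Set E)) :
    (x ^ a * y ^ b * c)⁻¹ = x ^ (-a) * y ^ (-b) * (z ^ (a * b) * c⁻¹) := by
  apply inv_eq_of_mul_eq_one_right
  rw [prodNF C hxy a b (-a) (-b) c _ hc]
  have hZc : Commute c (z ^ (a * b)) := Commute.zpow_right (C.cen c) _
  rw [add_neg_cancel, add_neg_cancel, zpow_zero, zpow_zero, one_mul, one_mul, mul_assoc,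
    ← mul_assoc c, hZc.eq, mul_assoc, mul_inv_cancel, mul_one, ← zpow_add]
  rw [show -a * b + a * b = 0 by ring, zpow_zero]

/-- uniqueness of the normal form -/
theorem NF1 (C : Ctx z) (hxy : ⁅x, y⁆ = z) (a b : ℤ) (c : E)
    (hc : c ∈ Subgroup.centralizer ({x, y} : Set E)) (h : x ^ a * y ^ b * c = 1) :
    ∃ k l : ℤ, a = 2 * k ∧ b = 2 * l ∧ c = ((y * y) ^ l)⁻¹ * ((x * x) ^ k)⁻¹ := by
  have hyx : ⁅y, x⁆ = z := by rw [csymm C]; exact hxy
  have hc' := memC.mp hc
  have h1 : z ^ a = 1 := by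
    have := congrArg (fun g => ⁅g, y⁆) h
    simp only [commutatorElement_one_left] at this
    rw [kmul' C, kmul' C, czpow C, czpow C, hxy, commutatorElement_self, one_zpow, hc'.2, mul_one,
      mul_one] at this
    exact this
  have h2 : z ^ b = 1 := by
    have := congrArg (fun g => ⁅g, x⁆) h
    simp only [commutatorElement_one_left] at this
    rw [kmul' C, kmul' C, czpow C, czpow C, hyx, commutatorElement_self, one_zpow, hc'.1, mul_one,
      one_mul] at this
    exact this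
  obtain ⟨k, hk⟩ := z_zpow_eq_one C a h1
  obtain ⟨l, hl⟩ := z_zpow_eq_one C b h2
  refine ⟨k, l, hk, hl, ?_⟩
  have h3 : c = (x ^ a * y ^ b)⁻¹ := eq_inv_of_mul_eq_one_right h
  rw [h3, mul_inv_rev, hk, hl, zpow_mul, zpow_mul, zpow_two, zpow_two]

end nf


section glue

/-- Gluing: an isomorphism between the centralisers of two matching hyperbolic pairs extends. -/
theorem glue {E : Type u} {E' : Type v} [Group E] [Group E'] {z x y : E} {z' x' y' : E'}
    (C : Ctx z) (C' : Ctx z') (hxy : ⁅x, y⁆ = z) (hxy' : ⁅x', y'⁆ = z')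
    (hx : (x * x = 1 ∧ x' * x' = 1) ∨ (x * x = z ∧ x' * x' = z'))
    (hy : (y * y = 1 ∧ y' * y' = 1) ∨ (y * y = z ∧ y' * y' = z'))
    (φ : Subgroup.centralizer ({x, y} : Set E) ≃* Subgroup.centralizer ({x', y'} : Set E'))
    (hφ : (φ ⟨z, z_memC C⟩ : E') = z') : ∃ ψ : E ≃* E', ψ z = z' := by
  have hxC : x * x ∈ Subgroup.centralizer ({x, y} : Set E) := by
    rcases hx with h | h <;> rw [h.1]
    · exact one_mem _
    · exact z_memC C
  have hyC : y * y ∈ Subgroup.centralizer ({x, y} : Set E) := by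
    rcases hy with h | h <;> rw [h.1]
    · exact one_mem _
    · exact z_memC C
  have hφx : (φ ⟨x * x, hxC⟩ : E') = x' * x' := by
    rcases hx with h | h
    · have : (⟨x * x, hxC⟩ : Subgroup.centralizer ({x, y} : Set E)) = 1 := Subtype.ext h.1
      rw [this, map_one, h.2]; rfl
    · have : (⟨x * x, hxC⟩ : Subgroup.centralizer ({x, y} : Set E)) = ⟨z, z_memC C⟩ :=
        Subtype.ext h.1
      rw [this, hφ, h.2]
  have hφy : (φ ⟨y * y, hyC⟩ : E') = y' * y' := by
    rcases hy with h | h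
    · have : (⟨y * y, hyC⟩ : Subgroup.centralizer ({x, y} : Set E)) = 1 := Subtype.ext h.1
      rw [this, map_one, h.2]; rfl
    · have : (⟨y * y, hyC⟩ : Subgroup.centralizer ({x, y} : Set E)) = ⟨z, z_memC C⟩ :=
        Subtype.ext h.1
      rw [this, hφ, h.2]
  -- the graph
  obtain ⟨Γ, hΓ⟩ : ∃ Γ : Subgroup (E × E'), ∀ p, p ∈ Γ ↔
      ∃ (a b : ℤ) (c : Subgroup.centralizer ({x, y} : Set E)),
        p = (x ^ a * y ^ b * (c : E), x' ^ a * y' ^ b * (φ c : E')) := by
    refine ⟨{ carrier := {p | ∃ (a b : ℤ) (c : Subgroup.centralizer ({x, y} : Set E)),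
                p = (x ^ a * y ^ b * (c : E), x' ^ a * y' ^ b * (φ c : E'))}
              mul_mem' := ?_, one_mem' := ?_, inv_mem' := ?_ }, fun p => Iff.rfl⟩
    · rintro _ _ ⟨a, b, c, rfl⟩ ⟨a', b', c', rfl⟩
      refine ⟨a + a', b + b', ⟨z, z_memC C⟩ ^ (a' * b) * c * c', ?_⟩
      rw [Prod.mk_mul_mk, prodNF C hxy a b a' b' c c' c.2,
        prodNF C' hxy' a b a' b' (φ c) (φ c') (φ c).2]
      simp only [map_mul, map_zpow, Subgroup.coe_mul, Subgroup.coe_zpow, hφ]
    · exact ⟨0, 0, 1, by simp [Prod.ext_iff]⟩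
    · rintro _ ⟨a, b, c, rfl⟩
      refine ⟨-a, -b, ⟨z, z_memC C⟩ ^ (a * b) * c⁻¹, ?_⟩
      rw [Prod.inv_mk, invNF C hxy a b c c.2, invNF C' hxy' a b (φ c) (φ c).2]
      simp only [map_mul, map_zpow, map_inv, Subgroup.coe_mul, Subgroup.coe_zpow,
        Subgroup.coe_inv, hφ]
  -- the two projections are injective
  have key : ∀ (k l : ℤ) (c : Subgroup.centralizer ({x, y} : Set E)),
      (c : E) = ((y * y) ^ l)⁻¹ * ((x * x) ^ k)⁻¹ ↔
      (φ c : E') = ((y' * y') ^ l)⁻¹ * ((x' * x') ^ k)⁻¹ := by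
    intro k l c
    have e1 : (c : E) = ((y * y) ^ l)⁻¹ * ((x * x) ^ k)⁻¹ ↔
        c = (⟨y * y, hyC⟩ ^ l)⁻¹ * (⟨x * x, hxC⟩ ^ k)⁻¹ := by
      rw [Subtype.ext_iff]; simp
    have e2 : (φ c : E') = ((y' * y') ^ l)⁻¹ * ((x' * x') ^ k)⁻¹ ↔
        φ c = φ ((⟨y * y, hyC⟩ ^ l)⁻¹ * (⟨x * x, hxC⟩ ^ k)⁻¹) := by
      rw [Subtype.ext_iff]; simp [hφx, hφy]
    rw [e1, e2, φ.injective.eq_iff]
  have h1 : ∀ p ∈ Γ, p.1 = 1 → p.2 = 1 := by
    intro p hp h
    obtain ⟨a, b, c, rfl⟩ := (hΓ p).mp hp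
    obtain ⟨k, l, rfl, rfl, hc⟩ := NF1 C hxy a b c c.2 h
    have := (key k l c).mp hc
    change x' ^ (2 * k) * y' ^ (2 * l) * (φ c : E') = 1
    rw [this, zpow_mul, zpow_mul, zpow_two, zpow_two]
    group
  have h2 : ∀ p ∈ Γ, p.2 = 1 → p.1 = 1 := by
    intro p hp h
    obtain ⟨a, b, c, rfl⟩ := (hΓ p).mp hp
    obtain ⟨k, l, rfl, rfl, hc⟩ := NF1 C' hxy' a b (φ c) (φ c).2 h
    have := (key k l c).mpr hc
    change x ^ (2 * k) * y ^ (2 * l) * (c : E) = 1
    rw [this, zpow_mul, zpow_mul, zpow_two, zpow_two]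
    group
  have h3 : ∀ e : E, ∃ p ∈ Γ, p.1 = e := by
    intro e
    obtain ⟨c, hc, he⟩ := decomp C hxy e
    rcases he with h | h | h | h
    · exact ⟨_, (hΓ _).mpr ⟨0, 0, ⟨c, hc⟩, rfl⟩, by simp [h]⟩
    · exact ⟨_, (hΓ _).mpr ⟨1, 0, ⟨c, hc⟩, rfl⟩, by simp [h]⟩
    · exact ⟨_, (hΓ _).mpr ⟨0, 1, ⟨c, hc⟩, rfl⟩, by simp [h]⟩
    · exact ⟨_, (hΓ _).mpr ⟨1, 1, ⟨c, hc⟩, rfl⟩, by simp [h, mul_assoc]⟩
  have h4 : ∀ e' : E', ∃ p ∈ Γ, p.2 = e' := by
    intro e'
    obtain ⟨c', hc', he⟩ := decomp C' hxy' e'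
    have hcc : (φ (φ.symm ⟨c', hc'⟩) : E') = c' := by rw [φ.apply_symm_apply]
    rcases he with h | h | h | h
    · exact ⟨_, (hΓ _).mpr ⟨0, 0, φ.symm ⟨c', hc'⟩, rfl⟩, by simp [h]⟩
    · exact ⟨_, (hΓ _).mpr ⟨1, 0, φ.symm ⟨c', hc'⟩, rfl⟩, by simp [h]⟩
    · exact ⟨_, (hΓ _).mpr ⟨0, 1, φ.symm ⟨c', hc'⟩, rfl⟩, by simp [h]⟩
    · exact ⟨_, (hΓ _).mpr ⟨1, 1, φ.symm ⟨c', hc'⟩, rfl⟩, by simp [h, mul_assoc]⟩
  -- assemble
  obtain ⟨π₁, hπ₁⟩ : ∃ π₁ : Γ →* E, ∀ p : Γ, π₁ p = (p : E × E').1 :=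
    ⟨(MonoidHom.fst E E').comp Γ.subtype, fun p => rfl⟩
  obtain ⟨π₂, hπ₂⟩ : ∃ π₂ : Γ →* E', ∀ p : Γ, π₂ p = (p : E × E').2 :=
    ⟨(MonoidHom.snd E E').comp Γ.subtype, fun p => rfl⟩
  have hb₁ : Function.Bijective π₁ := by
    constructor
    · rw [injective_iff_map_eq_one]
      intro p hp
      rw [hπ₁] at hp
      exact Subtype.ext (Prod.ext hp (h1 p p.2 hp))
    · intro e
      obtain ⟨p, hp, rfl⟩ := h3 e
      exact ⟨⟨p, hp⟩, hπ₁ _⟩
  have hb₂ : Function.Bijective π₂ := by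
    constructor
    · rw [injective_iff_map_eq_one]
      intro p hp
      rw [hπ₂] at hp
      exact Subtype.ext (Prod.ext (h2 p p.2 hp) hp)
    · intro e
      obtain ⟨p, hp, rfl⟩ := h4 e
      exact ⟨⟨p, hp⟩, hπ₂ _⟩
  refine ⟨(MulEquiv.ofBijective π₁ hb₁).symm.trans (MulEquiv.ofBijective π₂ hb₂), ?_⟩
  have hz : ((z, z') : E × E') ∈ Γ := (hΓ _).mpr ⟨0, 0, ⟨z, z_memC C⟩, by simp [hφ]⟩
  have e1 : (MulEquiv.ofBijective π₁ hb₁).symm z = ⟨(z, z'), hz⟩ := by
    rw [MulEquiv.symm_apply_eq]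
    exact (hπ₁ ⟨(z, z'), hz⟩).symm
  rw [MulEquiv.trans_apply, e1]
  exact hπ₂ _

end glue


section main

theorem pow_facts (k : ℕ) : 2 ^ (2 * (k + 1)) = 4 * 2 ^ (2 * k) ∧ 2 ^ (k + 1) = 2 * 2 ^ k ∧
    2 ^ (2 * k + 1) = 2 * 2 ^ (2 * k) ∧ 2 ^ (2 * (k + 1) + 1) = 8 * 2 ^ (2 * k) ∧
    2 ^ (2 * k) = 2 ^ k * 2 ^ k := by
  refine ⟨?_, ?_, ?_, ?_, ?_⟩
  · rw [show 2 * (k + 1) = 2 * k + 2 by ring, pow_add]; ring
  · rw [pow_succ]; ring
  · rw [pow_succ]; ring
  · rw [show 2 * (k + 1) + 1 = 2 * k + 3 by ring, pow_add]; ring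
  · rw [two_mul, pow_add]

/-- normalised hyperbolic pair -/
theorem exists_norm_pair {E : Type u} [Group E] {z : E} (hes : ES z)
    (hab : ¬ ∀ x y : E, ⁅x, y⁆ = 1) :
    (∃ x y : E, ⁅x, y⁆ = z ∧ x * x = 1 ∧ y * y = 1) ∨
    ((∀ x : E, x * x = 1 → x = 1 ∨ x = z) ∧ ∃ x y : E, ⁅x, y⁆ = z ∧ x * x = z ∧ y * y = z) := by
  by_cases hinv : ∃ x : E, x * x = 1 ∧ x ≠ 1 ∧ x ≠ z
  · obtain ⟨x, hx, hx1, hxz⟩ := hinv
    obtain ⟨y, hxy, hy⟩ := exists_pairD hes hx hx1 hxz
    exact Or.inl ⟨x, y, hxy, hx, hy⟩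
  · push_neg at hinv
    obtain ⟨x, y, hxy⟩ := exists_pair hes hab
    have hno : ∀ x : E, x * x = 1 → x = 1 ∨ x = z := by
      intro x hx
      by_cases h1 : x = 1
      · exact Or.inl h1
      · exact Or.inr (hinv x hx h1)
    exact Or.inr ⟨hno, x, y, hxy, (pairQ hes hno hxy).1, (pairQ hes hno hxy).2⟩

theorem T1 : ∀ n : ℕ, ∀ (E : Type u) [Group E] [Finite E] (z : E), ES z → Nat.card E = n →
    ∃ m : ℕ, n = 2 ^ (2 * m + 1) ∧
      (NN E = 2 ^ (2 * m) + 2 ^ m ∨ (1 ≤ m ∧ NN E + 2 ^ m = 2 ^ (2 * m))) := by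
  intro n
  induction n using Nat.strong_induction_on with
  | _ n ih =>
    intro E _ _ z hes hn
    by_cases hab : ∀ x y : E, ⁅x, y⁆ = 1
    · obtain ⟨-, h2, hN⟩ := abelian_case hes hab
      exact ⟨0, by rw [← hn, h2]; norm_num, Or.inl (by rw [hN]; norm_num)⟩
    · have C := hes.ctx
      have main : ∀ x y : E, ⁅x, y⁆ = z →
          (NN E = 3 * nC x y 1 + nC x y z ∨ NN E = nC x y 1 + 3 * nC x y z) →
          ∃ m : ℕ, n = 2 ^ (2 * m + 1) ∧
            (NN E = 2 ^ (2 * m) + 2 ^ m ∨ (1 ≤ m ∧ NN E + 2 ^ m = 2 ^ (2 * m))) := by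
        intro x y hxy hN
        have hcE := card_E C hxy
        have hcC := card_C (x := x) (y := y) C
        have hNC := NN_C (x := x) (y := y)
        have hpos : 0 < Nat.card (Subgroup.centralizer ({x, y} : Set E)) := Nat.card_pos
        obtain ⟨k, hk, hkN⟩ := ih (Nat.card (Subgroup.centralizer ({x, y} : Set E))) (by omega)
          _ _ (es_sub hes hxy) rfl
        obtain ⟨p1, p2, p3, p4, p5⟩ := pow_facts k
        rw [hNC] at hkN
        rw [p3] at hk
        refine ⟨k + 1, ?_, ?_⟩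
        · rw [← hn, hcE, hk, p4]; ring
        · rw [p1, p2]
          have hk0 : 0 < 2 ^ k := by positivity
          rcases hN with hN | hN <;> rcases hkN with h | ⟨hk1, h⟩
          · left; omega
          · right; exact ⟨by omega, by omega⟩
          · right; exact ⟨by omega, by omega⟩
          · left; omega
      rcases exists_norm_pair hes hab with ⟨x, y, hxy, hx, hy⟩ | ⟨-, x, y, hxy, hx, hy⟩
      · exact main x y hxy (Or.inl (countD C hxy hx hy))
      · exact main x y hxy (Or.inr (countQ C hxy hx hy))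

theorem T2 : ∀ n : ℕ, ∀ (E : Type u) [Group E] [Finite E] (z : E) (E' : Type v) [Group E']
    [Finite E'] (z' : E'), ES z → ES z' → Nat.card E = n → Nat.card E' = n → NN E = NN E' →
    ∃ ψ : E ≃* E', ψ z = z' := by
  intro n
  induction n using Nat.strong_induction_on with
  | _ n ih =>
    intro E _ _ z E' _ _ z' hes hes' hn hn' hNN
    have C := hes.ctx
    have C' := hes'.ctx
    by_cases hab : ∀ x y : E, ⁅x, y⁆ = 1
    · obtain ⟨hall, h2, -⟩ := abelian_case hes hab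
      have h2' : Nat.card E' = 2 := by rw [hn', ← hn, h2]
      haveI : Fact (Nat.Prime 2) := ⟨Nat.prime_two⟩
      obtain ⟨ψ⟩ : Nonempty (E ≃* E') := ⟨mulEquivOfPrimeCardEq (p := 2) h2 h2'⟩
      refine ⟨ψ, ?_⟩
      obtain ⟨w, hw1, hw⟩ := (Nat.card_eq_two_iff' (1 : E')).mp h2'
      have hz' : z' = w := hw z' C'.ne
      have : ψ z = w := hw _ (fun h => C.ne ((MulEquiv.map_eq_one_iff ψ).mp h))
      rw [this, hz']
    · have hab' : ¬ ∀ x y : E', ⁅x, y⁆ = 1 := by
        intro hab'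
        obtain ⟨-, h2', -⟩ := abelian_case hes' hab'
        obtain ⟨x, y, hxy⟩ := exists_pair hes hab
        have := card_E C hxy
        have hpos : 0 < Nat.card (Subgroup.centralizer ({x, y} : Set E)) := Nat.card_pos
        omega
      have main : ∀ (x y : E) (x' y' : E'), ⁅x, y⁆ = z → ⁅x', y'⁆ = z' →
          ((x * x = 1 ∧ x' * x' = 1) ∨ (x * x = z ∧ x' * x' = z')) →
          ((y * y = 1 ∧ y' * y' = 1) ∨ (y * y = z ∧ y' * y' = z')) →
          ((NN E = 3 * nC x y 1 + nC x y z ∧ NN E' = 3 * nC x' y' 1 + nC x' y' z') ∨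
           (NN E = nC x y 1 + 3 * nC x y z ∧ NN E' = nC x' y' 1 + 3 * nC x' y' z')) →
          ∃ ψ : E ≃* E', ψ z = z' := by
        intro x y x' y' hxy hxy' hx hy hN
        have hcE := card_E C hxy
        have hcE' := card_E C' hxy'
        have hcC := card_C (x := x) (y := y) C
        have hcC' := card_C (x := x') (y := y') C'
        have hpos : 0 < Nat.card (Subgroup.centralizer ({x, y} : Set E)) := Nat.card_pos
        obtain ⟨φ, hφ⟩ := ih (Nat.card (Subgroup.centralizer ({x, y} : Set E))) (by omega)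
          (Subgroup.centralizer ({x, y} : Set E)) ⟨z, z_memC C⟩
          (Subgroup.centralizer ({x', y'} : Set E')) ⟨z', z_memC C'⟩
          (es_sub hes hxy) (es_sub hes' hxy') rfl (by omega) (by
            rw [NN_C, NN_C]
            rcases hN with ⟨h1, h2⟩ | ⟨h1, h2⟩ <;> omega)
        exact glue C C' hxy hxy' hx hy φ (by rw [hφ])
      rcases exists_norm_pair hes hab with ⟨x, y, hxy, hx, hy⟩ | ⟨hno, x, y, hxy, hx, hy⟩
      · have hx1 : x ≠ 1 := by
          rintro rfl; rw [commutatorElement_one_left] at hxy; exact C.ne hxy.symm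
        have hxz : x ≠ z := by
          rintro rfl
          rw [commutatorElement_eq_one_iff_mul_comm.mpr (C.cen y).symm] at hxy
          exact C.ne hxy.symm
        have hgt := NN_gt_two hes hx hx1 hxz
        rcases exists_norm_pair hes' hab' with ⟨x', y', hxy', hx', hy'⟩ | ⟨hno', -⟩
        · exact main x y x' y' hxy hxy' (Or.inl ⟨hx, hx'⟩) (Or.inl ⟨hy, hy'⟩)
            (Or.inl ⟨countD C hxy hx hy, countD C' hxy' hx' hy'⟩)
        · have := NN_two hes' hno'
          omega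
      · have h2 := NN_two hes hno
        rcases exists_norm_pair hes' hab' with ⟨x', y', hxy', hx', hy'⟩ | ⟨-, x', y', hxy', hx', hy'⟩
        · have hx1 : x' ≠ 1 := by
            rintro rfl; rw [commutatorElement_one_left] at hxy'; exact C'.ne hxy'.symm
          have hxz : x' ≠ z' := by
            rintro rfl
            rw [commutatorElement_eq_one_iff_mul_comm.mpr (C'.cen y').symm] at hxy'
            exact C'.ne hxy'.symm
          have hgt := NN_gt_two hes' hx' hx1 hxz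
          omega
        · exact main x y x' y' hxy hxy' (Or.inr ⟨hx, hx'⟩) (Or.inr ⟨hy, hy'⟩)
            (Or.inr ⟨countQ C hxy hx hy, countQ C' hxy' hx' hy'⟩)

end main


section final

theorem es_of_extraspecial {E : Type u} [Group E] [Finite E] (hE : Cfsg.IsExtraspecial 2 E) :
    ∃ z : E, ES z ∧ ¬ ∀ x y : E, ⁅x, y⁆ = 1 := by
  obtain ⟨⟨hp, hfr, hcm⟩, hZ⟩ := hE
  obtain ⟨⟨z, hzc⟩, hz1, huniq⟩ := (Nat.card_eq_two_iff' (1 : Subgroup.center E)).mp hZ
  have hz1' : z ≠ 1 := fun h => hz1 (Subtype.ext h)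
  have hcen : ∀ w ∈ Subgroup.center E, w = 1 ∨ w = z := by
    intro w hw
    by_cases h : w = 1
    · exact Or.inl h
    · right
      have := huniq ⟨w, hw⟩ (fun h' => h (by simpa using congrArg Subtype.val h'))
      simpa using congrArg Subtype.val this
  have hsqr : ∀ x : E, x * x = 1 ∨ x * x = z := by
    intro x
    apply hcen
    rw [← hfr, ← pow_two]
    exact Cfsg.Agent.H1.pow_p_mem_frattini hp x
  have C : Ctx z := by
    refine ⟨hz1', ?_, fun x => Subgroup.mem_center_iff.mp hzc x, ?_, hsqr⟩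
    · rcases hsqr z with h | h
      · exact h
      · exfalso; apply hz1'
        have : z * z = z * 1 := by rw [h, mul_one]
        exact mul_left_cancel this
    · intro x y
      apply hcen
      rw [← hcm, commutator_def]
      exact Subgroup.commutator_mem_commutator (Subgroup.mem_top x) (Subgroup.mem_top y)
  refine ⟨z, ⟨C, fun w hw => hcen w (Subgroup.mem_center_iff.mpr hw)⟩, ?_⟩
  intro hab
  have hle : commutator E ≤ ⊥ := by
    rw [commutator_eq_closure, Subgroup.closure_le]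
    rintro g ⟨a, b, rfl⟩
    simp [hab a b]
  have hz : z ∈ commutator E := by rw [hcm]; exact hzc
  exact hz1' (Subgroup.mem_bot.mp (hle hz))

theorem type_of {E : Type u} [Group E] [Finite E] (hE : Cfsg.IsExtraspecial 2 E) :
    ∃ m : ℕ, 1 ≤ m ∧ Nat.card E = 2 ^ (2 * m + 1) ∧
      (NN E = 2 ^ (2 * m) + 2 ^ m ∨ NN E + 2 ^ m = 2 ^ (2 * m)) := by
  obtain ⟨z, hes, hna⟩ := es_of_extraspecial hE
  obtain ⟨m, hm, hN⟩ := T1 _ E z hes rfl
  refine ⟨m, ?_, hm, ?_⟩
  · by_contra h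
    have h0 : m = 0 := by omega
    subst h0
    obtain ⟨x, y, hxy⟩ := exists_pair hes hna
    have := card_E hes.ctx hxy
    have hpos : 0 < Nat.card (Subgroup.centralizer ({x, y} : Set E)) := Nat.card_pos
    norm_num at hm
    omega
  · rcases hN with h | ⟨-, h⟩
    · exact Or.inl h
    · exact Or.inr h

theorem iso_of_NN {E : Type u} {E' : Type v} [Group E] [Group E'] [Finite E] [Finite E']
    (h : Cfsg.IsExtraspecial 2 E) (h' : Cfsg.IsExtraspecial 2 E')
    (hc : Nat.card E = Nat.card E') (hN : NN E = NN E') : Nonempty (E ≃* E') := by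
  obtain ⟨z, hes, -⟩ := es_of_extraspecial h
  obtain ⟨z', hes', -⟩ := es_of_extraspecial h'
  obtain ⟨ψ, -⟩ := T2 _ E z E' z' hes hes' rfl hc.symm hN
  exact ⟨ψ⟩

theorem NN_eq_card_sq (E : Type*) [Group E] : NN E = Nat.card {x : E // x ^ 2 = 1} :=
  Nat.card_congr (Equiv.subtypeEquivRight (fun e => by rw [pow_two]))

end final

end Cfsg.Agent.Lead.ES2
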