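import Mathlib
import Cfsg.Agent.Lib.Lead.Conj

/-!
# S4135, piece C: a self-centralizing abelian TI-subgroup `W` of a normal subgroup `N` whose
conjugates cover `N` modulo the centre is all of `N` (given two noncentral elements of coprime
orders in `W`).
-/

set_option autoImplicit false

namespace Cfsg.Agent.Lib.Lead.NClassC

open Cfsg.Agent.Lib.Lead.Conj

variable {G : Type*} [Group G]

/-- a central commutator of two elements of coprime orders is trivial -/
theorem comm_of_central_commutator {x y : G}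
    (hc : x * y * x⁻¹ * y⁻¹ ∈ Subgroup.center G)
    (hcop : (orderOf x).Coprime (orderOf y)) : x * y = y * x := by
  obtain ⟨c, hcdef⟩ : ∃ c, c = x * y * x⁻¹ * y⁻¹ := ⟨_, rfl⟩
  rw [← hcdef] at hc
  have hcen : ∀ g : G, g * c = c * g := Subgroup.mem_center_iff.mp hc
  have hcy : Commute c y := (hcen y).symm
  have hcx : Commute x⁻¹ c := hcen x⁻¹
  have h1 : x * y * x⁻¹ = c * y := by rw [hcdef]; group
  have h2 : y * x⁻¹ * y⁻¹ = x⁻¹ * c := by rw [hcdef]; group
  have hb : c ^ orderOf y = 1 := by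
    have h := congrArg (· ^ orderOf y) h1
    simp only [conj_pow, pow_orderOf_eq_one, mul_one, mul_inv_cancel, hcy.mul_pow] at h
    exact h.symm
  have ha : c ^ orderOf x = 1 := by
    have h := congrArg (· ^ orderOf x) h2
    simp only [conj_pow, inv_pow, pow_orderOf_eq_one, inv_one, mul_one, mul_inv_cancel,
      hcx.mul_pow, one_mul] at h
    exact h.symm
  have hd : orderOf c ∣ Nat.gcd (orderOf x) (orderOf y) :=
    Nat.dvd_gcd (orderOf_dvd_of_pow_eq_one ha) (orderOf_dvd_of_pow_eq_one hb)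
  have hg : Nat.gcd (orderOf x) (orderOf y) = 1 := hcop
  rw [hg, Nat.dvd_one, orderOf_eq_one_iff] at hd
  rw [hd] at hcdef
  have : x * y = (x * y * x⁻¹ * y⁻¹) * (y * x) := by group
  rw [this, ← hcdef, one_mul]

/-- a noncentral `p`-subgroup contains a noncentral element that it normalizes modulo the centre
of `G` -/
theorem exists_normalized [Finite G] {p : ℕ} [Fact p.Prime] (P : Subgroup G)
    (hP : IsPGroup p P) (hPc : ¬ P ≤ Subgroup.center G) :
    ∃ v ∈ P, v ∉ Subgroup.center G ∧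
      ∀ t ∈ P, ∃ z ∈ Subgroup.center G, t * v * t⁻¹ = v * z := by
  by_cases hcen : ∀ v : P, v ∈ Subgroup.center P → (v : G) ∈ Subgroup.center G
  · have hne : Subgroup.center P ≠ ⊤ := by
      intro htop
      apply hPc
      intro a ha
      apply hcen ⟨a, ha⟩
      rw [htop]; exact Subgroup.mem_top _
    have hnt : Nontrivial (P ⧸ Subgroup.center P) := by
      rw [← Finite.one_lt_card_iff_nontrivial]
      change 1 < (Subgroup.center P).index
      have h0 : (Subgroup.center P).index ≠ 0 := Subgroup.index_ne_zero_of_finite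
      have h1 : (Subgroup.center P).index ≠ 1 :=
        fun h => hne (Subgroup.index_eq_one.mp h)
      omega
    have hpq : IsPGroup p (P ⧸ Subgroup.center P) := hP.to_quotient _
    have hcn := hpq.center_nontrivial
    obtain ⟨⟨ubar, hubar⟩, hne1⟩ := exists_ne (1 : Subgroup.center (P ⧸ Subgroup.center P))
    obtain ⟨u, rfl⟩ := QuotientGroup.mk_surjective ubar
    have hu1 : u ∉ Subgroup.center P := by
      intro hc
      apply hne1
      apply Subtype.ext
      exact (QuotientGroup.eq_one_iff u).mpr hc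
    have huZ : (u : G) ∉ Subgroup.center G := by
      intro hc
      apply hu1
      rw [Subgroup.mem_center_iff]
      intro g
      apply Subtype.ext
      exact Subgroup.mem_center_iff.mp hc g
    refine ⟨u, u.2, huZ, ?_⟩
    intro g hg
    have h1 : (QuotientGroup.mk (⟨g, hg⟩ * u * (⟨g, hg⟩ : P)⁻¹ * u⁻¹) :
        P ⧸ Subgroup.center P) = 1 := by
      have := Subgroup.mem_center_iff.mp hubar (QuotientGroup.mk ⟨g, hg⟩)
      simp only [QuotientGroup.mk_mul, QuotientGroup.mk_inv]
      rw [this]; group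
    rw [QuotientGroup.eq_one_iff] at h1
    have h2 := hcen _ h1
    refine ⟨(u : G)⁻¹ * (g * u * g⁻¹ * (u : G)⁻¹) * u, ?_, by group⟩
    have := (Subgroup.center G).normal_of_characteristic.conj_mem _ h2 (u : G)⁻¹
    simpa using this
  · push Not at hcen
    obtain ⟨v, hv, hvZ⟩ := hcen
    refine ⟨v, v.2, hvZ, ?_⟩
    intro t ht
    refine ⟨1, Subgroup.one_mem _, ?_⟩
    have := Subgroup.mem_center_iff.mp hv ⟨t, ht⟩
    have h2 : t * (v : G) = (v : G) * t := congrArg Subtype.val this
    rw [h2, mul_one, mul_assoc, mul_inv_cancel, mul_one]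

variable [Finite G]

/-- Step 1: `N` normalizes `W`. -/
theorem le_normalizer_of_cover (N W : Subgroup G) [N.Normal] (hWN : W ≤ N)
    (hZW : N ⊓ Subgroup.center G ≤ W)
    (hTI : ∀ g : G, (∃ w ∈ W, w ∉ Subgroup.center G ∧ g * w * g⁻¹ ∈ W) →
      ∀ w ∈ W, g * w * g⁻¹ ∈ W)
    (hcover : ∀ v ∈ N, v ∉ Subgroup.center G → ∃ g : G, g * v * g⁻¹ ∈ W) :
    N ≤ Subgroup.normalizer (W : Set G) := by
  classical
  obtain ⟨D, hD⟩ : ∃ D : Subgroup G, D = N ⊓ Subgroup.normalizer (W : Set G) := ⟨_, rfl⟩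
  have hDN : D ≤ N := hD ▸ inf_le_left
  -- every Sylow subgroup of `N` lies in a conjugate of `D`
  have hsyl : ∀ (p : ℕ) [Fact p.Prime] (P : Sylow p ↥N),
      Nat.card (P : Subgroup ↥N) ∣ Nat.card D := by
    intro p _ P
    obtain ⟨P', hP'⟩ : ∃ P' : Subgroup G, P' = (P : Subgroup ↥N).map N.subtype := ⟨_, rfl⟩
    have hP'N : P' ≤ N := hP' ▸ Subgroup.map_subtype_le _
    have hP'p : IsPGroup p P' := hP' ▸ P.isPGroup'.map N.subtype
    have hcard : Nat.card P' = Nat.card (P : Subgroup ↥N) := by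
      rw [hP']; exact Subgroup.card_map_of_injective N.subtype_injective
    rw [← hcard]
    -- find `g` with `P' ≤ D^g`
    have key : ∃ g : G, ∀ t ∈ P', g * t * g⁻¹ ∈ D := by
      by_cases hc : P' ≤ Subgroup.center G
      · refine ⟨1, fun t ht => ?_⟩
        rw [one_mul, inv_one, mul_one, hD]
        refine ⟨hP'N ht, ?_⟩
        apply mem_normalizer_of_conj_mem
        intro r hr
        have := Subgroup.mem_center_iff.mp (hc ht) r
        rw [← this, mul_assoc, mul_inv_cancel, mul_one]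
        exact hr
      · obtain ⟨v, hvP, hvZ, hvn⟩ := exists_normalized P' hP'p hc
        obtain ⟨g, hg⟩ := hcover v (hP'N hvP) hvZ
        refine ⟨g, fun t ht => ?_⟩
        rw [hD]
        have htN : g * t * g⁻¹ ∈ N := ‹N.Normal›.conj_mem t (hP'N ht) g
        refine ⟨htN, ?_⟩
        apply mem_normalizer_of_conj_mem
        apply hTI
        refine ⟨g * v * g⁻¹, hg, ?_, ?_⟩
        · intro hcz
          apply hvZ
          have := (Subgroup.center G).normal_of_characteristic.conj_mem _ hcz g⁻¹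
          simpa [mul_assoc] using this
        · obtain ⟨z, hz, hzv⟩ := hvn t ht
          have hzN : z ∈ N := by
            have : z = v⁻¹ * (t * v * t⁻¹) := by rw [hzv]; group
            rw [this]
            exact N.mul_mem (N.inv_mem (hP'N hvP))
              (‹N.Normal›.conj_mem v (hP'N hvP) t)
          have hzW : z ∈ W := hZW ⟨hzN, hz⟩
          have hzg : g * z * g⁻¹ = z := by
            have := Subgroup.mem_center_iff.mp hz g
            rw [this, mul_assoc, mul_inv_cancel, mul_one]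
          have : g * t * g⁻¹ * (g * v * g⁻¹) * (g * t * g⁻¹)⁻¹ = (g * v * g⁻¹) * z := by
            calc g * t * g⁻¹ * (g * v * g⁻¹) * (g * t * g⁻¹)⁻¹
                = g * (t * v * t⁻¹) * g⁻¹ := by group
              _ = g * (v * z) * g⁻¹ := by rw [hzv]
              _ = (g * v * g⁻¹) * (g * z * g⁻¹) := by group
              _ = (g * v * g⁻¹) * z := by rw [hzg]
          rw [this]
          exact W.mul_mem hg hzW
    obtain ⟨g, hg⟩ := key
    have hle : P'.map (MulAut.conj g).toMonoidHom ≤ D := by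
      rintro _ ⟨t, ht, rfl⟩
      exact hg t ht
    have h1 := Subgroup.card_dvd_of_le hle
    rwa [card_map_conj] at h1
  -- hence `|N|` divides `|D|`
  have hdvd : Nat.card N ∣ Nat.card D := by
    have hN0 : Nat.card N ≠ 0 := Nat.card_pos.ne'
    have hD0 : Nat.card D ≠ 0 := Nat.card_pos.ne'
    rw [← Nat.factorization_le_iff_dvd hN0 hD0]
    intro p
    by_cases hp : p.Prime
    · haveI : Fact p.Prime := ⟨hp⟩
      obtain ⟨P⟩ : Nonempty (Sylow p ↥N) := inferInstance
      have h1 := hsyl p P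
      rw [P.card_eq_multiplicity] at h1
      exact (hp.pow_dvd_iff_le_factorization hD0).mp h1
    · rw [Nat.factorization_eq_zero_of_not_prime _ hp]
      exact Nat.zero_le _
  have hDeq : D = N := by
    apply Subgroup.eq_of_le_of_card_ge hDN
    exact Nat.le_of_dvd Nat.card_pos hdvd
  rw [← hDeq, hD]
  exact inf_le_right

/-- Piece C of S4135. -/
theorem comm_of_cover (N W : Subgroup G) [N.Normal] (hWN : W ≤ N)
    (hZW : N ⊓ Subgroup.center G ≤ W)
    (hWab : ∀ a ∈ W, ∀ b ∈ W, a * b = b * a)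
    (hself : ∀ w ∈ W, w ∉ Subgroup.center G → ∀ v ∈ N, v * w = w * v → v ∈ W)
    (hTI : ∀ g : G, (∃ w ∈ W, w ∉ Subgroup.center G ∧ g * w * g⁻¹ ∈ W) →
      ∀ w ∈ W, g * w * g⁻¹ ∈ W)
    (hcover : ∀ v ∈ N, v ∉ Subgroup.center G → ∃ g : G, g * v * g⁻¹ ∈ W)
    (x y : G) (hx : x ∈ W) (hy : y ∈ W) (hxZ : x ∉ Subgroup.center G)
    (hyZ : y ∉ Subgroup.center G) (hcop : (orderOf x).Coprime (orderOf y)) :
    ∀ s ∈ N, ∀ t ∈ N, s * t = t * s := by
  have hNM : N ≤ Subgroup.normalizer (W : Set G) :=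
    le_normalizer_of_cover N W hWN hZW hTI hcover
  -- `W` is normal in `G`
  have hnorm : ∀ g : G, ∀ w ∈ W, g * w * g⁻¹ ∈ W := by
    intro g
    obtain ⟨y', hy'⟩ : ∃ y', y' = g * y * g⁻¹ := ⟨_, rfl⟩
    have hy'N : y' ∈ N := hy' ▸ ‹N.Normal›.conj_mem y (hWN hy) g
    have hy'Z : y' ∉ Subgroup.center G := by
      intro hcz
      apply hyZ
      have := (Subgroup.center G).normal_of_characteristic.conj_mem _ hcz g⁻¹
      rw [hy'] at this
      simpa [mul_assoc] using this
    have hord : orderOf y' = orderOf y := by rw [hy']; exact orderOf_conj g y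
    obtain ⟨c, hc⟩ : ∃ c, c = x * y' * x⁻¹ * y'⁻¹ := ⟨_, rfl⟩
    have hcW : c ∈ W := by
      have h1 : y' * x⁻¹ * y'⁻¹ ∈ W :=
        (Subgroup.mem_normalizer_iff.mp (hNM hy'N) x⁻¹).mp (W.inv_mem hx)
      have : c = x * (y' * x⁻¹ * y'⁻¹) := by rw [hc]; group
      rw [this]
      exact W.mul_mem hx h1
    have hcW' : g⁻¹ * c * g⁻¹⁻¹ ∈ W := by
      obtain ⟨n, hn⟩ : ∃ n, n = g⁻¹ * x * g := ⟨_, rfl⟩
      have hnN : n ∈ N := by
        have := ‹N.Normal›.conj_mem x (hWN hx) g⁻¹
        rw [inv_inv] at this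
        rw [hn]; exact this
      have h1 : n * y * n⁻¹ ∈ W := (Subgroup.mem_normalizer_iff.mp (hNM hnN) y).mp hy
      have : g⁻¹ * c * g⁻¹⁻¹ = (n * y * n⁻¹) * y⁻¹ := by
        rw [hc, hy', hn]; group
      rw [this]
      exact W.mul_mem h1 (W.inv_mem hy)
    by_cases hcz : c ∈ Subgroup.center G
    · have hcomm : x * y' = y' * x := by
        apply comm_of_central_commutator
        · rw [← hc]; exact hcz
        · rw [hord]; exact hcop
      have hy'W : y' ∈ W := hself x hx hxZ y' hy'N hcomm.symm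
      exact hTI g ⟨y, hy, hyZ, hy' ▸ hy'W⟩
    · have h1 := hTI g⁻¹ ⟨c, hcW, hcz, hcW'⟩
      have hgn : g⁻¹ ∈ Subgroup.normalizer (W : Set G) := mem_normalizer_of_conj_mem W g⁻¹ h1
      have hgn' : g ∈ Subgroup.normalizer (W : Set G) := by
        have := (Subgroup.normalizer (W : Set G)).inv_mem hgn
        rwa [inv_inv] at this
      intro w hw
      exact (Subgroup.mem_normalizer_iff.mp hgn' w).mp hw
  -- `N ≤ W`
  have hNW : N ≤ W := by
    intro v hv
    by_cases hvz : v ∈ Subgroup.center G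
    · exact hZW ⟨hv, hvz⟩
    · obtain ⟨g, hg⟩ := hcover v hv hvz
      have := hnorm g⁻¹ _ hg
      have e : g⁻¹ * (g * v * g⁻¹) * g⁻¹⁻¹ = v := by group
      rwa [e] at this
  intro s hs t ht
  exact hWab s (hNW hs) t (hNW ht)

end Cfsg.Agent.Lib.Lead.NClassC
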