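import Mathlib
import Cfsg.Agent.Lib.Helper5.O5040A

set_option autoImplicit false
set_option linter.unusedSectionVars false
set_option linter.unusedVariables false

namespace Cfsg.Agent.Lib.Lead.O5040

open MulAction Subgroup

variable {G : Type*} [Group G] [Finite G] {p : ℕ} [hp : Fact p.Prime]

/-- a nonidentity element of a Sylow subgroup of prime order generates it -/
theorem zpowers_eq (P : Sylow p G) (hP : Nat.card P = p) (x : G) (hx : x ∈ P) (hx1 : x ≠ 1) :
    Subgroup.zpowers x = (P : Subgroup G) := by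
  have h1 : (⟨x, hx⟩ : (P : Subgroup G)) ≠ 1 := by
    intro h
    exact hx1 (congrArg Subtype.val h)
  have h2 := zpowers_eq_top_of_prime_card (G := (P : Subgroup G)) hP h1
  apply le_antisymm
  · rw [Subgroup.zpowers_le]; exact hx
  · intro y hy
    have : (⟨y, hy⟩ : (P : Subgroup G)) ∈ Subgroup.zpowers (⟨x, hx⟩ : (P : Subgroup G)) := by
      rw [h2]; trivial
    obtain ⟨n, hn⟩ := Subgroup.mem_zpowers_iff.1 this
    rw [Subgroup.mem_zpowers_iff]
    refine ⟨n, ?_⟩
    have := congrArg Subtype.val hn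
    simpa using this

/-- a nonidentity element of a Sylow subgroup `P` of prime order fixes only `P` among the Sylow
subgroups -/
theorem eq_of_smul_eq (P Q : Sylow p G) (hP : Nat.card P = p) (x : G) (hx : x ∈ P) (hx1 : x ≠ 1)
    (h : x • Q = Q) : Q = P := by
  have hz := zpowers_eq P hP x hx hx1
  have hPQ : (P : Subgroup G) ≤ Q := by
    rw [← IsPGroup.sylow_mem_fixedPoints_iff P.2]
    intro y
    have hy : (y : G) ∈ Subgroup.zpowers x := by rw [hz]; exact y.2
    obtain ⟨n, hn⟩ := Subgroup.mem_zpowers_iff.1 hy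
    show (y : G) • Q = Q
    rw [← hn]
    have hn' : x ∈ stabilizer G Q := h
    have : x ^ n ∈ stabilizer G Q := (stabilizer G Q).zpow_mem hn' n
    exact this
  exact Sylow.ext (P.3 Q.2 hPQ)

/-- an involution normalizing but not centralizing a Sylow subgroup of prime order inverts it -/
theorem inverts (Q : Sylow p G) (hQ : Nat.card Q = p) (g : G) (hg : g * g = 1)
    (hgQ : g • Q = Q) (y0 : G) (hy0 : y0 ∈ Q) (hne : g * y0 ≠ y0 * g) :
    ∀ y ∈ Q, g * y * g⁻¹ = y⁻¹ := by
  intro y hy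
  have hgn : g ∈ Subgroup.normalizer ((Q : Subgroup G) : Set G) :=
    Sylow.smul_eq_iff_mem_normalizer.1 hgQ
  have hginv : g⁻¹ = g := inv_eq_of_mul_eq_one_right hg
  have hy' : g * y * g⁻¹ ∈ (Q : Subgroup G) := (Subgroup.mem_normalizer_iff.1 hgn y).1 hy
  have : IsCyclic (Q : Subgroup G) := isCyclic_of_prime_card hQ
  have hcomm : y * (g * y * g⁻¹) = (g * y * g⁻¹) * y := by
    let _ := IsCyclic.commGroup (α := (Q : Subgroup G))
    have := mul_comm (⟨y, hy⟩ : (Q : Subgroup G)) ⟨g * y * g⁻¹, hy'⟩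
    exact congrArg Subtype.val this
  have hwQ : y * (g * y * g⁻¹) ∈ (Q : Subgroup G) := (Q : Subgroup G).mul_mem hy hy'
  have hgw : g * (y * (g * y * g⁻¹)) = (y * (g * y * g⁻¹)) * g := by
    have h1 : g * (y * (g * y * g⁻¹)) * g⁻¹ = y * (g * y * g⁻¹) := by
      have : g * (y * (g * y * g⁻¹)) * g⁻¹ = (g * y * g⁻¹) * ((g * g) * y * (g * g)⁻¹) := by
        group
      rw [this, hg, one_mul, inv_one, mul_one, ← hcomm]
    calc g * (y * (g * y * g⁻¹)) = (g * (y * (g * y * g⁻¹)) * g⁻¹) * g := by group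
      _ = (y * (g * y * g⁻¹)) * g := by rw [h1]
  by_cases hw1 : y * (g * y * g⁻¹) = 1
  · exact (eq_inv_of_mul_eq_one_right hw1)
  · exfalso
    have hz := zpowers_eq Q hQ _ hwQ hw1
    have : y0 ∈ Subgroup.zpowers (y * (g * y * g⁻¹)) := by rw [hz]; exact hy0
    obtain ⟨n, hn⟩ := Subgroup.mem_zpowers_iff.1 this
    apply hne
    rw [← hn]
    have hc : Commute g (y * (g * y * g⁻¹)) := hgw
    exact (hc.zpow_right n).eq

end Cfsg.Agent.Lib.Lead.O5040
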