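import Mathlib
import Cfsg.Agent.Lib.Lead.O5040A

set_option autoImplicit false
set_option linter.unusedSectionVars false
set_option linter.unusedVariables false

namespace Cfsg.Agent.Lib.Lead.O5040

open MulAction Subgroup

variable {G : Type*} [Group G] [Finite G] {p : ℕ} [hp : Fact p.Prime]

theorem pow_prime_eq_one (Q : Sylow p G) (hQ : Nat.card Q = p) (z : G) (hz : z ∈ Q) : z ^ p = 1 := by
  have h := pow_card_eq_one' (G := (Q : Subgroup G)) (x := ⟨z, hz⟩)
  rw [hQ] at h
  have := congrArg Subtype.val h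
  simpa using this

theorem sq_ne_one (Q : Sylow p G) (hQ : Nat.card Q = p) (hp2 : p ≠ 2) (z : G) (hz : z ∈ Q)
    (hz1 : z ≠ 1) : z * z ≠ 1 := by
  intro h
  apply hz1
  have h1 : orderOf z ∣ 2 := orderOf_dvd_of_pow_eq_one (by rw [pow_two]; exact h)
  have h2 : orderOf z ∣ p := orderOf_dvd_of_pow_eq_one (pow_prime_eq_one Q hQ z hz)
  have h3 : orderOf z ∣ Nat.gcd 2 p := Nat.dvd_gcd h1 h2
  have h4 : Nat.gcd 2 p = 1 := by
    rw [Nat.coprime_primes Nat.prime_two hp.out |>.2 (Ne.symm hp2)]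
  rw [h4, Nat.dvd_one] at h3
  exact orderOf_eq_one_iff.1 h3

theorem key_fix (Q : Sylow p G) (hQ : Nat.card Q = p) (hp2 : p ≠ 2) (g : G)
    (hinv : ∀ y ∈ Q, g * y * g⁻¹ = y⁻¹) (ω : Sylow p G) (hω : g • ω = ω) (hωQ : ω ≠ Q)
    (z : G) (hz : z ∈ Q) (h : g • (z • ω) = z • ω) : z = 1 := by
  by_contra hz1
  apply hωQ
  have h1 : g * z = z⁻¹ * g := by
    have := hinv z hz
    calc g * z = (g * z * g⁻¹) * g := by group
      _ = z⁻¹ * g := by rw [this]
  have h2 : z⁻¹ • ω = z • ω := by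
    rw [← h, smul_smul, h1, ← smul_smul, hω]
  have h3 : (z * z) • ω = ω := by
    rw [← smul_smul, ← h2, smul_smul, mul_inv_cancel, one_smul]
  exact eq_of_smul_eq Q ω hQ (z * z) ((Q : Subgroup G).mul_mem hz hz) (sq_ne_one Q hQ hp2 z hz hz1) h3

theorem card_fixedBy_eq_filter [Fintype (Sylow p G)] [DecidableEq (Sylow p G)] (g : G) :
    Nat.card (fixedBy (Sylow p G) g) = (Finset.univ.filter (fun ω : Sylow p G => g • ω = ω)).card := by
  classical
  rw [Nat.card_coe_set_eq, Set.ncard_eq_toFinset_card']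
  congr 1
  ext ω
  simp

theorem card_fixedBy_le_of_inverts (Q : Sylow p G) (hQ : Nat.card Q = p) (hp2 : p ≠ 2) (g : G)
    (hgQ : g • Q = Q) (hinv : ∀ y ∈ Q, g * y * g⁻¹ = y⁻¹) :
    (Nat.card (fixedBy (Sylow p G) g) - 1) * p ≤ Nat.card (Sylow p G) - 1 := by
  classical
  have : Fintype (Sylow p G) := Fintype.ofFinite _
  have : Fintype (Q : Subgroup G) := Fintype.ofFinite _
  rw [card_fixedBy_eq_filter]
  set F := Finset.univ.filter (fun ω : Sylow p G => g • ω = ω) with hF
  have hQF : Q ∈ F := by simp [hF, hgQ]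
  let s : Finset (Sylow p G × (Q : Subgroup G)) := (F.erase Q) ×ˢ Finset.univ
  let t : Finset (Sylow p G) := Finset.univ.erase Q
  have hs : s.card = (F.card - 1) * p := by
    rw [Finset.card_product, Finset.card_erase_of_mem hQF, Finset.card_univ,
      ← Nat.card_eq_fintype_card, hQ]
  have ht : t.card = Nat.card (Sylow p G) - 1 := by
    rw [Finset.card_erase_of_mem (Finset.mem_univ _), Finset.card_univ, Nat.card_eq_fintype_card]
  rw [← hs, ← ht]
  apply Finset.card_le_card_of_injOn (fun a => (a.2 : G) • a.1)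
  · rintro ⟨ω, y⟩ ha
    simp only [s, Finset.mem_coe, Finset.mem_product, Finset.mem_erase, Finset.mem_univ,
      and_true, hF, Finset.mem_filter, true_and] at ha
    simp only [t, Finset.mem_coe, Finset.mem_erase, Finset.mem_univ, and_true]
    intro h
    apply ha.1
    have hy : (y : G) • Q = Q := by
      have := Subgroup.le_normalizer (H := (Q : Subgroup G)) y.2
      exact Sylow.smul_eq_iff_mem_normalizer.2 this
    have : (y : G) • ω = (y : G) • Q := by rw [h, hy]
    exact smul_left_cancel _ this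
  · rintro ⟨ω, y⟩ ha ⟨ω', y'⟩ ha' h
    simp only [s, Finset.coe_product, Finset.coe_erase, Finset.coe_univ, Set.mem_prod,
      Set.mem_sdiff, Finset.mem_coe, Set.mem_singleton_iff, Set.mem_univ, and_true, hF,
      Finset.mem_filter, Finset.mem_univ, true_and] at ha ha'
    simp only at h
    have h1 : ω' = ((y' : G)⁻¹ * (y : G)) • ω := by
      rw [← smul_smul, h, smul_smul, inv_mul_cancel, one_smul]
    have hz : (y' : G)⁻¹ * (y : G) ∈ (Q : Subgroup G) :=
      (Q : Subgroup G).mul_mem ((Q : Subgroup G).inv_mem y'.2) y.2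
    have h2 : g • (((y' : G)⁻¹ * (y : G)) • ω) = ((y' : G)⁻¹ * (y : G)) • ω := by
      rw [← h1]; exact ha'.1
    have h3 := key_fix Q hQ hp2 g hinv ω ha.1 ha.2 _ hz h2
    have h4 : (y : G) = (y' : G) := by
      have : (y : G) = (y' : G) * ((y' : G)⁻¹ * (y : G)) := by group
      rw [this, h3, mul_one]
    have h5 : y = y' := Subtype.ext h4
    rw [h3, one_smul] at h1
    rw [h1, h5]

end Cfsg.Agent.Lib.Lead.O5040
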