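import Mathlib
import Cfsg.Agent.Lib.Lead.O5040B
import Cfsg.Agent.Lib.Helper5.O5040B

set_option autoImplicit false
set_option linter.unusedSectionVars false
set_option linter.unusedVariables false

namespace Cfsg.Agent.Lib.Lead.O5040

open MulAction Subgroup

section general
variable {G : Type*} [Group G] [Finite G] {p : ℕ} [hp : Fact p.Prime]

theorem card_fixedBy_gen (P : Sylow p G) (hP : Nat.card P = p) (x : G) (hx : x ∈ P) (hx1 : x ≠ 1) :
    Nat.card (fixedBy (Sylow p G) x) = 1 := by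
  rw [Nat.card_eq_one_iff_unique]
  constructor
  · constructor
    rintro ⟨a, ha⟩ ⟨b, hb⟩
    rw [mem_fixedBy] at ha hb
    apply Subtype.ext
    show a = b
    rw [eq_of_smul_eq P a hP x hx hx1 ha, eq_of_smul_eq P b hP x hx hx1 hb]
  · refine ⟨⟨P, ?_⟩⟩
    rw [mem_fixedBy]
    exact Sylow.smul_eq_iff_mem_normalizer.2 (Subgroup.le_normalizer hx)

theorem eq_one_of_forall_smul_sylow [IsSimpleGroup G] (hnp : Nat.card (Sylow p G) ≠ 1) (k : G)
    (h : ∀ Q : Sylow p G, k • Q = Q) : k = 1 := by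
  have hmem : k ∈ (MulAction.toPermHom G (Sylow p G)).ker := by
    rw [MonoidHom.mem_ker]
    ext Q
    simp [h Q]
  rcases (MonoidHom.normal_ker (MulAction.toPermHom G (Sylow p G))).eq_bot_or_eq_top with hb | ht
  · rw [hb, Subgroup.mem_bot] at hmem
    exact hmem
  · exfalso
    apply hnp
    rw [Nat.card_eq_one_iff_unique]
    obtain ⟨P⟩ : Nonempty (Sylow p G) := inferInstance
    refine ⟨⟨fun a b => ?_⟩, ⟨P⟩⟩
    obtain ⟨g, hg⟩ := MulAction.exists_smul_eq G a b
    have hgk : g ∈ (MulAction.toPermHom G (Sylow p G)).ker := by rw [ht]; trivial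
    rw [MonoidHom.mem_ker] at hgk
    have := congrArg (fun σ : Equiv.Perm (Sylow p G) => σ a) hgk
    simp only [MulAction.toPermHom_apply, MulAction.toPerm_apply, Equiv.Perm.coe_one, id_eq] at this
    rw [← hg, this]

end general

variable {G : Type*} [Group G] [Finite G] [IsSimpleGroup G]

open Cfsg.Agent.Lib.Helper5.O5040

/-- an involution centralizing a Sylow `7`-subgroup has exactly 8 fixed points on the 36 Sylow
`7`-subgroups -/
theorem card_fix_eight (hn : Nat.card G = 5040) [Fact (Nat.Prime 7)]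
    (h36 : Nat.card (Sylow 7 G) = 36) (P : Sylow 7 G) (k : G) (hk : k * k = 1) (hk1 : k ≠ 1)
    (hc : ∀ y ∈ P, k * y = y * k) : Nat.card (fixedBy (Sylow 7 G) k) = 8 := by
  have hP := card_sylow7 hn P
  obtain ⟨x, hxP, hx1, hx7⟩ := exists_gen7 hn P
  have h1 := card_fixedBy_gen P hP x hxP hx1
  have h2 := card_fixedBy_modEq_one (X := Sylow 7 G) 7 x k hx7 (hc x hxP) h1
  have h3 := card_mod_four_eq (X := Sylow 7 G) (two_lt hn) k hk
  rw [h36] at h3
  have h4 : Nat.card (fixedBy (Sylow 7 G) k) ≤ 36 := by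
    rw [← h36]
    exact Nat.card_le_card_of_injective (fun a : fixedBy (Sylow 7 G) k => (a : Sylow 7 G))
      Subtype.val_injective
  unfold Nat.ModEq at h2
  have h5 : Nat.card (fixedBy (Sylow 7 G) k) ≠ 36 := by
    intro h
    apply hk1
    apply eq_one_of_forall_smul_sylow (p := 7) (by rw [h36]; norm_num) k
    intro Q
    have huniv : fixedBy (Sylow 7 G) k = Set.univ := by
      apply Set.eq_of_subset_of_ncard_le (Set.subset_univ _)
      rw [Set.ncard_univ, h36, ← h, Nat.card_coe_set_eq]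
    have : Q ∈ fixedBy (Sylow 7 G) k := by rw [huniv]; trivial
    exact this
  omega

end Cfsg.Agent.Lib.Lead.O5040
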