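import Mathlib
import Cfsg.Agent.Lib.Lead.O5040C

set_option autoImplicit false
set_option linter.unusedSectionVars false
set_option linter.unusedVariables false

namespace Cfsg.Agent.Lib.Lead.O5040

open MulAction Subgroup

section general
variable {G : Type*} [Group G] [Finite G] {p : ℕ} [hp : Fact p.Prime]

open Cfsg.Agent.Lib.Helper5.O5040 in
/-- in a subgroup of even order the number of involutions is odd -/
theorem odd_card_invol [Fintype G] [DecidableEq G] (C : Subgroup G) [DecidablePred (· ∈ C)]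
    (hC : Even (Nat.card C)) :
    Odd (Finset.univ.filter (fun g : G => g * g = 1 ∧ g ≠ 1 ∧ g ∈ C)).card := by
  classical
  have h2 : Fact (Nat.Prime 2) := ⟨Nat.prime_two⟩
  have h1 := card_fixedBy_modEq_card (G := Equiv.Perm C) (X := C) 2 (Equiv.inv C)
    (by ext c; simp [sq])
  -- the fixed set, pushed to `G`
  have himg : (Subtype.val '' (fixedBy C (Equiv.inv C)) : Set G) =
      insert 1 {g : G | g * g = 1 ∧ g ≠ 1 ∧ g ∈ C} := by
    ext g
    simp only [Set.mem_image, mem_fixedBy, Equiv.Perm.smul_def, Equiv.inv_apply, Subtype.exists,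
      exists_and_right, exists_eq_right, Set.mem_insert_iff, Set.mem_ofPred_eq]
    constructor
    · rintro ⟨hg, h⟩
      by_cases hg1 : g = 1
      · left; exact hg1
      · right
        refine ⟨?_, hg1, hg⟩
        have : g⁻¹ = g := by
          have := congrArg Subtype.val h
          simpa using this
        calc g * g = g⁻¹ * g := by rw [this]
          _ = 1 := inv_mul_cancel g
    · rintro (rfl | ⟨h, -, hg⟩)
      · refine ⟨C.one_mem, ?_⟩
        apply Subtype.ext
        simp
      · refine ⟨hg, ?_⟩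
        apply Subtype.ext
        simp only [InvMemClass.coe_inv]
        exact inv_eq_of_mul_eq_one_right h
  have hcard : Nat.card (fixedBy C (Equiv.inv C)) =
      (Finset.univ.filter (fun g : G => g * g = 1 ∧ g ≠ 1 ∧ g ∈ C)).card + 1 := by
    rw [Nat.card_coe_set_eq, ← Set.ncard_image_of_injective _ Subtype.val_injective, himg,
      Set.ncard_insert_of_notMem (by simp) (Set.toFinite _), Set.ncard_eq_toFinset_card']
    congr 2
    ext g
    simp
  rw [hcard] at h1
  unfold Nat.ModEq at h1
  obtain ⟨m, hm⟩ := hC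
  rw [Nat.odd_iff]
  omega

open Classical in
theorem card_invol_cent_smul [Fintype G] [DecidableEq G] (P : Sylow p G) (h : G) :
    (Finset.univ.filter (fun g : G => (g * g = 1 ∧ g ≠ 1) ∧ ∀ y ∈ h • P, g * y = y * g)).card =
    (Finset.univ.filter (fun g : G => (g * g = 1 ∧ g ≠ 1) ∧ ∀ y ∈ P, g * y = y * g)).card := by
  apply Finset.card_equiv (MulAut.conj h⁻¹).toEquiv
  intro g
  simp only [Finset.mem_filter, Finset.mem_univ, true_and, MulEquiv.toEquiv_eq_coe,
    EquivLike.coe_coe, MulAut.conj_apply, inv_inv]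
  constructor
  · rintro ⟨⟨h1, h2⟩, h3⟩
    refine ⟨⟨?_, ?_⟩, ?_⟩
    · calc h⁻¹ * g * h * (h⁻¹ * g * h) = h⁻¹ * (g * g) * h := by group
        _ = 1 := by rw [h1]; group
    · intro h4
      apply h2
      calc g = h * (h⁻¹ * g * h) * h⁻¹ := by group
        _ = 1 := by rw [h4]; group
    · intro z hz
      have hy : h * z * h⁻¹ ∈ h • P := by
        rw [Cfsg.Agent.Lib.Helper4.SylowPrime.mem_smul_sylow_iff]
        have : h⁻¹ * (h * z * h⁻¹) * h = z := by group
        rw [this]; exact hz
      have := h3 _ hy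
      calc h⁻¹ * g * h * z = h⁻¹ * (g * (h * z * h⁻¹)) * h := by group
        _ = h⁻¹ * ((h * z * h⁻¹) * g) * h := by rw [this]
        _ = z * (h⁻¹ * g * h) := by group
  · rintro ⟨⟨h1, h2⟩, h3⟩
    refine ⟨⟨?_, ?_⟩, ?_⟩
    · calc g * g = h * ((h⁻¹ * g * h) * (h⁻¹ * g * h)) * h⁻¹ := by group
        _ = 1 := by rw [h1]; group
    · intro h4
      apply h2
      rw [h4]; group
    · intro y hy
      rw [Cfsg.Agent.Lib.Helper4.SylowPrime.mem_smul_sylow_iff] at hy
      have := h3 _ hy
      calc g * y = h * ((h⁻¹ * g * h) * (h⁻¹ * y * h)) * h⁻¹ := by group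
        _ = h * ((h⁻¹ * y * h) * (h⁻¹ * g * h)) * h⁻¹ := by rw [this]
        _ = y * g := by group

end general

end Cfsg.Agent.Lib.Lead.O5040
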