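import Mathlib
import Cfsg.Prelude.Def_Classical

/-!
Transport of `Cfsg.POmega` along an isomorphism of fields (universe polymorphic in both fields).
-/

namespace Cfsg.Agent.Lib.Lead.POmegaTr

universe u v

open Matrix

variable {ι : Type} [Fintype ι] [DecidableEq ι] {F : Type u} {K : Type v} [Field F] [Field K]

/-- the general linear group along a ring isomorphism -/
noncomputable def glE (e : F ≃+* K) : GL ι F ≃* GL ι K :=
  Units.mapEquiv (RingEquiv.mapMatrix (m := ι) e).toMulEquiv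

theorem glE_coe (e : F ≃+* K) (g : GL ι F) :
    ((glE e g : GL ι K) : Matrix ι ι K) = (g : Matrix ι ι F).map e := rfl

theorem glE_symm_coe (e : F ≃+* K) (g : GL ι K) :
    (((glE (ι := ι) e).symm g : GL ι F) : Matrix ι ι F) = (g : Matrix ι ι K).map e.symm := rfl

omit [DecidableEq ι] in
theorem map_mulVec_e (e : F ≃+* K) (M : Matrix ι ι F) (v : ι → F) :
    (M.map e) *ᵥ (fun i => e (v i)) = fun i => e ((M *ᵥ v) i) := by
  funext i
  simp [Matrix.mulVec, dotProduct, map_sum, map_mul]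

theorem mem_iso_of_mem (e : F ≃+* K) (QF : (ι → F) → F) (QK : (ι → K) → K)
    (h : ∀ v, QK (fun i => e (v i)) = e (QF v)) (g : GL ι F)
    (hg : g ∈ Cfsg.isometryGroup F QF) : glE e g ∈ Cfsg.isometryGroup K QK := by
  intro u w
  have hu : u = fun i => e (e.symm (u i)) := by funext i; simp
  have h1 := hg (fun i => e.symm (u i)) (fun i => e.symm (u i))
  change QK ((((glE e g : GL ι K) : Matrix ι ι K)) *ᵥ u) = QK u
  change QF (((g : GL ι F) : Matrix ι ι F) *ᵥ _) = QF _ at h1
  rw [glE_coe, hu, map_mulVec_e, h, h, h1]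

theorem mem_iso_of_mem_symm (e : F ≃+* K) (QF : (ι → F) → F) (QK : (ι → K) → K)
    (h : ∀ v, QK (fun i => e (v i)) = e (QF v)) (g : GL ι K)
    (hg : g ∈ Cfsg.isometryGroup K QK) : (glE e).symm g ∈ Cfsg.isometryGroup F QF := by
  intro u w
  have h1 := hg (fun i => e (u i)) (fun i => e (u i))
  change QF (((((glE (ι := ι) e).symm g : GL ι F) : Matrix ι ι F)) *ᵥ u) = QF u
  change QK (((g : GL ι K) : Matrix ι ι K) *ᵥ _) = QK _ at h1
  apply e.injective
  rw [← h, ← h, ← map_mulVec_e, glE_symm_coe]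
  have : ((g : Matrix ι ι K).map e.symm).map e = (g : Matrix ι ι K) := by
    ext i j; simp
  rw [this, h1]

/-- the isometry groups of corresponding forms over isomorphic fields -/
noncomputable def isoE (e : F ≃+* K) (QF : (ι → F) → F) (QK : (ι → K) → K)
    (h : ∀ v, QK (fun i => e (v i)) = e (QF v)) :
    ↥(Cfsg.isometryGroup F QF) ≃* ↥(Cfsg.isometryGroup K QK) where
  toFun g := ⟨glE e g, mem_iso_of_mem e QF QK h g g.2⟩
  invFun g := ⟨(glE e).symm g, mem_iso_of_mem_symm e QF QK h g g.2⟩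
  left_inv g := by apply Subtype.ext; simp
  right_inv g := by apply Subtype.ext; simp
  map_mul' a b := by apply Subtype.ext; simp

/-- the derived subgroups of isomorphic groups are isomorphic -/
noncomputable def commE {G H : Type*} [Group G] [Group H] (f : G ≃* H) :
    ↥(commutator G) ≃* ↥(commutator H) :=
  (f.subgroupMap (commutator G)).trans (MulEquiv.subgroupCongr (by
    rw [commutator_def, Subgroup.map_commutator]
    congr 1 <;>
    · rw [← MonoidHom.range_eq_map]
      exact MonoidHom.range_eq_top.2 f.surjective))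

theorem map_center_e {G H : Type*} [Group G] [Group H] (f : G ≃* H) :
    (Subgroup.center G).map (f : G →* H) = Subgroup.center H := by
  ext x
  constructor
  · rintro ⟨y, hy, rfl⟩
    rw [Subgroup.mem_center_iff]
    intro z
    obtain ⟨z', rfl⟩ := f.surjective z
    have := (Subgroup.mem_center_iff.1 hy) z'
    change f z' * f y = f y * f z'
    rw [← map_mul, ← map_mul, this]
  · intro hx
    refine ⟨f.symm x, ?_, by simp⟩
    rw [SetLike.mem_coe, Subgroup.mem_center_iff]
    intro z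
    apply f.injective
    have := (Subgroup.mem_center_iff.1 hx) (f z)
    simpa using this

/-- the quotients by the centre of isomorphic groups are isomorphic -/
noncomputable def modCenterE {G H : Type*} [Group G] [Group H] (f : G ≃* H) :
    G ⧸ Subgroup.center G ≃* H ⧸ Subgroup.center H :=
  QuotientGroup.congr _ _ f (map_center_e f)

/-- `Ω` along an isomorphism of fields -/
noncomputable def omegaE (e : F ≃+* K) (QF : (ι → F) → F) (QK : (ι → K) → K)
    (h : ∀ v, QK (fun i => e (v i)) = e (QF v)) :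
    ↥(Cfsg.Omega F QF) ≃* ↥(Cfsg.Omega K QK) :=
  commE (isoE e QF QK h)

/-- `PΩ` along an isomorphism of fields -/
noncomputable def pomegaE (e : F ≃+* K) (QF : (ι → F) → F) (QK : (ι → K) → K)
    (h : ∀ v, QK (fun i => e (v i)) = e (QF v)) :
    Cfsg.POmega F QF ≃* Cfsg.POmega K QK :=
  modCenterE (omegaE e QF QK h)

theorem quadFormOdd_e (e : F ≃+* K) (m : ℕ) (v : Unit ⊕ (Fin m ⊕ Fin m) → F) :
    Cfsg.quadFormOdd m K (fun i => e (v i)) = e (Cfsg.quadFormOdd m F v) := by
  simp [Cfsg.quadFormOdd, map_add, map_pow, map_sum, map_mul]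

theorem quadFormPlus_e (e : F ≃+* K) (m : ℕ) (v : Fin m ⊕ Fin m → F) :
    Cfsg.quadFormPlus m K (fun i => e (v i)) = e (Cfsg.quadFormPlus m F v) := by
  simp [Cfsg.quadFormPlus, map_sum, map_mul]

theorem quadFormMinus_e (e : F ≃+* K) (m : ℕ) (a b : F) (v : (Fin m ⊕ Fin m) ⊕ Fin 2 → F) :
    Cfsg.quadFormMinus m K (e a) (e b) (fun i => e (v i)) = e (Cfsg.quadFormMinus m F a b v) := by
  simp [Cfsg.quadFormMinus, map_add, map_pow, map_sum, map_mul]

/-- `PΩ_{2m+1}` over isomorphic fields -/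
noncomputable def pomegaOddEquiv (e : F ≃+* K) (m : ℕ) :
    Cfsg.POmega F (Cfsg.quadFormOdd m F) ≃* Cfsg.POmega K (Cfsg.quadFormOdd m K) :=
  pomegaE e _ _ (quadFormOdd_e e m)

/-- `PΩ⁺_{2m}` over isomorphic fields -/
noncomputable def pomegaPlusEquiv (e : F ≃+* K) (m : ℕ) :
    Cfsg.POmega F (Cfsg.quadFormPlus m F) ≃* Cfsg.POmega K (Cfsg.quadFormPlus m K) :=
  pomegaE e _ _ (quadFormPlus_e e m)

/-- `PΩ⁻_{2m+2}` over isomorphic fields -/
noncomputable def pomegaMinusEquiv (e : F ≃+* K) (m : ℕ) (a b : F) :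
    Cfsg.POmega F (Cfsg.quadFormMinus m F a b) ≃*
      Cfsg.POmega K (Cfsg.quadFormMinus m K (e a) (e b)) :=
  pomegaE e _ _ (quadFormMinus_e e m a b)

/-- the isometry groups (for helpers that need `O` and `Ω` themselves) -/
noncomputable def isoOddEquiv (e : F ≃+* K) (m : ℕ) :
    ↥(Cfsg.isometryGroup F (Cfsg.quadFormOdd m F)) ≃* ↥(Cfsg.isometryGroup K (Cfsg.quadFormOdd m K)) :=
  isoE e _ _ (quadFormOdd_e e m)

noncomputable def isoPlusEquiv (e : F ≃+* K) (m : ℕ) :
    ↥(Cfsg.isometryGroup F (Cfsg.quadFormPlus m F)) ≃* ↥(Cfsg.isometryGroup K (Cfsg.quadFormPlus m K)) :=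
  isoE e _ _ (quadFormPlus_e e m)

theorem isoE_coe (e : F ≃+* K) (QF : (ι → F) → F) (QK : (ι → K) → K)
    (h : ∀ v, QK (fun i => e (v i)) = e (QF v)) (g : ↥(Cfsg.isometryGroup F QF)) :
    (((isoE e QF QK h g : ↥(Cfsg.isometryGroup K QK)) : GL ι K) : Matrix ι ι K) =
      ((g : GL ι F) : Matrix ι ι F).map e := rfl

end Cfsg.Agent.Lib.Lead.POmegaTr
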