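import Mathlib
import Cfsg.Agent.Lib.Helper4.SylowPrime

/-!
# Sylow `p`-subgroups of order `p²`: fixed points and pairwise intersections

(author: lead)  General lemmas on the conjugation action of a finite group on its Sylow
`p`-subgroups, used for the orders `5880` and `5400` (row S0983).
-/

set_option autoImplicit false
set_option linter.unusedSectionVars false
set_option linter.unusedVariables false

namespace Cfsg.Agent.Lib.Lead.SylSq

open MulAction Subgroup

variable {G : Type*} [Group G] [Finite G] {p : ℕ} [hp : Fact p.Prime]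

/-- an element of a Sylow `p`-subgroup fixes the Sylow `p`-subgroup `Q` iff it lies in `Q` -/
theorem smul_eq_iff_mem (P Q : Sylow p G) (x : G) (hx : x ∈ P) : x • Q = Q ↔ x ∈ Q := by
  rw [Sylow.smul_eq_iff_mem_normalizer]
  constructor
  · intro h
    exact Cfsg.Agent.Lib.Helper4.SylowPrime.mem_sylow_of_mem_normalizer Q x h (P : Subgroup G) P.2 hx
  · intro h
    exact Subgroup.le_normalizer h

/-- the fixed points of an element centralizing `P`, as a `P`-set -/
def fixSub (P : Sylow p G) (c : G) (hc : ∀ x ∈ P, c * x = x * c) :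
    SubMulAction (P : Subgroup G) (Sylow p G) where
  carrier := fixedBy (Sylow p G) c
  smul_mem' := by
    intro y Q hQ
    rw [mem_fixedBy] at hQ ⊢
    show c • ((y : G) • Q) = (y : G) • Q
    rw [smul_smul, hc y y.2, ← smul_smul, hQ]

theorem mem_normalizer_of_commute (P : Sylow p G) (c : G) (hc : ∀ x ∈ P, c * x = x * c) :
    c ∈ Subgroup.normalizer ((P : Subgroup G) : Set G) := by
  have h1 : c ∈ Subgroup.centralizer ((P : Subgroup G) : Set G) := by
    rw [Subgroup.mem_centralizer_iff]
    intro x hx
    exact (hc x hx).symm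
  exact Subgroup.centralizer_le_normalizer _ h1

/-- an element centralizing a Sylow `p`-subgroup `P` fixes `1 mod p` Sylow `p`-subgroups -/
theorem card_fixedBy_modEq_one (P : Sylow p G) (c : G) (hc : ∀ x ∈ P, c * x = x * c) :
    Nat.card (fixedBy (Sylow p G) c) ≡ 1 [MOD p] := by
  classical
  have hPfix : P ∈ fixedBy (Sylow p G) c := by
    rw [mem_fixedBy, Sylow.smul_eq_iff_mem_normalizer]
    exact mem_normalizer_of_commute P c hc
  have h1 := IsPGroup.card_modEq_card_fixedPoints (p := p) (G := (P : Subgroup G)) P.2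
    (fixSub P c hc)
  have h2 : Nat.card (fixSub P c hc) = Nat.card (fixedBy (Sylow p G) c) := rfl
  have h3 : Nat.card (fixedPoints (P : Subgroup G) (fixSub P c hc)) = 1 := by
    rw [Nat.card_eq_one_iff_unique]
    constructor
    · constructor
      intro a b
      have key : ∀ a : fixedPoints (P : Subgroup G) (fixSub P c hc),
          ((a : fixSub P c hc) : Sylow p G) = P := by
        intro a
        have ha : ((a : fixSub P c hc) : Sylow p G) ∈ fixedPoints (P : Subgroup G) (Sylow p G) := by
          rw [mem_fixedPoints]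
          intro y
          have := a.2 y
          exact congrArg Subtype.val this
        rw [IsPGroup.sylow_mem_fixedPoints_iff P.2] at ha
        exact Sylow.ext (P.3 (((a : fixSub P c hc) : Sylow p G)).2 ha)
      apply Subtype.ext
      apply Subtype.ext
      rw [key a, key b]
    · refine ⟨⟨⟨P, hPfix⟩, ?_⟩⟩
      intro y
      apply Subtype.ext
      show (y : G) • P = P
      rw [Sylow.smul_eq_iff_mem_normalizer]
      exact Subgroup.le_normalizer y.2
  rw [h2, h3] at h1
  exact h1

/-- if there are fewer Sylow `p`-subgroups than elements of `P`, then `P` meets every Sylow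
`p`-subgroup nontrivially -/
theorem exists_mem_inf_ne_one (P Q : Sylow p G)
    (h : Nat.card (Sylow p G) < Nat.card (P : Subgroup G)) :
    ∃ x : G, x ∈ P ∧ x ∈ Q ∧ x ≠ 1 := by
  by_contra hcon
  push Not at hcon
  have hinj : Function.Injective (fun x : (P : Subgroup G) => (x : G) • Q) := by
    intro x y hxy
    simp only at hxy
    have h1 : ((y : G)⁻¹ * (x : G)) • Q = Q := by
      rw [mul_smul, hxy, ← mul_smul, inv_mul_cancel, one_smul]
    have h2 : (y : G)⁻¹ * (x : G) ∈ (P : Subgroup G) := mul_mem (inv_mem y.2) x.2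
    have h3 := (smul_eq_iff_mem P Q _ h2).1 h1
    have h4 := hcon _ h2 h3
    apply Subtype.ext
    have : (x : G) = (y : G) * ((y : G)⁻¹ * (x : G)) := by group
    rw [this, h4, mul_one]
  have := Nat.card_le_card_of_injective _ hinj
  omega

/-- two distinct Sylow `p`-subgroups of order `p²` meet in a subgroup of order `p`, if there
are fewer than `p²` Sylow `p`-subgroups -/
theorem card_inf_eq (P Q : Sylow p G) (hP : Nat.card (P : Subgroup G) = p ^ 2) (hne : P ≠ Q)
    (h : Nat.card (Sylow p G) < p ^ 2) :
    Nat.card ((P : Subgroup G) ⊓ (Q : Subgroup G) : Subgroup G) = p := by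
  have hdvd : Nat.card ((P : Subgroup G) ⊓ (Q : Subgroup G) : Subgroup G) ∣ p ^ 2 := by
    rw [← hP]
    exact Subgroup.card_dvd_of_le inf_le_left
  obtain ⟨k, hk, hk2⟩ := (Nat.dvd_prime_pow hp.out).1 hdvd
  have hk3 : k = 0 ∨ k = 1 ∨ k = 2 := by omega
  rcases hk3 with rfl | rfl | rfl
  · exfalso
    obtain ⟨x, hxP, hxQ, hx1⟩ := exists_mem_inf_ne_one P Q (by rw [hP]; exact h)
    rw [pow_zero, Subgroup.card_eq_one] at hk2
    have : x ∈ ((P : Subgroup G) ⊓ (Q : Subgroup G) : Subgroup G) := ⟨hxP, hxQ⟩
    rw [hk2, Subgroup.mem_bot] at this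
    exact hx1 this
  · rw [hk2, pow_one]
  · exfalso
    apply hne
    have h1 : ((P : Subgroup G) ⊓ (Q : Subgroup G) : Subgroup G) = P := by
      apply Subgroup.eq_of_le_of_card_ge inf_le_left
      rw [hk2, hP]
    have h2 : (P : Subgroup G) ≤ Q := by
      rw [← h1]; exact inf_le_right
    exact Sylow.ext (P.3 Q.2 h2).symm

/-- a subgroup of prime order is generated by each of its nontrivial elements -/
theorem le_of_mem_of_card_prime (K H : Subgroup G) (hK : Nat.card K = p) (c : G) (hc : c ∈ K)
    (hc1 : c ≠ 1) (hcH : c ∈ H) : K ≤ H := by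
  have h1 : (⟨c, hc⟩ : K) ≠ 1 := fun h => hc1 (congrArg Subtype.val h)
  have h2 := zpowers_eq_top_of_prime_card (G := K) hK h1
  intro y hy
  have h3 : (⟨y, hy⟩ : K) ∈ Subgroup.zpowers (⟨c, hc⟩ : K) := by rw [h2]; trivial
  obtain ⟨k, hk⟩ := Subgroup.mem_zpowers_iff.1 h3
  have h4 : y = c ^ k := by
    have := congrArg Subtype.val hk
    simpa using this.symm
  rw [h4]
  exact zpow_mem hcH k

end Cfsg.Agent.Lib.Lead.SylSq
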