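import Mathlib
import Cfsg.Agent.Lib.Lead.SylSq
import Cfsg.Agent.Lib.Lead.O5040C
import Cfsg.Agent.Lib.Helper5.O5040D
import Cfsg.Agent.Lib.Helper4.Simple
import Cfsg.Agent.Lib.Helper4.Sylow

/-!
# No simple group of order `5880 = 2³·3·5·7²`

(author: lead)  `n₇ = 15` (`8`: index, `120`: Burnside).  Any two distinct Sylow `7`-subgroups
meet in a subgroup of order `7`, and a nontrivial element of such an intersection lies in exactly
`8` Sylow `7`-subgroups.  A purely local count then gives a contradiction.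
-/

set_option autoImplicit false
set_option linter.unusedSectionVars false
set_option linter.unusedVariables false

namespace Cfsg.Agent.Lib.Lead.O5880

open MulAction Subgroup

variable {G : Type*} [Group G] [Finite G] [IsSimpleGroup G]

theorem card_sylow7 (hn : Nat.card G = 5880) [Fact (Nat.Prime 7)] (P : Sylow 7 G) :
    Nat.card (P : Subgroup G) = 49 := by
  have h : Nat.card G = 7 ^ 2 * 120 := by rw [hn]; norm_num
  simpa using Cfsg.Agent.Lib.Helper4.Sylow.card_sylow_of_card_eq h (by norm_num) P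

theorem sylow7_arith (n : ℕ) (hdvd : n ∣ 120) (hmod : n % 7 = 1) :
    n = 1 ∨ n = 8 ∨ n = 15 ∨ n = 120 := by
  have hle : n ≤ 120 := Nat.le_of_dvd (by norm_num) hdvd
  obtain ⟨j, rfl⟩ : ∃ j, n = 7 * j + 1 := ⟨n / 7, by omega⟩
  have hj : j ≤ 17 := by omega
  interval_cases j <;> omega

theorem comm_sylow7 (hn : Nat.card G = 5880) [Fact (Nat.Prime 7)] (P : Sylow 7 G) (x y : G)
    (hx : x ∈ P) (hy : y ∈ P) : x * y = y * x := by
  have hP := card_sylow7 hn P
  have hc := IsPGroup.isMulCommutative_of_card_eq_prime_sq (p := 7) (G := (P : Subgroup G))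
    (by rw [hP]; norm_num)
  have h := hc.is_comm.comm (⟨x, hx⟩ : (P : Subgroup G)) ⟨y, hy⟩
  exact congrArg Subtype.val h

theorem card_sylow_eq (hn : Nat.card G = 5880) [Fact (Nat.Prime 7)] :
    Nat.card (Sylow 7 G) = 15 := by
  obtain ⟨P⟩ : Nonempty (Sylow 7 G) := inferInstance
  have hP := card_sylow7 hn P
  have h3 := Cfsg.Agent.Lib.Helper4.Sylow.card_sylow_mul_card_normalizer P
  rw [hn] at h3
  have h4 : Nat.card (Sylow 7 G) ≡ 1 [MOD 7] := card_sylow_modEq_one 7 G
  unfold Nat.ModEq at h4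
  have hne1 : Nat.card (Sylow 7 G) ≠ 1 :=
    Cfsg.Agent.Lib.Helper4.Sylow.card_sylow_ne_one_of_simple P (by rw [hP]; norm_num)
      (by rw [hP, hn]; norm_num)
  have hG7 : Nat.card G = 7 ^ 2 * 120 := by rw [hn]; norm_num
  have hdvd : Nat.card (Sylow 7 G) ∣ 120 :=
    Cfsg.Agent.Lib.Helper4.Sylow.card_sylow_dvd_of_card_eq hG7 (by norm_num)
  have := sylow7_arith _ hdvd (by simpa using h4)
  rcases this with h | h | h | h
  · exact absurd h hne1
  · -- index 8
    exfalso
    have hidx : (Subgroup.normalizer ((P : Subgroup G) : Set G)).index = 8 := by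
      have h0 := P.card_eq_index_normalizer
      rw [h] at h0
      exact h0.symm
    have hne : Subgroup.normalizer ((P : Subgroup G) : Set G) ≠ ⊤ := by
      intro ht
      rw [ht, Subgroup.index_top] at hidx
      norm_num at hidx
    have := Cfsg.Agent.Lib.Helper4.Simple.two_mul_card_dvd_factorial_of_simple
      (by rw [hn]; norm_num) _ hne
    rw [hidx, hn] at this
    revert this
    decide
  · exact h
  · -- N(P) = P is abelian: Burnside
    exfalso
    rw [h] at h3
    have hN : Nat.card (Subgroup.normalizer ((P : Subgroup G) : Set G)) = 49 := by omega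
    have hNP : Subgroup.normalizer ((P : Subgroup G) : Set G) = (P : Subgroup G) := by
      symm
      apply Subgroup.eq_of_le_of_card_ge Subgroup.le_normalizer
      rw [hN, hP]
    apply Cfsg.Agent.Lib.Helper4.Simple.false_of_simple_of_normalizer_le_centralizer P
    · rw [hNP]
      intro x hx
      rw [Subgroup.mem_centralizer_iff]
      intro y hy
      exact comm_sylow7 hn P y x hy hx
    · rw [hP]; norm_num
    · rw [hP, hn]; norm_num

/-- a nontrivial element of the intersection of two distinct Sylow `7`-subgroups lies in exactly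
eight Sylow `7`-subgroups -/
theorem card_fix_eq (hn : Nat.card G = 5880) [Fact (Nat.Prime 7)] (P Q : Sylow 7 G) (hne : P ≠ Q)
    (c : G) (hcP : c ∈ P) (hcQ : c ∈ Q) (hc1 : c ≠ 1) :
    Nat.card (fixedBy (Sylow 7 G) c) = 8 := by
  have h15 := card_sylow_eq (G := G) hn
  have h1 := Cfsg.Agent.Lib.Lead.SylSq.card_fixedBy_modEq_one P c
    (fun x hx => comm_sylow7 hn P c x hcP hx)
  have h2 := Cfsg.Agent.Lib.Helper5.O5040.card_fixedBy_le (X := Sylow 7 G) c
  rw [h15] at h2
  have h3 : Nat.card (fixedBy (Sylow 7 G) c) ≠ 15 := by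
    intro h
    apply hc1
    apply Cfsg.Agent.Lib.Lead.O5040.eq_one_of_forall_smul_sylow (p := 7) (by rw [h15]; norm_num) c
    intro R
    have huniv : fixedBy (Sylow 7 G) c = Set.univ := by
      apply Set.eq_of_subset_of_ncard_le (Set.subset_univ _)
      rw [Set.ncard_univ, h15, ← h, Nat.card_coe_set_eq]
    have : R ∈ fixedBy (Sylow 7 G) c := by rw [huniv]; trivial
    exact this
  have h4 : Nat.card (fixedBy (Sylow 7 G) c) ≠ 1 := by
    intro h
    rw [Nat.card_eq_one_iff_unique] at h
    have hPf : P ∈ fixedBy (Sylow 7 G) c := by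
      rw [mem_fixedBy]; exact (Cfsg.Agent.Lib.Lead.SylSq.smul_eq_iff_mem P P c hcP).2 hcP
    have hQf : Q ∈ fixedBy (Sylow 7 G) c := by
      rw [mem_fixedBy]; exact (Cfsg.Agent.Lib.Lead.SylSq.smul_eq_iff_mem P Q c hcP).2 hcQ
    have := h.1.elim ⟨P, hPf⟩ ⟨Q, hQf⟩
    exact hne (congrArg Subtype.val this)
  unfold Nat.ModEq at h1
  omega

end Cfsg.Agent.Lib.Lead.O5880
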