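import Mathlib
import Cfsg.Agent.Lib.Lead.O5880A

/-!
# No simple group of order `5880`: the final count

(author: lead)
-/

set_option autoImplicit false
set_option linter.unusedSectionVars false
set_option linter.unusedVariables false

namespace Cfsg.Agent.Lib.Lead.O5880

open MulAction Subgroup

variable {G : Type*} [Group G] [Finite G] [IsSimpleGroup G]

/-- two nontrivial elements of the intersection of two distinct Sylow `7`-subgroups lie in the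
same subgroups -/
theorem mem_of_mem (hn : Nat.card G = 5880) [Fact (Nat.Prime 7)] (P Q : Sylow 7 G) (hne : P ≠ Q)
    (c d : G) (hcP : c ∈ P) (hcQ : c ∈ Q) (hc1 : c ≠ 1) (hdP : d ∈ P) (hdQ : d ∈ Q)
    (H : Subgroup G) (hcH : c ∈ H) : d ∈ H := by
  have h15 := card_sylow_eq (G := G) hn
  have hK := Cfsg.Agent.Lib.Lead.SylSq.card_inf_eq P Q (by rw [card_sylow7 hn P]; norm_num) hne
    (by rw [h15]; norm_num)
  have hle := Cfsg.Agent.Lib.Lead.SylSq.le_of_mem_of_card_prime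
    ((P : Subgroup G) ⊓ (Q : Subgroup G)) H hK c ⟨hcP, hcQ⟩ hc1 hcH
  exact hle ⟨hdP, hdQ⟩

theorem exists_common (hn : Nat.card G = 5880) [Fact (Nat.Prime 7)] (P Q : Sylow 7 G) :
    ∃ x : G, x ∈ P ∧ x ∈ Q ∧ x ≠ 1 := by
  have h15 := card_sylow_eq (G := G) hn
  exact Cfsg.Agent.Lib.Lead.SylSq.exists_mem_inf_ne_one P Q
    (by rw [h15, card_sylow7 hn P]; norm_num)

theorem no_simple_5880 (hn : Nat.card G = 5880) : False := by
  classical
  have : Fact (Nat.Prime 7) := ⟨by norm_num⟩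
  have h15 := card_sylow_eq (G := G) hn
  have : Fintype (Sylow 7 G) := Fintype.ofFinite _
  have h15' : Fintype.card (Sylow 7 G) = 15 := by rw [← Nat.card_eq_fintype_card]; exact h15
  have hnt : Nontrivial (Sylow 7 G) := by
    rw [← Finite.one_lt_card_iff_nontrivial, h15]; norm_num
  obtain ⟨P, Q1, hPQ1⟩ := exists_pair_ne (Sylow 7 G)
  -- the filter form of fixed point sets
  have hF : ∀ (A B : Sylow 7 G) (hAB : A ≠ B) (c : G), c ∈ A → c ∈ B → c ≠ 1 →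
      (Finset.univ.filter (fun ω : Sylow 7 G => c • ω = ω)).card = 8 := by
    intro A B hAB c hcA hcB hc1
    have h0 := Cfsg.Agent.Lib.Lead.O5040.card_fixedBy_eq_filter (G := G) (p := 7) c
    rw [card_fix_eq hn A B hAB c hcA hcB hc1] at h0
    convert h0.symm
  obtain ⟨c1, hc1P, hc1Q1, hc1⟩ := exists_common hn P Q1
  set F1 := Finset.univ.filter (fun ω : Sylow 7 G => c1 • ω = ω) with hF1
  have hF1c : F1.card = 8 := hF P Q1 hPQ1 c1 hc1P hc1Q1 hc1
  -- a Sylow subgroup not containing `c1`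
  obtain ⟨Q2, hQ2⟩ : ∃ Q2 : Sylow 7 G, Q2 ∉ F1 := by
    by_contra hcon
    push Not at hcon
    have : F1 = Finset.univ := Finset.eq_univ_iff_forall.2 hcon
    rw [this, Finset.card_univ, h15'] at hF1c
    norm_num at hF1c
  have hc1Q2 : c1 ∉ Q2 := by
    intro h
    apply hQ2
    rw [hF1, Finset.mem_filter]
    exact ⟨Finset.mem_univ _, (Cfsg.Agent.Lib.Lead.SylSq.smul_eq_iff_mem P Q2 c1 hc1P).2 h⟩
  have hPQ2 : P ≠ Q2 := by
    rintro rfl; exact hc1Q2 hc1P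
  have hQ1Q2 : Q1 ≠ Q2 := by
    rintro rfl; exact hc1Q2 hc1Q1
  obtain ⟨c2, hc2P, hc2Q2, hc2⟩ := exists_common hn P Q2
  obtain ⟨c3, hc3Q1, hc3Q2, hc3⟩ := exists_common hn Q1 Q2
  set F2 := Finset.univ.filter (fun ω : Sylow 7 G => c2 • ω = ω) with hF2
  set F3 := Finset.univ.filter (fun ω : Sylow 7 G => c3 • ω = ω) with hF3
  have hF2c : F2.card = 8 := hF P Q2 hPQ2 c2 hc2P hc2Q2 hc2
  have hF3c : F3.card = 8 := hF Q1 Q2 hQ1Q2 c3 hc3Q1 hc3Q2 hc3
  -- membership in the filters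
  have hm1 : ∀ Q : Sylow 7 G, Q ∈ F1 ↔ c1 ∈ Q := by
    intro Q
    rw [hF1, Finset.mem_filter]
    simp only [Finset.mem_univ, true_and]
    exact Cfsg.Agent.Lib.Lead.SylSq.smul_eq_iff_mem P Q c1 hc1P
  have hm2 : ∀ Q : Sylow 7 G, Q ∈ F2 ↔ c2 ∈ Q := by
    intro Q
    rw [hF2, Finset.mem_filter]
    simp only [Finset.mem_univ, true_and]
    exact Cfsg.Agent.Lib.Lead.SylSq.smul_eq_iff_mem P Q c2 hc2P
  have hm3 : ∀ Q : Sylow 7 G, Q ∈ F3 ↔ c3 ∈ Q := by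
    intro Q
    rw [hF3, Finset.mem_filter]
    simp only [Finset.mem_univ, true_and]
    exact Cfsg.Agent.Lib.Lead.SylSq.smul_eq_iff_mem Q1 Q c3 hc3Q1
  -- F1 ∩ F2 ⊆ {P}
  have hA : F1 ∩ F2 ⊆ {P} := by
    intro Q hQ
    rw [Finset.mem_inter, hm1, hm2] at hQ
    rw [Finset.mem_singleton]
    by_contra hne
    exact hc1Q2 (mem_of_mem hn P Q (fun h => hne h.symm) c2 c1 hc2P hQ.2 hc2 hc1P hQ.1 Q2 hc2Q2)
  have hunion : F1 ∪ F2 = Finset.univ := by
    apply Finset.eq_univ_of_card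
    have h1 := Finset.card_union_add_card_inter F1 F2
    have h2 : (F1 ∩ F2).card ≤ 1 := by
      have := Finset.card_le_card hA
      simpa using this
    have h3 : (F1 ∪ F2).card ≤ Fintype.card (Sylow 7 G) := Finset.card_le_univ _
    omega
  -- F3 ∩ F1 ⊆ {Q1}
  have hB : ∀ Q : Sylow 7 G, Q ∈ F3 → Q ∈ F1 → Q = Q1 := by
    intro Q h3 h1
    rw [hm3] at h3
    rw [hm1] at h1
    by_contra hne
    exact hc1Q2 (mem_of_mem hn Q1 Q (fun h => hne h.symm) c3 c1 hc3Q1 h3 hc3 hc1Q1 h1 Q2 hc3Q2)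
  -- F3 ∩ F2 ⊆ {Q2}
  have hC : ∀ Q : Sylow 7 G, Q ∈ F3 → Q ∈ F2 → Q = Q2 := by
    intro Q h3 h2
    rw [hm3] at h3
    rw [hm2] at h2
    by_contra hne
    have hc2Q1 : c2 ∈ Q1 :=
      mem_of_mem hn Q2 Q (fun h => hne h.symm) c3 c2 hc3Q2 h3 hc3 hc2Q2 h2 Q1 hc3Q1
    exact hc1Q2 (mem_of_mem hn P Q1 hPQ1 c2 c1 hc2P hc2Q1 hc2 hc1P hc1Q1 Q2 hc2Q2)
  have hsub : F3 ⊆ {Q1, Q2} := by
    intro Q hQ
    have hQu : Q ∈ F1 ∪ F2 := by rw [hunion]; exact Finset.mem_univ _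
    rw [Finset.mem_union] at hQu
    rw [Finset.mem_insert, Finset.mem_singleton]
    rcases hQu with h | h
    · left; exact hB Q hQ h
    · right; exact hC Q hQ h
  have := Finset.card_le_card hsub
  have h2 : ({Q1, Q2} : Finset (Sylow 7 G)).card ≤ 2 := Finset.card_le_two
  omega

end Cfsg.Agent.Lib.Lead.O5880
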