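import Mathlib
import Cfsg.Agent.Lib.Lead.Par

/-!
# Order 720, second half: a sharply 3-transitive configuration on 10 points

General lemmas on a finite group acting on a finite set (part 1).
-/

set_option autoImplicit false
set_option linter.unusedSectionVars false

namespace Cfsg.Agent.Lib.Lead.Ord720C

open MulAction

section general

variable {G : Type*} [Group G] {Ω : Type*} [MulAction G Ω]

/-- Frattini-type count: if `K ≤ L`, `K` acts freely at `γ` and `K γ = L γ`, then
`|L| = |K| · |L_γ|`. -/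
theorem card_eq_mul_stab [Finite G] (L K : Subgroup G) (hKL : K ≤ L) (γ : Ω)
    (hreg : ∀ k ∈ K, k • γ = γ → k = 1) (htr : ∀ l ∈ L, ∃ k ∈ K, k • γ = l • γ) :
    Nat.card L = Nat.card K * Nat.card (L ⊓ stabilizer G γ : Subgroup G) := by
  rw [← Nat.card_prod]
  symm
  refine Nat.card_congr (Equiv.ofBijective
    (fun x : K × (L ⊓ stabilizer G γ : Subgroup G) =>
      (⟨(x.1 : G) * (x.2 : G), L.mul_mem (hKL x.1.2) x.2.2.1⟩ : L)) ⟨?_, ?_⟩)
  · rintro ⟨⟨k, hk⟩, ⟨t, ht⟩⟩ ⟨⟨k', hk'⟩, ⟨t', ht'⟩⟩ h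
    have h' : k * t = k' * t' := congrArg Subtype.val h
    have hkk : k'⁻¹ * k = t' * t⁻¹ := by
      rw [eq_mul_inv_iff_mul_eq, mul_assoc, h', inv_mul_cancel_left]
    have h1 : k'⁻¹ * k = 1 := by
      apply hreg _ (K.mul_mem (K.inv_mem hk') hk)
      rw [hkk]
      have : t' * t⁻¹ ∈ stabilizer G γ :=
        (stabilizer G γ).mul_mem ht'.2 ((stabilizer G γ).inv_mem ht.2)
      exact this
    have hk_eq : k = k' := by
      have := inv_mul_eq_one.1 h1
      exact this.symm
    subst hk_eq
    have ht_eq : t = t' := mul_left_cancel h'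
    subst ht_eq
    rfl
  · rintro ⟨l, hl⟩
    obtain ⟨k, hk, hkl⟩ := htr l hl
    refine ⟨⟨⟨k, hk⟩, ⟨k⁻¹ * l, L.mul_mem (L.inv_mem (hKL hk)) hl, ?_⟩⟩, ?_⟩
    · show (k⁻¹ * l) • γ = γ
      rw [mul_smul, ← hkl, inv_smul_smul]
    · apply Subtype.ext
      show k * (k⁻¹ * l) = l
      rw [mul_inv_cancel_left]

end general

section config

variable {G : Type*} [Group G] [Finite G] [IsSimpleGroup G] {Ω : Type*} [MulAction G Ω]
  [Fintype Ω] [DecidableEq Ω]
  (hG : Nat.card G = 720) (hΩ : Fintype.card Ω = 10) (o : Ω) (M P : Subgroup G)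
  (hMo : M = stabilizer G o) (hM : Nat.card M = 72) (hP : Nat.card P = 9) (hPM : P ≤ M)
  (hnorm : ∀ m ∈ M, ∀ p ∈ P, m * p * m⁻¹ ∈ P)
  (hsemi : ∀ ω : Ω, ω ≠ o → ∀ p ∈ P, p • ω = ω → p = 1)

include hΩ hP hsemi in
/-- the action is faithful -/
theorem eq_one_of_forall_smul (g : G) (h : ∀ ω : Ω, g • ω = ω) : g = 1 := by
  have hker : (MulAction.toPermHom G Ω).ker = ⊥ := by
    rcases (MonoidHom.normal_ker (MulAction.toPermHom G Ω)).eq_bot_or_eq_top with hk | hk
    · exact hk
    · exfalso
      -- a nontrivial element of `P` and a point different from `o`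
      obtain ⟨p, hp1⟩ : ∃ p : P, p ≠ 1 := by
        have : Nontrivial P := by
          rw [← Finite.one_lt_card_iff_nontrivial, hP]; norm_num
        exact exists_ne 1
      obtain ⟨ω, hω⟩ : ∃ ω : Ω, ω ≠ o := by
        have : Nontrivial Ω := by
          rw [← Fintype.one_lt_card_iff_nontrivial, hΩ]; norm_num
        exact exists_ne o
      have hmem : (p : G) ∈ (MulAction.toPermHom G Ω).ker := by rw [hk]; trivial
      have hfix : (p : G) • ω = ω := by
        have := MonoidHom.mem_ker.1 hmem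
        have h2 := congrArg (fun σ : Equiv.Perm Ω => σ ω) this
        exact h2
      exact hp1 (Subtype.ext (hsemi ω hω p p.2 hfix))
  have hmem : g ∈ (MulAction.toPermHom G Ω).ker := by
    rw [MonoidHom.mem_ker]
    ext ω
    exact h ω
  rw [hker] at hmem
  exact hmem

include hMo hPM in
theorem P_fix_o (p : G) (hp : p ∈ P) : p • o = o := by
  have := hPM hp
  rw [hMo] at this
  exact this

include hΩ hP hsemi hMo hPM in
/-- `P` is regular on the nine points different from `o` -/
theorem P_trans (β ω : Ω) (hβ : β ≠ o) (hω : ω ≠ o) : ∃ p ∈ P, p • β = ω := by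
  classical
  let f : P → {ω : Ω // ω ≠ o} := fun p => ⟨(p : G) • β, by
    intro h
    apply hβ
    have h2 : (p : G) • β = (p : G) • o := by rw [h, P_fix_o o M P hMo hPM p p.2]
    exact smul_left_cancel _ h2⟩
  have hinj : Function.Injective f := by
    intro p q hpq
    have h1 : (p : G) • β = (q : G) • β := congrArg Subtype.val hpq
    have h2 : ((q : G)⁻¹ * (p : G)) • β = β := by
      rw [mul_smul, h1, inv_smul_smul]
    have h3 := hsemi β hβ _ (P.mul_mem (P.inv_mem q.2) p.2) h2
    apply Subtype.ext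
    have := inv_mul_eq_one.1 h3
    exact this.symm
  have hcard : Nat.card {ω : Ω // ω ≠ o} ≤ Nat.card P := by
    rw [hP, Nat.card_eq_fintype_card, Fintype.card_subtype_compl, Fintype.card_subtype_eq, hΩ]
  have hbij := Function.Injective.bijective_of_nat_card_le hinj hcard
  obtain ⟨p, hp⟩ := hbij.2 ⟨ω, hω⟩
  exact ⟨p, p.2, congrArg Subtype.val hp⟩

include hΩ hP hsemi hMo hPM hM in
/-- the two-point stabiliser has order 8 -/
theorem card_H (β : Ω) (hβ : β ≠ o) : Nat.card (M ⊓ stabilizer G β : Subgroup G) = 8 := by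
  have h := card_eq_mul_stab M P hPM β (fun k hk => hsemi β hβ k hk) (by
    intro m hm
    have hmβ : m • β ≠ o := by
      intro h
      apply hβ
      have hmo : m • o = o := by rw [hMo] at hm; exact hm
      have : m • β = m • o := by rw [h, hmo]
      exact smul_left_cancel _ this
    exact P_trans hΩ o M P hMo hP hPM hsemi β (m • β) hβ hmβ)
  rw [hM, hP] at h
  omega

include hnorm hsemi hMo hPM in
/-- an element of the two-point stabiliser fixing `q β` commutes with `q ∈ P` -/
theorem comm_of_fix (β : Ω) (hβ : β ≠ o) (g : G) (hgM : g ∈ M) (hgβ : g • β = β) (q : G)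
    (hq : q ∈ P) (hfix : g • (q • β) = q • β) : g * q * g⁻¹ = q := by
  have hc : q⁻¹ * (g * q * g⁻¹) ∈ P := P.mul_mem (P.inv_mem hq) (hnorm g hgM q hq)
  have hcβ : (q⁻¹ * (g * q * g⁻¹)) • β = β := by
    have hginv : g⁻¹ • β = β := by
      rw [inv_smul_eq_iff, hgβ]
    rw [mul_smul, mul_smul, mul_smul, hginv, hfix, inv_smul_smul]
  have := hsemi β hβ _ hc hcβ
  exact (inv_mul_eq_one.1 this).symm

/-- conversely, an element of the two-point stabiliser commuting with `q` fixes `q β` -/
theorem fix_of_comm (β : Ω) (g : G) (hgβ : g • β = β) (q : G)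
    (hcomm : g * q * g⁻¹ = q) : g • (q • β) = q • β := by
  have : g * q = q * g := by
    have := congrArg (· * g) hcomm
    simpa using this
  rw [← mul_smul, this, mul_smul, hgβ]

include hΩ hP hnorm hsemi hMo hPM in
/-- fixed points of an element `g` of the two-point stabiliser: `o` and `C_P(g) β` -/
theorem card_fixedBy_H (β : Ω) (hβ : β ≠ o) (g : G) (hgM : g ∈ M) (hgβ : g • β = β) :
    Nat.card (fixedBy Ω g) =
      Nat.card (P ⊓ Subgroup.centralizer {g} : Subgroup G) + 1 := by
  classical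
  rw [← Finite.card_option]
  symm
  have hgo : g • o = o := by rw [hMo] at hgM; exact hgM
  have hcomm_of : ∀ q : (P ⊓ Subgroup.centralizer {g} : Subgroup G), g * (q : G) * g⁻¹ = q := by
    intro q
    have := Subgroup.mem_centralizer_iff.1 q.2.2 g (Set.mem_singleton g)
    rw [this, mul_inv_cancel_right]
  let f : Option (P ⊓ Subgroup.centralizer {g} : Subgroup G) → fixedBy Ω g := fun x =>
    match x with
    | none => ⟨o, hgo⟩
    | some q => ⟨(q : G) • β, fix_of_comm β g hgβ q (hcomm_of q)⟩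
  have hPo : ∀ q : G, q ∈ P → q • β ≠ o := by
    intro q hq h
    apply hβ
    have h2 : q • β = q • o := by rw [h, P_fix_o o M P hMo hPM q hq]
    exact smul_left_cancel _ h2
  refine Nat.card_congr (Equiv.ofBijective f ⟨?_, ?_⟩)
  · intro x y hxy
    cases x with
    | none =>
      cases y with
      | none => rfl
      | some q =>
        exfalso
        have : o = (q : G) • β := congrArg Subtype.val hxy
        exact hPo q q.2.1 this.symm
    | some q =>
      cases y with
      | none =>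
        exfalso
        have : (q : G) • β = o := congrArg Subtype.val hxy
        exact hPo q q.2.1 this
      | some q' =>
        have h1 : (q : G) • β = (q' : G) • β := congrArg Subtype.val hxy
        have h2 : ((q' : G)⁻¹ * (q : G)) • β = β := by
          rw [mul_smul, h1, inv_smul_smul]
        have h3 := hsemi β hβ _ (P.mul_mem (P.inv_mem q'.2.1) q.2.1) h2
        have h4 : (q : G) = q' := (inv_mul_eq_one.1 h3).symm
        exact congrArg some (Subtype.ext h4)
  · rintro ⟨ω, hω⟩
    by_cases hωo : ω = o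
    · exact ⟨none, Subtype.ext hωo.symm⟩
    · obtain ⟨q, hq, hqω⟩ := P_trans hΩ o M P hMo hP hPM hsemi β ω hβ hωo
      have hfix : g • (q • β) = q • β := by rw [hqω]; exact hω
      have hc := comm_of_fix o M P hMo hPM hnorm hsemi β hβ g hgM hgβ q hq hfix
      have hqc : q ∈ Subgroup.centralizer ({g} : Set G) := by
        rw [Subgroup.mem_centralizer_iff]
        intro h hh
        rw [Set.mem_singleton_iff] at hh
        subst hh
        have := congrArg (· * h) hc
        simpa using this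
      exact ⟨some ⟨q, hq, hqc⟩, Subtype.ext hqω⟩

include hG hΩ hM hP hnorm hsemi hMo hPM in
/-- step (C): the two-point stabiliser acts semiregularly on the remaining eight points -/
theorem H_semireg (β : Ω) (hβ : β ≠ o) (g : G) (hgM : g ∈ M) (hgβ : g • β = β) (ω : Ω)
    (hωo : ω ≠ o) (hωβ : ω ≠ β) (hfix : g • ω = ω) : g = 1 := by
  classical
  by_contra hg1
  obtain ⟨p, hp, hpω⟩ := P_trans hΩ o M P hMo hP hPM hsemi β ω hβ hωo
  have hp1 : p ≠ 1 := by
    rintro rfl
    rw [one_smul] at hpω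
    exact hωβ hpω.symm
  have hc : g * p * g⁻¹ = p :=
    comm_of_fix o M P hMo hPM hnorm hsemi β hβ g hgM hgβ p hp (by rw [hpω]; exact hfix)
  have hgp : Commute g p := by
    have := congrArg (· * g) hc
    have h2 : g * p = p * g := by simpa using this
    exact h2
  -- the order of `g`
  have hgH : g ∈ (M ⊓ stabilizer G β : Subgroup G) := ⟨hgM, hgβ⟩
  have hdvd : orderOf g ∣ 8 := by
    rw [← card_H hΩ o M P hMo hM hP hPM hsemi β hβ]
    exact Subgroup.orderOf_dvd_natCard _ hgH
  have hn1 : orderOf g ≠ 1 := by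
    rw [Ne, orderOf_eq_one_iff]; exact hg1
  have hle : orderOf g ≤ 8 := Nat.le_of_dvd (by norm_num) hdvd
  have heven : 2 ∣ orderOf g := by
    interval_cases h : orderOf g <;> simp_all
  obtain ⟨k, hk⟩ := heven
  have hk0 : 0 < k := by
    rcases Nat.eq_zero_or_pos k with h0 | h0
    · rw [h0, mul_zero] at hk
      exact absurd hk (orderOf_pos g).ne'
    · exact h0
  set g' := g ^ k with hg'
  have hg'2 : g' ^ 2 = 1 := by
    rw [hg', ← pow_mul, mul_comm, ← hk, pow_orderOf_eq_one]
  have hg'1 : g' ≠ 1 := by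
    apply pow_ne_one_of_lt_orderOf hk0.ne'
    omega
  have hg'M : g' ∈ M := M.pow_mem hgM k
  have hg'β : g' • β = β := by
    have : g' ∈ stabilizer G β := (stabilizer G β).pow_mem hgβ k
    exact this
  have hg'p : Commute g' p := hgp.pow_left k
  have hcount := card_fixedBy_H hΩ o M P hMo hP hPM hnorm hsemi β hβ g' hg'M hg'β
  set C : Subgroup G := P ⊓ Subgroup.centralizer {g'} with hC
  have hpC : p ∈ C := by
    refine ⟨hp, ?_⟩
    show p ∈ Subgroup.centralizer {g'}
    rw [Subgroup.mem_centralizer_iff]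
    intro h hh
    rw [Set.mem_singleton_iff] at hh
    subst hh
    exact hg'p.eq
  have hCdvd : Nat.card C ∣ 9 := by
    rw [← hP]
    exact Subgroup.card_dvd_of_le inf_le_left
  have hC1 : Nat.card C ≠ 1 := by
    intro h1
    have := (Subgroup.card_eq_one.1 h1)
    rw [this] at hpC
    exact hp1 (Subgroup.mem_bot.1 hpC)
  have hsign := Par.sign_toPerm_eq_one (G := G) (Ω := Ω) (by rw [hG]; norm_num) g'
  have hpar := Par.invol_parity (Ω := Ω) g' hg'2 hsign
  rw [hcount, hΩ] at hpar
  have hCle : Nat.card C ≤ 9 := Nat.le_of_dvd (by norm_num) hCdvd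
  have hcases : Nat.card C = 3 ∨ Nat.card C = 9 := by
    interval_cases h : Nat.card C <;> simp_all
  rcases hcases with h3 | h9
  · rw [h3] at hpar
    revert hpar
    decide
  · -- all ten points are fixed
    apply hg'1
    apply eq_one_of_forall_smul hΩ o P hP hsemi
    intro ω'
    by_contra hne
    have hlt : Fintype.card (fixedBy Ω g') < Fintype.card Ω :=
      Fintype.card_subtype_lt (p := fun x => x ∈ fixedBy Ω g') (x := ω') hne
    rw [← Nat.card_eq_fintype_card, hcount, h9, hΩ] at hlt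
    omega

include hG hΩ hM hP hnorm hsemi hMo hPM in
/-- a nonidentity element of the two-point stabiliser has exactly two fixed points -/
theorem card_fixedBy_H_eq_two (β : Ω) (hβ : β ≠ o) (g : G) (hgM : g ∈ M) (hgβ : g • β = β)
    (hg1 : g ≠ 1) : Nat.card (fixedBy Ω g) = 2 := by
  rw [card_fixedBy_H hΩ o M P hMo hP hPM hnorm hsemi β hβ g hgM hgβ]
  have : (P ⊓ Subgroup.centralizer {g} : Subgroup G) = ⊥ := by
    rw [Subgroup.eq_bot_iff_forall]
    intro q hq
    by_contra hq1
    apply hg1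
    have hqP : q ∈ P := hq.1
    have hqc : q ∈ Subgroup.centralizer ({g} : Set G) := hq.2
    have hcomm : g * q * g⁻¹ = q := by
      have := Subgroup.mem_centralizer_iff.1 hqc g (Set.mem_singleton g)
      rw [this, mul_inv_cancel_right]
    have hfix := fix_of_comm β g hgβ q hcomm
    have hqo : q • β ≠ o := by
      intro h
      apply hβ
      have h2 : q • β = q • o := by rw [h, P_fix_o o M P hMo hPM q hqP]
      exact smul_left_cancel _ h2
    have hqβ : q • β ≠ β := fun h => hq1 (hsemi β hβ q hqP h)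
    exact H_semireg hG hΩ o M P hMo hM hP hPM hnorm hsemi β hβ g hgM hgβ _ hqo hqβ hfix
  rw [this, Subgroup.card_bot]

include hG hΩ hM hP hnorm hsemi hMo hPM in
/-- an involution of the two-point stabiliser inverts `P` -/
theorem H_invol_inverts (β : Ω) (hβ : β ≠ o) (g : G) (hgM : g ∈ M) (hgβ : g • β = β)
    (hg2 : g ^ 2 = 1) (hg1 : g ≠ 1) (q : G) (hq : q ∈ P) : g * q * g⁻¹ = q⁻¹ := by
  have hab : ∀ a b : P, a * b = b * a :=
    (IsPGroup.isMulCommutative_of_card_eq_prime_sq (p := 3) (by rw [hP]; norm_num)).is_comm.comm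
  have hginv : g⁻¹ = g := by
    rw [inv_eq_iff_mul_eq_one, ← pow_two, hg2]
  set c := q * (g * q * g⁻¹) with hc
  have hgq : g * q * g⁻¹ ∈ P := hnorm g hgM q hq
  have hcP : c ∈ P := P.mul_mem hq hgq
  have hcomm : g * c * g⁻¹ = c := by
    have h1 : g * c * g⁻¹ = (g * q * g⁻¹) * (g * (g * q * g⁻¹) * g⁻¹) := by
      rw [hc]; group
    have h2 : g * (g * q * g⁻¹) * g⁻¹ = q := by
      rw [hginv]
      have : g * (g * q * g) * g = (g * g) * q * (g * g) := by group
      rw [this, ← pow_two, hg2, one_mul, mul_one]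
    rw [h1, h2, hc]
    have := hab ⟨g * q * g⁻¹, hgq⟩ ⟨q, hq⟩
    exact congrArg Subtype.val this
  have hfix := fix_of_comm β g hgβ c hcomm
  have hc1 : c = 1 := by
    by_contra hc1
    apply hg1
    have hco : c • β ≠ o := by
      intro h
      apply hβ
      have h2 : c • β = c • o := by rw [h, P_fix_o o M P hMo hPM c hcP]
      exact smul_left_cancel _ h2
    have hcβ : c • β ≠ β := fun h => hc1 (hsemi β hβ c hcP h)
    exact H_semireg hG hΩ o M P hMo hM hP hPM hnorm hsemi β hβ g hgM hgβ _ hco hcβ hfix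
  rw [hc] at hc1
  exact (eq_inv_of_mul_eq_one_right hc1)

include hG hΩ hM hP hnorm hsemi hMo hPM in
/-- the two-point stabiliser has at most one involution -/
theorem H_invol_unique (β : Ω) (hβ : β ≠ o) (g g' : G) (hgM : g ∈ M) (hgβ : g • β = β)
    (hg2 : g ^ 2 = 1) (hg1 : g ≠ 1) (hg'M : g' ∈ M) (hg'β : g' • β = β)
    (hg'2 : g' ^ 2 = 1) (hg'1 : g' ≠ 1) : g = g' := by
  -- a nonidentity element of `P`
  obtain ⟨q, hq1⟩ : ∃ q : P, q ≠ 1 := by
    have : Nontrivial P := by
      rw [← Finite.one_lt_card_iff_nontrivial, hP]; norm_num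
    exact exists_ne 1
  have hqne : (q : G) ≠ 1 := fun h => hq1 (Subtype.ext h)
  have h1 := H_invol_inverts hG hΩ o M P hMo hM hP hPM hnorm hsemi β hβ g hgM hgβ hg2 hg1 q q.2
  have h2 := H_invol_inverts hG hΩ o M P hMo hM hP hPM hnorm hsemi β hβ g' hg'M hg'β hg'2 hg'1
    (q : G)⁻¹ (P.inv_mem q.2)
  have hcomm : (g' * g) * q * (g' * g)⁻¹ = q := by
    have : (g' * g) * q * (g' * g)⁻¹ = g' * (g * q * g⁻¹) * g'⁻¹ := by group
    rw [this, h1, h2, inv_inv]
  have hfix := fix_of_comm β (g' * g) (by rw [mul_smul, hgβ, hg'β]) q hcomm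
  have hqo : (q : G) • β ≠ o := by
    intro h
    apply hβ
    have h2 : (q : G) • β = (q : G) • o := by rw [h, P_fix_o o M P hMo hPM q q.2]
    exact smul_left_cancel _ h2
  have hqβ : (q : G) • β ≠ β := fun h => hqne (hsemi β hβ q q.2 h)
  have hone := H_semireg hG hΩ o M P hMo hM hP hPM hnorm hsemi β hβ (g' * g)
    (M.mul_mem hg'M hgM) (by rw [mul_smul, hgβ, hg'β]) _ hqo hqβ hfix
  -- g' * g = 1 and g' ^ 2 = 1
  have hg'inv : g'⁻¹ = g' := by
    rw [inv_eq_iff_mul_eq_one, ← pow_two, hg'2]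
  have : g = g'⁻¹ := eq_inv_of_mul_eq_one_right hone
  rw [this, hg'inv]

include hG hΩ hM hP hnorm hsemi hMo hPM in
/-- nonidentity elements of the two-point stabiliser have order 2 or 4 -/
theorem H_order (β : Ω) (hβ : β ≠ o) (g : G) (hgM : g ∈ M) (hgβ : g • β = β) (hg1 : g ≠ 1) :
    orderOf g = 2 ∨ orderOf g = 4 := by
  classical
  have hgH : g ∈ (M ⊓ stabilizer G β : Subgroup G) := ⟨hgM, hgβ⟩
  have hdvd : orderOf g ∣ 8 := by
    rw [← card_H hΩ o M P hMo hM hP hPM hsemi β hβ]
    exact Subgroup.orderOf_dvd_natCard _ hgH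
  have hn1 : orderOf g ≠ 1 := by
    rw [Ne, orderOf_eq_one_iff]; exact hg1
  have hn8 : orderOf g ≠ 8 := by
    intro h8
    have hg8 : g ^ 8 = 1 := by rw [← h8]; exact pow_orderOf_eq_one g
    have hg4 : g ^ 4 ≠ 1 := by
      apply pow_ne_one_of_lt_orderOf (by norm_num)
      rw [h8]; norm_num
    have hg4M : g ^ 4 ∈ M := M.pow_mem hgM 4
    have hg4β : g ^ 4 • β = β := by
      have : g ^ 4 ∈ stabilizer G β := (stabilizer G β).pow_mem hgβ 4
      exact this
    have hgo : g • o = o := by rw [hMo] at hgM; exact hgM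
    have hfix : ∀ x : Ω, g ^ 4 • x = x → g • x = x := by
      intro x hx
      by_cases hxo : x = o
      · rw [hxo]; exact hgo
      by_cases hxβ : x = β
      · rw [hxβ]; exact hgβ
      exact absurd (H_semireg hG hΩ o M P hMo hM hP hPM hnorm hsemi β hβ (g ^ 4) hg4M hg4β x
        hxo hxβ hx) hg4
    have hsign := Par.sign_toPerm_eq_one (G := G) (Ω := Ω) (by rw [hG]; norm_num) g
    have hpar := Par.order_eight_parity (Ω := Ω) g hg8 hfix hsign
    rw [card_fixedBy_H_eq_two hG hΩ o M P hMo hM hP hPM hnorm hsemi β hβ g hgM hgβ hg1, hΩ] at hpar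
    revert hpar
    decide
  have hle : orderOf g ≤ 8 := Nat.le_of_dvd (by norm_num) hdvd
  interval_cases h : orderOf g <;> simp_all

end config

end Cfsg.Agent.Lib.Lead.Ord720C
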