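import Mathlib
import Cfsg.Agent.Lib.Lead.Par
import Cfsg.Agent.Lib.Lead.Ord720C
import Cfsg.Agent.Lib.Helper4.Sylow

/-!
# Order 720, second half, steps (D) and (E): the Sylow 2-subgroup over a two-point stabiliser
-/

set_option autoImplicit false
set_option linter.unusedSectionVars false

namespace Cfsg.Agent.Lib.Lead.Ord720D

open MulAction Cfsg.Agent.Lib.Lead Cfsg.Agent.Lib.Lead.Ord720C

/-- the hypotheses of the configuration, bundled -/
structure Hyp {G : Type*} [Group G] {Ω : Type*} [MulAction G Ω] [Fintype Ω] (o : Ω)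
    (M P : Subgroup G) : Prop where
  hG : Nat.card G = 720
  hΩ : Fintype.card Ω = 10
  hMo : M = stabilizer G o
  hM : Nat.card M = 72
  hP : Nat.card P = 9
  hPM : P ≤ M
  hnorm : ∀ m ∈ M, ∀ p ∈ P, m * p * m⁻¹ ∈ P
  hsemi : ∀ ω : Ω, ω ≠ o → ∀ p ∈ P, p • ω = ω → p = 1

section

variable {G : Type*} [Group G] [Finite G] [IsSimpleGroup G] {Ω : Type*} [MulAction G Ω]
  [Fintype Ω] [DecidableEq Ω] {o : Ω} {M P : Subgroup G} (hyp : Hyp o M P)
  {β : Ω} (hβ : β ≠ o)

/-- the two-point stabiliser -/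
def Hs (M : Subgroup G) (β : Ω) : Subgroup G := M ⊓ stabilizer G β

theorem mem_Hs {g : G} : g ∈ Hs M β ↔ g ∈ M ∧ g • β = β := Iff.rfl

include hyp hβ

theorem card_Hs : Nat.card (Hs M β) = 8 :=
  card_H hyp.hΩ o M P hyp.hMo hyp.hM hyp.hP hyp.hPM hyp.hsemi β hβ

theorem semireg {g : G} (hg : g ∈ Hs M β) {ω : Ω} (hωo : ω ≠ o) (hωβ : ω ≠ β)
    (hfix : g • ω = ω) : g = 1 :=
  H_semireg hyp.hG hyp.hΩ o M P hyp.hMo hyp.hM hyp.hP hyp.hPM hyp.hnorm hyp.hsemi β hβ g hg.1 hg.2
    ω hωo hωβ hfix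

theorem invol_unique {g g' : G} (hg : g ∈ Hs M β) (hg2 : g ^ 2 = 1) (hg1 : g ≠ 1)
    (hg' : g' ∈ Hs M β) (hg'2 : g' ^ 2 = 1) (hg'1 : g' ≠ 1) : g = g' :=
  H_invol_unique hyp.hG hyp.hΩ o M P hyp.hMo hyp.hM hyp.hP hyp.hPM hyp.hnorm hyp.hsemi β hβ g g'
    hg.1 hg.2 hg2 hg1 hg'.1 hg'.2 hg'2 hg'1

theorem order_two_or_four {g : G} (hg : g ∈ Hs M β) (hg1 : g ≠ 1) :
    orderOf g = 2 ∨ orderOf g = 4 :=
  H_order hyp.hG hyp.hΩ o M P hyp.hMo hyp.hM hyp.hP hyp.hPM hyp.hnorm hyp.hsemi β hβ g hg.1 hg.2 hg1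

theorem fix_o {g : G} (hg : g ∈ Hs M β) : g • o = o := by
  have := hg.1
  rw [hyp.hMo] at this
  exact this

theorem fix_β {g : G} (hg : g ∈ Hs M β) : g • β = β := hg.2

/-- the sign of every element is trivial -/
theorem sign_one (g : G) : Equiv.Perm.sign (MulAction.toPerm g : Equiv.Perm Ω) = 1 :=
  Par.sign_toPerm_eq_one (G := G) (Ω := Ω) (by rw [hyp.hG]; norm_num) g

/-- there is an involution in the two-point stabiliser -/
theorem exists_invol : ∃ u ∈ Hs M β, u ^ 2 = 1 ∧ u ≠ 1 := by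
  have : Fact (Nat.Prime 2) := ⟨Nat.prime_two⟩
  have h2 : 2 ∣ Nat.card (Hs M β) := by rw [card_Hs hyp hβ]; norm_num
  obtain ⟨u, hu⟩ := exists_prime_orderOf_dvd_card' 2 h2
  refine ⟨u, u.2, ?_, ?_⟩
  · have : u ^ 2 = 1 := by rw [← hu]; exact pow_orderOf_eq_one u
    exact congrArg Subtype.val this
  · intro h
    have : u = 1 := Subtype.ext h
    rw [this, orderOf_one] at hu
    norm_num at hu

end

section sylow

variable {G : Type*} [Group G] [Finite G] [IsSimpleGroup G] {Ω : Type*} [MulAction G Ω]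
  [Fintype Ω] [DecidableEq Ω] {o : Ω} {M P : Subgroup G} (hyp : Hyp o M P)
  {β : Ω} (hβ : β ≠ o) (S : Sylow 2 G) (hHS : Hs M β ≤ (S : Subgroup G))

include hyp in
theorem card_S : Nat.card (S : Subgroup G) = 16 := by
  have := Helper4.Sylow.card_sylow_of_card_eq (p := 2) (a := 4) (m := 45)
    (by rw [hyp.hG]; norm_num) (by norm_num) S
  simpa using this

include hyp hβ hHS

theorem index_Hs : ((Hs M β).subgroupOf (S : Subgroup G)).index = 2 := by
  have h1 := Subgroup.card_mul_index ((Hs M β).subgroupOf (S : Subgroup G))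
  have h2 : Nat.card ((Hs M β).subgroupOf (S : Subgroup G)) = 8 := by
    rw [Nat.card_congr (Subgroup.subgroupOfEquivOfLe hHS).toEquiv, card_Hs hyp hβ]
  rw [h2, card_S hyp S] at h1
  omega

/-- `H` is normal in `S` -/
theorem conj_mem_Hs {s h : G} (hs : s ∈ (S : Subgroup G)) (hh : h ∈ Hs M β) :
    s * h * s⁻¹ ∈ Hs M β := by
  have hn : ((Hs M β).subgroupOf (S : Subgroup G)).Normal :=
    Subgroup.normal_of_index_eq_two (index_Hs hyp hβ S hHS)
  have := hn.conj_mem ⟨h, hHS hh⟩ (by rw [Subgroup.mem_subgroupOf]; exact hh) ⟨s, hs⟩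
  rw [Subgroup.mem_subgroupOf] at this
  exact this

/-- products of two elements of `S` outside `H` lie in `H` -/
theorem mul_mem_Hs {s t : G} (hs : s ∈ (S : Subgroup G)) (ht : t ∈ (S : Subgroup G))
    (hsH : s ∉ Hs M β) (htH : t ∉ Hs M β) : s * t ∈ Hs M β := by
  have key := Subgroup.mul_mem_iff_of_index_two (index_Hs hyp hβ S hHS)
    (a := ⟨s, hs⟩) (b := ⟨t, ht⟩)
  simp only [Subgroup.mem_subgroupOf, Subgroup.coe_mul] at key
  exact key.2 ⟨fun h => absurd h hsH, fun h => absurd h htH⟩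

/-- an element of `S` maps `{o, β}` to itself -/
theorem S_perm {s : G} (hs : s ∈ (S : Subgroup G)) :
    (s • o = o ∧ s • β = β) ∨ (s • o = β ∧ s • β = o) := by
  obtain ⟨u, hu, hu2, hu1⟩ := exists_invol hyp hβ
  have hconj : s⁻¹ * u * s ∈ Hs M β := by
    have := conj_mem_Hs hyp hβ S hHS (S.inv_mem hs) hu
    simpa using this
  have hfo : u • (s • o) = s • o := by
    have h1 : (s⁻¹ * u * s) • o = o := fix_o hyp hβ hconj
    have : u • (s • o) = s • ((s⁻¹ * u * s) • o) := by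
      simp [mul_smul]
    rw [this, h1]
  have hfβ : u • (s • β) = s • β := by
    have h1 : (s⁻¹ * u * s) • β = β := fix_β hyp hβ hconj
    have : u • (s • β) = s • ((s⁻¹ * u * s) • β) := by
      simp [mul_smul]
    rw [this, h1]
  have ho : s • o = o ∨ s • o = β := by
    by_contra hcon
    rw [not_or] at hcon
    exact hu1 (semireg hyp hβ hu hcon.1 hcon.2 hfo)
  have hb : s • β = o ∨ s • β = β := by
    by_contra hcon
    rw [not_or] at hcon
    exact hu1 (semireg hyp hβ hu hcon.1 hcon.2 hfβ)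
  rcases ho with ho | ho
  · left
    refine ⟨ho, ?_⟩
    rcases hb with hb | hb
    · exfalso
      apply hβ
      have : s • β = s • o := by rw [hb, ho]
      exact smul_left_cancel _ this
    · exact hb
  · right
    refine ⟨ho, ?_⟩
    rcases hb with hb | hb
    · exact hb
    · exfalso
      apply hβ
      have : s • β = s • o := by rw [hb, ho]
      exact smul_left_cancel _ this

/-- elements of `S` outside `H` swap `o` and `β` -/
theorem S_swap {s : G} (hs : s ∈ (S : Subgroup G)) (hsH : s ∉ Hs M β) :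
    s • o = β ∧ s • β = o := by
  rcases S_perm hyp hβ S hHS hs with h | h
  · exfalso
    apply hsH
    refine ⟨?_, h.2⟩
    rw [hyp.hMo]
    exact h.1
  · exact h

/-- elements of `S` preserve the complement of `{o, β}` -/
theorem S_compl {s : G} (hs : s ∈ (S : Subgroup G)) {ω : Ω} (hωo : ω ≠ o) (hωβ : ω ≠ β) :
    s • ω ≠ o ∧ s • ω ≠ β := by
  have hinv := S_perm hyp hβ S hHS (S.inv_mem hs)
  constructor
  · intro h
    have : ω = s⁻¹ • o := by rw [← h, inv_smul_smul]
    rcases hinv with h' | h'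
    · exact hωo (this.trans h'.1)
    · exact hωβ (this.trans h'.1)
  · intro h
    have : ω = s⁻¹ • β := by rw [← h, inv_smul_smul]
    rcases hinv with h' | h'
    · exact hωβ (this.trans h'.2)
    · exact hωo (this.trans h'.2)

include hyp hβ in
/-- `H` is regular on the eight points different from `o`, `β` -/
theorem Hs_trans {γ ω : Ω} (hγo : γ ≠ o) (hγβ : γ ≠ β) (hωo : ω ≠ o) (hωβ : ω ≠ β) :
    ∃ h ∈ Hs M β, h • γ = ω := by
  classical
  let f : Hs M β → {ω : Ω // ω ≠ o ∧ ω ≠ β} := fun h => ⟨(h : G) • γ, by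
    constructor
    · intro h1
      apply hγo
      have : (h : G) • γ = (h : G) • o := by rw [h1, fix_o hyp hβ h.2]
      exact smul_left_cancel _ this
    · intro h1
      apply hγβ
      have : (h : G) • γ = (h : G) • β := by rw [h1, fix_β hyp hβ h.2]
      exact smul_left_cancel _ this⟩
  have hinj : Function.Injective f := by
    intro h h' hh
    have h1 : (h : G) • γ = (h' : G) • γ := congrArg Subtype.val hh
    have h2 : ((h' : G)⁻¹ * (h : G)) • γ = γ := by
      rw [mul_smul, h1, inv_smul_smul]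
    have h3 := semireg hyp hβ ((Hs M β).mul_mem ((Hs M β).inv_mem h'.2) h.2) hγo hγβ h2
    apply Subtype.ext
    exact (inv_mul_eq_one.1 h3).symm
  have hcard : Nat.card {ω : Ω // ω ≠ o ∧ ω ≠ β} ≤ Nat.card (Hs M β) := by
    rw [card_Hs hyp hβ, Nat.card_eq_fintype_card, Fintype.card_subtype]
    have : (Finset.univ.filter (fun ω : Ω => ω ≠ o ∧ ω ≠ β)) = (Finset.univ.erase o).erase β := by
      ext x; simp [and_comm]
    rw [this, Finset.card_erase_of_mem (by simp [hβ]), Finset.card_erase_of_mem (by simp),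
      Finset.card_univ, hyp.hΩ]
  have hbij := Function.Injective.bijective_of_nat_card_le hinj hcard
  obtain ⟨h, hh⟩ := hbij.2 ⟨ω, hωo, hωβ⟩
  exact ⟨h, h.2, congrArg Subtype.val hh⟩

include hyp hβ hHS in
/-- the stabiliser in `S` of a point `γ ∉ {o, β}` has order 2 -/
theorem card_S_stab {γ : Ω} (hγo : γ ≠ o) (hγβ : γ ≠ β) :
    Nat.card ((S : Subgroup G) ⊓ stabilizer G γ : Subgroup G) = 2 := by
  have h := card_eq_mul_stab (S : Subgroup G) (Hs M β) hHS γ
    (fun k hk hfix => semireg hyp hβ hk hγo hγβ hfix)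
    (by
      intro l hl
      obtain ⟨h1, h2⟩ := S_compl hyp hβ S hHS hl hγo hγβ
      exact Hs_trans hyp hβ S hHS hγo hγβ h1 h2)
  rw [card_S hyp S, card_Hs hyp hβ] at h
  omega

include hyp hβ hHS in
/-- the involution `v` generating the stabiliser in `S` of `γ` -/
theorem exists_v {γ : Ω} (hγo : γ ≠ o) (hγβ : γ ≠ β) :
    ∃ v ∈ (S : Subgroup G), v • γ = γ ∧ v ^ 2 = 1 ∧ v ≠ 1 ∧ v ∉ Hs M β ∧
      ∀ t ∈ (S : Subgroup G), t • γ = γ → t = 1 ∨ t = v := by
  have hc := card_S_stab hyp hβ S hHS hγo hγβ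
  obtain ⟨v, hv1, hvuniq⟩ := (Nat.card_eq_two_iff' (1 : ((S : Subgroup G) ⊓ stabilizer G γ : Subgroup G))).1 hc
  have hvS : (v : G) ∈ (S : Subgroup G) := v.2.1
  have hvγ : (v : G) • γ = γ := v.2.2
  have hvne : (v : G) ≠ 1 := fun h => hv1 (Subtype.ext h)
  have hall : ∀ t ∈ (S : Subgroup G), t • γ = γ → t = 1 ∨ t = (v : G) := by
    intro t htS htγ
    by_cases ht1 : t = 1
    · exact Or.inl ht1
    · right
      have := hvuniq ⟨t, htS, htγ⟩ (fun h => ht1 (congrArg Subtype.val h))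
      exact congrArg Subtype.val this
  refine ⟨v, hvS, hvγ, ?_, hvne, ?_, hall⟩
  · -- v ^ 2 fixes γ and lies in S, so it is 1 or v
    have h2S : (v : G) ^ 2 ∈ (S : Subgroup G) := (S : Subgroup G).pow_mem hvS 2
    have h2γ : (v : G) ^ 2 • γ = γ := by
      rw [pow_two, mul_smul, hvγ, hvγ]
    rcases hall _ h2S h2γ with h | h
    · exact h
    · exfalso
      apply hvne
      have : (v : G) * (v : G) = (v : G) := by rw [← pow_two]; exact h
      exact mul_left_cancel (this.trans (mul_one _).symm)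
  · intro hvH
    exact hvne (semireg hyp hβ hvH hγo hγβ hvγ)

include hyp hβ hHS in
/-- fixed points of `v` correspond to `C_H(v)` -/
theorem card_fixedBy_v {γ : Ω} (hγo : γ ≠ o) (hγβ : γ ≠ β) {v : G}
    (hvS : v ∈ (S : Subgroup G)) (hvγ : v • γ = γ) (hv1 : v ≠ 1) (hvH : v ∉ Hs M β)
    (hall : ∀ t ∈ (S : Subgroup G), t • γ = γ → t = 1 ∨ t = v) :
    Nat.card (fixedBy Ω v) = Nat.card (Hs M β ⊓ Subgroup.centralizer {v} : Subgroup G) := by
  symm
  have hswap := S_swap hyp hβ S hHS hvS hvH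
  have hcomm : ∀ h : (Hs M β ⊓ Subgroup.centralizer {v} : Subgroup G), v * (h : G) = (h : G) * v := by
    intro h
    exact Subgroup.mem_centralizer_iff.1 h.2.2 v (Set.mem_singleton v)
  let f : (Hs M β ⊓ Subgroup.centralizer {v} : Subgroup G) → fixedBy Ω v := fun h =>
    ⟨(h : G) • γ, by
      show v • ((h : G) • γ) = (h : G) • γ
      rw [← mul_smul, hcomm h, mul_smul, hvγ]⟩
  refine Nat.card_congr (Equiv.ofBijective f ⟨?_, ?_⟩)
  · intro h h' hh
    have h1 : (h : G) • γ = (h' : G) • γ := congrArg Subtype.val hh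
    have h2 : ((h' : G)⁻¹ * (h : G)) • γ = γ := by
      rw [mul_smul, h1, inv_smul_smul]
    have h3 := semireg hyp hβ ((Hs M β).mul_mem ((Hs M β).inv_mem h'.2.1) h.2.1) hγo hγβ h2
    apply Subtype.ext
    exact (inv_mul_eq_one.1 h3).symm
  · rintro ⟨ω, hω⟩
    have hω' : v • ω = ω := hω
    have hωo : ω ≠ o := by
      intro h
      rw [h, hswap.1] at hω'
      exact hβ hω'
    have hωβ : ω ≠ β := by
      intro h
      rw [h, hswap.2] at hω'
      exact hβ hω'.symm
    obtain ⟨h, hh, hhω⟩ := Hs_trans hyp hβ S hHS hγo hγβ hωo hωβ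
    have hfix : (h⁻¹ * v * h) • γ = γ := by
      rw [mul_smul, mul_smul, hhω, hω', ← hhω, inv_smul_smul]
    have hmem : h⁻¹ * v * h ∈ (S : Subgroup G) :=
      (S : Subgroup G).mul_mem ((S : Subgroup G).mul_mem ((S : Subgroup G).inv_mem (hHS hh)) hvS)
        (hHS hh)
    have hv' : h⁻¹ * v * h = v := by
      rcases hall _ hmem hfix with h1 | h1
      · exfalso
        apply hv1
        have : v = h * (h⁻¹ * v * h) * h⁻¹ := by group
        rw [this, h1]; group
      · exact h1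
    have hc : h ∈ Subgroup.centralizer ({v} : Set G) := by
      rw [Subgroup.mem_centralizer_iff]
      intro x hx
      rw [Set.mem_singleton_iff] at hx
      subst hx
      have : x * h = h * (h⁻¹ * x * h) := by group
      rw [this, hv']
    exact ⟨⟨h, hh, hc⟩, Subtype.ext hhω⟩

include hyp hβ hHS in
/-- `C_H(v) = {1, u}` -/
theorem centralizer_v {γ : Ω} (hγo : γ ≠ o) (hγβ : γ ≠ β) {v : G}
    (hvS : v ∈ (S : Subgroup G)) (hvγ : v • γ = γ) (hv2 : v ^ 2 = 1) (hv1 : v ≠ 1)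
    (hvH : v ∉ Hs M β) (hall : ∀ t ∈ (S : Subgroup G), t • γ = γ → t = 1 ∨ t = v)
    {u : G} (hu : u ∈ Hs M β) (hu2 : u ^ 2 = 1) (hu1 : u ≠ 1) :
    v * u = u * v ∧ ∀ h ∈ Hs M β, v * h = h * v → h = 1 ∨ h = u := by
  have hvinv : v⁻¹ = v := by
    rw [inv_eq_iff_mul_eq_one, ← pow_two, hv2]
  -- `v u v⁻¹` is an involution of `H`
  have hconj : v * u * v⁻¹ ∈ Hs M β := conj_mem_Hs hyp hβ S hHS hvS hu
  have hconj2 : (v * u * v⁻¹) ^ 2 = 1 := by
    rw [conj_pow, hu2]; group
  have hconj1 : v * u * v⁻¹ ≠ 1 := by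
    intro h
    apply hu1
    have : u = v⁻¹ * (v * u * v⁻¹) * v := by group
    rw [this, h]; group
  have hvu : v * u * v⁻¹ = u := invol_unique hyp hβ hconj hconj2 hconj1 hu hu2 hu1
  have hvu' : v * u = u * v := by
    have := congrArg (· * v) hvu
    simpa using this
  refine ⟨hvu', ?_⟩
  set C : Subgroup G := Hs M β ⊓ Subgroup.centralizer {v} with hC
  have huC : u ∈ C := by
    refine ⟨hu, ?_⟩
    show u ∈ Subgroup.centralizer {v}
    rw [Subgroup.mem_centralizer_iff]
    intro x hx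
    rw [Set.mem_singleton_iff] at hx
    subst hx
    exact hvu'
  have hcount := card_fixedBy_v hyp hβ S hHS hγo hγβ hvS hvγ hv1 hvH hall
  have hpar := Par.invol_parity (Ω := Ω) v hv2 (sign_one hyp hβ v)
  rw [hcount, hyp.hΩ] at hpar
  have hdvd : Nat.card C ∣ 8 := by
    rw [← card_Hs hyp hβ]
    exact Subgroup.card_dvd_of_le inf_le_left
  have hC1 : Nat.card C ≠ 1 := by
    intro h1
    have := Subgroup.card_eq_one.1 h1
    rw [this] at huC
    exact hu1 (Subgroup.mem_bot.1 huC)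
  have hle : Nat.card C ≤ 8 := Nat.le_of_dvd (by norm_num) hdvd
  have hC2 : Nat.card C = 2 := by
    interval_cases h : Nat.card C <;> simp_all <;> revert hpar <;> decide
  obtain ⟨w, hw1, hwuniq⟩ := (Nat.card_eq_two_iff' (1 : C)).1 hC2
  intro h hh hcomm
  by_cases h1 : h = 1
  · exact Or.inl h1
  · right
    have hhC : h ∈ C := by
      refine ⟨hh, ?_⟩
      show h ∈ Subgroup.centralizer {v}
      rw [Subgroup.mem_centralizer_iff]
      intro x hx
      rw [Set.mem_singleton_iff] at hx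
      subst hx
      exact hcomm
    have e1 := hwuniq ⟨h, hhC⟩ (fun hh1 => h1 (congrArg Subtype.val hh1))
    have e2 := hwuniq ⟨u, huC⟩ (fun hh1 => hu1 (congrArg Subtype.val hh1))
    have := e1.trans e2.symm
    exact congrArg Subtype.val this

/-- existence of a point outside `{o, β}` -/
theorem exists_third (hΩ : Fintype.card Ω = 10) (o β : Ω) : ∃ γ : Ω, γ ≠ o ∧ γ ≠ β := by
  classical
  by_contra hcon
  have hsub : (Finset.univ : Finset Ω) ⊆ {o, β} := by
    intro x _
    by_contra hx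
    apply hcon
    refine ⟨x, ?_, ?_⟩
    · intro h; apply hx; rw [h]; simp
    · intro h; apply hx; rw [h]; simp
  have := Finset.card_le_card hsub
  rw [Finset.card_univ, hΩ] at this
  have h2 : ({o, β} : Finset Ω).card ≤ 2 := Finset.card_le_two
  omega

end sylow

end Cfsg.Agent.Lib.Lead.Ord720D
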