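import Mathlib
import Cfsg.Agent.Lib.Lead.Par
import Cfsg.Agent.Lib.Lead.Ord720C
import Cfsg.Agent.Lib.Lead.Ord720D
import Cfsg.Agent.S3225

/-!
# Order 720, second half, steps (D) (continued) and (E)
-/

set_option autoImplicit false
set_option linter.unusedSectionVars false
set_option linter.unnecessarySeqFocus false

namespace Cfsg.Agent.Lib.Lead.Ord720E

open MulAction Cfsg.Agent.Lib.Lead Cfsg.Agent.Lib.Lead.Ord720C Cfsg.Agent.Lib.Lead.Ord720D

section

variable {G : Type*} [Group G] [Finite G] [IsSimpleGroup G] {Ω : Type*} [MulAction G Ω]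
  [Fintype Ω] [DecidableEq Ω] {o : Ω} {M P : Subgroup G} (hyp : Hyp o M P)
  {β : Ω} (hβ : β ≠ o) (S : Sylow 2 G) (hHS : Hs M β ≤ (S : Subgroup G))
  {γ : Ω} (hγo : γ ≠ o) (hγβ : γ ≠ β) {v : G}
  (hvS : v ∈ (S : Subgroup G)) (hvγ : v • γ = γ) (hv2 : v ^ 2 = 1) (hv1 : v ≠ 1)
  (hvH : v ∉ Hs M β) (hall : ∀ t ∈ (S : Subgroup G), t • γ = γ → t = 1 ∨ t = v)
  {u : G} (hu : u ∈ Hs M β) (hu2 : u ^ 2 = 1) (hu1 : u ≠ 1)

include hyp hβ hu hu2 hu1 in
/-- the involution of `H` is central in `H` -/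
theorem u_central {h : G} (hh : h ∈ Hs M β) : h * u * h⁻¹ = u := by
  have hconj : h * u * h⁻¹ ∈ Hs M β :=
    (Hs M β).mul_mem ((Hs M β).mul_mem hh hu) ((Hs M β).inv_mem hh)
  have hconj2 : (h * u * h⁻¹) ^ 2 = 1 := by
    rw [conj_pow, hu2]; group
  have hconj1 : h * u * h⁻¹ ≠ 1 := by
    intro h1
    apply hu1
    have : u = h⁻¹ * (h * u * h⁻¹) * h := by group
    rw [this, h1]; group
  exact invol_unique hyp hβ hconj hconj2 hconj1 hu hu2 hu1

include hyp hβ hu hu2 hu1 in
/-- elements of `H` other than `1`, `u` have order 4 and square `u` -/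
theorem order_four {x : G} (hx : x ∈ Hs M β) (hx1 : x ≠ 1) (hxu : x ≠ u) :
    orderOf x = 4 ∧ x ^ 2 = u := by
  have h4 : orderOf x = 4 := by
    rcases order_two_or_four hyp hβ hx hx1 with h | h
    · exfalso
      apply hxu
      have hx2 : x ^ 2 = 1 := by rw [← h]; exact pow_orderOf_eq_one x
      exact invol_unique hyp hβ hx hx2 hx1 hu hu2 hu1
    · exact h
  refine ⟨h4, ?_⟩
  have hsq : (x ^ 2) ^ 2 = 1 := by
    rw [← pow_mul]
    have : x ^ 4 = 1 := by rw [← h4]; exact pow_orderOf_eq_one x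
    exact this
  have hsq1 : x ^ 2 ≠ 1 := by
    apply pow_ne_one_of_lt_orderOf (by norm_num)
    rw [h4]; norm_num
  exact invol_unique hyp hβ ((Hs M β).pow_mem hx 2) hsq hsq1 hu hu2 hu1

include hyp hβ hHS hγo hγβ hvS hvγ hv2 hv1 hvH hall hu hu2 hu1 in
/-- a conjugate of `v` under `H` different from `v` and `v u` -/
theorem exists_h0 : ∃ h ∈ Hs M β, h * v * h⁻¹ ≠ v ∧ h * v * h⁻¹ ≠ v * u := by
  obtain ⟨hvu, hcent⟩ := centralizer_v hyp hβ S hHS hγo hγβ hvS hvγ hv2 hv1 hvH hall hu hu2 hu1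
  -- an element of `H` outside `{1, u}`
  have hzu : Nat.card (Subgroup.zpowers u) = 2 := by
    rw [Nat.card_zpowers]
    exact orderOf_eq_prime hu2 hu1
  obtain ⟨x, hxH, hxu⟩ : ∃ x ∈ Hs M β, x ∉ Subgroup.zpowers u := by
    by_contra hcon
    have hle : Hs M β ≤ Subgroup.zpowers u := by
      intro x hx
      by_contra hx'
      exact hcon ⟨x, hx, hx'⟩
    have := Subgroup.card_le_of_le hle
    rw [card_Hs hyp hβ, hzu] at this
    omega
  have hx1 : x ≠ 1 := by
    rintro rfl
    exact hxu (Subgroup.one_mem _)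
  have hxu' : x ≠ u := by
    rintro rfl
    exact hxu (Subgroup.mem_zpowers _)
  obtain ⟨hx4, hxsq⟩ := order_four hyp hβ hu hu2 hu1 hxH hx1 hxu'
  -- conjugation by `h` fixes `v` iff `h` commutes with `v`
  have hne_v : ∀ h ∈ Hs M β, h ≠ 1 → h ≠ u → h * v * h⁻¹ ≠ v := by
    intro h hh h1 hu' hc
    have hcomm : v * h = h * v := by
      have := congrArg (· * h) hc
      simp only [inv_mul_cancel_right] at this
      exact this.symm
    rcases hcent h hh hcomm with h' | h'
    · exact h1 h'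
    · exact hu' h'
  by_cases hcase : x * v * x⁻¹ = v * u
  · -- second try: an element outside `⟨x⟩`
    have hzx : Nat.card (Subgroup.zpowers x) = 4 := by
      rw [Nat.card_zpowers, hx4]
    obtain ⟨y, hyH, hyx⟩ : ∃ y ∈ Hs M β, y ∉ Subgroup.zpowers x := by
      by_contra hcon
      have hle : Hs M β ≤ Subgroup.zpowers x := by
        intro y hy
        by_contra hy'
        exact hcon ⟨y, hy, hy'⟩
      have := Subgroup.card_le_of_le hle
      rw [card_Hs hyp hβ, hzx] at this
      omega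
    have hy1 : y ≠ 1 := by
      rintro rfl
      exact hyx (Subgroup.one_mem _)
    have hyu : y ≠ u := by
      rintro rfl
      apply hyx
      rw [← hxsq]
      exact Subgroup.pow_mem _ (Subgroup.mem_zpowers x) 2
    refine ⟨y, hyH, hne_v y hyH hy1 hyu, ?_⟩
    intro hcase'
    -- then `y⁻¹ x` commutes with `v`
    have hyuc : y * u * y⁻¹ = u := u_central hyp hβ hu hu2 hu1 hyH
    have hyuc' : y⁻¹ * u * y = u := by
      have : y⁻¹ * (y * u * y⁻¹) * y = u := by group
      rw [hyuc] at this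
      exact this
    have huinv : u⁻¹ = u := by
      rw [inv_eq_iff_mul_eq_one, ← pow_two, hu2]
    have hyv : y⁻¹ * v * y = v * u := by
      -- from `y v y⁻¹ = v u`
      have h1 : v = y⁻¹ * (v * u) * y := by
        rw [← hcase']; group
      have h2 : y⁻¹ * (v * u) * y = (y⁻¹ * v * y) * (y⁻¹ * u * y) := by group
      rw [h2, hyuc'] at h1
      -- v = (y⁻¹ v y) u
      have h3 : y⁻¹ * v * y = v * u⁻¹ := by
        rw [eq_mul_inv_iff_mul_eq]; exact h1.symm
      rw [h3, huinv]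
    have hcomm : (y⁻¹ * x) * v * (y⁻¹ * x)⁻¹ = v := by
      have h1 : (y⁻¹ * x) * v * (y⁻¹ * x)⁻¹ = y⁻¹ * (x * v * x⁻¹) * y := by group
      rw [h1, hcase]
      have h2 : y⁻¹ * (v * u) * y = (y⁻¹ * v * y) * (y⁻¹ * u * y) := by group
      rw [h2, hyv, hyuc', mul_assoc, ← pow_two, hu2, mul_one]
    have hmem : y⁻¹ * x ∈ Hs M β := (Hs M β).mul_mem ((Hs M β).inv_mem hyH) hxH
    have hcomm' : v * (y⁻¹ * x) = (y⁻¹ * x) * v := by
      have := congrArg (· * (y⁻¹ * x)) hcomm
      simp only [inv_mul_cancel_right] at this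
      exact this.symm
    apply hyx
    rcases hcent _ hmem hcomm' with h' | h'
    · have : y = x := by
        have := congrArg (y * ·) h'
        simpa using this.symm
      rw [this]; exact Subgroup.mem_zpowers x
    · -- y⁻¹ x = u = x², so y = x * u⁻¹ ∈ ⟨x⟩
      have : y = x * u⁻¹ := by
        rw [eq_mul_inv_iff_mul_eq, ← h']; group
      rw [this, ← hxsq]
      exact Subgroup.mul_mem _ (Subgroup.mem_zpowers x)
        (Subgroup.inv_mem _ (Subgroup.pow_mem _ (Subgroup.mem_zpowers x) 2))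
  · exact ⟨x, hxH, hne_v x hxH hx1 hxu', hcase⟩

include hyp hβ hHS hγo hγβ hvS hvγ hv2 hv1 hvH hall hu hu2 hu1 in
/-- an element `r ∈ H` of order 4 inverted by `v` -/
theorem exists_r : ∃ r ∈ Hs M β, orderOf r = 4 ∧ r ^ 2 = u ∧ v * r * v⁻¹ = r⁻¹ := by
  obtain ⟨h, hh, hne1, hne2⟩ :=
    exists_h0 hyp hβ S hHS hγo hγβ hvS hvγ hv2 hv1 hvH hall hu hu2 hu1
  have hvinv : v⁻¹ = v := by
    rw [inv_eq_iff_mul_eq_one, ← pow_two, hv2]
  have hvv : v * v = 1 := by rw [← pow_two, hv2]
  set v3 := h * v * h⁻¹ with hv3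
  have hv3sq : v3 * v3 = 1 := by
    rw [hv3]
    have : h * v * h⁻¹ * (h * v * h⁻¹) = h * (v * v) * h⁻¹ := by group
    rw [this, hvv]; group
  have hv3inv : v3⁻¹ = v3 := by
    rw [inv_eq_iff_mul_eq_one, hv3sq]
  have hrH : v * v3 ∈ Hs M β := by
    have h1 : v * v3 = (v * h * v⁻¹) * h⁻¹ := by
      rw [hv3, hvinv]; group
    rw [h1]
    exact (Hs M β).mul_mem (conj_mem_Hs hyp hβ S hHS hvS hh) ((Hs M β).inv_mem hh)
  have hr1 : v * v3 ≠ 1 := by
    intro h1
    apply hne1
    have : v3 = v⁻¹ := eq_inv_of_mul_eq_one_right h1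
    rw [this, hvinv]
  have hru : v * v3 ≠ u := by
    intro h1
    apply hne2
    have : v3 = v⁻¹ * u := by
      rw [← h1]; group
    rw [this, hvinv]
  obtain ⟨h4, hsq⟩ := order_four hyp hβ hu hu2 hu1 hrH hr1 hru
  refine ⟨v * v3, hrH, h4, hsq, ?_⟩
  rw [mul_inv_rev, hv3inv, hvinv]
  have : v * (v * v3) * v = (v * v) * v3 * v := by group
  rw [this, hvv, one_mul]

end

section M0

variable {G : Type*} [Group G] {v r : G} (hv2 : v ^ 2 = 1) (hvr : v * r * v⁻¹ = r⁻¹)

include hvr in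
theorem conj_zpowers {t : G} (ht : t ∈ Subgroup.zpowers r) : v * t * v⁻¹ = t⁻¹ := by
  obtain ⟨k, rfl⟩ := ht
  have : v * r ^ k * v⁻¹ = (v * r * v⁻¹) ^ k := by
    rw [conj_zpow]
  rw [this, hvr, inv_zpow]

include hv2 in
theorem v_inv : v⁻¹ = v := by
  rw [inv_eq_iff_mul_eq_one, ← pow_two, hv2]

/-- the dihedral subgroup `⟨r⟩ ∪ v⟨r⟩` -/
def M0 (hv2 : v ^ 2 = 1) (hvr : v * r * v⁻¹ = r⁻¹) : Subgroup G where
  carrier := {s | s ∈ Subgroup.zpowers r ∨ v * s ∈ Subgroup.zpowers r}
  one_mem' := Or.inl (Subgroup.one_mem _)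
  mul_mem' := by
    intro a b ha hb
    have hvi := v_inv hv2
    rcases ha with ha | ha <;> rcases hb with hb | hb
    · exact Or.inl (Subgroup.mul_mem _ ha hb)
    · right
      have h1 : v * (a * b) = (v * a * v⁻¹) * (v * b) := by group
      rw [h1, conj_zpowers hvr ha]
      exact Subgroup.mul_mem _ (Subgroup.inv_mem _ ha) hb
    · right
      rw [← mul_assoc]
      exact Subgroup.mul_mem _ ha hb
    · left
      have h1 : a * b = v ^ 2 * (a * b) := by rw [hv2, one_mul]
      have h2 : v ^ 2 * (a * b) = (v * (v * a) * v⁻¹) * (v * b) := by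
        rw [pow_two]; simp only [mul_assoc, inv_mul_cancel_left]
      rw [h1, h2, conj_zpowers hvr ha]
      exact Subgroup.mul_mem _ (Subgroup.inv_mem _ ha) hb
  inv_mem' := by
    intro a ha
    have hvi := v_inv hv2
    rcases ha with ha | ha
    · exact Or.inl (Subgroup.inv_mem _ ha)
    · right
      have h1 : v * a⁻¹ = (v * (v * a) * v⁻¹)⁻¹ * (v * v) := by group
      have h2 : v * v = 1 := by rw [← pow_two, hv2]
      rw [h1, h2, mul_one, conj_zpowers hvr ha, inv_inv]
      exact ha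

theorem mem_M0 {s : G} :
    s ∈ M0 hv2 hvr ↔ s ∈ Subgroup.zpowers r ∨ v * s ∈ Subgroup.zpowers r := Iff.rfl

/-- elements of `M0` outside `⟨r⟩` are involutions -/
theorem sq_eq_one_of_mem_M0 {s : G} (hs : s ∈ M0 hv2 hvr) (hsr : s ∉ Subgroup.zpowers r) :
    s ^ 2 = 1 := by
  rcases hs with hs | hs
  · exact absurd hs hsr
  · have hvi := v_inv hv2
    have h1 : s ^ 2 = v ^ 2 * s ^ 2 := by rw [hv2, one_mul]
    have h2 : v ^ 2 * s ^ 2 = (v * (v * s) * v⁻¹) * (v * s) := by
      rw [pow_two, pow_two]; simp only [mul_assoc, inv_mul_cancel_left]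
    rw [h1, h2, conj_zpowers hvr hs, inv_mul_cancel]

/-- `|M0| = 2 |⟨r⟩|` when `v ∉ ⟨r⟩` -/
theorem card_M0 [Finite G] (hvr' : v ∉ Subgroup.zpowers r) :
    Nat.card (M0 hv2 hvr) = 2 * Nat.card (Subgroup.zpowers r) := by
  classical
  rw [two_mul, ← Nat.card_sum]
  symm
  let f : (Subgroup.zpowers r) ⊕ (Subgroup.zpowers r) → M0 hv2 hvr := fun x =>
    match x with
    | Sum.inl t => ⟨t, Or.inl t.2⟩
    | Sum.inr t => ⟨v⁻¹ * t, Or.inr (by rw [mul_inv_cancel_left]; exact t.2)⟩
  refine Nat.card_congr (Equiv.ofBijective f ⟨?_, ?_⟩)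
  · intro x y hxy
    cases x with
    | inl t =>
      cases y with
      | inl t' =>
        have h0 := congrArg Subtype.val hxy
        change (t : G) = t' at h0
        exact congrArg Sum.inl (Subtype.ext h0)
      | inr t' =>
        exfalso
        have h1 := congrArg Subtype.val hxy
        change (t : G) = v⁻¹ * t' at h1
        apply hvr'
        have : v = (t' : G) * (t : G)⁻¹ := by rw [h1]; group
        rw [this]
        exact Subgroup.mul_mem _ t'.2 (Subgroup.inv_mem _ t.2)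
    | inr t =>
      cases y with
      | inl t' =>
        exfalso
        have h1 := congrArg Subtype.val hxy
        change v⁻¹ * (t : G) = t' at h1
        apply hvr'
        have : v = (t : G) * (t' : G)⁻¹ := by rw [← h1]; group
        rw [this]
        exact Subgroup.mul_mem _ t.2 (Subgroup.inv_mem _ t'.2)
      | inr t' =>
        have h1 := congrArg Subtype.val hxy
        change v⁻¹ * (t : G) = v⁻¹ * t' at h1
        exact congrArg Sum.inr (Subtype.ext (mul_left_cancel h1))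
  · rintro ⟨s, hs⟩
    rcases hs with hs | hs
    · exact ⟨Sum.inl ⟨s, hs⟩, rfl⟩
    · refine ⟨Sum.inr ⟨v * s, hs⟩, ?_⟩
      apply Subtype.ext
      show v⁻¹ * (v * s) = s
      rw [inv_mul_cancel_left]

end M0

section final

variable {G : Type*} [Group G] [Finite G] [IsSimpleGroup G] {Ω : Type*} [MulAction G Ω]
  [Fintype Ω] [DecidableEq Ω] {o : Ω} {M P : Subgroup G} (hyp : Hyp o M P)
  {β : Ω} (hβ : β ≠ o) (S : Sylow 2 G) (hHS : Hs M β ≤ (S : Subgroup G))
  {γ : Ω} (hγo : γ ≠ o) (hγβ : γ ≠ β) {v : G}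
  (hvS : v ∈ (S : Subgroup G)) (hvγ : v • γ = γ) (hv2 : v ^ 2 = 1) (hv1 : v ≠ 1)
  (hvH : v ∉ Hs M β) (hall : ∀ t ∈ (S : Subgroup G), t • γ = γ → t = 1 ∨ t = v)
  {u : G} (hu : u ∈ Hs M β) (hu2 : u ^ 2 = 1) (hu1 : u ≠ 1)
  {r : G} (hr : r ∈ Hs M β) (hr4 : orderOf r = 4) (hru : r ^ 2 = u) (hvr : v * r * v⁻¹ = r⁻¹)

include hr in
theorem R_le : Subgroup.zpowers r ≤ Hs M β := by
  rw [Subgroup.zpowers_le]; exact hr

include hr4 in
theorem card_R : Nat.card (Subgroup.zpowers r) = 4 := by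
  rw [Nat.card_zpowers, hr4]

include hyp hβ hr hr4 in
theorem index_R : ((Subgroup.zpowers r).subgroupOf (Hs M β)).index = 2 := by
  have h1 := Subgroup.card_mul_index ((Subgroup.zpowers r).subgroupOf (Hs M β))
  have h2 : Nat.card ((Subgroup.zpowers r).subgroupOf (Hs M β)) = 4 := by
    rw [Nat.card_congr (Subgroup.subgroupOfEquivOfLe (R_le hr)).toEquiv, card_R hr4]
  rw [h2, card_Hs hyp hβ] at h1
  omega

include hyp hβ hr hr4 in
/-- `⟨r⟩` is normal in `H` -/
theorem R_normal {h t : G} (hh : h ∈ Hs M β) (ht : t ∈ Subgroup.zpowers r) :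
    h * t * h⁻¹ ∈ Subgroup.zpowers r := by
  have hn : ((Subgroup.zpowers r).subgroupOf (Hs M β)).Normal :=
    Subgroup.normal_of_index_eq_two (index_R hyp hβ hr hr4)
  have := hn.conj_mem ⟨t, R_le hr ht⟩ (by rw [Subgroup.mem_subgroupOf]; exact ht) ⟨h, hh⟩
  rw [Subgroup.mem_subgroupOf] at this
  exact this

include hyp hβ hr hr4 in
theorem R_mul_iff {a b : G} (ha : a ∈ Hs M β) (hb : b ∈ Hs M β) :
    a * b ∈ Subgroup.zpowers r ↔ (a ∈ Subgroup.zpowers r ↔ b ∈ Subgroup.zpowers r) := by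
  have key := Subgroup.mul_mem_iff_of_index_two (index_R hyp hβ hr hr4)
    (a := ⟨a, ha⟩) (b := ⟨b, hb⟩)
  simp only [Subgroup.mem_subgroupOf, Subgroup.coe_mul] at key
  exact key

include hr hvH in
theorem v_notMem_R : v ∉ Subgroup.zpowers r := fun h => hvH (R_le hr h)

include hr hvS hHS in
theorem M0_le : M0 hv2 hvr ≤ (S : Subgroup G) := by
  intro s hs
  rcases hs with hs | hs
  · exact hHS (R_le hr hs)
  · have : s = v⁻¹ * (v * s) := by group
    rw [this]
    exact (S : Subgroup G).mul_mem ((S : Subgroup G).inv_mem hvS) (hHS (R_le hr hs))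

include hyp hr hr4 hvS hHS hvH in
theorem relIndex_M0 : (M0 hv2 hvr).relIndex (S : Subgroup G) = 2 := by
  have hle := M0_le S hHS hvS hv2 hr hvr
  have h1 := Subgroup.card_mul_index ((M0 hv2 hvr).subgroupOf (S : Subgroup G))
  have h2 : Nat.card ((M0 hv2 hvr).subgroupOf (S : Subgroup G)) = 8 := by
    rw [Nat.card_congr (Subgroup.subgroupOfEquivOfLe hle).toEquiv,
      card_M0 hv2 hvr (v_notMem_R hvH hr), card_R hr4]
  rw [h2, card_S hyp S] at h1
  show ((M0 hv2 hvr).subgroupOf (S : Subgroup G)).index = 2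
  omega

include hyp hβ hHS hγo hγβ hvS hvγ hv1 hvH hall hu hu2 hu1 hr hr4 hru in
/-- elements of `S` outside `M0` have order greater than 2 -/
theorem hord {y : G} (hyS : y ∈ (S : Subgroup G)) (hyM : y ∉ M0 hv2 hvr) : 2 < orderOf y := by
  have hvi := v_inv hv2
  by_cases hyH : y ∈ Hs M β
  · have hyR : y ∉ Subgroup.zpowers r := fun h => hyM (Or.inl h)
    have hy1 : y ≠ 1 := by
      rintro rfl
      exact hyR (Subgroup.one_mem _)
    have hyu : y ≠ u := by
      rintro rfl
      apply hyR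
      rw [← hru]
      exact Subgroup.pow_mem _ (Subgroup.mem_zpowers r) 2
    rw [(order_four hyp hβ hu hu2 hu1 hyH hy1 hyu).1]
    norm_num
  · by_contra hcon
    have hle : orderOf y ≤ 2 := by omega
    have hpos := orderOf_pos y
    have hy1 : y ≠ 1 := by
      rintro rfl
      exact hyH (Subgroup.one_mem _)
    have hy2 : y ^ 2 = 1 := by
      have h1 : orderOf y ≠ 1 := by
        rw [Ne, orderOf_eq_one_iff]; exact hy1
      have h2 : orderOf y = 2 := by omega
      rw [← h2]; exact pow_orderOf_eq_one y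
    have hswap := S_swap hyp hβ S hHS hyS hyH
    have hpar := Par.invol_parity (Ω := Ω) y hy2 (sign_one hyp hβ y)
    have hne : Nat.card (fixedBy Ω y) ≠ 0 := by
      intro h0
      rw [h0, hyp.hΩ] at hpar
      revert hpar
      decide
    obtain ⟨⟨γ', hγ'⟩⟩ : Nonempty (fixedBy Ω y) := (Nat.card_pos_iff.1 (Nat.pos_of_ne_zero hne)).1
    have hγ'y : y • γ' = γ' := hγ'
    have hγ'o : γ' ≠ o := by
      intro h
      rw [h, hswap.1] at hγ'y
      exact hβ hγ'y
    have hγ'β : γ' ≠ β := by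
      intro h
      rw [h, hswap.2] at hγ'y
      exact hβ hγ'y.symm
    obtain ⟨h, hh, hhγ⟩ := Hs_trans hyp hβ S hHS hγo hγβ hγ'o hγ'β
    have hfix : (h⁻¹ * y * h) • γ = γ := by
      rw [mul_smul, mul_smul, hhγ, hγ'y, ← hhγ, inv_smul_smul]
    have hmem : h⁻¹ * y * h ∈ (S : Subgroup G) :=
      (S : Subgroup G).mul_mem ((S : Subgroup G).mul_mem ((S : Subgroup G).inv_mem (hHS hh)) hyS)
        (hHS hh)
    have hyv : h⁻¹ * y * h = v := by
      rcases hall _ hmem hfix with h1 | h1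
      · exfalso
        apply hy1
        have : y = h * (h⁻¹ * y * h) * h⁻¹ := by group
        rw [this, h1]; group
      · exact h1
    have hy : y = h * v * h⁻¹ := by
      rw [← hyv]; group
    apply hyM
    right
    -- `v * y = (v h v⁻¹) h⁻¹ ∈ ⟨r⟩`
    have ha : v * h * v⁻¹ ∈ Hs M β := conj_mem_Hs hyp hβ S hHS hvS hh
    have hb : h⁻¹ ∈ Hs M β := (Hs M β).inv_mem hh
    have hvy : v * y = (v * h * v⁻¹) * h⁻¹ := by
      rw [hy]
      have : v * (h * v * h⁻¹) = (v * h * v) * h⁻¹ := by group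
      rw [this, hvi]
    rw [hvy, R_mul_iff hyp hβ hr hr4 ha hb]
    constructor
    · intro h1
      -- h = v⁻¹ (v h v⁻¹) v = conj of an element of ⟨r⟩
      have h2 := conj_zpowers hvr h1
      -- v (v h v⁻¹) v⁻¹ = (v h v⁻¹)⁻¹
      have h3 : v * (v * h * v⁻¹) * v⁻¹ = h := by
        rw [hvi]
        have : v * (v * h * v) * v = (v * v) * h * (v * v) := by group
        rw [this, ← pow_two, hv2, one_mul, mul_one]
      rw [h3] at h2
      have h4 : h⁻¹ = v * h * v⁻¹ := by
        rw [inv_eq_iff_eq_inv]; exact h2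
      rw [h4]
      exact h1
    · intro h1
      have h2 : h ∈ Subgroup.zpowers r := by
        have := Subgroup.inv_mem _ h1
        rwa [inv_inv] at this
      rw [conj_zpowers hvr h2]
      exact h1

include hyp hβ hHS hγo hγβ hvS hvγ hv1 hvH hall hu hu2 hu1 hr hr4 hru in
/-- step (E): the transfer contradiction -/
theorem step_E (hv2' : v ^ 2 = 1) (hvr' : v * r * v⁻¹ = r⁻¹) : False := by
  have hvi := v_inv hv2'
  -- an element of `H` outside `⟨r⟩`
  obtain ⟨x, hxH, hxR⟩ : ∃ x ∈ Hs M β, x ∉ Subgroup.zpowers r := by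
    by_contra hcon
    have hle : Hs M β ≤ Subgroup.zpowers r := by
      intro x hx
      by_contra hx'
      exact hcon ⟨x, hx, hx'⟩
    have := Subgroup.card_le_of_le hle
    rw [card_Hs hyp hβ, card_R hr4] at this
    omega
  have hx1 : x ≠ 1 := by
    rintro rfl
    exact hxR (Subgroup.one_mem _)
  have hxu : x ≠ u := by
    rintro rfl
    apply hxR
    rw [← hru]
    exact Subgroup.pow_mem _ (Subgroup.mem_zpowers r) 2
  have hx4 : orderOf x = 2 ^ 2 := by
    rw [(order_four hyp hβ hu hu2 hu1 hxH hx1 hxu).1]; norm_num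
  -- hypotheses of the transfer theorem
  have hev : Even (Nat.card G) := by rw [hyp.hG]; decide
  have hno2 : ∀ K : Subgroup G, K.index ≠ 2 := by
    intro K hK
    have hn : K.Normal := Subgroup.normal_of_index_eq_two hK
    rcases hn.eq_bot_or_eq_top with h | h
    · rw [h, Subgroup.index_bot, hyp.hG] at hK
      norm_num at hK
    · rw [h, Subgroup.index_top] at hK
      norm_num at hK
  obtain ⟨g, hg⟩ := Cfsg.Agent.S3225.result hev hno2 S (M0 hv2' hvr')
    (M0_le S hHS hvS hv2' hr hvr') (relIndex_M0 hyp S hHS hvS hv2' hvH hr hr4 hvr') 2 (by norm_num)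
    (fun y hyS hyM => by
      have := hord hyp hβ S hHS hγo hγβ hvS hvγ hv2' hv1 hvH hall hu hu2 hu1 hr hr4 hru hvr' hyS hyM
      simpa using this)
    x (hHS hxH) hx4
  set t := g * x * g⁻¹ with ht
  have hto : orderOf t = 4 := by
    have h1 := orderOf_injective (MulAut.conj g).toMonoidHom (MulAut.conj g).injective x
    have h2 : (MulAut.conj g).toMonoidHom x = t := by
      rw [ht]; rfl
    rw [h2] at h1
    rw [h1, hx4]; norm_num
  have htR : t ∈ Subgroup.zpowers r := by
    by_contra htR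
    have h2 := sq_eq_one_of_mem_M0 hv2' hvr' hg htR
    have := orderOf_dvd_of_pow_eq_one h2
    rw [hto] at this
    norm_num at this
  have htH : t ∈ Hs M β := R_le hr htR
  have ht1 : t ≠ 1 := by
    intro h
    rw [h, orderOf_one] at hto
    norm_num at hto
  -- `t` fixes `g o` and `g β`
  have hxo : x • o = o := fix_o hyp hβ hxH
  have hxβ : x • β = β := fix_β hyp hβ hxH
  have htgo : t • (g • o) = g • o := by
    rw [ht, mul_smul, mul_smul, inv_smul_smul, hxo]
  have htgβ : t • (g • β) = g • β := by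
    rw [ht, mul_smul, mul_smul, inv_smul_smul, hxβ]
  have hgo : g • o = o ∨ g • o = β := by
    by_contra hcon
    rw [not_or] at hcon
    exact ht1 (semireg hyp hβ htH hcon.1 hcon.2 htgo)
  have hgβ : g • β = o ∨ g • β = β := by
    by_contra hcon
    rw [not_or] at hcon
    exact ht1 (semireg hyp hβ htH hcon.1 hcon.2 htgβ)
  have hxt : x = g⁻¹ * t * g := by rw [ht]; group
  rcases hgo with hgo | hgo
  · -- `g ∈ H`
    have hgβ' : g • β = β := by
      rcases hgβ with h | h
      · exfalso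
        apply hβ
        have : g • β = g • o := by rw [h, hgo]
        exact smul_left_cancel _ this
      · exact h
    have hgH : g ∈ Hs M β := by
      refine ⟨?_, hgβ'⟩
      rw [hyp.hMo]; exact hgo
    apply hxR
    rw [hxt]
    have := R_normal hyp hβ hr hr4 ((Hs M β).inv_mem hgH) htR
    rwa [inv_inv] at this
  · -- `v g ∈ H`
    have hgβ' : g • β = o := by
      rcases hgβ with h | h
      · exact h
      · exfalso
        apply hβ
        have : g • β = g • o := by rw [h, hgo]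
        exact smul_left_cancel _ this
    have hswap := S_swap hyp hβ S hHS hvS hvH
    have hvgH : v * g ∈ Hs M β := by
      refine ⟨?_, ?_⟩
      · rw [hyp.hMo]
        show (v * g) • o = o
        rw [mul_smul, hgo, hswap.2]
      · show (v * g) • β = β
        rw [mul_smul, hgβ', hswap.1]
    apply hxR
    have hx' : x = (v * g)⁻¹ * (v * t * v⁻¹) * (v * g) := by
      rw [hxt]; group
    rw [hx', conj_zpowers hvr' htR]
    have := R_normal hyp hβ hr hr4 ((Hs M β).inv_mem hvgH) (Subgroup.inv_mem _ htR)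
    rwa [inv_inv] at this

end final

section main

variable {G : Type*} [Group G] [Finite G] [IsSimpleGroup G]

/-- the abstract configuration is contradictory -/
theorem config_false {Ω : Type*} [MulAction G Ω] [Fintype Ω] [DecidableEq Ω] {o : Ω}
    {M P : Subgroup G} (hyp : Hyp o M P) : False := by
  obtain ⟨β, hβ⟩ : ∃ β : Ω, β ≠ o := by
    have : Nontrivial Ω := by
      rw [← Fintype.one_lt_card_iff_nontrivial, hyp.hΩ]; norm_num
    exact exists_ne o
  have : Fact (Nat.Prime 2) := ⟨Nat.prime_two⟩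
  have hp : IsPGroup 2 (Hs M β) :=
    IsPGroup.of_card (n := 3) (by rw [card_Hs hyp hβ]; norm_num)
  obtain ⟨S, hHS⟩ := hp.exists_le_sylow
  obtain ⟨γ, hγo, hγβ⟩ := exists_third hyp hβ S hHS hyp.hΩ o β
  obtain ⟨v, hvS, hvγ, hv2, hv1, hvH, hall⟩ := exists_v hyp hβ S hHS hγo hγβ
  obtain ⟨u, hu, hu2, hu1⟩ := exists_invol hyp hβ
  obtain ⟨r, hr, hr4, hru, hvr⟩ :=
    exists_r hyp hβ S hHS hγo hγβ hvS hvγ hv2 hv1 hvH hall hu hu2 hu1
  exact step_E hyp hβ S hHS hγo hγβ hvS hvγ hv1 hvH hall hu hu2 hu1 hr hr4 hru hv2 hvr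

/-- **Order 720, second half.** A simple group of order 720 has no subgroup `M` of order 72 with a
normal subgroup `P` of order 9 acting semiregularly on the cosets of `M` other than `M`. -/
theorem final_720 (hn : Nat.card G = 720)
    (M P : Subgroup G) (hM : Nat.card M = 72) (hP : Nat.card P = 9) (hPM : P ≤ M)
    (hnorm : M ≤ Subgroup.normalizer (P : Set G))
    (hsemi : ∀ g : G, g ∉ M → ∀ p ∈ P, g⁻¹ * p * g ∈ M → p = 1) : False := by
  classical
  let _ : Fintype (G ⧸ M) := Fintype.ofFinite _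
  refine config_false (Ω := G ⧸ M) (o := ((1 : G) : G ⧸ M)) (M := M) (P := P)
    ⟨hn, ?_, ?_, hM, hP, hPM, ?_, ?_⟩
  · have h1 := M.card_mul_index
    rw [hM, hn] at h1
    have h2 : M.index = 10 := by omega
    rw [← Nat.card_eq_fintype_card]
    exact h2
  · rw [MulAction.stabilizer_quotient]
  · intro m hm p hp
    exact (Subgroup.mem_normalizer_iff.1 (hnorm hm) p).1 hp
  · intro ω
    induction ω using QuotientGroup.induction_on with
    | H g =>
      intro hω p hp hfix
      have hgM : g ∉ M := by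
        intro hg
        apply hω
        rw [QuotientGroup.eq]
        simpa using hg
      apply hsemi g hgM p hp
      rw [MulAction.Quotient.smul_mk, QuotientGroup.eq] at hfix
      have : g⁻¹ * p * g = ((p * g)⁻¹ * g)⁻¹ := by group
      rw [this]
      exact M.inv_mem hfix

end main

end Cfsg.Agent.Lib.Lead.Ord720E
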