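import Mathlib

set_option autoImplicit false
set_option linter.unusedSectionVars false
set_option linter.unusedVariables false

namespace Cfsg.Agent.Lib.Lead.PrimeDeg

open MulAction Equiv

section cycle

variable {α : Type*} [Fintype α] [DecidableEq α] {p : ℕ} [Fact p.Prime]

/-- a permutation of prime order `p` on `p` points is a full cycle -/
theorem isCycle_of_orderOf (hα : Fintype.card α = p) (x : Perm α) (hx : orderOf x = p) :
    x.IsCycle ∧ x.support = Finset.univ := by
  have hp : p.Prime := Fact.out
  obtain ⟨n, hn⟩ := Perm.cycleType_prime_order (σ := x) (by rw [hx]; exact hp)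
  rw [hx] at hn
  have hsum : x.cycleType.sum = (n + 1) * p := by
    rw [hn, Multiset.sum_replicate, smul_eq_mul]
  have hle : x.support.card ≤ p := hα ▸ Finset.card_le_univ _
  rw [← Perm.sum_cycleType] at hle
  have hn0 : n = 0 := by
    rw [hsum] at hle
    have : (n + 1) * p ≤ 1 * p := by omega
    have := Nat.le_of_mul_le_mul_right this hp.pos
    omega
  subst hn0
  have hcard : x.support.card = p := by
    rw [← Perm.sum_cycleType, hsum]; ring
  refine ⟨?_, ?_⟩
  · rw [← Perm.card_cycleType_eq_one, hn]; simp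
  · apply Finset.eq_univ_of_card
    rw [hcard, hα]

/-- the centralizer of a full cycle consists of its powers -/
theorem mem_zpowers_of_commute (hα : Fintype.card α = p) (x g : Perm α) (hx : orderOf x = p)
    (hc : g * x = x * g) : g ∈ Subgroup.zpowers x := by
  obtain ⟨hcyc, hsupp⟩ := isCycle_of_orderOf hα x hx
  have hmoves : ∀ a : α, x a ≠ a := fun a => by
    have : a ∈ x.support := by rw [hsupp]; exact Finset.mem_univ a
    exact Perm.mem_support.1 this
  have hp : p.Prime := Fact.out
  have : Nonempty α := by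
    rw [← Fintype.card_pos_iff, hα]; exact hp.pos
  obtain ⟨a₀⟩ := this
  obtain ⟨i, hi⟩ := hcyc.exists_zpow_eq (hmoves a₀) (hmoves (g a₀))
  refine ⟨i, ?_⟩
  ext b
  obtain ⟨j, hj⟩ := hcyc.exists_zpow_eq (hmoves a₀) (hmoves b)
  have hcomm : Commute g x := hc
  have h1 : g ((x ^ j) a₀) = (x ^ j) (g a₀) := by
    have := (hcomm.zpow_right j).eq
    exact congrArg (fun σ : Perm α => σ a₀) this
  show (x ^ i) b = g b
  rw [← hj, h1, ← hi, ← Perm.mul_apply, ← Perm.mul_apply, ← zpow_add, ← zpow_add, add_comm]

end cycle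

end Cfsg.Agent.Lib.Lead.PrimeDeg
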