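import Mathlib
import Cfsg.Agent.Lib.Lead.PrimeDegA

set_option autoImplicit false
set_option linter.unusedSectionVars false
set_option linter.unusedVariables false

namespace Cfsg.Agent.Lib.Lead.PrimeDeg

open MulAction Equiv

section group

variable {α : Type*} [Fintype α] [DecidableEq α] {p : ℕ} [Fact p.Prime] (hp : 2 < p)
  (hα : Fintype.card α = p) (G : Subgroup (Perm α)) (P : Sylow p G)
  (hN : Nat.card (Subgroup.normalizer ((P : Subgroup G) : Set G)) = 2 * p)

include hp hN in
theorem card_P : Nat.card P = p := by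
  have hpp : p.Prime := Fact.out
  have h1 : Nat.card P ∣ 2 * p := hN ▸ Subgroup.card_dvd_of_le Subgroup.le_normalizer
  have h2 : p ∣ Nat.card G := by
    have := Subgroup.card_subgroup_dvd_card (Subgroup.normalizer ((P : Subgroup G) : Set G))
    rw [hN] at this
    exact (dvd_mul_left p 2).trans this
  have h3 : p ∣ Nat.card P := P.dvd_card_of_dvd_card h2
  obtain ⟨k, hk⟩ := h3
  rw [hk] at h1
  have h4 : k ∣ 2 := by
    rw [mul_comm 2 p] at h1
    exact Nat.dvd_of_mul_dvd_mul_left hpp.pos h1
  have h5 : k = 1 ∨ k = 2 := by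
    have := Nat.le_of_dvd (by norm_num) h4
    interval_cases k <;> simp_all
  rcases h5 with rfl | rfl
  · rw [hk, mul_one]
  · exfalso
    obtain ⟨n, hn⟩ := IsPGroup.iff_card.mp P.isPGroup'
    have hcard : Nat.card P = p * 2 := hk
    rw [hn] at hcard
    have h2dvd : 2 ∣ p ^ n := ⟨p, by rw [hcard, mul_comm]⟩
    have := (Nat.Prime.dvd_of_dvd_pow Nat.prime_two h2dvd)
    have := (Nat.prime_dvd_prime_iff_eq Nat.prime_two hpp).1 this
    omega

include hp hN in
theorem orderOf_of_mem (x : G) (hx : x ∈ (P : Subgroup G)) (hx1 : x ≠ 1) :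
    orderOf (x : Perm α) = p := by
  have hpp : p.Prime := Fact.out
  rw [Subgroup.orderOf_coe]
  have h1 : orderOf (⟨x, hx⟩ : (P : Subgroup G)) ∣ p := by
    have := orderOf_dvd_natCard (⟨x, hx⟩ : (P : Subgroup G))
    rwa [show Nat.card (P : Subgroup G) = p from card_P hp G P hN] at this
  rw [← Subgroup.orderOf_coe] at h1
  rcases (Nat.dvd_prime hpp).1 h1 with h | h
  · exact (hx1 (orderOf_eq_one_iff.1 h)).elim
  · exact h

include hp hN in
theorem exists_gen : ∃ x : G, x ∈ (P : Subgroup G) ∧ x ≠ 1 := by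
  have hpp : p.Prime := Fact.out
  have : Nontrivial (P : Subgroup G) := by
    rw [← Finite.one_lt_card_iff_nontrivial]
    show 1 < Nat.card P
    rw [card_P hp G P hN]; exact hpp.one_lt
  obtain ⟨x, hx⟩ := exists_ne (1 : (P : Subgroup G))
  exact ⟨x, x.2, fun h => hx (Subtype.ext h)⟩

include hp hα hN in
/-- `P` is self-centralizing -/
theorem centralizer_P (x : G) (hx : x ∈ (P : Subgroup G)) (hx1 : x ≠ 1) (g : G)
    (hg : g * x = x * g) : g ∈ (P : Subgroup G) := by
  have ho := orderOf_of_mem hp G P hN x hx hx1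
  have hc : (g : Perm α) * (x : Perm α) = (x : Perm α) * (g : Perm α) := by
    have := congrArg Subtype.val hg
    exact this
  obtain ⟨i, hi⟩ := mem_zpowers_of_commute hα (x : Perm α) (g : Perm α) ho hc
  have : g = x ^ i := by
    apply Subtype.ext
    rw [Subgroup.coe_zpow]
    exact hi.symm
  rw [this]
  exact (P : Subgroup G).zpow_mem hx i

include hp hα hN in
theorem isPretransitive_G : IsPretransitive G α := by
  obtain ⟨x, hx, hx1⟩ := exists_gen hp G P hN
  have ho := orderOf_of_mem hp G P hN x hx hx1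
  obtain ⟨hcyc, hsupp⟩ := isCycle_of_orderOf hα (x : Perm α) ho
  have hmoves : ∀ a : α, (x : Perm α) a ≠ a := fun a => by
    have : a ∈ (x : Perm α).support := by rw [hsupp]; exact Finset.mem_univ a
    exact Perm.mem_support.1 this
  refine ⟨fun a b => ?_⟩
  obtain ⟨i, hi⟩ := hcyc.exists_zpow_eq (hmoves a) (hmoves b)
  refine ⟨x ^ i, ?_⟩
  show ((x ^ i : G) : Perm α) a = b
  rw [Subgroup.coe_zpow]
  exact hi

include hp hα hN in
/-- elements of order `p` have no fixed point -/
theorem no_fixed_point (x : G) (hx : x ∈ (P : Subgroup G)) (hx1 : x ≠ 1) (a : α) : x • a ≠ a := by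
  have ho := orderOf_of_mem hp G P hN x hx hx1
  obtain ⟨hcyc, hsupp⟩ := isCycle_of_orderOf hα (x : Perm α) ho
  have : a ∈ (x : Perm α).support := by rw [hsupp]; exact Finset.mem_univ a
  exact Perm.mem_support.1 this

include hp hα hN in
theorem five_le_of_not_normal (h : ¬ (P : Subgroup G).Normal) : 5 ≤ p := by
  have hpp : p.Prime := Fact.out
  by_contra hlt
  have hp3 : p = 3 := by
    have : p ≤ 4 := by omega
    interval_cases p
    · rfl
    · exact (by decide : ¬ Nat.Prime 4) hpp |>.elim
  subst hp3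
  apply h
  have h1 : Nat.card G ∣ 6 := by
    have := Subgroup.card_subgroup_dvd_card G
    rw [Nat.card_perm, Nat.card_eq_fintype_card (α := α), hα] at this
    exact this
  have h2 : Subgroup.normalizer ((P : Subgroup G) : Set G) = ⊤ := by
    apply Subgroup.eq_top_of_card_eq
    rw [hN]
    have := Nat.le_of_dvd (by norm_num) h1
    have h3 := Subgroup.card_le_card_group (Subgroup.normalizer ((P : Subgroup G) : Set G))
    rw [hN] at h3
    omega
  exact Subgroup.normalizer_eq_top_iff.1 h2

end group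

end Cfsg.Agent.Lib.Lead.PrimeDeg
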