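import Mathlib
import Cfsg.Agent.Lib.Lead.PrimeDegB

set_option autoImplicit false
set_option linter.unusedSectionVars false
set_option linter.unusedVariables false

namespace Cfsg.Agent.Lib.Lead.PrimeDeg

open MulAction Equiv

section gen

variable {K : Type*} [Group K] [Finite K]

/-- an element of order prime to `p` lies in every normal subgroup of index `p` -/
theorem mem_of_coprime_order {p : ℕ} (M : Subgroup K) [M.Normal] (hidx : M.index = p) (k : K)
    (hk : (orderOf k).Coprime p) : k ∈ M := by
  have h1 : k ^ p ∈ M := hidx ▸ Subgroup.pow_index_mem M k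
  have h2 : k ^ (orderOf k) ∈ M := by rw [pow_orderOf_eq_one]; exact M.one_mem
  have h3 : k ^ (Nat.gcd (orderOf k) p) ∈ M := by
    rw [← zpow_natCast, Nat.gcd_eq_gcd_ab, zpow_add, zpow_mul, zpow_mul, zpow_natCast, zpow_natCast]
    exact M.mul_mem (M.zpow_mem h2 _) (M.zpow_mem h1 _)
  rw [hk, pow_one] at h3
  exact h3

end gen

section simple

variable {α : Type*} [Fintype α] [DecidableEq α] {p : ℕ} [Fact p.Prime] (hp : 2 < p)
  (hα : Fintype.card α = p) (G : Subgroup (Perm α)) (P : Sylow p G)
  (hN : Nat.card (Subgroup.normalizer ((P : Subgroup G) : Set G)) = 2 * p)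

include hp hα hN in
/-- every nontrivial normal subgroup has order divisible by `p` -/
theorem dvd_card_of_normal (K : Subgroup G) [K.Normal] (hK : K ≠ ⊥) : p ∣ Nat.card K := by
  have hpp : p.Prime := Fact.out
  have htr : IsPretransitive G α := isPretransitive_G hp hα G P hN
  have hprim : IsPreprimitive G α :=
    IsPreprimitive.of_prime_card (by rw [Nat.card_eq_fintype_card, hα]; exact hpp)
  have hfix : fixedPoints K α ≠ Set.univ := by
    intro h
    apply hK
    rw [eq_bot_iff]
    intro k hk
    rw [Subgroup.mem_bot]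
    apply Subtype.ext
    ext a
    have : a ∈ fixedPoints K α := by rw [h]; trivial
    exact this ⟨k, hk⟩
  have hKtr : IsPretransitive K α := IsQuasiPreprimitive.isPretransitive_of_normal hfix
  have : Nonempty α := by
    rw [← Fintype.card_pos_iff, hα]; exact hpp.pos
  obtain ⟨a⟩ := this
  have h1 : (stabilizer K a).index = p := by
    rw [MulAction.index_stabilizer, MulAction.orbit_eq_univ, Set.ncard_univ,
      Nat.card_eq_fintype_card, hα]
  rw [← h1]
  exact Subgroup.index_dvd_card _

include hp hα hN in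
theorem P_le_of_normal (K : Subgroup G) [hKn : K.Normal] (hK : K ≠ ⊥) : (P : Subgroup G) ≤ K := by
  have hpp : p.Prime := Fact.out
  have hdvd := dvd_card_of_normal hp hα G P hN K hK
  obtain ⟨k, hk⟩ := exists_prime_orderOf_dvd_card' (G := K) p hdvd
  have hk' : orderOf (k : G) = p := by rw [Subgroup.orderOf_coe]; exact hk
  have hZp : IsPGroup p (Subgroup.zpowers (k : G)) :=
    IsPGroup.of_card (n := 1) (by rw [Nat.card_zpowers, hk', pow_one])
  obtain ⟨R, hZR⟩ := hZp.exists_le_sylow
  have hRcard : Nat.card R = p := by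
    rw [R.card_eq_multiplicity, ← P.card_eq_multiplicity]
    exact card_P hp G P hN
  have hZR' : Subgroup.zpowers (k : G) = (R : Subgroup G) :=
    Subgroup.eq_of_le_of_card_ge hZR (by rw [Nat.card_zpowers, hk']; exact hRcard.le)
  have hRK : (R : Subgroup G) ≤ K := by
    rw [← hZR', Subgroup.zpowers_le]
    exact k.2
  obtain ⟨g, hg⟩ := MulAction.exists_smul_eq G P R
  intro x hx
  have h1 : g * x * g⁻¹ ∈ (R : Subgroup G) := by
    rw [← hg, Sylow.coe_subgroup_smul]
    exact ⟨x, hx, rfl⟩
  have h2 := hKn.conj_mem _ (hRK h1) g⁻¹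
  simpa [mul_assoc] using h2

include hp hα hN in
theorem simple_of_not_normal (h : ¬ (P : Subgroup G).Normal) : IsSimpleGroup G := by
  have hpp : p.Prime := Fact.out
  have hPcard : Nat.card (P : Subgroup G) = p := card_P hp G P hN
  obtain ⟨x₀, hx₀, hx₀1⟩ := exists_gen hp G P hN
  have : Nontrivial G := ⟨⟨x₀, 1, hx₀1⟩⟩
  refine ⟨fun K hKn => ?_⟩
  by_cases hK : K = ⊥
  · exact Or.inl hK
  right
  have hPK : (P : Subgroup G) ≤ K := P_le_of_normal hp hα G P hN K hK
  have hfr : Subgroup.normalizer ((P : Subgroup G) : Set G) ⊔ K = ⊤ :=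
    Sylow.normalizer_sup_eq_top' P hPK
  by_cases hNK : Subgroup.normalizer ((P : Subgroup G) : Set G) ≤ K
  · rw [sup_eq_right.2 hNK] at hfr
    exact hfr
  exfalso
  -- `N ⊓ K = P`
  have hinf : Subgroup.normalizer ((P : Subgroup G) : Set G) ⊓ K = (P : Subgroup G) := by
    have hle : (P : Subgroup G) ≤ Subgroup.normalizer ((P : Subgroup G) : Set G) ⊓ K :=
      le_inf Subgroup.le_normalizer hPK
    symm
    apply Subgroup.eq_of_le_of_card_ge hle
    have h1 : Nat.card (Subgroup.normalizer ((P : Subgroup G) : Set G) ⊓ K : Subgroup G) ∣ 2 * p := by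
      have := Subgroup.card_dvd_of_le
        (inf_le_left : Subgroup.normalizer ((P : Subgroup G) : Set G) ⊓ K ≤
          Subgroup.normalizer ((P : Subgroup G) : Set G))
      rwa [hN] at this
    have h2 : p ∣ Nat.card (Subgroup.normalizer ((P : Subgroup G) : Set G) ⊓ K : Subgroup G) := by
      have := Subgroup.card_dvd_of_le hle
      rwa [hPcard] at this
    have h3 : Nat.card (Subgroup.normalizer ((P : Subgroup G) : Set G) ⊓ K : Subgroup G) ≠ 2 * p := by
      intro h3
      apply hNK
      have : Subgroup.normalizer ((P : Subgroup G) : Set G) ⊓ K =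
          Subgroup.normalizer ((P : Subgroup G) : Set G) :=
        Subgroup.eq_of_le_of_card_ge inf_le_left (by rw [h3, hN])
      rw [← this]; exact inf_le_right
    rw [hPcard]
    obtain ⟨c, hc⟩ := h2
    rw [hc] at h1 h3 ⊢
    have h4 : c ∣ 2 := by
      rw [mul_comm 2 p] at h1
      exact Nat.dvd_of_mul_dvd_mul_left hpp.pos h1
    have h5 : c ≤ 2 := Nat.le_of_dvd (by norm_num) h4
    interval_cases c
    · simp at h4
    · simp
    · exact (h3 (mul_comm p 2)).elim
  -- the Sylow subgroup of `K`
  set P₁ : Sylow p K := P.subtype hPK with hP₁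
  have hP₁mem : ∀ k : K, k ∈ (P₁ : Subgroup K) ↔ (k : G) ∈ (P : Subgroup G) := by
    intro k
    rw [hP₁, Sylow.coe_subtype, Subgroup.mem_subgroupOf]
  have hP₁card : Nat.card (P₁ : Subgroup K) = p := by
    have e1 : (P₁ : Subgroup K) = (P : Subgroup G).subgroupOf K := Sylow.coe_subtype P hPK
    rw [e1]
    exact (Nat.card_congr (Subgroup.subgroupOfEquivOfLe hPK).toEquiv).trans hPcard
  have hQ : Subgroup.normalizer (P₁ : Set K) ≤ Subgroup.centralizer (P₁ : Set K) := by
    intro k hk
    have hkP : k ∈ (P₁ : Subgroup K) := by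
      rw [hP₁mem, ← hinf]
      refine ⟨?_, k.2⟩
      apply Subgroup.mem_set_normalizer_iff.2
      intro y
      have hk' := Subgroup.mem_set_normalizer_iff.1 hk
      constructor
      · intro hy
        have := (hk' ⟨y, hPK hy⟩).1 ((hP₁mem _).2 hy)
        exact (hP₁mem _).1 this
      · intro hy
        have hyK : y ∈ K := by
          have h1 : (k : G) * y * (k : G)⁻¹ ∈ K := hPK hy
          have h2 := K.mul_mem (K.mul_mem (K.inv_mem k.2) h1) k.2
          simpa [mul_assoc] using h2
        have := (hk' ⟨y, hyK⟩).2 ((hP₁mem _).2 hy)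
        exact (hP₁mem _).1 this
    have hcyc : IsCyclic (P₁ : Subgroup K) := isCyclic_of_prime_card hP₁card
    rw [Subgroup.mem_centralizer_iff]
    intro y hy
    let _ := IsCyclic.commGroup (α := (P₁ : Subgroup K))
    have := mul_comm (⟨y, hy⟩ : (P₁ : Subgroup K)) ⟨k, hkP⟩
    exact congrArg Subtype.val this
  -- the normal p-complement
  set M : Subgroup K := (MonoidHom.transferSylow P₁ hQ).ker with hM
  have hcompl : Subgroup.IsComplement' M (P₁ : Subgroup K) :=
    MonoidHom.ker_transferSylow_isComplement' P₁ hQ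
  have hMidx : M.index = p := by rw [hcompl.symm.index_eq_card]; exact hP₁card
  have hMp : ¬ p ∣ Nat.card M := MonoidHom.not_dvd_card_ker_transferSylow P₁ hQ
  have hMn : (M.map K.subtype).Normal := by
    constructor
    rintro _ ⟨m, hm, rfl⟩ g
    have hmem : g * (m : G) * g⁻¹ ∈ K := hKn.conj_mem _ m.2 g
    refine ⟨⟨g * (m : G) * g⁻¹, hmem⟩, ?_, rfl⟩
    apply mem_of_coprime_order M hMidx
    have ho : orderOf (⟨g * (m : G) * g⁻¹, hmem⟩ : K) = orderOf m := by
      rw [← Subgroup.orderOf_coe, ← Subgroup.orderOf_coe m]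
      exact MulEquiv.orderOf_eq (MulAut.conj g) (m : G)
    rw [ho]
    have hdvd : orderOf (⟨m, hm⟩ : M) ∣ Nat.card M := orderOf_dvd_natCard _
    rw [← Subgroup.orderOf_coe] at hdvd
    exact Nat.Coprime.coprime_dvd_left hdvd ((Nat.Prime.coprime_iff_not_dvd hpp).2 hMp).symm
  have hMbot : M.map K.subtype = ⊥ := by
    by_contra hne
    have := dvd_card_of_normal hp hα G P hN (M.map K.subtype) hne
    rw [Subgroup.card_map_of_injective K.subtype_injective] at this
    exact hMp this
  have hMcard : Nat.card M = 1 := by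
    rw [← Subgroup.card_map_of_injective K.subtype_injective (K := M), hMbot, Subgroup.card_bot]
  have hKcard : Nat.card K = p := by
    have := M.card_mul_index
    rw [hMcard, hMidx, one_mul] at this
    exact this.symm
  have hPK' : (P : Subgroup G) = K :=
    Subgroup.eq_of_le_of_card_ge hPK (by rw [hKcard, hPcard])
  exact h (hPK' ▸ hKn)

end simple

end Cfsg.Agent.Lib.Lead.PrimeDeg
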