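import Mathlib
import Cfsg.Agent.Lib.Lead.DihShape

/-!
# More on dihedral shape: index two, unique involution of the rotation subgroup
-/

set_option autoImplicit false

namespace Cfsg.Agent.Lib.Lead.DihShape

variable {X : Type*} [Group X]

theorem Shape.relIndex_eq_two {D R₀ : Subgroup X} (hS : Shape D R₀) {u : X} (huD : u ∈ D)
    (hu : u ∉ R₀) : R₀.relIndex D = 2 := by
  rw [Subgroup.relIndex_eq_two_iff]
  refine ⟨u, huD, ?_⟩
  intro b hb
  by_cases hbR : b ∈ R₀
  · refine Or.inr ⟨hbR, ?_⟩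
    intro h
    apply hu
    have : u = b⁻¹ * (b * u) := by group
    rw [this]
    exact R₀.mul_mem (R₀.inv_mem hbR) h
  · refine Or.inl ⟨?_, hbR⟩
    have hb' : b⁻¹ ∉ R₀ := fun h => hbR (by simpa using R₀.inv_mem h)
    have := hS.prod b⁻¹ (D.inv_mem hb) u huD hb' hu
    simpa using this

/-- A cyclic subgroup has at most one involution. -/
theorem involution_unique [Finite X] {C : Subgroup X} (hC : IsCyclic ↥C) {a b : X} (ha : a ∈ C)
    (hb : b ∈ C) (hao : orderOf a = 2) (hbo : orderOf b = 2) : a = b := by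
  classical
  haveI : Fintype ↥C := Fintype.ofFinite _
  have hd : 2 ∣ Fintype.card ↥C := by
    have := orderOf_dvd_card (x := (⟨a, ha⟩ : ↥C))
    rwa [Subgroup.orderOf_mk, hao] at this
  have h := IsCyclic.card_orderOf_eq_totient (α := ↥C) hd
  rw [Nat.totient_two] at h
  have ha' : (⟨a, ha⟩ : ↥C) ∈ Finset.filter (fun x : ↥C => orderOf x = 2) Finset.univ := by
    rw [Finset.mem_filter]
    exact ⟨Finset.mem_univ _, by rw [Subgroup.orderOf_mk]; exact hao⟩
  have hb' : (⟨b, hb⟩ : ↥C) ∈ Finset.filter (fun x : ↥C => orderOf x = 2) Finset.univ := by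
    rw [Finset.mem_filter]
    exact ⟨Finset.mem_univ _, by rw [Subgroup.orderOf_mk]; exact hbo⟩
  have := Finset.card_le_one.mp (le_of_eq h) _ ha' _ hb'
  exact congrArg Subtype.val this

end Cfsg.Agent.Lib.Lead.DihShape
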