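import Mathlib
import Cfsg.Prelude.Def_KGroupFacts

/-!
# Automorphisms of a group with a Sylow subgroup of prime order

Let `p` divide the order of `G` exactly once, `x` of order `p` with `C_G(x) = ⟨x⟩`, `y` with `y x y⁻¹ = x ^ m`
(`m ≢ 1`), and `w` with `w y w⁻¹ = y ^ s`.  Every automorphism of `G` can be composed with an inner automorphism so that
it maps `x` to `x ^ r` for `r` in a set of representatives of the exponents modulo the powers of `m`, fixes `y`, and maps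
`w` into `w C_G(y)`.
-/

set_option autoImplicit false

namespace Cfsg.Agent.PChain

variable {G : Type*} [Group G]

theorem conj_pow_eq (x y : G) (m : ℕ) (hy : y * x * y⁻¹ = x ^ m) : ∀ j : ℕ, y ^ j * x * (y ^ j)⁻¹ = x ^ m ^ j
  | 0 => by simp
  | j + 1 => by
    have ih := conj_pow_eq x y m hy j
    calc y ^ (j + 1) * x * (y ^ (j + 1))⁻¹ = y * (y ^ j * x * (y ^ j)⁻¹) * y⁻¹ := by
          rw [pow_succ']; group
      _ = y * x ^ m ^ j * y⁻¹ := by rw [ih]
      _ = (y * x * y⁻¹) ^ m ^ j := by rw [conj_pow]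
      _ = x ^ m ^ (j + 1) := by rw [hy, ← pow_mul, ← pow_succ']

variable [Finite G]

/-- two subgroups of order `p` are conjugate when `p ^ 2` does not divide the order of the group -/
theorem exists_conj_of_card_prime (p : ℕ) [hp : Fact p.Prime] (hp2 : ¬ p ^ 2 ∣ Nat.card G) (A B : Subgroup G)
    (hA : Nat.card A = p) (hB : Nat.card B = p) : ∃ g : G, ∀ b, b ∈ B → g * b * g⁻¹ ∈ A := by
  have hPA : IsPGroup p A := IsPGroup.of_card (n := 1) (by rw [hA, pow_one])
  have hPB : IsPGroup p B := IsPGroup.of_card (n := 1) (by rw [hB, pow_one])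
  obtain ⟨QA, hQA⟩ := hPA.exists_le_sylow
  obtain ⟨QB, hQB⟩ := hPB.exists_le_sylow
  have hcard : ∀ Q : Sylow p G, Nat.card Q ≤ p := by
    intro Q
    rw [Sylow.card_eq_multiplicity]
    have hf : (Nat.card G).factorization p ≤ 1 := by
      by_contra hc
      push Not at hc
      apply hp2
      exact dvd_trans (pow_dvd_pow p hc) (Nat.ordProj_dvd _ _)
    calc p ^ (Nat.card G).factorization p ≤ p ^ 1 := Nat.pow_le_pow_right hp.out.pos hf
      _ = p := pow_one p
  have eA : A = QA := Subgroup.eq_of_le_of_card_ge hQA (by rw [hA]; exact hcard QA)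
  have eB : B = QB := Subgroup.eq_of_le_of_card_ge hQB (by rw [hB]; exact hcard QB)
  obtain ⟨g, hg⟩ := MulAction.exists_smul_eq G QB QA
  refine ⟨g, fun b hb => ?_⟩
  rw [eA, ← hg, Sylow.coe_subgroup_smul, Subgroup.mem_smul_pointwise_iff_exists]
  refine ⟨b, by rw [← eB]; exact hb, ?_⟩
  rw [MulAut.smul_def, MulAut.conj_apply]

theorem mem_zpowers_nat {x c : G} {p : ℕ} (hx : orderOf x = p) (hp : 0 < p) (h : c ∈ Subgroup.zpowers x) :
    ∃ i < p, c = x ^ i := by
  have h1 : c ∈ Submonoid.powers x := mem_powers_iff_mem_zpowers.2 h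
  obtain ⟨n, hn⟩ := (Submonoid.mem_powers_iff c x).1 h1
  refine ⟨n % p, Nat.mod_lt _ hp, ?_⟩
  rw [← hx, pow_mod_orderOf, hn]

omit [Finite G] in
theorem pow_eq_of_mod {x : G} {p a b : ℕ} (hx : orderOf x = p) (h : a % p = b % p) : x ^ a = x ^ b := by
  rw [pow_eq_pow_iff_modEq, hx]
  exact h

/-- the normal form of an automorphism -/
theorem aut_normal_form (p : ℕ) [hp : Fact p.Prime] (hp2 : ¬ p ^ 2 ∣ Nat.card G)
    (x y w : G) (hx : orderOf x = p)
    (hCx : ∀ c : G, c * x = x * c → c ∈ Subgroup.zpowers x)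
    (m : ℕ) (hy : y * x * y⁻¹ = x ^ m)
    (R : Finset ℕ) (hR : ∀ k < p, k ≠ 0 → ∃ j : ℕ, ∃ r ∈ R, (k * m ^ j) % p = r % p)
    (hsolve : ∀ i < p, ∃ a : ℕ, (a + m * i) % p = (m * a) % p)
    (Cy : Finset G) (hCy : ∀ c : G, c * y = y * c → c ∈ Cy)
    (s : ℕ) (hw : w * y * w⁻¹ = y ^ s) (α : MulAut G) :
    ∃ g : G, ∃ r ∈ R, ∃ c ∈ Cy, g * α x * g⁻¹ = x ^ r ∧ g * α y * g⁻¹ = y ∧ g * α w * g⁻¹ = w * c := by
  have hppos : 0 < p := hp.out.pos
  have hx1 : x ≠ 1 := by
    intro h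
    rw [h, orderOf_one] at hx
    exact hp.out.one_lt.ne hx
  -- step 1
  have hcA : Nat.card (Subgroup.zpowers x) = p := by rw [Nat.card_zpowers, hx]
  have hcB : Nat.card (Subgroup.zpowers (α x)) = p := by
    rw [Nat.card_zpowers, MulEquiv.orderOf_eq, hx]
  obtain ⟨g1, hg1⟩ := exists_conj_of_card_prime p hp2 _ _ hcA hcB
  obtain ⟨k, hkp, hk⟩ := mem_zpowers_nat hx hppos (hg1 (α x) (Subgroup.mem_zpowers _))
  have hk0 : k ≠ 0 := by
    intro h
    rw [h, pow_zero] at hk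
    have : α x = 1 := by
      have := congrArg (fun z => g1⁻¹ * z * g1) hk
      simpa [mul_assoc] using this
    exact hx1 ((map_eq_one_iff α α.injective).1 this)
  -- step 2
  obtain ⟨j, r, hrR, hjr⟩ := hR k hkp hk0
  set φ2 : MulAut G := MulAut.conj (y ^ j * g1) * α with hφ2
  have hφ2x : φ2 x = x ^ r := by
    rw [hφ2, MulAut.mul_apply, MulAut.conj_apply]
    have : y ^ j * g1 * α x * (y ^ j * g1)⁻¹ = y ^ j * (g1 * α x * g1⁻¹) * (y ^ j)⁻¹ := by group
    rw [this, hk, ← conj_pow, conj_pow_eq x y m hy j, ← pow_mul]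
    exact pow_eq_of_mod hx (by rw [mul_comm]; exact hjr)
  -- `p` does not divide `m` nor `r`
  have hpm : ¬ p ∣ m := by
    intro h
    have : x ^ m = 1 := by rw [← hx] at h; exact orderOf_dvd_iff_pow_eq_one.1 h
    rw [this] at hy
    have : x = 1 := by
      have := congrArg (fun z => y⁻¹ * z * y) hy
      simpa [mul_assoc] using this
    exact hx1 this
  have hpr : ¬ p ∣ r := by
    intro h
    have h1 : (k * m ^ j) % p = 0 := by rw [hjr]; exact Nat.mod_eq_zero_of_dvd h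
    have h2 : p ∣ k * m ^ j := Nat.dvd_of_mod_eq_zero h1
    rcases (Nat.Prime.dvd_mul hp.out).1 h2 with h3 | h3
    · exact hk0 (Nat.eq_zero_of_dvd_of_lt h3 hkp)
    · exact hpm (hp.out.dvd_of_dvd_pow h3)
  -- step 3
  obtain ⟨u, hu⟩ : ∃ u : G, u = x ^ r := ⟨_, rfl⟩
  have hu1 : u ≠ 1 := by
    intro h
    apply hpr
    rw [← hx]
    rw [hu] at h
    exact orderOf_dvd_iff_pow_eq_one.2 h
  have hxu : x ∈ Subgroup.zpowers u := by
    have hle : Subgroup.zpowers u ≤ Subgroup.zpowers x :=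
      Subgroup.zpowers_le.2 (by rw [hu]; exact Subgroup.pow_mem _ (Subgroup.mem_zpowers x) r)
    have hou : orderOf u = p := by
      have hd : orderOf u ∣ p := by
        rw [← hx, hu]
        exact orderOf_pow_dvd r
      rcases (Nat.dvd_prime hp.out).1 hd with h | h
      · exact absurd (orderOf_eq_one_iff.1 h) hu1
      · exact h
    have : Subgroup.zpowers u = Subgroup.zpowers x :=
      Subgroup.eq_of_le_of_card_ge hle (by rw [Nat.card_zpowers, Nat.card_zpowers, hou, hx])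
    rw [this]
    exact Subgroup.mem_zpowers x
  obtain ⟨t, ht⟩ := Subgroup.mem_zpowers_iff.1 hxu
  have hyu : y * u * y⁻¹ = u ^ m := by rw [hu, ← conj_pow, hy, ← pow_mul, ← pow_mul, mul_comm]
  have hy'u : φ2 y * u * (φ2 y)⁻¹ = u ^ m := by
    rw [hu, ← hφ2x, ← map_inv, ← map_mul, ← map_mul, hy, map_pow]
  have hy'x : φ2 y * x * (φ2 y)⁻¹ = y * x * y⁻¹ := by
    rw [← ht, ← conj_zpow, ← conj_zpow, hy'u, hyu]
  have hc0 : (y⁻¹ * φ2 y) * x = x * (y⁻¹ * φ2 y) := by
    have := congrArg (fun z => y⁻¹ * z * φ2 y) hy'x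
    simp only [mul_assoc, inv_mul_cancel, mul_one] at this
    rw [mul_assoc, this]
    group
  obtain ⟨i, hip, hi⟩ := mem_zpowers_nat hx hppos (hCx _ hc0)
  have hy' : φ2 y = y * x ^ i := by rw [← hi]; group
  -- step 4
  obtain ⟨a, ha⟩ := hsolve i hip
  set φ3 : MulAut G := MulAut.conj (x ^ a) * φ2 with hφ3
  have hφ3x : φ3 x = x ^ r := by
    rw [hφ3, MulAut.mul_apply, MulAut.conj_apply, hφ2x, ← pow_add, add_comm, pow_add, mul_assoc,
      mul_inv_cancel, mul_one]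
  have hφ3y : φ3 y = y := by
    rw [hφ3, MulAut.mul_apply, MulAut.conj_apply, hy']
    have h1 : y * x ^ i = (x ^ m) ^ i * y := by rw [← hy, conj_pow]; group
    have h2 : y * x ^ a = (x ^ m) ^ a * y := by rw [← hy, conj_pow]; group
    have h3 : x ^ a * (x ^ m) ^ i = (x ^ m) ^ a := by
      rw [← pow_mul, ← pow_mul, ← pow_add]
      exact pow_eq_of_mod hx ha
    calc x ^ a * (y * x ^ i) * (x ^ a)⁻¹ = x ^ a * (x ^ m) ^ i * y * (x ^ a)⁻¹ := by rw [h1]; group
      _ = (x ^ m) ^ a * y * (x ^ a)⁻¹ := by rw [h3]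
      _ = y * x ^ a * (x ^ a)⁻¹ := by rw [h2]
      _ = y := by group
  -- step 5
  have hw' : φ3 w * y * (φ3 w)⁻¹ = w * y * w⁻¹ := by
    rw [hw]
    have := congrArg φ3 hw
    rw [map_mul, map_mul, map_inv, map_pow, hφ3y] at this
    exact this
  have hcy : (w⁻¹ * φ3 w) * y = y * (w⁻¹ * φ3 w) := by
    have := congrArg (fun z => w⁻¹ * z * φ3 w) hw'
    simp only [mul_assoc, inv_mul_cancel, mul_one] at this
    rw [mul_assoc, this]
    group
  have hφ3 : φ3 = MulAut.conj (x ^ a * (y ^ j * g1)) * α := by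
    rw [hφ3, hφ2, ← mul_assoc, ← map_mul]
  refine ⟨x ^ a * (y ^ j * g1), r, hrR, w⁻¹ * φ3 w, hCy _ hcy, ?_, ?_, ?_⟩
  · rw [← MulAut.conj_apply, ← MulAut.mul_apply, ← hφ3, hφ3x]
  · rw [← MulAut.conj_apply, ← MulAut.mul_apply, ← hφ3, hφ3y]
  · rw [← MulAut.conj_apply, ← MulAut.mul_apply, ← hφ3]; group

/-- **All automorphisms are inner**, if no candidate other than the identity extends to an automorphism. -/
theorem all_inner (p : ℕ) [hp : Fact p.Prime] (hp2 : ¬ p ^ 2 ∣ Nat.card G)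
    (x y w : G) (hx : orderOf x = p)
    (hCx : ∀ c : G, c * x = x * c → c ∈ Subgroup.zpowers x)
    (m : ℕ) (hy : y * x * y⁻¹ = x ^ m)
    (R : Finset ℕ) (hR : ∀ k < p, k ≠ 0 → ∃ j : ℕ, ∃ r ∈ R, (k * m ^ j) % p = r % p)
    (hsolve : ∀ i < p, ∃ a : ℕ, (a + m * i) % p = (m * a) % p)
    (Cy : Finset G) (hCy : ∀ c : G, c * y = y * c → c ∈ Cy)
    (s : ℕ) (hw : w * y * w⁻¹ = y ^ s)
    (hgen : Subgroup.closure {x, y, w} = (⊤ : Subgroup G))
    (hkill : ∀ r ∈ R, ∀ c ∈ Cy, (∃ β : MulAut G, β x = x ^ r ∧ β y = y ∧ β w = w * c) → x ^ r = x ∧ c = 1)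
    (α : MulAut G) : ∃ g : G, α = MulAut.conj g := by
  obtain ⟨g, r, hrR, c, hcC, h1, h2, h3⟩ :=
    aut_normal_form p hp2 x y w hx hCx m hy R hR hsolve Cy hCy s hw α
  set β : MulAut G := MulAut.conj g * α with hβ
  have hβx : β x = x ^ r := by rw [hβ, MulAut.mul_apply, MulAut.conj_apply, h1]
  have hβy : β y = y := by rw [hβ, MulAut.mul_apply, MulAut.conj_apply, h2]
  have hβw : β w = w * c := by rw [hβ, MulAut.mul_apply, MulAut.conj_apply, h3]
  obtain ⟨e1, e2⟩ := hkill r hrR c hcC ⟨β, hβx, hβy, hβw⟩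
  rw [e1] at hβx
  rw [e2, mul_one] at hβw
  have hβ1 : β = 1 := by
    have hhom : β.toMonoidHom = MonoidHom.id G := by
      apply MonoidHom.eq_of_eqOn_dense hgen
      intro z hz
      rcases hz with rfl | rfl | rfl
      · exact hβx
      · exact hβy
      · exact hβw
    exact MulEquiv.ext fun z => congrArg (fun f : G →* G => f z) hhom
  refine ⟨g⁻¹, ?_⟩
  rw [map_inv]
  exact eq_inv_of_mul_eq_one_right hβ1

omit [Finite G] in
/-- `Out G` is trivial when every automorphism is inner -/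
theorem card_out_eq_one_of_inner (h : ∀ α : MulAut G, ∃ g : G, α = MulAut.conj g) :
    Nat.card (Cfsg.Out G) = 1 := by
  have htop : Cfsg.Inn G = ⊤ := by
    rw [eq_top_iff]
    intro α _
    obtain ⟨g, hg⟩ := h α
    exact ⟨g, hg.symm⟩
  show Nat.card (MulAut G ⧸ Cfsg.Inn G) = 1
  rw [← Subgroup.index_eq_card, htop, Subgroup.index_top]

end Cfsg.Agent.PChain
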