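import Mathlib
import Cfsg.Agent.Lib.Helper5.LW.Count
import Cfsg.Agent.Lib.Helper5.LW.PermIndex

/-! A sharply `t`-transitive group of degree `t + 7` (`t = 4, 5`) has a `(t+1)`-set on which the
setwise stabiliser induces at least the alternating group (orbit counting on `(t+1)`-sets). -/

set_option autoImplicit false
set_option maxHeartbeats 1000000

namespace Cfsg.Agent.Lib.Lead.SharpSmall

open Equiv MulAction
open scoped Pointwise

variable {β : Type*} [Fintype β] [DecidableEq β]

/-- restriction of the stabiliser of a finset to the finset -/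
noncomputable def resD (Y : Subgroup (Perm β)) (D : Finset β) :
    stabilizer Y D →* Perm {x // x ∈ D} where
  toFun g := ((g : Y) : Perm β).subtypePerm (fun x => by
    have hg : (g : Y) • D = D := g.2
    constructor
    · intro h
      have h1 : (g : Y) • x ∈ (g : Y) • D := by rw [hg]; exact h
      exact (Finset.smul_mem_smul_finset_iff (g : Y)).mp h1
    · intro h
      have h1 : (g : Y) • x ∈ (g : Y) • D := (Finset.smul_mem_smul_finset_iff (g : Y)).mpr h
      rw [hg] at h1; exact h1)
  map_one' := by ext x; rfl
  map_mul' g h := by ext x; rfl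

lemma resD_apply (Y : Subgroup (Perm β)) (D : Finset β) (g : stabilizer Y D) (x : {x // x ∈ D}) :
    ((resD Y D g x : {x // x ∈ D}) : β) = ((g : Y) : Perm β) x := rfl

theorem alt_of_sharp_small (Y : Subgroup (Equiv.Perm β)) {t : ℕ}
    (ht : t = 4 ∨ t = 5) (hn : Fintype.card β = t + 7)
    (hY : MulAction.IsMultiplyPretransitive Y β t)
    (hsharp : ∀ (g : Y) (x : Fin t ↪ β), (∀ i, g • x i = x i) → g = 1) :
    ∃ D : Finset β, D.card = t + 1 ∧ ∀ σ : Equiv.Perm D, σ ∈ alternatingGroup D →
      ∃ g ∈ Y, ∀ x : D, g (x : β) = σ x := by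
  classical
  by_contra hcon
  push Not at hcon
  -- the order of `Y`
  have hfix1 : ∀ s : Finset β, s.card = t → ∀ g : Y, (∀ x ∈ s, g • x = x) → g = 1 := by
    intro s hs g hg
    let e : s ≃ Fin t := s.equivFinOfCardEq hs
    let x : Fin t ↪ β := e.symm.toEmbedding.trans (Function.Embedding.subtype _)
    exact hsharp g x (fun i => hg _ (e.symm i).2)
  obtain ⟨s0, -, hs0⟩ := Finset.exists_subset_card_eq (s := (Finset.univ : Finset β)) (n := t)
    (by rw [Finset.card_univ]; omega)
  have hcardY : Nat.card Y = (t + 7).descFactorial t := by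
    have h1 := Cfsg.Agent.Lib.Helper5.LW.card_eq_descFactorial_mul (G := Y) hY s0 hs0 (by omega)
    have h2 : Nat.card (fixingSubgroup Y (s0 : Set β)) = 1 := by
      rw [Nat.card_eq_one_iff_unique]
      refine ⟨⟨fun a b => ?_⟩, ⟨1⟩⟩
      have ha : (a : Y) = 1 := hfix1 s0 hs0 a (fun x hx => by
        have := (mem_fixingSubgroup_iff Y).mp a.2 x (by simpa using hx)
        exact this)
      have hb : (b : Y) = 1 := hfix1 s0 hs0 b (fun x hx => by
        have := (mem_fixingSubgroup_iff Y).mp b.2 x (by simpa using hx)
        exact this)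
      exact Subtype.ext (ha.trans hb.symm)
    rw [h1, h2, mul_one, hn]
  -- every `(t+1)`-set has a small stabiliser
  have hsmall : ∀ D : Finset β, D.card = t + 1 →
      Nat.card (stabilizer Y D) ≤ t.factorial := by
    intro D hD
    obtain ⟨σ, hσA, hσ⟩ := hcon D hD
    -- injectivity of the restriction
    have hinj : Function.Injective (resD Y D) := by
      rw [injective_iff_map_eq_one]
      intro g hg
      obtain ⟨s, hsD, hs⟩ := Finset.exists_subset_card_eq (s := D) (n := t) (by omega)
      have : (g : Y) = 1 := hfix1 s hs g (fun x hx => by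
        have := congrArg (fun τ : Perm {x // x ∈ D} => ((τ ⟨x, hsD hx⟩ : {x // x ∈ D}) : β)) hg
        show ((g : Y) : Perm β) x = x
        simpa [resD_apply] using this)
      exact Subtype.ext this
    set U : Subgroup (Perm {x // x ∈ D}) := (resD Y D).range with hU
    have hcardU : Nat.card U = Nat.card (stabilizer Y D) :=
      (Nat.card_congr (MonoidHom.ofInjective hinj).toEquiv).symm
    have hcardD : Fintype.card {x // x ∈ D} = t + 1 := by simp [hD]
    -- `U` does not contain the alternating group
    have hnotle : ¬ alternatingGroup {x // x ∈ D} ≤ U := by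
      intro hle
      obtain ⟨g, hg⟩ := hle hσA
      obtain ⟨x, hx⟩ := hσ ((g : Y) : Perm β) (g : Y).2
      apply hx
      have := congrArg (fun τ : Perm {x // x ∈ D} => ((τ x : {x // x ∈ D}) : β)) hg
      simpa [resD_apply] using this
    have hidx : 2 < U.index := by
      have h0 : U.index ≠ 0 := Subgroup.index_ne_zero_of_finite
      have h1 : U.index ≠ 1 := by
        intro h
        rw [Subgroup.index_eq_one] at h
        exact hnotle (h ▸ le_top)
      have h2 : U.index ≠ 2 := by
        intro h
        have := Equiv.Perm.eq_alternatingGroup_of_index_eq_two h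
        exact hnotle (this ▸ le_refl _)
      omega
    have hidx2 := Cfsg.Agent.Lib.Helper5.LW.card_le_index_of_two_lt_index
      (β := {x // x ∈ D}) (by rw [hcardD]; rcases ht with rfl | rfl <;> norm_num) U hidx
    rw [hcardD] at hidx2
    have hmul : Nat.card U * U.index = (t + 1).factorial := by
      rw [Subgroup.card_mul_index, Nat.card_perm, Nat.card_eq_fintype_card, hcardD]
    rw [← hcardU]
    have h3 : Nat.card U * (t + 1) ≤ (t + 1) * t.factorial := by
      calc Nat.card U * (t + 1) ≤ Nat.card U * U.index := Nat.mul_le_mul_left _ hidx2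
        _ = (t + 1).factorial := hmul
        _ = (t + 1) * t.factorial := Nat.factorial_succ t
    have h4 : Nat.card U * (t + 1) ≤ t.factorial * (t + 1) := by rw [mul_comm t.factorial]; exact h3
    exact Nat.le_of_mul_le_mul_right h4 (by omega)
  -- orbit sizes
  have horb : ∀ D : Finset β, D.card = t + 1 →
      (t + 7).descFactorial t ≤ (Set.ncard (orbit Y D)) * t.factorial := by
    intro D hD
    have h1 : (stabilizer Y D).index = (orbit Y D).ncard := index_stabilizer Y D
    have h2 := Subgroup.card_mul_index (stabilizer Y D)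
    rw [hcardY, h1] at h2
    rw [← h2, mul_comm]
    exact Nat.mul_le_mul_left _ (hsmall D hD)
  have hdvd : ∀ D : Finset β, (Set.ncard (orbit Y D)) ∣ (t + 7).descFactorial t := by
    intro D
    have h1 : (stabilizer Y D).index = (orbit Y D).ncard := index_stabilizer Y D
    rw [← h1, ← hcardY]
    exact Subgroup.index_dvd_card _
  -- all sets in an orbit have the same cardinality
  have hsub : ∀ D : Finset β, D.card = t + 1 →
      orbit Y D ⊆ ((Finset.powersetCard (t + 1) (Finset.univ : Finset β) : Finset (Finset β)) : Set (Finset β)) := by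
    intro D hD E hE
    obtain ⟨g, rfl⟩ := hE
    rw [Finset.mem_coe, Finset.mem_powersetCard]
    refine ⟨Finset.subset_univ _, ?_⟩
    rw [Finset.card_smul_finset]; exact hD
  have hpc : ((Finset.powersetCard (t + 1) (Finset.univ : Finset β) : Finset (Finset β)) : Set (Finset β)).ncard
      = (t + 7).choose (t + 1) := by
    rw [Set.ncard_coe_finset, Finset.card_powersetCard, Finset.card_univ, hn]
  obtain ⟨D0, -, hD0⟩ := Finset.exists_subset_card_eq (s := (Finset.univ : Finset β)) (n := t + 1)
    (by rw [Finset.card_univ]; omega)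
  by_cases hall : ∀ D1 : Finset β, D1.card = t + 1 → D1 ∈ orbit Y D0
  · -- transitive on `(t+1)`-sets
    have heq : orbit Y D0 = ((Finset.powersetCard (t + 1) (Finset.univ : Finset β) : Finset (Finset β)) : Set (Finset β)) := by
      apply Set.Subset.antisymm (hsub D0 hD0)
      intro E hE
      rw [Finset.mem_coe, Finset.mem_powersetCard] at hE
      exact hall E hE.2
    have := hdvd D0
    rw [heq, hpc] at this
    rcases ht with rfl | rfl
    · revert this; decide
    · revert this; decide
  · push Not at hall
    obtain ⟨D1, hD1, hD1n⟩ := hall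
    have hdisj : Disjoint (orbit Y D0) (orbit Y D1) := by
      rw [Set.disjoint_left]
      intro E hE0 hE1
      apply hD1n
      have h0 := orbit_eq_iff.mpr hE0
      have h1 := orbit_eq_iff.mpr hE1
      rw [← h0, h1]
      exact mem_orbit_self D1
    have hunion : (orbit Y D0 ∪ orbit Y D1).ncard ≤ (t + 7).choose (t + 1) := by
      rw [← hpc]
      exact Set.ncard_le_ncard (Set.union_subset (hsub D0 hD0) (hsub D1 hD1)) (Finset.finite_toSet _)
    rw [Set.ncard_union_eq hdisj (Set.toFinite _) (Set.toFinite _)] at hunion
    have h0 := horb D0 hD0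
    have h1 := horb D1 hD1
    have h2 : 2 * (t + 7).descFactorial t ≤ (t + 7).choose (t + 1) * t.factorial := by
      calc 2 * (t + 7).descFactorial t
          ≤ (orbit Y D0).ncard * t.factorial + (orbit Y D1).ncard * t.factorial := by omega
        _ = ((orbit Y D0).ncard + (orbit Y D1).ncard) * t.factorial := by ring
        _ ≤ (t + 7).choose (t + 1) * t.factorial := Nat.mul_le_mul_right _ hunion
    rcases ht with rfl | rfl
    · revert h2; decide
    · revert h2; decide

end Cfsg.Agent.Lib.Lead.SharpSmall
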