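import Mathlib

/-! Transport of "the alternating group of a subset is induced" from a group of permutations of a
subset `Φ` (all of whose elements are induced by a group `G` on the ambient set) to `G`. -/

set_option autoImplicit false

namespace Cfsg.Agent.Lib.Lead.TransportAlt

open Equiv

theorem transport_alt {α : Type*} [Fintype α] [DecidableEq α] (G : Subgroup (Equiv.Perm α))
    (Φ : Finset α) (N : Subgroup (Equiv.Perm ↥Φ))
    (hN : ∀ σ ∈ N, ∃ g ∈ G, ∀ x : ↥Φ, g (x : α) = σ x) {m : ℕ} (D' : Finset ↥Φ)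
    (hD' : D'.card = m)
    (h : ∀ τ : Equiv.Perm ↥D', τ ∈ alternatingGroup ↥D' →
      ∃ σ ∈ N, ∀ x : ↥D', σ (x : ↥Φ) = τ x) :
    ∃ D : Finset α, D.card = m ∧ ∀ σ : Equiv.Perm ↥D, σ ∈ alternatingGroup ↥D →
      ∃ g ∈ G, ∀ x : ↥D, g (x : α) = σ x := by
  classical
  refine ⟨D'.map (Function.Embedding.subtype _), by rw [Finset.card_map, hD'], ?_⟩
  -- the obvious equivalence
  let e : ↥D' ≃ ↥(D'.map (Function.Embedding.subtype (fun x => x ∈ Φ))) :=
    { toFun := fun x => ⟨((x : ↥Φ) : α), Finset.mem_map.mpr ⟨(x : ↥Φ), x.2, rfl⟩⟩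
      invFun := fun y => ⟨⟨(y : α), by
          obtain ⟨z, -, hz⟩ := Finset.mem_map.mp y.2
          rw [← hz]; exact z.2⟩, by
          obtain ⟨z, hz1, hz⟩ := Finset.mem_map.mp y.2
          have : (⟨(y : α), by rw [← hz]; exact z.2⟩ : ↥Φ) = z := Subtype.ext hz.symm
          rw [this]; exact hz1⟩
      left_inv := fun x => by ext; rfl
      right_inv := fun y => by ext; rfl }
  have he : ∀ x : ↥D', ((e x : ↥(D'.map (Function.Embedding.subtype (fun x => x ∈ Φ)))) : α)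
      = ((x : ↥Φ) : α) := fun x => rfl
  have hes : ∀ y : ↥(D'.map (Function.Embedding.subtype (fun x => x ∈ Φ))),
      (((e.symm y : ↥D') : ↥Φ) : α) = (y : α) := fun y => rfl
  intro σ hσ
  set τ : Perm ↥D' := e.symm.permCongr σ with hτ
  have hτA : τ ∈ alternatingGroup ↥D' := by
    rw [Equiv.Perm.mem_alternatingGroup] at hσ ⊢
    rw [hτ, Equiv.Perm.sign_permCongr]; exact hσ
  obtain ⟨σ', hσ'N, hσ'⟩ := h τ hτA
  obtain ⟨g, hgG, hg⟩ := hN σ' hσ'N
  refine ⟨g, hgG, fun y => ?_⟩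
  have h1 := hg ((e.symm y : ↥D') : ↥Φ)
  have h2 := hσ' (e.symm y)
  rw [hes y] at h1
  rw [h1, h2, hτ]
  simp only [Equiv.permCongr_apply, Equiv.symm_symm, Equiv.apply_symm_apply]
  exact hes (σ y)

end Cfsg.Agent.Lib.Lead.TransportAlt
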