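import Mathlib
import Cfsg.Agent.S0215
import Cfsg.Agent.H1.NormMap

/-!
# Groups with abelian Sylow 2-subgroups, trivial centre and trivial odd core

If `H` has an abelian Sylow 2-subgroup `T`, trivial centre and no nontrivial normal subgroup of odd order, then `T`
lies in every subgroup containing all commutators (a consequence of Glauberman's Z*-theorem, Burnside's fusion
theorem and the norm map of a complement of `T` in its normalizer).
-/

set_option autoImplicit false

namespace Cfsg.Agent.Lib.Lead.AbSylAut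

open Cfsg.Agent.H1

universe u

theorem sylow_le_of_commutators {H : Type u} [Group H] [Finite H] (T : Sylow 2 H)
    (hT : IsMulCommutative (T : Subgroup H))
    (I : Subgroup H) (hI : ∀ x y : H, x * y * x⁻¹ * y⁻¹ ∈ I)
    (hO : ∀ N : Subgroup H, N.Normal → Odd (Nat.card N) → N = ⊥)
    (hZ : Subgroup.center H = ⊥) : (T : Subgroup H) ≤ I := by
  have : Fact (Nat.Prime 2) := ⟨Nat.prime_two⟩
  have hpp : (2 : ℕ).Prime := Nat.prime_two
  have : IsMulCommutative (T : Subgroup H) := hT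
  obtain ⟨L, hL⟩ : ∃ L, L = Subgroup.normalizer ((T : Subgroup H) : Set H) := ⟨_, rfl⟩
  have hTL : (T : Subgroup H) ≤ L := hL ▸ Subgroup.le_normalizer
  have hTLn : ((T : Subgroup H).subgroupOf L).Normal := by
    rw [hL]; exact Subgroup.normal_in_normalizer
  have hidx : ¬ 2 ∣ ((T : Subgroup H).subgroupOf L).index := by
    intro hd
    have := Subgroup.relIndex_mul_index hTL
    exact T.not_dvd_index (this ▸ Dvd.dvd.mul_right hd _)
  have hcop : Nat.Coprime (Nat.card ((T : Subgroup H).subgroupOf L))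
      ((T : Subgroup H).subgroupOf L).index := by
    have hpg : IsPGroup 2 ((T : Subgroup H).subgroupOf L) := T.2.comap_subtype
    obtain ⟨n, hn⟩ := hpg.exists_card_eq
    rw [hn]
    exact Nat.Coprime.pow_left _ ((Nat.Prime.coprime_iff_not_dvd hpp).2 hidx)
  obtain ⟨K', hK'⟩ := Subgroup.exists_right_complement'_of_coprime hcop
  obtain ⟨K, hK⟩ : ∃ K, K = K'.map L.subtype := ⟨_, rfl⟩
  have hKL : K ≤ L := by rw [hK]; exact Subgroup.map_subtype_le K'
  have hKcard : ¬ 2 ∣ Nat.card K := by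
    rw [hK, Subgroup.card_map_of_injective L.subtype_injective, ← hK'.symm.index_eq_card]
    exact hidx
  have hdecomp : ∀ n ∈ L, ∃ u ∈ (T : Subgroup H), ∃ k ∈ K, n = u * k := by
    intro n hn
    obtain ⟨⟨u', k'⟩, huk⟩ := hK'.2 ⟨n, hn⟩
    refine ⟨(u' : L), u'.2, (k' : L), ?_, ?_⟩
    · rw [hK]; exact Subgroup.mem_map_of_mem L.subtype k'.2
    · have := congrArg Subtype.val huk
      simpa using this.symm
  have hKT : K ≤ Subgroup.normalizer ((T : Subgroup H) : Set H) := hL ▸ hKL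
  obtain ⟨ν, hν1, -, -, hν4⟩ := exists_normMap (T : Subgroup H) K hT hKT
  have hcommI : ⁅(T : Subgroup H), K⁆ ≤ I := by
    rw [Subgroup.commutator_le]
    intro x _ y _
    rw [commutatorElement_def]
    exact hI x y
  intro a ha
  -- the norm of `a` is central in the normalizer
  have hzL : ∀ n ∈ L, n * ((ν ⟨a, ha⟩ : (T : Subgroup H)) : H) * n⁻¹ = ((ν ⟨a, ha⟩ : (T : Subgroup H)) : H) := by
    intro n hn
    obtain ⟨u, hu, k, hk, rfl⟩ := hdecomp n hn
    have e1 : u * (ν ⟨a, ha⟩ : H) = (ν ⟨a, ha⟩ : H) * u := by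
      have := hT.is_comm.comm (⟨u, hu⟩ : (T : Subgroup H)) (ν ⟨a, ha⟩)
      exact congrArg Subtype.val this
    have e2 : k * (ν ⟨a, ha⟩ : H) * k⁻¹ = (ν ⟨a, ha⟩ : H) := by
      have := hν1 ⟨a, ha⟩ ⟨k, hk⟩
      exact congrArg Subtype.val this
    calc u * k * (ν ⟨a, ha⟩ : H) * (u * k)⁻¹ = u * (k * (ν ⟨a, ha⟩ : H) * k⁻¹) * u⁻¹ := by group
      _ = (ν ⟨a, ha⟩ : H) := by rw [e2, e1]; group
  -- the norm of `a` is trivial
  have hz1 : ((ν ⟨a, ha⟩ : (T : Subgroup H)) : H) = 1 := by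
    by_contra hne
    set z : H := ((ν ⟨a, ha⟩ : (T : Subgroup H)) : H) with hz
    have hzT : z ∈ (T : Subgroup H) := (ν ⟨a, ha⟩).2
    obtain ⟨m, hm⟩ : ∃ m : ℕ, orderOf z = 2 ^ m := by
      obtain ⟨m, hm⟩ := (IsPGroup.iff_orderOf.mp T.isPGroup') ⟨z, hzT⟩
      refine ⟨m, ?_⟩
      rw [← hm]
      exact (Subgroup.orderOf_mk z hzT).symm
    have hm0 : m ≠ 0 := by
      rintro rfl
      rw [pow_zero, orderOf_eq_one_iff] at hm
      exact hne hm
    obtain ⟨m', rfl⟩ : ∃ m', m = m' + 1 := ⟨m - 1, by omega⟩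
    set β : H := z ^ (2 ^ m') with hβ
    have hβ2 : orderOf β = 2 := by
      rw [hβ, orderOf_pow_of_dvd (pow_ne_zero _ (by norm_num)) (by rw [hm]; exact pow_dvd_pow 2 (by omega)),
        hm, pow_succ, Nat.mul_div_cancel_left _ (pow_pos (by norm_num) _)]
    have hβT : β ∈ (T : Subgroup H) := Subgroup.pow_mem _ hzT _
    have hβL : ∀ n ∈ L, n * β * n⁻¹ = β := by
      intro n hn
      rw [hβ, ← conj_pow, hzL n hn]
    have hiso : ∀ g : H, g * β * g⁻¹ ∈ (T : Subgroup H) → g * β * g⁻¹ = β := by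
      intro g hg
      obtain ⟨n, hn, h⟩ := T.conj_eq_normalizer_conj_of_mem β g⁻¹ hβT (by rw [inv_inv]; exact hg)
      have h2 := hβL n⁻¹ (L.inv_mem (hL ▸ hn))
      rw [inv_inv] at h2 h
      rw [h, h2]
    obtain ⟨N, hNn, hNodd, hN⟩ := Cfsg.Agent.S0215.result T β hβ2 hβT hiso
    have hNbot := hO N hNn hNodd
    have hβc : β ∈ Subgroup.center H := by
      rw [Subgroup.mem_center_iff]
      intro g
      have := hN g
      rw [hNbot, Subgroup.mem_bot] at this
      have h3 : β * g = g * β := by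
        calc β * g = (β * g * β⁻¹ * g⁻¹) * g * β := by group
          _ = g * β := by rw [this, one_mul]
      exact h3.symm
    rw [hZ, Subgroup.mem_bot] at hβc
    rw [hβc, orderOf_one] at hβ2
    norm_num at hβ2
  -- hence a power of `a` with odd exponent lies in `I`
  have h4 := hν4 ⟨a, ha⟩
  have hν1' : ν ⟨a, ha⟩ = 1 := Subtype.ext hz1
  rw [hν1', inv_one, mul_one] at h4
  have h5 : a ^ Nat.card K ∈ I := hcommI (by simpa using h4)
  have hcop2 : (Nat.card K).Coprime (orderOf a) := by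
    obtain ⟨m, hm⟩ := (IsPGroup.iff_orderOf.mp T.isPGroup') ⟨a, ha⟩
    have : orderOf a = 2 ^ m := by
      rw [← hm]; exact (Subgroup.orderOf_mk a ha).symm
    rw [this]
    exact Nat.Coprime.pow_right _ (((Nat.Prime.coprime_iff_not_dvd hpp).2 hKcard).symm)
  obtain ⟨e, he⟩ := exists_pow_eq_self_of_coprime hcop2
  rw [← he]
  exact Subgroup.pow_mem _ h5 _

end Cfsg.Agent.Lib.Lead.AbSylAut
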