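import Mathlib

set_option autoImplicit false
set_option linter.unusedVariables false
set_option linter.style.haveILetI false

/-! Automorphisms of the alternating group of degree `n ≥ 4`, `n ≠ 6`, are induced by
permutations. -/

namespace Cfsg.Agent.Lead.AutAlt

open Equiv Equiv.Perm

section Cyc
variable {Ω : Type*} [DecidableEq Ω]

/-- the 3-cycle `x → y → z → x` -/
def cyc (x y z : Ω) : Perm Ω := swap x y * swap y z

lemma cyc_apply_1 {x y z : Ω} (hxy : x ≠ y) (hxz : x ≠ z) : cyc x y z x = y := by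
  unfold cyc
  rw [Perm.mul_apply, swap_apply_of_ne_of_ne hxy hxz, swap_apply_left]

lemma cyc_apply_2 {x y z : Ω} (hxz : x ≠ z) (hyz : y ≠ z) : cyc x y z y = z := by
  unfold cyc
  rw [Perm.mul_apply, swap_apply_left, swap_apply_of_ne_of_ne (Ne.symm hxz) (Ne.symm hyz)]

lemma cyc_apply_3 {x y z : Ω} : cyc x y z z = x := by
  unfold cyc
  rw [Perm.mul_apply, swap_apply_right, swap_apply_right]

lemma cyc_apply_other {x y z w : Ω} (hwx : w ≠ x) (hwy : w ≠ y) (hwz : w ≠ z) :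
    cyc x y z w = w := by
  unfold cyc
  rw [Perm.mul_apply, swap_apply_of_ne_of_ne hwy hwz, swap_apply_of_ne_of_ne hwx hwy]

variable [Fintype Ω]

lemma cyc_isThreeCycle {x y z : Ω} (hxy : x ≠ y) (hxz : x ≠ z) (hyz : y ≠ z) :
    (cyc x y z).IsThreeCycle := by
  unfold cyc
  rw [swap_comm x y]
  exact isThreeCycle_swap_mul_swap_same (Ne.symm hxy) hyz hxz

lemma eq_cyc {g : Perm Ω} (hg : g.IsThreeCycle) {a : Ω} (ha : g a ≠ a) :
    g = cyc a (g a) (g (g a)) :=
  (hg.eq_swap_mul_swap_iff_mem_support).2 (mem_support.2 ha)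

/-- a point moved by `cyc x y z` is one of `x, y, z`. -/
lemma mem_of_cyc_ne {x y z w : Ω} (h : cyc x y z w ≠ w) : w = x ∨ w = y ∨ w = z := by
  by_contra hcon
  push_neg at hcon
  exact h (cyc_apply_other hcon.1 hcon.2.1 hcon.2.2)

lemma exists_two_others (h4 : 4 ≤ Fintype.card Ω) (u v : Ω) :
    ∃ a b : Ω, a ≠ b ∧ a ≠ u ∧ a ≠ v ∧ b ≠ u ∧ b ≠ v := by
  classical
  have hc : 2 ≤ (({u, v} : Finset Ω)ᶜ).card := by
    rw [Finset.card_compl]
    have : ({u, v} : Finset Ω).card ≤ 2 := Finset.card_le_two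
    omega
  obtain ⟨a, ha, b, hb, hab⟩ := Finset.one_lt_card.1 (by omega : 1 < (({u, v} : Finset Ω)ᶜ).card)
  simp only [Finset.mem_compl, Finset.mem_insert, Finset.mem_singleton, not_or] at ha hb
  exact ⟨a, b, hab, ha.1, ha.2, hb.1, hb.2⟩

/-- a 3-cycle fixing `u` and moving `v`. -/
lemma exists_sep (h4 : 4 ≤ Fintype.card Ω) {u v : Ω} (huv : u ≠ v) :
    ∃ c : Perm Ω, c.IsThreeCycle ∧ c u = u ∧ c v ≠ v := by
  obtain ⟨a, b, hab, hau, hav, hbu, hbv⟩ := exists_two_others h4 u v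
  refine ⟨cyc v a b, cyc_isThreeCycle (Ne.symm hav) (Ne.symm hbv) hab,
    cyc_apply_other huv (Ne.symm hau) (Ne.symm hbu), ?_⟩
  rw [cyc_apply_1 (Ne.symm hav) (Ne.symm hbv)]
  exact hav

theorem conjNormal_injective (h4 : 4 ≤ Fintype.card Ω) :
    Function.Injective (MulAut.conjNormal : Perm Ω →* MulAut (alternatingGroup Ω)) := by
  rw [injective_iff_map_eq_one]
  intro g hg
  ext x
  by_contra hne
  rw [Perm.one_apply] at hne
  obtain ⟨c, hc3, hcx, hcy⟩ := exists_sep h4 (Ne.symm hne)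
  have hcA : c ∈ alternatingGroup Ω := hc3.mem_alternatingGroup
  have h1 := congrArg
    (fun f : MulAut (alternatingGroup Ω) => ((f ⟨c, hcA⟩ : alternatingGroup Ω) : Perm Ω)) hg
  simp only [MulAut.conjNormal_apply, MulAut.one_apply] at h1
  have h2 := congrArg (fun p : Perm Ω => p (g x)) h1
  simp only [Perm.mul_apply] at h2
  rw [show g⁻¹ (g x) = x from by simp, hcx] at h2
  exact hcy h2.symm

/-- at most `(n-1)(n-2)` three-cycles move a given point. -/
lemma card_moving_le (x : Ω) (S : Finset (Perm Ω))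
    (hS : ∀ c ∈ S, c.IsThreeCycle ∧ c x ≠ x) :
    S.card ≤ (Fintype.card Ω - 1) * (Fintype.card Ω - 2) := by
  classical
  have h1 : S.card ≤ ((Finset.univ.erase x).offDiag).card := by
    apply Finset.card_le_card_of_injOn (fun c => (c x, c (c x)))
    · intro c hc
      obtain ⟨h3, hx⟩ := hS c hc
      rw [Finset.mem_coe, Finset.mem_offDiag]
      have hx' : x ∈ c.support := mem_support.2 hx
      have hnd := h3.nodup_iff_mem_support.2 hx'
      simp only [List.nodup_cons, List.mem_cons, List.mem_singleton, not_or, List.not_mem_nil,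
        List.nodup_nil, not_false_eq_true, and_true] at hnd
      refine ⟨Finset.mem_erase.2 ⟨hx, Finset.mem_univ _⟩,
        Finset.mem_erase.2 ⟨Ne.symm hnd.1.2, Finset.mem_univ _⟩, hnd.2⟩
    · intro c hc c' hc' h
      obtain ⟨h3, hx⟩ := hS c hc
      obtain ⟨h3', hx'⟩ := hS c' hc'
      simp only [Prod.mk.injEq] at h
      calc c = cyc x (c x) (c (c x)) := eq_cyc h3 hx
        _ = cyc x (c' x) (c' (c' x)) := by rw [h.2, h.1]
        _ = c' := (eq_cyc h3' hx').symm
  rw [Finset.offDiag_card, Finset.card_erase_of_mem (Finset.mem_univ _), Finset.card_univ] at h1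
  have e : (Fintype.card Ω - 1) * (Fintype.card Ω - 1) - (Fintype.card Ω - 1)
      = (Fintype.card Ω - 1) * (Fintype.card Ω - 2) := by
    have : Fintype.card Ω - 2 = (Fintype.card Ω - 1) - 1 := by omega
    rw [this]
    generalize Fintype.card Ω - 1 = m
    exact (Nat.mul_sub_one m m).symm
  rw [e] at h1
  exact h1

end Cyc

section Num

open Nat

/-- `R k' m` : `2 (m! 3^(k'+2) (k'+2)!) < 3 (m+3k'+3)!` -/
def R (k' m : ℕ) : Prop := 2 * (m ! * 3 ^ (k' + 2) * (k' + 2)!) < 3 * (m + 3 * k' + 3)!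

lemma R_succ (k' m : ℕ) (h : R k' m) : R k' (m + 1) := by
  unfold R at *
  have e1 : (m + 1 + 3 * k' + 3)! = (m + 3 * k' + 3 + 1) * (m + 3 * k' + 3)! := by
    have : m + 1 + 3 * k' + 3 = (m + 3 * k' + 3) + 1 := by ring
    rw [this, Nat.factorial_succ]
  rw [e1, Nat.factorial_succ]
  have h5 : m + 1 ≤ m + 3 * k' + 3 + 1 := by omega
  calc 2 * ((m + 1) * m ! * 3 ^ (k' + 2) * (k' + 2)!)
      = (m + 1) * (2 * (m ! * 3 ^ (k' + 2) * (k' + 2)!)) := by ring
    _ < (m + 1) * (3 * (m + 3 * k' + 3)!) := Nat.mul_lt_mul_of_pos_left h (by omega)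
    _ ≤ (m + 3 * k' + 3 + 1) * (3 * (m + 3 * k' + 3)!) := Nat.mul_le_mul_right _ h5
    _ = 3 * ((m + 3 * k' + 3 + 1) * (m + 3 * k' + 3)!) := by ring

lemma R_of_le (k' m0 m : ℕ) (h : R k' m0) (hm : m0 ≤ m) : R k' m := by
  induction m, hm using Nat.le_induction with
  | base => exact h
  | succ m hm ih => exact R_succ k' m ih

lemma R_base (j : ℕ) : R (j + 1) 0 := by
  induction j with
  | zero => unfold R; decide
  | succ j ih =>
    unfold R at *
    simp only [Nat.factorial_zero, one_mul, zero_add] at *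
    have e1 : (3 * (j + 1 + 1) + 3)! =
        (3 * (j + 1) + 3 + 3) * ((3 * (j + 1) + 3 + 2) * ((3 * (j + 1) + 3 + 1) *
          (3 * (j + 1) + 3)!)) := by
      have : 3 * (j + 1 + 1) + 3 = (3 * (j + 1) + 3) + 1 + 1 + 1 := by ring
      rw [this, Nat.factorial_succ, Nat.factorial_succ, Nat.factorial_succ]
    have e2 : (j + 1 + 1 + 2)! = (j + 1 + 2 + 1) * (j + 1 + 2)! := by
      have : j + 1 + 1 + 2 = (j + 1 + 2) + 1 := by ring
      rw [this, Nat.factorial_succ]
    rw [e1, e2]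
    have e3 : 3 ^ (j + 1 + 1 + 2) = 3 * 3 ^ (j + 1 + 2) := by ring
    rw [e3]
    have h5 : 3 * (j + 1 + 2 + 1) ≤
        (3 * (j + 1) + 3 + 3) * ((3 * (j + 1) + 3 + 2) * (3 * (j + 1) + 3 + 1)) := by
      have h6 : 2 ≤ (3 * (j + 1) + 3 + 2) * (3 * (j + 1) + 3 + 1) :=
        Nat.le_trans (by omega : 2 ≤ (3 * (j + 1) + 3 + 2) * 1) (Nat.mul_le_mul_left _ (by omega))
      calc 3 * (j + 1 + 2 + 1) ≤ (3 * (j + 1) + 3 + 3) * 2 := by omega
        _ ≤ _ := Nat.mul_le_mul_left _ h6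
    calc 2 * (3 * 3 ^ (j + 1 + 2) * ((j + 1 + 2 + 1) * (j + 1 + 2)!))
        = (3 * (j + 1 + 2 + 1)) * (2 * (3 ^ (j + 1 + 2) * (j + 1 + 2)!)) := by ring
      _ < (3 * (j + 1 + 2 + 1)) * (3 * (3 * (j + 1) + 3)!) :=
          Nat.mul_lt_mul_of_pos_left ih (by omega)
      _ ≤ ((3 * (j + 1) + 3 + 3) * ((3 * (j + 1) + 3 + 2) * (3 * (j + 1) + 3 + 1))) *
            (3 * (3 * (j + 1) + 3)!) := Nat.mul_le_mul_right _ h5
      _ = 3 * ((3 * (j + 1) + 3 + 3) * ((3 * (j + 1) + 3 + 2) * ((3 * (j + 1) + 3 + 1) *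
          (3 * (j + 1) + 3)!))) := by ring

lemma num3 (n k : ℕ) (hn : 7 ≤ n) (hk : 2 ≤ k) (h3k : 3 * k ≤ n) :
    2 * ((n - 3 * k)! * 3 ^ k * k !) < 3 * (n - 3)! := by
  obtain ⟨k', rfl⟩ : ∃ k', k = k' + 2 := ⟨k - 2, by omega⟩
  obtain ⟨m, rfl⟩ : ∃ m, n = 3 * (k' + 2) + m := ⟨n - 3 * (k' + 2), by omega⟩
  have e1 : 3 * (k' + 2) + m - 3 * (k' + 2) = m := by omega
  have e2 : 3 * (k' + 2) + m - 3 = m + 3 * k' + 3 := by omega
  rw [e1, e2]
  show R k' m
  rcases Nat.eq_zero_or_pos k' with rfl | hk'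
  · have hm : 1 ≤ m := by omega
    exact R_of_le 0 1 m (by unfold R; decide) hm
  · obtain ⟨j, rfl⟩ : ∃ j, k' = j + 1 := ⟨k' - 1, by omega⟩
    exact R_of_le (j + 1) 0 m (R_base j) (Nat.zero_le m)

end Num

section Pres

open Nat

variable {Ω : Type*} [DecidableEq Ω] [Fintype Ω]

lemma card_centA_le (x : alternatingGroup Ω) :
    Nat.card (Subgroup.centralizer {x}) ≤ Nat.card (Subgroup.centralizer {(x : Perm Ω)}) := by
  apply Nat.card_le_card_of_injective
    (fun g : Subgroup.centralizer {x} => (⟨((g : alternatingGroup Ω) : Perm Ω), by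
      have := Subgroup.mem_centralizer_singleton_iff.1 g.2
      rw [Subgroup.mem_centralizer_singleton_iff]
      exact congrArg Subtype.val this⟩ : Subgroup.centralizer {(x : Perm Ω)}))
  intro g g' h
  apply Subtype.ext
  apply Subtype.ext
  exact congrArg (fun t : Subgroup.centralizer {(x : Perm Ω)} => (t : Perm Ω)) h

lemma card_cent_le_two_mul [Nontrivial Ω] (x : alternatingGroup Ω) :
    Nat.card (Subgroup.centralizer {(x : Perm Ω)}) ≤ 2 * Nat.card (Subgroup.centralizer {x}) := by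
  have h1 := ((alternatingGroup Ω).subgroupOf (Subgroup.centralizer {(x : Perm Ω)})).card_mul_index
  have h2 : ((alternatingGroup Ω).subgroupOf (Subgroup.centralizer {(x : Perm Ω)})).index ∣ 2 := by
    have := Subgroup.relIndex_dvd_index_of_normal (alternatingGroup Ω)
      (Subgroup.centralizer {(x : Perm Ω)})
    rwa [alternatingGroup.index_eq_two] at this
  have h3 : Nat.card ((alternatingGroup Ω).subgroupOf (Subgroup.centralizer {(x : Perm Ω)})) ≤
      Nat.card (Subgroup.centralizer {x}) := by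
    apply Nat.card_le_card_of_injective
      (fun g : (alternatingGroup Ω).subgroupOf (Subgroup.centralizer {(x : Perm Ω)}) =>
        (⟨⟨((g : Subgroup.centralizer {(x : Perm Ω)}) : Perm Ω), g.2⟩, by
        rw [Subgroup.mem_centralizer_singleton_iff]
        apply Subtype.ext
        exact Subgroup.mem_centralizer_singleton_iff.1
          (g : Subgroup.centralizer {(x : Perm Ω)}).2⟩ : Subgroup.centralizer {x}))
    intro g g' h
    apply Subtype.ext
    apply Subtype.ext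
    exact congrArg (fun t : Subgroup.centralizer {x} => ((t : alternatingGroup Ω) : Perm Ω)) h
  have h4 : ((alternatingGroup Ω).subgroupOf (Subgroup.centralizer {(x : Perm Ω)})).index ≤ 2 :=
    Nat.le_of_dvd (by norm_num) h2
  calc Nat.card (Subgroup.centralizer {(x : Perm Ω)})
      = Nat.card ((alternatingGroup Ω).subgroupOf (Subgroup.centralizer {(x : Perm Ω)})) *
        ((alternatingGroup Ω).subgroupOf (Subgroup.centralizer {(x : Perm Ω)})).index := h1.symm
    _ ≤ Nat.card (Subgroup.centralizer {x}) * 2 := Nat.mul_le_mul h3 h4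
    _ = _ := by ring

/-- automorphisms of the alternating group (degree `≠ 6`) preserve 3-cycles. -/
theorem pres (h6 : Fintype.card Ω ≠ 6) (ψ : MulAut (alternatingGroup Ω))
    (c : alternatingGroup Ω) (hc : (c : Perm Ω).IsThreeCycle) :
    ((ψ c : alternatingGroup Ω) : Perm Ω).IsThreeCycle := by
  have hord : orderOf ((ψ c : alternatingGroup Ω) : Perm Ω) = 3 := by
    rw [Subgroup.orderOf_coe, MulEquiv.orderOf_eq, ← Subgroup.orderOf_coe]
    exact hc.orderOf
  obtain ⟨k, hk⟩ := cycleType_prime_order (σ := ((ψ c : alternatingGroup Ω) : Perm Ω))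
    (by rw [hord]; norm_num)
  rw [hord] at hk
  have hsum : (k + 1) * 3 ≤ Fintype.card Ω := by
    have := sum_cycleType_le ((ψ c : alternatingGroup Ω) : Perm Ω)
    rw [hk, Multiset.sum_replicate, smul_eq_mul] at this
    exact this
  suffices hk0 : k = 0 by
    rw [IsThreeCycle, hk, hk0]; rfl
  by_contra hk0
  have hn7 : 7 ≤ Fintype.card Ω := by omega
  haveI : Nontrivial Ω := Fintype.one_lt_card_iff_nontrivial.1 (by omega)
  have hmap : Subgroup.centralizer {ψ c} = (Subgroup.centralizer {c}).map ψ.toMonoidHom := by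
    ext y
    rw [Subgroup.mem_map, Subgroup.mem_centralizer_singleton_iff]
    constructor
    · intro hy
      refine ⟨ψ.symm y, ?_, by simp⟩
      rw [Subgroup.mem_centralizer_singleton_iff]
      apply ψ.injective
      rw [map_mul, map_mul]
      simp only [MulEquiv.apply_symm_apply]
      exact hy
    · rintro ⟨g, hg, rfl⟩
      rw [Subgroup.mem_centralizer_singleton_iff] at hg
      show ψ g * ψ c = ψ c * ψ g
      rw [← map_mul, ← map_mul, hg]
  have hcc : Nat.card (Subgroup.centralizer {ψ c}) = Nat.card (Subgroup.centralizer {c}) := by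
    rw [hmap]; exact Subgroup.card_map_of_injective ψ.injective
  have hz1 : Nat.card (Subgroup.centralizer {(c : Perm Ω)}) = (Fintype.card Ω - 3)! * 3 := by
    rw [nat_card_centralizer, hc.cycleType]
    simp
  have hz2 : Nat.card (Subgroup.centralizer {((ψ c : alternatingGroup Ω) : Perm Ω)}) =
      (Fintype.card Ω - 3 * (k + 1))! * 3 ^ (k + 1) * (k + 1)! := by
    rw [nat_card_centralizer, hk]
    have e1 : (Multiset.replicate (k + 1) 3).toFinset = {3} := by
      rw [Multiset.toFinset_replicate, if_neg (by omega)]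
    rw [Multiset.sum_replicate, Multiset.prod_replicate, e1, Finset.prod_singleton,
      Multiset.count_replicate_self, smul_eq_mul, mul_comm (k + 1) 3]
  have i1 := card_cent_le_two_mul c
  have i2 := card_centA_le (ψ c)
  rw [hz1] at i1
  rw [hz2] at i2
  rw [← hcc] at i1
  have := num3 (Fintype.card Ω) (k + 1) hn7 (by omega) (by omega)
  omega

end Pres

section Few

open scoped Pointwise

variable {Ω : Type*} [DecidableEq Ω] [Fintype Ω]

lemma block_cyc_not_mem (G : Subgroup (Perm Ω)) {B : Set Ω} (hB : MulAction.IsBlock G B)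
    {x x₂ y z : Ω} (hx : x ∈ B) (hx₂ : x₂ ∈ B) (hxx₂ : x₂ ≠ x) (hy : y ∉ B)
    (hxy : x ≠ y) (hxz : x ≠ z) (hyz : y ≠ z) : cyc x y z ∉ G := by
  intro hc
  have hsm : ∀ w : Ω, (⟨cyc x y z, hc⟩ : G) • w = cyc x y z w := fun w => rfl
  rcases hB.smul_eq_or_disjoint ⟨cyc x y z, hc⟩ with h | h
  · have h1 : (⟨cyc x y z, hc⟩ : G) • x ∈ (⟨cyc x y z, hc⟩ : G) • B := Set.smul_mem_smul_set hx
    rw [h, hsm, cyc_apply_1 hxy hxz] at h1
    exact hy h1
  · rw [Set.disjoint_left] at h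
    have h2 : (⟨cyc x y z, hc⟩ : G) • x₂ ∈ (⟨cyc x y z, hc⟩ : G) • B :=
      Set.smul_mem_smul_set hx₂
    have h3 : cyc x y z x₂ ∉ B := by
      rw [← hsm]; exact h h2
    have h4 : cyc x y z x₂ ≠ x₂ := fun h5 => h3 (by rw [h5]; exact hx₂)
    rcases mem_of_cyc_ne h4 with h5 | h5 | h5
    · exact hxx₂ h5
    · exact hy (h5 ▸ hx₂)
    · have h6 : (⟨cyc x y z, hc⟩ : G) • z ∈ (⟨cyc x y z, hc⟩ : G) • B :=
        Set.smul_mem_smul_set (h5 ▸ hx₂)
      have h7 := h h6
      rw [hsm, cyc_apply_3] at h7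
      exact h7 hx

lemma count_cross (G : Subgroup (Perm Ω)) (B : Finset Ω)
    (hcross : ∀ x ∈ B, ∀ y ∉ B, ∀ z, z ≠ x → z ≠ y → cyc x y z ∉ G)
    (M : Finset (Perm Ω)) (hM : ∀ c : Perm Ω, c.IsThreeCycle → c ∉ G → c ∈ M) :
    B.card * (Fintype.card Ω - B.card) * (Fintype.card Ω - 2) ≤ M.card := by
  classical
  let D : Finset (Σ _ : Ω × Ω, Ω) :=
    (B ×ˢ Bᶜ).sigma (fun p => (Finset.univ.erase p.1).erase p.2)
  have hD : D.card = B.card * (Fintype.card Ω - B.card) * (Fintype.card Ω - 2) := by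
    rw [Finset.card_sigma]
    rw [Finset.sum_const_nat (m := Fintype.card Ω - 2)]
    · rw [Finset.card_product, Finset.card_compl]
    · intro p hp
      rw [Finset.mem_product, Finset.mem_compl] at hp
      have hne : p.2 ≠ p.1 := fun h => hp.2 (h ▸ hp.1)
      rw [Finset.card_erase_of_mem (Finset.mem_erase.2 ⟨hne, Finset.mem_univ _⟩),
        Finset.card_erase_of_mem (Finset.mem_univ _), Finset.card_univ]
      omega
  rw [← hD]
  apply Finset.card_le_card_of_injOn (fun q => cyc q.1.1 q.1.2 q.2)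
  · intro q hq
    rw [Finset.mem_coe, Finset.mem_sigma, Finset.mem_product, Finset.mem_compl,
      Finset.mem_erase, Finset.mem_erase] at hq
    obtain ⟨⟨h1, h2⟩, h3, h4, -⟩ := hq
    have hne : q.1.1 ≠ q.1.2 := fun h => h2 (h ▸ h1)
    exact hM _ (cyc_isThreeCycle hne (Ne.symm h4) (Ne.symm h3)) (hcross _ h1 _ h2 _ h4 h3)
  · rintro ⟨⟨x, y⟩, z⟩ hq ⟨⟨x', y'⟩, z'⟩ hq' h
    rw [Finset.mem_coe, Finset.mem_sigma, Finset.mem_product, Finset.mem_compl,
      Finset.mem_erase, Finset.mem_erase] at hq hq'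
    obtain ⟨⟨h1, h2⟩, h3, h4, -⟩ := hq
    obtain ⟨⟨h1', h2'⟩, h3', h4', -⟩ := hq'
    simp only at h h1 h2 h3 h4 h1' h2' h3' h4'
    have hxy : x ≠ y := fun h => h2 (h ▸ h1)
    have hxy' : x' ≠ y' := fun h => h2' (h ▸ h1')
    have e1 : cyc x y z x' = y' := by rw [h]; exact cyc_apply_1 hxy' (Ne.symm h4')
    have e2 : cyc x y z y' = z' := by rw [h]; exact cyc_apply_2 (Ne.symm h4') (Ne.symm h3')
    have hmv : cyc x y z x' ≠ x' := by rw [e1]; exact Ne.symm hxy'
    rcases mem_of_cyc_ne hmv with h5 | h5 | h5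
    · subst h5
      have e3 : y = y' := by rw [← e1, cyc_apply_1 hxy (Ne.symm h4)]
      subst e3
      have e4 : z = z' := by rw [← e2, cyc_apply_2 (Ne.symm h4) (Ne.symm h3)]
      subst e4
      rfl
    · exact absurd (h5 ▸ h1') h2
    · exfalso
      rw [h5, cyc_apply_3] at e1
      exact h2' (e1 ▸ h1)

/-- A proper subgroup of the alternating group with at most `(n-1)(n-2)` three-cycles outside it
fixes a point. -/
theorem exists_fixed_of_few (h4 : 4 ≤ Fintype.card Ω) (G : Subgroup (Perm Ω))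
    (hG : ¬ alternatingGroup Ω ≤ G)
    (M : Finset (Perm Ω)) (hM : ∀ c : Perm Ω, c.IsThreeCycle → c ∉ G → c ∈ M)
    (hMc : M.card ≤ (Fintype.card Ω - 1) * (Fintype.card Ω - 2)) :
    ∃ z : Ω, ∀ g ∈ G, g z = z := by
  classical
  -- blocks with at least two points are large
  have key : ∀ B : Set Ω, MulAction.IsBlock G B → 2 ≤ B.ncard →
      Fintype.card Ω - 1 ≤ B.ncard := by
    intro B hB h2
    by_contra hlt
    push_neg at hlt
    have hcross : ∀ x ∈ B.toFinset, ∀ y ∉ B.toFinset, ∀ z, z ≠ x → z ≠ y → cyc x y z ∉ G := by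
      intro x hx y hy z hzx hzy
      rw [Set.mem_toFinset] at hx hy
      obtain ⟨x₂, hx₂, hne⟩ := Set.exists_ne_of_one_lt_ncard (by omega : 1 < B.ncard) x
      exact block_cyc_not_mem G hB hx hx₂ hne hy (fun h => hy (h ▸ hx)) (Ne.symm hzx) (Ne.symm hzy)
    have hcnt := count_cross G B.toFinset hcross M hM
    rw [← Set.ncard_eq_toFinset_card'] at hcnt
    obtain ⟨b', hb'⟩ := Nat.exists_eq_add_of_le h2
    obtain ⟨c', hc'⟩ : ∃ c', Fintype.card Ω = b' + c' + 4 :=
      ⟨Fintype.card Ω - b' - 4, by omega⟩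
    rw [hb', hc'] at hcnt
    rw [hc'] at hMc
    have e1 : b' + c' + 4 - (2 + b') = c' + 2 := by omega
    have e2 : b' + c' + 4 - 2 = b' + c' + 2 := by omega
    have e3 : b' + c' + 4 - 1 = b' + c' + 3 := by omega
    rw [e1, e2] at hcnt
    rw [e3, e2] at hMc
    nlinarith [Nat.zero_le (b' * c'), Nat.zero_le b', Nat.zero_le c']
  -- there is a three-cycle in G
  have hex3 : ∃ c : Perm Ω, c.IsThreeCycle ∧ c ∈ G := by
    by_contra hno
    push_neg at hno
    obtain ⟨u, v, huv⟩ : ∃ u v : Ω, u ≠ v := by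
      have : 1 < Fintype.card Ω := by omega
      exact Fintype.one_lt_card_iff.1 this
    have hcross : ∀ x ∈ ({u, v} : Finset Ω), ∀ y ∉ ({u, v} : Finset Ω), ∀ z, z ≠ x → z ≠ y →
        cyc x y z ∉ G := by
      intro x hx y hy z hzx hzy
      exact hno _ (cyc_isThreeCycle (fun h => hy (h ▸ hx)) (Ne.symm hzx) (Ne.symm hzy))
    have hcnt := count_cross G {u, v} hcross M hM
    rw [Finset.card_pair huv] at hcnt
    obtain ⟨c', hc'⟩ : ∃ c', Fintype.card Ω = c' + 4 := ⟨Fintype.card Ω - 4, by omega⟩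
    rw [hc'] at hcnt hMc
    have e1 : c' + 4 - 2 = c' + 2 := by omega
    have e3 : c' + 4 - 1 = c' + 3 := by omega
    rw [e1] at hcnt
    rw [e3, e1] at hMc
    nlinarith [Nat.zero_le c']
  obtain ⟨x₁⟩ : Nonempty Ω := Fintype.card_pos_iff.1 (by omega)
  have hOblock : MulAction.IsBlock G (MulAction.orbit G x₁) := MulAction.IsBlock.orbit x₁
  rcases Nat.lt_or_ge (MulAction.orbit G x₁).ncard 2 with hO1 | hO2
  · -- x₁ is fixed
    refine ⟨x₁, fun g hg => ?_⟩
    by_contra hne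
    have h1 : (⟨g, hg⟩ : G) • x₁ ∈ MulAction.orbit G x₁ := MulAction.mem_orbit _ _
    have h2 : x₁ ∈ MulAction.orbit G x₁ := MulAction.mem_orbit_self _
    have h3 : 1 < (MulAction.orbit G x₁).ncard :=
      (Set.one_lt_ncard_iff (Set.toFinite _)).2 ⟨_, _, h1, h2, hne⟩
    omega
  have hObig := key _ hOblock hO2
  by_cases hOuniv : MulAction.orbit G x₁ = Set.univ
  · -- transitive: primitive, so contains the alternating group
    exfalso
    haveI htrans : MulAction.IsPretransitive G Ω := by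
      rw [MulAction.isPretransitive_iff_base x₁]
      intro y
      have : y ∈ MulAction.orbit G x₁ := by rw [hOuniv]; exact Set.mem_univ _
      exact this
    have hprim : MulAction.IsPreprimitive G Ω := by
      refine { isTrivialBlock_of_isBlock := fun {B} hB => ?_ }
      rcases Nat.lt_or_ge B.ncard 2 with hB1 | hB2
      · left
        rw [← Set.ncard_le_one_iff_subsingleton]
        omega
      · right
        have := key B hB hB2
        apply hB.eq_univ_of_card_lt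
        rw [Nat.card_eq_fintype_card]
        omega
    obtain ⟨c, hc3, hcG⟩ := hex3
    exact hG (alternatingGroup_le_of_isPreprimitive_of_isThreeCycle_mem hprim hc3 hcG)
  · -- one point outside the orbit, and it is fixed
    obtain ⟨w, hw⟩ : ∃ w, w ∉ MulAction.orbit G x₁ := by
      by_contra hcon
      push_neg at hcon
      exact hOuniv (Set.eq_univ_of_forall hcon)
    refine ⟨w, fun g hg => ?_⟩
    by_contra hne
    have hgw : g w ∉ MulAction.orbit G x₁ := by
      intro h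
      apply hw
      have h1 : (⟨g, hg⟩ : G)⁻¹ • (g w) ∈ MulAction.orbit G x₁ := by
        rw [MulAction.mem_orbit_iff] at h ⊢
        obtain ⟨k, hk⟩ := h
        exact ⟨(⟨g, hg⟩ : G)⁻¹ * k, by rw [mul_smul, hk]⟩
      have h2 : (⟨g, hg⟩ : G)⁻¹ • (g w) = w := by
        show g⁻¹ (g w) = w
        simp
      rwa [h2] at h1
    have hsub : ({w, g w} : Set Ω) ⊆ (MulAction.orbit G x₁)ᶜ := by
      rintro t (rfl | rfl)
      · exact hw
      · exact hgw
    have h1 := Set.ncard_le_ncard hsub (Set.toFinite _)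
    rw [Set.ncard_pair (Ne.symm hne)] at h1
    have h2 := Set.ncard_add_ncard_compl (MulAction.orbit G x₁)
    rw [Nat.card_eq_fintype_card] at h2
    omega

end Few

section Main

variable {Ω : Type*} [DecidableEq Ω] [Fintype Ω]

/-- the image of a point stabilizer under an automorphism fixes a point. -/
lemma exists_fix (h4 : 4 ≤ Fintype.card Ω) (h6 : Fintype.card Ω ≠ 6)
    (ψ : MulAut (alternatingGroup Ω)) (x : Ω) :
    ∃ y : Ω, ∀ g : alternatingGroup Ω, (g : Perm Ω) x = x →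
      ((ψ g : alternatingGroup Ω) : Perm Ω) y = y := by
  classical
  let S : Subgroup (alternatingGroup Ω) :=
    (MulAction.stabilizer (Perm Ω) x).subgroupOf (alternatingGroup Ω)
  let G : Subgroup (Perm Ω) := S.map ((alternatingGroup Ω).subtype.comp ψ.toMonoidHom)
  have memS : ∀ g : alternatingGroup Ω, g ∈ S ↔ (g : Perm Ω) x = x := fun g => by
    show (g : Perm Ω) ∈ MulAction.stabilizer (Perm Ω) x ↔ _
    rw [MulAction.mem_stabilizer_iff, Perm.smul_def]
  have memG : ∀ p : Perm Ω, p ∈ G ↔ ∃ g : alternatingGroup Ω, (g : Perm Ω) x = x ∧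
      ((ψ g : alternatingGroup Ω) : Perm Ω) = p := by
    intro p
    show p ∈ S.map _ ↔ _
    rw [Subgroup.mem_map]
    constructor
    · rintro ⟨g, hg, rfl⟩; exact ⟨g, (memS g).1 hg, rfl⟩
    · rintro ⟨g, hg, rfl⟩; exact ⟨g, (memS g).2 hg, rfl⟩
  let Ψ : Perm Ω → Perm Ω := fun d =>
    if h : d ∈ alternatingGroup Ω then ((ψ ⟨d, h⟩ : alternatingGroup Ω) : Perm Ω) else 1
  let T : Finset (Perm Ω) := Finset.univ.filter (fun d : Perm Ω => d.IsThreeCycle ∧ d x ≠ x)
  have hT : T.card ≤ (Fintype.card Ω - 1) * (Fintype.card Ω - 2) :=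
    card_moving_le x T (fun c hc => (Finset.mem_filter.1 hc).2)
  let M : Finset (Perm Ω) := T.image Ψ
  have hMc : M.card ≤ (Fintype.card Ω - 1) * (Fintype.card Ω - 2) :=
    le_trans Finset.card_image_le hT
  have hM : ∀ c : Perm Ω, c.IsThreeCycle → c ∉ G → c ∈ M := by
    intro c hc3 hcG
    have hcA : c ∈ alternatingGroup Ω := hc3.mem_alternatingGroup
    have hd3 : ((ψ.symm ⟨c, hcA⟩ : alternatingGroup Ω) : Perm Ω).IsThreeCycle :=
      pres h6 ψ.symm ⟨c, hcA⟩ hc3
    have hdx : ((ψ.symm ⟨c, hcA⟩ : alternatingGroup Ω) : Perm Ω) x ≠ x := by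
      intro h
      apply hcG
      rw [memG]
      exact ⟨ψ.symm ⟨c, hcA⟩, h, by rw [MulEquiv.apply_symm_apply]⟩
    rw [Finset.mem_image]
    refine ⟨((ψ.symm ⟨c, hcA⟩ : alternatingGroup Ω) : Perm Ω), ?_, ?_⟩
    · rw [Finset.mem_filter]; exact ⟨Finset.mem_univ _, hd3, hdx⟩
    · show (if h : ((ψ.symm ⟨c, hcA⟩ : alternatingGroup Ω) : Perm Ω) ∈ alternatingGroup Ω then
        ((ψ ⟨((ψ.symm ⟨c, hcA⟩ : alternatingGroup Ω) : Perm Ω), h⟩ : alternatingGroup Ω) : Perm Ω)
        else 1) = c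
      rw [dif_pos (ψ.symm ⟨c, hcA⟩).2]
      have : (⟨((ψ.symm ⟨c, hcA⟩ : alternatingGroup Ω) : Perm Ω), (ψ.symm ⟨c, hcA⟩).2⟩ :
          alternatingGroup Ω) = ψ.symm ⟨c, hcA⟩ := rfl
      rw [this, MulEquiv.apply_symm_apply]
  have hG : ¬ alternatingGroup Ω ≤ G := by
    intro hle
    obtain ⟨u, hu⟩ : ∃ u : Ω, u ≠ x := by
      have : 1 < Fintype.card Ω := by omega
      obtain ⟨a, b, hab⟩ := Fintype.one_lt_card_iff.1 this
      by_cases ha : a = x
      · exact ⟨b, fun h => hab (ha.trans h.symm)⟩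
      · exact ⟨a, ha⟩
    obtain ⟨d₀, hd3, -, hdx⟩ := exists_sep h4 hu
    have hdA : d₀ ∈ alternatingGroup Ω := hd3.mem_alternatingGroup
    have h1 : ((ψ ⟨d₀, hdA⟩ : alternatingGroup Ω) : Perm Ω) ∈ G := hle (ψ ⟨d₀, hdA⟩).2
    rw [memG] at h1
    obtain ⟨g, hgx, hg⟩ := h1
    have h2 : g = ⟨d₀, hdA⟩ := ψ.injective (Subtype.ext hg)
    rw [h2] at hgx
    exact hdx hgx
  obtain ⟨z, hz⟩ := exists_fixed_of_few h4 G hG M hM hMc
  exact ⟨z, fun g hg => hz _ ((memG _).2 ⟨g, hg, rfl⟩)⟩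

lemma exists_sepA (h4 : 4 ≤ Fintype.card Ω) {u v : Ω} (huv : u ≠ v) :
    ∃ c : alternatingGroup Ω, (c : Perm Ω) u = u ∧ (c : Perm Ω) v ≠ v := by
  obtain ⟨c, hc3, h1, h2⟩ := exists_sep h4 huv
  exact ⟨⟨c, hc3.mem_alternatingGroup⟩, h1, h2⟩

/-- every automorphism of the alternating group of degree `n ≥ 4`, `n ≠ 6`, is conjugation by a
permutation. -/
theorem surj (h4 : 4 ≤ Fintype.card Ω) (h6 : Fintype.card Ω ≠ 6)
    (φ : MulAut (alternatingGroup Ω)) : ∃ σ : Perm Ω, MulAut.conjNormal σ = φ := by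
  classical
  choose σ hσ using exists_fix h4 h6 φ
  choose τ hτ using exists_fix h4 h6 φ.symm
  have hτσ : ∀ x, τ (σ x) = x := by
    intro x
    by_contra hne
    obtain ⟨c, hcx, hcu⟩ := exists_sepA h4 (Ne.symm hne)
    have h1 := hσ x c hcx
    have h2 := hτ (σ x) (φ c) h1
    rw [MulEquiv.symm_apply_apply] at h2
    exact hcu h2
  have hστ : ∀ y, σ (τ y) = y := by
    intro y
    by_contra hne
    obtain ⟨c, hcy, hcu⟩ := exists_sepA h4 (Ne.symm hne)
    have h1 := hτ y c hcy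
    have h2 := hσ (τ y) (φ.symm c) h1
    rw [MulEquiv.apply_symm_apply] at h2
    exact hcu h2
  let σe : Perm Ω := ⟨σ, τ, hτσ, hστ⟩
  have hiff : ∀ x (k : alternatingGroup Ω), (k : Perm Ω) x = x ↔
      ((φ k : alternatingGroup Ω) : Perm Ω) (σ x) = σ x := by
    intro x k
    constructor
    · exact hσ x k
    · intro h
      have := hτ (σ x) (φ k) h
      rwa [MulEquiv.symm_apply_apply, hτσ] at this
  have hcomm : ∀ (g : alternatingGroup Ω) (x : Ω),
      ((φ g : alternatingGroup Ω) : Perm Ω) (σ x) = σ ((g : Perm Ω) x) := by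
    intro g x
    by_contra hne
    obtain ⟨p, hpu, hpv⟩ := exists_sepA h4 hne
    have hpk : φ (φ.symm p) = p := MulEquiv.apply_symm_apply φ p
    have h1 : ((φ (g⁻¹ * φ.symm p * g) : alternatingGroup Ω) : Perm Ω) (σ x) = σ x := by
      rw [map_mul, map_mul, hpk, map_inv]
      show ((φ g : alternatingGroup Ω) : Perm Ω)⁻¹
        ((p : Perm Ω) (((φ g : alternatingGroup Ω) : Perm Ω) (σ x))) = σ x
      rw [hpu]
      simp
    have h2 := (hiff x (g⁻¹ * φ.symm p * g)).2 h1
    have h3 : ((φ.symm p : alternatingGroup Ω) : Perm Ω) ((g : Perm Ω) x) = (g : Perm Ω) x := by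
      have e : ((g⁻¹ * φ.symm p * g : alternatingGroup Ω) : Perm Ω) x =
          (g : Perm Ω)⁻¹ (((φ.symm p : alternatingGroup Ω) : Perm Ω) ((g : Perm Ω) x)) := rfl
      rw [e] at h2
      have := congrArg (g : Perm Ω) h2
      simpa using this
    have h4' := (hiff ((g : Perm Ω) x) (φ.symm p)).1 h3
    rw [hpk] at h4'
    exact hpv h4'
  refine ⟨σe, ?_⟩
  apply MulEquiv.ext
  intro g
  apply Subtype.ext
  apply Perm.ext
  intro y
  rw [MulAut.conjNormal_apply]
  show σ ((g : Perm Ω) (τ y)) = ((φ g : alternatingGroup Ω) : Perm Ω) y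
  rw [← hcomm g (τ y), hστ]

end Main

end Cfsg.Agent.Lead.AutAlt
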