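import Cfsg.Prelude.Def_StandardType
import Cfsg.Prelude.Def_LieTypeDatum
import Mathlib

/-!
# Automorphisms of `PSL_n(F)` induced from `SL_n(F)` (lead): lifts, the three standard families, bridges
to the predicates `IsInnerDiagonalAutPSL`, `IsStdFieldAutPSL`, `IsInverseTransposeAutPSL`, relations.
-/

set_option autoImplicit false

namespace Cfsg.Agent.AutPSLCount
open Cfsg Matrix

variable {n : ℕ} {F : Type*} [Field F]

abbrev SLn (n : ℕ) (F : Type*) [Field F] := Matrix.SpecialLinearGroup (Fin n) F
abbrev PSLn (n : ℕ) (F : Type*) [Field F] := Matrix.ProjectiveSpecialLinearGroup (Fin n) F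

/-- the projection `SL_n → PSL_n` -/
def pr : SLn n F →* PSLn n F := QuotientGroup.mk' (Subgroup.center (SLn n F))

theorem pr_surjective : Function.Surjective (pr : SLn n F →* PSLn n F) :=
  QuotientGroup.mk'_surjective _

theorem pr_eq_iff (x y : SLn n F) : pr x = pr y ↔ x⁻¹ * y ∈ Subgroup.center (SLn n F) :=
  QuotientGroup.eq

/-- an automorphism of `SL_n` induces one of `PSL_n` -/
noncomputable def liftFun (e : MulAut (SLn n F)) : MulAut (PSLn n F) :=
  QuotientGroup.congr (Subgroup.center (SLn n F)) (Subgroup.center (SLn n F)) e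
    (Subgroup.characteristic_iff_map_eq.1 inferInstance e)

theorem liftFun_pr (e : MulAut (SLn n F)) (s : SLn n F) : liftFun e (pr s) = pr (e s) := rfl

theorem aut_ext {β γ : MulAut (PSLn n F)} (h : ∀ s : SLn n F, β (pr s) = γ (pr s)) : β = γ := by
  ext x
  obtain ⟨s, rfl⟩ := pr_surjective x
  exact h s

/-- `liftFun` as a homomorphism -/
noncomputable def liftAut : MulAut (SLn n F) →* MulAut (PSLn n F) where
  toFun := liftFun
  map_one' := aut_ext fun s => by rw [liftFun_pr]; rfl
  map_mul' e e' := aut_ext fun s => by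
    rw [liftFun_pr, MulAut.mul_apply, MulAut.mul_apply, liftFun_pr, liftFun_pr]

theorem liftAut_pr (e : MulAut (SLn n F)) (s : SLn n F) : liftAut e (pr s) = pr (e s) := rfl

/-- conjugation by an invertible matrix, on `SL_n` -/
def conjFun (g : GL (Fin n) F) (s : SLn n F) : SLn n F :=
  ⟨g.val * s.val * g⁻¹.val, by
    rw [det_mul, det_mul, s.2, mul_one, ← det_mul, ← Units.val_mul, mul_inv_cancel, Units.val_one,
      det_one]⟩

theorem conjFun_val (g : GL (Fin n) F) (s : SLn n F) :
    (conjFun g s).val = g.val * s.val * g⁻¹.val := rfl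

theorem conjFun_mul (g : GL (Fin n) F) (s t : SLn n F) :
    conjFun g (s * t) = conjFun g s * conjFun g t := by
  apply Subtype.ext
  show g.val * (s.val * t.val) * g⁻¹.val = (g.val * s.val * g⁻¹.val) * (g.val * t.val * g⁻¹.val)
  have : g⁻¹.val * g.val = 1 := by rw [← Units.val_mul, inv_mul_cancel, Units.val_one]
  calc g.val * (s.val * t.val) * g⁻¹.val
      = g.val * s.val * 1 * t.val * g⁻¹.val := by simp only [mul_one, Matrix.mul_assoc]
    _ = _ := by rw [← this]; simp only [Matrix.mul_assoc]

theorem conjFun_comp (g h : GL (Fin n) F) (s : SLn n F) :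
    conjFun g (conjFun h s) = conjFun (g * h) s := by
  apply Subtype.ext
  rw [conjFun_val, conjFun_val, conjFun_val, _root_.mul_inv_rev, Units.val_mul, Units.val_mul]
  simp only [Matrix.mul_assoc]

theorem conjFun_one (s : SLn n F) : conjFun (1 : GL (Fin n) F) s = s := by
  apply Subtype.ext
  rw [conjFun_val, inv_one, Units.val_one, Matrix.one_mul, Matrix.mul_one]

/-- conjugation by an invertible matrix as a homomorphism `GL_n → Aut(SL_n)` -/
def conjSL : GL (Fin n) F →* MulAut (SLn n F) where
  toFun g :=
    { toFun := conjFun g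
      invFun := conjFun g⁻¹
      left_inv := fun s => by rw [conjFun_comp, inv_mul_cancel, conjFun_one]
      right_inv := fun s => by rw [conjFun_comp, mul_inv_cancel, conjFun_one]
      map_mul' := conjFun_mul g }
  map_one' := by
    ext s : 1
    exact conjFun_one s
  map_mul' g h := by
    ext s : 1
    exact (conjFun_comp g h s).symm

theorem conjSL_apply (g : GL (Fin n) F) (s : SLn n F) : conjSL g s = conjFun g s := rfl

/-- a field automorphism applied to the entries, as a homomorphism `Aut(F) → Aut(SL_n)` -/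
def fieldSL : RingAut F →* MulAut (SLn n F) where
  toFun σ :=
    { toFun := SpecialLinearGroup.map (σ : F →+* F)
      invFun := SpecialLinearGroup.map (σ.symm : F →+* F)
      left_inv := fun s => by
        apply Subtype.ext
        ext i j
        simp
      right_inv := fun s => by
        apply Subtype.ext
        ext i j
        simp
      map_mul' := map_mul _ }
  map_one' := by
    ext s : 1
    apply Subtype.ext
    ext i j
    rfl
  map_mul' σ τ := by
    ext s : 1
    apply Subtype.ext
    ext i j
    rfl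

theorem fieldSL_val (σ : RingAut F) (s : SLn n F) : (fieldSL σ s).val = s.val.map σ := rfl

theorem tr_mul (A B : SLn n F) : (A * B).transpose = B.transpose * A.transpose :=
  Subtype.ext (transpose_mul _ _)

theorem tr_one : (1 : SLn n F).transpose = 1 := Subtype.ext transpose_one

theorem tr_tr (A : SLn n F) : A.transpose.transpose = A := Subtype.ext (transpose_transpose _)

theorem tr_inv (A : SLn n F) : (A⁻¹).transpose = (A.transpose)⁻¹ :=
  eq_inv_of_mul_eq_one_left (by rw [← tr_mul, mul_inv_cancel, tr_one])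

/-- the inverse transpose automorphism of `SL_n` -/
def itSL : MulAut (SLn n F) where
  toFun s := (s⁻¹).transpose
  invFun s := (s⁻¹).transpose
  left_inv s := by
    show (((s⁻¹).transpose)⁻¹).transpose = s
    rw [tr_inv, tr_tr, inv_inv]
  right_inv s := by
    show (((s⁻¹).transpose)⁻¹).transpose = s
    rw [tr_inv, tr_tr, inv_inv]
  map_mul' s t := by
    show ((s * t)⁻¹).transpose = (s⁻¹).transpose * (t⁻¹).transpose
    rw [_root_.mul_inv_rev, tr_mul]

theorem itSL_apply (s : SLn n F) : itSL s = (s⁻¹).transpose := rfl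

/-! ### the bridge to the predicates of the statements -/

theorem innerDiag_iff (β : MulAut (PSLn n F)) :
    IsInnerDiagonalAutPSL β ↔ ∃ g : GL (Fin n) F, β = liftAut (conjSL g) := by
  constructor
  · rintro ⟨g, hg⟩
    exact ⟨g, aut_ext fun s => hg s (conjSL g s) rfl⟩
  · rintro ⟨g, rfl⟩
    refine ⟨g, fun s s' hs' => ?_⟩
    have : s' = conjSL g s := Subtype.ext hs'
    rw [this]
    rfl

theorem stdField_iff (σ : F ≃+* F) (φ : MulAut (PSLn n F)) :
    IsStdFieldAutPSL σ φ ↔ φ = liftAut (fieldSL σ) := by
  constructor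
  · intro h
    exact aut_ext fun s => h s (fieldSL σ s) rfl
  · rintro rfl s s' hs'
    have : s' = fieldSL σ s := Subtype.ext hs'
    rw [this]
    rfl

theorem invTr_iff (γ : MulAut (PSLn n F)) :
    IsInverseTransposeAutPSL γ ↔ γ = liftAut itSL := by
  constructor
  · intro h
    exact aut_ext fun s => h s (itSL s) rfl
  · rintro rfl s s' hs'
    have : s' = itSL s := Subtype.ext hs'
    rw [this]
    rfl

/-! ### relations -/

/-- the inverse transpose of an invertible matrix -/
def gti (g : GL (Fin n) F) : GL (Fin n) F :=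
  ⟨g⁻¹.valᵀ, g.valᵀ, by rw [← transpose_mul, ← Units.val_mul, mul_inv_cancel, Units.val_one,
    transpose_one], by rw [← transpose_mul, ← Units.val_mul, inv_mul_cancel, Units.val_one,
    transpose_one]⟩

theorem gti_val (g : GL (Fin n) F) : (gti g).val = g⁻¹.valᵀ := rfl
theorem gti_inv_val (g : GL (Fin n) F) : (gti g)⁻¹.val = g.valᵀ := rfl

theorem field_conj (σ : RingAut F) (g : GL (Fin n) F) :
    fieldSL σ * conjSL g = conjSL (Matrix.GeneralLinearGroup.map (σ : F →+* F) g) * fieldSL σ := by
  ext s : 1
  apply Subtype.ext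
  rw [MulAut.mul_apply, MulAut.mul_apply, fieldSL_val, conjSL_apply, conjSL_apply, conjFun_val,
    conjFun_val, fieldSL_val, ← map_inv]
  show (g.val * s.val * g⁻¹.val).map σ = g.val.map σ * s.val.map σ * g⁻¹.val.map σ
  rw [← RingEquiv.coe_toRingHom, Matrix.map_mul, Matrix.map_mul]

theorem it_conj (g : GL (Fin n) F) : itSL * conjSL g = conjSL (gti g) * (itSL : MulAut (SLn n F)) := by
  ext s : 1
  rw [MulAut.mul_apply, MulAut.mul_apply, itSL_apply, itSL_apply, ← map_inv]
  apply Subtype.ext
  rw [conjSL_apply, conjSL_apply, conjFun_val, gti_val, gti_inv_val]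
  show (g.val * (s⁻¹).val * g⁻¹.val)ᵀ = g⁻¹.valᵀ * (s⁻¹).valᵀ * g.valᵀ
  rw [transpose_mul, transpose_mul, Matrix.mul_assoc]

theorem it_field (σ : RingAut F) : itSL * fieldSL σ = fieldSL σ * (itSL : MulAut (SLn n F)) := by
  ext s : 1
  rw [MulAut.mul_apply, MulAut.mul_apply, itSL_apply, itSL_apply, ← map_inv]
  apply Subtype.ext
  show ((fieldSL σ s⁻¹).val)ᵀ = ((s⁻¹).valᵀ).map σ
  rw [fieldSL_val, transpose_map]

theorem it_it : itSL * itSL = (1 : MulAut (SLn n F)) := by
  ext s : 1
  exact itSL.left_inv s

end Cfsg.Agent.AutPSLCount
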