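import Cfsg.Agent.Lib.Lead.AutPSLCountA
import Mathlib

/-!
# The key lemma for counting `Aut(PSL_n(F))` (lead): an inner-diagonal automorphism equal to a standard field
automorphism is trivial (`conj_eq_field`), and for `n ≥ 3` it is never a field automorphism times the inverse
transpose (`conj_ne_field_it`).
-/

set_option autoImplicit false
set_option linter.unusedSimpArgs false

namespace Cfsg.Agent.AutPSLCount
open Cfsg Matrix

variable {n : ℕ} {F : Type*} [Field F]

/-- the transvection `1 + t E_ij` as an element of `SL_n` -/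
def T (i j : Fin n) (h : i ≠ j) (t : F) : SLn n F :=
  ⟨Matrix.transvection i j t, det_transvection_of_ne i j h t⟩

theorem T_val (i j : Fin n) (h : i ≠ j) (t : F) : (T i j h t).val = 1 + single i j t := rfl

theorem T_inv (i j : Fin n) (h : i ≠ j) (t : F) : (T i j h t)⁻¹ = T i j h (-t) := by
  apply inv_eq_of_mul_eq_one_right
  apply Subtype.ext
  show transvection i j t * transvection i j (-t) = 1
  rw [transvection_mul_transvection_same _ _ h, add_neg_cancel, transvection_zero]

theorem center_scalar (z : SLn n F) (hz : z ∈ Subgroup.center (SLn n F)) :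
    ∃ ζ : F, z.val = scalar (Fin n) ζ := by
  rw [Matrix.SpecialLinearGroup.mem_center_iff] at hz
  obtain ⟨r, -, hr⟩ := hz
  exact ⟨r, hr.symm⟩

/-- a unipotent-type computation: if `N² = 0` and `1 + N = (1 + u E_kl) ζ` then `ζ = 1` -/
theorem zeta_eq_one (k l : Fin n) (hkl : k ≠ l) (u ζ : F) (N : Matrix (Fin n) (Fin n) F)
    (hN : N * N = 0) (h : 1 + N = (1 + single k l u) * scalar (Fin n) ζ) : ζ = 1 := by
  have hN' : N = (1 + single k l u) * scalar (Fin n) ζ - 1 := eq_sub_of_add_eq' h
  have e1 : ∀ m, m ≠ k → N m k = 0 := by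
    intro m hm
    rw [hN']
    simp [Matrix.add_mul, hm, hkl.symm]
  have e2 : N k k = ζ - 1 := by
    rw [hN']
    simp [Matrix.add_mul, hkl.symm]
  have e3 := congrFun (congrFun hN k) k
  rw [Matrix.mul_apply, Finset.sum_eq_single k (fun m _ hm => by rw [e1 m hm, mul_zero])
    (fun h => absurd (Finset.mem_univ k) h), e2] at e3
  have : ζ - 1 = 0 := by
    have := mul_self_eq_zero.1 e3
    exact this
  exact sub_eq_zero.1 this

/-- the equation extracted from `pr (g x g⁻¹) = pr y` for `x` a transvection and `y = 1 + u E_kl` -/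
theorem conj_transvection (g : GL (Fin n) F) (i j : Fin n) (hij : i ≠ j) (t : F)
    (k l : Fin n) (hkl : k ≠ l) (u : F)
    (h : pr (conjSL g (T i j hij t)) = pr (T k l hkl u)) :
    g.val * single i j t = single k l u * g.val := by
  rw [pr_eq_iff] at h
  obtain ⟨ζ, hζ⟩ := center_scalar _ h
  have hg : g⁻¹.val * g.val = 1 := by rw [← Units.val_mul, inv_mul_cancel, Units.val_one]
  have hg' : g.val * g⁻¹.val = 1 := by rw [← Units.val_mul, mul_inv_cancel, Units.val_one]
  -- `y = x * z`
  have e0 : T k l hkl u = conjSL g (T i j hij t) * ((conjSL g (T i j hij t))⁻¹ * T k l hkl u) :=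
    (mul_inv_cancel_left _ _).symm
  have e : (T k l hkl u).val = (conjSL g (T i j hij t)).val * scalar (Fin n) ζ := by
    rw [← hζ]
    exact congrArg Subtype.val e0
  rw [conjSL_apply, conjFun_val, T_val, T_val] at e
  set N := g.val * single i j t * g⁻¹.val with hNdef
  have hX : g.val * (1 + single i j t) * g⁻¹.val = 1 + N := by
    rw [Matrix.mul_add, Matrix.add_mul, Matrix.mul_one, hg']
  have hNN : N * N = 0 := by
    rw [hNdef]
    calc g.val * single i j t * g⁻¹.val * (g.val * single i j t * g⁻¹.val)
        = g.val * single i j t * (g⁻¹.val * g.val) * single i j t * g⁻¹.val := by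
          simp only [Matrix.mul_assoc]
      _ = 0 := by
          rw [hg, Matrix.mul_one, Matrix.mul_assoc g.val, single_mul_single_of_ne _ _ _ _ hij.symm]
          simp
  rw [hX] at e
  -- `1 + N = (1 + u E_kl) ζ'` with `ζ' = ζ⁻¹`; first `ζ ≠ 0`
  have hζ0 : ζ ≠ 0 := by
    intro h0
    rw [h0, map_zero, Matrix.mul_zero] at e
    have := congrFun (congrFun e k) k
    simp [single_apply, hkl.symm] at this
  have e' : 1 + N = (1 + single k l u) * scalar (Fin n) ζ⁻¹ := by
    rw [e, Matrix.mul_assoc, ← map_mul, mul_inv_cancel₀ hζ0, map_one, Matrix.mul_one]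
  have h1 : ζ⁻¹ = 1 := zeta_eq_one k l hkl u ζ⁻¹ N hNN e'
  rw [h1, map_one, Matrix.mul_one] at e'
  have e2 : N = single k l u := add_left_cancel e'
  rw [← e2, hNdef, Matrix.mul_assoc, Matrix.mul_assoc, hg, Matrix.mul_one]

theorem fieldSL_T (σ : RingAut F) (i j : Fin n) (hij : i ≠ j) (t : F) :
    fieldSL σ (T i j hij t) = T i j hij (σ t) := by
  apply Subtype.ext
  rw [fieldSL_val, T_val, T_val]
  ext a b
  by_cases h1 : a = b
  · subst h1
    by_cases h2 : i = a ∧ j = a
    · simp [single_apply, h2]
    · simp [single_apply, h2]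
  · by_cases h2 : i = a ∧ j = b
    · simp [single_apply, h2, h1]
    · simp [single_apply, h2, h1]

theorem itSL_T (i j : Fin n) (hij : i ≠ j) (t : F) :
    itSL (T i j hij t) = T j i hij.symm (-t) := by
  rw [itSL_apply, T_inv]
  apply Subtype.ext
  show (1 + single i j (-t))ᵀ = 1 + single j i (-t)
  rw [transpose_add, transpose_one, transpose_single]

/-- **key lemma, first half**: an inner-diagonal automorphism which is a standard field
automorphism is trivial: the matrix is scalar and the field automorphism is the identity -/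
theorem conj_eq_field (hn : 2 ≤ n) (g : GL (Fin n) F) (σ : RingAut F)
    (h : liftAut (conjSL g) = liftAut (fieldSL σ)) :
    (∃ c : F, g.val = scalar (Fin n) c) ∧ σ = 1 := by
  have star : ∀ (i j : Fin n) (hij : i ≠ j) (t : F),
      g.val * single i j t = single i j (σ t) * g.val := by
    intro i j hij t
    apply conj_transvection g i j hij t i j hij (σ t)
    have := DFunLike.congr_fun h (pr (T i j hij t))
    rw [liftAut_pr, liftAut_pr, fieldSL_T] at this
    exact this
  have hsc : g.val ∈ Set.range (scalar (Fin n)) := by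
    apply mem_range_scalar_of_commute_single
    intro i j hij
    have := star i j hij 1
    rw [map_one] at this
    exact this.symm
  obtain ⟨c, hc⟩ := hsc
  refine ⟨⟨c, hc.symm⟩, ?_⟩
  have hg' : g.val * g⁻¹.val = 1 := by rw [← Units.val_mul, mul_inv_cancel, Units.val_one]
  let i0 : Fin n := ⟨0, by omega⟩
  let i1 : Fin n := ⟨1, by omega⟩
  have h01 : i0 ≠ i1 := by
    intro h
    have := congrArg Fin.val h
    simp [i0, i1] at this
  have hc0 : c ≠ 0 := by
    intro h0
    rw [← hc, h0, map_zero, Matrix.zero_mul] at hg'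
    have := congrFun (congrFun hg' i0) i0
    simp at this
  ext t
  have e := congrFun (congrFun (star i0 i1 h01 t) i0) i1
  rw [← hc] at e
  simp at e
  show σ t = t
  apply mul_left_cancel₀ hc0
  linear_combination -e

/-- **key lemma, second half**: for `n ≥ 3` an inner-diagonal automorphism is never the product of a
standard field automorphism and the inverse transpose -/
theorem conj_ne_field_it (hn : 3 ≤ n) (g : GL (Fin n) F) (σ : RingAut F)
    (h : liftAut (conjSL g) = liftAut (fieldSL σ) * liftAut itSL) : False := by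
  have star : ∀ (i j : Fin n) (hij : i ≠ j),
      g.val * single i j 1 = single j i (-1) * g.val := by
    intro i j hij
    have e := conj_transvection g i j hij 1 j i hij.symm (σ (-1)) (by
      have := DFunLike.congr_fun h (pr (T i j hij 1))
      rw [MulAut.mul_apply, liftAut_pr, liftAut_pr, liftAut_pr, itSL_T, fieldSL_T] at this
      exact this)
    rw [map_neg, map_one] at e
    exact e
  have hg' : g.val * g⁻¹.val = 1 := by rw [← Units.val_mul, mul_inv_cancel, Units.val_one]
  let i0 : Fin n := ⟨0, by omega⟩
  let i1 : Fin n := ⟨1, by omega⟩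
  let i2 : Fin n := ⟨2, by omega⟩
  have h01 : i0 ≠ i1 := fun h => by simpa [i0, i1] using congrArg Fin.val h
  have h12 : i1 ≠ i2 := fun h => by simpa [i1, i2] using congrArg Fin.val h
  have h02 : i0 ≠ i2 := fun h => by simpa [i0, i2] using congrArg Fin.val h
  have e1 : g.val * single i0 i2 (1 : F) = 0 := by
    have : single i0 i2 (1 : F) = single i0 i1 1 * single i1 i2 1 := by
      rw [single_mul_single_same, mul_one]
    rw [this, ← Matrix.mul_assoc, star i0 i1 h01, Matrix.mul_assoc, star i1 i2 h12,
      ← Matrix.mul_assoc, single_mul_single_of_ne _ _ _ _ h02, Matrix.zero_mul]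
  rw [star i0 i2 h02] at e1
  have e2 : single i2 i0 (-1 : F) = 0 := by
    calc single i2 i0 (-1 : F) = single i2 i0 (-1) * g.val * g⁻¹.val := by
          rw [Matrix.mul_assoc, hg', Matrix.mul_one]
      _ = 0 := by rw [e1, Matrix.zero_mul]
  have := congrFun (congrFun e2 i2) i0
  simp at this

end Cfsg.Agent.AutPSLCount
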