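import Mathlib
import Cfsg.Agent.Lib.Lead.PSUTransportE

/-!
# Transport of the Steinberg character from the antidiagonal unitary model to `PSU_n(q)`
(lead, piece (ii) of S2546; the model side is helper8's `Lib/Helper8/Tw`)
-/

set_option autoImplicit false

namespace Cfsg.Agent.PSUT

open Matrix Cfsg Cfsg.Agent.S0277 Cfsg.Agent.Lib.Helper8.Tw Cfsg.Agent.Lib.Helper5.GLBN
open Cfsg.Agent.Lib.helper3 Cfsg.Agent.Lib.helper3.Irr
open scoped MatrixGroups

variable {F : Type*} [Field F] [Fintype F]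

/-! ### Arithmetic -/

theorem not_dvd_sq_sub_one (p m : ℕ) (hp : p.Prime) (hm : 1 ≤ m) :
    ¬ p ∣ (p ^ m) ^ 2 - 1 := by
  intro h
  have h1 : p ∣ (p ^ m) ^ 2 := by
    rw [← pow_mul]
    exact dvd_pow_self p (by omega)
  have h2 : 1 ≤ (p ^ m) ^ 2 := Nat.one_le_pow _ _ (Nat.pos_of_ne_zero (by
    intro h0
    have := pow_eq_zero_iff (n := m) (by omega) |>.1 h0
    exact hp.ne_zero this))
  have h3 : p ∣ (p ^ m) ^ 2 - ((p ^ m) ^ 2 - 1) := Nat.dvd_sub h1 h
  have h4 : (p ^ m) ^ 2 - ((p ^ m) ^ 2 - 1) = 1 := by omega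
  rw [h4] at h3
  exact hp.one_lt.ne' (Nat.dvd_one.1 h3)

theorem not_dvd_add_one (p m : ℕ) (hp : p.Prime) (hm : 1 ≤ m) : ¬ p ∣ p ^ m + 1 := by
  intro h
  have h1 : p ∣ p ^ m := dvd_pow_self p (by omega)
  have h3 : p ∣ p ^ m + 1 - p ^ m := Nat.dvd_sub h h1
  rw [Nat.add_sub_cancel_left] at h3
  exact hp.one_lt.ne' (Nat.dvd_one.1 h3)

theorem one_le_exp (p m : ℕ) (hq : 2 ≤ p ^ m) : 1 ≤ m := by
  by_contra h
  have : m = 0 := by omega
  rw [this, pow_zero] at hq
  omega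

theorem factorization_of_mul_eq (p a b c : ℕ) (h : a * b = c) (hc : c ≠ 0) (hb : ¬ p ∣ b) :
    c.factorization p = a.factorization p := by
  subst h
  have ha : a ≠ 0 := fun h0 => hc (by rw [h0, zero_mul])
  have hb0 : b ≠ 0 := fun h0 => hc (by rw [h0, mul_zero])
  rw [Nat.factorization_mul ha hb0, Finsupp.add_apply,
    Nat.factorization_eq_zero_of_not_dvd hb, add_zero]

/-! ### The order of the model, up to `p'`-factors -/

theorem factorization_card_UH (p : ℕ) [hp : Fact p.Prime] (m n : ℕ) (hm : 1 ≤ m)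
    (hF : Fintype.card F = (p ^ m) ^ 2) (σ : F →+* F) :
    (Nat.card ↥(UH n F σ)).factorization p = (Nat.card ↥(N1 n F σ)).factorization p := by
  apply factorization_of_mul_eq p _ (N1 n F σ).index _ (Subgroup.card_mul_index (N1 n F σ))
    Nat.card_pos.ne'
  intro hdvd
  have h1 : (N1 n F σ).index ∣ Nat.card Fˣ := by
    unfold N1
    rw [Subgroup.index_ker]
    exact Subgroup.card_subgroup_dvd_card _
  rw [Nat.card_units, Nat.card_eq_fintype_card, hF] at h1
  exact not_dvd_sq_sub_one p m hp.out hm (hdvd.trans h1)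

theorem factorization_card_SU (p : ℕ) [hp : Fact p.Prime] (m n : ℕ) (hm : 1 ≤ m) (hn : 1 ≤ n)
    (hF : Fintype.card F = (p ^ m) ^ 2) :
    (Nat.card ↥(Cfsg.SU n F (p ^ m))).factorization p
      = (Nat.card (Cfsg.PSU n F (p ^ m))).factorization p := by
  have h1 := Subgroup.card_mul_index (Subgroup.center ↥(Cfsg.SU n F (p ^ m)))
  rw [Subgroup.index_eq_card, mul_comm] at h1
  apply factorization_of_mul_eq p _ _ _ h1 Nat.card_pos.ne'
  rw [Cfsg.Agent.S0279.card_center hF n hn]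
  intro hdvd
  exact not_dvd_add_one p m hp.out hm (hdvd.trans (Nat.gcd_dvd_right _ _))

/-! ### Central elements of `SU` go to scalars of the model -/

theorem suEquiv_central {n q : ℕ} {σ : F →+* F} (hF : Fintype.card F = q ^ 2) (hn : 1 ≤ n)
    (A : GL (Fin n) F)
    (hA : ∀ x y : Fin n → F,
      stdB n σ ((A : Matrix (Fin n) (Fin n) F) *ᵥ x) ((A : Matrix (Fin n) (Fin n) F) *ᵥ y)
        = revB n σ x y)
    (hσ : ∀ x, σ x = x ^ q) (z : ↥(Cfsg.SU n F q)) (hz : z ∈ Subgroup.center ↥(Cfsg.SU n F q)) :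
    ∃ c : F, (((suEquiv A hA hσ z : ↥(N1 n F σ)) : ↥(UH n F σ)) : GL (Fin n) F).1
      = Matrix.diagonal (fun _ => c) := by
  obtain ⟨h1, h2⟩ := Cfsg.Agent.S0279.central_scalar hF n z
    (fun s => (Subgroup.mem_center_iff.1 hz s))
  let i0 : Fin n := ⟨0, hn⟩
  have hzm : ∃ c : F, (z.1.1 : Matrix (Fin n) (Fin n) F) = Matrix.diagonal (fun _ => c) := by
    refine ⟨(z.1.1 : Matrix (Fin n) (Fin n) F) i0 i0, ?_⟩
    ext i j
    by_cases hij : i = j
    · subst hij
      rw [Matrix.diagonal_apply_eq]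
      exact h2 i i0
    · rw [Matrix.diagonal_apply_ne _ hij]
      exact h1 i j hij
  obtain ⟨c, hzm⟩ := hzm
  refine ⟨c, ?_⟩
  rw [suEquiv_coe]
  change ((A⁻¹ : GL (Fin n) F) : Matrix (Fin n) (Fin n) F) * (z.1.1 : Matrix (Fin n) (Fin n) F)
    * (A : Matrix (Fin n) (Fin n) F) = _
  rw [hzm, ← Matrix.smul_one_eq_diagonal, Matrix.mul_smul, Matrix.mul_one, Matrix.smul_mul,
    ← Units.val_mul, inv_mul_cancel, Units.val_one, Matrix.smul_one_eq_diagonal]

/-! ### The main theorem -/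

/-- **Transport.** From a Steinberg character of the antidiagonal unitary model (irreducible, of
degree the `p`-part of the order, invariant under the scalars, nonzero on the diagonal matrices) to
the Steinberg character of `PSU_n(q)`. -/
theorem steinberg_psu_of_model (p : ℕ) [hp : Fact p.Prime] [CharP F p] (n q : ℕ) (hn : 2 ≤ n)
    (hF : Fintype.card F = q ^ 2)
    (H : ∀ φ : F →+* F, (∀ x, φ (φ x) = x) → (∃ z : F, z ≠ 0 ∧ z + φ z = 0) →
      ∃ χ : ↥(UH n F φ) → ℂ, IsIrrCharacter ↥(UH n F φ) χ ∧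
        χ 1 = ((p ^ (Nat.card ↥(UH n F φ)).factorization p : ℕ) : ℂ) ∧
        (∀ (x c : ↥(UH n F φ)) (z : F),
          ((c : GL (Fin n) F) : Matrix (Fin n) (Fin n) F) = Matrix.diagonal (fun _ => z) →
            χ (x * c) = χ x) ∧
        (∀ t : ↥(UH n F φ), IsMono ((t : GL (Fin n) F) : Matrix (Fin n) (Fin n) F) 1 →
          χ t ≠ 0)) :
    ∃ χ : Cfsg.PSU n F q → ℂ, IsIrrCharacter (Cfsg.PSU n F q) χ ∧
      ∀ P : Sylow p (Cfsg.PSU n F q),
        χ 1 = Nat.card P ∧ ∀ x : Cfsg.PSU n F q, x ∈ P → x ≠ 1 → χ x = 0 := by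
  classical
  have hpp : p.Prime := hp.out
  obtain ⟨m, rfl⟩ := exists_pow_eq p q hF
  have hq2 := two_le_q hF
  have hm : 1 ≤ m := one_le_exp p m hq2
  have hσ : ∀ x, frobQ F p m x = x ^ p ^ m := frobQ_apply p m
  have hσ2 : ∀ x, frobQ F p m (frobQ F p m x) = x := frobQ_frobQ p m hF
  have hz : ∃ z : F, z ≠ 0 ∧ z + frobQ F p m z = 0 := by
    obtain ⟨z, hz0, hz⟩ := exists_skew hF
    exact ⟨z, hz0, by rw [hσ]; exact hz⟩
  have hσid : frobQ F p m ≠ RingHom.id F := by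
    obtain ⟨a, ha⟩ := exists_not_fixed hF
    intro h
    apply ha
    rw [← hσ, h, RingHom.id_apply]
  obtain ⟨χ, hχ, hχ1, hχc, hχd⟩ := H (frobQ F p m) hσ2 hz
  obtain ⟨A, hA⟩ := exists_baseChange n (frobQ F p m) hσid hσ2
  let _ : Fintype ↥(UH n F (frobQ F p m)) := Fintype.ofFinite _
  let _ : Fintype ↥(N1 n F (frobQ F p m)) := Fintype.ofFinite _
  have hχN : IsIrrCharacter ↥(N1 n F (frobQ F p m))
      (fun k : ↥(N1 n F (frobQ F p m)) => χ k) :=
    Cfsg.Agent.S2544L.isIrrCharacter_restrict_of_nonvanishing (N1 n F (frobQ F p m))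
      commutator_mem_N1 hχ (fun g => by
        obtain ⟨k, hk, hmono⟩ := exists_mem_N1_mul_diag hF hn hσ hσ2 g
        exact ⟨k, hk, hχd _ hmono⟩)
  have hχS : IsIrrCharacter ↥(Cfsg.SU n F (p ^ m))
      (fun h => χ ((suEquiv A hA hσ h : ↥(N1 n F (frobQ F p m))) : ↥(UH n F (frobQ F p m)))) :=
    isIrrCharacter_comp_mulEquiv (suEquiv A hA hσ) hχN
  obtain ⟨ψ, hψ, hinf⟩ := exists_eq_inflate hχS (Subgroup.center ↥(Cfsg.SU n F (p ^ m)))
    (fun g z hz => by
      obtain ⟨c, hc⟩ := suEquiv_central hF (by omega) A hA hσ z hz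
      simp only [map_mul, Subgroup.coe_mul]
      exact hχc _ _ c hc)
  have hψ1 : ψ 1 = ((p ^ (Nat.card (Cfsg.PSU n F (p ^ m))).factorization p : ℕ) : ℂ) := by
    have h1 := congrFun hinf 1
    rw [inflate_apply, QuotientGroup.mk_one] at h1
    rw [← h1]
    simp only [map_one, Subgroup.coe_one]
    rw [hχ1, factorization_card_UH p m n hm hF,
      ← factorization_card_SU p m n hm (by omega) hF,
      Nat.card_congr (suEquiv A hA hσ).toEquiv]
  refine ⟨ψ, hψ, fun P => ⟨?_, ?_⟩⟩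
  · rw [hψ1, P.card_eq_multiplicity]
  · intro x hxP hx1
    let _ : Fintype (Cfsg.PSU n F (p ^ m)) := Fintype.ofFinite _
    obtain ⟨d, ρ, hirr, hρ⟩ := hψ
    have := hirr
    set a := (Nat.card (Cfsg.PSU n F (p ^ m))).factorization p with ha
    have hd : d = p ^ a := by
      have h1 : ρ.character 1 = (d : ℂ) := by
        rw [Representation.char_one]
        simp
      rw [hρ, hψ1] at h1
      exact_mod_cast h1.symm
    have hn' : ¬ p ^ (a + 1) ∣ Nat.card (Cfsg.PSU n F (p ^ m)) :=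
      Nat.pow_succ_factorization_not_dvd Nat.card_pos.ne' hpp
    have hdeg : p ^ a ∣ Module.finrank ℂ (Fin d → ℂ) := by
      rw [Module.finrank_fin_fun, hd]
    have hx : p ∣ orderOf x := by
      obtain ⟨k, hk⟩ := (IsPGroup.iff_orderOf.1 P.isPGroup') ⟨x, hxP⟩
      rw [Subgroup.orderOf_mk] at hk
      rw [hk]
      apply dvd_pow_self
      intro hk0
      rw [hk0, pow_zero, orderOf_eq_one_iff] at hk
      exact hx1 hk
    rw [← hρ]
    exact BrauerInd.character_eq_zero_of_defect_zero ρ p a hn' hdeg x hx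

end Cfsg.Agent.PSUT
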