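import Mathlib
import Cfsg.Agent.H2.BG12.B

/-!
# S1358 from the statement of S1417 (Sylow subgroups of the factor `U` of a standard factorisation)
-/

set_option autoImplicit false
set_option linter.unusedVariables false
set_option linter.unusedSectionVars false
set_option linter.style.haveILetI false

namespace Cfsg.Agent.Lib.Lead.BGLate

open Cfsg Cfsg.Agent.Lib.Helper8.BGTen Cfsg.Agent.H2.BG11 Cfsg.Agent.H2.BG12

universe u

variable {G : Type u} [Group G] [Finite G]

/-- **S1358** from the statement of S1417. -/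
theorem s1358 (hG : Cfsg.IsMinSimpleOddOrder G) (h17 : St1417 G)
    (M : Subgroup G) (hM : IsCoatom M) (K U : Subgroup G) (hKU : Cfsg.IsSigmaDecomposition M K U) :
    ∀ (p : ℕ), p.Prime → ∀ P : Sylow p U,
      IsMulCommutative (P : Subgroup U) ∧ Cfsg.PRankLE p 2 (P : Subgroup U) := by
  intro p hp P
  haveI : Fact p.Prime := ⟨hp⟩
  have hUM : U ≤ M := hKU.compl.1
  set R : Subgroup G := (P : Subgroup U).map U.subtype with hR
  have hRU : R ≤ U := Subgroup.map_subtype_le _
  have hRM : R ≤ M := hRU.trans hUM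
  have hRp : IsPGroup p ↥R := P.isPGroup'.map _
  have hmemR : ∀ a : ↥U, a ∈ (P : Subgroup U) → (a : G) ∈ R := fun a ha => ⟨a, ha, rfl⟩
  by_cases hσ : p ∈ Cfsg.sigma M
  · -- then `R ≤ M_σ ∩ U = 1`
    have h1 : R ≤ Cfsg.sigmaCore M := le_sigmaCore_of_pgroup hG hM hσ hRM hRp
    have h2 : R ≤ U ⊓ (K ⊔ Cfsg.sigmaCore M) := le_inf hRU (h1.trans le_sup_right)
    rw [hKU.compl.2.2.1] at h2
    have hP1 : ∀ a : ↥U, a ∈ (P : Subgroup U) → a = 1 := by
      intro a ha
      have := h2 (hmemR a ha)
      rw [Subgroup.mem_bot] at this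
      exact Subtype.ext this
    constructor
    · refine ⟨⟨fun a b => ?_⟩⟩
      apply Subtype.ext
      rw [Subgroup.coe_mul, Subgroup.coe_mul, hP1 a a.2, hP1 b b.2]
    · intro B hB hBe
      have hB1 : B = ⊥ := by
        rw [eq_bot_iff]
        intro b hb
        rw [Subgroup.mem_bot]
        apply Subtype.ext
        exact hP1 b b.2
      rw [hB1, Subgroup.card_bot]
      exact Nat.one_le_pow _ _ hp.pos
  · constructor
    · have hc := comm_of_pgroup_not_sigma hG h17 hM hσ hRM hRp
      refine ⟨⟨fun a b => ?_⟩⟩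
      apply Subtype.ext
      apply Subtype.ext
      have := hc (a : G) (hmemR a a.2) (b : G) (hmemR b b.2)
      simpa using this
    · have hα : p ∉ Cfsg.alpha M := fun h => hσ (alpha_subset_sigma hG (uniq hG) hM h)
      have h2 : Cfsg.PRankLE p 2 ↥M := pRankLE_of_not_mem_alpha hp hα
      have h3 : Cfsg.PRankLE p 2 ↥U := Cfsg.Agent.Lib.Helper4.Rank2Fit.pRankLE_of_le hUM h2
      exact Cfsg.Agent.Lib.Helper4.Rank2Fit.pRankLE_of_injective (P : Subgroup U).subtype
        (Subgroup.subtype_injective _) h3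

end Cfsg.Agent.Lib.Lead.BGLate
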