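import Mathlib
import Cfsg.Agent.Lib.Lead.CarterSys
import Cfsg.Agent.S0005

/-!
# Every Carter subgroup contains a system normalizer

`Red K C` : the complement system `K` reduces into `C`.  Main result `sysNorm_le_carter`:
if `K` reduces into the Carter subgroup `C` then the system normalizer of `K` lies in `C`.
-/

set_option autoImplicit false
open Pointwise
open scoped commutatorElement

namespace Cfsg.Agent.Lib.Lead.CarterSys

open Cfsg.Agent.Lib.Lead.Subnormal Cfsg.Agent.Lib.Lead.Carter

universe u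

/-- the system `K` reduces into `C` -/
def Red {G : Type*} [Group G] (K : Nat.Primes → Subgroup G) (C : Subgroup G) : Prop :=
  ∀ p : Nat.Primes, ∃ j : ℕ, (K p).relIndex C ∣ (p : ℕ) ^ j

theorem relIndex_map_dvd {G G' : Type*} [Group G] [Group G'] (f : G →* G') (A C : Subgroup G) :
    (A.map f).relIndex (C.map f) ∣ A.relIndex C := by
  have hs := f.subgroupMap_surjective C
  have h1 := Subgroup.index_map_dvd (A.subgroupOf C) hs
  have h2 : (A.subgroupOf C).map (f.subgroupMap C) ≤ (A.map f).subgroupOf (C.map f) := by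
    rintro _ ⟨x, hx, rfl⟩
    exact Subgroup.mem_map_of_mem f hx
  exact (Subgroup.index_dvd_of_le h2).trans h1

section

variable {G : Type u} [Group G]

theorem car_sup_selfNormalizing [Finite G] [Group.IsSolvable G] {C : Subgroup G} (hC : Car C)
    (N : Subgroup G) [N.Normal] :
    Subgroup.normalizer ((C ⊔ N : Subgroup G) : Set G) = C ⊔ N := by
  have hconj' : ∀ M : Subgroup G, M ≠ ⊤ → ∀ C D, RelCar C M → RelCar D M →
      ∃ k ∈ M, MulAut.conj k • C = D := fun M hM C D hC hD =>
    conj_relCar (fun H _ _ _ _ => (carter (G := H)).2) hM hC hD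
  apply le_antisymm _ Subgroup.le_normalizer
  intro x hx
  exact selfNormalizing_sup hconj' (relCar_top hC) le_top x (Subgroup.mem_top x) hx

theorem car_map [Finite G] [Group.IsSolvable G] {C : Subgroup G} (hC : Car C)
    (N : Subgroup G) [N.Normal] : Car (C.map (QuotientGroup.mk' N)) :=
  car_map_mk' hC (car_sup_selfNormalizing hC N)

theorem red_map {K : Nat.Primes → Subgroup G} {C : Subgroup G} (hR : Red K C)
    (N : Subgroup G) [N.Normal] :
    Red (fun p => (K p).map (QuotientGroup.mk' N)) (C.map (QuotientGroup.mk' N)) := by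
  intro p
  obtain ⟨j, hj⟩ := hR p
  exact ⟨j, (relIndex_map_dvd _ _ _).trans hj⟩

theorem relIndex_sup_dvd_card [Finite G] (C M : Subgroup G) [M.Normal] :
    C.relIndex (C ⊔ M) ∣ Nat.card M := by
  have h1 := Cfsg.Agent.Lib.Lead.ProdCard.card_mul_card_eq C M
  rw [← Subgroup.mul_normal, ← Nat.card_coe_set_eq] at h1
  have h2 : Nat.card (C.subgroupOf (C ⊔ M)) * C.relIndex (C ⊔ M) = Nat.card ↥(C ⊔ M) :=
    (C.subgroupOf (C ⊔ M)).card_mul_index
  have h3 : Nat.card (C.subgroupOf (C ⊔ M)) = Nat.card C :=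
    Nat.card_congr (Subgroup.subgroupOfEquivOfLe le_sup_left).toEquiv
  rw [h3] at h2
  have h4 : Nat.card ↥((C ⊔ M : Subgroup G) : Set G) = Nat.card ↥(C ⊔ M) := rfl
  rw [h4, ← h2, mul_assoc] at h1
  have h5 : Nat.card M = C.relIndex (C ⊔ M) * Nat.card ↥(C ⊓ M) :=
    Nat.eq_of_mul_eq_mul_left Nat.card_pos h1
  exact ⟨_, h5⟩

theorem normal_le_complement [Finite G] {K : Nat.Primes → Subgroup G}
    (hK : Cfsg.IsComplementSystem K) (M : Subgroup G) [M.Normal] {q k : ℕ} (hq : q.Prime)
    (hM : Nat.card M = q ^ k) (p : Nat.Primes) (hpq : (p : ℕ) ≠ q) : M ≤ K p := by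
  rw [← Subgroup.relIndex_eq_one]
  have h1 : (K p).relIndex M ∣ q ^ k := hM ▸ Subgroup.relIndex_dvd_card (K p) M
  have h2 : (K p).relIndex M ∣ (p : ℕ) ^ (Nat.card G).factorization p :=
    hK p ▸ Cfsg.Agent.S0545.relIndex_dvd_of_normal (K p) M
  exact Nat.eq_one_of_dvd_coprimes
    (Nat.Coprime.pow _ _ ((Nat.coprime_primes hq p.2).mpr (Ne.symm hpq))) h1 h2

theorem red_sup [Finite G] {K : Nat.Primes → Subgroup G} (hK : Cfsg.IsComplementSystem K)
    {C M : Subgroup G} [M.Normal] {q k : ℕ} (hq : q.Prime) (hM : Nat.card M = q ^ k)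
    (hR : Red K C) : Red K (C ⊔ M) := by
  intro p
  obtain ⟨j, hj⟩ := hR p
  by_cases hpq : (p : ℕ) = q
  · refine ⟨j + k, ?_⟩
    have h1 : (K p).relIndex (C ⊔ M) ∣ (K p ⊓ C).relIndex (C ⊔ M) :=
      Subgroup.relIndex_dvd_of_le_left _ inf_le_left
    have h2 := Subgroup.relIndex_mul_relIndex (K p ⊓ C) C (C ⊔ M) inf_le_right le_sup_left
    rw [Subgroup.inf_relIndex_right] at h2
    rw [← h2] at h1
    apply h1.trans
    rw [pow_add]
    apply Nat.mul_dvd_mul hj
    rw [hpq, ← hM]
    exact relIndex_sup_dvd_card C M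
  · refine ⟨j, ?_⟩
    have hMK : M ≤ K p := normal_le_complement hK M hq hM p hpq
    have h1 : (K p).relIndex (C ⊔ M) ∣ ((K p ⊓ C) ⊔ M).relIndex (C ⊔ M) :=
      Subgroup.relIndex_dvd_of_le_left _ (sup_le inf_le_left hMK)
    have h2 := Subgroup.relIndex_map_map (QuotientGroup.mk' M) (K p ⊓ C) C
    rw [QuotientGroup.ker_mk'] at h2
    rw [← h2] at h1
    have h3 := relIndex_map_dvd (QuotientGroup.mk' M) (K p ⊓ C) C
    rw [Subgroup.inf_relIndex_right] at h3
    exact h1.trans (h3.trans hj)

/-- the normalizer of a Hall `p'`-subgroup is a Carter subgroup when `G ⧸ N` is nilpotent for a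
normal `p`-subgroup `N` -/
theorem car_normalizer_hall [Finite G] {N : Subgroup G} [N.Normal] {p : ℕ} (hp : p.Prime)
    (hNp : IsPGroup p N) (hnil : Group.IsNilpotent (G ⧸ N)) (Q : Subgroup G) (a : ℕ)
    (hQi : Q.index = p ^ a) (hQc : (Nat.card Q).Coprime p) :
    Car (Subgroup.normalizer (Q : Set G)) := by
  haveI : Fact p.Prime := ⟨hp⟩
  have hG : Nat.card Q * p ^ a = Nat.card G := hQi ▸ Q.card_mul_index
  refine ⟨?_, normalizer_normalizer_of_hall Q (by rw [hQi]; exact hQc.pow_right a)⟩
  obtain ⟨C, hCdef⟩ : ∃ C : Subgroup G, C = Subgroup.normalizer (Q : Set G) := ⟨_, rfl⟩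
  rw [← hCdef]
  have hQC : Q ≤ C := hCdef ▸ Subgroup.le_normalizer
  haveI hQn : (Q.subgroupOf C).Normal := by
    rw [hCdef]
    exact Subgroup.normal_in_normalizer
  have hcard : Nat.card (↥C ⧸ Q.subgroupOf C) ∣ p ^ a := by
    have h1 := Subgroup.card_eq_card_quotient_mul_card_subgroup (Q.subgroupOf C)
    have h2 : Nat.card (Q.subgroupOf C) = Nat.card Q :=
      Nat.card_congr (Subgroup.subgroupOfEquivOfLe hQC).toEquiv
    have h3 : Nat.card C ∣ Nat.card G := Subgroup.card_subgroup_dvd_card C
    rw [h1, h2, ← hG, mul_comm (Nat.card Q)] at h3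
    exact Nat.dvd_of_mul_dvd_mul_right Nat.card_pos h3
  obtain ⟨j, -, hj⟩ := (Nat.dvd_prime_pow hp).mp hcard
  haveI : Group.IsNilpotent (↥C ⧸ Q.subgroupOf C) := (IsPGroup.of_card hj).isNilpotent
  haveI := hnil
  let f : ↥C →* (↥C ⧸ Q.subgroupOf C) × (G ⧸ N) :=
    (QuotientGroup.mk' (Q.subgroupOf C)).prod ((QuotientGroup.mk' N).comp C.subtype)
  have hinj : Function.Injective f := by
    rw [← MonoidHom.ker_eq_bot_iff, eq_bot_iff]
    intro x hx
    rw [MonoidHom.mem_ker] at hx
    have hx1 : QuotientGroup.mk' (Q.subgroupOf C) x = 1 := congrArg Prod.fst hx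
    have hx2 : QuotientGroup.mk' N (x : G) = 1 := congrArg Prod.snd hx
    have hxQ : (x : G) ∈ Q := (QuotientGroup.eq_one_iff x).mp hx1
    have hxN : (x : G) ∈ N := (QuotientGroup.eq_one_iff (x : G)).mp hx2
    have h1 : orderOf (x : G) ∣ Nat.card Q := Subgroup.orderOf_dvd_natCard _ hxQ
    obtain ⟨k, hk⟩ := IsPGroup.iff_card.mp hNp
    have h2 : orderOf (x : G) ∣ p ^ k := hk ▸ Subgroup.orderOf_dvd_natCard _ hxN
    have h3 : orderOf (x : G) = 1 := Nat.eq_one_of_dvd_coprimes (hQc.pow_right k) h1 h2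
    rw [Subgroup.mem_bot]
    exact Subtype.ext (orderOf_eq_one_iff.mp h3)
  exact Group.nilpotent_of_mulEquiv (MonoidHom.ofInjective hinj).symm

/-- a self-normalizing subgroup of a nilpotent subgroup `T` is all of `T` -/
theorem eq_of_selfNormalizing_le_nilpotent {C T : Subgroup G} (hCT : C ≤ T)
    (hT : Group.IsNilpotent T) (hC : Subgroup.normalizer (C : Set G) = C) : C = T := by
  have hNC : NormalizerCondition T := Group.normalizerCondition_of_isNilpotent
  rw [normalizerCondition_iff_only_full_group_self_normalizing] at hNC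
  have h1 : C.subgroupOf T = ⊤ := by
    apply hNC
    rw [← Subgroup.subgroupOf_normalizer_eq hCT, hC]
  exact le_antisymm hCT (Subgroup.subgroupOf_eq_top.mp h1)

theorem factorization_coprime_mul_pow {p c i : ℕ} (hp : p.Prime) (hc : c.Coprime p) :
    (c * p ^ i).factorization p = i := by
  have hc0 : c ≠ 0 := by
    rintro rfl
    rw [Nat.coprime_zero_left] at hc
    exact hp.one_lt.ne' hc
  have hpc : ¬ p ∣ c := fun h => hp.one_lt.ne' (Nat.Coprime.eq_one_of_dvd hc.symm h)
  rw [Nat.factorization_mul hc0 (pow_ne_zero _ hp.ne_zero), Finsupp.add_apply,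
    Nat.factorization_eq_zero_of_not_dvd hpc, zero_add, hp.factorization_pow,
    Finsupp.single_eq_same]

/-- the trace of a complement system on a subgroup into which it reduces -/
theorem complementSystem_subgroupOf [Finite G] {K : Nat.Primes → Subgroup G}
    (hK : Cfsg.IsComplementSystem K) {T : Subgroup G} (hRT : Red K T) :
    Cfsg.IsComplementSystem (fun p => (K p).subgroupOf T) := by
  intro p
  show ((K p).subgroupOf T).index = _
  obtain ⟨j, hj⟩ := hRT p
  obtain ⟨i, -, hi⟩ := (Nat.dvd_prime_pow p.2).mp hj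
  have hi' : ((K p).subgroupOf T).index = (p : ℕ) ^ i := hi
  have h1 := ((K p).subgroupOf T).card_mul_index
  rw [hi'] at h1
  have h2 : (Nat.card ((K p).subgroupOf T)).Coprime p := by
    have h3 : Nat.card ((K p).subgroupOf T) ∣ Nat.card (K p) := by
      have h4 := Subgroup.card_dvd_of_le (inf_le_left : K p ⊓ T ≤ K p)
      rwa [← Subgroup.subgroupOf_map_subtype,
        Subgroup.card_map_of_injective T.subtype_injective] at h4
    exact Nat.Coprime.coprime_dvd_left h3 ((Nat.Prime.coprime_iff_not_dvd p.2).mpr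
      (Cfsg.Agent.S0544.not_dvd_card_complement K hK p)).symm
  rw [hi', ← h1, factorization_coprime_mul_pow p.2 h2]

theorem red_descent [Finite G] [Group.IsSolvable G]
    (ih : ∀ (H : Type u) [Group H] [Finite H] [Group.IsSolvable H], Nat.card H < Nat.card G →
      ∀ (C : Subgroup H) (K : Nat.Primes → Subgroup H), Car C → Cfsg.IsComplementSystem K →
        Red K C → Cfsg.systemNormalizer K ≤ C)
    {K : Nat.Primes → Subgroup G} {T C : Subgroup G} (hT : T ≠ ⊤) (hCT : C ≤ T) (hC : Car C)
    (hK : Cfsg.IsComplementSystem K) (hRC : Red K C) (hRT : Red K T)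
    (hDT : Cfsg.systemNormalizer K ≤ T) : Cfsg.systemNormalizer K ≤ C := by
  have hKT := complementSystem_subgroupOf hK hRT
  have hCT' : Car (C.subgroupOf T) := (RelCar.of_car hC hCT).subgroupOf
  have hR' : Red (fun p => (K p).subgroupOf T) (C.subgroupOf T) := by
    intro p
    obtain ⟨j, hj⟩ := hRC p
    refine ⟨j, ?_⟩
    show ((K p).subgroupOf T).relIndex (C.subgroupOf T) ∣ _
    rw [Subgroup.relIndex_subgroupOf hCT]
    exact hj
  have h1 := ih ↥T (card_lt_of_ne_top hT) _ _ hCT' hKT hR'
  intro x hx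
  have hxT : x ∈ T := hDT hx
  have h2 : (⟨x, hxT⟩ : ↥T) ∈ Cfsg.systemNormalizer (fun p => (K p).subgroupOf T) := by
    unfold Cfsg.systemNormalizer at hx ⊢
    rw [Subgroup.mem_iInf] at hx ⊢
    intro p
    have h3 := hx p
    rw [Subgroup.mem_normalizer_iff] at h3 ⊢
    intro h
    rw [Subgroup.mem_subgroupOf, Subgroup.mem_subgroupOf]
    exact h3 (h : G)
  exact h1 h2

/-- If the complement system `K` reduces into the Carter subgroup `C`, then the system normalizer
of `K` is contained in `C`. -/
theorem sysNorm_le_carter_aux (n : ℕ) : ∀ (G : Type u) [Group G] [Finite G]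
    [Group.IsSolvable G], Nat.card G = n → ∀ (C : Subgroup G) (K : Nat.Primes → Subgroup G),
    Car C → Cfsg.IsComplementSystem K → Red K C → Cfsg.systemNormalizer K ≤ C := by
  induction n using Nat.strong_induction_on with
  | _ n ih =>
    intro G _ _ _ hn C K hC hK hR
    have ih' : ∀ (H : Type u) [Group H] [Finite H] [Group.IsSolvable H],
        Nat.card H < Nat.card G → ∀ (C : Subgroup H) (K : Nat.Primes → Subgroup H), Car C →
        Cfsg.IsComplementSystem K → Red K C → Cfsg.systemNormalizer K ≤ C :=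
      fun H _ _ _ hlt => ih (Nat.card H) (hn ▸ hlt) H rfl
    by_cases htop : (⊤ : Subgroup G) = ⊥
    · haveI : Subsingleton (Subgroup G) := subsingleton_of_bot_eq_top htop.symm
      exact (Subsingleton.elim _ _).le
    obtain ⟨M, hMn, hMne, -, hMmin⟩ :=
      Cfsg.Agent.H1.exists_minimal_normal_le (⊤ : Subgroup G) htop
    haveI := hMn
    obtain ⟨-, q, hq, hexp⟩ := Cfsg.Agent.S0043.result M hMne hMmin
    haveI : Fact q.Prime := ⟨hq⟩
    have hMp : IsPGroup q M := by
      rintro ⟨x, hx⟩
      refine ⟨1, ?_⟩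
      rw [pow_one]
      exact Subtype.ext (hexp x hx)
    obtain ⟨k, hk⟩ := IsPGroup.iff_card.mp hMp
    by_cases hL : C ⊔ M = ⊤
    · -- `G ⧸ M` is nilpotent and `C` is the normalizer of the `q`-complement
      have hnil : Group.IsNilpotent (G ⧸ M) := by
        haveI := hC.1
        refine Group.nilpotent_of_surjective ((QuotientGroup.mk' M).comp C.subtype) ?_
        intro y
        obtain ⟨g, rfl⟩ := QuotientGroup.mk'_surjective M y
        have hg : g ∈ ((C ⊔ M : Subgroup G) : Set G) := by
          rw [hL]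
          exact Set.mem_univ g
        rw [Subgroup.mul_normal] at hg
        obtain ⟨c, hc, m, hm, rfl⟩ := Set.mem_mul.mp hg
        refine ⟨⟨c, hc⟩, ?_⟩
        show QuotientGroup.mk' M c = QuotientGroup.mk' M (c * m)
        have hm1 : QuotientGroup.mk' M m = 1 := (QuotientGroup.eq_one_iff m).mpr hm
        rw [map_mul, hm1, mul_one]
      let qq : Nat.Primes := ⟨q, hq⟩
      have hidx : C.index ∣ q ^ k := by
        have h1 := relIndex_sup_dvd_card C M
        rwa [hL, Subgroup.relIndex_top_right, hk] at h1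
      have hcopq : (Nat.card (K qq)).Coprime q :=
        ((Nat.Prime.coprime_iff_not_dvd hq).mpr
          (Cfsg.Agent.S0544.not_dvd_card_complement K hK qq)).symm
      have hKC : K qq ≤ C := by
        rw [← Subgroup.relIndex_eq_one]
        have h1 : C.relIndex (K qq) ∣ Nat.card (K qq) := Subgroup.relIndex_dvd_card _ _
        obtain ⟨j, hj⟩ := hR qq
        have h2 := Subgroup.relIndex_mul_index (inf_le_left : K qq ⊓ C ≤ K qq)
        have h3 := Subgroup.relIndex_mul_index (inf_le_right : K qq ⊓ C ≤ C)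
        rw [Subgroup.inf_relIndex_left] at h2
        rw [Subgroup.inf_relIndex_right] at h3
        have h4 : C.relIndex (K qq) ∣ q ^ (j + k) := by
          have h5 : C.relIndex (K qq) ∣ (K qq ⊓ C).index := ⟨_, h2.symm⟩
          rw [← h3] at h5
          rw [pow_add]
          exact h5.trans (Nat.mul_dvd_mul hj hidx)
        exact Nat.eq_one_of_dvd_coprimes (hcopq.pow_right _) h1 h4
      have hCN : C ≤ Subgroup.normalizer ((K qq : Subgroup G) : Set G) := by
        rw [← Subgroup.normal_subgroupOf_iff_le_normalizer hKC]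
        haveI := hC.1
        apply hall_normal_of_nilpotent
        have h1 : Nat.card ((K qq).subgroupOf C) = Nat.card (K qq) :=
          Nat.card_congr (Subgroup.subgroupOfEquivOfLe hKC).toEquiv
        rw [h1]
        obtain ⟨j, hj⟩ := hR qq
        obtain ⟨i, -, hi⟩ := (Nat.dvd_prime_pow hq).mp hj
        have hi' : ((K qq).subgroupOf C).index = q ^ i := hi
        rw [hi']
        exact hcopq.pow_right i
      have hT : Car (Subgroup.normalizer ((K qq : Subgroup G) : Set G)) :=
        car_normalizer_hall hq hMp hnil (K qq) _ (hK qq) hcopq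
      have hCT := eq_of_selfNormalizing_le_nilpotent hCN hT.1 hC.2
      rw [hCT]
      unfold Cfsg.systemNormalizer
      exact iInf_le _ qq
    · -- `C ⊔ M` is proper
      have hstep : Cfsg.systemNormalizer K ≤ C ⊔ M := by
        obtain ⟨hKb, hDb⟩ := Cfsg.Agent.S0545.result K hK M
        have h1 := ih' (G ⧸ M) (card_quotient_lt hMne) _ _ (car_map hC M) hKb (red_map hR M)
        rw [hDb] at h1
        intro x hx
        have h2 : x ∈ (C.map (QuotientGroup.mk' M)).comap (QuotientGroup.mk' M) :=
          h1 (Subgroup.mem_map_of_mem _ hx)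
        rw [QuotientGroup.comap_map_mk', sup_comm] at h2
        exact h2
      exact red_descent ih' hL le_sup_left hC hK hR (red_sup hK hq hk hR) hstep

theorem sysNorm_le_carter {G : Type u} [Group G] [Finite G] [Group.IsSolvable G]
    {C : Subgroup G} {K : Nat.Primes → Subgroup G} (hC : Car C)
    (hK : Cfsg.IsComplementSystem K) (hR : Red K C) : Cfsg.systemNormalizer K ≤ C :=
  sysNorm_le_carter_aux (Nat.card G) G rfl C K hC hK hR

theorem index_eq_ordProj {H : Type*} [Group H] [Finite H] (B : Subgroup H) (p : ℕ)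
    (hB : Nat.card B = Nat.card H / p ^ (Nat.card H).factorization p) :
    B.index = p ^ (Nat.card H).factorization p := by
  have hn : Nat.card H ≠ 0 := Nat.card_pos.ne'
  have h1 := Nat.ordProj_mul_ordCompl_eq_self (Nat.card H) p
  have h3 := B.card_mul_index
  rw [hB] at h3
  have hpos : 0 < Nat.card H / p ^ (Nat.card H).factorization p := by
    apply Nat.pos_of_ne_zero
    intro h0
    rw [h0, mul_zero] at h1
    exact hn h1.symm
  apply Nat.eq_of_mul_eq_mul_left hpos
  rw [h3, mul_comm]
  exact h1.symm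

/-- every subgroup has a complement system reducing into it -/
theorem exists_red_complementSystem [Finite G] [Group.IsSolvable G] (C : Subgroup G) :
    ∃ K : Nat.Primes → Subgroup G, Cfsg.IsComplementSystem K ∧ Red K C := by
  have h : ∀ p : Nat.Primes, ∃ H : Subgroup G,
      H.index = (p : ℕ) ^ (Nat.card G).factorization p ∧
        ∃ j : ℕ, H.relIndex C ∣ (p : ℕ) ^ j := by
    intro p
    have hn : Nat.card G ≠ 0 := Nat.card_pos.ne'
    have hnC : Nat.card C ≠ 0 := Nat.card_pos.ne'
    have h1C := Nat.ordProj_mul_ordCompl_eq_self (Nat.card C) p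
    have h2C := Nat.coprime_ordCompl p.2 hnC
    obtain ⟨B', hB'⟩ := Cfsg.Agent.S0003.result (G := ↥C)
      (Nat.card C / (p : ℕ) ^ (Nat.card C).factorization p)
      ((p : ℕ) ^ (Nat.card C).factorization p) (by rw [mul_comm]; exact h1C.symm)
      (Nat.Coprime.pow_right _ h2C.symm)
    have hBc : Nat.card (B'.map C.subtype)
        = Nat.card C / (p : ℕ) ^ (Nat.card C).factorization p := by
      rw [Subgroup.card_map_of_injective C.subtype_injective, hB']
    have h1 := Nat.ordProj_mul_ordCompl_eq_self (Nat.card G) p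
    have h2 := Nat.coprime_ordCompl p.2 hn
    obtain ⟨H, hH, hBH⟩ := Cfsg.Agent.S0005.result (G := G)
      (Nat.card G / (p : ℕ) ^ (Nat.card G).factorization p)
      ((p : ℕ) ^ (Nat.card G).factorization p) (by rw [mul_comm]; exact h1.symm)
      (Nat.Coprime.pow_right _ h2.symm) (B'.map C.subtype)
      (by rw [hBc]; exact Nat.Coprime.pow_right _ h2C.symm)
    refine ⟨H, index_eq_ordProj H p hH, (Nat.card C).factorization p, ?_⟩
    have h3 : H.relIndex C ∣ (B'.map C.subtype).relIndex C :=
      Subgroup.relIndex_dvd_of_le_left C hBH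
    have h4 : (B'.map C.subtype).relIndex C = B'.index := by
      show ((B'.map C.subtype).subgroupOf C).index = _
      rw [show (B'.map C.subtype).subgroupOf C = B' from
        Subgroup.comap_map_eq_self_of_injective C.subtype_injective B']
    rw [h4, index_eq_ordProj B' p hB'] at h3
    exact h3
  choose K hK hR using h
  exact ⟨K, hK, hR⟩

end

end Cfsg.Agent.Lib.Lead.CarterSys
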