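import Mathlib
import Cfsg.Agent.H1.Subnormalizer
import Cfsg.Agent.H1.BaerSuzuki

/-! Casolo's subnormalizer count: basic notions (`SN`, relative Sylow subgroups `SylIn`). -/

set_option autoImplicit false
set_option linter.unusedVariables false
set_option linter.unusedSectionVars false
set_option linter.style.haveILetI false

namespace Cfsg.Agent.Lib.Lead.Casolo

open Cfsg.Agent.H1

variable {G : Type*} [Group G] [Finite G] {p : ℕ} [Fact p.Prime]

/-- `g` lies in the subnormalizer of `H`. -/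
def SN (H : Subgroup G) (g : G) : Prop :=
  (H.subgroupOf (H ⊔ Subgroup.zpowers g)).IsSubnormal

lemma SN_exists {H : Subgroup G} (hH : IsPGroup p H) {g : G} (h : SN H g) :
    ∃ E : Subgroup G, IsPGroup p E ∧ H ≤ E ∧ g ∈ Subgroup.normalizer (E : Set G) ∧
      E ≤ H ⊔ Subgroup.zpowers g := by
  have h1 : H ≤ OpIn p (H ⊔ Subgroup.zpowers g) := (isSubnormal_subgroupOf_iff le_sup_left hH).1 h
  have hgX : g ∈ H ⊔ Subgroup.zpowers g :=
    (le_sup_right : Subgroup.zpowers g ≤ H ⊔ Subgroup.zpowers g) (Subgroup.mem_zpowers g)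
  exact ⟨_, OpIn_isPGroup _, h1, le_normalizer_OpIn _ hgX, OpIn_le _⟩

lemma SN_of_exists {H E : Subgroup G} (hE : IsPGroup p E) (hHE : H ≤ E) {g : G}
    (hg : g ∈ Subgroup.normalizer (E : Set G)) : SN H g :=
  sub_of_radical hHE hE hg

lemma SN_iff {H : Subgroup G} (hH : IsPGroup p H) (g : G) :
    SN H g ↔ ∃ E : Subgroup G, IsPGroup p E ∧ H ≤ E ∧ g ∈ Subgroup.normalizer (E : Set G) := by
  constructor
  · intro h
    obtain ⟨E, h1, h2, h3, -⟩ := SN_exists hH h
    exact ⟨E, h1, h2, h3⟩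
  · rintro ⟨E, hE, hHE, hg⟩
    exact SN_of_exists hE hHE hg

/-- The Sylow `p`-subgroups of the subgroup `X`, as subgroups of `G`. -/
def SylIn (p : ℕ) (X : Subgroup G) : Set (Subgroup G) :=
  {Q | Q ≤ X ∧ IsPGroup p Q ∧ ∀ Q' : Subgroup G, Q' ≤ X → IsPGroup p Q' → Q ≤ Q' → Q' = Q}

lemma exists_sylIn_ge {X D : Subgroup G} (hD : D ≤ X) (hp : IsPGroup p D) :
    ∃ Q ∈ SylIn p X, D ≤ Q := by
  let 𝓡 := {R : Subgroup G // R ≤ X ∧ IsPGroup p R ∧ D ≤ R}
  haveI : Nonempty 𝓡 := ⟨⟨D, hD, hp, le_rfl⟩⟩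
  obtain ⟨⟨R, hRX, hRp, hDR⟩, hmax⟩ := Finite.exists_max (fun R : 𝓡 => Nat.card R.1)
  refine ⟨R, ⟨hRX, hRp, fun Q' hQ'X hQ'p hRQ' => ?_⟩, hDR⟩
  have := hmax ⟨Q', hQ'X, hQ'p, hDR.trans hRQ'⟩
  exact (Subgroup.eq_of_le_of_card_ge hRQ' this).symm

lemma le_of_mem_sylIn_of_le_normalizer {X D Q : Subgroup G} (hQ : Q ∈ SylIn p X) (hD : D ≤ X)
    (hDp : IsPGroup p D) (hn : X ≤ Subgroup.normalizer (D : Set G)) : D ≤ Q := by
  obtain ⟨hQX, hQp, hmax⟩ := hQ
  have h1 : IsPGroup p (Q ⊔ D : Subgroup G) := IsPGroup.to_sup_of_normal_right' hQp hDp (hQX.trans hn)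
  have h2 := hmax (Q ⊔ D) (sup_le hQX hD) h1 le_sup_left
  rw [← h2]
  exact le_sup_right

/-- The bijection between `Sylow p ↥X` and `SylIn p X`. -/
noncomputable def sylInEquiv (X : Subgroup G) : Sylow p ↥X ≃ {Q : Subgroup G // Q ∈ SylIn p X} := by
  refine Equiv.ofBijective
    (fun P => ⟨(P : Subgroup ↥X).map X.subtype, Subgroup.map_subtype_le _, P.isPGroup'.map _, ?_⟩) ⟨?_, ?_⟩
  · intro Q' hQ'X hQ'p hle
    have h1 : (P : Subgroup ↥X) ≤ Q'.subgroupOf X := by
      intro x hx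
      rw [Subgroup.mem_subgroupOf]
      exact hle ⟨x, hx, rfl⟩
    have h2 : Q'.subgroupOf X = (P : Subgroup ↥X) := P.is_maximal' hQ'p.comap_subtype h1
    rw [← h2, Subgroup.map_subgroupOf_eq_of_le hQ'X]
  · intro P P' h
    have h' : (P : Subgroup ↥X).map X.subtype = (P' : Subgroup ↥X).map X.subtype :=
      congrArg Subtype.val h
    exact Sylow.ext (Subgroup.map_injective X.subtype_injective h')
  · rintro ⟨Q, hQX, hQp, hmax⟩
    refine ⟨⟨Q.subgroupOf X, hQp.comap_subtype, ?_⟩, ?_⟩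
    · intro R hR hle
      have h1 : Q ≤ R.map X.subtype := by
        rw [← Subgroup.map_subgroupOf_eq_of_le hQX]
        exact Subgroup.map_mono hle
      have h2 := hmax (R.map X.subtype) (Subgroup.map_subtype_le _) (hR.map _) h1
      rw [← h2, Subgroup.subgroupOf, Subgroup.comap_map_eq_self_of_injective X.subtype_injective]
    · apply Subtype.ext
      exact Subgroup.map_subgroupOf_eq_of_le hQX

lemma sylInEquiv_coe (X : Subgroup G) (P : Sylow p ↥X) :
    ((sylInEquiv X P : {Q : Subgroup G // Q ∈ SylIn p X}) : Subgroup G) =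
      (P : Subgroup ↥X).map X.subtype := rfl

lemma card_subgroupOf_eq (K X : Subgroup G) :
    Nat.card ↥(K.subgroupOf X) = Nat.card ↥(K ⊓ X : Subgroup G) := by
  rw [← Subgroup.inf_subgroupOf_right K X]
  exact Nat.card_congr (Subgroup.subgroupOfEquivOfLe inf_le_right).toEquiv

/-- Sylow's theorem, relative form. -/
lemma card_normalizer_mul_card_sylIn {X H : Subgroup G} (hH : H ∈ SylIn p X) :
    Nat.card ↥(X ⊓ Subgroup.normalizer (H : Set G) : Subgroup G) *
      Nat.card {Q : Subgroup G // Q ∈ SylIn p X} = Nat.card ↥X := by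
  obtain ⟨P, hP⟩ := (sylInEquiv (p := p) X).surjective ⟨H, hH⟩
  have hPH : (P : Subgroup ↥X).map X.subtype = H := by
    have := congrArg Subtype.val hP
    simpa [sylInEquiv_coe] using this
  have hPH' : (P : Subgroup ↥X) = H.subgroupOf X := by
    rw [← hPH, Subgroup.subgroupOf, Subgroup.comap_map_eq_self_of_injective X.subtype_injective]
  have h1 : Nat.card (Sylow p ↥X) = (Subgroup.normalizer ((P : Subgroup ↥X) : Set ↥X)).index :=
    P.card_eq_index_normalizer
  have h2 := Subgroup.card_mul_index (Subgroup.normalizer ((P : Subgroup ↥X) : Set ↥X))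
  rw [← h1] at h2
  rw [← Nat.card_congr (sylInEquiv (p := p) X), ← h2]
  congr 1
  rw [hPH', ← Subgroup.subgroupOf_normalizer_eq hH.1, card_subgroupOf_eq, inf_comm]

lemma sylIn_nonempty (X : Subgroup G) : ∃ Q, Q ∈ SylIn p X := by
  obtain ⟨Q, hQ, -⟩ := exists_sylIn_ge (p := p) (bot_le : (⊥ : Subgroup G) ≤ X) IsPGroup.of_bot
  exact ⟨Q, hQ⟩

/-- If `H < Q` are `p`-groups then the normalizer of `H` in `Q` is bigger than `H`. -/
lemma lt_inf_normalizer {H Q : Subgroup G} (hQ : IsPGroup p Q) (hlt : H < Q) :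
    H < Q ⊓ Subgroup.normalizer (H : Set G) := by
  have := lt_normalizer_inf_of_pgroup H Q hQ hlt
  rwa [inf_comm] at this

end Cfsg.Agent.Lib.Lead.Casolo
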