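import Mathlib

/-! Möbius weights on the subgroup lattice of a finite group and Weisner's lemma. -/

set_option autoImplicit false
set_option linter.unusedVariables false
set_option linter.unusedSectionVars false
set_option linter.style.haveILetI false

namespace Cfsg.Agent.Lib.Lead.Casolo

open Classical

variable {G : Type*} [Group G] [Finite G]

attribute [local instance] Fintype.ofFinite

/-- Möbius weights above `H`. -/
lemma exists_mobius (H : Subgroup G) :
    ∃ m : Subgroup G → ℤ, m H = 1 ∧ ∀ E : Subgroup G, H ≤ E →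
      ∑ D ∈ Finset.univ.filter (fun D : Subgroup G => H ≤ D ∧ D ≤ E), m D = if H = E then 1 else 0 := by
  letI : LocallyFiniteOrder (Subgroup G) := Fintype.toLocallyFiniteOrder
  refine ⟨fun D => IncidenceAlgebra.mu ℤ H D, IncidenceAlgebra.mu_self _, fun E hE => ?_⟩
  have := IncidenceAlgebra.sum_Icc_mu_right (𝕜 := ℤ) H E
  rw [← this]
  apply Finset.sum_congr _ (fun _ _ => rfl)
  ext D
  simp [Finset.mem_Icc]

/-- Weisner's lemma. -/
lemma weisner {H D₀ : Subgroup G} (m : Subgroup G → ℤ)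
    (hm : ∀ E : Subgroup G, H ≤ E →
      ∑ D ∈ Finset.univ.filter (fun D : Subgroup G => H ≤ D ∧ D ≤ E), m D = if H = E then 1 else 0)
    (h0 : H ≤ D₀) (hne : H ≠ D₀) :
    ∀ E : Subgroup G, D₀ ≤ E →
      ∑ D ∈ Finset.univ.filter (fun D : Subgroup G => H ≤ D ∧ D ⊔ D₀ = E), m D = 0 := by
  intro E
  induction E using (wellFounded_lt (α := Subgroup G)).induction with
  | _ E ih =>
  intro hE
  have hHE : H ≤ E := h0.trans hE
  have hHneE : H ≠ E := by
    rintro rfl
    exact hne (le_antisymm h0 hE)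
  have h1 := hm E hHE
  rw [if_neg hHneE] at h1
  -- split by the value of `D ⊔ D₀`
  have hmaps : ∀ D ∈ Finset.univ.filter (fun D : Subgroup G => H ≤ D ∧ D ≤ E),
      D ⊔ D₀ ∈ Finset.univ.filter (fun E' : Subgroup G => D₀ ≤ E' ∧ E' ≤ E) := by
    intro D hD
    rw [Finset.mem_filter] at hD ⊢
    exact ⟨Finset.mem_univ _, le_sup_right, sup_le hD.2.2 hE⟩
  rw [← Finset.sum_fiberwise_of_maps_to hmaps] at h1
  have h2 : ∀ E' ∈ Finset.univ.filter (fun E' : Subgroup G => D₀ ≤ E' ∧ E' ≤ E),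
      ∑ D ∈ (Finset.univ.filter (fun D : Subgroup G => H ≤ D ∧ D ≤ E)).filter (fun D => D ⊔ D₀ = E'), m D =
        if E' = E then ∑ D ∈ Finset.univ.filter (fun D : Subgroup G => H ≤ D ∧ D ⊔ D₀ = E), m D else 0 := by
    intro E' hE'
    rw [Finset.mem_filter] at hE'
    have hset : (Finset.univ.filter (fun D : Subgroup G => H ≤ D ∧ D ≤ E)).filter (fun D => D ⊔ D₀ = E') =
        Finset.univ.filter (fun D : Subgroup G => H ≤ D ∧ D ⊔ D₀ = E') := by
      ext D
      simp only [Finset.mem_filter, Finset.mem_univ, true_and]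
      constructor
      · rintro ⟨⟨h1, -⟩, h3⟩
        exact ⟨h1, h3⟩
      · rintro ⟨h1, h3⟩
        refine ⟨⟨h1, ?_⟩, h3⟩
        exact (le_sup_left.trans h3.le).trans hE'.2.2
    rw [hset]
    split_ifs with h
    · rw [h]
    · exact ih E' (lt_of_le_of_ne hE'.2.2 h) hE'.2.1
  rw [Finset.sum_congr rfl h2, Finset.sum_ite_eq' ] at h1
  rw [if_pos] at h1
  · exact h1
  · rw [Finset.mem_filter]
    exact ⟨Finset.mem_univ _, hE, le_rfl⟩

end Cfsg.Agent.Lib.Lead.Casolo
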