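import Mathlib
import Cfsg.Agent.Lib.Lead.CasoloA
import Cfsg.Agent.Lib.Lead.CasoloB

/-! Casolo's subnormalizer count: the main induction (relative form). -/

set_option autoImplicit false
set_option linter.unusedVariables false
set_option linter.unusedSectionVars false
set_option linter.style.haveILetI false

namespace Cfsg.Agent.Lib.Lead.Casolo

open Classical
open Cfsg.Agent.H1

attribute [local instance] Fintype.ofFinite

variable {G : Type*} [Group G] [Finite G] {p : ℕ} [Fact p.Prime]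

/-- number of elements of `X` in the subnormalizer of `D` -/
noncomputable def sub (X D : Subgroup G) : ℕ :=
  ((Finset.univ.filter (fun g : G => g ∈ X)).filter (fun g => SN D g)).card

/-- number of Sylow `p`-subgroups of `X` containing `D` -/
noncomputable def lam (p : ℕ) (X D : Subgroup G) : ℕ :=
  ((Finset.univ.filter (fun Q : Subgroup G => Q ∈ SylIn p X)).filter (fun Q => D ≤ Q)).card

lemma card_filter_mem (K : Subgroup G) :
    (Finset.univ.filter (fun g : G => g ∈ K)).card = Nat.card ↥K := by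
  rw [Nat.card_eq_fintype_card, Fintype.card_subtype]

lemma card_filter_sylIn (X : Subgroup G) :
    (Finset.univ.filter (fun Q : Subgroup G => Q ∈ SylIn p X)).card =
      Nat.card {Q : Subgroup G // Q ∈ SylIn p X} := by
  rw [Nat.card_eq_fintype_card, Fintype.card_subtype]

lemma lam_bot (X : Subgroup G) : lam p X ⊥ = Nat.card {Q : Subgroup G // Q ∈ SylIn p X} := by
  rw [← card_filter_sylIn]
  unfold lam
  congr 1
  apply Finset.filter_true_of_mem
  intro Q _
  exact bot_le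

lemma lam_bot_pos (X : Subgroup G) : 0 < lam p X ⊥ := by
  rw [lam_bot]
  obtain ⟨Q, hQ⟩ := sylIn_nonempty (p := p) X
  haveI : Nonempty {Q : Subgroup G // Q ∈ SylIn p X} := ⟨⟨Q, hQ⟩⟩
  exact Nat.card_pos

lemma SN_mono {D D' : Subgroup G} (hle : D ≤ D') (hD' : IsPGroup p D') {g : G} (h : SN D' g) :
    SN D g := by
  obtain ⟨E, hE, hD'E, hg⟩ := (SN_iff hD' g).1 h
  exact SN_of_exists hE (hle.trans hD'E) hg

/-- Case: `H` is a Sylow subgroup of `X`. -/
lemma main_sylow {X H : Subgroup G} (hH : H ∈ SylIn p X) :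
    sub X H * lam p X ⊥ = lam p X H * Nat.card ↥X := by
  obtain ⟨hHX, hHp, hmax⟩ := hH
  have h1 : sub X H = Nat.card ↥(X ⊓ Subgroup.normalizer (H : Set G) : Subgroup G) := by
    rw [← card_filter_mem]
    unfold sub
    congr 1
    ext g
    simp only [Finset.mem_filter, Finset.mem_univ, true_and, Subgroup.mem_inf]
    constructor
    · rintro ⟨hgX, hSN⟩
      refine ⟨hgX, ?_⟩
      obtain ⟨E, hEp, hHE, hgE, hEle⟩ := SN_exists hHp hSN
      have hEX : E ≤ X := hEle.trans (sup_le hHX (by rw [Subgroup.zpowers_le]; exact hgX))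
      have := hmax E hEX hEp hHE
      rwa [this] at hgE
    · rintro ⟨hgX, hgN⟩
      exact ⟨hgX, SN_of_exists hHp le_rfl hgN⟩
  have h2 : lam p X H = 1 := by
    unfold lam
    rw [Finset.card_eq_one]
    refine ⟨H, ?_⟩
    ext Q
    simp only [Finset.mem_filter, Finset.mem_univ, true_and, Finset.mem_singleton]
    constructor
    · rintro ⟨hQ, hHQ⟩
      exact hmax Q hQ.1 hQ.2.1 hHQ
    · rintro rfl
      exact ⟨⟨hHX, hHp, hmax⟩, le_rfl⟩
  rw [h1, h2, lam_bot, one_mul]
  exact card_normalizer_mul_card_sylIn ⟨hHX, hHp, hmax⟩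

/-- Case: `H` is normal in `X`. -/
lemma main_normal {X H : Subgroup G} (hHX : H ≤ X) (hHp : IsPGroup p H)
    (hn : X ≤ Subgroup.normalizer (H : Set G)) :
    sub X H * lam p X ⊥ = lam p X H * Nat.card ↥X := by
  have h1 : sub X H = Nat.card ↥X := by
    rw [← card_filter_mem]
    unfold sub
    congr 1
    apply Finset.filter_true_of_mem
    intro g hg
    rw [Finset.mem_filter] at hg
    exact SN_of_exists hHp le_rfl (hn hg.2)
  have h2 : lam p X H = lam p X ⊥ := by
    unfold lam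
    congr 1
    apply Finset.filter_congr
    intro Q hQ
    rw [Finset.mem_filter] at hQ
    constructor
    · intro _; exact bot_le
    · intro _; exact le_of_mem_sylIn_of_le_normalizer hQ.2 hHX hHp hn
  rw [h1, h2, mul_comm]

section mainCase

variable {X H : Subgroup G} (m : Subgroup G → ℤ)

/-- the family `𝒟` -/
noncomputable def fam (p : ℕ) (X H : Subgroup G) : Finset (Subgroup G) :=
  Finset.univ.filter (fun D : Subgroup G =>
    H ≤ D ∧ D ≤ X ⊓ Subgroup.normalizer (H : Set G) ∧ IsPGroup p D)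

lemma mem_fam {D : Subgroup G} : D ∈ fam p X H ↔
    H ≤ D ∧ D ≤ X ⊓ Subgroup.normalizer (H : Set G) ∧ IsPGroup p D := by
  unfold fam
  simp only [Finset.mem_filter, Finset.mem_univ, true_and]

/-- `Σ_D m(D) λ_Y(D) = 0` for `N ≤ Y ≤ X`. -/
lemma sum_m_lam_eq_zero (hHX : H ≤ X) (hHp : IsPGroup p H) (hSyl : H ∉ SylIn p X)
    (hm : ∀ E : Subgroup G, H ≤ E →
      ∑ D ∈ Finset.univ.filter (fun D : Subgroup G => H ≤ D ∧ D ≤ E), m D = if H = E then 1 else 0)
    (Y : Subgroup G) (hNY : X ⊓ Subgroup.normalizer (H : Set G) ≤ Y) (hYX : Y ≤ X) :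
    ∑ D ∈ fam p X H, m D * (lam p Y D : ℤ) = 0 := by
  -- `H` is not Sylow in `Y`
  have hSylY : H ∉ SylIn p Y := by
    intro hY
    obtain ⟨Q', hQ', hHQ'⟩ := exists_sylIn_ge hHX hHp
    have hne : H ≠ Q' := by
      rintro rfl
      exact hSyl hQ'
    have hlt := lt_inf_normalizer hQ'.2.1 (lt_of_le_of_ne hHQ' hne)
    have hle : Q' ⊓ Subgroup.normalizer (H : Set G) ≤ Y :=
      (inf_le_inf_right _ hQ'.1).trans hNY
    have := hY.2.2 _ hle (hQ'.2.1.to_le inf_le_left) hlt.le
    exact hlt.ne this.symm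
  have hlam : ∀ D : Subgroup G, (lam p Y D : ℤ) =
      ∑ Q ∈ Finset.univ.filter (fun Q : Subgroup G => Q ∈ SylIn p Y), if D ≤ Q then (1 : ℤ) else 0 := by
    intro D
    unfold lam
    rw [Finset.card_filter]
    push_cast
    rfl
  simp_rw [hlam, Finset.mul_sum]
  rw [Finset.sum_comm]
  apply Finset.sum_eq_zero
  intro Q hQ
  rw [Finset.mem_filter] at hQ
  have hQ' := hQ.2
  simp_rw [mul_ite, mul_one, mul_zero]
  rw [← Finset.sum_filter]
  by_cases hHQ : H ≤ Q
  · have hset : (fam p X H).filter (fun D => D ≤ Q) =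
        Finset.univ.filter (fun D : Subgroup G => H ≤ D ∧ D ≤ Q ⊓ Subgroup.normalizer (H : Set G)) := by
      ext D
      simp only [Finset.mem_filter, Finset.mem_univ, true_and, mem_fam, le_inf_iff]
      constructor
      · rintro ⟨⟨h1, ⟨h2, h3⟩, h4⟩, h5⟩
        exact ⟨h1, h5, h3⟩
      · rintro ⟨h1, h5, h3⟩
        exact ⟨⟨h1, ⟨h5.trans (hQ'.1.trans hYX), h3⟩, hQ'.2.1.to_le h5⟩, h5⟩
    rw [hset, hm _ (le_inf hHQ Subgroup.le_normalizer)]
    have hne : H ≠ Q := by
      rintro rfl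
      exact hSylY hQ'
    have hlt := lt_inf_normalizer hQ'.2.1 (lt_of_le_of_ne hHQ hne)
    rw [if_neg hlt.ne]
  · apply Finset.sum_eq_zero
    intro D hD
    rw [Finset.mem_filter, mem_fam] at hD
    exact absurd (hD.1.1.trans hD.2) hHQ

/-- the contribution of a single element -/
noncomputable def contrib (p : ℕ) (X H : Subgroup G) (m : Subgroup G → ℤ) (g : G) : ℤ :=
  ∑ D ∈ fam p X H, if SN D g then m D else 0

lemma sum_m_sub (Y : Subgroup G) :
    ∑ D ∈ fam p X H, m D * (sub Y D : ℤ) =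
      ∑ g ∈ Finset.univ.filter (fun g : G => g ∈ Y), contrib p X H m g := by
  have hsub : ∀ D : Subgroup G, (sub Y D : ℤ) =
      ∑ g ∈ Finset.univ.filter (fun g : G => g ∈ Y), if SN D g then (1 : ℤ) else 0 := by
    intro D
    unfold sub
    rw [Finset.card_filter]
    push_cast
    rfl
  simp_rw [hsub, Finset.mul_sum]
  rw [Finset.sum_comm]
  apply Finset.sum_congr rfl
  intro g _
  unfold contrib
  apply Finset.sum_congr rfl
  intro D _
  split_ifs <;> simp

/-- elements outside the subnormalizer of `H` contribute nothing -/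
lemma contrib_of_not_SN (hHp : IsPGroup p H) {g : G} (hg : ¬ SN H g) : contrib p X H m g = 0 := by
  unfold contrib
  apply Finset.sum_eq_zero
  intro D hD
  rw [mem_fam] at hD
  rw [if_neg]
  intro h
  exact hg (SN_mono hD.1 hD.2.2 h)

/-- elements of the subnormalizer of `H` outside the normalizer contribute nothing -/
lemma contrib_of_SN (hHX : H ≤ X) (hHp : IsPGroup p H)
    (hm : ∀ E : Subgroup G, H ≤ E →
      ∑ D ∈ Finset.univ.filter (fun D : Subgroup G => H ≤ D ∧ D ≤ E), m D = if H = E then 1 else 0)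
    {g : G} (hgX : g ∈ X) (hgN : g ∉ Subgroup.normalizer (H : Set G)) (hg : SN H g) :
    contrib p X H m g = 0 := by
  obtain ⟨E₀, hE₀p, hHE₀, hgE₀, hE₀le⟩ := SN_exists hHp hg
  have hE₀X : E₀ ≤ X := hE₀le.trans (sup_le hHX (by rw [Subgroup.zpowers_le]; exact hgX))
  set ℰ : Set (Subgroup G) :=
    {E | IsPGroup p E ∧ H ≤ E ∧ g ∈ Subgroup.normalizer (E : Set G)} with hℰ
  set R : Subgroup G := sInf ℰ with hR
  have hRE : ∀ E ∈ ℰ, R ≤ E := fun E hE => sInf_le hE
  have hE₀mem : E₀ ∈ ℰ := ⟨hE₀p, hHE₀, hgE₀⟩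
  have hRp : IsPGroup p R := hE₀p.to_le (hRE E₀ hE₀mem)
  have hHR : H ≤ R := le_sInf (fun E hE => hE.2.1)
  have hgR : g ∈ Subgroup.normalizer (R : Set G) := by
    rw [Subgroup.mem_normalizer_iff]
    intro x
    rw [hR, Subgroup.mem_sInf, Subgroup.mem_sInf]
    constructor
    · intro h E hE
      exact (Subgroup.mem_normalizer_iff.1 hE.2.2 x).1 (h E hE)
    · intro h E hE
      exact (Subgroup.mem_normalizer_iff.1 hE.2.2 x).2 (h E hE)
  have hHneR : H ≠ R := by
    intro h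
    rw [← h] at hgR
    exact hgN hgR
  set D₀ : Subgroup G := R ⊓ Subgroup.normalizer (H : Set G) with hD₀
  have hlt : H < D₀ := lt_inf_normalizer hRp (lt_of_le_of_ne hHR hHneR)
  have hD₀R : D₀ ≤ R := inf_le_left
  have hW := weisner m hm hlt.le hlt.ne
  -- rewrite the contribution as a sum over a filtered family
  unfold contrib
  rw [← Finset.sum_filter]
  set 𝒟g := (fam p X H).filter (fun D => SN D g) with h𝒟g
  have hmaps : ∀ D ∈ 𝒟g, D ⊔ D₀ ∈ 𝒟g.filter (fun E => D₀ ≤ E) := by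
    intro D hD
    rw [h𝒟g, Finset.mem_filter, mem_fam] at hD
    obtain ⟨⟨hHD, hDN, hDp⟩, hSND⟩ := hD
    obtain ⟨E, hEp, hDE, hgE⟩ := (SN_iff hDp g).1 hSND
    have hEmem : E ∈ ℰ := ⟨hEp, hHD.trans hDE, hgE⟩
    have hD₀E : D₀ ≤ E := hD₀R.trans (hRE E hEmem)
    have hle : D ⊔ D₀ ≤ E := sup_le hDE hD₀E
    rw [Finset.mem_filter, h𝒟g, Finset.mem_filter, mem_fam]
    refine ⟨⟨⟨hHD.trans le_sup_left, sup_le hDN ?_, hEp.to_le hle⟩, SN_of_exists hEp hle hgE⟩, le_sup_right⟩
    exact le_inf (hD₀R.trans ((hRE E₀ hE₀mem).trans hE₀X)) inf_le_right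
  rw [← Finset.sum_fiberwise_of_maps_to hmaps]
  apply Finset.sum_eq_zero
  intro E hE
  rw [Finset.mem_filter, h𝒟g, Finset.mem_filter, mem_fam] at hE
  obtain ⟨⟨⟨hHE, hEN, hEp⟩, hSNE⟩, hD₀E⟩ := hE
  have hset : 𝒟g.filter (fun D => D ⊔ D₀ = E) =
      Finset.univ.filter (fun D : Subgroup G => H ≤ D ∧ D ⊔ D₀ = E) := by
    ext D
    simp only [h𝒟g, Finset.mem_filter, Finset.mem_univ, true_and, mem_fam]
    constructor
    · rintro ⟨⟨⟨h1, -, -⟩, -⟩, h2⟩
      exact ⟨h1, h2⟩
    · rintro ⟨h1, h2⟩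
      have hDE : D ≤ E := le_sup_left.trans h2.le
      exact ⟨⟨⟨h1, hDE.trans hEN, hEp.to_le hDE⟩, SN_mono hDE hEp hSNE⟩, h2⟩
  rw [hset]
  exact hW E hD₀E

end mainCase

/-- **Casolo's count**, relative form. -/
theorem main_rel : ∀ (n : ℕ) (X : Subgroup G), Nat.card ↥X = n → ∀ D : Subgroup G, D ≤ X → IsPGroup p D →
    sub X D * lam p X ⊥ = lam p X D * Nat.card ↥X := by
  intro n
  induction n using Nat.strong_induction_on with
  | _ n ihn =>
  intro X hXn D
  induction D using (wellFounded_gt (α := Subgroup G)).induction with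
  | _ H ihH =>
  intro hHX hHp
  by_cases hSyl : H ∈ SylIn p X
  · exact main_sylow hSyl
  by_cases hnorm : X ≤ Subgroup.normalizer (H : Set G)
  · exact main_normal hHX hHp hnorm
  -- main case
  set N : Subgroup G := X ⊓ Subgroup.normalizer (H : Set G) with hN
  have hNX : N ≤ X := inf_le_left
  have hNltX : N < X := lt_of_le_of_ne hNX (fun h => hnorm (by rw [← h]; exact inf_le_right))
  have hcardN : Nat.card ↥N < n := by
    rw [← hXn]
    by_contra hle
    have := Subgroup.eq_of_le_of_card_ge hNX (not_lt.1 hle)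
    exact hNltX.ne this
  obtain ⟨m, hmH, hm⟩ := exists_mobius H
  have hHfam : H ∈ fam p X H := mem_fam.2 ⟨le_rfl, le_inf hHX Subgroup.le_normalizer, hHp⟩
  -- (a)
  have hA : ∑ D ∈ fam p X H, m D * (lam p X D : ℤ) = 0 :=
    sum_m_lam_eq_zero m hHX hHp hSyl hm X hNX le_rfl
  have hA' : ∑ D ∈ fam p X H, m D * (lam p N D : ℤ) = 0 :=
    sum_m_lam_eq_zero m hHX hHp hSyl hm N le_rfl hNX
  -- induction on `N`
  have hB' : ∑ D ∈ fam p X H, m D * (sub N D : ℤ) = 0 := by
    have h1 : (∑ D ∈ fam p X H, m D * (sub N D : ℤ)) * (lam p N ⊥ : ℤ) = 0 := by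
      rw [Finset.sum_mul]
      have : ∀ D ∈ fam p X H, m D * (sub N D : ℤ) * (lam p N ⊥ : ℤ) =
          (m D * (lam p N D : ℤ)) * (Nat.card ↥N : ℤ) := by
        intro D hD
        rw [mem_fam] at hD
        have := ihn _ hcardN N rfl D hD.2.1 hD.2.2
        have h' : ((sub N D : ℤ)) * (lam p N ⊥ : ℤ) = (lam p N D : ℤ) * (Nat.card ↥N : ℤ) := by
          exact_mod_cast this
        rw [mul_assoc, h', mul_assoc]
      rw [Finset.sum_congr rfl this, ← Finset.sum_mul, hA', zero_mul]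
    have hpos : (lam p N ⊥ : ℤ) ≠ 0 := by
      have := lam_bot_pos (p := p) N
      exact_mod_cast this.ne'
    exact (mul_eq_zero.1 h1).resolve_right hpos
  -- the elements outside `N` contribute nothing
  have hB : ∑ D ∈ fam p X H, m D * (sub X D : ℤ) = 0 := by
    rw [sum_m_sub m X]
    rw [sum_m_sub m N] at hB'
    have hsub : Finset.univ.filter (fun g : G => g ∈ N) ⊆ Finset.univ.filter (fun g : G => g ∈ X) := by
      intro g hg
      rw [Finset.mem_filter] at hg ⊢
      exact ⟨hg.1, hNX hg.2⟩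
    rw [← Finset.sum_sdiff hsub, hB', add_zero]
    apply Finset.sum_eq_zero
    intro g hg
    rw [Finset.mem_sdiff, Finset.mem_filter, Finset.mem_filter] at hg
    have hgX : g ∈ X := hg.1.2
    have hgN : g ∉ Subgroup.normalizer (H : Set G) := by
      intro h
      exact hg.2 ⟨Finset.mem_univ _, hgX, h⟩
    by_cases hSN : SN H g
    · exact contrib_of_SN m hHX hHp hm hgX hgN hSN
    · exact contrib_of_not_SN m hHp hSN
  -- final algebra
  have hC : ∑ D ∈ fam p X H, m D * ((sub X D : ℤ) * (lam p X ⊥ : ℤ) - (lam p X D : ℤ) * (Nat.card ↥X : ℤ)) = 0 := by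
    simp_rw [mul_sub, ← mul_assoc]
    rw [Finset.sum_sub_distrib, ← Finset.sum_mul, ← Finset.sum_mul, hA, hB]
    ring
  rw [Finset.sum_eq_single_of_mem H hHfam] at hC
  · rw [hmH, one_mul, sub_eq_zero] at hC
    exact_mod_cast hC
  · intro D hD hne
    rw [mem_fam] at hD
    have := ihH D (lt_of_le_of_ne hD.1 (Ne.symm hne)) (hD.2.1.trans hNX) hD.2.2
    have h' : ((sub X D : ℤ)) * (lam p X ⊥ : ℤ) = (lam p X D : ℤ) * (Nat.card ↥X : ℤ) := by
      exact_mod_cast this
    rw [h', sub_self, mul_zero]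

end Cfsg.Agent.Lib.Lead.Casolo
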