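import Mathlib
import Cfsg.Agent.Lib.Lead.CasoloC

/-! Casolo's subnormalizer count: absolute form and the count of conjugates inside a Sylow subgroup. -/

set_option autoImplicit false
set_option linter.unusedVariables false
set_option linter.unusedSectionVars false
set_option linter.style.haveILetI false

namespace Cfsg.Agent.Lib.Lead.Casolo

open Classical
open Cfsg.Agent.H1

attribute [local instance] Fintype.ofFinite

variable {G : Type*} [Group G] [Finite G] {p : ℕ} [Fact p.Prime]

lemma card_eq_of_fibers {α β : Type*} [Finite α] [Finite β] (f : α → β) (k : ℕ)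
    (h : ∀ b, Nat.card {a // f a = b} = k) : Nat.card α = Nat.card β * k := by
  rw [← Nat.card_congr (Equiv.sigmaFiberEquiv f), Nat.card_sigma]
  simp_rw [h]
  rw [Finset.sum_const, Finset.card_univ, smul_eq_mul, Nat.card_eq_fintype_card]

lemma sub_top (H : Subgroup G) : sub ⊤ H = Nat.card {g : G // SN H g} := by
  unfold sub
  rw [Nat.card_eq_fintype_card, Fintype.card_subtype]
  congr 1
  ext g
  simp

/-- Sylow subgroups of `G` containing `D`, in two guises. -/
noncomputable def sylTopEquiv (D : Subgroup G) :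
    {Q : Subgroup G // Q ∈ SylIn p ⊤ ∧ D ≤ Q} ≃ {Q : Sylow p G // D ≤ (Q : Subgroup G)} where
  toFun x := ⟨⟨x.1, x.2.1.2.1, fun {R} hR hle => x.2.1.2.2 R le_top hR hle⟩, x.2.2⟩
  invFun y := ⟨(y.1 : Subgroup G), ⟨le_top, y.1.isPGroup', fun Q' _ h1 h2 => y.1.is_maximal' h1 h2⟩, y.2⟩
  left_inv x := rfl
  right_inv y := rfl

lemma lam_top (D : Subgroup G) :
    lam p ⊤ D = Nat.card {Q : Sylow p G // D ≤ (Q : Subgroup G)} := by
  rw [← Nat.card_congr (sylTopEquiv (p := p) D)]
  unfold lam
  rw [Finset.filter_filter, Nat.card_eq_fintype_card, Fintype.card_subtype]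

lemma card_sylow_ge_bot :
    Nat.card {Q : Sylow p G // (⊥ : Subgroup G) ≤ (Q : Subgroup G)} = Nat.card (Sylow p G) :=
  Nat.card_congr (Equiv.subtypeUnivEquiv (fun Q => bot_le))

/-- **Casolo**: `|S_G(H)| = λ_G(H) · |N_G(P)|`. -/
theorem card_subnormalizer {H : Subgroup G} (hH : IsPGroup p H) (P : Sylow p G) :
    Nat.card {g : G // SN H g} =
      Nat.card {Q : Sylow p G // H ≤ (Q : Subgroup G)} *
        Nat.card ↥(Subgroup.normalizer ((P : Subgroup G) : Set G)) := by
  have h := main_rel (p := p) _ (⊤ : Subgroup G) rfl H le_top hH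
  rw [sub_top, lam_top, lam_top, card_sylow_ge_bot, Subgroup.card_top] at h
  have h1 : Nat.card (Sylow p G) = (Subgroup.normalizer ((P : Subgroup G) : Set G)).index :=
    P.card_eq_index_normalizer
  have h2 := Subgroup.card_mul_index (Subgroup.normalizer ((P : Subgroup G) : Set G))
  rw [← h1] at h2
  have hpos : 0 < Nat.card (Sylow p G) := Nat.card_pos
  rw [← h2, ← mul_assoc] at h
  exact Nat.eq_of_mul_eq_mul_right hpos h

lemma map_conj_eq_self_iff (H : Subgroup G) (a : G) :
    H.map (MulAut.conj a).toMonoidHom = H ↔ a ∈ Subgroup.normalizer (H : Set G) := by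
  rw [Subgroup.mem_normalizer_iff]
  constructor
  · intro h x
    constructor
    · intro hx
      rw [← h]
      exact ⟨x, hx, rfl⟩
    · intro hx
      rw [← h] at hx
      obtain ⟨y, hy, hyx⟩ := hx
      have : y = x := by
        have : a * y * a⁻¹ = a * x * a⁻¹ := hyx
        simpa using this
      rwa [← this]
  · intro h
    ext x
    constructor
    · rintro ⟨y, hy, rfl⟩
      exact (h y).1 hy
    · intro hx
      refine ⟨a⁻¹ * x * a, ?_, ?_⟩
      · refine (h _).2 ?_
        have : a * (a⁻¹ * x * a) * a⁻¹ = x := by group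
        rwa [this]
      · show a * (a⁻¹ * x * a) * a⁻¹ = x
        group

lemma map_conj_mul (H : Subgroup G) (a b : G) :
    H.map (MulAut.conj (a * b)).toMonoidHom =
      (H.map (MulAut.conj b).toMonoidHom).map (MulAut.conj a).toMonoidHom := by
  rw [Subgroup.map_map]
  congr 1
  ext x
  simp [mul_assoc]

lemma map_conj_eq_iff (H : Subgroup G) (g g₀ : G) :
    H.map (MulAut.conj g).toMonoidHom = H.map (MulAut.conj g₀).toMonoidHom ↔
      g₀⁻¹ * g ∈ Subgroup.normalizer (H : Set G) := by
  rw [← map_conj_eq_self_iff, map_conj_mul]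
  constructor
  · intro h
    rw [h, ← map_conj_mul, inv_mul_cancel]
    ext x
    simp
  · intro h
    have := congrArg (fun K : Subgroup G => K.map (MulAut.conj g₀).toMonoidHom) h
    rw [← map_conj_mul, ← map_conj_mul, mul_inv_cancel] at this
    rw [← this]
    ext x
    simp

/-- the elements conjugating `H` into `P`, counted through the conjugates of `H` inside `P` -/
lemma card_conj_into_eq_conjugates (H : Subgroup G) (P : Subgroup G) :
    Nat.card {g : G // H.map (MulAut.conj g).toMonoidHom ≤ P} =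
      Nat.card {K : Subgroup G // K ≤ P ∧ ∃ g : G, K = H.map (MulAut.conj g).toMonoidHom} *
        Nat.card ↥(Subgroup.normalizer (H : Set G)) := by
  apply card_eq_of_fibers
    (fun t : {g : G // H.map (MulAut.conj g).toMonoidHom ≤ P} =>
      (⟨H.map (MulAut.conj t.1).toMonoidHom, t.2, t.1, rfl⟩ :
        {K : Subgroup G // K ≤ P ∧ ∃ g : G, K = H.map (MulAut.conj g).toMonoidHom}))
  rintro ⟨K, hKP, g₀, rfl⟩
  refine Nat.card_congr ?_
  refine
    { toFun := fun x => ⟨g₀⁻¹ * x.1.1, ?_⟩
      invFun := fun n => ⟨⟨g₀ * n.1, ?_⟩, ?_⟩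
      left_inv := ?_
      right_inv := ?_ }
  · have := congrArg Subtype.val x.2
    exact (map_conj_eq_iff H _ _).1 this
  · have : H.map (MulAut.conj (g₀ * n.1)).toMonoidHom = H.map (MulAut.conj g₀).toMonoidHom := by
      rw [map_conj_eq_iff]
      have : g₀⁻¹ * (g₀ * n.1) = n.1 := by group
      rw [this]
      exact n.2
    rw [this]
    exact hKP
  · apply Subtype.ext
    show H.map (MulAut.conj (g₀ * n.1)).toMonoidHom = H.map (MulAut.conj g₀).toMonoidHom
    rw [map_conj_eq_iff]
    have : g₀⁻¹ * (g₀ * n.1) = n.1 := by group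
    rw [this]
    exact n.2
  · intro x
    apply Subtype.ext
    apply Subtype.ext
    show g₀ * (g₀⁻¹ * x.1.1) = x.1.1
    group
  · intro n
    apply Subtype.ext
    show g₀⁻¹ * (g₀ * n.1) = n.1
    group

lemma le_inv_smul_iff (H : Subgroup G) (P : Sylow p G) (t : G) :
    H ≤ ((t⁻¹ • P : Sylow p G) : Subgroup G) ↔ H.map (MulAut.conj t).toMonoidHom ≤ (P : Subgroup G) := by
  constructor
  · rintro h _ ⟨x, hx, rfl⟩
    have := (mem_sylow_smul t⁻¹ x P).1 (h hx)
    rw [inv_inv] at this
    exact this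
  · intro h x hx
    apply (mem_sylow_smul t⁻¹ x P).2
    rw [inv_inv]
    exact h ⟨x, hx, rfl⟩

/-- the elements conjugating `H` into `P`, counted through the Sylow subgroups containing `H` -/
lemma card_conj_into_eq_sylow (H : Subgroup G) (P : Sylow p G) :
    Nat.card {g : G // H.map (MulAut.conj g).toMonoidHom ≤ (P : Subgroup G)} =
      Nat.card {Q : Sylow p G // H ≤ (Q : Subgroup G)} *
        Nat.card ↥(Subgroup.normalizer ((P : Subgroup G) : Set G)) := by
  apply card_eq_of_fibers
    (fun t : {g : G // H.map (MulAut.conj g).toMonoidHom ≤ (P : Subgroup G)} =>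
      (⟨t.1⁻¹ • P, (le_inv_smul_iff H P t.1).2 t.2⟩ : {Q : Sylow p G // H ≤ (Q : Subgroup G)}))
  rintro ⟨Q, hQ⟩
  obtain ⟨g₀, hg₀⟩ := MulAction.exists_smul_eq G P Q
  -- `t₀ = g₀⁻¹`
  have key : ∀ t : G, t⁻¹ • P = Q ↔ t * g₀ ∈ Subgroup.normalizer ((P : Subgroup G) : Set G) := by
    intro t
    have hk : ∀ g : G, g • P = P ↔ g ∈ Subgroup.normalizer ((P : Subgroup G) : Set G) :=
      fun g => Sylow.smul_eq_iff_mem_normalizer
    rw [← hg₀, ← hk]
    constructor
    · intro h
      have := congrArg (fun R : Sylow p G => t • R) h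
      simp only [smul_smul, mul_inv_cancel, one_smul] at this
      exact this.symm
    · intro h
      have := congrArg (fun R : Sylow p G => t⁻¹ • R) h
      simp only [smul_smul] at this
      rw [← this]
      congr 1
      group
  refine Nat.card_congr ?_
  refine
    { toFun := fun x => ⟨x.1.1 * g₀, ?_⟩
      invFun := fun n => ⟨⟨n.1 * g₀⁻¹, ?_⟩, ?_⟩
      left_inv := ?_
      right_inv := ?_ }
  · have := congrArg Subtype.val x.2
    exact (key _).1 this
  · rw [← le_inv_smul_iff]
    have : (n.1 * g₀⁻¹)⁻¹ • P = Q := by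
      rw [key]
      have : n.1 * g₀⁻¹ * g₀ = n.1 := by group
      rw [this]
      exact n.2
    rw [this]
    exact hQ
  · apply Subtype.ext
    show (n.1 * g₀⁻¹)⁻¹ • P = Q
    rw [key]
    have : n.1 * g₀⁻¹ * g₀ = n.1 := by group
    rw [this]
    exact n.2
  · intro x
    apply Subtype.ext
    apply Subtype.ext
    show x.1.1 * g₀ * g₀⁻¹ = x.1.1
    group
  · intro n
    apply Subtype.ext
    show n.1 * g₀⁻¹ * g₀ = n.1
    group

/-- `λ_G(H) · |N_G(P)| = #{conjugates of H inside P} · |N_G(H)|`. -/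
theorem card_sylow_ge_mul (H : Subgroup G) (P : Sylow p G) :
    Nat.card {Q : Sylow p G // H ≤ (Q : Subgroup G)} *
        Nat.card ↥(Subgroup.normalizer ((P : Subgroup G) : Set G)) =
      Nat.card {K : Subgroup G // K ≤ (P : Subgroup G) ∧ ∃ g : G, K = H.map (MulAut.conj g).toMonoidHom} *
        Nat.card ↥(Subgroup.normalizer (H : Set G)) := by
  rw [← card_conj_into_eq_sylow, card_conj_into_eq_conjugates]

end Cfsg.Agent.Lib.Lead.Casolo
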