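import Mathlib
import Cfsg.Agent.Lib.Lead.CasoloD

/-! Subnormalizers in `p`-solvable groups: the steps along a normal series. -/

set_option autoImplicit false
set_option linter.unusedVariables false
set_option linter.unusedSectionVars false
set_option linter.style.haveILetI false

namespace Cfsg.Agent.Lib.Lead.Casolo

open Cfsg.Agent.H1

variable {G : Type*} [Group G] [Finite G] {p : ℕ} [Fact p.Prime]

lemma card_mul_relIndex {A B : Subgroup G} (h : A ≤ B) : Nat.card ↥A * A.relIndex B = Nat.card ↥B := by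
  have := Subgroup.relIndex_mul_relIndex _ _ _ (bot_le : (⊥ : Subgroup G) ≤ A) h
  rwa [Subgroup.relIndex_bot_left, Subgroup.relIndex_bot_left] at this

lemma card_sup_normal (P M : Subgroup G) [M.Normal] :
    Nat.card ↥(P ⊔ M : Subgroup G) = Nat.card ↥M * M.relIndex P := by
  rw [← card_mul_relIndex (le_sup_right : M ≤ P ⊔ M), Subgroup.relIndex_sup_right]

lemma relIndex_pgroup_pow {P : Subgroup G} (hP : IsPGroup p P) (M : Subgroup G) :
    ∃ k : ℕ, M.relIndex P = p ^ k := by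
  unfold Subgroup.relIndex
  exact hP.index _

lemma pow_eq_one_of_coprime {k : ℕ} (h : (p ^ k).Coprime p) : p ^ k = 1 := by
  cases k with
  | zero => simp
  | succ k =>
    exfalso
    have hp : p.Prime := Fact.out
    have h1 : p = 1 := Nat.Coprime.eq_one_of_dvd h.symm (dvd_pow_self p (Nat.succ_ne_zero k))
    exact hp.one_lt.ne' h1

/-- `P ∩ M' ≤ M` when `M'/M` is a `p'`-group. -/
lemma inf_le_of_coprime {P M M' : Subgroup G} [M.Normal] (hP : IsPGroup p P) (hMM' : M ≤ M')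
    (hc : (M.relIndex M').Coprime p) : P ⊓ M' ≤ M := by
  rw [← Subgroup.relIndex_eq_one]
  obtain ⟨k, hk⟩ := relIndex_pgroup_pow (hP.to_le inf_le_left : IsPGroup p (P ⊓ M' : Subgroup G)) M
  have hdvd : M.relIndex (P ⊓ M') ∣ M.relIndex M' := by
    have h1 : M ≤ (P ⊓ M') ⊔ M := le_sup_right
    have h2 : (P ⊓ M') ⊔ M ≤ M' := sup_le inf_le_right hMM'
    have := Subgroup.relIndex_mul_relIndex _ _ _ h1 h2
    rw [Subgroup.relIndex_sup_right] at this
    exact Dvd.intro _ this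
  rw [hk] at hdvd ⊢
  exact pow_eq_one_of_coprime (Nat.Coprime.coprime_dvd_left hdvd hc)

lemma sup_inf_le_of_coprime {P M M' : Subgroup G} [hM : M.Normal] (hP : IsPGroup p P) (hMM' : M ≤ M')
    (hc : (M.relIndex M').Coprime p) : (P ⊔ M) ⊓ M' ≤ M := by
  rintro x ⟨hx1, hx2⟩
  obtain ⟨y, hy, z, hz, rfl⟩ := Subgroup.mem_sup_of_normal_right.1 hx1
  have hyM' : y ∈ M' := by
    have : y = (y * z) * z⁻¹ := by group
    rw [this]
    exact M'.mul_mem hx2 (M'.inv_mem (hMM' hz))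
  exact M.mul_mem (inf_le_of_coprime hP hMM' hc ⟨hy, hyM'⟩) hz

/-- order of `PM` against `PM'` along a `p'`-factor -/
lemma card_sup_mul_of_coprime {P M M' : Subgroup G} [M.Normal] [M'.Normal] (hP : IsPGroup p P)
    (hMM' : M ≤ M') (hc : (M.relIndex M').Coprime p) :
    Nat.card ↥(P ⊔ M : Subgroup G) * Nat.card ↥M' = Nat.card ↥(P ⊔ M' : Subgroup G) * Nat.card ↥M := by
  rw [card_sup_normal, card_sup_normal]
  have : M.relIndex P = M'.relIndex P := by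
    rw [← Subgroup.inf_relIndex_right M P, ← Subgroup.inf_relIndex_right M' P]
    congr 1
    apply le_antisymm (inf_le_inf_right _ hMM')
    refine le_inf ?_ inf_le_right
    have := inf_le_of_coprime hP hMM' hc
    rwa [inf_comm] at this
  rw [this]
  ring

/-- `PM' = PM` along a `p`-factor -/
lemma sup_eq_of_pow (P : Sylow p G) {M M' : Subgroup G} [M.Normal] [M'.Normal] (hMM' : M ≤ M')
    {m : ℕ} (hm : M.relIndex M' = p ^ m) : (P : Subgroup G) ⊔ M' = (P : Subgroup G) ⊔ M := by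
  have hp : p.Prime := Fact.out
  have hAB : (P : Subgroup G) ⊔ M ≤ (P : Subgroup G) ⊔ M' := sup_le_sup_left hMM' _
  apply le_antisymm _ hAB
  rw [← Subgroup.relIndex_eq_one]
  set q := ((P : Subgroup G) ⊔ M).relIndex ((P : Subgroup G) ⊔ M') with hq
  have hq1 : Nat.card ↥((P : Subgroup G) ⊔ M : Subgroup G) * q = Nat.card ↥((P : Subgroup G) ⊔ M' : Subgroup G) :=
    card_mul_relIndex hAB
  have hnd : ¬ p ∣ q := by
    intro h
    have h1 : q ∣ ((P : Subgroup G) ⊔ M).index := Subgroup.relIndex_dvd_index_of_le hAB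
    have h2 : ((P : Subgroup G) ⊔ M).index ∣ (P : Subgroup G).index := Subgroup.index_dvd_of_le le_sup_left
    exact P.not_dvd_index (h.trans (h1.trans h2))
  obtain ⟨a, ha⟩ := relIndex_pgroup_pow P.isPGroup' M
  obtain ⟨a', ha'⟩ := relIndex_pgroup_pow P.isPGroup' M'
  have hM' : Nat.card ↥M * p ^ m = Nat.card ↥M' := by rw [← hm]; exact card_mul_relIndex hMM'
  rw [card_sup_normal, card_sup_normal, ha, ha', ← hM'] at hq1
  have hMpos : 0 < Nat.card ↥M := Nat.card_pos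
  have h3 : p ^ a * q = p ^ (m + a') := by
    have : Nat.card ↥M * (p ^ a * q) = Nat.card ↥M * p ^ (m + a') := by
      rw [pow_add]
      calc Nat.card ↥M * (p ^ a * q) = Nat.card ↥M * p ^ a * q := by ring
        _ = Nat.card ↥M * p ^ m * p ^ a' := hq1
        _ = Nat.card ↥M * (p ^ m * p ^ a') := by ring
    exact Nat.eq_of_mul_eq_mul_left hMpos this
  have h4 : q ∣ p ^ (m + a') := Dvd.intro_left _ h3
  obtain ⟨j, -, hj⟩ := (Nat.dvd_prime_pow hp).1 h4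
  cases j with
  | zero => simpa using hj
  | succ j =>
    exfalso
    apply hnd
    rw [hj]
    exact dvd_pow_self p (Nat.succ_ne_zero j)

lemma mem_map_conj {H : Subgroup G} {g x : G} :
    x ∈ H.map (MulAut.conj g).toMonoidHom ↔ ∃ h ∈ H, g * h * g⁻¹ = x := by
  rw [Subgroup.mem_map]
  rfl

/-- a `p`-subgroup of `PM'` is conjugate into `P` by an element of `M'` -/
lemma exists_conj_le_sylow (P : Sylow p G) {M' : Subgroup G} [hM' : M'.Normal] {H₀ : Subgroup G}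
    (hH₀ : IsPGroup p H₀) (hle : H₀ ≤ (P : Subgroup G) ⊔ M') :
    ∃ u ∈ M', H₀.map (MulAut.conj u).toMonoidHom ≤ (P : Subgroup G) := by
  set N : Subgroup G := (P : Subgroup G) ⊔ M' with hN
  have hPN : (P : Subgroup G) ≤ N := le_sup_left
  let P' : Sylow p ↥N := P.subtype hPN
  obtain ⟨Q, hQ⟩ := (hH₀.comap_subtype (K := N)).exists_le_sylow
  obtain ⟨x, hx⟩ := MulAction.exists_smul_eq ↥N P' Q
  have hxN : (x : G) ∈ M' ⊔ (P : Subgroup G) := by rw [sup_comm]; exact x.2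
  obtain ⟨u, hu, y, hy, hxy⟩ := Subgroup.mem_sup_of_normal_left.1 hxN
  refine ⟨u⁻¹, M'.inv_mem hu, ?_⟩
  rintro _ ⟨h, hh, rfl⟩
  have hhN : h ∈ N := hle hh
  have h1 : (⟨h, hhN⟩ : ↥N) ∈ Q := hQ (Subgroup.mem_subgroupOf.2 hh)
  rw [← hx] at h1
  have h2 := (mem_sylow_smul x ⟨h, hhN⟩ P').1 h1
  have h3 : ((x⁻¹ * ⟨h, hhN⟩ * x : ↥N) : G) ∈ (P : Subgroup G) := by
    have : (x⁻¹ * ⟨h, hhN⟩ * x : ↥N) ∈ (P' : Subgroup ↥N) := h2
    rw [Sylow.coe_subtype, Subgroup.mem_subgroupOf] at this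
    exact this
  have h4 : (x : G)⁻¹ * h * (x : G) ∈ (P : Subgroup G) := by simpa using h3
  rw [← hxy] at h4
  show u⁻¹ * h * u⁻¹⁻¹ ∈ (P : Subgroup G)
  have h5 : u⁻¹ * h * u⁻¹⁻¹ = y * ((u * y)⁻¹ * h * (u * y)) * y⁻¹ := by group
  rw [h5]
  exact (P : Subgroup G).mul_mem ((P : Subgroup G).mul_mem hy h4) ((P : Subgroup G).inv_mem hy)

/-- the key equivalence along a `p'`-factor -/
lemma key_iff (P : Sylow p G) {M M' : Subgroup G} [hM : M.Normal] [hM' : M'.Normal] (hMM' : M ≤ M')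
    (hc : (M.relIndex M').Coprime p) (H : Subgroup G) {x w : G}
    (hx : H.map (MulAut.conj x).toMonoidHom ≤ (P : Subgroup G)) (hw : w ∈ M') :
    H.map (MulAut.conj (x * w)).toMonoidHom ≤ (P : Subgroup G) ⊔ M ↔
      ∀ h ∈ H, h * w * h⁻¹ * w⁻¹ ∈ M := by
  have hdec : ∀ h : G, (x * w) * h * (x * w)⁻¹ =
      (x * (w * h * w⁻¹ * h⁻¹) * x⁻¹) * (x * h * x⁻¹) := by
    intro h; group
  have hinv : ∀ h : G, h * w * h⁻¹ * w⁻¹ = (w * h * w⁻¹ * h⁻¹)⁻¹ := by
    intro h; group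
  constructor
  · intro hle h hh
    have h1 : (x * w) * h * (x * w)⁻¹ ∈ (P : Subgroup G) ⊔ M := hle ⟨h, hh, rfl⟩
    have h2 : x * h * x⁻¹ ∈ (P : Subgroup G) ⊔ M :=
      (le_sup_left : (P : Subgroup G) ≤ (P : Subgroup G) ⊔ M) (hx ⟨h, hh, rfl⟩)
    have h3 : x * (w * h * w⁻¹ * h⁻¹) * x⁻¹ ∈ (P : Subgroup G) ⊔ M := by
      have : x * (w * h * w⁻¹ * h⁻¹) * x⁻¹ = ((x * w) * h * (x * w)⁻¹) * (x * h * x⁻¹)⁻¹ := by
        rw [hdec]; group
      rw [this]
      exact Subgroup.mul_mem _ h1 (Subgroup.inv_mem _ h2)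
    have h4 : w * h * w⁻¹ * h⁻¹ ∈ M' := by
      have : w * h * w⁻¹ * h⁻¹ = w * (h * w⁻¹ * h⁻¹) := by group
      rw [this]
      exact M'.mul_mem hw (hM'.conj_mem _ (M'.inv_mem hw) h)
    have h5 : x * (w * h * w⁻¹ * h⁻¹) * x⁻¹ ∈ M' := hM'.conj_mem _ h4 x
    have h6 : x * (w * h * w⁻¹ * h⁻¹) * x⁻¹ ∈ M :=
      sup_inf_le_of_coprime P.isPGroup' hMM' hc ⟨h3, h5⟩
    have h7 : w * h * w⁻¹ * h⁻¹ ∈ M := by
      have := hM.conj_mem _ h6 x⁻¹
      have e : x⁻¹ * (x * (w * h * w⁻¹ * h⁻¹) * x⁻¹) * x⁻¹⁻¹ = w * h * w⁻¹ * h⁻¹ := by group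
      rwa [e] at this
    rw [hinv]
    exact M.inv_mem h7
  · rintro hall _ ⟨h, hh, rfl⟩
    show (x * w) * h * (x * w)⁻¹ ∈ (P : Subgroup G) ⊔ M
    rw [hdec]
    have h1 : w * h * w⁻¹ * h⁻¹ ∈ M := by
      have := M.inv_mem (hall h hh)
      rwa [hinv, inv_inv] at this
    have h2 : x * (w * h * w⁻¹ * h⁻¹) * x⁻¹ ∈ M := hM.conj_mem _ h1 x
    exact Subgroup.mul_mem _ ((le_sup_right : M ≤ (P : Subgroup G) ⊔ M) h2)
      ((le_sup_left : (P : Subgroup G) ≤ (P : Subgroup G) ⊔ M) (hx ⟨h, hh, rfl⟩))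

end Cfsg.Agent.Lib.Lead.Casolo
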