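import Mathlib
import Cfsg.Agent.Lib.Lead.CasoloE

/-! Subnormalizers in `p`-solvable groups: the count along a normal series. -/

set_option autoImplicit false
set_option linter.unusedVariables false
set_option linter.unusedSectionVars false
set_option linter.style.haveILetI false

namespace Cfsg.Agent.Lib.Lead.Casolo

open Cfsg.Agent.H1

variable {G : Type*} [Group G] [Finite G] {p : ℕ} [Fact p.Prime]

/-- the centralizer of `H` in `M'` modulo `M`, as a subgroup -/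
def Csub (M' M H : Subgroup G) [hM : M.Normal] : Subgroup G where
  carrier := {u | u ∈ M' ∧ ∀ h ∈ H, h * u * h⁻¹ * u⁻¹ ∈ M}
  one_mem' := ⟨M'.one_mem, fun h _ => by simp⟩
  mul_mem' := by
    rintro u v ⟨hu, hu'⟩ ⟨hv, hv'⟩
    refine ⟨M'.mul_mem hu hv, fun h hh => ?_⟩
    have e : h * (u * v) * h⁻¹ * (u * v)⁻¹ = (h * u * h⁻¹ * u⁻¹) * (u * (h * v * h⁻¹ * v⁻¹) * u⁻¹) := by
      group
    rw [e]
    exact M.mul_mem (hu' h hh) (hM.conj_mem _ (hv' h hh) u)
  inv_mem' := by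
    rintro u ⟨hu, hu'⟩
    refine ⟨M'.inv_mem hu, fun h hh => ?_⟩
    have e : h * u⁻¹ * h⁻¹ * u⁻¹⁻¹ = u⁻¹ * (h * u * h⁻¹ * u⁻¹)⁻¹ * u⁻¹⁻¹ := by group
    rw [e]
    exact hM.conj_mem _ (M.inv_mem (hu' h hh)) u⁻¹

lemma card_Csub (M' M H : Subgroup G) [hM : M.Normal] :
    Nat.card {u : G // u ∈ M' ∧ ∀ h ∈ H, h * u * h⁻¹ * u⁻¹ ∈ M} = Nat.card ↥(Csub M' M H) :=
  Nat.card_congr (Equiv.subtypeEquivRight (fun u => Iff.rfl))

lemma card_dvd_card_Csub {M' M : Subgroup G} (H : Subgroup G) [hM : M.Normal] (hMM' : M ≤ M') :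
    Nat.card ↥M ∣ Nat.card {u : G // u ∈ M' ∧ ∀ h ∈ H, h * u * h⁻¹ * u⁻¹ ∈ M} := by
  rw [card_Csub]
  apply Subgroup.card_dvd_of_le
  intro u hu
  refine ⟨hMM' hu, fun h hh => ?_⟩
  have e : h * u * h⁻¹ * u⁻¹ = (h * u * h⁻¹) * u⁻¹ := by group
  rw [e]
  exact M.mul_mem (hM.conj_mem _ hu h) (M.inv_mem hu)

/-- the fibre count along a `p'`-factor -/
lemma card_fiber (P : Sylow p G) {M M' : Subgroup G} [hM : M.Normal] [hM' : M'.Normal] (hMM' : M ≤ M')
    (hc : (M.relIndex M').Coprime p) (H : Subgroup G) (hH : IsPGroup p H) (g : G)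
    (hg : H.map (MulAut.conj g).toMonoidHom ≤ (P : Subgroup G) ⊔ M') :
    Nat.card {u : G // u ∈ M' ∧ H.map (MulAut.conj (u * g)).toMonoidHom ≤ (P : Subgroup G) ⊔ M} =
      Nat.card {u : G // u ∈ M' ∧ ∀ h ∈ H, h * u * h⁻¹ * u⁻¹ ∈ M} := by
  obtain ⟨u₀, hu₀, hle⟩ := exists_conj_le_sylow P (hH.map _) hg
  rw [← map_conj_mul] at hle
  refine Nat.card_congr (Equiv.subtypeEquiv
    ((Equiv.mulLeft (g⁻¹ * u₀⁻¹)).trans (Equiv.mulRight g)) ?_)
  intro u
  have hw : ((Equiv.mulLeft (g⁻¹ * u₀⁻¹)).trans (Equiv.mulRight g)) u = g⁻¹ * u₀⁻¹ * u * g := by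
    simp [mul_assoc]
  rw [hw]
  have hmem : g⁻¹ * u₀⁻¹ * u * g ∈ M' ↔ u ∈ M' := by
    constructor
    · intro h
      have h1 := hM'.conj_mem _ h g
      have e : g * (g⁻¹ * u₀⁻¹ * u * g) * g⁻¹ = u₀⁻¹ * u := by group
      rw [e] at h1
      have := M'.mul_mem hu₀ h1
      rwa [mul_inv_cancel_left] at this
    · intro h
      have h1 : u₀⁻¹ * u ∈ M' := M'.mul_mem (M'.inv_mem hu₀) h
      have := hM'.conj_mem _ h1 g⁻¹
      have e : g⁻¹ * (u₀⁻¹ * u) * g⁻¹⁻¹ = g⁻¹ * u₀⁻¹ * u * g := by group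
      rwa [e] at this
  have hxw : u₀ * g * (g⁻¹ * u₀⁻¹ * u * g) = u * g := by group
  constructor
  · rintro ⟨hu, hcond⟩
    refine ⟨hmem.2 hu, ?_⟩
    rw [← hxw] at hcond
    exact (key_iff P hMM' hc H hle (hmem.2 hu)).1 hcond
  · rintro ⟨hw', hcond⟩
    refine ⟨hmem.1 hw', ?_⟩
    rw [← hxw]
    exact (key_iff P hMM' hc H hle hw').2 hcond

/-- the counting step along a `p'`-factor -/
lemma card_T_step (P : Sylow p G) {M M' : Subgroup G} [hM : M.Normal] [hM' : M'.Normal] (hMM' : M ≤ M')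
    (hc : (M.relIndex M').Coprime p) (H : Subgroup G) (hH : IsPGroup p H) :
    Nat.card {g : G // H.map (MulAut.conj g).toMonoidHom ≤ (P : Subgroup G) ⊔ M} * Nat.card ↥M' =
      Nat.card {g : G // H.map (MulAut.conj g).toMonoidHom ≤ (P : Subgroup G) ⊔ M'} *
        Nat.card {u : G // u ∈ M' ∧ ∀ h ∈ H, h * u * h⁻¹ * u⁻¹ ∈ M} := by
  have hsup : (P : Subgroup G) ⊔ M ≤ (P : Subgroup G) ⊔ M' := sup_le_sup_left hMM' _
  -- the auxiliary set of pairs
  let S := {x : G × G // H.map (MulAut.conj x.1).toMonoidHom ≤ (P : Subgroup G) ⊔ M' ∧ x.2 ∈ M' ∧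
    H.map (MulAut.conj (x.2 * x.1)).toMonoidHom ≤ (P : Subgroup G) ⊔ M}
  have h1 : Nat.card S =
      Nat.card {g : G // H.map (MulAut.conj g).toMonoidHom ≤ (P : Subgroup G) ⊔ M} * Nat.card ↥M' := by
    rw [← Nat.card_prod]
    refine Nat.card_congr ?_
    refine
      { toFun := fun s => (⟨s.1.2 * s.1.1, s.2.2.2⟩, ⟨s.1.2, s.2.2.1⟩)
        invFun := fun tu => ⟨(tu.2.1⁻¹ * tu.1.1, tu.2.1), ?_, tu.2.2, ?_⟩
        left_inv := ?_
        right_inv := ?_ }
    · rintro _ ⟨h, hh, rfl⟩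
      show (tu.2.1⁻¹ * tu.1.1) * h * (tu.2.1⁻¹ * tu.1.1)⁻¹ ∈ (P : Subgroup G) ⊔ M'
      have e : (tu.2.1⁻¹ * tu.1.1) * h * (tu.2.1⁻¹ * tu.1.1)⁻¹ =
          tu.2.1⁻¹ * (tu.1.1 * h * tu.1.1⁻¹) * tu.2.1 := by group
      rw [e]
      have hu : tu.2.1 ∈ (P : Subgroup G) ⊔ M' := (le_sup_right : M' ≤ (P : Subgroup G) ⊔ M') tu.2.2
      have ht : tu.1.1 * h * tu.1.1⁻¹ ∈ (P : Subgroup G) ⊔ M' := hsup (tu.1.2 ⟨h, hh, rfl⟩)
      exact Subgroup.mul_mem _ (Subgroup.mul_mem _ (Subgroup.inv_mem _ hu) ht) hu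
    · show H.map (MulAut.conj (tu.2.1 * (tu.2.1⁻¹ * tu.1.1))).toMonoidHom ≤ (P : Subgroup G) ⊔ M
      rw [mul_inv_cancel_left]
      exact tu.1.2
    · intro s
      apply Subtype.ext
      apply Prod.ext
      · show s.1.2⁻¹ * (s.1.2 * s.1.1) = s.1.1
        group
      · rfl
    · intro tu
      apply Prod.ext
      · apply Subtype.ext
        show tu.2.1 * (tu.2.1⁻¹ * tu.1.1) = tu.1.1
        group
      · rfl
  have h2 : Nat.card S =
      Nat.card {g : G // H.map (MulAut.conj g).toMonoidHom ≤ (P : Subgroup G) ⊔ M'} *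
        Nat.card {u : G // u ∈ M' ∧ ∀ h ∈ H, h * u * h⁻¹ * u⁻¹ ∈ M} := by
    apply card_eq_of_fibers (fun s : S =>
      (⟨s.1.1, s.2.1⟩ : {g : G // H.map (MulAut.conj g).toMonoidHom ≤ (P : Subgroup G) ⊔ M'}))
    intro g
    rw [← card_fiber P hMM' hc H hH g.1 g.2]
    refine Nat.card_congr ?_
    refine
      { toFun := fun s => ⟨s.1.1.2, s.1.2.2.1, ?_⟩
        invFun := fun u => ⟨⟨(g.1, u.1), g.2, u.2.1, u.2.2⟩, Subtype.ext rfl⟩
        left_inv := ?_
        right_inv := ?_ }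
    · have e : s.1.1.1 = g.1 := congrArg Subtype.val s.2
      rw [← e]
      exact s.1.2.2.2
    · intro s
      have e : s.1.1.1 = g.1 := congrArg Subtype.val s.2
      apply Subtype.ext
      apply Subtype.ext
      exact Prod.ext e.symm rfl
    · intro u
      rfl
  rw [← h1, h2]

/-- the count along a normal series with `p`- and `p'`-factors -/
theorem series_count (P : Sylow p G) (H : Subgroup G) (hH : IsPGroup p H) :
    ∀ (n : ℕ) (M : Fin (n + 1) → Subgroup G), M (Fin.last n) = ⊤ → Monotone M → (∀ i, (M i).Normal) →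
    (∀ i : Fin n, (∃ m : ℕ, (M i.castSucc).relIndex (M i.succ) = p ^ m) ∨
      ((M i.castSucc).relIndex (M i.succ)).Coprime p) →
    Nat.card {g : G // H.map (MulAut.conj g).toMonoidHom ≤ (P : Subgroup G) ⊔ M 0} =
      Nat.card ↥((P : Subgroup G) ⊔ M 0 : Subgroup G) *
        ∏ i : Fin n, (if ((M i.castSucc).relIndex (M i.succ)).Coprime p then
          Nat.card {u : G // u ∈ M i.succ ∧ ∀ h ∈ H, h * u * h⁻¹ * u⁻¹ ∈ M i.castSucc} /
            Nat.card ↥(M i.castSucc)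
          else 1) := by
  intro n
  induction n with
  | zero =>
    intro M hlast _ _ _
    have h0 : M 0 = ⊤ := hlast
    rw [h0, sup_top_eq, Finset.univ_eq_empty, Finset.prod_empty, mul_one, Subgroup.card_top]
    exact Nat.card_congr (Equiv.subtypeUnivEquiv (fun g => le_top))
  | succ n ih =>
    intro M hlast hmono hnormal hfac
    have hIH := ih (fun j => M j.succ) (by rw [Fin.succ_last]; exact hlast)
      (hmono.comp Fin.strictMono_succ.monotone) (fun j => hnormal j.succ)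
      (fun j => hfac j.succ)
    rw [Fin.prod_univ_succ]
    simp only [Fin.succ_castSucc] at hIH
    haveI : (M 0).Normal := hnormal 0
    haveI : (M (Fin.succ 0)).Normal := hnormal _
    have hle : M 0 ≤ M (Fin.succ 0) := hmono (Fin.zero_le _)
    have hcast : (Fin.castSucc (0 : Fin (n + 1))) = 0 := rfl
    simp only [hcast]
    by_cases hc : ((M 0).relIndex (M (Fin.succ 0))).Coprime p
    · rw [if_pos hc]
      have hstep := card_T_step P hle hc H hH
      have hord := card_sup_mul_of_coprime (P := (P : Subgroup G)) P.isPGroup' hle hc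
      obtain ⟨c, hcdiv⟩ := card_dvd_card_Csub H hle
      have hM0pos : 0 < Nat.card ↥(M 0) := Nat.card_pos
      have hM1pos : 0 < Nat.card ↥(M (Fin.succ 0)) := Nat.card_pos
      rw [hcdiv, Nat.mul_div_cancel_left c hM0pos]
      rw [hcdiv, hIH] at hstep
      apply Nat.eq_of_mul_eq_mul_right hM1pos
      rw [hstep]
      generalize (∏ i : Fin n, (if ((M i.succ.castSucc).relIndex (M i.succ.succ)).Coprime p then
          Nat.card {u : G // u ∈ M i.succ.succ ∧ ∀ h ∈ H, h * u * h⁻¹ * u⁻¹ ∈ M i.succ.castSucc} /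
            Nat.card ↥(M i.succ.castSucc)
          else 1)) = pr
      generalize Nat.card ↥((P : Subgroup G) ⊔ M (Fin.succ 0) : Subgroup G) = a1 at hord ⊢
      generalize Nat.card ↥((P : Subgroup G) ⊔ M 0 : Subgroup G) = a0 at hord ⊢
      generalize Nat.card ↥(M (Fin.succ 0)) = m1 at hord ⊢
      generalize Nat.card ↥(M 0) = m0 at hord ⊢
      calc a1 * pr * (m0 * c) = (a1 * m0) * (c * pr) := by ring
        _ = (a0 * m1) * (c * pr) := by rw [hord]
        _ = a0 * (c * pr) * m1 := by ring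
    · rw [if_neg hc, one_mul]
      obtain ⟨m, hm⟩ := (hfac 0).resolve_right hc
      have hsup := sup_eq_of_pow P hle hm
      rw [← hsup]
      exact hIH

end Cfsg.Agent.Lib.Lead.Casolo
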