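import Mathlib

/-!
# The power formula in groups of class at most three

`(xy)^n = x^n y^n w^{C(n,2)} [w,x]^{C(n,3)} [w,y]^{2C(n,3)+C(n,2)}` with `w = y⁻¹x⁻¹yx`,
when the commutators `[w,x]`, `[w,y]` are central; consequences for `p`-th powers.
-/

set_option autoImplicit false

namespace Cfsg.Agent.Lib.Lead.Class3

open scoped commutatorElement

variable {G : Type*} [Group G]

/-- moving a power of `w` past `t` when `[w,t]` is central -/
theorem pow_mul_comm_central {w t wt : G} (h : w * t = t * w * wt) (hc : ∀ g, wt * g = g * wt)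
    (k : ℕ) : w ^ k * t = t * w ^ k * wt ^ k := by
  induction k with
  | zero => simp
  | succ k ih =>
    have hck : ∀ g, wt ^ k * g = g * wt ^ k :=
      fun g => ((show Commute wt g from hc g).pow_left k).eq
    calc w ^ (k + 1) * t = w ^ k * (w * t) := by rw [pow_succ, mul_assoc]
      _ = w ^ k * (t * w * wt) := by rw [h]
      _ = (w ^ k * t) * w * wt := by simp only [mul_assoc]
      _ = t * w ^ k * wt ^ k * w * wt := by rw [ih]
      _ = t * w ^ k * (wt ^ k * w) * wt := by simp only [mul_assoc]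
      _ = t * w ^ k * (w * wt ^ k) * wt := by rw [hck w]
      _ = t * w ^ (k + 1) * wt ^ (k + 1) := by
          rw [pow_succ w k, pow_succ wt k]; simp only [mul_assoc]

/-- moving `w` past a power of `t` when `[w,t]` is central -/
theorem mul_pow_comm_central {w t wt : G} (h : w * t = t * w * wt) (hc : ∀ g, wt * g = g * wt)
    (k : ℕ) : w * t ^ k = t ^ k * w * wt ^ k := by
  induction k with
  | zero => simp
  | succ k ih =>
    have hck : ∀ g, wt ^ k * g = g * wt ^ k :=
      fun g => ((show Commute wt g from hc g).pow_left k).eq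
    calc w * t ^ (k + 1) = (w * t ^ k) * t := by rw [pow_succ, mul_assoc]
      _ = t ^ k * w * wt ^ k * t := by rw [ih]
      _ = t ^ k * w * (wt ^ k * t) := by simp only [mul_assoc]
      _ = t ^ k * w * (t * wt ^ k) := by rw [hck t]
      _ = t ^ k * (w * t) * wt ^ k := by simp only [mul_assoc]
      _ = t ^ k * (t * w * wt) * wt ^ k := by rw [h]
      _ = t ^ (k + 1) * w * wt ^ (k + 1) := by
          rw [pow_succ t k, pow_succ' wt k]; simp only [mul_assoc]

theorem choose_succ_two (n : ℕ) : (n + 1).choose 2 = n + n.choose 2 := by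
  have := Nat.choose_succ_succ' n 1
  rw [Nat.choose_one_right] at this
  exact this

theorem choose_succ_three (n : ℕ) : (n + 1).choose 3 = n.choose 2 + n.choose 3 :=
  Nat.choose_succ_succ' n 2

/-- `yⁿ x = x yⁿ wⁿ [w,y]^{C(n,2)}` -/
theorem pow_mul_comm_class3 {x y w wy : G} (hw : y * x = x * y * w) (hwy : w * y = y * w * wy)
    (hcy : ∀ g, wy * g = g * wy) (n : ℕ) :
    y ^ n * x = x * y ^ n * (w ^ n * wy ^ (n.choose 2)) := by
  induction n with
  | zero => simp
  | succ n ih =>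
    have hc : ∀ (k : ℕ) (g : G), wy ^ k * g = g * wy ^ k :=
      fun k g => ((show Commute wy g from hcy g).pow_left k).eq
    have hC := pow_mul_comm_central hwy hcy n
    obtain ⟨c, hcdef⟩ : ∃ c, c = n.choose 2 := ⟨_, rfl⟩
    rw [choose_succ_two, ← hcdef]
    rw [← hcdef] at ih
    calc y ^ (n + 1) * x = y ^ n * (y * x) := by rw [pow_succ, mul_assoc]
      _ = y ^ n * (x * y * w) := by rw [hw]
      _ = (y ^ n * x) * y * w := by simp only [mul_assoc]
      _ = x * y ^ n * (w ^ n * wy ^ c) * y * w := by rw [ih]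
      _ = x * y ^ n * (w ^ n * (wy ^ c * y)) * w := by simp only [mul_assoc]
      _ = x * y ^ n * (w ^ n * (y * wy ^ c)) * w := by rw [hc c y]
      _ = x * y ^ n * ((w ^ n * y) * wy ^ c) * w := by simp only [mul_assoc]
      _ = x * y ^ n * ((y * w ^ n * wy ^ n) * wy ^ c) * w := by rw [hC]
      _ = x * (y ^ n * y) * w ^ n * ((wy ^ n * wy ^ c) * w) := by simp only [mul_assoc]
      _ = x * (y ^ n * y) * w ^ n * (wy ^ (n + c) * w) := by rw [← pow_add wy n c]
      _ = x * (y ^ n * y) * w ^ n * (w * wy ^ (n + c)) := by rw [hc (n + c) w]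
      _ = x * y ^ (n + 1) * (w ^ (n + 1) * wy ^ (n + c)) := by
          rw [pow_succ y n, pow_succ w n]; simp only [mul_assoc]

/-- the power formula in class three -/
theorem mul_pow_formula {x y w wx wy : G} (hw : y * x = x * y * w) (hwx : w * x = x * w * wx)
    (hwy : w * y = y * w * wy) (hcx : ∀ g, wx * g = g * wx) (hcy : ∀ g, wy * g = g * wy) (n : ℕ) :
    (x * y) ^ n = x ^ n * y ^ n *
      (w ^ (n.choose 2) * wx ^ (n.choose 3) * wy ^ (2 * n.choose 3 + n.choose 2)) := by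
  induction n with
  | zero => simp
  | succ n ih =>
    have cx : ∀ (k : ℕ) (g : G), Commute (wx ^ k) g :=
      fun k g => (show Commute wx g from hcx g).pow_left k
    have cy : ∀ (k : ℕ) (g : G), Commute (wy ^ k) g :=
      fun k g => (show Commute wy g from hcy g).pow_left k
    have hcxk : ∀ (k : ℕ) (g : G), wx ^ k * g = g * wx ^ k := fun k g => (cx k g).eq
    have hcyk : ∀ (k : ℕ) (g : G), wy ^ k * g = g * wy ^ k := fun k g => (cy k g).eq
    have hA := pow_mul_comm_class3 hw hwy hcy n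
    obtain ⟨a, ha⟩ : ∃ a, a = n.choose 2 := ⟨_, rfl⟩
    obtain ⟨b, hb⟩ : ∃ b, b = n.choose 3 := ⟨_, rfl⟩
    rw [choose_succ_two, choose_succ_three, ← ha, ← hb]
    rw [← ha, ← hb] at ih
    rw [← ha] at hA
    have hB := pow_mul_comm_central hwx hcx a
    have hC := pow_mul_comm_central hwy hcy (n + a)
    have hZ : ∀ g, (wy ^ a * (wx ^ a * wx ^ b) * wy ^ (2 * b + a)) * g
        = g * (wy ^ a * (wx ^ a * wx ^ b) * wy ^ (2 * b + a)) :=
      fun g => (((cy a g).mul_left ((cx a g).mul_left (cx b g))).mul_left (cy _ g)).eq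
    have hfin : wy ^ (n + a) * (wy ^ a * (wx ^ a * wx ^ b) * wy ^ (2 * b + a))
        = wx ^ (a + b) * wy ^ (2 * (a + b) + (n + a)) := by
      calc wy ^ (n + a) * (wy ^ a * (wx ^ a * wx ^ b) * wy ^ (2 * b + a))
          = wy ^ (n + a) * ((wy ^ a * wx ^ (a + b)) * wy ^ (2 * b + a)) := by
            rw [← pow_add wx a b]
        _ = wy ^ (n + a) * ((wx ^ (a + b) * wy ^ a) * wy ^ (2 * b + a)) := by
            rw [hcyk a (wx ^ (a + b))]
        _ = (wy ^ (n + a) * wx ^ (a + b)) * (wy ^ a * wy ^ (2 * b + a)) := by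
            simp only [mul_assoc]
        _ = (wx ^ (a + b) * wy ^ (n + a)) * (wy ^ a * wy ^ (2 * b + a)) := by
            rw [hcyk (n + a) (wx ^ (a + b))]
        _ = wx ^ (a + b) * (wy ^ (n + a) * (wy ^ a * wy ^ (2 * b + a))) := by
            simp only [mul_assoc]
        _ = wx ^ (a + b) * wy ^ ((n + a) + (a + (2 * b + a))) := by
            rw [← pow_add wy a (2 * b + a), ← pow_add wy (n + a) (a + (2 * b + a))]
        _ = wx ^ (a + b) * wy ^ (2 * (a + b) + (n + a)) := by
            congr 2; ring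
    calc (x * y) ^ (n + 1) = (x * y) ^ n * (x * y) := pow_succ _ _
      _ = x ^ n * y ^ n * (w ^ a * wx ^ b * wy ^ (2 * b + a)) * (x * y) := by rw [ih]
      _ = x ^ n * y ^ n * (w ^ a * (wx ^ b * (wy ^ (2 * b + a) * x))) * y := by
          simp only [mul_assoc]
      _ = x ^ n * y ^ n * (w ^ a * (wx ^ b * (x * wy ^ (2 * b + a)))) * y := by
          rw [hcyk (2 * b + a) x]
      _ = x ^ n * y ^ n * (w ^ a * ((wx ^ b * x) * wy ^ (2 * b + a))) * y := by
          simp only [mul_assoc]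
      _ = x ^ n * y ^ n * (w ^ a * ((x * wx ^ b) * wy ^ (2 * b + a))) * y := by
          rw [hcxk b x]
      _ = x ^ n * y ^ n * ((w ^ a * x) * wx ^ b * wy ^ (2 * b + a)) * y := by
          simp only [mul_assoc]
      _ = x ^ n * y ^ n * ((x * w ^ a * wx ^ a) * wx ^ b * wy ^ (2 * b + a)) * y := by
          rw [hB]
      _ = x ^ n * (y ^ n * x) * (w ^ a * (wx ^ a * wx ^ b) * wy ^ (2 * b + a)) * y := by
          simp only [mul_assoc]
      _ = x ^ n * (x * y ^ n * (w ^ n * wy ^ a)) * (w ^ a * (wx ^ a * wx ^ b) * wy ^ (2 * b + a))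
            * y := by rw [hA]
      _ = x ^ n * x * y ^ n * (w ^ n * ((wy ^ a * w ^ a) * (wx ^ a * wx ^ b) * wy ^ (2 * b + a)))
            * y := by simp only [mul_assoc]
      _ = x ^ n * x * y ^ n * (w ^ n * ((w ^ a * wy ^ a) * (wx ^ a * wx ^ b) * wy ^ (2 * b + a)))
            * y := by rw [hcyk a (w ^ a)]
      _ = x ^ n * x * y ^ n * ((w ^ n * w ^ a) *
            ((wy ^ a * (wx ^ a * wx ^ b) * wy ^ (2 * b + a)) * y)) := by simp only [mul_assoc]
      _ = x ^ n * x * y ^ n * ((w ^ n * w ^ a) *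
            (y * (wy ^ a * (wx ^ a * wx ^ b) * wy ^ (2 * b + a)))) := by rw [hZ y]
      _ = x ^ n * x * y ^ n * ((w ^ (n + a) * y) *
            (wy ^ a * (wx ^ a * wx ^ b) * wy ^ (2 * b + a))) := by
          rw [← pow_add w n a]; simp only [mul_assoc]
      _ = x ^ n * x * y ^ n * ((y * w ^ (n + a) * wy ^ (n + a)) *
            (wy ^ a * (wx ^ a * wx ^ b) * wy ^ (2 * b + a))) := by rw [hC]
      _ = x ^ n * x * (y ^ n * y) * (w ^ (n + a) *
            (wy ^ (n + a) * (wy ^ a * (wx ^ a * wx ^ b) * wy ^ (2 * b + a)))) := by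
          simp only [mul_assoc]
      _ = x ^ n * x * (y ^ n * y) * (w ^ (n + a) *
            (wx ^ (a + b) * wy ^ (2 * (a + b) + (n + a)))) := by rw [hfin]
      _ = x ^ (n + 1) * y ^ (n + 1) *
            (w ^ (n + a) * wx ^ (a + b) * wy ^ (2 * (a + b) + (n + a))) := by
          rw [pow_succ x n, pow_succ y n]; simp only [mul_assoc]

/-- `p`-th power of a product when the corrections have order dividing `p` -/
theorem mul_pow_prime {x y w wx wy : G} (hw : y * x = x * y * w) (hwx : w * x = x * w * wx)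
    (hwy : w * y = y * w * wy) (hcx : ∀ g, wx * g = g * wx) (hcy : ∀ g, wy * g = g * wy)
    {p : ℕ} (hp : p.Prime) (hp2 : p ≠ 2) (h3 : 3 < p ∨ (wx = 1 ∧ wy = 1))
    (hwp : w ^ p = 1) (hwxp : wx ^ p = 1) (hwyp : wy ^ p = 1) :
    (x * y) ^ p = x ^ p * y ^ p := by
  rw [mul_pow_formula hw hwx hwy hcx hcy p]
  have hp2' : 2 < p := lt_of_le_of_ne hp.two_le (Ne.symm hp2)
  have d2 : p ∣ p.choose 2 := hp.dvd_choose_self (by norm_num) hp2'
  have e1 : w ^ (p.choose 2) = 1 := by
    obtain ⟨k, hk⟩ := d2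
    rw [hk, pow_mul, hwp, one_pow]
  have e2 : wx ^ (p.choose 3) = 1 := by
    rcases h3 with h | ⟨h, -⟩
    · obtain ⟨k, hk⟩ := hp.dvd_choose_self (by norm_num) h
      rw [hk, pow_mul, hwxp, one_pow]
    · rw [h, one_pow]
  have e3 : wy ^ (2 * p.choose 3 + p.choose 2) = 1 := by
    rcases h3 with h | ⟨-, h⟩
    · obtain ⟨k, hk⟩ := hp.dvd_choose_self (by norm_num) h
      obtain ⟨l, hl⟩ := d2
      rw [hk, hl, show 2 * (p * k) + p * l = p * (2 * k + l) by ring, pow_mul, hwyp, one_pow]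
    · rw [h, one_pow]
  rw [e1, e2, e3]
  simp

section grp

variable {R : Type*} [Group R]

theorem central_of_mem (h4 : ⁅⁅commutator R, (⊤ : Subgroup R)⁆, (⊤ : Subgroup R)⁆ = ⊥) {z : R}
    (hz : z ∈ ⁅commutator R, (⊤ : Subgroup R)⁆) (g : R) : z * g = g * z := by
  have h : ⁅z, g⁆ ∈ ⁅⁅commutator R, (⊤ : Subgroup R)⁆, (⊤ : Subgroup R)⁆ :=
    Subgroup.commutator_mem_commutator hz (Subgroup.mem_top g)
  rw [h4, Subgroup.mem_bot] at h
  exact commutatorElement_eq_one_iff_mul_comm.1 h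

theorem cw_mem (x y : R) : y⁻¹ * x⁻¹ * y * x ∈ commutator R := by
  have h := Subgroup.commutator_mem_commutator (H₁ := (⊤ : Subgroup R)) (H₂ := (⊤ : Subgroup R))
    (Subgroup.mem_top y⁻¹) (Subgroup.mem_top x⁻¹)
  rw [commutatorElement_def, inv_inv, inv_inv] at h
  rwa [commutator_def]

theorem cwt_mem {w : R} (hw : w ∈ commutator R) (t : R) :
    w⁻¹ * t⁻¹ * w * t ∈ ⁅commutator R, (⊤ : Subgroup R)⁆ := by
  have h := Subgroup.commutator_mem_commutator (H₁ := commutator R) (H₂ := (⊤ : Subgroup R))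
    ((commutator R).inv_mem hw) (Subgroup.mem_top t⁻¹)
  rw [commutatorElement_def, inv_inv, inv_inv] at h
  exact h

/-- in a group of class at most three (`p > 3`), or at most two (`p` odd), the elements of order
dividing `p` generate a subgroup of exponent dividing `p`. -/
theorem pow_eq_one_of_mem_closure {p : ℕ} (hp : p.Prime) (hp2 : p ≠ 2)
    (h4 : ⁅⁅commutator R, (⊤ : Subgroup R)⁆, (⊤ : Subgroup R)⁆ = ⊥)
    (h3 : 3 < p ∨ ⁅commutator R, (⊤ : Subgroup R)⁆ = ⊥)
    (g : R) (hg : g ∈ Subgroup.closure {x : R | x ^ p = 1}) : g ^ p = 1 := by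
  induction hg using Subgroup.closure_induction with
  | mem x hx => exact hx
  | one => exact one_pow p
  | inv a _ ha => rw [inv_pow, ha, inv_one]
  | mul a b _ _ ha hb =>
    obtain ⟨w, hwdef⟩ : ∃ w, w = b⁻¹ * a⁻¹ * b * a := ⟨_, rfl⟩
    obtain ⟨wx, hwxdef⟩ : ∃ wx, wx = w⁻¹ * a⁻¹ * w * a := ⟨_, rfl⟩
    obtain ⟨wy, hwydef⟩ : ∃ wy, wy = w⁻¹ * b⁻¹ * w * b := ⟨_, rfl⟩
    have hwm : w ∈ commutator R := by rw [hwdef]; exact cw_mem a b
    have hwxm : wx ∈ ⁅commutator R, (⊤ : Subgroup R)⁆ := by rw [hwxdef]; exact cwt_mem hwm a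
    have hwym : wy ∈ ⁅commutator R, (⊤ : Subgroup R)⁆ := by rw [hwydef]; exact cwt_mem hwm b
    have hw : b * a = a * b * w := by rw [hwdef]; group
    have hwx : w * a = a * w * wx := by rw [hwxdef]; group
    have hwy : w * b = b * w * wy := by rw [hwydef]; group
    have hcx : ∀ g, wx * g = g * wx := central_of_mem h4 hwxm
    have hcy : ∀ g, wy * g = g * wy := central_of_mem h4 hwym
    have hwxp : wx ^ p = 1 := by
      have h := mul_pow_comm_central hwx hcx p
      rw [ha, one_mul, mul_one] at h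
      have e : w * wx ^ p = w * 1 := by rw [mul_one]; exact h.symm
      exact mul_left_cancel e
    have hwyp : wy ^ p = 1 := by
      have h := mul_pow_comm_central hwy hcy p
      rw [hb, one_mul, mul_one] at h
      have e : w * wy ^ p = w * 1 := by rw [mul_one]; exact h.symm
      exact mul_left_cancel e
    have hp2' : 2 < p := lt_of_le_of_ne hp.two_le (Ne.symm hp2)
    have d2 : p ∣ p.choose 2 := hp.dvd_choose_self (by norm_num) hp2'
    have hwp : w ^ p = 1 := by
      have h := pow_mul_comm_class3 hw hwy hcy p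
      obtain ⟨k, hk⟩ := d2
      rw [hb, one_mul, mul_one, hk, pow_mul, hwyp, one_pow, mul_one] at h
      have e : a * w ^ p = a * 1 := by rw [mul_one]; exact h.symm
      exact mul_left_cancel e
    have h3' : 3 < p ∨ (wx = 1 ∧ wy = 1) := by
      rcases h3 with h | h
      · exact Or.inl h
      · right
        rw [h, Subgroup.mem_bot] at hwxm hwym
        exact ⟨hwxm, hwym⟩
    rw [mul_pow_prime hw hwx hwy hcx hcy hp hp2 h3' hwp hwxp hwyp, ha, hb, one_mul]

/-- the `p`-th power map is multiplicative under the hypotheses of regularity in small class -/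
theorem mul_pow_of_class {p : ℕ} (hp : p.Prime) (hp2 : p ≠ 2)
    (h4 : ⁅⁅commutator R, (⊤ : Subgroup R)⁆, (⊤ : Subgroup R)⁆ = ⊥)
    (h3 : 3 < p ∨ ⁅commutator R, (⊤ : Subgroup R)⁆ = ⊥)
    (hder : commutator R ≤ Subgroup.closure {x : R | x ^ p = 1}) (x y : R) :
    (x * y) ^ p = x ^ p * y ^ p := by
  obtain ⟨w, hwdef⟩ : ∃ w, w = y⁻¹ * x⁻¹ * y * x := ⟨_, rfl⟩
  obtain ⟨wx, hwxdef⟩ : ∃ wx, wx = w⁻¹ * x⁻¹ * w * x := ⟨_, rfl⟩
  obtain ⟨wy, hwydef⟩ : ∃ wy, wy = w⁻¹ * y⁻¹ * w * y := ⟨_, rfl⟩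
  have hwm : w ∈ commutator R := by rw [hwdef]; exact cw_mem x y
  have hwxm : wx ∈ ⁅commutator R, (⊤ : Subgroup R)⁆ := by rw [hwxdef]; exact cwt_mem hwm x
  have hwym : wy ∈ ⁅commutator R, (⊤ : Subgroup R)⁆ := by rw [hwydef]; exact cwt_mem hwm y
  have hw : y * x = x * y * w := by rw [hwdef]; group
  have hwx : w * x = x * w * wx := by rw [hwxdef]; group
  have hwy : w * y = y * w * wy := by rw [hwydef]; group
  have hcx : ∀ g, wx * g = g * wx := central_of_mem h4 hwxm
  have hcy : ∀ g, wy * g = g * wy := central_of_mem h4 hwym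
  have hle : ⁅commutator R, (⊤ : Subgroup R)⁆ ≤ commutator R := Subgroup.commutator_le_left _ _
  have hwp : w ^ p = 1 := pow_eq_one_of_mem_closure hp hp2 h4 h3 w (hder hwm)
  have hwxp : wx ^ p = 1 := pow_eq_one_of_mem_closure hp hp2 h4 h3 wx (hder (hle hwxm))
  have hwyp : wy ^ p = 1 := pow_eq_one_of_mem_closure hp hp2 h4 h3 wy (hder (hle hwym))
  have h3' : 3 < p ∨ (wx = 1 ∧ wy = 1) := by
    rcases h3 with h | h
    · exact Or.inl h
    · right
      rw [h, Subgroup.mem_bot] at hwxm hwym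
      exact ⟨hwxm, hwym⟩
  exact mul_pow_prime hw hwx hwy hcx hcy hp hp2 h3' hwp hwxp hwyp

end grp

end Cfsg.Agent.Lib.Lead.Class3
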