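import Mathlib

set_option autoImplicit false

/-!
# Affine primitive groups: regular abelian normal subgroup, basic facts

`N` is a normal subgroup of `G`, commutative, transitive on `Ω` with trivial point stabilizers.
-/

namespace Cfsg.Agent.Lib.Lead.DerTwoAff

variable {G : Type*} [Group G] {Ω : Type*} [MulAction G Ω]

/-- non-identity elements of a semiregular subgroup are derangements -/
theorem der_of_mem (N : Subgroup G) (hreg : ∀ ω : Ω, MulAction.stabilizer N ω = ⊥)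
    {w : G} (hw : w ∈ N) (hw1 : w ≠ 1) : ∀ ω : Ω, w • ω ≠ ω := by
  intro ω h
  apply hw1
  have h1 : (⟨w, hw⟩ : N) ∈ MulAction.stabilizer N ω := h
  rw [hreg ω, Subgroup.mem_bot] at h1
  exact congrArg Subtype.val h1

/-- `G = N · G_α` -/
theorem exists_mul_stab (N : Subgroup G) (hNt : MulAction.IsPretransitive N Ω) (α : Ω) (g : G) :
    ∃ v ∈ N, ∃ h ∈ MulAction.stabilizer G α, g = v * h := by
  obtain ⟨v, hv⟩ := MulAction.exists_smul_eq N α (g • α)
  refine ⟨(v : G), v.2, (v : G)⁻¹ * g, ?_, by group⟩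
  rw [MulAction.mem_stabilizer_iff, mul_smul]
  have hv' : (v : G) • α = g • α := hv
  rw [← hv', inv_smul_smul]

/-- conjugacy in `G` of elements of `N` is conjugacy under the point stabilizer -/
theorem conj_by_stab (N : Subgroup G) [hNn : N.Normal] (hab : ∀ x ∈ N, ∀ y ∈ N, x * y = y * x)
    (hNt : MulAction.IsPretransitive N Ω) (α : Ω) {w w' : G} (hw : w ∈ N)
    (hc : IsConj w w') : ∃ h ∈ MulAction.stabilizer G α, h * w * h⁻¹ = w' := by
  obtain ⟨k, hk⟩ := isConj_iff.mp hc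
  obtain ⟨v, hv, h, hh, rfl⟩ := exists_mul_stab N hNt α k
  refine ⟨h, hh, ?_⟩
  have h1 : h * w * h⁻¹ ∈ N := hNn.conj_mem w hw h
  have h2 : v * (h * w * h⁻¹) = (h * w * h⁻¹) * v := hab v hv _ h1
  calc h * w * h⁻¹ = (h * w * h⁻¹) * v * v⁻¹ := by group
    _ = v * (h * w * h⁻¹) * v⁻¹ := by rw [h2]
    _ = v * h * w * (v * h)⁻¹ := by group
    _ = w' := hk

/-- `v * h` fixes `w • α` when `v = w * (h * w⁻¹ * h⁻¹)` -/
theorem fix_of_eq {α : Ω} {v w h : G} (hh : h ∈ MulAction.stabilizer G α)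
    (hv : v = w * (h * w⁻¹ * h⁻¹)) : (v * h) • (w • α) = w • α := by
  have hα : h • α = α := hh
  rw [hv]
  calc (w * (h * w⁻¹ * h⁻¹) * h) • (w • α) = (w * h) • α := by
        rw [← mul_smul]; congr 1; group
    _ = w • α := by rw [mul_smul, hα]

/-- if `v * h` fixes `w • α` (with `v, w ∈ N` and `N` semiregular) then `v = w * (h * w⁻¹ * h⁻¹)` -/
theorem eq_of_fix (N : Subgroup G) [hNn : N.Normal] (hreg : ∀ ω : Ω, MulAction.stabilizer N ω = ⊥)
    {α : Ω} {v w h : G} (hv : v ∈ N) (hw : w ∈ N) (hh : h ∈ MulAction.stabilizer G α)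
    (hfix : (v * h) • (w • α) = w • α) : v = w * (h * w⁻¹ * h⁻¹) := by
  have hα : h • α = α := hh
  -- `w⁻¹ * v * (h * w * h⁻¹)` lies in `N` and fixes `α`
  have h1 : w⁻¹ * v * (h * w * h⁻¹) ∈ N :=
    N.mul_mem (N.mul_mem (N.inv_mem hw) hv) (hNn.conj_mem w hw h)
  have h2 : (w⁻¹ * v * (h * w * h⁻¹)) • α = α := by
    have e : (w⁻¹ * v * (h * w * h⁻¹)) • α = w⁻¹ • ((v * h) • (w • (h⁻¹ • α))) := by
      simp only [← mul_smul]; congr 1; group
    have hα' : h⁻¹ • α = α := by rw [inv_smul_eq_iff, hα]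
    rw [e, hα', hfix, inv_smul_smul]
  have h3 : (⟨_, h1⟩ : N) ∈ MulAction.stabilizer N α := h2
  rw [hreg α, Subgroup.mem_bot] at h3
  have h4 : w⁻¹ * v * (h * w * h⁻¹) = 1 := congrArg Subtype.val h3
  calc v = w * (w⁻¹ * v * (h * w * h⁻¹)) * (h * w⁻¹ * h⁻¹) := by group
    _ = w * (h * w⁻¹ * h⁻¹) := by rw [h4, mul_one]

end Cfsg.Agent.Lib.Lead.DerTwoAff
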