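import Mathlib
import Cfsg.Agent.Lib.Lead.DerTwoAff

set_option autoImplicit false

/-!
# Primitive groups with two classes of derangements: the affine Frobenius case

All derangements lie in the regular abelian normal subgroup `N`.
-/

namespace Cfsg.Agent.Lib.Lead.DerTwoA

open Cfsg.Agent.Lib.Lead.DerTwoAff

variable {G : Type*} [Group G] [Finite G] {Ω : Type*} [Fintype Ω] [MulAction G Ω]

/-- point stabilizers act semiregularly on `N` by conjugation -/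
theorem semireg (N : Subgroup G) [hNn : N.Normal]
    (hNt : MulAction.IsPretransitive N Ω) (hreg : ∀ ω : Ω, MulAction.stabilizer N ω = ⊥)
    (hin : ∀ g : G, (∀ ω : Ω, g • ω ≠ ω) → g ∈ N) (β : Ω) {h : G}
    (hh : h ∈ MulAction.stabilizer G β) (hh1 : h ≠ 1) {w : G} (hw : w ∈ N)
    (hcomm : h * w * h⁻¹ = w) : w = 1 := by
  classical
  have hβ : h • β = β := hh
  have hhN : h ∉ N := by
    intro hN
    have h1 : (⟨h, hN⟩ : N) ∈ MulAction.stabilizer N β := hβ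
    rw [hreg β, Subgroup.mem_bot] at h1
    exact hh1 (congrArg Subtype.val h1)
  let φ : N → N := fun u =>
    ⟨(u : G) * (h * (u : G)⁻¹ * h⁻¹), N.mul_mem u.2 (hNn.conj_mem _ (N.inv_mem u.2) h)⟩
  have hsurj : Function.Surjective φ := by
    intro v
    have hvh : (v : G) * h ∉ N := by
      intro hc
      apply hhN
      have : h = (v : G)⁻¹ * ((v : G) * h) := by group
      rw [this]
      exact N.mul_mem (N.inv_mem v.2) hc
    have hnd : ¬ ∀ ω : Ω, ((v : G) * h) • ω ≠ ω := fun hd => hvh (hin _ hd)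
    push Not at hnd
    obtain ⟨ω, hω⟩ := hnd
    obtain ⟨u, hu⟩ := MulAction.exists_smul_eq N β ω
    have hu' : (u : G) • β = ω := hu
    rw [← hu'] at hω
    have := eq_of_fix N hreg v.2 u.2 hh hω
    exact ⟨u, Subtype.ext this.symm⟩
  have hinj : Function.Injective φ := Finite.injective_iff_surjective.mpr hsurj
  have h1 : φ ⟨w, hw⟩ = φ 1 := by
    apply Subtype.ext
    show w * (h * w⁻¹ * h⁻¹) = (1 : G) * (h * (1 : G)⁻¹ * h⁻¹)
    have e : h * w⁻¹ * h⁻¹ = w⁻¹ := by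
      calc h * w⁻¹ * h⁻¹ = (h * w * h⁻¹)⁻¹ := by group
        _ = w⁻¹ := by rw [hcomm]
    rw [e]
    group
  have := hinj h1
  exact congrArg Subtype.val this

/-- every non-identity element fixes at most one point -/
theorem fixedBy_le_one (N : Subgroup G) [hNn : N.Normal]
    (hNt : MulAction.IsPretransitive N Ω) (hreg : ∀ ω : Ω, MulAction.stabilizer N ω = ⊥)
    (hin : ∀ g : G, (∀ ω : Ω, g • ω ≠ ω) → g ∈ N) {g : G} (hg : g ≠ 1) :
    Nat.card (MulAction.fixedBy Ω g) ≤ 1 := by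
  rw [Finite.card_le_one_iff_subsingleton]
  constructor
  rintro ⟨β, hβ⟩ ⟨γ, hγ⟩
  apply Subtype.ext
  show β = γ
  rw [MulAction.mem_fixedBy] at hβ hγ
  obtain ⟨w, hw⟩ := MulAction.exists_smul_eq N β γ
  have hw' : (w : G) • β = γ := hw
  have hgβ : g ∈ MulAction.stabilizer G β := hβ
  have hfix : ((1 : G) * g) • ((w : G) • β) = (w : G) • β := by
    rw [one_mul, hw', hγ]
  have h1 := eq_of_fix N hreg N.one_mem w.2 hgβ hfix
  -- `g` commutes with `w`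
  have hcomm : g * (w : G) * g⁻¹ = (w : G) := by
    have e : g * (w : G)⁻¹ * g⁻¹ = (w : G)⁻¹ := by
      calc g * (w : G)⁻¹ * g⁻¹ = (w : G)⁻¹ * ((w : G) * (g * (w : G)⁻¹ * g⁻¹)) := by group
        _ = (w : G)⁻¹ := by rw [← h1, mul_one]
    calc g * (w : G) * g⁻¹ = (g * (w : G)⁻¹ * g⁻¹)⁻¹ := by group
      _ = (w : G) := by rw [e, inv_inv]
  have hw1 : (w : G) = 1 := semireg N hNt hreg hin β hgβ hg w.2 hcomm
  rw [← hw', hw1, one_smul]

/-- **Piece A**: the affine Frobenius case. -/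
theorem affine_frobenius [FaithfulSMul G Ω] (N : Subgroup G) [hNn : N.Normal]
    (hab : ∀ x ∈ N, ∀ y ∈ N, x * y = y * x)
    (hNt : MulAction.IsPretransitive N Ω) (hreg : ∀ ω : Ω, MulAction.stabilizer N ω = ⊥)
    (h3 : ∀ g₁ g₂ g₃ : G, (∀ ω : Ω, g₁ • ω ≠ ω) → (∀ ω : Ω, g₂ • ω ≠ ω) → (∀ ω : Ω, g₃ • ω ≠ ω) →
      IsConj g₁ g₂ ∨ IsConj g₁ g₃ ∨ IsConj g₂ g₃)
    (h2 : ∃ g₁ g₂ : G, (∀ ω : Ω, g₁ • ω ≠ ω) ∧ (∀ ω : Ω, g₂ • ω ≠ ω) ∧ ¬ IsConj g₁ g₂)
    (hin : ∀ g : G, (∀ ω : Ω, g • ω ≠ ω) → g ∈ N) (α : Ω) :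
    (∀ g : G, g ≠ 1 → Nat.card (MulAction.fixedBy Ω g) ≤ 1) ∧ ¬ 2 ∣ Fintype.card Ω ∧
      2 * Nat.card (MulAction.stabilizer G α) = Fintype.card Ω - 1 := by
  classical
  refine ⟨fun g hg => fixedBy_le_one N hNt hreg hin hg, ?_⟩
  obtain ⟨g₁, g₂, hd₁, hd₂, hnc⟩ := h2
  have hg₁N : g₁ ∈ N := hin g₁ hd₁
  have hg₂N : g₂ ∈ N := hin g₂ hd₂
  have hg₁1 : g₁ ≠ 1 := by
    intro h; exact hd₁ α (by rw [h, one_smul])
  have hg₂1 : g₂ ≠ 1 := by
    intro h; exact hd₂ α (by rw [h, one_smul])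
  -- the map `H ⊕ H → N ∖ {1}`
  let H := MulAction.stabilizer G α
  have hne : ∀ (g : G), g ≠ 1 → ∀ h : G, h * g * h⁻¹ ≠ 1 := by
    intro g hg h hc
    apply hg
    have : g = h⁻¹ * (h * g * h⁻¹) * h := by group
    rw [this, hc]; group
  let F : H ⊕ H → {w : N // w ≠ 1} := fun s =>
    match s with
    | Sum.inl h => ⟨⟨(h : G) * g₁ * (h : G)⁻¹, hNn.conj_mem g₁ hg₁N h⟩, by
        intro hc; exact hne g₁ hg₁1 h (congrArg Subtype.val hc)⟩
    | Sum.inr h => ⟨⟨(h : G) * g₂ * (h : G)⁻¹, hNn.conj_mem g₂ hg₂N h⟩, by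
        intro hc; exact hne g₂ hg₂1 h (congrArg Subtype.val hc)⟩
  -- injectivity on each summand
  have hinj1 : ∀ (g : G), g ∈ N → g ≠ 1 → ∀ h h' : H,
      (h : G) * g * (h : G)⁻¹ = (h' : G) * g * (h' : G)⁻¹ → h = h' := by
    intro g hgN hg h h' e
    by_contra hhh
    have hk : (h' : G)⁻¹ * (h : G) ∈ MulAction.stabilizer G α := H.mul_mem (H.inv_mem h'.2) h.2
    have hk1 : (h' : G)⁻¹ * (h : G) ≠ 1 := by
      intro hc
      apply hhh
      apply Subtype.ext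
      have : (h : G) = (h' : G) * ((h' : G)⁻¹ * (h : G)) := by group
      rw [this, hc, mul_one]
    have hcomm : ((h' : G)⁻¹ * (h : G)) * g * ((h' : G)⁻¹ * (h : G))⁻¹ = g := by
      calc ((h' : G)⁻¹ * (h : G)) * g * ((h' : G)⁻¹ * (h : G))⁻¹
          = (h' : G)⁻¹ * ((h : G) * g * (h : G)⁻¹) * (h' : G) := by group
        _ = (h' : G)⁻¹ * ((h' : G) * g * (h' : G)⁻¹) * (h' : G) := by rw [e]
        _ = g := by group
    exact hg (semireg N hNt hreg hin α hk hk1 hgN hcomm)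
  have hFinj : Function.Injective F := by
    rintro (h | h) (h' | h') e
    · have e' : (h : G) * g₁ * (h : G)⁻¹ = (h' : G) * g₁ * (h' : G)⁻¹ :=
        congrArg (fun z : {w : N // w ≠ 1} => ((z : N) : G)) e
      rw [hinj1 g₁ hg₁N hg₁1 h h' e']
    · exfalso
      have e' : (h : G) * g₁ * (h : G)⁻¹ = (h' : G) * g₂ * (h' : G)⁻¹ :=
        congrArg (fun z : {w : N // w ≠ 1} => ((z : N) : G)) e
      apply hnc
      rw [isConj_iff]
      refine ⟨(h' : G)⁻¹ * (h : G), ?_⟩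
      calc (h' : G)⁻¹ * (h : G) * g₁ * ((h' : G)⁻¹ * (h : G))⁻¹
          = (h' : G)⁻¹ * ((h : G) * g₁ * (h : G)⁻¹) * (h' : G) := by group
        _ = (h' : G)⁻¹ * ((h' : G) * g₂ * (h' : G)⁻¹) * (h' : G) := by rw [e']
        _ = g₂ := by group
    · exfalso
      have e' : (h : G) * g₂ * (h : G)⁻¹ = (h' : G) * g₁ * (h' : G)⁻¹ :=
        congrArg (fun z : {w : N // w ≠ 1} => ((z : N) : G)) e
      apply hnc
      rw [isConj_iff]
      refine ⟨(h : G)⁻¹ * (h' : G), ?_⟩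
      calc (h : G)⁻¹ * (h' : G) * g₁ * ((h : G)⁻¹ * (h' : G))⁻¹
          = (h : G)⁻¹ * ((h' : G) * g₁ * (h' : G)⁻¹) * (h : G) := by group
        _ = (h : G)⁻¹ * ((h : G) * g₂ * (h : G)⁻¹) * (h : G) := by rw [← e']
        _ = g₂ := by group
    · have e' : (h : G) * g₂ * (h : G)⁻¹ = (h' : G) * g₂ * (h' : G)⁻¹ :=
        congrArg (fun z : {w : N // w ≠ 1} => ((z : N) : G)) e
      rw [hinj1 g₂ hg₂N hg₂1 h h' e']
  have hFsurj : Function.Surjective F := by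
    rintro ⟨⟨w, hwN⟩, hw1⟩
    have hw1' : w ≠ 1 := fun h => hw1 (Subtype.ext h)
    have hdw : ∀ ω : Ω, w • ω ≠ ω := der_of_mem N hreg hwN hw1'
    rcases h3 w g₁ g₂ hdw hd₁ hd₂ with h | h | h
    · obtain ⟨k, hk, hkw⟩ := conj_by_stab N hab hNt α hwN h
      refine ⟨Sum.inl ⟨k⁻¹, H.inv_mem hk⟩, ?_⟩
      apply Subtype.ext; apply Subtype.ext
      show k⁻¹ * g₁ * k⁻¹⁻¹ = w
      rw [← hkw]; group
    · obtain ⟨k, hk, hkw⟩ := conj_by_stab N hab hNt α hwN h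
      refine ⟨Sum.inr ⟨k⁻¹, H.inv_mem hk⟩, ?_⟩
      apply Subtype.ext; apply Subtype.ext
      show k⁻¹ * g₂ * k⁻¹⁻¹ = w
      rw [← hkw]; group
    · exact absurd h hnc
  have hcard1 : Nat.card {w : N // w ≠ 1} = Nat.card H + Nat.card H := by
    rw [← Nat.card_sum]
    exact (Nat.card_congr (Equiv.ofBijective F ⟨hFinj, hFsurj⟩)).symm
  have hcard2 : Nat.card N = Nat.card {w : N // w ≠ 1} + 1 := by
    rw [← Finite.card_option]
    exact (Nat.card_congr (Equiv.optionSubtypeNe (1 : N))).symm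
  -- `N ≃ Ω`
  have hcard3 : Nat.card N = Fintype.card Ω := by
    rw [← Nat.card_eq_fintype_card]
    apply Nat.card_congr
    refine Equiv.ofBijective (fun w : N => (w : G) • α) ⟨?_, ?_⟩
    · intro w w' e
      have e' : (w : G) • α = (w' : G) • α := e
      have h1 : w'⁻¹ * w ∈ MulAction.stabilizer N α := by
        rw [MulAction.mem_stabilizer_iff]
        show ((w'⁻¹ * w : N) : G) • α = α
        push_cast
        rw [mul_smul, e', inv_smul_smul]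
      rw [hreg α, Subgroup.mem_bot] at h1
      calc w = w' * (w'⁻¹ * w) := by group
        _ = w' := by rw [h1, mul_one]
    · intro ω
      obtain ⟨w, hw⟩ := MulAction.exists_smul_eq N α ω
      exact ⟨w, hw⟩
  have hH : Nat.card (MulAction.stabilizer G α) = Nat.card H := rfl
  rw [hH]
  omega

end Cfsg.Agent.Lib.Lead.DerTwoA
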