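import Mathlib
import Cfsg.Agent.Lib.Helper7.DerP

set_option autoImplicit false

/-!
# Primitive groups with two classes of derangements: the non-abelian minimal normal subgroup

If among any three derangements two are conjugate, a faithful primitive group that is not almost
simple has no non-abelian minimal normal subgroup.
-/

namespace Cfsg.Agent.Lib.Lead.DerTwoNA

open Cfsg.Agent.Lib.Helper4.MinNormal Cfsg.Agent.H1.OnanScott Cfsg.Agent.Lib.Helper7.DerP

section prelim

variable {G : Type*} [Group G]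

/-- a non-trivial subgroup with trivial centre has elements of two different prime orders -/
theorem exists_two_primes [Finite G] (T : Subgroup G) (hT : T ≠ ⊥)
    (hZ : T ⊓ Subgroup.centralizer (T : Set G) = ⊥) :
    ∃ (p q : ℕ) (x y : G), p.Prime ∧ q.Prime ∧ p ≠ q ∧ x ∈ T ∧ y ∈ T ∧ orderOf x = p ∧
      orderOf y = q := by
  have hcard : Nat.card T ≠ 1 := fun h => hT (Subgroup.card_eq_one.mp h)
  obtain ⟨p, hp, hpdvd⟩ := Nat.exists_prime_and_dvd hcard
  haveI : Fact p.Prime := ⟨hp⟩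
  have hnotp : ¬ IsPGroup p T := not_isPGroup_of_center_free T hT hZ p
  have hex : ∃ q : ℕ, q.Prime ∧ q ∣ Nat.card T ∧ q ≠ p := by
    by_contra hcon
    push Not at hcon
    apply hnotp
    have h1 : Nat.card T = p ^ (Nat.card T).primeFactorsList.length :=
      Nat.eq_prime_pow_of_unique_prime_dvd (Nat.card_pos (α := T)).ne'
        (fun {d} hd hdd => hcon d hd hdd)
    exact IsPGroup.of_card h1
  obtain ⟨q, hq, hqdvd, hqp⟩ := hex
  haveI : Fact q.Prime := ⟨hq⟩
  obtain ⟨x, hx⟩ := exists_prime_orderOf_dvd_card' (G := T) p hpdvd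
  obtain ⟨y, hy⟩ := exists_prime_orderOf_dvd_card' (G := T) q hqdvd
  refine ⟨p, q, (x : G), (y : G), hp, hq, Ne.symm hqp, x.2, y.2, ?_, ?_⟩
  · rw [← hx]; exact (Subgroup.orderOf_coe x)
  · rw [← hy]; exact (Subgroup.orderOf_coe y)

/-- a non-trivial subgroup contains an element of prime order -/
theorem exists_prime_order [Finite G] (T : Subgroup G) (hT : T ≠ ⊥) :
    ∃ (r : ℕ) (y : G), r.Prime ∧ y ∈ T ∧ orderOf y = r := by
  have hcard : Nat.card T ≠ 1 := fun h => hT (Subgroup.card_eq_one.mp h)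
  obtain ⟨r, hr, hrdvd⟩ := Nat.exists_prime_and_dvd hcard
  haveI : Fact r.Prime := ⟨hr⟩
  obtain ⟨y, hy⟩ := exists_prime_orderOf_dvd_card' (G := T) r hrdvd
  exact ⟨r, (y : G), hr, y.2, by rw [← hy]; exact Subgroup.orderOf_coe y⟩

/-- conjugate elements have the same powers equal to one -/
theorem pow_eq_one_of_isConj {a b : G} (h : IsConj a b) {n : ℕ} (ha : a ^ n = 1) : b ^ n = 1 := by
  obtain ⟨k, hk⟩ := isConj_iff.mp h
  rw [← hk, conj_pow, ha, mul_one, mul_inv_cancel]

/-- an element of prime order `q` is not killed by a different prime `p` -/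
theorem pow_ne_one_of_prime {y : G} {p q : ℕ} (hp : p.Prime) (hq : q.Prime) (hpq : p ≠ q)
    (hy : orderOf y = q) : y ^ p ≠ 1 := by
  intro h
  have h1 : q ∣ p := hy ▸ orderOf_dvd_of_pow_eq_one h
  exact hpq ((Nat.prime_dvd_prime_iff_eq hq hp).mp h1).symm

end prelim

section act

variable {G : Type*} [Group G] [Finite G] {Ω : Type*} [MulAction G Ω]

/-- the contradiction in the semiregular case -/
theorem false_of_semiregular
    (h3 : ∀ g₁ g₂ g₃ : G, (∀ ω : Ω, g₁ • ω ≠ ω) → (∀ ω : Ω, g₂ • ω ≠ ω) → (∀ ω : Ω, g₃ • ω ≠ ω) →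
      IsConj g₁ g₂ ∨ IsConj g₁ g₃ ∨ IsConj g₂ g₃)
    (T : Subgroup G) (hT : T ≠ ⊥) (hZ : T ⊓ Subgroup.centralizer (T : Set G) = ⊥)
    (hsr : ∀ t ∈ T, ∀ ω : Ω, t • ω = ω → t = 1)
    (y : G) (hyc : y ∈ Subgroup.centralizer (T : Set G)) (r : ℕ) (hr : r.Prime)
    (hyr : orderOf y = r) : False := by
  obtain ⟨p, q, xp, xq, hp, hq, hpq, hxpT, hxqT, hxp, hxq⟩ := exists_two_primes T hT hZ
  have hxp1 : xp ≠ 1 := by
    intro h; rw [h, orderOf_one] at hxp; exact hp.one_lt.ne hxp
  have hxq1 : xq ≠ 1 := by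
    intro h; rw [h, orderOf_one] at hxq; exact hq.one_lt.ne hxq
  have hdp : ∀ ω : Ω, xp • ω ≠ ω := fun ω h => hxp1 (hsr xp hxpT ω h)
  have hdq : ∀ ω : Ω, xq • ω ≠ ω := fun ω h => hxq1 (hsr xq hxqT ω h)
  -- an element `x` of `T` of prime order `s ≠ r`
  obtain ⟨s, x, hs, hsr', hxT, hxs⟩ : ∃ (s : ℕ) (x : G), s.Prime ∧ s ≠ r ∧ x ∈ T ∧ orderOf x = s := by
    by_cases h : p = r
    · exact ⟨q, xq, hq, fun h' => hpq (h.trans h'.symm), hxqT, hxq⟩
    · exact ⟨p, xp, hp, h, hxpT, hxp⟩
  have hcomm : Commute x y := ((Subgroup.mem_centralizer_iff.mp hyc) x hxT)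
  -- no prime kills `x * y`
  have hprime : ∀ l : ℕ, l.Prime → (x * y) ^ l ≠ 1 := by
    intro l hl h
    rw [hcomm.mul_pow] at h
    have h1 : x ^ l ∈ T ⊓ Subgroup.centralizer (T : Set G) := by
      refine Subgroup.mem_inf.mpr ⟨T.pow_mem hxT l, ?_⟩
      have : x ^ l = (y ^ l)⁻¹ := eq_inv_of_mul_eq_one_left h
      rw [this]
      exact Subgroup.inv_mem _ (Subgroup.pow_mem _ hyc l)
    rw [hZ, Subgroup.mem_bot] at h1
    have h2 : y ^ l = 1 := by rw [h1, one_mul] at h; exact h
    have d1 : s ∣ l := hxs ▸ orderOf_dvd_of_pow_eq_one h1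
    have d2 : r ∣ l := hyr ▸ orderOf_dvd_of_pow_eq_one h2
    have e1 := (Nat.prime_dvd_prime_iff_eq hs hl).mp d1
    have e2 := (Nat.prime_dvd_prime_iff_eq hr hl).mp d2
    exact hsr' (e1.trans e2.symm)
  -- `x * y` is a derangement
  have hdt : ∀ ω : Ω, (x * y) • ω ≠ ω := by
    intro ω h
    have h1 : ((x * y) ^ r) • ω = ω := by
      have : ∀ n : ℕ, ((x * y) ^ n) • ω = ω := by
        intro n
        induction n with
        | zero => simp
        | succ n ih => rw [pow_succ, mul_smul, h, ih]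
      exact this r
    rw [hcomm.mul_pow, ← hyr, pow_orderOf_eq_one, mul_one, hyr] at h1
    have h2 := hsr (x ^ r) (T.pow_mem hxT r) ω h1
    exact pow_ne_one_of_prime hr hs (Ne.symm hsr') hxs h2
  rcases h3 xp xq (x * y) hdp hdq hdt with h | h | h
  · have := pow_eq_one_of_isConj h (hxp ▸ pow_orderOf_eq_one xp)
    exact pow_ne_one_of_prime hp hq hpq hxq this
  · exact hprime p hp (pow_eq_one_of_isConj h (hxp ▸ pow_orderOf_eq_one xp))
  · exact hprime q hq (pow_eq_one_of_isConj h (hxq ▸ pow_orderOf_eq_one xq))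

/-- products `s * c` with `1 ≠ s ∈ S`, `1 ≠ c ∈ C(S)` lie in no conjugate of `S` commuting with or
equal to `S` -/
theorem mul_not_mem_cj (S : Subgroup G) (hZ : S ⊓ Subgroup.centralizer (S : Set G) = ⊥)
    (hcj : ∀ h : G, cj h S = S ∨ cj h S ≤ Subgroup.centralizer (S : Set G))
    {s c : G} (hs : s ∈ S) (hs1 : s ≠ 1) (hc : c ∈ Subgroup.centralizer (S : Set G)) (hc1 : c ≠ 1)
    (h : G) : s * c ∉ cj h S := by
  intro hmem
  rcases hcj h with e | e
  · rw [e] at hmem
    have hcS : c ∈ S := by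
      have : c = s⁻¹ * (s * c) := by group
      rw [this]
      exact S.mul_mem (S.inv_mem hs) hmem
    have : c ∈ S ⊓ Subgroup.centralizer (S : Set G) := Subgroup.mem_inf.mpr ⟨hcS, hc⟩
    rw [hZ, Subgroup.mem_bot] at this
    exact hc1 this
  · have h1 : s * c ∈ Subgroup.centralizer (S : Set G) := e hmem
    have hsC : s ∈ Subgroup.centralizer (S : Set G) := by
      have : s = (s * c) * c⁻¹ := by group
      rw [this]
      exact Subgroup.mul_mem _ h1 (Subgroup.inv_mem _ hc)
    have : s ∈ S ⊓ Subgroup.centralizer (S : Set G) := Subgroup.mem_inf.mpr ⟨hs, hsC⟩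
    rw [hZ, Subgroup.mem_bot] at this
    exact hs1 this

/-- the key contradiction with two factors -/
theorem false_of_two_factors [FaithfulSMul G Ω]
    (h3 : ∀ g₁ g₂ g₃ : G, (∀ ω : Ω, g₁ • ω ≠ ω) → (∀ ω : Ω, g₂ • ω ≠ ω) → (∀ ω : Ω, g₃ • ω ≠ ω) →
      IsConj g₁ g₂ ∨ IsConj g₁ g₃ ∨ IsConj g₂ g₃)
    (N T T' : Subgroup G) [hNt : MulAction.IsPretransitive N Ω]
    (hTN : T ≤ N) (hT : T ≠ ⊥) (hnorm : N ≤ Subgroup.normalizer (T : Set G))
    (hZ : T ⊓ Subgroup.centralizer (T : Set G) = ⊥) (hNle : N ≤ prodCent T)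
    (hsimple : IsSimpleGroup T)
    (hcj : ∀ h : G, cj h T = T ∨ cj h T ≤ Subgroup.centralizer (T : Set G))
    (hT'N : T' ≤ N) (hT'c : T' ≤ Subgroup.centralizer (T : Set G)) (hT' : T' ≠ ⊥)
    (hZ' : T' ⊓ Subgroup.centralizer (T' : Set G) = ⊥) : False := by
  classical
  by_cases hR : ∃ a : Ω, (MulAction.stabilizer N a).map (projHom T N hZ hNle) ≠ ⊤
  · obtain ⟨a, ha⟩ := hR
    obtain ⟨x, hx⟩ := exists_not_conj_mem _ ha
    have hder' : ∀ n : N, projHom T N hZ hNle n = x → ∀ ω : Ω, (n : G) • ω ≠ ω := by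
      intro n hn ω hω
      obtain ⟨m, hm⟩ := MulAction.exists_smul_eq N a ω
      have hmem : m⁻¹ * n * m ∈ MulAction.stabilizer N a := by
        rw [MulAction.mem_stabilizer_iff, mul_smul, mul_smul, hm]
        have h1 : n • ω = ω := hω
        rw [h1, ← hm, inv_smul_smul]
      apply hx (projHom T N hZ hNle m)
      have h2 : projHom T N hZ hNle (m⁻¹ * n * m)
          = (projHom T N hZ hNle m)⁻¹ * x * projHom T N hZ hNle m := by
        rw [map_mul, map_mul, map_inv, hn]
      rw [← h2]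
      exact Subgroup.mem_map_of_mem _ hmem
    have hxN : projHom T N hZ hNle ⟨(x : G), hTN x.2⟩ = x :=
      Subtype.ext (projHom_of_mem hZ hNle ⟨(x : G), hTN x.2⟩ x.2)
    -- `x ≠ 1`
    have hx1 : (x : G) ≠ 1 := by
      intro h
      apply hx 1
      have : x = 1 := Subtype.ext h
      rw [this]
      simp
    obtain ⟨p, q, c, c', hp, hq, hpq, hcT', hc'T', hcp, hc'q⟩ := exists_two_primes T' hT' hZ'
    have hc1 : c ≠ 1 := by
      intro h; rw [h, orderOf_one] at hcp; exact hp.one_lt.ne hcp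
    have hc'1 : c' ≠ 1 := by
      intro h; rw [h, orderOf_one] at hc'q; exact hq.one_lt.ne hc'q
    have hprojc : ∀ d : G, ∀ hd : d ∈ T', projHom T N hZ hNle (⟨(x : G), hTN x.2⟩ * ⟨d, hT'N hd⟩) = x := by
      intro d hd
      have hcN : projHom T N hZ hNle ⟨d, hT'N hd⟩ = 1 :=
        projHom_of_centralizer hZ hNle _ (hT'c hd)
      rw [map_mul, hxN, hcN, mul_one]
    have hd1 : ∀ ω : Ω, (x : G) • ω ≠ ω := hder' _ hxN
    have hd2 : ∀ ω : Ω, ((x : G) * c) • ω ≠ ω := hder' _ (hprojc c hcT')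
    have hd3 : ∀ ω : Ω, ((x : G) * c') • ω ≠ ω := hder' _ (hprojc c' hc'T')
    have hcommc : Commute (x : G) c := (Subgroup.mem_centralizer_iff.mp (hT'c hcT')) (x : G) x.2
    have hcommc' : Commute (x : G) c' :=
      (Subgroup.mem_centralizer_iff.mp (hT'c hc'T')) (x : G) x.2
    -- `x` is not conjugate to `x * d`
    have hnc : ∀ d : G, d ∈ T' → d ≠ 1 → ¬ IsConj (x : G) ((x : G) * d) := by
      intro d hd hd1' hconj
      obtain ⟨k, hk⟩ := isConj_iff.mp hconj
      have h1 : k * (x : G) * k⁻¹ ∈ cj k T := conj_mem_cj k x.2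
      rw [hk] at h1
      exact mul_not_mem_cj T hZ hcj x.2 hx1 (hT'c hd) hd1' k h1
    rcases h3 (x : G) ((x : G) * c) ((x : G) * c') hd1 hd2 hd3 with h | h | h
    · exact hnc c hcT' hc1 h
    · exact hnc c' hc'T' hc'1 h
    · -- `x * c` is not conjugate to `x * c'`: take `p`-th powers
      obtain ⟨k, hk⟩ := isConj_iff.mp h
      have hk' : k * ((x : G) * c) ^ p * k⁻¹ = ((x : G) * c') ^ p := by
        rw [← hk, conj_pow]
      have hcpow : c ^ p = 1 := by rw [← hcp]; exact pow_orderOf_eq_one c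
      rw [hcommc.mul_pow, hcommc'.mul_pow, hcpow, mul_one] at hk'
      have hc'p : c' ^ p ≠ 1 := pow_ne_one_of_prime hp hq hpq hc'q
      by_cases hxp : (x : G) ^ p = 1
      · rw [hxp, mul_one, mul_inv_cancel, one_mul] at hk'
        exact hc'p hk'.symm
      · have h1 : k * (x : G) ^ p * k⁻¹ ∈ cj k T := conj_mem_cj k (T.pow_mem x.2 p)
        rw [hk'] at h1
        exact mul_not_mem_cj T hZ hcj (T.pow_mem x.2 p) hxp
          (Subgroup.pow_mem _ (hT'c hc'T') p) hc'p k h1
  · push Not at hR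
    have hsr : ∀ t ∈ T, ∀ a : Ω, t • a = a → t = 1 := by
      intro t ht a hta
      have hKn : ((MulAction.stabilizer G a).subgroupOf T).Normal := by
        constructor
        intro u hu s
        have hs : s ∈ (MulAction.stabilizer N a).map (projHom T N hZ hNle) := by
          rw [hR a]; trivial
        obtain ⟨n, hn, hns⟩ := hs
        have hcen := projHom_spec hZ hNle n
        rw [hns] at hcen
        rw [Subgroup.mem_subgroupOf, MulAction.mem_stabilizer_iff] at hu ⊢
        have hcu : (u : G) * ((s : G)⁻¹ * (n : G)) = ((s : G)⁻¹ * (n : G)) * (u : G) :=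
          (Subgroup.mem_centralizer_iff.mp hcen) u u.2
        have e : ((s * u * s⁻¹ : T) : G) = (n : G) * (u : G) * (n : G)⁻¹ := by
          push_cast
          calc (s : G) * u * (s : G)⁻¹
              = (s : G) * ((u : G) * ((s : G)⁻¹ * (n : G))) * (n : G)⁻¹ := by group
            _ = (s : G) * (((s : G)⁻¹ * (n : G)) * (u : G)) * (n : G)⁻¹ := by rw [hcu]
            _ = (n : G) * (u : G) * (n : G)⁻¹ := by group
        have hn' : (n : G) • a = a := hn
        have hn'' : (n : G)⁻¹ • a = a := by rw [inv_smul_eq_iff, hn']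
        rw [e, mul_smul, mul_smul, hn'', hu, hn']
      rcases hKn.eq_bot_or_eq_top with hK | hK
      · have h1 : (⟨t, ht⟩ : T) ∈ (MulAction.stabilizer G a).subgroupOf T := by
          rw [Subgroup.mem_subgroupOf, MulAction.mem_stabilizer_iff]; exact hta
        rw [hK, Subgroup.mem_bot] at h1
        exact congrArg Subtype.val h1
      · exfalso
        apply hT
        rw [eq_bot_iff]
        intro u hu
        rw [Subgroup.mem_bot]
        apply FaithfulSMul.eq_of_smul_eq_smul (α := Ω)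
        intro ω
        rw [one_smul]
        obtain ⟨m, hm⟩ := MulAction.exists_smul_eq N a ω
        have hconj : (m : G)⁻¹ * u * (m : G) ∈ T := by
          have h1 := (Subgroup.mem_normalizer_iff.mp (hnorm (N.inv_mem m.2))) u
          rw [inv_inv] at h1
          exact h1.mp hu
        have hfix : ((m : G)⁻¹ * u * (m : G)) • a = a := by
          have h1 : (⟨_, hconj⟩ : T) ∈ (MulAction.stabilizer G a).subgroupOf T := by
            rw [hK]; trivial
          exact h1
        rw [← hm]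
        show u • ((m : G) • a) = (m : G) • a
        calc u • ((m : G) • a) = (m : G) • (((m : G)⁻¹ * u * (m : G)) • a) := by
              simp [mul_smul]
          _ = (m : G) • a := by rw [hfix]
    obtain ⟨r, y, hr, hyT', hyr⟩ := exists_prime_order T' hT'
    exact false_of_semiregular h3 T hT hZ hsr y (hT'c hyT') r hr hyr

/-- **Piece NA**: no non-abelian minimal normal subgroup. -/
theorem false_of_nonabelian [FaithfulSMul G Ω] (hprim : MulAction.IsPreprimitive G Ω)
    (hnas : ¬ ∃ T : Subgroup G, T.Normal ∧ IsSimpleGroup T ∧ ¬ IsMulCommutative T ∧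
      Subgroup.centralizer (T : Set G) = ⊥)
    (h3 : ∀ g₁ g₂ g₃ : G, (∀ ω : Ω, g₁ • ω ≠ ω) → (∀ ω : Ω, g₂ • ω ≠ ω) → (∀ ω : Ω, g₃ • ω ≠ ω) →
      IsConj g₁ g₂ ∨ IsConj g₁ g₃ ∨ IsConj g₂ g₃)
    (N : Subgroup G) [hNn : N.Normal] (hNne : N ≠ ⊥)
    (hmin : ∀ M : Subgroup G, M.Normal → M ≤ N → M = ⊥ ∨ M = N) (hnab : ¬ IsMulCommutative N) :
    False := by
  classical
  have hNt : MulAction.IsPretransitive N Ω := pretransitive_of_normal hprim N hNne
  obtain ⟨S, hS⟩ := exists_minNormalIn N hNne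
  have F := isFam_of_minNormalIn N hmin hnab hS
  by_cases hSN : S = N
  · subst hSN
    have hZ : S ⊓ Subgroup.centralizer (S : Set G) = ⊥ := center_eq_bot S hmin hnab
    have hC : Subgroup.centralizer (S : Set G) ≠ ⊥ := by
      intro hC
      exact hnas ⟨S, hNn, hS.isSimpleGroup S hmin, hnab, hC⟩
    have hCn : (Subgroup.centralizer (S : Set G)).Normal := inferInstance
    have hCt := pretransitive_of_normal hprim (Subgroup.centralizer (S : Set G)) hC
    have hsr : ∀ t ∈ S, ∀ ω : Ω, t • ω = ω → t = 1 := by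
      intro t ht ω h
      apply eq_one_of_fix_of_commute (Subgroup.centralizer (S : Set G)) t _ ω h
      intro c hc
      exact (Subgroup.mem_centralizer_iff.mp hc) t ht
    obtain ⟨r, y, hr, hyC, hyr⟩ := exists_prime_order (Subgroup.centralizer (S : Set G)) hC
    exact false_of_semiregular h3 S hNne hZ hsr y hyC r hr hyr
  · -- some conjugate of `S` differs from `S`
    have hex : ∃ g : G, cj g S ≠ S := by
      by_contra hcon
      push Not at hcon
      apply hSN
      have h1 := iSup_map_conj_eq N hmin hS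
      rw [← h1]
      apply le_antisymm
      · exact (le_iSup (fun h : G => S.map (MulAut.conj h).toMonoidHom) 1).trans' (by
          rw [show S.map (MulAut.conj (1 : G)).toMonoidHom = cj 1 S from rfl, cj_one])
      · exact iSup_le fun h => le_of_eq (hcon h)
    obtain ⟨g, hg⟩ := hex
    let i₀ : Idx S := ⟨S, 1, (cj_one S).symm⟩
    let j : Idx S := ⟨cj g S, g, rfl⟩
    have hij : i₀ ≠ j := by
      intro h
      apply hg
      exact (congrArg Subtype.val h).symm
    have hjne : cj g S ≠ ⊥ := by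
      haveI := F.simple j
      exact (Subgroup.nontrivial_iff_ne_bot _).mp inferInstance
    have hSne : S ≠ ⊥ := hS.2.1
    have hcj : ∀ h : G, cj h S = S ∨ cj h S ≤ Subgroup.centralizer (S : Set G) := by
      intro h
      by_cases e : cj h S = S
      · left; exact e
      · right
        let k : Idx S := ⟨cj h S, h, rfl⟩
        have hik : i₀ ≠ k := by
          intro h'
          apply e
          exact (congrArg Subtype.val h').symm
        exact F.comm i₀ k hik
    exact false_of_two_factors h3 N S (cj g S) hS.1 hSne hS.2.2.1 (F.hZ i₀) (F.hN i₀)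
      (F.simple i₀) hcj (F.le j) (F.comm i₀ j hij) hjne (F.hZ j)

end act

end Cfsg.Agent.Lib.Lead.DerTwoNA
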