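import Mathlib
import Cfsg.Agent.Lib.Helper7.DerP
import Cfsg.Agent.Lib.Lead.DerTwoNA
import Cfsg.Agent.Lib.Lead.DerTwoA
import Cfsg.Agent.Lib.Helper8.DerTwoB

set_option autoImplicit false

/-!
# Primitive groups with exactly two classes of derangements (not almost simple)

Assembly of the pieces: pigeonhole on the two classes, a minimal normal subgroup, the affine
dichotomy and the non-abelian contradiction.
-/

namespace Cfsg.Agent.Lib.Lead.DerTwo

open Cfsg.Agent.Lib.Helper7.DerP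

section classes

variable {G : Type*} [Group G] {Ω : Type*} [MulAction G Ω]

/-- among three derangements two are conjugate, when there are exactly two classes -/
theorem three_of_card_two
    (hκ : Nat.card {c : ConjClasses G // ∃ g : G, ConjClasses.mk g = c ∧ ∀ ω : Ω, g • ω ≠ ω} = 2)
    (g₁ g₂ g₃ : G) (h₁ : ∀ ω : Ω, g₁ • ω ≠ ω) (h₂ : ∀ ω : Ω, g₂ • ω ≠ ω)
    (h₃ : ∀ ω : Ω, g₃ • ω ≠ ω) : IsConj g₁ g₂ ∨ IsConj g₁ g₃ ∨ IsConj g₂ g₃ := by
  obtain ⟨x, y, -, hxy⟩ := Nat.card_eq_two_iff.mp hκ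
  let s₁ : {c : ConjClasses G // ∃ g : G, ConjClasses.mk g = c ∧ ∀ ω : Ω, g • ω ≠ ω} :=
    ⟨ConjClasses.mk g₁, g₁, rfl, h₁⟩
  let s₂ : {c : ConjClasses G // ∃ g : G, ConjClasses.mk g = c ∧ ∀ ω : Ω, g • ω ≠ ω} :=
    ⟨ConjClasses.mk g₂, g₂, rfl, h₂⟩
  let s₃ : {c : ConjClasses G // ∃ g : G, ConjClasses.mk g = c ∧ ∀ ω : Ω, g • ω ≠ ω} :=
    ⟨ConjClasses.mk g₃, g₃, rfl, h₃⟩
  have m₁ : s₁ ∈ ({x, y} : Set _) := by rw [hxy]; trivial
  have m₂ : s₂ ∈ ({x, y} : Set _) := by rw [hxy]; trivial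
  have m₃ : s₃ ∈ ({x, y} : Set _) := by rw [hxy]; trivial
  have key : s₁ = s₂ ∨ s₁ = s₃ ∨ s₂ = s₃ := by
    rcases m₁ with a | a <;> rcases m₂ with b | b <;> rcases m₃ with c | c
    all_goals first
      | (left; exact a.trans b.symm)
      | (right; left; exact a.trans c.symm)
      | (right; right; exact b.trans c.symm)
  rcases key with h | h | h
  · left; exact ConjClasses.mk_eq_mk_iff_isConj.mp (congrArg Subtype.val h)
  · right; left; exact ConjClasses.mk_eq_mk_iff_isConj.mp (congrArg Subtype.val h)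
  · right; right; exact ConjClasses.mk_eq_mk_iff_isConj.mp (congrArg Subtype.val h)

/-- two non-conjugate derangements, when there are exactly two classes -/
theorem two_of_card_two
    (hκ : Nat.card {c : ConjClasses G // ∃ g : G, ConjClasses.mk g = c ∧ ∀ ω : Ω, g • ω ≠ ω} = 2) :
    ∃ g₁ g₂ : G, (∀ ω : Ω, g₁ • ω ≠ ω) ∧ (∀ ω : Ω, g₂ • ω ≠ ω) ∧ ¬ IsConj g₁ g₂ := by
  obtain ⟨x, y, hne, -⟩ := Nat.card_eq_two_iff.mp hκ
  obtain ⟨g₁, hg₁, hd₁⟩ := x.2
  obtain ⟨g₂, hg₂, hd₂⟩ := y.2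
  refine ⟨g₁, g₂, hd₁, hd₂, ?_⟩
  intro hc
  apply hne
  apply Subtype.ext
  rw [← hg₁, ← hg₂]
  exact ConjClasses.mk_eq_mk_iff_isConj.mpr hc

end classes

section main

variable {G : Type*} [Group G] [Finite G] {Ω : Type*} [Fintype Ω] [MulAction G Ω]
  [FaithfulSMul G Ω]

/-- **Main theorem**: a faithful primitive group that is not almost simple and has exactly two
classes of derangements is an affine Frobenius group with point stabilizer of order `(n - 1) / 2`
or a `2`-transitive affine group that is not a Frobenius group. -/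
theorem main (hΩ : 2 ≤ Fintype.card Ω) (hprim : MulAction.IsPreprimitive G Ω)
    (hnas : ¬ ∃ T : Subgroup G, T.Normal ∧ IsSimpleGroup T ∧ ¬ IsMulCommutative T ∧
      Subgroup.centralizer (T : Set G) = ⊥)
    (hκ : Nat.card {c : ConjClasses G // ∃ g : G, ConjClasses.mk g = c ∧ ∀ ω : Ω, g • ω ≠ ω} = 2)
    (α : Ω) :
    ((∃ N : Subgroup G, N.Normal ∧ N ≠ ⊥ ∧ IsMulCommutative N ∧
        ∀ ω : Ω, MulAction.stabilizer N ω = ⊥) ∧
      (∀ g : G, g ≠ 1 → Nat.card (MulAction.fixedBy Ω g) ≤ 1) ∧ ¬ 2 ∣ Fintype.card Ω ∧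
        2 * Nat.card (MulAction.stabilizer G α) = Fintype.card Ω - 1) ∨
    ((∃ N : Subgroup G, N.Normal ∧ N ≠ ⊥ ∧ IsMulCommutative N ∧
        ∀ ω : Ω, MulAction.stabilizer N ω = ⊥) ∧
      MulAction.IsMultiplyPretransitive G Ω 2 ∧
        ∃ g : G, g ≠ 1 ∧ 2 ≤ Nat.card (MulAction.fixedBy Ω g)) := by
  classical
  have h3 := three_of_card_two hκ
  have h2 := two_of_card_two hκ
  have htr : MulAction.IsPretransitive G Ω := hprim.toIsPretransitive
  -- `G` is non-trivial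
  have htop : (⊤ : Subgroup G) ≠ ⊥ := by
    intro h
    have hsub : ∀ g : G, g = 1 := by
      intro g
      have : g ∈ (⊤ : Subgroup G) := Subgroup.mem_top g
      rw [h, Subgroup.mem_bot] at this
      exact this
    have hss : Subsingleton Ω := by
      constructor
      intro a b
      obtain ⟨g, hg⟩ := MulAction.exists_smul_eq G a b
      rw [hsub g, one_smul] at hg
      exact hg
    have := Fintype.card_le_one_iff_subsingleton.mpr hss
    omega
  -- a minimal normal subgroup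
  let 𝒜 : Set (Subgroup G) := {M | M.Normal ∧ M ≠ ⊥}
  obtain ⟨N, hN, hNmin⟩ := (wellFounded_lt (α := Subgroup G)).has_min 𝒜 ⟨⊤, inferInstance, htop⟩
  haveI hNn : N.Normal := hN.1
  have hNne : N ≠ ⊥ := hN.2
  have hmin : ∀ M : Subgroup G, M.Normal → M ≤ N → M = ⊥ ∨ M = N := by
    intro M hM hMN
    by_cases h : M = ⊥
    · left; exact h
    · right
      by_contra hne
      exact hNmin M ⟨hM, h⟩ (lt_of_le_of_ne hMN hne)
  haveI hNt : MulAction.IsPretransitive N Ω := pretransitive_of_normal hprim N hNne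
  by_cases hab : IsMulCommutative N
  · -- affine case
    have hcomm : ∀ x ∈ N, ∀ y ∈ N, x * y = y * x := by
      intro x hx y hy
      exact congrArg Subtype.val (hab.is_comm.comm (⟨x, hx⟩ : N) ⟨y, hy⟩)
    have hreg : ∀ ω : Ω, MulAction.stabilizer N ω = ⊥ := by
      intro a
      rw [eq_bot_iff]
      intro n hn
      rw [Subgroup.mem_bot]
      apply Subtype.ext
      have hfix : (n : G) • a = a := hn
      exact eq_one_of_fix_of_commute N (n : G) (fun c hc => hcomm n n.2 c hc) a hfix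
    by_cases hin : ∀ g : G, (∀ ω : Ω, g • ω ≠ ω) → g ∈ N
    · left
      exact ⟨⟨N, hNn, hNne, hab, hreg⟩,
        Cfsg.Agent.Lib.Lead.DerTwoA.affine_frobenius N hcomm hNt hreg h3 h2 hin α⟩
    · right
      push Not at hin
      obtain ⟨g₀, hg₀, hg₀N⟩ := hin
      exact ⟨⟨N, hNn, hNne, hab, hreg⟩,
        Cfsg.Agent.Lib.Helper8.DerTwoB.affine_two_transitive hΩ N hcomm hNt hreg h3 g₀ hg₀ hg₀N⟩
  · exfalso
    exact Cfsg.Agent.Lib.Lead.DerTwoNA.false_of_nonabelian hprim hnas h3 N hNne hmin hab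

end main

end Cfsg.Agent.Lib.Lead.DerTwo
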