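import Mathlib
import Cfsg.Agent.Lib.Lead.DihShape2

/-!
# Dihedral shape: reflections invert rotations, classes of reflections
-/

set_option autoImplicit false

namespace Cfsg.Agent.Lib.Lead.DihShape

variable {X : Type*} [Group X]

/-- Reflections invert rotations. -/
theorem Shape.invert {D R₀ : Subgroup X} (hS : Shape D R₀) {w x : X} (hwD : w ∈ D) (hw : w ∉ R₀)
    (hx : x ∈ R₀) : w * x * w⁻¹ = x⁻¹ := by
  have hwx : w * x ∉ R₀ := by
    intro h
    apply hw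
    have : w = (w * x) * x⁻¹ := by group
    rw [this]
    exact R₀.mul_mem h (R₀.inv_mem hx)
  have h1 := hS.sq (w * x) (D.mul_mem hwD (hS.le hx)) hwx
  have h2 := hS.sq w hwD hw
  have hwinv : w⁻¹ = w := inv_eq_of_mul_eq_one_right h2
  rw [hwinv]
  have : w * x * w * x = 1 := by rw [← h1]; group
  exact eq_inv_of_mul_eq_one_left this

theorem Shape.conj_refl {D R₀ : Subgroup X} (hS : Shape D R₀) {w x : X} (hwD : w ∈ D)
    (hw : w ∉ R₀) (hx : x ∈ R₀) : x⁻¹ * w * x = w * x * x := by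
  have h := hS.invert hwD hw hx
  calc x⁻¹ * w * x = (w * x * w⁻¹) * w * x := by rw [h]
    _ = w * x * x := by group

theorem Shape.mul_notMem {D R₀ : Subgroup X} (_hS : Shape D R₀) {w x : X} (hw : w ∉ R₀)
    (hx : x ∈ R₀) : w * x ∉ R₀ := by
  intro h
  apply hw
  have : w = (w * x) * x⁻¹ := by group
  rw [this]
  exact R₀.mul_mem h (R₀.inv_mem hx)

/-- Every reflection is conjugate (by a rotation) to `u` or to `u * c`, `c` a generator of the rotations. -/
theorem Shape.refl_conj_class {D R₀ : Subgroup X} (hS : Shape D R₀) {c u : X}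
    (hgen : ∀ x ∈ R₀, x ∈ Subgroup.zpowers c) (hcR : c ∈ R₀) (huD : u ∈ D) (hu : u ∉ R₀) {w : X}
    (hwD : w ∈ D) (hw : w ∉ R₀) :
    (∃ x ∈ D, x * u * x⁻¹ = w) ∨ (∃ x ∈ D, x * (u * c) * x⁻¹ = w) := by
  have h1 : u⁻¹ * w ∈ R₀ := hS.prod u huD w hwD hu hw
  obtain ⟨i, hi⟩ := Subgroup.mem_zpowers_iff.mp (hgen _ h1)
  have hw' : w = u * c ^ i := by rw [hi]; group
  rcases Int.emod_two_eq_zero_or_one i with h | h
  · left
    have hi2 : i = (i / 2) + (i / 2) := by omega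
    have hxR : c ^ (i / 2) ∈ R₀ := R₀.zpow_mem hcR _
    refine ⟨(c ^ (i / 2))⁻¹, D.inv_mem (hS.le hxR), ?_⟩
    rw [inv_inv, hS.conj_refl huD hu hxR, hw', mul_assoc, ← zpow_add, ← hi2]
  · right
    have hi2 : i = 1 + ((i / 2) + (i / 2)) := by omega
    have hxR : c ^ (i / 2) ∈ R₀ := R₀.zpow_mem hcR _
    have hvD : u * c ∈ D := D.mul_mem huD (hS.le hcR)
    have hv : u * c ∉ R₀ := hS.mul_notMem hu hcR
    refine ⟨(c ^ (i / 2))⁻¹, D.inv_mem (hS.le hxR), ?_⟩
    rw [inv_inv, hS.conj_refl hvD hv hxR, hw']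
    have : u * c * c ^ (i / 2) * c ^ (i / 2) = u * (c ^ (1 : ℤ) * (c ^ (i / 2) * c ^ (i / 2))) := by
      rw [zpow_one]; group
    rw [this, ← zpow_add, ← zpow_add, ← hi2]

end Cfsg.Agent.Lib.Lead.DihShape
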