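import Cfsg.Agent.Lib.Lead.Extraspecial2

/-!
# Extraspecial 2-groups: orthogonal complements and an involutory automorphism

* `card_mul_card_centralizer`: `|U| * |C_E(U)| = 2 |E|` for a subgroup `U` containing the centre.
* `core`: for an automorphism `φ` of order two fixing the centre, the subgroup generated by the
  `φ q * q⁻¹` is the centre of `Q₀ = {x | φ x * x⁻¹ ∈ Z(E)}`.
-/

set_option autoImplicit false
open Cfsg
open scoped commutatorElement

namespace Cfsg.Agent.Lead.ES2Perp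

open Cfsg.Agent.S2880 (Ctx kmul half dcount sum_two)
open Cfsg.Agent.Lead.ES2

variable {E : Type*} [Group E]

theorem mem_zpowers_two {G : Type*} [Group G] {z : G} (hz : orderOf z = 2) (x : G) :
    x ∈ Subgroup.zpowers z ↔ x = 1 ∨ x = z := by
  constructor
  · rintro ⟨k, rfl⟩
    show z ^ k = 1 ∨ z ^ k = z
    have h := zpow_mod_orderOf z k
    rw [hz] at h
    push_cast at h
    rcases Int.emod_two_eq_zero_or_one k with h0 | h1
    · left; rw [← h, h0, zpow_zero]
    · right; rw [← h, h1, zpow_one]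
  · rintro (rfl | rfl)
    · exact Subgroup.one_mem _
    · exact Subgroup.mem_zpowers x

/-- perp counting: `|U| * |C_E(U)| = 2 |E|` when `z ∈ U` -/
theorem card_mul_card_centralizer [Finite E] {z : E} (hes : ES z) (U : Subgroup E)
    (hzU : z ∈ U) :
    Nat.card U * Nat.card (Subgroup.centralizer (U : Set E)) = 2 * Nat.card E := by
  classical
  have C := hes.ctx
  haveI : Fintype E := Fintype.ofFinite E
  haveI : Fintype U := Fintype.ofFinite U
  have hf : ∑ a : U, 2 * Nat.card {y : E // (a : E) * y = y * a} =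
      (Nat.card U + Nat.card {a : U // (a : E) ∈ Subgroup.center E}) * Nat.card E := by
    apply sum_two
    · intro a ha
      congr 1
      apply Nat.card_congr
      exact Equiv.subtypeUnivEquiv (fun y => ((Subgroup.mem_center_iff.mp ha) y).symm)
    · intro a ha
      have : ∃ y₀ : E, ¬ (y₀ * (a : E) = a * y₀) := by
        by_contra hcon
        push_neg at hcon
        exact ha (Subgroup.mem_center_iff.mpr hcon)
      obtain ⟨y₀, hy₀⟩ := this
      have hh := half C (MonoidHom.id E) 1 (Or.inl rfl) (a : E) y₀ (by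
        intro h
        rw [commutatorElement_eq_one_iff_mul_comm] at h
        exact hy₀ h.symm)
      rw [← hh]
      congr 1
      apply Nat.card_congr
      exact Equiv.subtypeEquivRight (fun y => by
        rw [MonoidHom.id_apply, commutatorElement_eq_one_iff_mul_comm])
  have hg : ∑ y : E, 2 * Nat.card {a : U // (a : E) * y = y * a} =
      (Nat.card E + Nat.card {y : E // y ∈ Subgroup.centralizer (U : Set E)}) * Nat.card U := by
    apply sum_two
    · intro y hy
      congr 1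
      apply Nat.card_congr
      exact Equiv.subtypeUnivEquiv (fun a => (Subgroup.mem_centralizer_iff.mp hy) a a.2)
    · intro y hy
      have : ∃ a₀ : U, ¬ ((a₀ : E) * y = y * a₀) := by
        by_contra hcon
        push_neg at hcon
        apply hy
        rw [Subgroup.mem_centralizer_iff]
        intro a ha
        exact hcon ⟨a, ha⟩
      obtain ⟨a₀, ha₀⟩ := this
      have hh := half C U.subtype 1 (Or.inl rfl) y a₀ (by
        intro h
        rw [commutatorElement_eq_one_iff_mul_comm] at h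
        exact ha₀ h.symm)
      rw [← hh]
      congr 1
      apply Nat.card_congr
      exact Equiv.subtypeEquivRight (fun a => by
        rw [Subgroup.coe_subtype, commutatorElement_eq_one_iff_mul_comm, eq_comm])
  have hdc := dcount (fun (a : U) (y : E) => (a : E) * y = y * a)
  have hfg : (Nat.card U + Nat.card {a : U // (a : E) ∈ Subgroup.center E}) * Nat.card E =
      (Nat.card E + Nat.card {y : E // y ∈ Subgroup.centralizer (U : Set E)}) * Nat.card U := by
    rw [← hf, ← hg, ← Finset.mul_sum, ← Finset.mul_sum, hdc]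
  have hnZ : Nat.card {a : U // (a : E) ∈ Subgroup.center E} = 2 := by
    rw [Nat.card_eq_two_iff]
    refine ⟨⟨⟨1, U.one_mem⟩, Subgroup.one_mem _⟩,
      ⟨⟨z, hzU⟩, Subgroup.mem_center_iff.mpr (fun g => C.cen g)⟩, ?_, ?_⟩
    · intro h
      have h' := congrArg (fun t => ((t.1 : U) : E)) h
      exact C.ne h'.symm
    · ext ⟨⟨w, hwU⟩, hw⟩
      simp only [Set.mem_insert_iff, Set.mem_singleton_iff, Set.mem_univ, iff_true,
        Subtype.mk.injEq]
      exact hes.cent w (fun x => Subgroup.mem_center_iff.mp hw x)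
  rw [hnZ] at hfg
  have h1 : Nat.card {y : E // y ∈ Subgroup.centralizer (U : Set E)} =
      Nat.card (Subgroup.centralizer (U : Set E)) := rfl
  rw [h1] at hfg
  have h2 : 2 * Nat.card E = Nat.card (Subgroup.centralizer (U : Set E)) * Nat.card U := by
    have := hfg
    rw [add_mul, add_mul, mul_comm (Nat.card U) (Nat.card E)] at this
    exact Nat.add_left_cancel this
  rw [h2, mul_comm]

theorem adj {z : E} (C : Ctx z) (φ : E →* E) (hφ2 : ∀ x, φ (φ x) = x) (hφz : φ z = z)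
    (x y : E) : ⁅φ x * x⁻¹, y⁆ = ⁅x, φ y * y⁻¹⁆ := by
  have h1 : ⁅φ x, y⁆ = ⁅x, φ y⁆ := by
    have : ⁅φ x, y⁆ = φ ⁅x, φ y⁆ := by rw [map_commutatorElement, hφ2]
    rw [this]
    rcases C.comm x (φ y) with h | h <;> rw [h]
    · exact map_one φ
    · exact hφz
  rw [kmul' C, kmul C, cinv_left C, h1]
  congr 1
  rw [csymm C x y⁻¹, cinv_left C, csymm C]

/-- the elements moved by `φ` only within their coset of the centre -/
def fixMod {z : E} (C : Ctx z) (φ : E →* E) : Subgroup E where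
  carrier := {x | φ x * x⁻¹ = 1 ∨ φ x * x⁻¹ = z}
  mul_mem' := by
    intro x y hx hy
    have hcen : ∀ g : E, g * (φ y * y⁻¹) = (φ y * y⁻¹) * g := by
      intro g
      rcases hy with h | h <;> rw [h]
      · simp
      · exact C.cen g
    have e : φ (x * y) * (x * y)⁻¹ = (φ y * y⁻¹) * (φ x * x⁻¹) := by
      calc φ (x * y) * (x * y)⁻¹ = φ x * ((φ y * y⁻¹) * x⁻¹) := by rw [map_mul]; group
        _ = φ x * (x⁻¹ * (φ y * y⁻¹)) := by rw [hcen x⁻¹]
        _ = (φ x * x⁻¹) * (φ y * y⁻¹) := by group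
        _ = (φ y * y⁻¹) * (φ x * x⁻¹) := hcen _
    show φ (x * y) * (x * y)⁻¹ = 1 ∨ φ (x * y) * (x * y)⁻¹ = z
    rw [e]
    rcases hx with h1 | h1 <;> rcases hy with h2 | h2 <;> rw [h1, h2]
    · left; simp
    · right; simp
    · right; simp
    · left; exact C.sq
  one_mem' := by left; simp
  inv_mem' := by
    intro x hx
    have hcen : ∀ g : E, g * (φ x * x⁻¹) = (φ x * x⁻¹) * g := by
      intro g
      rcases hx with h | h <;> rw [h]
      · simp
      · exact C.cen g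
    have e : φ x⁻¹ * x⁻¹⁻¹ = (φ x * x⁻¹)⁻¹ := by
      have h1 : φ x⁻¹ * x⁻¹⁻¹ = x⁻¹ * ((φ x * x⁻¹)⁻¹ * x) := by rw [map_inv]; group
      have h2 : (φ x * x⁻¹)⁻¹ * x = x * (φ x * x⁻¹)⁻¹ := by
        have := hcen x
        calc (φ x * x⁻¹)⁻¹ * x = (φ x * x⁻¹)⁻¹ * (x * (φ x * x⁻¹)) * (φ x * x⁻¹)⁻¹ := by group
          _ = (φ x * x⁻¹)⁻¹ * ((φ x * x⁻¹) * x) * (φ x * x⁻¹)⁻¹ := by rw [this]
          _ = x * (φ x * x⁻¹)⁻¹ := by group
      rw [h1, h2]; group
    show φ x⁻¹ * x⁻¹⁻¹ = 1 ∨ φ x⁻¹ * x⁻¹⁻¹ = z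
    rw [e]
    rcases hx with h | h <;> rw [h]
    · left; simp
    · right; exact z_inv C

theorem mem_fixMod {z : E} (C : Ctx z) (φ : E →* E) (x : E) :
    x ∈ fixMod C φ ↔ (φ x * x⁻¹ = 1 ∨ φ x * x⁻¹ = z) := Iff.rfl

theorem map_comm_inv (φ : E →* E) (hφ2 : ∀ x, φ (φ x) = x) (q : E) :
    φ (φ q * q⁻¹) = (φ q * q⁻¹)⁻¹ := by
  rw [map_mul, hφ2, map_inv, mul_inv_rev, inv_inv]

theorem core_parts [Finite E] {z : E} (hes : ES z) (φ : E →* E) (hφ2 : ∀ x, φ (φ x) = x)
    (hφz : φ z = z) (hne : ∃ q, φ q ≠ q) (Q₀ : Subgroup E)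
    (hQ₀ : ∀ x, x ∈ Q₀ ↔ (φ x * x⁻¹ = 1 ∨ φ x * x⁻¹ = z)) :
    Subgroup.closure (Set.range fun q => φ q * q⁻¹) ≤ Q₀ ∧
    Subgroup.closure (Set.range fun q => φ q * q⁻¹) ≤ Subgroup.centralizer (Q₀ : Set E) ∧
    Nat.card (Subgroup.closure (Set.range fun q => φ q * q⁻¹)) * Nat.card Q₀ = 2 * Nat.card E ∧
    z ∈ Q₀ := by
  have C := hes.ctx
  set R := Subgroup.closure (Set.range fun q => φ q * q⁻¹) with hR
  have hcR : ∀ q, φ q * q⁻¹ ∈ R := fun q => Subgroup.subset_closure ⟨q, rfl⟩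
  have h1 : ∀ q, φ q * q⁻¹ ∈ Q₀ := by
    intro q
    rw [hQ₀]
    have : φ (φ q * q⁻¹) * (φ q * q⁻¹)⁻¹ = (q * (φ q)⁻¹) * (q * (φ q)⁻¹) := by
      rw [map_mul, hφ2, map_inv]; group
    rw [this]; exact C.sqr _
  have hRQ : R ≤ Q₀ := by
    rw [hR, Subgroup.closure_le]; rintro _ ⟨q, rfl⟩; exact h1 q
  have hcen_of : ∀ w : E, (w = 1 ∨ w = z) → ∀ g : E, ⁅g, w⁆ = 1 := by
    intro w hw g
    rcases hw with rfl | rfl
    · simp
    · rw [commutatorElement_eq_one_iff_mul_comm]; exact C.cen g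
  have hRC : R ≤ Subgroup.centralizer (Q₀ : Set E) := by
    rw [hR, Subgroup.closure_le]
    rintro _ ⟨q, rfl⟩
    rw [SetLike.mem_coe, Subgroup.mem_centralizer_iff]
    intro x hx
    have : ⁅φ q * q⁻¹, x⁆ = 1 := by
      rw [adj C φ hφ2 hφz]; exact hcen_of _ ((hQ₀ x).mp hx) q
    exact (commutatorElement_eq_one_iff_mul_comm.mp this).symm
  have hzR : z ∈ R := by
    obtain ⟨q₀, hq₀⟩ := hne
    have hc1 : φ q₀ * q₀⁻¹ ≠ 1 := fun h => hq₀ (by rwa [mul_inv_eq_one] at h)
    by_cases hcent : ∀ x : E, x * (φ q₀ * q₀⁻¹) = (φ q₀ * q₀⁻¹) * x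
    · rcases hes.cent _ hcent with h | h
      · exact absurd h hc1
      · rw [← h]; exact hcR q₀
    · push_neg at hcent
      obtain ⟨y, hy⟩ := hcent
      have hyz : ⁅y, φ q₀ * q₀⁻¹⁆ = z := by
        rcases C.comm y (φ q₀ * q₀⁻¹) with h | h
        · exact absurd (commutatorElement_eq_one_iff_mul_comm.mp h) hy
        · exact h
      have hconj : y * (φ q₀ * q₀⁻¹) * y⁻¹ =
          (φ y * y⁻¹)⁻¹ * (φ (y * q₀) * (y * q₀)⁻¹) := by
        rw [map_mul]; group
      rw [← hyz, commutatorElement_def, hconj]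
      exact R.mul_mem (R.mul_mem (R.inv_mem (hcR y)) (hcR (y * q₀))) (R.inv_mem (hcR q₀))
  have hCR : Subgroup.centralizer (R : Set E) = Q₀ := by
    apply le_antisymm
    · intro x hx
      rw [Subgroup.mem_centralizer_iff] at hx
      rw [hQ₀]
      apply hes.cent
      intro y
      have h2 : ⁅x, φ y * y⁻¹⁆ = 1 := by
        rw [commutatorElement_eq_one_iff_mul_comm]; exact (hx _ (hcR y)).symm
      rw [← adj C φ hφ2 hφz] at h2
      exact (commutatorElement_eq_one_iff_mul_comm.mp h2).symm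
    · intro x hx
      rw [Subgroup.mem_centralizer_iff]
      intro r hr
      have := hRC hr
      rw [Subgroup.mem_centralizer_iff] at this
      exact (this x hx).symm
  have hzQ₀ : z ∈ Q₀ := by rw [hQ₀, hφz, mul_inv_cancel]; exact Or.inl rfl
  have e1 := card_mul_card_centralizer hes R hzR
  rw [hCR] at e1
  exact ⟨hRQ, hRC, e1, hzQ₀⟩

theorem core [Finite E] {z : E} (hes : ES z) (φ : E →* E) (hφ2 : ∀ x, φ (φ x) = x)
    (hφz : φ z = z) (hne : ∃ q, φ q ≠ q) (Q₀ : Subgroup E)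
    (hQ₀ : ∀ x, x ∈ Q₀ ↔ (φ x * x⁻¹ = 1 ∨ φ x * x⁻¹ = z)) :
    Subgroup.closure (Set.range fun q => φ q * q⁻¹) =
      Q₀ ⊓ Subgroup.centralizer (Q₀ : Set E) := by
  obtain ⟨hRQ, hRC, e1, hzQ₀⟩ := core_parts hes φ hφ2 hφz hne Q₀ hQ₀
  set R := Subgroup.closure (Set.range fun q => φ q * q⁻¹) with hR
  have e2 := card_mul_card_centralizer hes Q₀ hzQ₀
  have hcard : Nat.card R = Nat.card (Subgroup.centralizer (Q₀ : Set E)) := by
    have hpos : 0 < Nat.card Q₀ := Nat.card_pos
    have : Nat.card Q₀ * Nat.card R =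
        Nat.card Q₀ * Nat.card (Subgroup.centralizer (Q₀ : Set E)) := by
      rw [e2, mul_comm, e1]
    exact Nat.eq_of_mul_eq_mul_left hpos this
  have hRe : R = Subgroup.centralizer (Q₀ : Set E) :=
    Subgroup.eq_of_le_of_card_ge hRC (le_of_eq hcard.symm)
  apply le_antisymm
  · exact le_inf hRQ hRC
  · rw [← hRe]; exact inf_le_right

end Cfsg.Agent.Lead.ES2Perp
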