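import Cfsg.Agent.Lib.Lead.RootEmbA

/-!
# The embedding of the roots of `chevE6` into the roots of `chevE7` (lead)
-/

set_option autoImplicit false

namespace Cfsg.Agent.RootEmb

open Cfsg.Lie

/-- the images of the roots -/
def l67 : List ℕ := [6, 10, 13, 15, 16, 19, 21, 22, 24, 25, 26, 28, 29, 30, 31, 32, 35, 37, 38, 40, 41, 42, 44, 45, 46, 47, 49, 50, 51, 52, 54, 55, 56, 58, 59, 61, 64, 66, 67, 69, 70, 71, 73, 74, 75, 76, 78, 79, 80, 81, 83, 84, 85, 87, 88, 90, 93, 94, 95, 96, 97, 99, 100, 101, 103, 104, 106, 109, 110, 112, 115, 119]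

/-- the embedding of the roots -/
def i67 (r : ℕ) : ℕ := l67.getD r 0

set_option maxRecDepth 1000000 in
theorem i67_lt : ∀ r < 72, i67 r < 126 := by decide +kernel

set_option maxRecDepth 1000000 in
theorem i67_mono : ∀ r < 71, i67 r < i67 (r + 1) := by decide +kernel

set_option maxRecDepth 1000000 in
theorem i67_neg : ∀ r < 72, chevE7.neg (i67 r) = i67 (chevE6.neg r) := by decide +kernel

set_option maxRecDepth 1000000 in
theorem i67_simple : ∀ i < 6, i67 (chevE6.simple i) = chevE7.simple i := by decide +kernel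

set_option maxRecDepth 1000000 in
theorem i67_comm_0 : ∀ r < 18, ∀ s < 72, commOK chevE6 chevE7 i67 (r + 0) s = true := by
  decide +kernel

set_option maxRecDepth 1000000 in
theorem i67_comm_1 : ∀ r < 18, ∀ s < 72, commOK chevE6 chevE7 i67 (r + 18) s = true := by
  decide +kernel

set_option maxRecDepth 1000000 in
theorem i67_comm_2 : ∀ r < 18, ∀ s < 72, commOK chevE6 chevE7 i67 (r + 36) s = true := by
  decide +kernel

set_option maxRecDepth 1000000 in
theorem i67_comm_3 : ∀ r < 18, ∀ s < 72, commOK chevE6 chevE7 i67 (r + 54) s = true := by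
  decide +kernel

theorem i67_comm : ∀ r < 72, ∀ s < 72, commOK chevE6 chevE7 i67 r s = true := by
  intro r hr s hs
  by_cases h0 : r < 18
  · have := i67_comm_0 (r - 0) (by omega) s hs
    rwa [Nat.sub_add_cancel (by omega)] at this
  by_cases h1 : r < 36
  · have := i67_comm_1 (r - 18) (by omega) s hs
    rwa [Nat.sub_add_cancel (by omega)] at this
  by_cases h2 : r < 54
  · have := i67_comm_2 (r - 36) (by omega) s hs
    rwa [Nat.sub_add_cancel (by omega)] at this
  by_cases h3 : r < 72
  · have := i67_comm_3 (r - 54) (by omega) s hs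
    rwa [Nat.sub_add_cancel (by omega)] at this
  omega

theorem i67_strict : ∀ r s : ℕ, r < s → s < 72 → i67 r < i67 s := by
  intro r s hrs hs
  induction s with
  | zero => omega
  | succ s ih =>
    rcases Nat.lt_succ_iff_lt_or_eq.1 hrs with h | h
    · exact lt_trans (ih h (by omega)) (i67_mono s (by omega))
    · rw [h]; exact i67_mono s (by omega)

theorem emb67 : Emb chevE6 chevE7 i67 where
  lt := i67_lt
  inj := by
    intro r hr s hs e
    rcases Nat.lt_trichotomy r s with h | h | h
    · exact absurd e (ne_of_lt (i67_strict r s h hs))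
    · exact h
    · exact absurd e.symm (ne_of_lt (i67_strict s r h hr))
  neg := i67_neg
  comm := fun r hr s hs hne hneg => commOK_spec (i67_comm r hr s hs) hne hneg
  simple := i67_simple
  rank_le := by decide

end Cfsg.Agent.RootEmb
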