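import Cfsg.Agent.Lib.Lead.RootEmbA

/-!
# The embedding of the roots of `chevE7` into the roots of `chevE8` (lead)
-/

set_option autoImplicit false

namespace Cfsg.Agent.RootEmb

open Cfsg.Lie

/-- the images of the roots -/
def l78 : List ℕ := [13, 20, 25, 29, 32, 34, 35, 39, 42, 44, 45, 48, 50, 51, 53, 54, 55, 58, 60, 61, 63, 64, 65, 67, 68, 69, 70, 72, 73, 74, 75, 76, 77, 80, 82, 83, 85, 86, 87, 89, 90, 91, 92, 94, 95, 96, 97, 98, 100, 101, 102, 103, 104, 106, 107, 108, 109, 111, 112, 113, 115, 116, 118, 121, 123, 124, 126, 127, 128, 130, 131, 132, 133, 135, 136, 137, 138, 139, 141, 142, 143, 144, 145, 147, 148, 149, 150, 152, 153, 154, 156, 157, 159, 162, 163, 164, 165, 166, 167, 169, 170, 171, 172, 174, 175, 176, 178, 179, 181, 184, 185, 186, 188, 189, 191, 194, 195, 197, 200, 204, 205, 207, 210, 214, 219, 226]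

/-- the embedding of the roots -/
def i78 (r : ℕ) : ℕ := l78.getD r 0

set_option maxRecDepth 1000000 in
theorem i78_lt : ∀ r < 126, i78 r < 240 := by decide +kernel

set_option maxRecDepth 1000000 in
theorem i78_mono : ∀ r < 125, i78 r < i78 (r + 1) := by decide +kernel

set_option maxRecDepth 1000000 in
theorem i78_neg : ∀ r < 126, chevE8.neg (i78 r) = i78 (chevE7.neg r) := by decide +kernel

set_option maxRecDepth 1000000 in
theorem i78_simple : ∀ i < 7, i78 (chevE7.simple i) = chevE8.simple i := by decide +kernel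

set_option maxRecDepth 1000000 in
theorem i78_comm_0 : ∀ r < 14, ∀ s < 126, commOK chevE7 chevE8 i78 (r + 0) s = true := by
  decide +kernel

set_option maxRecDepth 1000000 in
theorem i78_comm_1 : ∀ r < 14, ∀ s < 126, commOK chevE7 chevE8 i78 (r + 14) s = true := by
  decide +kernel

set_option maxRecDepth 1000000 in
theorem i78_comm_2 : ∀ r < 14, ∀ s < 126, commOK chevE7 chevE8 i78 (r + 28) s = true := by
  decide +kernel

set_option maxRecDepth 1000000 in
theorem i78_comm_3 : ∀ r < 14, ∀ s < 126, commOK chevE7 chevE8 i78 (r + 42) s = true := by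
  decide +kernel

set_option maxRecDepth 1000000 in
theorem i78_comm_4 : ∀ r < 14, ∀ s < 126, commOK chevE7 chevE8 i78 (r + 56) s = true := by
  decide +kernel

set_option maxRecDepth 1000000 in
theorem i78_comm_5 : ∀ r < 14, ∀ s < 126, commOK chevE7 chevE8 i78 (r + 70) s = true := by
  decide +kernel

set_option maxRecDepth 1000000 in
theorem i78_comm_6 : ∀ r < 14, ∀ s < 126, commOK chevE7 chevE8 i78 (r + 84) s = true := by
  decide +kernel

set_option maxRecDepth 1000000 in
theorem i78_comm_7 : ∀ r < 14, ∀ s < 126, commOK chevE7 chevE8 i78 (r + 98) s = true := by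
  decide +kernel

set_option maxRecDepth 1000000 in
theorem i78_comm_8 : ∀ r < 14, ∀ s < 126, commOK chevE7 chevE8 i78 (r + 112) s = true := by
  decide +kernel

theorem i78_comm : ∀ r < 126, ∀ s < 126, commOK chevE7 chevE8 i78 r s = true := by
  intro r hr s hs
  by_cases h0 : r < 14
  · have := i78_comm_0 (r - 0) (by omega) s hs
    rwa [Nat.sub_add_cancel (by omega)] at this
  by_cases h1 : r < 28
  · have := i78_comm_1 (r - 14) (by omega) s hs
    rwa [Nat.sub_add_cancel (by omega)] at this
  by_cases h2 : r < 42
  · have := i78_comm_2 (r - 28) (by omega) s hs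
    rwa [Nat.sub_add_cancel (by omega)] at this
  by_cases h3 : r < 56
  · have := i78_comm_3 (r - 42) (by omega) s hs
    rwa [Nat.sub_add_cancel (by omega)] at this
  by_cases h4 : r < 70
  · have := i78_comm_4 (r - 56) (by omega) s hs
    rwa [Nat.sub_add_cancel (by omega)] at this
  by_cases h5 : r < 84
  · have := i78_comm_5 (r - 70) (by omega) s hs
    rwa [Nat.sub_add_cancel (by omega)] at this
  by_cases h6 : r < 98
  · have := i78_comm_6 (r - 84) (by omega) s hs
    rwa [Nat.sub_add_cancel (by omega)] at this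
  by_cases h7 : r < 112
  · have := i78_comm_7 (r - 98) (by omega) s hs
    rwa [Nat.sub_add_cancel (by omega)] at this
  by_cases h8 : r < 126
  · have := i78_comm_8 (r - 112) (by omega) s hs
    rwa [Nat.sub_add_cancel (by omega)] at this
  omega

theorem i78_strict : ∀ r s : ℕ, r < s → s < 126 → i78 r < i78 s := by
  intro r s hrs hs
  induction s with
  | zero => omega
  | succ s ih =>
    rcases Nat.lt_succ_iff_lt_or_eq.1 hrs with h | h
    · exact lt_trans (ih h (by omega)) (i78_mono s (by omega))
    · rw [h]; exact i78_mono s (by omega)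

theorem emb78 : Emb chevE7 chevE8 i78 where
  lt := i78_lt
  inj := by
    intro r hr s hs e
    rcases Nat.lt_trichotomy r s with h | h | h
    · exact absurd e (ne_of_lt (i78_strict r s h hs))
    · exact h
    · exact absurd e.symm (ne_of_lt (i78_strict s r h hr))
  neg := i78_neg
  comm := fun r hr s hs hne hneg => commOK_spec (i78_comm r hr s hs) hne hneg
  simple := i78_simple
  rank_le := by decide

end Cfsg.Agent.RootEmb
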