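import Mathlib
import Cfsg.Prelude.Def_LocalEven
import Cfsg.Prelude.Def_PLocal

/-!
# Engel elements and the vanishing of the norm on elementary abelian sections

* `geom_sum_eq_sub_one_pow` : `∑_{i<p} X^i = (X - 1)^(p-1)` over `ZMod p`;
* `nrm`                     : the ordered product `y * c y * c (c y) * …`;
* `nrm_eq_one_of_engel`     : in an abelian group of exponent `p`, if `(c - 1)^(p-1) = 0` then the norm vanishes;
* `minimal_normal_pgroup`   : a minimal normal `p`-subgroup is elementary abelian.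
-/

set_option autoImplicit false
set_option linter.style.haveILetI false

namespace Cfsg.Agent.Lib.Lead.EngelNorm

theorem geom_sum_eq_sub_one_pow (p : ℕ) [Fact p.Prime] :
    (∑ i ∈ Finset.range p, (Polynomial.X : Polynomial (ZMod p)) ^ i) = (Polynomial.X - 1) ^ (p - 1) := by
  have hp : p.Prime := Fact.out
  have h1 : (Polynomial.X - 1 : Polynomial (ZMod p)) * ∑ i ∈ Finset.range p, Polynomial.X ^ i =
      Polynomial.X ^ p - 1 := mul_geom_sum _ _
  have h2 : (Polynomial.X - 1 : Polynomial (ZMod p)) ^ p = Polynomial.X ^ p - 1 := by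
    rw [sub_pow_char, one_pow]
  have h3 : (Polynomial.X - 1 : Polynomial (ZMod p)) * (Polynomial.X - 1) ^ (p - 1) =
      (Polynomial.X - 1) ^ p := by
    rw [← pow_succ', Nat.sub_add_cancel hp.one_le]
  have hne : (Polynomial.X - 1 : Polynomial (ZMod p)) ≠ 0 := by
    have := Polynomial.X_sub_C_ne_zero (1 : ZMod p)
    simpa using this
  exact mul_left_cancel₀ hne (h1.trans (h2.symm.trans h3.symm))

theorem sum_pow_eq_zero_of_sub_one_pow {p : ℕ} [Fact p.Prime] {V : Type*} [AddCommGroup V]
    [Module (ZMod p) V] (γ : Module.End (ZMod p) V) (h : (γ - 1) ^ (p - 1) = 0) :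
    ∑ i ∈ Finset.range p, γ ^ i = 0 := by
  have h1 := congrArg (Polynomial.aeval γ) (geom_sum_eq_sub_one_pow p)
  simpa [h] using h1

/-- the ordered product `y * c y * c (c y) * ⋯` with `n` factors -/
def nrm {Q : Type*} [Group Q] (c : Q → Q) (y : Q) : ℕ → Q
  | 0 => 1
  | n + 1 => nrm c y n * c^[n] y

theorem sum_iterate_eq_zero_of_engel {p : ℕ} [Fact p.Prime] {V : Type*} [AddCommGroup V]
    (hexp : ∀ a : V, p • a = 0) (c : V →+ V)
    (hc : ∀ y : V, (fun z => c z - z)^[p - 1] y = 0) (y : V) :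
    ∑ i ∈ Finset.range p, c^[i] y = 0 := by
  letI : Module (ZMod p) V := AddCommGroup.zmodModule (n := p) hexp
  let γ : V →ₗ[ZMod p] V := c.toZModLinearMap p
  have hγ : ∀ z : V, γ z = c z := fun z => rfl
  have h1 : ∀ (k : ℕ) (z : V), ((γ - 1) ^ k) z = (fun z => c z - z)^[k] z := by
    intro k
    induction k with
    | zero => intro z; rfl
    | succ k ih =>
      intro z
      rw [pow_succ', Module.End.mul_apply, ih, Function.iterate_succ_apply']
      rw [LinearMap.sub_apply, hγ]
      rfl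
  have h2 : (γ - 1) ^ (p - 1) = 0 := by
    ext z
    rw [h1, hc]
    rfl
  have h3 := sum_pow_eq_zero_of_sub_one_pow γ h2
  have h5 : ∀ (n : ℕ) (z : V), (γ ^ n) z = c^[n] z := by
    intro n
    induction n with
    | zero => intro z; rfl
    | succ n ih =>
      intro z
      rw [pow_succ', Module.End.mul_apply, ih, Function.iterate_succ_apply', hγ]
  have h6 := congrArg (fun f : V →ₗ[ZMod p] V => f y) h3
  simp only [LinearMap.sum_apply, LinearMap.zero_apply] at h6
  rw [← h6]
  exact Finset.sum_congr rfl (fun i _ => (h5 i y).symm)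

theorem nrm_eq_prod {Q : Type*} [CommGroup Q] (c : Q → Q) (y : Q) (n : ℕ) :
    nrm c y n = ∏ i ∈ Finset.range n, c^[i] y := by
  induction n with
  | zero => rfl
  | succ n ih => rw [Finset.prod_range_succ, ← ih]; rfl

theorem nrm_eq_one_of_engel_comm {p : ℕ} [Fact p.Prime] {Q : Type*} [CommGroup Q]
    (hexp : ∀ a : Q, a ^ p = 1) (c : Q →* Q)
    (hc : ∀ y : Q, (fun z => c z * z⁻¹)^[p - 1] y = 1) (y : Q) :
    nrm c y p = 1 := by
  rw [nrm_eq_prod]
  have hexp' : ∀ a : Additive Q, p • a = 0 := fun a => by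
    show Additive.ofMul (a.toMul ^ p) = 0
    rw [hexp]; rfl
  have e1 : ∀ (k : ℕ) (z : Q), (fun z : Additive Q => (MonoidHom.toAdditive c) z - z)^[k] (Additive.ofMul z) =
      Additive.ofMul ((fun z => c z * z⁻¹)^[k] z) := by
    intro k
    induction k with
    | zero => intro z; rfl
    | succ k ih =>
      intro z
      rw [Function.iterate_succ_apply', ih, Function.iterate_succ_apply', sub_eq_add_neg]
      rfl
  have e2 : ∀ (k : ℕ) (z : Q), (MonoidHom.toAdditive c)^[k] (Additive.ofMul z) =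
      Additive.ofMul (c^[k] z) := by
    intro k
    induction k with
    | zero => intro z; rfl
    | succ k ih =>
      intro z
      rw [Function.iterate_succ_apply', ih, Function.iterate_succ_apply']
      rfl
  have h := sum_iterate_eq_zero_of_engel hexp' (MonoidHom.toAdditive c) (fun z => by
    have := e1 (p - 1) z.toMul
    rw [hc] at this
    exact this) (Additive.ofMul y)
  have h2 : Additive.ofMul (∏ i ∈ Finset.range p, c^[i] y) = 0 := by
    rw [ofMul_prod, ← h]
    exact Finset.sum_congr rfl (fun i _ => (e2 i y).symm)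
  exact h2

theorem nrm_eq_one_of_engel {p : ℕ} [Fact p.Prime] {Q : Type*} [Group Q]
    (hcomm : ∀ a b : Q, a * b = b * a) (hexp : ∀ a : Q, a ^ p = 1) (c : Q →* Q)
    (hc : ∀ y : Q, (fun z => c z * z⁻¹)^[p - 1] y = 1) (y : Q) :
    nrm c y p = 1 := by
  letI : CommGroup Q := { (inferInstance : Group Q) with mul_comm := hcomm }
  exact nrm_eq_one_of_engel_comm hexp c hc y

/-- A minimal normal `p`-subgroup of a finite group is elementary abelian. -/
theorem minimal_normal_pgroup {p : ℕ} [Fact p.Prime] {Q : Type*} [Group Q] [Finite Q]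
    (N : Subgroup Q) [hN : N.Normal] (hNp : IsPGroup p ↥N) (hNb : N ≠ ⊥)
    (hmin : ∀ B : Subgroup Q, B.Normal → B ≤ N → B = ⊥ ∨ B = N) :
    (∀ x ∈ N, ∀ y ∈ N, x * y = y * x) ∧ (∀ x ∈ N, x ^ p = 1) := by
  have hp : p.Prime := Fact.out
  have hcomm : ∀ x ∈ N, ∀ y ∈ N, x * y = y * x := by
    have hcn : (⁅N, N⁆ : Subgroup Q).Normal := Subgroup.commutator_normal N N
    have hcle : ⁅N, N⁆ ≤ N := Subgroup.commutator_le_left N N
    have hlt : ⁅N, N⁆ ≠ N := by
      haveI : Group.IsNilpotent ↥N := hNp.isNilpotent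
      haveI : Nontrivial ↥N := (Subgroup.nontrivial_iff_ne_bot N).mpr hNb
      have h1 : commutator ↥N < ⊤ := Group.IsSolvable.commutator_lt_top_of_nontrivial ↥N
      intro h
      have h2 : (commutator ↥N).map N.subtype = (⊤ : Subgroup ↥N).map N.subtype := by
        rw [Subgroup.map_subtype_commutator, h, ← MonoidHom.range_eq_map, Subgroup.range_subtype]
      exact h1.ne (Subgroup.map_injective N.subtype_injective h2)
    have h0 : ⁅N, N⁆ = ⊥ := (hmin _ hcn hcle).resolve_right hlt
    rw [Subgroup.commutator_eq_bot_iff_le_centralizer] at h0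
    intro x hx y hy
    have := Subgroup.mem_centralizer_iff.mp (h0 hx) y hy
    exact this.symm
  refine ⟨hcomm, ?_⟩
  have hcard : p ∣ Nat.card N := by
    obtain ⟨a, ha⟩ := IsPGroup.iff_card.mp hNp
    rw [ha]
    have : a ≠ 0 := by
      rintro rfl
      apply hNb
      rw [pow_zero] at ha
      exact Subgroup.card_eq_one.mp ha
    exact dvd_pow_self p this
  obtain ⟨x, hx⟩ := exists_prime_orderOf_dvd_card' (G := N) p hcard
  let B : Subgroup Q :=
    { carrier := {y | y ∈ N ∧ y ^ p = 1}
      mul_mem' := by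
        rintro a b ⟨ha, ha'⟩ ⟨hb, hb'⟩
        refine ⟨N.mul_mem ha hb, ?_⟩
        have hc : Commute a b := hcomm a ha b hb
        rw [hc.mul_pow, ha', hb', one_mul]
      one_mem' := ⟨N.one_mem, one_pow _⟩
      inv_mem' := by
        rintro a ⟨ha, ha'⟩
        exact ⟨N.inv_mem ha, by rw [inv_pow, ha', inv_one]⟩ }
  have hBn : B.Normal := by
    constructor
    rintro a ⟨ha, ha'⟩ g
    refine ⟨hN.conj_mem a ha g, ?_⟩
    rw [conj_pow, ha']
    simp
  have hBle : B ≤ N := fun y hy => hy.1
  have hBb : B ≠ ⊥ := by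
    intro h
    have hxB : (x : Q) ∈ B := by
      refine ⟨x.2, ?_⟩
      have := pow_orderOf_eq_one x
      rw [hx] at this
      have h2 := congrArg Subtype.val this
      simpa using h2
    rw [h, Subgroup.mem_bot] at hxB
    have hx1 : x = 1 := Subtype.ext hxB
    rw [hx1, orderOf_one] at hx
    exact hp.one_lt.ne hx
  have hBN : B = N := (hmin B hBn hBle).resolve_left hBb
  intro y hy
  have hy' : y ∈ B := by rw [hBN]; exact hy
  exact hy'.2

open scoped commutatorElement in
/-- The norm of an Engel element vanishes on a chief factor that is a `p`-group. -/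
theorem engel_norm_mem {p : ℕ} [Fact p.Prime] {X : Type*} [Group X] [Finite X] (B B₁ : Subgroup X)
    (hch : Cfsg.IsChiefFactor B B₁) (hBp : IsPGroup p ↥B) (v : X)
    (hv : Cfsg.iterCommutator B (Subgroup.zpowers v) (p - 1) ≤ B₁) (x : X) (hx : x ∈ B) :
    nrm (fun y => v * y * v⁻¹) x p ∈ B₁ := by
  obtain ⟨hlt, hBn, hB₁n, hchief⟩ := hch
  haveI := hBn
  haveI := hB₁n
  set π : X →* X ⧸ B₁ := QuotientGroup.mk' B₁ with hπ
  have hπs : Function.Surjective π := QuotientGroup.mk'_surjective B₁
  have hker : π.ker = B₁ := QuotientGroup.ker_mk' B₁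
  have hπ1 : ∀ z : X, π z = 1 ↔ z ∈ B₁ := fun z => by rw [← MonoidHom.mem_ker, hker]
  set N : Subgroup (X ⧸ B₁) := B.map π with hNdef
  haveI hNn : N.Normal := hBn.map π hπs
  have hNp : IsPGroup p ↥N := hBp.map π
  have hNb : N ≠ ⊥ := by
    intro h
    apply hlt.not_ge
    intro z hz
    have : π z ∈ N := Subgroup.mem_map_of_mem π hz
    rw [h, Subgroup.mem_bot] at this
    exact (hπ1 z).mp this
  have hmin : ∀ C : Subgroup (X ⧸ B₁), C.Normal → C ≤ N → C = ⊥ ∨ C = N := by
    intro C hCn hCN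
    have h1 : (C.comap π).Normal := hCn.comap π
    have h2 : B₁ ≤ C.comap π := by
      intro z hz
      rw [Subgroup.mem_comap, (hπ1 z).mpr hz]
      exact C.one_mem
    have h3 : C.comap π ≤ B := by
      intro z hz
      have : π z ∈ N := hCN hz
      obtain ⟨b, hb, hbz⟩ := this
      have h4 : b⁻¹ * z ∈ B₁ := by
        rw [← hπ1, map_mul, map_inv, hbz, inv_mul_cancel]
      have h5 : z = b * (b⁻¹ * z) := by group
      rw [h5]
      exact B.mul_mem hb (hlt.le h4)
    have h4 : (C.comap π).map π = C := Subgroup.map_comap_eq_self_of_surjective hπs C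
    rcases hchief _ h1 h2 h3 with h | h
    · left
      rw [← h4, h]
      exact (Subgroup.map_eq_bot_iff _).mpr (le_of_eq hker.symm)
    · right
      rw [← h4, h]
  obtain ⟨hcomm, hexp⟩ := minimal_normal_pgroup N hNp hNb hmin
  have hcomm' : ∀ a b : ↥N, a * b = b * a := fun a b => Subtype.ext (hcomm a a.2 b b.2)
  have hexp' : ∀ a : ↥N, a ^ p = 1 := fun a => Subtype.ext (by
    rw [Subgroup.coe_pow]; exact hexp a a.2)
  set c : ↥N →* ↥N := (MulAut.conjNormal (π v)).toMonoidHom with hc
  have hcval : ∀ w : ↥N, ((c w : ↥N) : X ⧸ B₁) = π v * (w : X ⧸ B₁) * (π v)⁻¹ := fun w => rfl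
  -- the iterated commutators
  have hUle : ∀ k, Cfsg.iterCommutator B (Subgroup.zpowers v) k ≤ B := by
    intro k
    induction k with
    | zero => exact le_rfl
    | succ k ih =>
      show ⁅Cfsg.iterCommutator B (Subgroup.zpowers v) k, Subgroup.zpowers v⁆ ≤ B
      exact (Subgroup.commutator_mono ih le_top).trans (Subgroup.commutator_le_left B ⊤)
  have hiter : ∀ (k : ℕ) (y : ↥N), ∃ z ∈ Cfsg.iterCommutator B (Subgroup.zpowers v) k,
      (((fun z => c z * z⁻¹)^[k] y : ↥N) : X ⧸ B₁) = π z := by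
    intro k
    induction k with
    | zero =>
      intro y
      obtain ⟨z, hz, hzy⟩ := y.2
      exact ⟨z, hz, hzy.symm⟩
    | succ k ih =>
      intro y
      obtain ⟨z, hz, hzy⟩ := ih y
      refine ⟨⁅v, z⁆, ?_, ?_⟩
      · show ⁅v, z⁆ ∈ ⁅Cfsg.iterCommutator B (Subgroup.zpowers v) k, Subgroup.zpowers v⁆
        rw [Subgroup.commutator_comm]
        exact Subgroup.commutator_mem_commutator (Subgroup.mem_zpowers v) hz
      · rw [Function.iterate_succ_apply']
        show ((c _ * _⁻¹ : ↥N) : X ⧸ B₁) = _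
        rw [Subgroup.coe_mul, Subgroup.coe_inv, hcval, hzy, commutatorElement_def, map_mul, map_mul,
          map_mul, map_inv, map_inv]
  have hc1 : ∀ y : ↥N, (fun z => c z * z⁻¹)^[p - 1] y = 1 := by
    intro y
    obtain ⟨z, hz, hzy⟩ := hiter (p - 1) y
    apply Subtype.ext
    rw [hzy, Subgroup.coe_one, hπ1]
    exact hv hz
  have hmain := nrm_eq_one_of_engel hcomm' hexp' c hc1 ⟨π x, Subgroup.mem_map_of_mem π hx⟩
  have hit : ∀ (n : ℕ) (w : ↥N) (z : X), (w : X ⧸ B₁) = π z →
      ((c^[n] w : ↥N) : X ⧸ B₁) = π ((fun y => v * y * v⁻¹)^[n] z) := by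
    intro n
    induction n with
    | zero => intro w z h; exact h
    | succ n ih =>
      intro w z h
      rw [Function.iterate_succ_apply', Function.iterate_succ_apply', hcval, ih w z h, map_mul,
        map_mul, map_inv]
  have hnr : ∀ (n : ℕ) (w : ↥N) (z : X), (w : X ⧸ B₁) = π z →
      ((nrm c w n : ↥N) : X ⧸ B₁) = π (nrm (fun y => v * y * v⁻¹) z n) := by
    intro n
    induction n with
    | zero => intro w z h; show ((1 : ↥N) : X ⧸ B₁) = π 1; rw [map_one]; rfl
    | succ n ih =>
      intro w z h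
      show ((nrm c w n * c^[n] w : ↥N) : X ⧸ B₁) = π (nrm _ z n * _)
      rw [Subgroup.coe_mul, ih w z h, hit n w z h, map_mul]
  have h1 := hnr p ⟨π x, Subgroup.mem_map_of_mem π hx⟩ x rfl
  rw [hmain, Subgroup.coe_one] at h1
  exact (hπ1 _).mp h1.symm

end Cfsg.Agent.Lib.Lead.EngelNorm
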