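import Mathlib
import Cfsg.Agent.Lib.Lead.EngelNorm
import Cfsg.Agent.Lib.Lead.Conj
import Cfsg.Agent.Lib.Helper7.SylowLib

/-!
# Transfer into the normalizer of a weakly closed subgroup generated by Engel elements

The main result `inf_commutator_le_of_engel` : if `P` is a normal `p`-subgroup of the finite group `X`,
`S` a Sylow `p`-subgroup and `𝒱 ⊆ S` a set of elements, closed under inverses and under those conjugations
that bring them back to `S`, each of which satisfies the Engel condition `[U, v; p - 1] ≤ V` on the chief factors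
`U / V` of `X` below `P`, then `P ∩ X' ≤ N_X(⟨𝒱⟩)'`.
-/

set_option autoImplicit false
set_option linter.style.haveILetI false
set_option linter.unusedSectionVars false
set_option linter.unusedVariables false

namespace Cfsg.Agent.Lib.Lead.EngelTransfer

open Cfsg Cfsg.Agent.Lib.Lead.EngelNorm Cfsg.Agent.Lib.Lead.Conj Cfsg.Agent.Lib.Helper7
open scoped commutatorElement

section engel

variable {X : Type*} [Group X]

/-- the Engel condition on the chief factors below `P` -/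
def Eng (p : ℕ) (P : Subgroup X) (v : X) : Prop :=
  ∀ U V : Subgroup X, Cfsg.IsChiefFactor U V → U ≤ P →
    Cfsg.iterCommutator U (Subgroup.zpowers v) (p - 1) ≤ V

theorem iterCommutator_map {Y : Type*} [Group Y] (f : X →* Y) (U K : Subgroup X) (k : ℕ) :
    (Cfsg.iterCommutator U K k).map f = Cfsg.iterCommutator (U.map f) (K.map f) k := by
  induction k with
  | zero => rfl
  | succ k ih =>
    show (⁅Cfsg.iterCommutator U K k, K⁆).map f =
      ⁅Cfsg.iterCommutator (U.map f) (K.map f) k, K.map f⁆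
    rw [Subgroup.map_commutator, ih]

theorem map_conj_normal (U : Subgroup X) [hU : U.Normal] (g : X) :
    U.map (MulAut.conj g).toMonoidHom = U := by
  ext x
  rw [mem_map_conj]
  constructor
  · intro h
    have := hU.conj_mem _ h g
    have e : g * (g⁻¹ * x * g) * g⁻¹ = x := by group
    rwa [e] at this
  · intro h
    have := hU.conj_mem _ h g⁻¹
    rwa [inv_inv] at this

theorem Eng.conj {p : ℕ} {P : Subgroup X} {v : X} (h : Eng p P v) (g : X) :
    Eng p P (g * v * g⁻¹) := by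
  intro U V hUV hUP
  haveI := hUV.2.1
  haveI := hUV.2.2.1
  have h1 := iterCommutator_map (MulAut.conj g).toMonoidHom U (Subgroup.zpowers v) (p - 1)
  rw [map_conj_normal U g, MonoidHom.map_zpowers] at h1
  have h2 : (MulAut.conj g).toMonoidHom v = g * v * g⁻¹ := rfl
  rw [h2] at h1
  rw [← h1, ← map_conj_normal V g]
  exact Subgroup.map_mono (h U V hUV hUP)

theorem Eng.inv {p : ℕ} {P : Subgroup X} {v : X} (h : Eng p P v) : Eng p P v⁻¹ := by
  intro U V hUV hUP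
  rw [Subgroup.zpowers_inv]
  exact h U V hUV hUP

theorem cj_iterate (g x : X) (i : ℕ) :
    (fun y => g * y * g⁻¹)^[i] x = g ^ i * x * (g ^ i)⁻¹ := by
  induction i with
  | zero => simp
  | succ i ih =>
    rw [Function.iterate_succ_apply', ih, pow_succ']
    group

theorem cj_iterate_mem (B : Subgroup X) [hB : B.Normal] (g : X) {x : X} (hx : x ∈ B) (i : ℕ) :
    (fun y => g * y * g⁻¹)^[i] x ∈ B := by
  rw [cj_iterate]
  exact hB.conj_mem x hx _

theorem nrm_cj_mem (B : Subgroup X) [hB : B.Normal] (g : X) {x : X} (hx : x ∈ B) (n : ℕ) :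
    nrm (fun y => g * y * g⁻¹) x n ∈ B := by
  induction n with
  | zero => exact B.one_mem
  | succ n ih => exact B.mul_mem ih (cj_iterate_mem B g hx n)

theorem conj_closure_le (𝒱 : Set X) (g : X)
    (h : ∀ v ∈ 𝒱, g⁻¹ * v * g ∈ Subgroup.closure 𝒱) :
    ∀ e ∈ Subgroup.closure 𝒱, g⁻¹ * e * g ∈ Subgroup.closure 𝒱 := by
  intro e he
  induction he using Subgroup.closure_induction with
  | mem v hv => exact h v hv
  | one => simp
  | mul a b _ _ iha ihb =>
    have e1 : g⁻¹ * (a * b) * g = (g⁻¹ * a * g) * (g⁻¹ * b * g) := by group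
    rw [e1]; exact Subgroup.mul_mem _ iha ihb
  | inv a _ iha =>
    have e1 : g⁻¹ * a⁻¹ * g = (g⁻¹ * a * g)⁻¹ := by group
    rw [e1]; exact Subgroup.inv_mem _ iha

end engel

section transfer

variable {G : Type*} [Group G] {H : Subgroup G} {A : Type*} [CommGroup A]

/-- extension of a homomorphism on a subgroup by `1` -/
noncomputable def ext1 (ϕ : ↥H →* A) (y : G) : A := by
  classical exact if h : y ∈ H then ϕ ⟨y, h⟩ else 1

theorem ext1_of_mem (ϕ : ↥H →* A) {y : G} (h : y ∈ H) : ext1 ϕ y = ϕ ⟨y, h⟩ := by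
  unfold ext1
  exact dif_pos h

/-- the transfer of an element fixing all cosets -/
theorem transfer_eq_prod_of_fixed [H.FiniteIndex] [Fintype (G ⧸ H)] (ϕ : ↥H →* A) (g : G)
    (hfix : ∀ q : G ⧸ H, g • q = q) :
    MonoidHom.transfer ϕ g = ∏ q : G ⧸ H, ext1 ϕ (q.out⁻¹ * g * q.out) := by
  classical
  let T : H.LeftTransversal := ⟨Set.range (fun q : G ⧸ H => q.out),
    Subgroup.isComplement_range_left (fun q => q.out_eq')⟩
  have hT : ∀ q, (T.2.leftQuotientEquiv q : G) = q.out := fun q =>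
    Subgroup.IsComplement.leftQuotientEquiv_apply (f := fun q : G ⧸ H => q.out) (fun q => q.out_eq') q
  rw [MonoidHom.transfer_def ϕ T]
  unfold Subgroup.leftTransversals.diff
  simp only
  refine Finset.prod_congr (by ext; simp) (fun q _ => ?_)
  have hfix' : g⁻¹ • q = q := by
    conv_lhs => rw [← hfix q]
    rw [inv_smul_smul]
  have h2 : ((g • T).2.leftQuotientEquiv q : G) = g * q.out := by
    rw [Subgroup.smul_apply_eq_smul_apply_inv_smul, hfix', hT]
    rfl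
  have hmem : q.out⁻¹ * g * q.out ∈ H := by
    have : g • q = q := hfix q
    conv at this => rw [← q.out_eq']
    have h3 := QuotientGroup.eq.mp this.symm
    simpa [mul_assoc] using h3
  rw [ext1_of_mem ϕ hmem]
  congr 1
  apply Subtype.ext
  show (T.2.leftQuotientEquiv q : G)⁻¹ * ((g • T).2.leftQuotientEquiv q : G) = q.out⁻¹ * g * q.out
  rw [hT, h2, mul_assoc]

end transfer

section Ffun

variable {X : Type*} [Group X] {M : Subgroup X} {A : Type*} [CommGroup A] (ϕ : ↥M →* A)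

/-- `x ↦ ϕ (t⁻¹ x t)` -/
noncomputable def F (x t : X) : A := ext1 ϕ (t⁻¹ * x * t)

/-- the same on cosets -/
noncomputable def Fbar (x : X) (q : X ⧸ M) : A := F ϕ x q.out

variable (P : Subgroup X) [hPn : P.Normal] (hPM : P ≤ M)

theorem conj_mem_P {x : X} (hx : x ∈ P) (t : X) : t⁻¹ * x * t ∈ P := by
  have := hPn.conj_mem x hx t⁻¹
  rwa [inv_inv] at this

theorem F_mul_right (hPM : P ≤ M) {x : X} (hx : x ∈ P) (t : X) {m : X} (hm : m ∈ M) :
    F ϕ x (t * m) = F ϕ x t := by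
  unfold F
  have hy : t⁻¹ * x * t ∈ M := hPM (conj_mem_P P hx t)
  have e : (t * m)⁻¹ * x * (t * m) = m⁻¹ * (t⁻¹ * x * t) * m := by group
  have hy2 : m⁻¹ * (t⁻¹ * x * t) * m ∈ M := M.mul_mem (M.mul_mem (M.inv_mem hm) hy) hm
  rw [e, ext1_of_mem ϕ hy2, ext1_of_mem ϕ hy]
  have e2 : (⟨m⁻¹ * (t⁻¹ * x * t) * m, hy2⟩ : ↥M) = (⟨m, hm⟩ : ↥M)⁻¹ * ⟨t⁻¹ * x * t, hy⟩ * ⟨m, hm⟩ := rfl
  rw [e2, map_mul, map_mul, map_inv, mul_comm (ϕ ⟨m, hm⟩)⁻¹, mul_assoc, inv_mul_cancel, mul_one]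

theorem F_mul (hPM : P ≤ M) {x y : X} (hx : x ∈ P) (hy : y ∈ P) (t : X) :
    F ϕ (x * y) t = F ϕ x t * F ϕ y t := by
  unfold F
  have hx' : t⁻¹ * x * t ∈ M := hPM (conj_mem_P P hx t)
  have hy' : t⁻¹ * y * t ∈ M := hPM (conj_mem_P P hy t)
  have e : t⁻¹ * (x * y) * t = (t⁻¹ * x * t) * (t⁻¹ * y * t) := by group
  rw [e, ext1_of_mem ϕ (M.mul_mem hx' hy'), ext1_of_mem ϕ hx', ext1_of_mem ϕ hy', ← map_mul]
  rfl

theorem F_smul (x e t : X) : F ϕ x (e * t) = F ϕ (e⁻¹ * x * e) t := by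
  unfold F
  congr 1
  group

theorem Fbar_mk (hPM : P ≤ M) {x : X} (hx : x ∈ P) (t : X) :
    Fbar ϕ x (t : X ⧸ M) = F ϕ x t := by
  unfold Fbar
  obtain ⟨h, hh⟩ := QuotientGroup.mk_out_eq_mul M t
  rw [hh]
  exact F_mul_right ϕ P hPM hx t h.2

theorem Fbar_mul (hPM : P ≤ M) {x y : X} (hx : x ∈ P) (hy : y ∈ P) (q : X ⧸ M) :
    Fbar ϕ (x * y) q = Fbar ϕ x q * Fbar ϕ y q :=
  F_mul ϕ P hPM hx hy _

theorem Fbar_smul (hPM : P ≤ M) {x : X} (hx : x ∈ P) (e : X) (q : X ⧸ M) :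
    Fbar ϕ x (e • q) = Fbar ϕ (e⁻¹ * x * e) q := by
  have h1 : e • q = ((e * q.out : X) : X ⧸ M) := by
    conv_lhs => rw [← q.out_eq']
    rfl
  rw [h1, Fbar_mk ϕ P hPM hx, F_smul]
  rfl

theorem Fbar_eq_one (B₁ : Subgroup X) [hB₁ : B₁.Normal] (hB₁M : B₁ ≤ M)
    (hker : ∀ (y : X) (hy : y ∈ B₁), ϕ ⟨y, hB₁M hy⟩ = 1) {y : X} (hy : y ∈ B₁) (q : X ⧸ M) :
    Fbar ϕ y q = 1 := by
  unfold Fbar F
  have h1 : q.out⁻¹ * y * q.out ∈ B₁ := conj_mem_P B₁ hy _
  rw [ext1_of_mem ϕ (hB₁M h1)]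
  exact hker _ h1

theorem smul_eq_self_of_mem (hPM : P ≤ M) {x : X} (hx : x ∈ P) (q : X ⧸ M) : x • q = q := by
  induction q using QuotientGroup.induction_on with
  | H t =>
    show ((x * t : X) : X ⧸ M) = (t : X ⧸ M)
    rw [QuotientGroup.eq]
    have h1 : (x * t)⁻¹ * t = t⁻¹ * x⁻¹ * t := by group
    rw [h1]
    exact hPM (conj_mem_P P (P.inv_mem hx) t)

theorem transfer_eq_prod_Fbar [M.FiniteIndex] [Fintype (X ⧸ M)] (hPM : P ≤ M) {x : X} (hx : x ∈ P) :
    MonoidHom.transfer ϕ x = ∏ q : X ⧸ M, Fbar ϕ x q :=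
  transfer_eq_prod_of_fixed ϕ x (smul_eq_self_of_mem P hPM hx)

end Ffun

section pmax

variable {X : Type*} [Group X] [Finite X]

/-- a proper subgroup of a finite `p`-group lies in a subgroup of index `p`, modulo which any outside
element has order `p` and generates -/
theorem exists_max_normal {p : ℕ} [Fact p.Prime] (E E₀ : Subgroup X) (hE : IsPGroup p ↥E)
    (h₀ : E₀ ≤ E) (hne : E₀ ≠ E) :
    ∃ E' : Subgroup X, E₀ ≤ E' ∧ E' ≤ E ∧ E' ≠ E ∧
      (∀ w ∈ E, w ∉ E' → (∀ e ∈ E, ∃ i < p, (w ^ i)⁻¹ * e ∈ E') ∧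
         (∀ i < p, ∀ j < p, (w ^ j)⁻¹ * w ^ i ∈ E' → i = j)) := by
  have hp : p.Prime := Fact.out
  obtain ⟨n, hn⟩ := IsPGroup.iff_card.mp hE
  have hE₀p : IsPGroup p ↥(E₀.subgroupOf E) := hE.to_subgroup _
  obtain ⟨m, hm⟩ := IsPGroup.iff_card.mp hE₀p
  have hmn : m < n := by
    have h1 : E₀.subgroupOf E ≠ ⊤ := by
      intro h
      apply hne
      apply le_antisymm h₀
      intro x hx
      have : (⟨x, hx⟩ : ↥E) ∈ E₀.subgroupOf E := by rw [h]; trivial
      exact Subgroup.mem_subgroupOf.mp this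
    have h2 : Nat.card ↥(E₀.subgroupOf E) < Nat.card ↥E := by
      refine lt_of_le_of_ne (Nat.le_of_dvd Nat.card_pos (Subgroup.card_subgroup_dvd_card _)) ?_
      intro h
      exact h1 ((Subgroup.card_eq_iff_eq_top _).mp h)
    rw [hm, hn] at h2
    exact (Nat.pow_lt_pow_iff_right hp.one_lt).mp h2
  have hdvd : p ^ (n - 1) ∣ Nat.card ↥E := by
    rw [hn]; exact pow_dvd_pow p (Nat.sub_le n 1)
  obtain ⟨K, hKcard, hK⟩ := Sylow.exists_subgroup_card_pow_prime_le p hdvd (E₀.subgroupOf E) hm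
    (by omega)
  have hKidx : K.index = p := by
    have h1 := K.index_mul_card
    rw [hKcard, hn] at h1
    have h2 : p ^ n = p * p ^ (n - 1) := by
      rw [← pow_succ', Nat.sub_add_cancel (by omega)]
    rw [h2] at h1
    exact Nat.eq_of_mul_eq_mul_right (pow_pos hp.pos _) h1
  haveI hKn : K.Normal := by
    apply Subgroup.normal_of_index_eq_minFac_card
    rw [hKidx, hn, Nat.Prime.pow_minFac hp (by omega)]
  have hQcard : Nat.card (↥E ⧸ K) = p := by rw [← Subgroup.index_eq_card, hKidx]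
  refine ⟨K.map E.subtype, ?_, Subgroup.map_subtype_le K, ?_, ?_⟩
  · intro x hx
    exact ⟨⟨x, h₀ hx⟩, hK (Subgroup.mem_subgroupOf.mpr hx), rfl⟩
  · intro h
    have h1 : Nat.card ↥(K.map E.subtype) = Nat.card ↥K :=
      Subgroup.card_map_of_injective E.subtype_injective
    rw [h, hn, hKcard] at h1
    have := Nat.pow_right_injective hp.two_le h1
    omega
  · intro w hw hwK
    have hmemK : ∀ (y : X) (hy : y ∈ E), y ∈ K.map E.subtype ↔ (⟨y, hy⟩ : ↥E) ∈ K := by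
      intro y hy
      constructor
      · rintro ⟨z, hz, hzy⟩
        have : z = ⟨y, hy⟩ := Subtype.ext hzy
        rwa [← this]
      · intro h
        exact ⟨_, h, rfl⟩
    set w' : ↥E := ⟨w, hw⟩ with hw'
    have hw'K : w' ∉ K := fun h => hwK ((hmemK w hw).mpr h)
    have hwbar : ((w' : ↥E) : ↥E ⧸ K) ≠ 1 := by
      intro h
      exact hw'K ((QuotientGroup.eq_one_iff w').mp h)
    have hord : orderOf ((w' : ↥E) : ↥E ⧸ K) = p := by
      have h1 : orderOf ((w' : ↥E) : ↥E ⧸ K) ∣ p := by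
        rw [← hQcard]; exact orderOf_dvd_natCard _
      rcases (Nat.dvd_prime hp).mp h1 with h | h
      · exact absurd (orderOf_eq_one_iff.mp h) hwbar
      · exact h
    constructor
    · intro e he
      have h1 : (((⟨e, he⟩ : ↥E) : ↥E ⧸ K)) ∈ Submonoid.powers ((w' : ↥E) : ↥E ⧸ K) :=
        mem_powers_of_prime_card hQcard hwbar
      obtain ⟨k, hk⟩ := h1
      refine ⟨k % p, Nat.mod_lt _ hp.pos, ?_⟩
      have h2 : ((w' : ↥E) : ↥E ⧸ K) ^ (k % p) = ((⟨e, he⟩ : ↥E) : ↥E ⧸ K) := by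
        rw [← hk, ← hord, pow_mod_orderOf]
      have h3 : ((w' ^ (k % p) : ↥E) : ↥E ⧸ K) = ((⟨e, he⟩ : ↥E) : ↥E ⧸ K) := h2
      have h4 := QuotientGroup.eq.mp h3
      have hmem : (w ^ (k % p))⁻¹ * e ∈ E := E.mul_mem (E.inv_mem (E.pow_mem hw _)) he
      rw [hmemK _ hmem]
      exact h4
    · intro i hi j hj hij
      have hmem : (w ^ j)⁻¹ * w ^ i ∈ E := E.mul_mem (E.inv_mem (E.pow_mem hw _)) (E.pow_mem hw _)
      rw [hmemK _ hmem] at hij
      have h1 : ((w' ^ j : ↥E) : ↥E ⧸ K) = ((w' ^ i : ↥E) : ↥E ⧸ K) := QuotientGroup.eq.mpr hij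
      have h2 : ((w' : ↥E) : ↥E ⧸ K) ^ j = ((w' : ↥E) : ↥E ⧸ K) ^ i := h1
      have h3 := pow_injOn_Iio_orderOf (x := ((w' : ↥E) : ↥E ⧸ K))
        (show j ∈ Set.Iio _ by rw [hord]; exact hj) (show i ∈ Set.Iio _ by rw [hord]; exact hi) h2
      exact h3.symm

end pmax

section orbits

open Classical in
/-- the product over a non-trivial `E`-orbit vanishes -/
theorem orbit_prod_eq_one {p : ℕ} [Fact p.Prime] {X : Type*} [Group X] [Finite X] {M : Subgroup X}
    {A : Type*} [CommGroup A] [Fintype (X ⧸ M)]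
    (f : X → X ⧸ M → A) (P B B₁ : Subgroup X) [hBn : B.Normal]
    (hBP : B ≤ P) (𝒱 : Set X) (hEp : IsPGroup p ↥(Subgroup.closure 𝒱))
    (f2 : ∀ x ∈ P, ∀ y ∈ P, ∀ q, f (x * y) q = f x q * f y q)
    (f3 : ∀ x ∈ P, ∀ (e : X) (q : X ⧸ M), f x (e • q) = f (e⁻¹ * x * e) q)
    (f4 : ∀ y ∈ B₁, ∀ q, f y q = 1)
    (hnorm : ∀ w ∈ 𝒱, ∀ x ∈ B, nrm (fun y => w⁻¹ * y * w⁻¹⁻¹) x p ∈ B₁)
    (q : X ⧸ M) (hq : ∃ e ∈ Subgroup.closure 𝒱, e • q ≠ q) (x : X) (hx : x ∈ B) :
    ∏ o ∈ Finset.univ.filter (fun o => ∃ e ∈ Subgroup.closure 𝒱, e • q = o), f x o = 1 := by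
  set E := Subgroup.closure 𝒱 with hE
  set E₀ : Subgroup X := E ⊓ MulAction.stabilizer X q with hE₀
  have hE₀E : E₀ ≤ E := inf_le_left
  have hE₀ne : E₀ ≠ E := by
    intro h
    obtain ⟨e, he, heq⟩ := hq
    have : e ∈ E₀ := by rw [h]; exact he
    exact heq (MulAction.mem_stabilizer_iff.mp this.2)
  obtain ⟨E', hE₀E', hE'E, hE'ne, hE'⟩ := exists_max_normal E E₀ hEp hE₀E hE₀ne
  obtain ⟨w, hw𝒱, hwE'⟩ : ∃ w ∈ 𝒱, w ∉ E' := by
    by_contra hcon
    push Not at hcon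
    apply hE'ne
    apply le_antisymm hE'E
    rw [hE, Subgroup.closure_le]
    exact hcon
  have hwE : w ∈ E := Subgroup.subset_closure hw𝒱
  obtain ⟨hii, hiii⟩ := hE' w hwE hwE'
  set O' : Finset (X ⧸ M) := Finset.univ.filter (fun o => ∃ a ∈ E', a • q = o) with hO'
  have hO : Finset.univ.filter (fun o => ∃ e ∈ E, e • q = o) =
      (Finset.range p).biUnion (fun i => O'.image (fun o => w ^ i • o)) := by
    ext o
    simp only [Finset.mem_filter, Finset.mem_univ, true_and, Finset.mem_biUnion, Finset.mem_range,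
      Finset.mem_image, hO']
    constructor
    · rintro ⟨e, he, rfl⟩
      obtain ⟨i, hi, hie⟩ := hii e he
      refine ⟨i, hi, ((w ^ i)⁻¹ * e) • q, ⟨_, hie, rfl⟩, ?_⟩
      rw [smul_smul, mul_inv_cancel_left]
    · rintro ⟨i, hi, _, ⟨a, ha, rfl⟩, rfl⟩
      exact ⟨w ^ i * a, E.mul_mem (E.pow_mem hwE i) (hE'E ha), by rw [mul_smul]⟩
  have hdisj : Set.PairwiseDisjoint (↑(Finset.range p))
      (fun i => O'.image (fun o => w ^ i • o)) := by
    intro i hi j hj hij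
    rw [Function.onFun, Finset.disjoint_left]
    intro o ho1 ho2
    simp only [Finset.mem_image, hO', Finset.mem_filter, Finset.mem_univ, true_and] at ho1 ho2
    obtain ⟨_, ⟨a, ha, rfl⟩, rfl⟩ := ho1
    obtain ⟨_, ⟨b, hb, rfl⟩, hbo⟩ := ho2
    apply hij
    have hi' : i < p := Finset.mem_range.mp hi
    have hj' : j < p := Finset.mem_range.mp hj
    apply hiii i hi' j hj'
    -- `(w^j b)⁻¹ (w^i a)` stabilizes `q`
    have h1 : ((w ^ j * b)⁻¹ * (w ^ i * a)) • q = q := by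
      rw [mul_smul, mul_smul (w ^ i) a, ← hbo, ← mul_smul (w ^ j) b, inv_smul_smul]
    have h2 : (w ^ j * b)⁻¹ * (w ^ i * a) ∈ E₀ := by
      refine ⟨?_, MulAction.mem_stabilizer_iff.mpr h1⟩
      exact E.mul_mem (E.inv_mem (E.mul_mem (E.pow_mem hwE j) (hE'E hb)))
        (E.mul_mem (E.pow_mem hwE i) (hE'E ha))
    have h3 := hE₀E' h2
    have e1 : (w ^ j)⁻¹ * w ^ i = b * ((w ^ j * b)⁻¹ * (w ^ i * a)) * a⁻¹ := by group
    rw [e1]
    exact E'.mul_mem (E'.mul_mem hb h3) (E'.inv_mem ha)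
  have hPn : ∀ (n : ℕ) (o : X ⧸ M), ∏ i ∈ Finset.range n, f ((fun y => w⁻¹ * y * w⁻¹⁻¹)^[i] x) o =
      f (nrm (fun y => w⁻¹ * y * w⁻¹⁻¹) x n) o := by
    intro n o
    induction n with
    | zero =>
      rw [Finset.prod_range_zero]
      exact (f4 1 B₁.one_mem o).symm
    | succ n ih =>
      rw [Finset.prod_range_succ, ih]
      show _ = f (nrm _ x n * _) o
      rw [f2 _ (hBP (nrm_cj_mem B w⁻¹ hx n)) _ (hBP (cj_iterate_mem B w⁻¹ hx n))]
  have hstep : ∀ i ∈ Finset.range p, ∏ o ∈ O'.image (fun o => w ^ i • o), f x o =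
      ∏ o ∈ O', f ((fun y => w⁻¹ * y * w⁻¹⁻¹)^[i] x) o := by
    intro i _
    rw [Finset.prod_image (fun a _ b _ h => (MulAction.injective (w ^ i)) h)]
    apply Finset.prod_congr rfl
    intro o _
    rw [f3 x (hBP hx), cj_iterate, inv_pow, inv_inv]
  rw [hO, Finset.prod_biUnion hdisj, Finset.prod_congr rfl hstep, Finset.prod_comm]
  apply Finset.prod_eq_one
  intro o _
  rw [hPn]
  exact f4 _ (hnorm w hw𝒱 x hx) o

open Classical in
/-- the product over an invariant set without fixed points vanishes -/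
theorem invariant_prod_eq_one {p : ℕ} [Fact p.Prime] {X : Type*} [Group X] [Finite X] {M : Subgroup X}
    {A : Type*} [CommGroup A] [Fintype (X ⧸ M)]
    (f : X → X ⧸ M → A) (P B B₁ : Subgroup X) [hBn : B.Normal]
    (hBP : B ≤ P) (𝒱 : Set X) (hEp : IsPGroup p ↥(Subgroup.closure 𝒱))
    (f2 : ∀ x ∈ P, ∀ y ∈ P, ∀ q, f (x * y) q = f x q * f y q)
    (f3 : ∀ x ∈ P, ∀ (e : X) (q : X ⧸ M), f x (e • q) = f (e⁻¹ * x * e) q)
    (f4 : ∀ y ∈ B₁, ∀ q, f y q = 1)
    (hnorm : ∀ w ∈ 𝒱, ∀ x ∈ B, nrm (fun y => w⁻¹ * y * w⁻¹⁻¹) x p ∈ B₁)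
    (x : X) (hx : x ∈ B) :
    ∀ (n : ℕ) (Ω' : Finset (X ⧸ M)), Ω'.card = n →
      (∀ e ∈ Subgroup.closure 𝒱, ∀ o ∈ Ω', e • o ∈ Ω') →
      (∀ o ∈ Ω', ∃ e ∈ Subgroup.closure 𝒱, e • o ≠ o) → ∏ o ∈ Ω', f x o = 1 := by
  intro n
  induction n using Nat.strong_induction_on with
  | _ n ih =>
  intro Ω' hcard hinv hnf
  rcases Finset.eq_empty_or_nonempty Ω' with h | ⟨q, hq⟩
  · rw [h, Finset.prod_empty]
  · set O : Finset (X ⧸ M) :=
      Finset.univ.filter (fun o => ∃ e ∈ Subgroup.closure 𝒱, e • q = o) with hO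
    have hOsub : O ⊆ Ω' := by
      intro o ho
      simp only [hO, Finset.mem_filter, Finset.mem_univ, true_and] at ho
      obtain ⟨e, he, rfl⟩ := ho
      exact hinv e he q hq
    have hqO : q ∈ O := by
      simp only [hO, Finset.mem_filter, Finset.mem_univ, true_and]
      exact ⟨1, Subgroup.one_mem _, one_smul _ _⟩
    have h1 : ∏ o ∈ O, f x o = 1 :=
      orbit_prod_eq_one f P B B₁ hBP 𝒱 hEp f2 f3 f4 hnorm q (hnf q hq) x hx
    rw [← Finset.prod_sdiff hOsub, h1, mul_one]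
    refine ih (Ω' \ O).card ?_ (Ω' \ O) rfl ?_ ?_
    · rw [← hcard]
      exact Finset.card_lt_card (Finset.sdiff_ssubset hOsub ⟨q, hqO⟩)
    · intro e he o ho
      rw [Finset.mem_sdiff] at ho ⊢
      refine ⟨hinv e he o ho.1, ?_⟩
      intro h
      apply ho.2
      simp only [hO, Finset.mem_filter, Finset.mem_univ, true_and] at h ⊢
      obtain ⟨e', he', heq⟩ := h
      refine ⟨e⁻¹ * e', Subgroup.mul_mem _ (Subgroup.inv_mem _ he) he', ?_⟩
      rw [mul_smul, heq, inv_smul_smul]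
    · intro o ho
      exact hnf o (Finset.mem_sdiff.mp ho).1

end orbits

section main

variable {p : ℕ} [Fact p.Prime] {X : Type*} [Group X] [Finite X]

/-- `S` normalizes the subgroup generated by a set weakly closed in `S` -/
theorem sylow_le_normalizer_closure (S : Sylow p X) (𝒱 : Set X) (h𝒱S : 𝒱 ⊆ (S : Subgroup X))
    (h𝒱conj : ∀ v ∈ 𝒱, ∀ g : X, g⁻¹ * v * g ∈ (S : Subgroup X) → g⁻¹ * v * g ∈ 𝒱) :
    (S : Subgroup X) ≤ Subgroup.normalizer ((Subgroup.closure 𝒱 : Subgroup X) : Set X) := by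
  intro s hs
  apply mem_normalizer_of_conj_mem'
  apply conj_closure_le
  intro v hv
  apply Subgroup.subset_closure
  apply h𝒱conj v hv
  exact Subgroup.mul_mem _ (Subgroup.mul_mem _ (Subgroup.inv_mem _ hs) (h𝒱S hv)) hs

/-- a coset of `N(⟨𝒱⟩)` fixed by `⟨𝒱⟩` is the trivial coset -/
theorem fixed_coset (S : Sylow p X) (𝒱 : Set X) (h𝒱S : 𝒱 ⊆ (S : Subgroup X))
    (h𝒱conj : ∀ v ∈ 𝒱, ∀ g : X, g⁻¹ * v * g ∈ (S : Subgroup X) → g⁻¹ * v * g ∈ 𝒱)
    (t : X) (hfix : ∀ e ∈ Subgroup.closure 𝒱,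
      t⁻¹ * e * t ∈ Subgroup.normalizer ((Subgroup.closure 𝒱 : Subgroup X) : Set X)) :
    t ∈ Subgroup.normalizer ((Subgroup.closure 𝒱 : Subgroup X) : Set X) := by
  set E := Subgroup.closure 𝒱 with hE
  set M := Subgroup.normalizer ((E : Subgroup X) : Set X) with hM
  have hES : E ≤ (S : Subgroup X) := (Subgroup.closure_le _).mpr h𝒱S
  have hSM : (S : Subgroup X) ≤ M := sylow_le_normalizer_closure S 𝒱 h𝒱S h𝒱conj
  have hSyl : IsSylowIn p (S : Subgroup X) M := IsSylowIn.of_sylow_le S hSM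
  have hEp : IsPGroup p ↥E := S.isPGroup'.to_le hES
  set B : Subgroup X := E.map (MulAut.conj t⁻¹).toMonoidHom with hB
  have hBp : IsPGroup p ↥B := hEp.map _
  have hBmem : ∀ e ∈ E, t⁻¹ * e * t ∈ B := by
    intro e he
    have := conj_mem_map_conj E t⁻¹ he
    rwa [inv_inv] at this
  have hBM : B ≤ M := by
    rintro _ ⟨e, he, rfl⟩
    have := hfix e he
    show t⁻¹ * e * t⁻¹⁻¹ ∈ M
    rwa [inv_inv]
  obtain ⟨T', hT', hBT'⟩ := exists_isSylowIn_ge hBp hBM
  obtain ⟨h, hhM, hconj⟩ := hSyl.conj hT'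
  have hg : ∀ e ∈ E, (t * h)⁻¹ * e * (t * h) ∈ (S : Subgroup X) := by
    intro e he
    have h1 : t⁻¹ * e * t ∈ T' := hBT' (hBmem e he)
    rw [hconj, mem_map_conj] at h1
    have e1 : (t * h)⁻¹ * e * (t * h) = h⁻¹ * (t⁻¹ * e * t) * h := by group
    rw [e1]; exact h1
  have h2 : t * h ∈ M := by
    apply mem_normalizer_of_conj_mem'
    apply conj_closure_le
    intro v hv
    apply Subgroup.subset_closure
    exact h𝒱conj v hv _ (hg v (Subgroup.subset_closure hv))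
  have e2 : t = (t * h) * h⁻¹ := by group
  rw [e2]
  exact M.mul_mem h2 (M.inv_mem hhM)

/-- existence of chief factors below a nontrivial normal subgroup -/
theorem exists_chief_below (B : Subgroup X) [hBn : B.Normal] (hB : B ≠ ⊥) :
    ∃ B₁ : Subgroup X, Cfsg.IsChiefFactor B B₁ := by
  have h0 : (fun N : Subgroup X => N.Normal ∧ N < B) ⊥ :=
    ⟨inferInstance, bot_lt_iff_ne_bot.mpr hB⟩
  obtain ⟨B₁, -, hmax⟩ := Finite.exists_le_maximal (p := fun N : Subgroup X => N.Normal ∧ N < B) h0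
  refine ⟨B₁, hmax.prop.2, hBn, hmax.prop.1, ?_⟩
  intro N hN hB₁N hNB
  by_cases h : N = B
  · exact Or.inr h
  · left
    have h1 : N.Normal ∧ N < B := ⟨hN, lt_of_le_of_ne hNB h⟩
    exact le_antisymm (hmax.le_of_ge h1 hB₁N) hB₁N

open Classical in
/-- **Main theorem**: `P ∩ X' ≤ N(⟨𝒱⟩)'` for a weakly closed set of Engel elements. -/
theorem inf_commutator_le_of_engel (S : Sylow p X) (P : Subgroup X) [hPn : P.Normal]
    (hPp : IsPGroup p ↥P) (hPS : P ≤ (S : Subgroup X))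
    (𝒱 : Set X) (h𝒱S : 𝒱 ⊆ (S : Subgroup X))
    (h𝒱conj : ∀ v ∈ 𝒱, ∀ g : X, g⁻¹ * v * g ∈ (S : Subgroup X) → g⁻¹ * v * g ∈ 𝒱)
    (h𝒱inv : ∀ v ∈ 𝒱, v⁻¹ ∈ 𝒱)
    (h𝒱eng : ∀ v ∈ 𝒱, Eng p P v) :
    P ⊓ commutator X ≤ ⁅Subgroup.normalizer ((Subgroup.closure 𝒱 : Subgroup X) : Set X),
      Subgroup.normalizer ((Subgroup.closure 𝒱 : Subgroup X) : Set X)⁆ := by
  set E := Subgroup.closure 𝒱 with hE
  set M := Subgroup.normalizer ((E : Subgroup X) : Set X) with hM
  have hES : E ≤ (S : Subgroup X) := (Subgroup.closure_le _).mpr h𝒱S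
  have hSM : (S : Subgroup X) ≤ M := sylow_le_normalizer_closure S 𝒱 h𝒱S h𝒱conj
  have hEM : E ≤ M := hES.trans hSM
  have hPM : P ≤ M := hPS.trans hSM
  have hEp : IsPGroup p ↥E := S.isPGroup'.to_le hES
  have hMX : ⁅M, M⁆ ≤ commutator X := by
    rw [commutator_def]; exact Subgroup.commutator_mono le_top le_top
  haveI : Fintype (X ⧸ M) := Fintype.ofFinite _
  -- induction over the normal subgroups below `P`
  have key : ∀ (n : ℕ) (B : Subgroup X), B.Normal → B ≤ P → Nat.card ↥B = n →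
      B ⊓ commutator X ≤ ⁅M, M⁆ := by
    intro n
    induction n using Nat.strong_induction_on with
    | _ n ih =>
    intro B hBn hBP hcard
    haveI := hBn
    by_cases hB : B = ⊥
    · rw [hB]
      intro x hx
      have : x = 1 := hx.1
      rw [this]; exact Subgroup.one_mem _
    obtain ⟨B₁, hch⟩ := exists_chief_below B hB
    have hB₁B : B₁ < B := hch.1
    haveI hB₁n : B₁.Normal := hch.2.2.1
    have hB₁P : B₁ ≤ P := hB₁B.le.trans hBP
    have hB₁M : B₁ ≤ M := hB₁P.trans hPM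
    have hB₁card : Nat.card ↥B₁ < n := by
      rw [← hcard]
      have h1 : Nat.card ↥B₁ ≤ Nat.card ↥B := Subgroup.card_le_of_le hB₁B.le
      refine lt_of_le_of_ne h1 ?_
      intro h
      exact hB₁B.ne (Subgroup.eq_of_le_of_card_ge hB₁B.le h.ge)
    have ihB₁ := ih _ hB₁card B₁ hB₁n hB₁P rfl
    -- the homomorphism
    set D : Subgroup (Abelianization ↥M) := (B₁.subgroupOf M).map Abelianization.of with hD
    set ϕ : ↥M →* Abelianization ↥M ⧸ D := (QuotientGroup.mk' D).comp Abelianization.of with hϕ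
    have hker : ∀ (y : X) (hy : y ∈ B₁), ϕ ⟨y, hB₁M hy⟩ = 1 := by
      intro y hy
      show ((Abelianization.of ⟨y, hB₁M hy⟩ : Abelianization ↥M) : Abelianization ↥M ⧸ D) = 1
      rw [QuotientGroup.eq_one_iff]
      exact ⟨⟨y, hB₁M hy⟩, Subgroup.mem_subgroupOf.mpr hy, rfl⟩
    have f2 : ∀ x ∈ P, ∀ y ∈ P, ∀ q, Fbar ϕ (x * y) q = Fbar ϕ x q * Fbar ϕ y q :=
      fun x hx y hy q => Fbar_mul ϕ P hPM hx hy q
    have f3 : ∀ x ∈ P, ∀ (e : X) (q : X ⧸ M), Fbar ϕ x (e • q) = Fbar ϕ (e⁻¹ * x * e) q :=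
      fun x hx e q => Fbar_smul ϕ P hPM hx e q
    have f4 : ∀ y ∈ B₁, ∀ q, Fbar ϕ y q = 1 :=
      fun y hy q => Fbar_eq_one ϕ B₁ hB₁M hker hy q
    have hnorm : ∀ w ∈ 𝒱, ∀ x ∈ B, nrm (fun y => w⁻¹ * y * w⁻¹⁻¹) x p ∈ B₁ := by
      intro w hw x hx
      exact engel_norm_mem B B₁ hch (hPp.to_le hBP) w⁻¹
        ((h𝒱eng w⁻¹ (h𝒱inv w hw)) B B₁ hch hBP) x hx
    intro x hx
    have hxB : x ∈ B := hx.1
    have hxP : x ∈ P := hBP hxB
    have hxM : x ∈ M := hPM hxP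
    -- evaluation of the transfer
    have htr : MonoidHom.transfer ϕ x = ϕ ⟨x, hxM⟩ := by
      rw [transfer_eq_prod_Fbar ϕ P hPM hxP]
      rw [← Finset.prod_erase_mul Finset.univ _ (Finset.mem_univ ((1 : X) : X ⧸ M))]
      have h1 : ∏ o ∈ Finset.univ.erase ((1 : X) : X ⧸ M), Fbar ϕ x o = 1 := by
        refine invariant_prod_eq_one (Fbar ϕ) P B B₁ hBP 𝒱 hEp f2 f3 f4 hnorm x hxB _ _ rfl ?_ ?_
        · intro e he o ho
          rw [Finset.mem_erase] at ho ⊢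
          refine ⟨?_, Finset.mem_univ _⟩
          intro h
          apply ho.1
          have h2 : o = e⁻¹ • ((1 : X) : X ⧸ M) := by rw [← h, inv_smul_smul]
          rw [h2]
          show ((e⁻¹ * 1 : X) : X ⧸ M) = ((1 : X) : X ⧸ M)
          rw [QuotientGroup.eq]
          simpa using hEM he
        · intro o ho
          by_contra hcon
          push Not at hcon
          apply (Finset.mem_erase.mp ho).1
          induction o using QuotientGroup.induction_on with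
          | H t =>
            have h2 : t ∈ M := by
              apply fixed_coset S 𝒱 h𝒱S h𝒱conj t
              intro e he
              have h3 : ((e * t : X) : X ⧸ M) = (t : X ⧸ M) := hcon e he
              have h4 := QuotientGroup.eq.mp h3.symm
              have e1 : t⁻¹ * (e * t) = t⁻¹ * e * t := by group
              rw [← e1]; exact h4
            rw [QuotientGroup.eq]
            simpa using h2
      rw [h1, one_mul, Fbar_mk ϕ P hPM hxP]
      unfold F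
      have e1 : (1 : X)⁻¹ * x * 1 = x := by group
      rw [e1, ext1_of_mem ϕ hxM]
    have h1 : MonoidHom.transfer ϕ x = 1 := Abelianization.commutator_subset_ker _ hx.2
    rw [htr] at h1
    have h2 : (Abelianization.of (⟨x, hxM⟩ : ↥M) : Abelianization ↥M) ∈ D :=
      (QuotientGroup.eq_one_iff _).mp h1
    obtain ⟨w', hw', hwx⟩ := h2
    have h3 : w'⁻¹ * ⟨x, hxM⟩ ∈ commutator ↥M := by
      rw [← Abelianization.ker_of, MonoidHom.mem_ker, map_mul, map_inv, hwx, inv_mul_cancel]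
    have h4 : (w' : X)⁻¹ * x ∈ ⁅M, M⁆ := by
      rw [← Subgroup.map_subtype_commutator]
      exact ⟨_, h3, rfl⟩
    have hw'B₁ : (w' : X) ∈ B₁ := Subgroup.mem_subgroupOf.mp hw'
    have h5 : (w' : X) ∈ commutator X := by
      have e1 : (w' : X) = x * ((w' : X)⁻¹ * x)⁻¹ := by group
      rw [e1]
      exact Subgroup.mul_mem _ hx.2 (Subgroup.inv_mem _ (hMX h4))
    have h6 : (w' : X) ∈ ⁅M, M⁆ := ihB₁ ⟨hw'B₁, h5⟩
    have e2 : x = (w' : X) * ((w' : X)⁻¹ * x) := by group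
    rw [e2]
    exact Subgroup.mul_mem _ h6 h4
  exact key _ P hPn le_rfl rfl

end main

end Cfsg.Agent.Lib.Lead.EngelTransfer
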