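import Cfsg.Agent.Lib.Helper5.Chev.CmAll
import Cfsg.Agent.Lib.Helper5.Chev.HAll
import Mathlib

/-!
# Exceptional isogenies: the symbolic check of the commutator relators (lead)

A map `x_r(t) ↦ x_{r̄}(t^{λ_r})` preserves the commutator formula in characteristic `p` as soon as a
boolean comparison of the terms of the two commutator formulas modulo `p` succeeds.
-/

set_option autoImplicit false

namespace Cfsg.Agent.ExcIso
open Cfsg Cfsg.Lie Cfsg.Agent.Lib.Helper5.Chev
open scoped Matrix

/-- a symbolic term `x_k(c t^a u^b)` -/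
abbrev Term := ℕ × ℤ × ℕ × ℕ

section sym

variable (D : ChevalleyDatum) (p : ℕ) (bar lam : ℕ → ℕ)

/-- the image of the terms of the commutator formula of `(r, s)` -/
def symImg (r s : ℕ) : List Term :=
  (D.commTerms r s).map fun c =>
    (bar c.1, c.2.1 ^ (lam c.1) * (-1) ^ (c.2.2.1 * lam c.1), c.2.2.1 * lam c.1, c.2.2.2 * lam c.1)

/-- the terms of the commutator formula of `(r̄, s̄)` at the image parameters -/
def symTgt (r s : ℕ) : List Term :=
  (D.commTerms (bar r) (bar s)).map fun c =>
    (c.1, c.2.1 * (-1) ^ c.2.2.1, c.2.2.1 * lam r, c.2.2.2 * lam s)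

/-- reduction of the coefficients modulo `p`, dropping the vanishing terms -/
def nrm (L : List Term) : List Term :=
  (L.map fun x => ((x.1, x.2.1 % (p : ℤ), x.2.2.1, x.2.2.2) : Term)).filter fun x => decide (x.2.1 ≠ 0)

/-- the root elements of `k₁` and `k₂` commute in characteristic `p` -/
def commPb (k1 k2 : ℕ) : Bool :=
  decide (k1 < D.nroots) && decide (k2 < D.nroots) && decide (k2 ≠ k1) && decide (k2 ≠ D.neg k1) &&
    (D.commTerms k1 k2).all fun c => decide (c.2.1 % (p : ℤ) = 0)

def pairwiseb (P : ℕ → ℕ → Bool) : List Term → Bool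
  | [] => true
  | x :: L => L.all (fun y => P x.1 y.1) && pairwiseb P L

/-- the boolean check of the pair `(r, s)` -/
def relb (r s : ℕ) : Bool :=
  (D.commTerms r s).all (fun c => decide (c.1 < D.nroots)) &&
  (decide (nrm p (symImg D bar lam r s) = nrm p (symTgt D bar lam r s)) ||
    (decide ((nrm p (symTgt D bar lam r s)).Perm (nrm p (symImg D bar lam r s))) &&
      pairwiseb (commPb D p) (nrm p (symTgt D bar lam r s))))

end sym

section eval

variable {K : Type*} [Field K] {D : ChevalleyDatum}

/-- evaluation of a symbolic term -/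
def evalT (t u : K) (x : Term) : ℕ × K := (x.1, (x.2.1 : K) * t ^ x.2.2.1 * u ^ x.2.2.2)

/-- the image of a word -/
def imgW (bar lam : ℕ → ℕ) (w : List (ℕ × K)) : List (ℕ × K) :=
  w.map fun q => (bar q.1, q.2 ^ lam q.1)

theorem imgW_commWord (bar lam : ℕ → ℕ) (r s : ℕ) (t u : K) :
    imgW bar lam (D.commWord K r s t u) = (symImg D bar lam r s).map (evalT t u) := by
  unfold imgW ChevalleyDatum.commWord symImg
  rw [List.map_map, List.map_map]
  apply List.map_congr_left
  intro c _
  simp only [Function.comp, evalT]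
  congr 1
  push_cast
  rw [neg_pow t]
  simp only [mul_pow, ← pow_mul]
  ring

theorem commWord_bar (bar lam : ℕ → ℕ) (r s : ℕ) (t u : K) :
    D.commWord K (bar r) (bar s) (t ^ lam r) (u ^ lam s) = (symTgt D bar lam r s).map (evalT t u) := by
  unfold ChevalleyDatum.commWord symTgt
  rw [List.map_map]
  apply List.map_congr_left
  intro c _
  simp only [Function.comp, evalT]
  congr 1
  push_cast
  rw [neg_pow (t ^ lam r)]
  simp only [← pow_mul]
  ring

theorem wordMat_cons (a : ℕ × K) (w : List (ℕ × K)) :
    D.wordMat K (a :: w) = D.x K a.1 a.2 * D.wordMat K w := by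
  unfold ChevalleyDatum.wordMat
  rw [List.map_cons, List.prod_cons]

theorem wordMat_nil : D.wordMat K ([] : List (ℕ × K)) = 1 := rfl

theorem cast_emod (p : ℕ) [CharP K p] (c : ℤ) : ((c % (p : ℤ) : ℤ) : K) = (c : K) := by
  conv_rhs => rw [← Int.emod_add_mul_ediv c (p : ℤ)]
  push_cast
  rw [CharP.cast_eq_zero K p, zero_mul, add_zero]

theorem wordMat_nrm (p : ℕ) [CharP K p] (t u : K) (L : List Term) :
    D.wordMat K ((nrm p L).map (evalT t u)) = D.wordMat K (L.map (evalT t u)) := by
  induction L with
  | nil => rfl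
  | cons x L ih =>
    unfold nrm at ih ⊢
    rw [List.map_cons, List.map_cons, wordMat_cons, List.filter_cons]
    by_cases h : x.2.1 % (p : ℤ) = 0
    · have h0 : (x.2.1 : K) = 0 := by rw [← cast_emod p, h, Int.cast_zero]
      simp only [ne_eq, h, not_true_eq_false, decide_false, Bool.false_eq_true, if_false]
      rw [ih]
      simp only [evalT, h0, zero_mul, x_zero, one_mul]
    · simp only [ne_eq, h, not_false_eq_true, decide_true, if_true]
      rw [List.map_cons, wordMat_cons, ih]
      simp only [evalT, cast_emod p]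


theorem wordMat_eq_one_of_zero (w : List (ℕ × K)) (h : ∀ q ∈ w, q.2 = 0) : D.wordMat K w = 1 := by
  induction w with
  | nil => rfl
  | cons a w ih =>
    rw [wordMat_cons, h a (List.mem_cons_self), x_zero, one_mul]
    exact ih fun q hq => h q (List.mem_cons_of_mem _ hq)

/-- soundness of `commPb` -/
theorem commute_of_commPb (hD : D ∈ [chevG2, chevB2, chevD4, chevF4, chevE6, chevE7, chevE8])
    (p : ℕ) [CharP K p] (k1 k2 : ℕ) (h : commPb D p k1 k2 = true) (a b : K) :
    Commute (D.x K k1 a) (D.x K k2 b) := by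
  unfold commPb at h
  simp only [Bool.and_eq_true, decide_eq_true_eq, List.all_eq_true] at h
  obtain ⟨⟨⟨⟨h1, h2⟩, h3⟩, h4⟩, h5⟩ := h
  have e := comm_formula (F := K) D hD k1 k2 h1 h2 h3 h4 a b
  have hw : D.wordMat K (D.commWord K k1 k2 a b) = 1 := by
    apply wordMat_eq_one_of_zero
    intro q hq
    unfold ChevalleyDatum.commWord at hq
    rw [List.mem_map] at hq
    obtain ⟨c, hc, rfl⟩ := hq
    have h0 : (c.2.1 : K) = 0 := by rw [← cast_emod p, h5 c hc, Int.cast_zero]
    simp only [h0, zero_mul]
  rw [hw, mul_one] at e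
  exact e.symm

theorem pairwise_of_pairwiseb (P : ℕ → ℕ → Bool) (L : List Term) (h : pairwiseb P L = true) :
    L.Pairwise fun x y => P x.1 y.1 = true := by
  induction L with
  | nil => exact List.Pairwise.nil
  | cons x L ih =>
    unfold pairwiseb at h
    rw [Bool.and_eq_true, List.all_eq_true] at h
    exact List.Pairwise.cons (fun y hy => h.1 y hy) (ih h.2)

/-- soundness of `relb`: the image of the commutator word is the commutator word of the images -/
theorem wordMat_imgW_commWord (hD : D ∈ [chevG2, chevB2, chevD4, chevF4, chevE6, chevE7, chevE8])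
    (p : ℕ) [CharP K p] (bar lam : ℕ → ℕ) (r s : ℕ) (h : relb D p bar lam r s = true) (t u : K) :
    D.wordMat K (imgW bar lam (D.commWord K r s t u))
      = D.wordMat K (D.commWord K (bar r) (bar s) (t ^ lam r) (u ^ lam s)) := by
  rw [imgW_commWord, commWord_bar, ← wordMat_nrm p, ← wordMat_nrm p t u (symTgt D bar lam r s)]
  unfold relb at h
  rw [Bool.and_eq_true, Bool.or_eq_true] at h
  rcases h.2 with h1 | h1
  · rw [of_decide_eq_true h1]
  · rw [Bool.and_eq_true] at h1
    have hperm := of_decide_eq_true h1.1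
    have hpw := pairwise_of_pairwiseb _ _ h1.2
    unfold ChevalleyDatum.wordMat
    symm
    apply List.Perm.prod_eq'
    · exact (hperm.map _).map _
    · rw [List.pairwise_map, List.pairwise_map]
      refine hpw.imp ?_
      intro x y hxy
      exact commute_of_commPb hD p _ _ hxy _ _

end eval

end Cfsg.Agent.ExcIso
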