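import Cfsg.Agent.Lib.Lead.ExcIsoA
import Cfsg.Agent.Lib.Helper8.Aut.DiagOfAut
import Cfsg.Prelude.Def_Steinberg
import Mathlib

/-!
# Exceptional isogenies: the homomorphism out of the Steinberg group (lead)
-/

set_option autoImplicit false

namespace Cfsg.Agent.ExcIso
open Cfsg Cfsg.Lie Cfsg.Agent.Lib.Helper5.Chev Cfsg.Agent.Lib.Helper8.Aut
open scoped Matrix

/-- the certificate of an exceptional isogeny `x_r(t) ↦ x_{r̄}(t^{λ_r})` in characteristic `p` -/
structure IsoCert (D : ChevalleyDatum) (p : ℕ) (bar lam : ℕ → ℕ) : Prop where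
  bar_lt : ∀ r < D.nroots, bar r < D.nroots
  lam_eq : ∀ r < D.nroots, lam r = 1 ∨ lam r = p
  neg_lt : ∀ r < D.nroots, D.neg r < D.nroots
  bar_neg : ∀ r < D.nroots, bar (D.neg r) = D.neg (bar r)
  lam_neg : ∀ r < D.nroots, lam (D.neg r) = lam r
  bar_bar : ∀ r < D.nroots, bar (bar r) = r
  lam_mul : ∀ r < D.nroots, lam r * lam (bar r) = p
  neg_neg : ∀ r < D.nroots, D.neg (D.neg r) = r
  rel : ∀ r < D.nroots, ∀ s < D.nroots, s ≠ r → s ≠ D.neg r → relb D p bar lam r s = true

/-- the boolean form of the certificate -/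
def certb (D : ChevalleyDatum) (p : ℕ) (bar lam : ℕ → ℕ) : Bool :=
  (List.range D.nroots).all fun r =>
    decide (bar r < D.nroots) && (decide (lam r = 1) || decide (lam r = p)) &&
    decide (D.neg r < D.nroots) && decide (bar (D.neg r) = D.neg (bar r)) &&
    decide (lam (D.neg r) = lam r) && decide (bar (bar r) = r) && decide (lam r * lam (bar r) = p) &&
    decide (D.neg (D.neg r) = r) &&
    (List.range D.nroots).all fun s =>
      decide (s = r) || decide (s = D.neg r) || relb D p bar lam r s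

theorem isoCert_of_certb {D : ChevalleyDatum} {p : ℕ} {bar lam : ℕ → ℕ}
    (h : certb D p bar lam = true) : IsoCert D p bar lam := by
  unfold certb at h
  rw [List.all_eq_true] at h
  have h' : ∀ r < D.nroots, _ := fun r hr => h r (List.mem_range.2 hr)
  simp only [Bool.and_eq_true, Bool.or_eq_true, decide_eq_true_eq, List.all_eq_true,
    List.mem_range] at h'
  refine ⟨fun r hr => (h' r hr).1.1.1.1.1.1.1.1, fun r hr => (h' r hr).1.1.1.1.1.1.1.2,
    fun r hr => (h' r hr).1.1.1.1.1.1.2, fun r hr => (h' r hr).1.1.1.1.1.2,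
    fun r hr => (h' r hr).1.1.1.1.2, fun r hr => (h' r hr).1.1.1.2, fun r hr => (h' r hr).1.1.2,
    fun r hr => (h' r hr).1.2, ?_⟩
  intro r hr s hs h1 h2
  rcases (h' r hr).2 s hs with (h3 | h3) | h3
  · exact absurd h3 h1
  · exact absurd h3 h2
  · exact h3

section hom

variable {K : Type*} [Field K] {D : ChevalleyDatum} {p : ℕ} {bar lam : ℕ → ℕ}

theorem pow_lam_add [Fact p.Prime] [CharP K p] {l : ℕ} (hl : l = 1 ∨ l = p) (a b : K) :
    (a + b) ^ l = a ^ l + b ^ l := by
  rcases hl with rfl | rfl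
  · simp
  · exact add_pow_char a b l

theorem pow_lam_neg [Fact p.Prime] [CharP K p] {l : ℕ} (hl : l = 1 ∨ l = p) (a : K) :
    (-a) ^ l = -(a ^ l) := by
  rcases hl with rfl | rfl
  · simp
  · rw [neg_pow, neg_one_pow_char K l, neg_one_mul]

/-- the generator map -/
noncomputable def genMap (hadd : AllAdd K D) (bar lam : ℕ → ℕ) (q : Fin D.nroots × K) : ↥(D.group K) :=
  xG D hadd (bar q.1) (q.2 ^ lam q.1)

theorem lift_stX (hadd : AllAdd K D) (r : ℕ) (hr : r < D.nroots) (t : K) :
    FreeGroup.lift (genMap hadd bar lam) (D.stX r t) = xG D hadd (bar r) (t ^ lam r) := by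
  unfold ChevalleyDatum.stX
  rw [dif_pos hr, FreeGroup.lift_apply_of]
  rfl

theorem lift_stWord (hadd : AllAdd K D) (w : List (ℕ × K)) (hw : ∀ q ∈ w, q.1 < D.nroots) :
    ((FreeGroup.lift (genMap hadd bar lam) (D.stWord w) : ↥(D.group K)) : GL D.Idx K).val
      = D.wordMat K (imgW bar lam w) := by
  induction w with
  | nil =>
    unfold ChevalleyDatum.stWord imgW
    simp [ChevalleyDatum.wordMat]
  | cons a w ih =>
    have e : D.stWord (a :: w) = D.stX a.1 a.2 * D.stWord w := by
      unfold ChevalleyDatum.stWord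
      rw [List.map_cons, List.prod_cons]
    rw [e, map_mul, lift_stX hadd a.1 (hw a List.mem_cons_self)]
    have e2 : imgW bar lam (a :: w) = (bar a.1, a.2 ^ lam a.1) :: imgW bar lam w := rfl
    rw [e2, wordMat_cons, ← ih (fun q hq => hw q (List.mem_cons_of_mem _ hq))]
    rfl


theorem xG_mul (hadd : AllAdd K D) (r : ℕ) (a b : K) :
    xG D hadd r a * xG D hadd r b = xG D hadd r (a + b) := by
  apply group_ext
  rw [group_mul_val, xG_val, xG_val, xG_val]
  exact hadd.x_add r a b

/-- the image of the word `h_r(t)` -/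
theorem imgW_hWord [Fact p.Prime] [CharP K p] (c : IsoCert D p bar lam) (r : ℕ) (hr : r < D.nroots)
    (t : K) : imgW bar lam (D.hWord r t) = D.hWord (bar r) (t ^ lam r) := by
  have hl := c.lam_eq r hr
  unfold ChevalleyDatum.hWord ChevalleyDatum.nWord imgW
  simp only [List.cons_append, List.nil_append, List.map_cons, List.map_nil, c.bar_neg r hr,
    c.lam_neg r hr, pow_lam_neg hl, inv_pow, one_pow]

variable (hD : D ∈ [chevG2, chevB2, chevD4, chevF4, chevE6, chevE7, chevE8])
include hD

/-- all Steinberg relators are killed by the generator map -/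
theorem lift_rels [Fact p.Prime] [CharP K p] (c : IsoCert D p bar lam) :
    ∀ g ∈ D.steinbergRels K, FreeGroup.lift (genMap (allAdd_all (F := K) D hD) bar lam) g = 1 := by
  have hadd := allAdd_all (F := K) D hD
  intro g hg
  unfold ChevalleyDatum.steinbergRels at hg
  rcases hg with (hg | hg) | hg
  · -- (R1)
    obtain ⟨r, t₁, t₂, hr, rfl⟩ := hg
    rw [map_mul, map_mul, map_inv, lift_stX _ r hr, lift_stX _ r hr, lift_stX _ r hr, xG_mul,
      pow_lam_add (c.lam_eq r hr), mul_inv_cancel]
  · -- (R2)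
    obtain ⟨r, s, t, u, hr, hs, hsr, hsn, rfl⟩ := hg
    have hbr := c.bar_lt r hr
    have hbs := c.bar_lt s hs
    have h1 : bar s ≠ bar r := fun h => hsr (by rw [← c.bar_bar s hs, h, c.bar_bar r hr])
    have h2 : bar s ≠ D.neg (bar r) := by
      intro h
      apply hsn
      rw [← c.bar_neg r hr] at h
      rw [← c.bar_bar s hs, h, c.bar_bar _ (c.neg_lt r hr)]
    have hrel := c.rel r hr s hs hsr hsn
    have hlt : ∀ q ∈ D.commWord K r s t u, q.1 < D.nroots := by
      intro q hq
      unfold relb at hrel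
      rw [Bool.and_eq_true, List.all_eq_true] at hrel
      unfold ChevalleyDatum.commWord at hq
      rw [List.mem_map] at hq
      obtain ⟨c', hc', rfl⟩ := hq
      exact of_decide_eq_true (hrel.1 c' hc')
    have hW := lift_stWord (bar := bar) (lam := lam) (allAdd_all (F := K) D hD) (D.commWord K r s t u) hlt
    rw [wordMat_imgW_commWord hD p bar lam r s hrel t u] at hW
    have hcf := comm_formula (F := K) D hD (bar r) (bar s) hbr hbs h1 h2 (t ^ lam r) (u ^ lam s)
    have key : xG D (allAdd_all (F := K) D hD) (bar s) (u ^ lam s) * xG D (allAdd_all (F := K) D hD) (bar r) (t ^ lam r)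
        = xG D (allAdd_all (F := K) D hD) (bar r) (t ^ lam r) * xG D (allAdd_all (F := K) D hD) (bar s) (u ^ lam s) *
          FreeGroup.lift (genMap (allAdd_all (F := K) D hD) bar lam) (D.stWord (D.commWord K r s t u)) := by
      apply group_ext
      rw [group_mul_val, group_mul_val, group_mul_val, xG_val, xG_val, hW]
      exact hcf
    rw [map_mul, map_mul, map_mul, map_mul, map_inv, map_inv, map_inv, lift_stX _ r hr,
      lift_stX _ s hs, mul_assoc (_⁻¹ * _⁻¹), key]
    group
  · -- (R3)
    obtain ⟨r, t₁, t₂, hr, ht₁, ht₂, rfl⟩ := hg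
    have hbr := c.bar_lt r hr
    have hlt : ∀ t : K, ∀ q ∈ D.hWord r t, q.1 < D.nroots := by
      intro t q hq
      unfold ChevalleyDatum.hWord ChevalleyDatum.nWord at hq
      simp only [List.cons_append, List.nil_append, List.mem_cons, List.not_mem_nil, or_false] at hq
      rcases hq with rfl | rfl | rfl | rfl | rfl | rfl <;> first | exact hr | exact c.neg_lt r hr
    have hH : ∀ t : K, ((FreeGroup.lift (genMap (allAdd_all (F := K) D hD) bar lam) (D.stH r t) :
        ↥(D.group K)) : GL D.Idx K).val = D.hMat K (bar r) (t ^ lam r) := by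
      intro t
      unfold ChevalleyDatum.stH
      rw [lift_stWord _ _ (hlt t), imgW_hWord c r hr]
      rfl
    rw [map_mul, map_mul, map_inv, mul_inv_eq_one]
    apply group_ext
    rw [group_mul_val, hH, hH, hH, mul_pow]
    exact (hform_all' (F := K) D hD (bar r) hbr).mul _ _ (pow_ne_zero _ ht₁) (pow_ne_zero _ ht₂)

/-- the homomorphism `x̄_r(t) ↦ x_{r̄}(t^{λ_r})` from the Steinberg group -/
noncomputable def stHom [Fact p.Prime] [CharP K p] (c : IsoCert D p bar lam) :
    D.SteinbergGroup K →* ↥(D.group K) :=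
  PresentedGroup.toGroup (lift_rels hD c)

theorem stHom_stGen [Fact p.Prime] [CharP K p] (c : IsoCert D p bar lam) (r : ℕ) (hr : r < D.nroots)
    (t : K) : (((stHom hD c (D.stGen K r t) : ↥(D.group K)) : GL D.Idx K) : Matrix D.Idx D.Idx K)
      = D.x K (bar r) (t ^ lam r) := by
  unfold stHom ChevalleyDatum.stGen ChevalleyDatum.stX
  rw [dif_pos hr]
  erw [PresentedGroup.toGroup.of]
  rfl

end hom

end Cfsg.Agent.ExcIso
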