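import Cfsg.Agent.Lib.Lead.RootEmbA
import Cfsg.Agent.Lib.Helper5.MS.StemUniv
import Cfsg.Agent.Lib.Helper5.St.R3
import Cfsg.Agent.Lib.Helper5.St.Main

/-!
# The Schur multiplier of an adjoint Chevalley group from its centrally closed cover (lead)
-/

set_option autoImplicit false

namespace Cfsg.Agent.RootEmb

open Cfsg.Lie Cfsg.Agent.Lib.Helper5.Chev Cfsg.Agent.Lib.Helper5.St Cfsg.Agent.Lib.Helper5.Tw
  Cfsg.Agent.Lib.Helper5.UC

universe u

section kernel

variable {K : Type*} [Field K] {D : ChevalleyDatum} {Γ : Type*} [Group Γ] (R : RData K D Γ)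
  (hmul : ∀ i < D.rank, ∀ t₁ t₂ : K, t₁ ≠ 0 → t₂ ≠ 0 →
    R.hbar i t₁ * R.hbar i t₂ = R.hbar i (t₁ * t₂))
  (hcomm : Pairwise fun i j : Fin D.rank =>
      ∀ x y : Kˣ, Commute (R.hhom hmul i x) (R.hhom hmul j y))

/-- the kernel is the image of the kernel of the matrix of the Cartan integers on the torus -/
theorem theta_ker_eq_map {T : FD} {Bs : List ℕ} {gH : ℕ} {baseH : List ℕ} {fuel : ℕ}
    (C : StCtx K D T Bs gH baseH fuel) :
    R.θ.ker = (zact (G := Kˣ) (cartanM D)).ker.map (torusHom R hmul hcomm) := by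
  ext z
  constructor
  · intro hz
    obtain ⟨t, rfl⟩ := ker_le_torus_range R hmul hcomm C hz
    exact ⟨t, (theta_torus_eq_one_iff R hmul hcomm t).1 hz, rfl⟩
  · rintro ⟨t, ht, rfl⟩
    exact (theta_torus_eq_one_iff R hmul hcomm t).2 ht

end kernel

section inj'

variable {K : Type*} [Field K] {D₁ D₂ : ChevalleyDatum} {ι : ℕ → ℕ}

/-- `torus_injective` with the roots given as natural numbers -/
theorem torus_injective' (hD₁ : D₁ ∈ [chevG2, chevB2, chevD4, chevF4, chevE6, chevE7, chevE8])
    (hD₂ : D₂ ∈ [chevG2, chevB2, chevD4, chevF4, chevE6, chevE7, chevE8]) (h : Emb D₁ D₂ ι)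
    (hmul : ∀ i < D₁.rank, ∀ t₁ t₂ : K, t₁ ≠ 0 → t₂ ≠ 0 →
      (coverRData (K := K) hD₁).hbar i t₁ * (coverRData (K := K) hD₁).hbar i t₂
        = (coverRData (K := K) hD₁).hbar i (t₁ * t₂))
    (hcomm : Pairwise fun i j : Fin D₁.rank => ∀ x y : Kˣ,
      Commute ((coverRData (K := K) hD₁).hhom hmul i x) ((coverRData (K := K) hD₁).hhom hmul j y))
    (v : ℕ → ℕ) (hv : ∀ j < D₁.rank, v j < D₂.nroots) (B : ℕ → ℕ → ℤ)
    (hAB : ∀ k m : Fin D₁.rank,
      ∑ j : Fin D₁.rank, D₂.cartan k (v j) * B j m = if k = m then 1 else 0) :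
    Function.Injective (torusHom (coverRData (K := K) hD₁) hmul hcomm) :=
  torus_injective hD₁ hD₂ h hmul hcomm (fun j => ⟨v j, hv j j.2⟩) (fun j m => B j m) hAB

end inj'

/-- a group with a homomorphism to a finite group with finite kernel is finite -/
theorem finite_of_finite_ker {C G : Type*} [Group C] [Group G] [Finite G] (f : C →* G)
    (h : Finite f.ker) : Finite C := by
  have h1 : Finite (C ⧸ f.ker) := Finite.of_injective _ (QuotientGroup.kerLift_injective f)
  exact Finite.of_equiv _ (Subgroup.groupEquivQuotientProdSubgroup (s := f.ker)).symm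

section main

variable {K : Type u} [Field K] [Fintype K] {D : ChevalleyDatum}

/-- the Schur multiplier of the adjoint group from a centrally closed perfect finite cover with
injective torus -/
theorem hasCyclic_of_cover (hD : D ∈ [chevG2, chevB2, chevD4, chevF4, chevE6, chevE7, chevE8])
    (n : ℕ) (hn : n = 1 ∨ n.Prime)
    (hcard : Nat.card (zact (G := Kˣ) (cartanM D)).ker = n)
    (hinj : ∀ hmul hcomm, Function.Injective (torusHom (coverRData (K := K) hD) hmul hcomm))
    (hperf : commutator (D.SteinbergCover K) = ⊤)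
    (hsplit : ∀ (Y : Type u) [Group Y] (ψ : Y →* D.SteinbergCover K), Function.Surjective ψ →
      (∀ z : Y, ψ z = 1 → ∀ y : Y, z * y = y * z) →
        ∃ s : D.SteinbergCover K →* Y, ψ.comp s = MonoidHom.id (D.SteinbergCover K)) :
    Cfsg.HasCyclicSchurMultiplier ↥(D.group K) n := by
  obtain ⟨T, Bs, gH, baseH, fuel, C⟩ := stCtx_known K D hD
  set R := coverRData (K := K) hD with hR
  have hmul : ∀ i < D.rank, ∀ t₁ t₂ : K, t₁ ≠ 0 → t₂ ≠ 0 →
      R.hbar i t₁ * R.hbar i t₂ = R.hbar i (t₁ * t₂) := R.hbar_mul_fin C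
  have hcomm : Pairwise fun i j : Fin D.rank =>
      ∀ x y : Kˣ, Commute (R.hhom hmul i x) (R.hhom hmul j y) :=
    fun i j _ x y => R.hbar_commute C hmul i j i.2 j.2 _ _ x.ne_zero y.ne_zero
  have hk : R.thetaG.ker = (zact (G := Kˣ) (cartanM D)).ker.map (torusHom R hmul hcomm) := by
    rw [R.thetaG_ker]
    exact theta_ker_eq_map R hmul hcomm C
  have hc : Nat.card R.thetaG.ker = n := by
    rw [hk, Subgroup.card_map_of_injective (hinj hmul hcomm)]
    exact hcard
  have hkfin : Finite R.thetaG.ker := by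
    apply Nat.finite_of_card_ne_zero
    rw [hc]
    rcases hn with h1 | hp
    · rw [h1]; exact one_ne_zero
    · exact hp.ne_zero
  have hfin : Finite (D.SteinbergCover K) := finite_of_finite_ker R.thetaG hkfin
  have hcyc : IsCyclic R.thetaG.ker := by
    rcases hn with h1 | hp
    · have : Subsingleton R.thetaG.ker := by
        rw [← Finite.card_le_one_iff_subsingleton, hc, h1]
      exact isCyclic_of_subsingleton
    · have : Fact n.Prime := ⟨hp⟩
      exact isCyclic_of_prime_card hc
  have e : R.thetaG.ker ≃* Multiplicative (ZMod n) := by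
    subst hc
    exact (zmodCyclicMulEquiv hcyc).symm
  exact Cfsg.Agent.Lib.Helper5.MS.hasSchurMultiplier_of_universal R.thetaG R.thetaG_surjective
    R.thetaG_ker_le_center hperf hsplit e

end main

end Cfsg.Agent.RootEmb
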