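import Cfsg.Agent.Lib.Lead.StEmb
import Mathlib

/-!
# The order of the centre of the presented group from an embedding of root tables (lead)
-/

set_option autoImplicit false

namespace Cfsg.Agent.StEmb

open Cfsg.Lie Cfsg.Agent.Lib.Helper5.Chev Cfsg.Agent.Lib.Helper5.Tw Cfsg.Agent.Lib.Helper5.St
open scoped Matrix

variable {K : Type*} [Field K] {D D' : ChevalleyDatum} {ι : ℕ → ℕ}

section

variable {Γ : Type*} [Group Γ] (R : RData K D Γ)
  (hmul : ∀ i < D.rank, ∀ t₁ t₂ : K, t₁ ≠ 0 → t₂ ≠ 0 →
    R.hbar i t₁ * R.hbar i t₂ = R.hbar i (t₁ * t₂))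
  (hcomm : Pairwise fun i j : Fin D.rank =>
      ∀ x y : Kˣ, Commute (R.hhom hmul i x) (R.hhom hmul j y))

/-- the weight of a family -/
def chiHom (K : Type*) [Field K] (D : ChevalleyDatum) (l : ℕ) : (Fin l → Kˣ) →* (D.Idx → Kˣ) :=
  ∏ k : Fin l, (weightHom K D k).comp (Pi.evalMonoidHom (fun _ => Kˣ) k)

theorem chiHom_inr (l : ℕ) (t : Fin l → Kˣ) (s : Fin D.nroots) :
    chiHom K D l t (Sum.inr s) = ∏ k : Fin l, t k ^ D.cartan k s.val := by
  unfold chiHom
  rw [MonoidHom.finsetProd_apply, Finset.prod_apply]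
  rfl

theorem chiHom_inl (l : ℕ) (t : Fin l → Kˣ) (j : Fin D.rank) :
    chiHom K D l t (Sum.inl j) = 1 := by
  unfold chiHom
  rw [MonoidHom.finsetProd_apply, Finset.prod_apply]
  apply Finset.prod_eq_one
  intro k _
  rfl

theorem chiHom_mulSingle (l : ℕ) (i : Fin l) (x : Kˣ) :
    chiHom K D l (Pi.mulSingle i x) = weightHom K D i x := by
  unfold chiHom
  rw [MonoidHom.finsetProd_apply, Finset.prod_eq_single i]
  · rw [MonoidHom.comp_apply]
    show weightHom K D i ((Pi.mulSingle i x : Fin l → Kˣ) i) = _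
    rw [Pi.mulSingle_eq_same]
  · intro k _ hk
    rw [MonoidHom.comp_apply]
    show weightHom K D k ((Pi.mulSingle i x : Fin l → Kˣ) k) = 1
    rw [Pi.mulSingle_eq_of_ne hk, map_one]
  · intro hi
    exact absurd (Finset.mem_univ i) hi

/-- the image of the product map in the matrix group -/
theorem theta_phi :
    R.θ.comp (MonoidHom.noncommPiCoprod (R.hhom hmul) hcomm)
      = (diagHom K D).comp (chiHom K D D.rank) := by
  apply MonoidHom.pi_ext
  intro i x
  rw [MonoidHom.comp_apply, MonoidHom.comp_apply, MonoidHom.noncommPiCoprod_mulSingle,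
    chiHom_mulSingle]
  exact R.theta_hbar i i.2 x

/-- the kernel of the weight is the kernel of the matrix of the Cartan integers -/
theorem chiHom_ker : (chiHom K D D.rank).ker = (zact (G := Kˣ) (cartanM D)).ker := by
  ext t
  rw [MonoidHom.mem_ker, MonoidHom.mem_ker]
  constructor
  · intro h
    funext s
    have := congrFun h (Sum.inr s)
    rw [chiHom_inr] at this
    exact this
  · intro h
    funext x
    rcases x with j | s
    · exact chiHom_inl _ t j
    · rw [chiHom_inr]
      exact congrFun h s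

/-- the order of the kernel when the product map is injective -/
theorem card_ker_of_injective {T : FD} {Bs : List ℕ} {gH : ℕ} {baseH : List ℕ} {fuel : ℕ}
    (C : StCtx K D T Bs gH baseH fuel)
    (hinj : Function.Injective (MonoidHom.noncommPiCoprod (R.hhom hmul) hcomm)) :
    Nat.card R.θ.ker = Nat.card (zact (G := Kˣ) (cartanM D)).ker := by
  classical
  have hrange : R.H0 ≤ (MonoidHom.noncommPiCoprod (R.hhom hmul) hcomm).range := by
    rw [MonoidHom.noncommPiCoprod_range]
    unfold RData.H0
    rw [Subgroup.closure_le]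
    rintro h ⟨i, hi, t, ht, rfl⟩
    have : R.hbar i t ∈ (R.hhom hmul ⟨i, hi⟩).range := ⟨Units.mk0 t ht, rfl⟩
    exact (le_iSup (fun i => (R.hhom hmul i).range) ⟨i, hi⟩) this
  have key := theta_phi R hmul hcomm
  rw [← chiHom_ker]
  symm
  apply Nat.card_congr
  refine Equiv.ofBijective (fun c => ⟨MonoidHom.noncommPiCoprod (R.hhom hmul) hcomm c.1, ?_⟩)
    ⟨?_, ?_⟩
  · rw [MonoidHom.mem_ker]
    have := DFunLike.congr_fun key c.1
    rw [MonoidHom.comp_apply, MonoidHom.comp_apply] at this
    rw [this, MonoidHom.mem_ker.1 c.2, map_one]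
  · intro c c' h
    apply Subtype.ext
    exact hinj (congrArg Subtype.val h)
  · rintro ⟨z, hz⟩
    obtain ⟨t, rfl⟩ := hrange (R.ker_le_H0 C hz)
    have h1 : diagHom K D (chiHom K D D.rank t) = 1 := by
      have := DFunLike.congr_fun key t
      rw [MonoidHom.comp_apply, MonoidHom.comp_apply] at this
      rw [← this]
      exact MonoidHom.mem_ker.1 hz
    have h2 : chiHom K D D.rank t = 1 := diagHom_injective (h1.trans (map_one _).symm)
    exact ⟨⟨t, MonoidHom.mem_ker.2 h2⟩, rfl⟩

end

/-- the product map of the presented group is injective when the table embeds into a bigger one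
and the rectangular Cartan matrix has an integral right inverse -/
theorem phi_injective (E : Emb D D' ι)
    (hD : D ∈ [chevG2, chevB2, chevD4, chevF4, chevE6, chevE7, chevE8])
    (hD' : D' ∈ [chevG2, chevB2, chevD4, chevF4, chevE6, chevE7, chevE8])
    (hmul : ∀ i < D.rank, ∀ t₁ t₂ : K, t₁ ≠ 0 → t₂ ≠ 0 →
      (steinbergRData (K := K) hD).hbar i t₁ * (steinbergRData (K := K) hD).hbar i t₂
        = (steinbergRData (K := K) hD).hbar i (t₁ * t₂))
    (hcomm : Pairwise fun i j : Fin D.rank =>
      ∀ x y : Kˣ, Commute ((steinbergRData (K := K) hD).hhom hmul i x)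
        ((steinbergRData (K := K) hD).hhom hmul j y))
    (B : Fin D'.rank → Fin D.rank → ℤ)
    (hB : ∀ k m : Fin D.rank,
      ∑ j : Fin D'.rank, D'.cartan k (D'.simple j) * B j m = if k = m then 1 else 0) :
    Function.Injective
      (MonoidHom.noncommPiCoprod ((steinbergRData (K := K) hD).hhom hmul) hcomm) := by
  classical
  rw [injective_iff_map_eq_one]
  intro t ht
  have key : ((steinbergRData (K := K) hD').θ.comp (embHom E hD')).comp
      (MonoidHom.noncommPiCoprod ((steinbergRData (K := K) hD).hhom hmul) hcomm)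
      = (diagHom K D').comp (chiHom K D' D.rank) := by
    apply MonoidHom.pi_ext
    intro i x
    rw [MonoidHom.comp_apply, MonoidHom.comp_apply, MonoidHom.comp_apply,
      MonoidHom.noncommPiCoprod_mulSingle, chiHom_mulSingle]
    show (steinbergRData (K := K) hD').θ
      (embHom E hD' ((steinbergRData (K := K) hD).hbar i (x : K))) = _
    rw [embHom_hbar E hD hD' i i.2]
    exact (steinbergRData (K := K) hD').theta_hbar i (lt_of_lt_of_le i.2 E.rank_le) x
  have h1 : diagHom K D' (chiHom K D' D.rank t) = 1 := by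
    have := DFunLike.congr_fun key t
    rw [MonoidHom.comp_apply, MonoidHom.comp_apply, MonoidHom.comp_apply] at this
    rw [← this, ht, map_one, map_one]
  have h2 : chiHom K D' D.rank t = 1 := diagHom_injective (h1.trans (map_one _).symm)
  have h3 : ∀ j : Fin D'.rank, ∏ k : Fin D.rank, t k ^ (D'.cartan k (D'.simple j)) = 1 := by
    intro j
    obtain ⟨hp, -⟩ := simple_lt_all D' hD' j j.2
    have := congrFun h2 (Sum.inr ⟨D'.simple j, hp⟩)
    rw [chiHom_inr] at this
    exact this
  funext m
  exact rect_trivial (fun (k : Fin D.rank) (j : Fin D'.rank) => D'.cartan k (D'.simple j)) B hB t h3 m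

/-- the order of the centre of the presented group -/
theorem card_center_of_emb (E : Emb D D' ι)
    (hD : D ∈ [chevG2, chevB2, chevD4, chevF4, chevE6, chevE7, chevE8])
    (hD' : D' ∈ [chevG2, chevB2, chevD4, chevF4, chevE6, chevE7, chevE8])
    (B : Fin D'.rank → Fin D.rank → ℤ)
    (hB : ∀ k m : Fin D.rank,
      ∑ j : Fin D'.rank, D'.cartan k (D'.simple j) * B j m = if k = m then 1 else 0) :
    Nat.card (Subgroup.center (D.SteinbergGroup K))
      = Nat.card (zact (G := Kˣ) (cartanM D)).ker := by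
  obtain ⟨T, Bs, gH, baseH, fuel, C⟩ := stCtx_known K D hD
  have hmul : ∀ i < D.rank, ∀ t₁ t₂ : K, t₁ ≠ 0 → t₂ ≠ 0 →
      (steinbergRData (K := K) hD).hbar i t₁ * (steinbergRData (K := K) hD).hbar i t₂
        = (steinbergRData (K := K) hD).hbar i (t₁ * t₂) :=
    fun i hi t₁ t₂ h1 h2 => steinberg_hbar_mul hD i hi t₁ t₂ h1 h2
  have hcomm : Pairwise fun i j : Fin D.rank =>
      ∀ x y : Kˣ, Commute ((steinbergRData (K := K) hD).hhom hmul i x)
        ((steinbergRData (K := K) hD).hhom hmul j y) :=
    fun i j _ x y => (steinbergRData (K := K) hD).hbar_commute C hmul i j i.2 j.2 _ _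
      x.ne_zero y.ne_zero
  rw [← (steinbergRData (K := K) hD).thetaG_ker_eq_center,
    (steinbergRData (K := K) hD).thetaG_ker]
  exact card_ker_of_injective _ hmul hcomm C (phi_injective E hD hD' hmul hcomm B hB)

end Cfsg.Agent.StEmb
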