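import Cfsg.Agent.Lib.Lead.ExcIsoE
import Cfsg.Agent.Lib.Lead.StEmb2
import Cfsg.Agent.Lib.Lead.MultE
import Cfsg.Agent.Lib.Helper5.Chev.HcB2
import Mathlib

/-!
# The exceptional graph automorphism of `B₂` in characteristic 2 (lead)
-/

set_option autoImplicit false

namespace Cfsg.Agent.ExcIso
open Cfsg Cfsg.Lie Cfsg.Agent.Lib.Helper5.AutBN Cfsg.Agent.ChevAut
open Cfsg.Agent.Lib.Helper5.Chev Cfsg.Agent.Lib.Helper5.Tw Cfsg.Agent.Lib.Helper5.St
open Cfsg.Agent.StEmb

/-- the presented group of type `B₂` over a finite field of characteristic 2 has trivial centre -/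
theorem center_B2_char2 {K : Type*} [Field K] [Fintype K] [CharP K 2] :
    Subgroup.center (chevB2.SteinbergGroup K) = ⊥ := by
  classical
  have hD : chevB2 ∈ [chevG2, chevB2, chevD4, chevF4, chevE6, chevE7, chevE8] := by simp
  obtain ⟨T, Bs, gH, baseH, fuel, C⟩ := stCtx_known K chevB2 hD
  have hmul : ∀ i < chevB2.rank, ∀ t₁ t₂ : K, t₁ ≠ 0 → t₂ ≠ 0 →
      (steinbergRData (K := K) hD).hbar i t₁ * (steinbergRData (K := K) hD).hbar i t₂
        = (steinbergRData (K := K) hD).hbar i (t₁ * t₂) :=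
    fun i hi t₁ t₂ h1 h2 => steinberg_hbar_mul hD i hi t₁ t₂ h1 h2
  have hcomm : Pairwise fun i j : Fin chevB2.rank =>
      ∀ x y : Kˣ, Commute ((steinbergRData (K := K) hD).hhom hmul i x)
        ((steinbergRData (K := K) hD).hhom hmul j y) :=
    fun i j _ x y => (steinbergRData (K := K) hD).hbar_commute C hmul i j i.2 j.2 _ _
      x.ne_zero y.ne_zero
  rw [← (steinbergRData (K := K) hD).thetaG_ker_eq_center,
    (steinbergRData (K := K) hD).thetaG_ker,
    Cfsg.Agent.RootEmb.theta_ker_eq_map _ hmul hcomm C]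
  have hk : (zact (G := Kˣ) (cartanM chevB2)).ker = ⊥ := by
    apply Subgroup.eq_bot_of_card_eq
    rw [ker_cartanM_eq HcB2.Mt HcB2.hC (fun j hj => (simple_lt_all chevB2 hD j hj).1),
      card_ker_zact_of_snf (G := Kˣ) (cartanA chevB2) HcB2.P HcB2.P' HcB2.Q HcB2.Q' HcB2.d HcB2.hP
        HcB2.hP2 HcB2.hQ HcB2.hS]
    have hcard : Nat.card Kˣ = Fintype.card K - 1 := by
      rw [Nat.card_eq_fintype_card, Fintype.card_units]
    rw [hcard]
    obtain ⟨n, -, hn⟩ := FiniteField.card K 2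
    have hodd : Nat.gcd (Fintype.card K - 1) 2 = 1 := by
      rw [hn]
      have h2 : 2 ∣ 2 ^ (n : ℕ) := dvd_pow_self 2 n.ne_zero
      have hpos : 0 < 2 ^ (n : ℕ) := by positivity
      have : (2 ^ (n : ℕ) - 1) % 2 = 1 := by omega
      rw [Nat.gcd_comm, Nat.gcd_rec, this]
      rfl
    show ∏ i : Fin 2, (Fintype.card K - 1).gcd (HcB2.d i) = _
    simp [Fin.prod_univ_succ, HcB2.d, HcB2.dL, hodd]
  rw [hk, Subgroup.map_bot]

def barB2 : List ℕ := [1, 0, 3, 2, 5, 4, 7, 6]
def lamB2 : List ℕ := [1, 2, 2, 1, 1, 2, 2, 1]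

theorem certB2 : certb chevB2 2 (fun r => barB2.getD r 0) (fun r => lamB2.getD r 0) = true := by
  decide +kernel

/-- the symmetry of the diagram of `B₂` -/
def piB2 : Equiv.Perm (Fin chevB2.rank) := Equiv.swap ⟨0, by decide⟩ ⟨1, by decide⟩

theorem symB2 : chevB2.IsDiagramSymmetry piB2 := by
  unfold ChevalleyDatum.IsDiagramSymmetry
  decide +kernel

theorem graphbB2 : graphb chevB2 2 (fun r => barB2.getD r 0) (fun r => lamB2.getD r 0)
    (fun i => if h : i < chevB2.rank then (piB2 ⟨i, h⟩).val else 0) = true := by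
  decide +kernel

/-- the exceptional graph automorphism of `B₂` over a finite field of characteristic 2 -/
theorem exists_graphAut_B2 {K : Type*} [Field K] [Fintype K] [CharP K 2] :
    ∃ γ : ↥(chevB2.group K) ≃* ↥(chevB2.group K),
      (∀ (g : ↥(chevB2.group K)) (i : Fin chevB2.rank) (t : K),
        (((g : GL chevB2.Idx K) : Matrix chevB2.Idx chevB2.Idx K) = chevB2.x K (chevB2.simple i) t →
          ((γ g : GL chevB2.Idx K) : Matrix chevB2.Idx chevB2.Idx K) =
            chevB2.x K (chevB2.simple (piB2 i)) (t ^ chevB2.graphExp (ringChar K) i (piB2 i))) ∧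
        (((g : GL chevB2.Idx K) : Matrix chevB2.Idx chevB2.Idx K) = chevB2.x K (chevB2.neg (chevB2.simple i)) t →
          ((γ g : GL chevB2.Idx K) : Matrix chevB2.Idx chevB2.Idx K) =
            chevB2.x K (chevB2.neg (chevB2.simple (piB2 i))) (t ^ chevB2.graphExp (ringChar K) i (piB2 i)))) ∧
      (∀ g, γ (γ g) = fieldAut chevB2 (frobeniusEquiv K 2) g) ∧ PresUV chevB2 γ ∧ PresUV chevB2 γ⁻¹ := by
  have : Fact (Nat.Prime 2) := ⟨by norm_num⟩
  have : PerfectRing K 2 := PerfectRing.ofFiniteOfIsReduced 2 K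
  exact exists_graphAut' (K := K) (by simp) center_B2_char2 (isoCert_of_certb certB2) piB2 symB2
    graphbB2

end Cfsg.Agent.ExcIso
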