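import Cfsg.Agent.Lib.Lead.ExcIsoB
import Cfsg.Agent.Lib.Lead.ChevFieldAut
import Cfsg.Agent.Lib.Helper5.Chev.GenSimple
import Cfsg.Agent.S1077
import Cfsg.Agent.S1078
import Mathlib

/-!
# Exceptional isogenies: the automorphism of the Chevalley group (lead)
-/

set_option autoImplicit false

namespace Cfsg.Agent.ExcIso
open Cfsg Cfsg.Lie Cfsg.Agent.Lib.Helper5.Chev Cfsg.Agent.Lib.Helper8.Aut Cfsg.Agent.ChevAut
open scoped Matrix

variable {K : Type*} [Field K] {D : ChevalleyDatum} {p : ℕ} {bar lam : ℕ → ℕ}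

/-- for the types with trivial centre of the Steinberg group, a certificate gives an endomorphism
of the Chevalley group with `x_r(t) ↦ x_{r̄}(t^{λ_r})` -/
theorem exists_isogeny_hom (hD' : D ∈ [chevG2, chevF4, chevE8]) [Fact p.Prime] [CharP K p]
    (c : IsoCert D p bar lam) :
    ∃ γ : ↥(D.group K) →* ↥(D.group K), ∀ (g : ↥(D.group K)) (r : ℕ) (t : K), r < D.nroots →
      ((g : GL D.Idx K) : Matrix D.Idx D.Idx K) = D.x K r t →
        ((γ g : GL D.Idx K) : Matrix D.Idx D.Idx K) = D.x K (bar r) (t ^ lam r) := by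
  have hD : D ∈ [chevG2, chevB2, chevD4, chevF4, chevE6, chevE7, chevE8] := by
    simp only [List.mem_cons, List.not_mem_nil, or_false] at hD' ⊢
    rcases hD' with rfl | rfl | rfl <;> simp
  obtain ⟨θ, hsurj, hker, hθ⟩ := Cfsg.Agent.S1077.result (K := K) D hD
  have hcen := Cfsg.Agent.S1078.result (K := K) D hD'
  have hinj : Function.Injective θ := by
    rw [← MonoidHom.ker_eq_bot_iff, hker, hcen]
  let e : D.SteinbergGroup K ≃* ↥(D.group K) := MulEquiv.ofBijective θ ⟨hinj, hsurj⟩
  refine ⟨(stHom hD c).comp e.symm.toMonoidHom, ?_⟩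
  intro g r t hr hg
  have h1 : g = e (D.stGen K r t) := by
    apply group_ext
    rw [hg]
    exact (hθ r t hr).symm
  rw [h1]
  simp only [MonoidHom.comp_apply, MulEquiv.coe_toMonoidHom, MulEquiv.symm_apply_apply]
  exact stHom_stGen hD c r hr t

/-- the automorphism `x_r(t) ↦ x_{r̄}(t^{λ_r})`; its square is the Frobenius field automorphism -/
theorem exists_isogeny (hD' : D ∈ [chevG2, chevF4, chevE8]) [Fact p.Prime] [CharP K p]
    [PerfectRing K p] (c : IsoCert D p bar lam) :
    ∃ γ : ↥(D.group K) ≃* ↥(D.group K),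
      (∀ (g : ↥(D.group K)) (r : ℕ) (t : K), r < D.nroots →
        ((g : GL D.Idx K) : Matrix D.Idx D.Idx K) = D.x K r t →
          ((γ g : GL D.Idx K) : Matrix D.Idx D.Idx K) = D.x K (bar r) (t ^ lam r)) ∧
      ∀ g, γ (γ g) = fieldAut D (frobeniusEquiv K p) g := by
  have hD : D ∈ [chevG2, chevB2, chevD4, chevF4, chevE6, chevE7, chevE8] := by
    simp only [List.mem_cons, List.not_mem_nil, or_false] at hD' ⊢
    rcases hD' with rfl | rfl | rfl <;> simp
  obtain ⟨γ, hγ⟩ := exists_isogeny_hom (K := K) hD' c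
  have hsq : γ.comp γ = (fieldAut D (frobeniusEquiv K p)).toMonoidHom := by
    apply hom_ext_simple D hD
    · intro i hi t y hy
      obtain ⟨hr, -⟩ := simple_lt_all D hD i hi
      apply group_ext
      rw [MonoidHom.comp_apply, hγ _ (bar (D.simple i)) _ (c.bar_lt _ hr) (hγ y _ t hr hy),
        c.bar_bar _ hr, ← pow_mul, c.lam_mul _ hr]
      rw [MulEquiv.coe_toMonoidHom, fieldAut_val, hy, x_map, frobeniusEquiv_apply]
      rfl
    · intro i hi t y hy
      obtain ⟨-, hr⟩ := simple_lt_all D hD i hi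
      apply group_ext
      rw [MonoidHom.comp_apply, hγ _ (bar (D.neg (D.simple i))) _ (c.bar_lt _ hr) (hγ y _ t hr hy),
        c.bar_bar _ hr, ← pow_mul, c.lam_mul _ hr]
      rw [MulEquiv.coe_toMonoidHom, fieldAut_val, hy, x_map, frobeniusEquiv_apply]
      rfl
  have hsq' : ∀ g, γ (γ g) = fieldAut D (frobeniusEquiv K p) g := fun g =>
    DFunLike.congr_fun hsq g
  have hbij : Function.Bijective γ := by
    constructor
    · intro a b hab
      have := congrArg γ hab
      rw [hsq', hsq'] at this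
      exact (fieldAut D (frobeniusEquiv K p)).injective this
    · intro b
      obtain ⟨a, ha⟩ := (fieldAut D (frobeniusEquiv K p)).surjective b
      exact ⟨γ a, by rw [hsq', ha]⟩
  exact ⟨MulEquiv.ofBijective γ hbij, fun g r t hr hg => hγ g r t hr hg, hsq'⟩

end Cfsg.Agent.ExcIso
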