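import Cfsg.Agent.Lib.Lead.ExcIsoC
import Cfsg.Agent.Lib.Helper5.AutBN.GraphUV
import Mathlib

/-!
# Exceptional isogenies as graph automorphisms (lead)
-/

set_option autoImplicit false

namespace Cfsg.Agent.ExcIso
open Cfsg Cfsg.Lie Cfsg.Agent.Lib.Helper5.Chev Cfsg.Agent.Lib.Helper8.Aut Cfsg.Agent.ChevAut
  Cfsg.Agent.Lib.Helper5.AutBN
open scoped Matrix

/-- boolean check: the root map is compatible with the permutation of the fundamental roots, with
the exponents of a graph automorphism, and preserves the signs of the roots -/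
def graphb (D : ChevalleyDatum) (p : ℕ) (bar lam : ℕ → ℕ) (π : ℕ → ℕ) : Bool :=
  ((List.range D.rank).all fun i =>
    decide (π i < D.rank) && decide (bar (D.simple i) = D.simple (π i)) &&
      decide (lam (D.simple i) = D.graphExp p i (π i)) && decide (D.simple i < D.nroots)) &&
  ((List.range D.nroots).all fun r =>
    (!((D.coroot.getD r #[]).toList.all fun c => decide (0 ≤ c)) ||
      ((D.coroot.getD (bar r) #[]).toList.all fun c => decide (0 ≤ c))) &&
    (!((D.coroot.getD r #[]).toList.all fun c => decide (c ≤ 0)) ||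
      ((D.coroot.getD (bar r) #[]).toList.all fun c => decide (c ≤ 0))))

theorem graphb_spec {D : ChevalleyDatum} {p : ℕ} {bar lam : ℕ → ℕ} {π : ℕ → ℕ}
    (h : graphb D p bar lam π = true) :
    (∀ i < D.rank, π i < D.rank ∧ bar (D.simple i) = D.simple (π i) ∧
      lam (D.simple i) = D.graphExp p i (π i) ∧ D.simple i < D.nroots) ∧
    (∀ r < D.nroots, (D.IsPosRoot r → ∀ c ∈ (D.coroot.getD (bar r) #[]).toList, 0 ≤ c) ∧
      (D.IsNegRoot r → ∀ c ∈ (D.coroot.getD (bar r) #[]).toList, c ≤ 0)) := by
  unfold graphb at h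
  rw [Bool.and_eq_true, List.all_eq_true, List.all_eq_true] at h
  constructor
  · intro i hi
    have := h.1 i (List.mem_range.2 hi)
    simp only [Bool.and_eq_true, decide_eq_true_eq] at this
    exact ⟨this.1.1.1, this.1.1.2, this.1.2, this.2⟩
  · intro r hr
    have := h.2 r (List.mem_range.2 hr)
    simp only [Bool.and_eq_true, Bool.or_eq_true, Bool.not_eq_true', List.all_eq_true,
      decide_eq_true_eq] at this
    constructor
    · intro hp
      rcases this.1 with h1 | h1
      · exfalso
        rw [← Bool.not_eq_true, List.all_eq_true] at h1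
        apply h1
        intro c hc
        exact decide_eq_true (hp.2 c hc)
      · exact h1
    · intro hp
      rcases this.2 with h1 | h1
      · exfalso
        rw [← Bool.not_eq_true, List.all_eq_true] at h1
        apply h1
        intro c hc
        exact decide_eq_true (hp.2 c hc)
      · exact h1

variable {K : Type*} [Field K] {D : ChevalleyDatum} {p : ℕ} {bar lam : ℕ → ℕ}

/-- the exceptional graph automorphism attached to a certificate -/
theorem exists_graphAut (hD' : D ∈ [chevG2, chevF4, chevE8]) [Fact p.Prime] [CharP K p]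
    [PerfectRing K p] (c : IsoCert D p bar lam) (π : Equiv.Perm (Fin D.rank))
    (hπ : D.IsDiagramSymmetry π) (hg : graphb D p bar lam (fun i => if h : i < D.rank then (π ⟨i, h⟩).val else 0) = true) :
    ∃ γ : ↥(D.group K) ≃* ↥(D.group K),
      (∀ (g : ↥(D.group K)) (i : Fin D.rank) (t : K),
        (((g : GL D.Idx K) : Matrix D.Idx D.Idx K) = D.x K (D.simple i) t →
          ((γ g : GL D.Idx K) : Matrix D.Idx D.Idx K) =
            D.x K (D.simple (π i)) (t ^ D.graphExp (ringChar K) i (π i))) ∧
        (((g : GL D.Idx K) : Matrix D.Idx D.Idx K) = D.x K (D.neg (D.simple i)) t →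
          ((γ g : GL D.Idx K) : Matrix D.Idx D.Idx K) =
            D.x K (D.neg (D.simple (π i))) (t ^ D.graphExp (ringChar K) i (π i)))) ∧
      (∀ g, γ (γ g) = fieldAut D (frobeniusEquiv K p) g) ∧ PresUV D γ ∧ PresUV D γ⁻¹ := by
  have hD : D ∈ [chevG2, chevB2, chevD4, chevF4, chevE6, chevE7, chevE8] := by
    simp only [List.mem_cons, List.not_mem_nil, or_false] at hD' ⊢
    rcases hD' with rfl | rfl | rfl <;> simp
  have hadd := allAdd_all (F := K) D hD
  obtain ⟨γ, hγ, hsq⟩ := exists_isogeny (K := K) hD' c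
  obtain ⟨hs, hpn⟩ := graphb_spec hg
  have hchar : ringChar K = p := ringChar.eq K p
  have hPγ : PresUV D γ := by
    apply presUV_of_root D hD
    intro r t y hr hy
    have h1 := hγ y r t hr hy
    constructor
    · intro hp
      exact x_mem_pos D hadd (bar r) ⟨c.bar_lt r hr, (hpn r hr).1 hp⟩ _ _ h1
    · intro hp
      exact x_mem_neg D hadd (bar r) ⟨c.bar_lt r hr, (hpn r hr).2 hp⟩ _ _ h1
  refine ⟨γ, ?_, hsq, hPγ, ?_⟩
  · intro g i t
    obtain ⟨h1, h2, h3, h4⟩ := hs i i.2
    simp only [dif_pos i.2] at h1 h2 h3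
    constructor
    · intro hgv
      rw [hγ g _ t h4 hgv, h2, h3, hchar]
    · intro hgv
      rw [hγ g _ t (c.neg_lt _ h4) hgv, c.bar_neg _ h4, c.lam_neg _ h4, h2, h3, hchar]
  · -- `γ⁻¹ = γ ∘ (Frobenius)⁻¹`
    have e : γ⁻¹ = γ * (fieldAut D (frobeniusEquiv K p))⁻¹ := by
      have h1 : γ * γ = fieldAut D (frobeniusEquiv K p) := by
        apply MulEquiv.ext
        intro g
        rw [MulAut.mul_apply, hsq]
      rw [← h1]
      group
    have e2 : (fieldAut D (frobeniusEquiv K p))⁻¹ = fieldAut D (frobeniusEquiv K p)⁻¹ :=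
      ((fieldAutHom D).map_inv _).symm
    rw [e, e2]
    exact hPγ.mul (presUV_fieldAut D hD _)

end Cfsg.Agent.ExcIso
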