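import Cfsg.Agent.Lib.Lead.ExcIsoD
import Mathlib

/-!
# Exceptional isogenies when the centre of the Steinberg group is trivial (lead)

The statements of `ExcIsoC`, `ExcIsoD` with the hypothesis on the type replaced by the triviality of
the centre of the presented group (for `B₂` in characteristic 2).
-/

set_option autoImplicit false

namespace Cfsg.Agent.ExcIso
open Cfsg Cfsg.Lie Cfsg.Agent.Lib.Helper5.Chev Cfsg.Agent.Lib.Helper8.Aut Cfsg.Agent.ChevAut
  Cfsg.Agent.Lib.Helper5.AutBN
open scoped Matrix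

variable {K : Type*} [Field K] {D : ChevalleyDatum} {p : ℕ} {bar lam : ℕ → ℕ}

/-- when the centre of the Steinberg group is trivial, a certificate gives an endomorphism
of the Chevalley group with `x_r(t) ↦ x_{r̄}(t^{λ_r})` -/
theorem exists_isogeny_hom' (hD : D ∈ [chevG2, chevB2, chevD4, chevF4, chevE6, chevE7, chevE8])
    (hcen : Subgroup.center (D.SteinbergGroup K) = ⊥) [Fact p.Prime] [CharP K p]
    (c : IsoCert D p bar lam) :
    ∃ γ : ↥(D.group K) →* ↥(D.group K), ∀ (g : ↥(D.group K)) (r : ℕ) (t : K), r < D.nroots →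
      ((g : GL D.Idx K) : Matrix D.Idx D.Idx K) = D.x K r t →
        ((γ g : GL D.Idx K) : Matrix D.Idx D.Idx K) = D.x K (bar r) (t ^ lam r) := by
  obtain ⟨θ, hsurj, hker, hθ⟩ := Cfsg.Agent.S1077.result (K := K) D hD
  have hinj : Function.Injective θ := by
    rw [← MonoidHom.ker_eq_bot_iff, hker, hcen]
  let e : D.SteinbergGroup K ≃* ↥(D.group K) := MulEquiv.ofBijective θ ⟨hinj, hsurj⟩
  refine ⟨(stHom hD c).comp e.symm.toMonoidHom, ?_⟩
  intro g r t hr hg
  have h1 : g = e (D.stGen K r t) := by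
    apply group_ext
    rw [hg]
    exact (hθ r t hr).symm
  rw [h1]
  simp only [MonoidHom.comp_apply, MulEquiv.coe_toMonoidHom, MulEquiv.symm_apply_apply]
  exact stHom_stGen hD c r hr t

/-- the automorphism `x_r(t) ↦ x_{r̄}(t^{λ_r})`; its square is the Frobenius field automorphism -/
theorem exists_isogeny' (hD : D ∈ [chevG2, chevB2, chevD4, chevF4, chevE6, chevE7, chevE8])
    (hcen : Subgroup.center (D.SteinbergGroup K) = ⊥) [Fact p.Prime] [CharP K p]
    [PerfectRing K p] (c : IsoCert D p bar lam) :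
    ∃ γ : ↥(D.group K) ≃* ↥(D.group K),
      (∀ (g : ↥(D.group K)) (r : ℕ) (t : K), r < D.nroots →
        ((g : GL D.Idx K) : Matrix D.Idx D.Idx K) = D.x K r t →
          ((γ g : GL D.Idx K) : Matrix D.Idx D.Idx K) = D.x K (bar r) (t ^ lam r)) ∧
      ∀ g, γ (γ g) = fieldAut D (frobeniusEquiv K p) g := by
  obtain ⟨γ, hγ⟩ := exists_isogeny_hom' (K := K) hD hcen c
  have hsq : γ.comp γ = (fieldAut D (frobeniusEquiv K p)).toMonoidHom := by
    apply hom_ext_simple D hD
    · intro i hi t y hy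
      obtain ⟨hr, -⟩ := simple_lt_all D hD i hi
      apply group_ext
      rw [MonoidHom.comp_apply, hγ _ (bar (D.simple i)) _ (c.bar_lt _ hr) (hγ y _ t hr hy),
        c.bar_bar _ hr, ← pow_mul, c.lam_mul _ hr]
      rw [MulEquiv.coe_toMonoidHom, fieldAut_val, hy, x_map, frobeniusEquiv_apply]
      rfl
    · intro i hi t y hy
      obtain ⟨-, hr⟩ := simple_lt_all D hD i hi
      apply group_ext
      rw [MonoidHom.comp_apply, hγ _ (bar (D.neg (D.simple i))) _ (c.bar_lt _ hr) (hγ y _ t hr hy),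
        c.bar_bar _ hr, ← pow_mul, c.lam_mul _ hr]
      rw [MulEquiv.coe_toMonoidHom, fieldAut_val, hy, x_map, frobeniusEquiv_apply]
      rfl
  have hsq' : ∀ g, γ (γ g) = fieldAut D (frobeniusEquiv K p) g := fun g =>
    DFunLike.congr_fun hsq g
  have hbij : Function.Bijective γ := by
    constructor
    · intro a b hab
      have := congrArg γ hab
      rw [hsq', hsq'] at this
      exact (fieldAut D (frobeniusEquiv K p)).injective this
    · intro b
      obtain ⟨a, ha⟩ := (fieldAut D (frobeniusEquiv K p)).surjective b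
      exact ⟨γ a, by rw [hsq', ha]⟩
  exact ⟨MulEquiv.ofBijective γ hbij, fun g r t hr hg => hγ g r t hr hg, hsq'⟩

/-- the exceptional graph automorphism attached to a certificate -/
theorem exists_graphAut' (hD : D ∈ [chevG2, chevB2, chevD4, chevF4, chevE6, chevE7, chevE8])
    (hcen : Subgroup.center (D.SteinbergGroup K) = ⊥) [Fact p.Prime] [CharP K p]
    [PerfectRing K p] (c : IsoCert D p bar lam) (π : Equiv.Perm (Fin D.rank))
    (hπ : D.IsDiagramSymmetry π) (hg : graphb D p bar lam (fun i => if h : i < D.rank then (π ⟨i, h⟩).val else 0) = true) :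
    ∃ γ : ↥(D.group K) ≃* ↥(D.group K),
      (∀ (g : ↥(D.group K)) (i : Fin D.rank) (t : K),
        (((g : GL D.Idx K) : Matrix D.Idx D.Idx K) = D.x K (D.simple i) t →
          ((γ g : GL D.Idx K) : Matrix D.Idx D.Idx K) =
            D.x K (D.simple (π i)) (t ^ D.graphExp (ringChar K) i (π i))) ∧
        (((g : GL D.Idx K) : Matrix D.Idx D.Idx K) = D.x K (D.neg (D.simple i)) t →
          ((γ g : GL D.Idx K) : Matrix D.Idx D.Idx K) =
            D.x K (D.neg (D.simple (π i))) (t ^ D.graphExp (ringChar K) i (π i)))) ∧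
      (∀ g, γ (γ g) = fieldAut D (frobeniusEquiv K p) g) ∧ PresUV D γ ∧ PresUV D γ⁻¹ := by
  have hadd := allAdd_all (F := K) D hD
  obtain ⟨γ, hγ, hsq⟩ := exists_isogeny' (K := K) hD hcen c
  obtain ⟨hs, hpn⟩ := graphb_spec hg
  have hchar : ringChar K = p := ringChar.eq K p
  have hPγ : PresUV D γ := by
    apply presUV_of_root D hD
    intro r t y hr hy
    have h1 := hγ y r t hr hy
    constructor
    · intro hp
      exact x_mem_pos D hadd (bar r) ⟨c.bar_lt r hr, (hpn r hr).1 hp⟩ _ _ h1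
    · intro hp
      exact x_mem_neg D hadd (bar r) ⟨c.bar_lt r hr, (hpn r hr).2 hp⟩ _ _ h1
  refine ⟨γ, ?_, hsq, hPγ, ?_⟩
  · intro g i t
    obtain ⟨h1, h2, h3, h4⟩ := hs i i.2
    simp only [dif_pos i.2] at h1 h2 h3
    constructor
    · intro hgv
      rw [hγ g _ t h4 hgv, h2, h3, hchar]
    · intro hgv
      rw [hγ g _ t (c.neg_lt _ h4) hgv, c.bar_neg _ h4, c.lam_neg _ h4, h2, h3, hchar]
  · -- `γ⁻¹ = γ ∘ (Frobenius)⁻¹`
    have e : γ⁻¹ = γ * (fieldAut D (frobeniusEquiv K p))⁻¹ := by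
      have h1 : γ * γ = fieldAut D (frobeniusEquiv K p) := by
        apply MulEquiv.ext
        intro g
        rw [MulAut.mul_apply, hsq]
      rw [← h1]
      group
    have e2 : (fieldAut D (frobeniusEquiv K p))⁻¹ = fieldAut D (frobeniusEquiv K p)⁻¹ :=
      ((fieldAutHom D).map_inv _).symm
    rw [e, e2]
    exact hPγ.mul (presUV_fieldAut D hD _)

end Cfsg.Agent.ExcIso
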