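import Cfsg.Agent.Lib.Lead.ExcIsoD
import Mathlib

/-!
# The exceptional graph automorphism of `F₄` in characteristic 2 (lead)
-/

set_option autoImplicit false

namespace Cfsg.Agent.ExcIso
open Cfsg Cfsg.Lie Cfsg.Agent.Lib.Helper5.AutBN Cfsg.Agent.ChevAut

def barF4 : List ℕ := [3, 7, 8, 0, 9, 11, 18, 1, 2, 4, 15, 5, 16, 21, 23, 10, 12, 19, 6, 17, 22, 13, 20, 14, 33, 27, 34, 25, 30, 41, 28, 35, 37, 24, 26, 31, 42, 32, 43, 45, 46, 29, 36, 38, 47, 39, 40, 44]
def lamF4 : List ℕ := [1, 1, 1, 2, 1, 1, 1, 2, 2, 2, 2, 2, 2, 2, 2, 1, 1, 1, 2, 2, 2, 1, 1, 1, 1, 1, 1, 2, 2, 2, 1, 1, 1, 2, 2, 2, 2, 2, 2, 2, 2, 1, 1, 1, 2, 1, 1, 1]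

theorem certF4 : certb chevF4 2 (fun r => barF4.getD r 0) (fun r => lamF4.getD r 0) = true := by
  decide +kernel

/-- the symmetry of the diagram of `F₄` -/
def piF4 : Equiv.Perm (Fin chevF4.rank) := Fin.revPerm

theorem symF4 : chevF4.IsDiagramSymmetry piF4 := by
  unfold ChevalleyDatum.IsDiagramSymmetry
  decide +kernel

theorem graphbF4 : graphb chevF4 2 (fun r => barF4.getD r 0) (fun r => lamF4.getD r 0)
    (fun i => if h : i < chevF4.rank then (piF4 ⟨i, h⟩).val else 0) = true := by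
  decide +kernel

/-- the exceptional graph automorphism of `F₄` over a perfect field of characteristic 2 -/
theorem exists_graphAut_F4 {K : Type*} [Field K] [CharP K 2] [PerfectRing K 2] :
    ∃ γ : ↥(chevF4.group K) ≃* ↥(chevF4.group K),
      (∀ (g : ↥(chevF4.group K)) (i : Fin chevF4.rank) (t : K),
        (((g : GL chevF4.Idx K) : Matrix chevF4.Idx chevF4.Idx K) = chevF4.x K (chevF4.simple i) t →
          ((γ g : GL chevF4.Idx K) : Matrix chevF4.Idx chevF4.Idx K) =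
            chevF4.x K (chevF4.simple (piF4 i)) (t ^ chevF4.graphExp (ringChar K) i (piF4 i))) ∧
        (((g : GL chevF4.Idx K) : Matrix chevF4.Idx chevF4.Idx K) = chevF4.x K (chevF4.neg (chevF4.simple i)) t →
          ((γ g : GL chevF4.Idx K) : Matrix chevF4.Idx chevF4.Idx K) =
            chevF4.x K (chevF4.neg (chevF4.simple (piF4 i))) (t ^ chevF4.graphExp (ringChar K) i (piF4 i)))) ∧
      (∀ g, γ (γ g) = fieldAut chevF4 (frobeniusEquiv K 2) g) ∧ PresUV chevF4 γ ∧ PresUV chevF4 γ⁻¹ := by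
  have : Fact (Nat.Prime 2) := ⟨by norm_num⟩
  exact exists_graphAut (K := K) (by simp) (isoCert_of_certb certF4) piF4 symF4 graphbF4

end Cfsg.Agent.ExcIso
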