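import Cfsg.Agent.Lib.Lead.ExcIsoD
import Mathlib

/-!
# The exceptional graph automorphism of `G₂` in characteristic 3 (lead)
-/

set_option autoImplicit false

namespace Cfsg.Agent.ExcIso
open Cfsg Cfsg.Lie Cfsg.Agent.Lib.Helper5.AutBN Cfsg.Agent.ChevAut

def barG2 : List ℕ := [2, 3, 0, 1, 5, 4, 7, 6, 10, 11, 8, 9]
def lamG2 : List ℕ := [1, 1, 3, 3, 3, 1, 1, 3, 3, 3, 1, 1]

theorem certG2 : certb chevG2 3 (fun r => barG2.getD r 0) (fun r => lamG2.getD r 0) = true := by
  decide +kernel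

/-- the symmetry of the diagram of `G₂` -/
def piG2 : Equiv.Perm (Fin chevG2.rank) := Equiv.swap ⟨0, by decide⟩ ⟨1, by decide⟩

theorem symG2 : chevG2.IsDiagramSymmetry piG2 := by
  unfold ChevalleyDatum.IsDiagramSymmetry
  decide +kernel

theorem graphbG2 : graphb chevG2 3 (fun r => barG2.getD r 0) (fun r => lamG2.getD r 0)
    (fun i => if h : i < chevG2.rank then (piG2 ⟨i, h⟩).val else 0) = true := by
  decide +kernel

/-- the exceptional graph automorphism of `G₂` over a perfect field of characteristic 3 -/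
theorem exists_graphAut_G2 {K : Type*} [Field K] [CharP K 3] [PerfectRing K 3] :
    ∃ γ : ↥(chevG2.group K) ≃* ↥(chevG2.group K),
      (∀ (g : ↥(chevG2.group K)) (i : Fin chevG2.rank) (t : K),
        (((g : GL chevG2.Idx K) : Matrix chevG2.Idx chevG2.Idx K) = chevG2.x K (chevG2.simple i) t →
          ((γ g : GL chevG2.Idx K) : Matrix chevG2.Idx chevG2.Idx K) =
            chevG2.x K (chevG2.simple (piG2 i)) (t ^ chevG2.graphExp (ringChar K) i (piG2 i))) ∧
        (((g : GL chevG2.Idx K) : Matrix chevG2.Idx chevG2.Idx K) = chevG2.x K (chevG2.neg (chevG2.simple i)) t →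
          ((γ g : GL chevG2.Idx K) : Matrix chevG2.Idx chevG2.Idx K) =
            chevG2.x K (chevG2.neg (chevG2.simple (piG2 i))) (t ^ chevG2.graphExp (ringChar K) i (piG2 i)))) ∧
      (∀ g, γ (γ g) = fieldAut chevG2 (frobeniusEquiv K 3) g) ∧ PresUV chevG2 γ ∧ PresUV chevG2 γ⁻¹ := by
  have : Fact (Nat.Prime 3) := ⟨by norm_num⟩
  exact exists_graphAut (K := K) (by simp) (isoCert_of_certb certG2) piG2 symG2 graphbG2

end Cfsg.Agent.ExcIso
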