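import Mathlib
import Cfsg.Prelude.Def_Transfer

/-!
# Extraspecial p-groups of exponent p are determined by their order
-/

set_option autoImplicit false
open Cfsg
open scoped commutatorElement

namespace Cfsg.Agent.Lead.ESP

universe u v

section basic

variable {E : Type u} [Group E]

/-- Elementary description of an extraspecial `p`-group of exponent `p` with centre `⟨z⟩`
(the group of order `p` is allowed). -/
structure CtxP (p : ℕ) (z : E) : Prop where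
  ne : z ≠ 1
  zp : z ^ p = 1
  cen : ∀ x : E, x * z = z * x
  comm : ∀ x y : E, ∃ k : ℤ, ⁅x, y⁆ = z ^ k
  exp : ∀ x : E, x ^ p = 1
  cent : ∀ w : E, (∀ x : E, x * w = w * x) → ∃ k : ℤ, w = z ^ k

variable {p : ℕ} {z : E}

theorem zk_cen (C : CtxP p z) (k : ℤ) (g : E) : z ^ k * g = g * z ^ k :=
  (Commute.zpow_left (C.cen g).symm k).eq

theorem ccen (C : CtxP p z) (a b g : E) : ⁅a, b⁆ * g = g * ⁅a, b⁆ := by
  obtain ⟨k, hk⟩ := C.comm a b
  rw [hk]; exact zk_cen C k g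

theorem kmul (C : CtxP p z) (g y y' : E) : ⁅g, y * y'⁆ = ⁅g, y⁆ * ⁅g, y'⁆ := by
  have h : ⁅g, y * y'⁆ = ⁅g, y⁆ * (y * ⁅g, y'⁆ * y⁻¹) := by
    simp only [commutatorElement_def]; group
  rw [h, ← ccen C g y' y, mul_inv_cancel_right]

theorem kmul' (C : CtxP p z) (g g' y : E) : ⁅g * g', y⁆ = ⁅g, y⁆ * ⁅g', y⁆ := by
  have h : ⁅g * g', y⁆ = (g * ⁅g', y⁆ * g⁻¹) * ⁅g, y⁆ := by
    simp only [commutatorElement_def]; group
  rw [h, ← ccen C g' y g, mul_inv_cancel_right, ccen C g' y]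

/-- `g ↦ ⁅g, y⁆` as a homomorphism -/
def chomL (C : CtxP p z) (y : E) : E →* E :=
  MonoidHom.mk' (fun g => ⁅g, y⁆) (fun g g' => kmul' C g g' y)

/-- `y ↦ ⁅g, y⁆` as a homomorphism -/
def chomR (C : CtxP p z) (g : E) : E →* E :=
  MonoidHom.mk' (fun y => ⁅g, y⁆) (fun y y' => kmul C g y y')

theorem czpowL (C : CtxP p z) (x y : E) (a : ℤ) : ⁅x ^ a, y⁆ = ⁅x, y⁆ ^ a :=
  map_zpow (chomL C y) x a

theorem czpowR (C : CtxP p z) (x y : E) (a : ℤ) : ⁅x, y ^ a⁆ = ⁅x, y⁆ ^ a :=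
  map_zpow (chomR C x) y a

theorem cinvL (C : CtxP p z) (x y : E) : ⁅x⁻¹, y⁆ = (⁅x, y⁆)⁻¹ :=
  map_inv (chomL C y) x

theorem swap_mul (a b : E) : b * a = ⁅b, a⁆ * (a * b) := by
  simp [commutatorElement_def]

theorem orderOf_z [hp : Fact p.Prime] (C : CtxP p z) : orderOf z = p :=
  orderOf_eq_prime C.zp C.ne

theorem z_zpow_eq_one [hp : Fact p.Prime] (C : CtxP p z) (a : ℤ) (h : z ^ a = 1) :
    ∃ k : ℤ, a = p * k := by
  have := (orderOf_dvd_iff_zpow_eq_one (x := z) (i := a)).mpr h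
  rw [orderOf_z C] at this
  exact this

theorem zpow_p_mul (C : CtxP p z) (x : E) (k : ℤ) : x ^ ((p : ℤ) * k) = 1 := by
  rw [zpow_mul, zpow_natCast, C.exp, one_zpow]

end basic

section pair

variable {E : Type u} [Group E] {p : ℕ} {z x y : E}

theorem memC {x y c : E} : c ∈ Subgroup.centralizer ({x, y} : Set E) ↔ ⁅c, x⁆ = 1 ∧ ⁅c, y⁆ = 1 := by
  simp only [Subgroup.mem_centralizer_iff, Set.mem_insert_iff, Set.mem_singleton_iff,
    forall_eq_or_imp, forall_eq, commutatorElement_eq_one_iff_mul_comm]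
  constructor <;> rintro ⟨h1, h2⟩ <;> exact ⟨h1.symm, h2.symm⟩

theorem memC_comm {x y c : E} (hc : c ∈ Subgroup.centralizer ({x, y} : Set E)) :
    x * c = c * x ∧ y * c = c * y := by
  rw [memC] at hc
  exact ⟨(commutatorElement_eq_one_iff_mul_comm.mp hc.1).symm,
    (commutatorElement_eq_one_iff_mul_comm.mp hc.2).symm⟩

theorem z_memC (C : CtxP p z) : z ∈ Subgroup.centralizer ({x, y} : Set E) := by
  rw [memC]
  constructor <;> rw [commutatorElement_eq_one_iff_mul_comm] <;> exact (C.cen _).symm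

theorem cyx (hxy : ⁅x, y⁆ = z) : ⁅y, x⁆ = z⁻¹ := by
  rw [← commutatorElement_inv, hxy]

/-- the commutators of a normal form -/
theorem comm_nf (C : CtxP p z) (hxy : ⁅x, y⁆ = z) (a b : ℤ) (c : E)
    (hc : c ∈ Subgroup.centralizer ({x, y} : Set E)) :
    ⁅x ^ a * y ^ b * c, y⁆ = z ^ a ∧ ⁅x ^ a * y ^ b * c, x⁆ = z ^ (-b) := by
  have hc' := memC.mp hc
  constructor
  · rw [kmul' C, kmul' C, czpowL C, czpowL C, hxy, commutatorElement_self, one_zpow, hc'.2,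
      mul_one, mul_one]
  · rw [kmul' C, kmul' C, czpowL C, czpowL C, cyx hxy, commutatorElement_self, one_zpow, hc'.1,
      mul_one, one_mul, inv_zpow, zpow_neg]

theorem decomp (C : CtxP p z) (hxy : ⁅x, y⁆ = z) (e : E) :
    ∃ (a b : ℤ) (c : E), c ∈ Subgroup.centralizer ({x, y} : Set E) ∧ e = x ^ a * y ^ b * c := by
  obtain ⟨a, ha⟩ := C.comm e y
  obtain ⟨k, hk⟩ := C.comm e x
  refine ⟨a, -k, (x ^ a * y ^ (-k))⁻¹ * e, ?_, by group⟩
  have h1 := comm_nf C hxy a (-k) 1 (one_mem _)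
  rw [mul_one] at h1
  rw [memC]
  constructor
  · rw [kmul' C, cinvL C, h1.2, hk, neg_neg, inv_mul_cancel]
  · rw [kmul' C, cinvL C, h1.1, ha, inv_mul_cancel]

theorem ctx_sub (C : CtxP p z) (hxy : ⁅x, y⁆ = z) :
    CtxP p (⟨z, z_memC C⟩ : Subgroup.centralizer ({x, y} : Set E)) := by
  refine ⟨fun h => C.ne (by simpa using congrArg Subtype.val h), Subtype.ext (by simpa using C.zp),
    fun a => Subtype.ext (C.cen a), fun a b => ?_, fun a => Subtype.ext (by simpa using C.exp a),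
    ?_⟩
  · obtain ⟨k, hk⟩ := C.comm (a : E) b
    refine ⟨k, Subtype.ext ?_⟩
    simpa [commutatorElement_def] using hk
  · intro w hw
    have hwc := memC_comm w.2
    have hcen : ∀ e : E, e * (w : E) = w * e := by
      intro e
      obtain ⟨a, b, c, hc, rfl⟩ := decomp C hxy e
      have h1 : c * (w : E) = w * c := by
        have := hw ⟨c, hc⟩
        simpa using congrArg Subtype.val this
      have hx : Commute (x ^ a) (w : E) := Commute.zpow_left hwc.1 a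
      have hy : Commute (y ^ b) (w : E) := Commute.zpow_left hwc.2 b
      exact ((hx.mul_left hy).mul_left h1).eq
    obtain ⟨k, hk⟩ := C.cent w hcen
    exact ⟨k, Subtype.ext (by simpa using hk)⟩

/-- the order of the centraliser of a hyperbolic pair -/
theorem card_E [Finite E] [hp : Fact p.Prime] (C : CtxP p z) (hxy : ⁅x, y⁆ = z) :
    Nat.card E = p * p * Nat.card (Subgroup.centralizer ({x, y} : Set E)) := by
  have hmem : ∀ (g e : E), ⁅e, g⁆ ∈ Subgroup.zpowers z := by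
    intro g e
    obtain ⟨k, hk⟩ := C.comm e g
    rw [hk]; exact Subgroup.zpow_mem_zpowers z k
  obtain ⟨f₁, hf₁⟩ : ∃ f₁ : E →* Subgroup.zpowers z, ∀ e, (f₁ e : E) = ⁅e, x⁆ :=
    ⟨(chomL C x).codRestrict (Subgroup.zpowers z) (hmem x), fun _ => rfl⟩
  obtain ⟨f₂, hf₂⟩ : ∃ f₂ : E →* Subgroup.zpowers z, ∀ e, (f₂ e : E) = ⁅e, y⁆ :=
    ⟨(chomL C y).codRestrict (Subgroup.zpowers z) (hmem y), fun _ => rfl⟩
  obtain ⟨Φ, hΦ⟩ : ∃ Φ : E →* Subgroup.zpowers z × Subgroup.zpowers z, ∀ e, Φ e = (f₁ e, f₂ e) :=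
    ⟨f₁.prod f₂, fun _ => rfl⟩
  have hsurj : Function.Surjective Φ := by
    rintro ⟨⟨u, hu⟩, ⟨v, hv⟩⟩
    obtain ⟨k, rfl⟩ := Subgroup.mem_zpowers_iff.mp hu
    obtain ⟨a, rfl⟩ := Subgroup.mem_zpowers_iff.mp hv
    refine ⟨x ^ a * y ^ (-k) * 1, ?_⟩
    have h1 := comm_nf C hxy a (-k) 1 (one_mem _)
    rw [hΦ]
    refine Prod.ext (Subtype.ext ?_) (Subtype.ext ?_)
    · rw [hf₁, h1.2, neg_neg]
    · rw [hf₂, h1.1]
  have hker : Φ.ker = Subgroup.centralizer ({x, y} : Set E) := by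
    ext e
    rw [MonoidHom.mem_ker, hΦ, memC, Prod.ext_iff]
    simp only [Prod.fst_one, Prod.snd_one]
    rw [Subtype.ext_iff, Subtype.ext_iff, hf₁, hf₂]
    rfl
  have h1 := Subgroup.card_eq_card_quotient_mul_card_subgroup Φ.ker
  rw [Nat.card_congr (QuotientGroup.quotientKerEquivOfSurjective Φ hsurj).toEquiv, Nat.card_prod,
    Nat.card_zpowers, orderOf_z C, hker] at h1
  exact h1

end pair


section nf

variable {E : Type u} [Group E] {p : ℕ} {z x y : E}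

theorem zc2 (C : CtxP p z) (hxy : ⁅x, y⁆ = z) (a b : ℤ) :
    y ^ b * x ^ a = x ^ a * y ^ b * z ^ (-(a * b)) := by
  have h1 : ⁅y ^ b, x ^ a⁆ = z ^ (-(a * b)) := by
    rw [czpowL C, czpowR C, cyx hxy, inv_zpow, inv_zpow, ← zpow_mul, ← zpow_neg]
  rw [swap_mul (x ^ a) (y ^ b), h1, zk_cen C]

theorem prodNF (C : CtxP p z) (hxy : ⁅x, y⁆ = z) (a b a' b' : ℤ) (c c' : E)
    (hc : c ∈ Subgroup.centralizer ({x, y} : Set E)) :
    (x ^ a * y ^ b * c) * (x ^ a' * y ^ b' * c') =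
      x ^ (a + a') * y ^ (b + b') * (z ^ (-(a' * b)) * c * c') := by
  have hcc := memC_comm hc
  have hcx : Commute c x := hcc.1.symm
  have hcy : Commute c y := hcc.2.symm
  have hcomm : c * (x ^ a' * y ^ b') = (x ^ a' * y ^ b') * c :=
    ((hcx.zpow_right a').mul_right (hcy.zpow_right b')).eq
  have hZ : z ^ (-(a' * b)) * y ^ b' = y ^ b' * z ^ (-(a' * b)) := zk_cen C _ _
  calc (x ^ a * y ^ b * c) * (x ^ a' * y ^ b' * c')
      = x ^ a * y ^ b * (c * (x ^ a' * y ^ b')) * c' := by simp only [mul_assoc]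
    _ = x ^ a * y ^ b * ((x ^ a' * y ^ b') * c) * c' := by rw [hcomm]
    _ = x ^ a * (y ^ b * x ^ a') * y ^ b' * c * c' := by simp only [mul_assoc]
    _ = x ^ a * (x ^ a' * y ^ b * z ^ (-(a' * b))) * y ^ b' * c * c' := by rw [zc2 C hxy a' b]
    _ = x ^ a * x ^ a' * y ^ b * (z ^ (-(a' * b)) * y ^ b') * c * c' := by simp only [mul_assoc]
    _ = x ^ a * x ^ a' * y ^ b * (y ^ b' * z ^ (-(a' * b))) * c * c' := by rw [hZ]
    _ = (x ^ a * x ^ a') * (y ^ b * y ^ b') * (z ^ (-(a' * b)) * c * c') := by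
        simp only [mul_assoc]
    _ = _ := by rw [← zpow_add, ← zpow_add]

theorem invNF (C : CtxP p z) (hxy : ⁅x, y⁆ = z) (a b : ℤ) (c : E)
    (hc : c ∈ Subgroup.centralizer ({x, y} : Set E)) :
    (x ^ a * y ^ b * c)⁻¹ = x ^ (-a) * y ^ (-b) * (z ^ (-(a * b)) * c⁻¹) := by
  apply inv_eq_of_mul_eq_one_right
  rw [prodNF C hxy a b (-a) (-b) c _ hc]
  have hZc : c * z ^ (-(a * b)) = z ^ (-(a * b)) * c := (zk_cen C _ c).symm
  rw [add_neg_cancel, add_neg_cancel, zpow_zero, zpow_zero, one_mul, one_mul, mul_assoc,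
    ← mul_assoc c, hZc, mul_assoc, mul_inv_cancel, mul_one, ← zpow_add]
  rw [show -(-a * b) + -(a * b) = 0 by ring, zpow_zero]

theorem NF1 [hp : Fact p.Prime] (C : CtxP p z) (hxy : ⁅x, y⁆ = z) (a b : ℤ) (c : E)
    (hc : c ∈ Subgroup.centralizer ({x, y} : Set E)) (h : x ^ a * y ^ b * c = 1) :
    ∃ k l : ℤ, a = p * k ∧ b = p * l ∧ c = 1 := by
  have h1 := comm_nf C hxy a b c hc
  rw [h, commutatorElement_one_left, commutatorElement_one_left] at h1
  obtain ⟨k, hk⟩ := z_zpow_eq_one C a h1.1.symm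
  obtain ⟨l, hl⟩ := z_zpow_eq_one C (-b) h1.2.symm
  refine ⟨k, -l, hk, by rw [mul_neg, ← hl, neg_neg], ?_⟩
  have hb : b = p * (-l) := by rw [mul_neg, ← hl, neg_neg]
  rw [hk, hb, zpow_p_mul C, zpow_p_mul C, one_mul, one_mul] at h
  exact h

end nf

section glue

theorem glue {E : Type u} {E' : Type v} [Group E] [Group E'] {p : ℕ} [hp : Fact p.Prime]
    {z x y : E} {z' x' y' : E'}
    (C : CtxP p z) (C' : CtxP p z') (hxy : ⁅x, y⁆ = z) (hxy' : ⁅x', y'⁆ = z')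
    (φ : Subgroup.centralizer ({x, y} : Set E) ≃* Subgroup.centralizer ({x', y'} : Set E'))
    (hφ : (φ ⟨z, z_memC C⟩ : E') = z') : ∃ ψ : E ≃* E', ψ z = z' := by
  obtain ⟨Γ, hΓ⟩ : ∃ Γ : Subgroup (E × E'), ∀ q, q ∈ Γ ↔
      ∃ (a b : ℤ) (c : Subgroup.centralizer ({x, y} : Set E)),
        q = (x ^ a * y ^ b * (c : E), x' ^ a * y' ^ b * (φ c : E')) := by
    refine ⟨{ carrier := {q | ∃ (a b : ℤ) (c : Subgroup.centralizer ({x, y} : Set E)),
                q = (x ^ a * y ^ b * (c : E), x' ^ a * y' ^ b * (φ c : E'))}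
              mul_mem' := ?_, one_mem' := ?_, inv_mem' := ?_ }, fun q => Iff.rfl⟩
    · rintro _ _ ⟨a, b, c, rfl⟩ ⟨a', b', c', rfl⟩
      refine ⟨a + a', b + b', ⟨z, z_memC C⟩ ^ (-(a' * b)) * c * c', ?_⟩
      rw [Prod.mk_mul_mk, prodNF C hxy a b a' b' c c' c.2,
        prodNF C' hxy' a b a' b' (φ c) (φ c') (φ c).2]
      simp only [map_mul, map_zpow, Subgroup.coe_mul, Subgroup.coe_zpow, hφ]
    · exact ⟨0, 0, 1, by simp [Prod.ext_iff]⟩
    · rintro _ ⟨a, b, c, rfl⟩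
      refine ⟨-a, -b, ⟨z, z_memC C⟩ ^ (-(a * b)) * c⁻¹, ?_⟩
      rw [Prod.inv_mk, invNF C hxy a b c c.2, invNF C' hxy' a b (φ c) (φ c).2]
      simp only [map_mul, map_zpow, map_inv, Subgroup.coe_mul, Subgroup.coe_zpow,
        Subgroup.coe_inv, hφ]
  have h1 : ∀ q ∈ Γ, q.1 = 1 → q.2 = 1 := by
    intro q hq h
    obtain ⟨a, b, c, rfl⟩ := (hΓ q).mp hq
    obtain ⟨k, l, rfl, rfl, hc⟩ := NF1 C hxy a b c c.2 h
    have hc1 : c = 1 := Subtype.ext hc
    change x' ^ ((p : ℤ) * k) * y' ^ ((p : ℤ) * l) * (φ c : E') = 1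
    rw [hc1, map_one, zpow_p_mul C', zpow_p_mul C']
    simp
  have h2 : ∀ q ∈ Γ, q.2 = 1 → q.1 = 1 := by
    intro q hq h
    obtain ⟨a, b, c, rfl⟩ := (hΓ q).mp hq
    obtain ⟨k, l, rfl, rfl, hc⟩ := NF1 C' hxy' a b (φ c) (φ c).2 h
    have hc1 : c = 1 := by
      have : φ c = 1 := Subtype.ext hc
      exact (MulEquiv.map_eq_one_iff φ).mp this
    change x ^ ((p : ℤ) * k) * y ^ ((p : ℤ) * l) * (c : E) = 1
    rw [hc1, zpow_p_mul C, zpow_p_mul C]
    simp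
  have h3 : ∀ e : E, ∃ q ∈ Γ, q.1 = e := by
    intro e
    obtain ⟨a, b, c, hc, he⟩ := decomp C hxy e
    exact ⟨_, (hΓ _).mpr ⟨a, b, ⟨c, hc⟩, rfl⟩, he.symm⟩
  have h4 : ∀ e' : E', ∃ q ∈ Γ, q.2 = e' := by
    intro e'
    obtain ⟨a, b, c', hc', he⟩ := decomp C' hxy' e'
    refine ⟨_, (hΓ _).mpr ⟨a, b, φ.symm ⟨c', hc'⟩, rfl⟩, ?_⟩
    rw [he, φ.apply_symm_apply]
  obtain ⟨π₁, hπ₁⟩ : ∃ π₁ : Γ →* E, ∀ q : Γ, π₁ q = (q : E × E').1 :=
    ⟨(MonoidHom.fst E E').comp Γ.subtype, fun q => rfl⟩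
  obtain ⟨π₂, hπ₂⟩ : ∃ π₂ : Γ →* E', ∀ q : Γ, π₂ q = (q : E × E').2 :=
    ⟨(MonoidHom.snd E E').comp Γ.subtype, fun q => rfl⟩
  have hb₁ : Function.Bijective π₁ := by
    constructor
    · rw [injective_iff_map_eq_one]
      intro q hq
      rw [hπ₁] at hq
      exact Subtype.ext (Prod.ext hq (h1 q q.2 hq))
    · intro e
      obtain ⟨q, hq, rfl⟩ := h3 e
      exact ⟨⟨q, hq⟩, hπ₁ _⟩
  have hb₂ : Function.Bijective π₂ := by
    constructor
    · rw [injective_iff_map_eq_one]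
      intro q hq
      rw [hπ₂] at hq
      exact Subtype.ext (Prod.ext (h2 q q.2 hq) hq)
    · intro e
      obtain ⟨q, hq, rfl⟩ := h4 e
      exact ⟨⟨q, hq⟩, hπ₂ _⟩
  refine ⟨(MulEquiv.ofBijective π₁ hb₁).symm.trans (MulEquiv.ofBijective π₂ hb₂), ?_⟩
  have hz : ((z, z') : E × E') ∈ Γ := (hΓ _).mpr ⟨0, 0, ⟨z, z_memC C⟩, by simp [hφ]⟩
  have e1 : (MulEquiv.ofBijective π₁ hb₁).symm z = ⟨(z, z'), hz⟩ := by
    rw [MulEquiv.symm_apply_eq]
    exact (hπ₁ ⟨(z, z'), hz⟩).symm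
  rw [MulEquiv.trans_apply, e1]
  exact hπ₂ _

/-- the cyclic case -/
theorem glue_cyclic {E : Type u} {E' : Type v} [Group E] [Group E'] {p : ℕ} [hp : Fact p.Prime]
    {z : E} {z' : E'} (C : CtxP p z) (C' : CtxP p z')
    (hE : ∀ e : E, ∃ k : ℤ, e = z ^ k) (hE' : ∀ e : E', ∃ k : ℤ, e = z' ^ k) :
    ∃ ψ : E ≃* E', ψ z = z' := by
  obtain ⟨Γ, hΓ⟩ : ∃ Γ : Subgroup (E × E'), ∀ q, q ∈ Γ ↔ ∃ a : ℤ, q = (z ^ a, z' ^ a) := by
    refine ⟨{ carrier := {q | ∃ a : ℤ, q = (z ^ a, z' ^ a)}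
              mul_mem' := ?_, one_mem' := ?_, inv_mem' := ?_ }, fun q => Iff.rfl⟩
    · rintro _ _ ⟨a, rfl⟩ ⟨a', rfl⟩
      exact ⟨a + a', by rw [Prod.mk_mul_mk, zpow_add, zpow_add]⟩
    · exact ⟨0, by simp [Prod.ext_iff]⟩
    · rintro _ ⟨a, rfl⟩
      exact ⟨-a, by rw [Prod.inv_mk, zpow_neg, zpow_neg]⟩
  have h1 : ∀ q ∈ Γ, q.1 = 1 → q.2 = 1 := by
    intro q hq h
    obtain ⟨a, rfl⟩ := (hΓ q).mp hq
    obtain ⟨k, rfl⟩ := z_zpow_eq_one C a h
    exact zpow_p_mul C' z' k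
  have h2 : ∀ q ∈ Γ, q.2 = 1 → q.1 = 1 := by
    intro q hq h
    obtain ⟨a, rfl⟩ := (hΓ q).mp hq
    obtain ⟨k, rfl⟩ := z_zpow_eq_one C' a h
    exact zpow_p_mul C z k
  obtain ⟨π₁, hπ₁⟩ : ∃ π₁ : Γ →* E, ∀ q : Γ, π₁ q = (q : E × E').1 :=
    ⟨(MonoidHom.fst E E').comp Γ.subtype, fun q => rfl⟩
  obtain ⟨π₂, hπ₂⟩ : ∃ π₂ : Γ →* E', ∀ q : Γ, π₂ q = (q : E × E').2 :=
    ⟨(MonoidHom.snd E E').comp Γ.subtype, fun q => rfl⟩
  have hb₁ : Function.Bijective π₁ := by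
    constructor
    · rw [injective_iff_map_eq_one]
      intro q hq
      rw [hπ₁] at hq
      exact Subtype.ext (Prod.ext hq (h1 q q.2 hq))
    · intro e
      obtain ⟨k, rfl⟩ := hE e
      exact ⟨⟨(z ^ k, z' ^ k), (hΓ _).mpr ⟨k, rfl⟩⟩, hπ₁ _⟩
  have hb₂ : Function.Bijective π₂ := by
    constructor
    · rw [injective_iff_map_eq_one]
      intro q hq
      rw [hπ₂] at hq
      exact Subtype.ext (Prod.ext (h2 q q.2 hq) hq)
    · intro e
      obtain ⟨k, rfl⟩ := hE' e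
      exact ⟨⟨(z ^ k, z' ^ k), (hΓ _).mpr ⟨k, rfl⟩⟩, hπ₂ _⟩
  refine ⟨(MulEquiv.ofBijective π₁ hb₁).symm.trans (MulEquiv.ofBijective π₂ hb₂), ?_⟩
  have hz : ((z, z') : E × E') ∈ Γ := (hΓ _).mpr ⟨1, by simp⟩
  have e1 : (MulEquiv.ofBijective π₁ hb₁).symm z = ⟨(z, z'), hz⟩ := by
    rw [MulEquiv.symm_apply_eq]
    exact (hπ₁ ⟨(z, z'), hz⟩).symm
  rw [MulEquiv.trans_apply, e1]
  exact hπ₂ _

end glue

section main

theorem abelian_case {E : Type u} [Group E] [Finite E] {p : ℕ} [hp : Fact p.Prime] {z : E}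
    (C : CtxP p z) (hab : ∀ x y : E, ⁅x, y⁆ = 1) :
    (∀ e : E, ∃ k : ℤ, e = z ^ k) ∧ Nat.card E = p := by
  have hall : ∀ e : E, ∃ k : ℤ, e = z ^ k := fun e =>
    C.cent e (fun x => commutatorElement_eq_one_iff_mul_comm.mp (hab x e))
  refine ⟨hall, ?_⟩
  have htop : Subgroup.zpowers z = ⊤ := by
    rw [Subgroup.eq_top_iff']
    intro e
    obtain ⟨k, rfl⟩ := hall e
    exact Subgroup.zpow_mem_zpowers z k
  rw [← Subgroup.card_top (G := E), ← htop, Nat.card_zpowers, orderOf_z C]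

theorem exists_pair {E : Type u} [Group E] {p : ℕ} [hp : Fact p.Prime] {z : E}
    (C : CtxP p z) (hna : ¬ ∀ x y : E, ⁅x, y⁆ = 1) : ∃ x y : E, ⁅x, y⁆ = z := by
  push_neg at hna
  obtain ⟨x, y₀, h⟩ := hna
  obtain ⟨k, hk⟩ := C.comm x y₀
  -- `k` is invertible mod `p`
  have hpk : ¬ (p : ℤ) ∣ k := by
    rintro ⟨m, rfl⟩
    apply h
    rw [hk, zpow_mul, zpow_natCast, C.zp, one_zpow]
  have hcop : IsCoprime k (p : ℤ) := by
    rw [isCoprime_comm]
    exact (Int.prime_iff_natAbs_prime.mpr (by simpa using hp.out)).coprime_iff_not_dvd.mpr hpk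
  obtain ⟨u, v, huv⟩ := hcop
  refine ⟨x, y₀ ^ u, ?_⟩
  rw [czpowR C, hk, ← zpow_mul]
  have : k * u = 1 - v * p := by linarith
  rw [this, zpow_sub, zpow_one, zpow_mul', zpow_natCast, C.zp, one_zpow, inv_one, mul_one]

theorem main_iso {p : ℕ} [hp : Fact p.Prime] : ∀ n : ℕ, ∀ (E : Type u) [Group E] [Finite E] (z : E)
    (E' : Type v) [Group E'] [Finite E'] (z' : E'), CtxP p z → CtxP p z' →
    Nat.card E = n → Nat.card E' = n → ∃ ψ : E ≃* E', ψ z = z' := by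
  intro n
  induction n using Nat.strong_induction_on with
  | _ n ih =>
    intro E _ _ z E' _ _ z' C C' hn hn'
    have hp2 : 2 ≤ p := hp.out.two_le
    have key : ∀ (F : Type u) [Group F] [Finite F] (w : F), CtxP p w →
        (¬ ∀ x y : F, ⁅x, y⁆ = 1) → p * p ≤ Nat.card F := by
      intro F _ _ w CF hna
      obtain ⟨x, y, hxy⟩ := exists_pair CF hna
      have := card_E CF hxy
      have hpos : 0 < Nat.card (Subgroup.centralizer ({x, y} : Set F)) := Nat.card_pos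
      nlinarith
    have key' : ∀ (F : Type v) [Group F] [Finite F] (w : F), CtxP p w →
        (¬ ∀ x y : F, ⁅x, y⁆ = 1) → p * p ≤ Nat.card F := by
      intro F _ _ w CF hna
      obtain ⟨x, y, hxy⟩ := exists_pair CF hna
      have := card_E CF hxy
      have hpos : 0 < Nat.card (Subgroup.centralizer ({x, y} : Set F)) := Nat.card_pos
      nlinarith
    by_cases hab : ∀ x y : E, ⁅x, y⁆ = 1
    · obtain ⟨hall, hc⟩ := abelian_case C hab
      have hab' : ∀ x y : E', ⁅x, y⁆ = 1 := by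
        by_contra hna
        have := key' E' z' C' hna
        rw [hn', ← hn, hc] at this
        nlinarith
      obtain ⟨hall', -⟩ := abelian_case C' hab'
      exact glue_cyclic C C' hall hall'
    · have hab' : ¬ ∀ x y : E', ⁅x, y⁆ = 1 := by
        intro hab'
        obtain ⟨-, hc'⟩ := abelian_case C' hab'
        have := key E z C hab
        rw [hn, ← hn', hc'] at this
        nlinarith
      obtain ⟨x, y, hxy⟩ := exists_pair C hab
      obtain ⟨x', y', hxy'⟩ := exists_pair C' hab'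
      have hcE := card_E C hxy
      have hcE' := card_E C' hxy'
      have hpos : 0 < Nat.card (Subgroup.centralizer ({x, y} : Set E)) := Nat.card_pos
      have hlt : Nat.card (Subgroup.centralizer ({x, y} : Set E)) < n := by
        rw [← hn, hcE]
        have h4 : 1 < p * p := by nlinarith
        calc Nat.card (Subgroup.centralizer ({x, y} : Set E))
            = 1 * Nat.card (Subgroup.centralizer ({x, y} : Set E)) := (one_mul _).symm
          _ < p * p * Nat.card (Subgroup.centralizer ({x, y} : Set E)) :=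
            Nat.mul_lt_mul_of_pos_right h4 hpos
      have heq : Nat.card (Subgroup.centralizer ({x', y'} : Set E')) =
          Nat.card (Subgroup.centralizer ({x, y} : Set E)) := by
        have h1 : p * p * Nat.card (Subgroup.centralizer ({x', y'} : Set E')) =
            p * p * Nat.card (Subgroup.centralizer ({x, y} : Set E)) := by
          rw [← hcE, ← hcE', hn, hn']
        exact Nat.eq_of_mul_eq_mul_left (by positivity) h1
      obtain ⟨φ, hφ⟩ := ih (Nat.card (Subgroup.centralizer ({x, y} : Set E))) hlt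
        (Subgroup.centralizer ({x, y} : Set E)) ⟨z, z_memC C⟩
        (Subgroup.centralizer ({x', y'} : Set E')) ⟨z', z_memC C'⟩
        (ctx_sub C hxy) (ctx_sub C' hxy') rfl heq
      exact glue C C' hxy hxy' φ (by rw [hφ])


theorem ctx_of_extraspecial {E : Type u} [Group E] [Finite E] {p : ℕ} [hp : Fact p.Prime]
    (hE : Cfsg.IsExtraspecial p E) (hexp : Monoid.exponent E = p) : ∃ z : E, CtxP p z := by
  obtain ⟨⟨hpg, hfr, hcm⟩, hZ⟩ := hE
  have hnt : ∃ z : Subgroup.center E, z ≠ 1 := by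
    haveI : Nontrivial (Subgroup.center E) := by
      rw [← Finite.one_lt_card_iff_nontrivial, hZ]; exact hp.out.one_lt
    exact exists_ne 1
  obtain ⟨⟨z, hzc⟩, hz1⟩ := hnt
  have hz1' : z ≠ 1 := fun h => hz1 (Subtype.ext h)
  have hexp' : ∀ x : E, x ^ p = 1 := fun x => by
    rw [← hexp]; exact Monoid.pow_exponent_eq_one x
  have hcen : ∀ w ∈ Subgroup.center E, ∃ k : ℤ, w = z ^ k := by
    intro w hw
    have htop : Subgroup.zpowers (⟨z, hzc⟩ : Subgroup.center E) = ⊤ := by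
      apply Subgroup.eq_top_of_card_eq
      rw [Nat.card_zpowers, hZ]
      exact orderOf_eq_prime (Subtype.ext (by simpa using hexp' z)) hz1
    have hmem : (⟨w, hw⟩ : Subgroup.center E) ∈
        Subgroup.zpowers (⟨z, hzc⟩ : Subgroup.center E) := by rw [htop]; trivial
    obtain ⟨k, hk⟩ := Subgroup.mem_zpowers_iff.mp hmem
    exact ⟨k, by have := congrArg Subtype.val hk; simpa using this.symm⟩
  refine ⟨z, ⟨hz1', hexp' z, fun x => Subgroup.mem_center_iff.mp hzc x, ?_, hexp',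
    fun w hw => hcen w (Subgroup.mem_center_iff.mpr hw)⟩⟩
  intro x y
  apply hcen
  rw [← hcm, commutator_def]
  exact Subgroup.commutator_mem_commutator (Subgroup.mem_top x) (Subgroup.mem_top y)

end main

end Cfsg.Agent.Lead.ESP
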