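import Cfsg.Agent.Lib.Lead.TwOrbit
import Mathlib

/-!
# Abstract rank one families and automorphisms permuting them (lead)

`Shape.RFam k G` : families `X t, Y t` (`t ∈ k`) in a group `G` with the swap, the rank one relation
and the torus action; `RFam.shape` : an automorphism `θ` with `θ (X t) = X (φ t)`, `θ (Y t) = Y (γ t)`
has `φ t = φ 1 * ψ t`, `γ t = (φ 1)⁻¹ * ψ t` for a field automorphism `ψ`; `RFam.link` : compatibility of
the `ψ` of two families linked through a torus action; `RFam.ofMatrix` : the family attached to an orbit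
of root elements of a Chevalley group (`Orbit`), `RFam.ofMatrix_link`.
-/

set_option autoImplicit false

namespace Cfsg.Agent.TwRankOne.Shape
open Cfsg Cfsg.Lie Cfsg.Agent.Lib.Helper5.Chev Cfsg.Agent.ChevAut

variable {k : Type*} [Field k] {G : Type*} [Group G]

/-- an abstract rank one family in a group: root elements `X t`, `Y t` (`t ∈ k`) with the swap, the
rank one relation and the action of the torus `h(a) = n(a) n(1)⁻¹` on `X` -/
structure RFam (k : Type*) [Field k] (G : Type*) [Group G] where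
  X : k → G
  Y : k → G
  X_add : ∀ s t, X (s + t) = X s * X t
  Y_add : ∀ s t, Y (s + t) = Y s * Y t
  X_inj : Function.Injective X
  Y_inj : Function.Injective Y
  swap : ∀ a s, a ≠ 0 →
    X a * Y (-a⁻¹) * X a * X s = Y (-((a ^ 2)⁻¹ * s)) * (X a * Y (-a⁻¹) * X a)
  rank : ∀ a b s c, X a * Y b * X a * X s = Y c * (X a * Y b * X a) → c * (1 + a * b) ^ 2 = 0
  self : ∀ a, a ≠ 0 → Acts X (X a * Y (-a⁻¹) * X a * (X 1 * Y (-1⁻¹) * X 1)⁻¹) (a ^ 2)

/-- the torus element `h(a) = n(a) n(1)⁻¹` -/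
def RFam.h (R : RFam k G) (a : k) : G :=
  R.X a * R.Y (-a⁻¹) * R.X a * (R.X 1 * R.Y (-1⁻¹) * R.X 1)⁻¹

/-- **shape of an automorphism on a rank one family** -/
theorem RFam.shape [Finite k] (R : RFam k G) (th : G ≃* G) {φ γ : k → k}
    (hφ : ∀ u, th (R.X u) = R.X (φ u)) (hγ : ∀ u, th (R.Y u) = R.Y (γ u)) :
    ∃ ψ : k ≃+* k, φ 1 ≠ 0 ∧ (∀ t, φ t = φ 1 * ψ t) ∧ (∀ t, γ t = (φ 1)⁻¹ * ψ t) ∧
      (∀ a, a ≠ 0 → th (R.h a) = R.h (φ a) * (R.h (φ 1))⁻¹) := by
  have r : ∀ a, a ≠ 0 → γ (-a⁻¹) = -(φ a)⁻¹ :=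
    rank_one_transport th R.X_inj R.Y_inj R.X_add R.Y_add hφ hγ R.swap R.rank
  have ne : ∀ a, a ≠ 0 → φ a ≠ 0 := fun a ha => transport_ne_zero th R.X_inj hφ R.X_add ha
  have h1 : φ 1 ≠ 0 := ne 1 one_ne_zero
  have tor : ∀ a, a ≠ 0 → th (R.h a) = R.h (φ a) * (R.h (φ 1))⁻¹ := fun a ha =>
    torus_transport th hφ hγ r a ha
  have E1 : ∀ a, a ≠ 0 → ∀ t, φ (a ^ 2 * t) = (φ a) ^ 2 * ((φ 1) ^ 2)⁻¹ * φ t := by
    intro a ha t
    refine acts_transport th R.X_inj hφ (R.self a ha) ?_ t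
    have := tor a ha
    unfold RFam.h at this
    rw [this]
    exact (R.self _ (ne a ha)).mul ((R.self _ h1).inv (pow_ne_zero _ h1))
  obtain ⟨ψ, hψ⟩ := exists_ringEquiv_of_sq (fun t => (φ 1)⁻¹ * φ t)
    (fun a b => by
      show (φ 1)⁻¹ * φ (a + b) = (φ 1)⁻¹ * φ a + (φ 1)⁻¹ * φ b
      rw [transport_add th R.X_inj hφ R.X_add, mul_add])
    (inv_mul_cancel₀ h1)
    (fun t u ht => by
      show (φ 1)⁻¹ * φ (t ^ 2 * u) = ((φ 1)⁻¹ * φ t) ^ 2 * ((φ 1)⁻¹ * φ u)
      rw [E1 t ht u]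
      field_simp)
  have hφ' : ∀ t, φ t = φ 1 * ψ t := fun t => by rw [hψ, mul_inv_cancel_left₀ h1]
  have γ0 := transport_zero th R.Y_inj hγ R.Y_add
  refine ⟨ψ, h1, hφ', ?_, tor⟩
  intro t
  by_cases ht : t = 0
  · subst ht
    rw [γ0, map_zero, mul_zero]
  · have e := r (-t⁻¹) (neg_ne_zero.2 (inv_ne_zero ht))
    rw [inv_neg, neg_neg, inv_inv] at e
    have hp : ψ t ≠ 0 := (map_ne_zero ψ).2 ht
    rw [e, hφ', map_neg, map_inv₀]
    field_simp

/-- **a link between two rank one families**: if the torus of `R` acts on `R'.X` through `ι(a)⁻¹`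
then the field automorphisms of the two families are compatible -/
theorem RFam.link {k' : Type*} [Field k'] (R : RFam k G) (R' : RFam k' G) (ι : k →+* k')
    (hlink : ∀ a, a ≠ 0 → Acts R'.X (R.h a) (ι a)⁻¹) (th : G ≃* G) {φ : k → k} {φ' : k' → k'}
    (hφ' : ∀ u, th (R'.X u) = R'.X (φ' u)) (ψ : k ≃+* k) (ψ' : k' ≃+* k')
    (h1 : φ 1 ≠ 0) (hψ : ∀ t, φ t = φ 1 * ψ t) (h1' : φ' 1 ≠ 0) (hψ' : ∀ t, φ' t = φ' 1 * ψ' t)
    (tor : ∀ a, a ≠ 0 → th (R.h a) = R.h (φ a) * (R.h (φ 1))⁻¹) (a : k) :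
    ψ' (ι a) = ι (ψ a) := by
  by_cases ha : a = 0
  · subst ha
    simp
  have hφa : φ a ≠ 0 := by
    rw [hψ]
    exact mul_ne_zero h1 ((map_ne_zero ψ).2 ha)
  have hι : ∀ x : k, x ≠ 0 → ι x ≠ 0 := fun x hx => (map_ne_zero ι).2 hx
  have e := acts_transport th R'.X_inj hφ' (hlink a ha)
    (l' := (ι (φ a))⁻¹ * ((ι (φ 1))⁻¹)⁻¹) (by
      rw [tor a ha]
      exact (hlink _ hφa).mul ((hlink _ h1).inv (inv_ne_zero (hι _ h1)))) 1
  rw [mul_one, hψ', hψ' 1, map_one, mul_one, hψ a, map_mul, map_inv₀] at e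
  have h2 : ι (φ 1) ≠ 0 := hι _ h1
  have h3 : ι (ψ a) ≠ 0 := hι _ ((map_ne_zero ψ).2 ha)
  have h4 : ψ' (ι a) ≠ 0 := (map_ne_zero ψ').2 (hι _ ha)
  field_simp at e
  exact e.symm

/-! ### rank one families from orbits of root elements -/

/-- an orbit of pairwise orthogonal fundamental roots with its parametrisation, and the table facts
needed below -/
structure Orbit (F : Type*) [Field F] (D : ChevalleyDatum) (k : Type*) [Field k] where
  L : List ℕ
  ρ : ℕ → k →+* F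
  hL : ∀ i ∈ L, i < D.rank
  hp : L.Pairwise (Orth D)
  hc : CartOrth D L
  hsw : ∀ i ∈ L, ∀ s : F, D.nMat F (D.simple i) 1 * D.x F (D.simple i) s
      = D.x F (D.neg (D.simple i)) (-s) * D.nMat F (D.simple i) 1
  i0 : ℕ
  hi0 : i0 ∈ L

section ofMatrix

variable {F : Type*} [Field F] {D : ChevalleyDatum}
  (hD : D ∈ [chevG2, chevB2, chevD4, chevF4, chevE6, chevE7, chevE8])
  (O : Orbit F D k) (i : G →* GL D.Idx F) (hi : Function.Injective i)
  (X Y : k → G) (hX : ∀ t, (i (X t)).val = XR D O.L O.ρ t)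
  (hY : ∀ t, (i (Y t)).val = YR D O.L O.ρ t)

include hi in
theorem ext_of_val {g g' : G} (h : (i g).val = (i g').val) : g = g' := hi (Units.ext h)

include hX hY in
theorem n_val (a : k) : (i (X a * Y (-a⁻¹) * X a)).val = NR D O.L O.ρ a := by
  unfold NR
  rw [map_mul, map_mul, Units.val_mul, Units.val_mul, hX, hY]

include hD hX hY in
theorem h_val (a : k) (ha : a ≠ 0) :
    (i (X a * Y (-a⁻¹) * X a * (X 1 * Y (-1⁻¹) * X 1)⁻¹)).val = HR D O.L O.ρ a := by
  have hu : IsUnit (NR D O.L O.ρ (1 : k)) := by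
    rw [← n_val O i X Y hX hY]
    exact (i _).isUnit
  apply hu.mul_left_inj.1
  rw [← NR_eq hD O.L O.hL O.hp O.ρ a ha, ← n_val O i X Y hX hY, ← n_val O i X Y hX hY,
    ← Units.val_mul, ← map_mul, inv_mul_cancel_right]

/-- the rank one family in `G` attached to an orbit -/
def RFam.ofMatrix : RFam k G where
  X := X
  Y := Y
  X_add s t := by
    apply ext_of_val i hi
    rw [map_mul, Units.val_mul, hX, hX, hX, XR_add hD O.L O.hL O.hp]
  Y_add s t := by
    apply ext_of_val i hi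
    rw [map_mul, Units.val_mul, hY, hY, hY, YR_add hD O.L O.hL O.hp]
  X_inj s t h := by
    have := congrArg (fun g => (i g).val) h
    simp only [hX] at this
    exact XR_inj hD O.L O.hL O.hp O.ρ O.i0 O.hi0 this
  Y_inj s t h := by
    have := congrArg (fun g => (i g).val) h
    simp only [hY] at this
    exact YR_inj hD O.L O.hL O.hp O.ρ O.i0 O.hi0 this
  swap a s ha := by
    apply ext_of_val i hi
    rw [map_mul, Units.val_mul, map_mul _ (Y _), Units.val_mul, n_val O i X Y hX hY, hX, hY]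
    exact NR_swap hD O.L O.hL O.hp O.ρ O.hc O.hsw a s ha
  rank a b s c h := by
    have := congrArg (fun g => (i g).val) h
    simp only [map_mul, Units.val_mul, hX, hY] at this
    exact rank_one_R hD O.L O.hL O.hp O.ρ O.i0 O.hi0 a b s c this
  self a ha t := by
    apply ext_of_val i hi
    rw [map_mul, map_mul _ (X _) (_ * _), Units.val_mul, Units.val_mul,
      h_val hD O i X Y hX hY a ha, hX, hX]
    exact HR_XR hD O.L O.hL O.hp O.ρ O.hc a t ha

theorem RFam.ofMatrix_h_val (a : k) (ha : a ≠ 0) :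
    (i ((RFam.ofMatrix hD O i hi X Y hX hY).h a)).val = HR D O.L O.ρ a :=
  h_val hD O i X Y hX hY a ha

/-- links between the families of two orbits -/
theorem RFam.ofMatrix_link {k' : Type*} [Field k'] (O' : Orbit F D k') (X' Y' : k' → G)
    (hX' : ∀ t, (i (X' t)).val = XR D O'.L O'.ρ t) (hY' : ∀ t, (i (Y' t)).val = YR D O'.L O'.ρ t)
    (ι : k →+* k')
    (hlink : ∀ j ∈ O'.L, ∀ a : k, a ≠ 0 →
      (O.L.map fun l => (O.ρ l a) ^ D.cartan l (D.simple j)).prod = (O'.ρ j (ι a))⁻¹)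
    (a : k) (ha : a ≠ 0) :
    Acts (RFam.ofMatrix hD O' i hi X' Y' hX' hY').X ((RFam.ofMatrix hD O i hi X Y hX hY).h a)
      (ι a)⁻¹ := by
  intro t
  apply ext_of_val i hi
  rw [map_mul, map_mul, Units.val_mul, Units.val_mul, RFam.ofMatrix_h_val hD O i hi X Y hX hY a ha]
  show HR D O.L O.ρ a * (i (X' t)).val = (i (X' ((ι a)⁻¹ * t))).val * HR D O.L O.ρ a
  rw [hX', hX']
  exact HR_XR_link hD O.L O.hL O.ρ O'.L O'.hL O'.ρ ι hlink a ha t

end ofMatrix

end Cfsg.Agent.TwRankOne.Shape
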