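import Cfsg.Agent.Lib.Helper8.F4T.HTor
import Cfsg.Agent.Lib.Helper8.F4T.Reach
import Mathlib

/-!
# The large Ree groups over fields with more than two elements are perfect (lead, for S1112)
-/

set_option autoImplicit false

namespace Cfsg.Agent.F4P

open Cfsg.Lie Cfsg.Agent.Lib.Helper5.Chev Cfsg.Agent.Lib.Helper5.GA Cfsg.Agent.Lib.Helper5.Tw
open Cfsg.Agent.Lib.Helper5.Frob Cfsg.Agent.Lib.Helper5.Ree Cfsg.Agent.Lib.Helper8.F4T

/-! ### checks: in characteristic 2 the roots `a + b`, `2a + b` of a class of type `B₂` are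
central in the class -/

theorem ckQ4c : commb 2 DataF4.fd 27 28 = true ∧ commb 2 DataF4.fd 27 30 = true ∧
    commb 2 DataF4.fd 25 28 = true ∧ commb 2 DataF4.fd 25 30 = true := by decide +kernel

theorem ckQ4nc : commb 2 DataF4.fd 20 19 = true ∧ commb 2 DataF4.fd 20 17 = true ∧
    commb 2 DataF4.fd 22 19 = true ∧ commb 2 DataF4.fd 22 17 = true := by decide +kernel

section

variable {K : Type*} [Field K] [CharP K 2]

/-- the two last roots of a class of type `B₂` are central -/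
structure B2Central (S : B2Side K) : Prop where
  ca1 : ∀ A B : K, Commute ((hadd4 K).xU S.ra A) ((hadd4 K).xU S.r1 B)
  ca2 : ∀ A B : K, Commute ((hadd4 K).xU S.ra A) ((hadd4 K).xU S.r2 B)
  cb1 : ∀ A B : K, Commute ((hadd4 K).xU S.rb A) ((hadd4 K).xU S.r1 B)
  cb2 : ∀ A B : K, Commute ((hadd4 K).xU S.rb A) ((hadd4 K).xU S.r2 B)

theorem Q4central : B2Central (Q4 K) where
  ca1 := commute_of_check 2 DataF4.agrees (hadd4 K) 27 28 ckQ4c.1
  ca2 := commute_of_check 2 DataF4.agrees (hadd4 K) 27 30 ckQ4c.2.1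
  cb1 := commute_of_check 2 DataF4.agrees (hadd4 K) 25 28 ckQ4c.2.2.1
  cb2 := commute_of_check 2 DataF4.agrees (hadd4 K) 25 30 ckQ4c.2.2.2

theorem Q4ncentral : B2Central (Q4n K) where
  ca1 := commute_of_check 2 DataF4.agrees (hadd4 K) 20 19 ckQ4nc.1
  ca2 := commute_of_check 2 DataF4.agrees (hadd4 K) 20 17 ckQ4nc.2.1
  cb1 := commute_of_check 2 DataF4.agrees (hadd4 K) 22 19 ckQ4nc.2.2.1
  cb2 := commute_of_check 2 DataF4.agrees (hadd4 K) 22 17 ckQ4nc.2.2.2

/-- the central part of a word of a class of type `B₂` -/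
noncomputable def zz (S : B2Side K) (c d : K) : GL chevF4.Idx K :=
  (hadd4 K).xU S.r1 c * (hadd4 K).xU S.r2 d

omit [CharP K 2] in
theorem zz_mul (S : B2Side K) (c d c' d' : K) :
    zz S c d * zz S c' d' = zz S (c + c') (d + d') := by
  unfold zz
  rw [← xU_add4, ← xU_add4]
  simp only [mul_assoc]
  rw [(S.c12 c' d).symm.left_comm]

omit [CharP K 2] in
theorem zz_comm_a {S : B2Side K} (h : B2Central S) (A c d : K) :
    Commute ((hadd4 K).xU S.ra A) (zz S c d) :=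
  (h.ca1 A c).mul_right (h.ca2 A d)

omit [CharP K 2] in
theorem zz_comm_b {S : B2Side K} (h : B2Central S) (B c d : K) :
    Commute ((hadd4 K).xU S.rb B) (zz S c d) :=
  (h.cb1 B c).mul_right (h.cb2 B d)

omit [CharP K 2] in
/-- the product of two words of a class of type `B₂` -/
theorem w4_mul {S : B2Side K} (h : B2Central S) (A B c d A' B' c' d' : K) :
    (hadd4 K).wordU (S.w4 A B c d) * (hadd4 K).wordU (S.w4 A' B' c' d')
      = (hadd4 K).wordU (S.w4 (A + A') (B + B') (A' * B + c + c') (A' ^ 2 * B + d + d')) := by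
  rw [S.wordU_w4, S.wordU_w4, S.wordU_w4]
  show (hadd4 K).xU S.ra A * (hadd4 K).xU S.rb B * zz S c d *
      ((hadd4 K).xU S.ra A' * (hadd4 K).xU S.rb B' * zz S c' d')
    = (hadd4 K).xU S.ra (A + A') * (hadd4 K).xU S.rb (B + B') *
      zz S (A' * B + c + c') (A' ^ 2 * B + d + d')
  have e1 : zz S c d * ((hadd4 K).xU S.ra A' * (hadd4 K).xU S.rb B')
      = (hadd4 K).xU S.ra A' * (hadd4 K).xU S.rb B' * zz S c d :=
    (((zz_comm_a h A' c d).mul_left (zz_comm_b h B' c d))).symm.eq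
  have e2 : (hadd4 K).xU S.rb B * (hadd4 K).xU S.ra A'
      = (hadd4 K).xU S.ra A' * (hadd4 K).xU S.rb B * zz S (A' * B) (A' ^ 2 * B) := S.hcomm A' B
  have e3 : zz S (A' * B) (A' ^ 2 * B) * (hadd4 K).xU S.rb B'
      = (hadd4 K).xU S.rb B' * zz S (A' * B) (A' ^ 2 * B) := (zz_comm_b h B' _ _).symm.eq
  calc (hadd4 K).xU S.ra A * (hadd4 K).xU S.rb B * zz S c d *
        ((hadd4 K).xU S.ra A' * (hadd4 K).xU S.rb B' * zz S c' d')
      = (hadd4 K).xU S.ra A * (hadd4 K).xU S.rb B *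
        (zz S c d * ((hadd4 K).xU S.ra A' * (hadd4 K).xU S.rb B')) * zz S c' d' := by
        simp only [mul_assoc]
    _ = (hadd4 K).xU S.ra A * ((hadd4 K).xU S.rb B * (hadd4 K).xU S.ra A') *
        (hadd4 K).xU S.rb B' * (zz S c d * zz S c' d') := by
        rw [e1]
        simp only [mul_assoc]
    _ = (hadd4 K).xU S.ra A * (hadd4 K).xU S.ra A' * (hadd4 K).xU S.rb B *
        (zz S (A' * B) (A' ^ 2 * B) * (hadd4 K).xU S.rb B') * (zz S c d * zz S c' d') := by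
        rw [e2]
        simp only [mul_assoc]
    _ = (hadd4 K).xU S.ra A * (hadd4 K).xU S.ra A' * ((hadd4 K).xU S.rb B *
        (hadd4 K).xU S.rb B') * (zz S (A' * B) (A' ^ 2 * B) * (zz S c d * zz S c' d')) := by
        rw [e3]
        simp only [mul_assoc]
    _ = _ := by
        rw [xU_add4, xU_add4, zz_mul, zz_mul]
        congr 2 <;> ring

end

section tw

variable {K : Type*} [Field K] [Fintype K] [CharP K 2] {m : ℕ}

/-- the product of two fixed words of a class of type `B₂` -/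
theorem rw_mul {S : B2Side K} (h : B2Central S) (hK : Fintype.card K = 2 ^ (2 * m + 1))
    (t u t' u' : K) :
    (hadd4 K).wordU (S.rw m t u) * (hadd4 K).wordU (S.rw m t' u')
      = (hadd4 K).wordU (S.rw m (t + t') (u + u' + ph1 K m t * t')) := by
  unfold B2Side.rw
  rw [w4_mul h]
  have h2 : ph1 K m t * t' + ph1 K m t * t' = 0 := CharTwo.add_self_eq_zero _
  have e1 : ph1 K m t + ph1 K m t' = ph1 K m (t + t') := (map_add _ _ _).symm
  have e3 : ph1 K m t' * t + (ph1 K m t * t + u) + (ph1 K m t' * t' + u')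
      = ph1 K m (t + t') * (t + t') + (u + u' + ph1 K m t * t') := by
    rw [map_add]
    linear_combination (-1 : K) * h2
  have e4 : (ph1 K m t') ^ 2 * t + ph2 K m u + ph2 K m u'
      = ph2 K m (u + u' + ph1 K m t * t') := by
    rw [map_add, map_add, map_mul, ph2_ph1 hK, ph1_pow2]
    ring
  rw [e1, e3, e4]

omit [Fintype K] in
theorem rw_zero (S : B2Side K) : (hadd4 K).wordU (S.rw m 0 0) = 1 := by
  unfold B2Side.rw
  rw [S.wordU_w4]
  simp only [map_zero, mul_zero, add_zero, xU_zero4, mul_one]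

/-- the inverse of a fixed word of a class of type `B₂` -/
theorem rw_inv {S : B2Side K} (h : B2Central S) (hK : Fintype.card K = 2 ^ (2 * m + 1))
    (t u : K) :
    ((hadd4 K).wordU (S.rw m t u))⁻¹ = (hadd4 K).wordU (S.rw m t (u + ph1 K m t * t)) := by
  symm
  apply eq_inv_of_mul_eq_one_left
  rw [rw_mul h hK]
  have e1 : t + t = 0 := CharTwo.add_self_eq_zero _
  have e2 : u + ph1 K m t * t + u + ph1 K m t * t = 0 := by
    have : u + ph1 K m t * t + u + ph1 K m t * t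
        = (u + ph1 K m t * t) + (u + ph1 K m t * t) := by ring
    rw [this]
    exact CharTwo.add_self_eq_zero _
  rw [e1, e2, rw_zero]

omit [Fintype K] in
/-- the product of two fixed words of a pair -/
theorem pair_mul (S : PairSide K) (t t' : K) :
    (hadd4 K).wordU (S.rw m t) * (hadd4 K).wordU (S.rw m t')
      = (hadd4 K).wordU (S.rw m (t + t')) := by
  unfold PairSide.rw
  rw [S.wordU_w2, S.wordU_w2, S.wordU_w2, map_add, ← xU_add4, ← xU_add4]
  simp only [mul_assoc]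
  rw [(S.comm (ph1 K m t') t).symm.left_comm]

omit [Fintype K] in
theorem pair_zero (S : PairSide K) : (hadd4 K).wordU (S.rw m 0) = 1 := by
  unfold PairSide.rw
  rw [S.wordU_w2]
  simp only [map_zero, xU_zero4, mul_one]

omit [Fintype K] in
theorem pair_inv (S : PairSide K) (t : K) :
    ((hadd4 K).wordU (S.rw m t))⁻¹ = (hadd4 K).wordU (S.rw m t) := by
  symm
  apply eq_inv_of_mul_eq_one_left
  rw [pair_mul, CharTwo.add_self_eq_zero, pair_zero]

omit [Fintype K] [CharP K 2] in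
/-- conjugation of a word by a diagonal element, letter by letter -/
theorem diag_conj_word4 (h : GL chevF4.Idx K) (χ : ℕ → Kˣ)
    (h2 : ∀ s < chevF4.nroots, ∀ u : K, h * (hadd4 K).xU s u * h⁻¹
      = (hadd4 K).xU s ((χ s : K) * u)) (w : List (ℕ × K))
    (hw : ∀ p ∈ w, p.1 < chevF4.nroots) :
    h * (hadd4 K).wordU w * h⁻¹
      = (hadd4 K).wordU (w.map fun p => (p.1, (χ p.1 : K) * p.2)) := by
  induction w with
  | nil =>
    rw [List.map_nil, wordU_nil]
    group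
  | cons a w ih =>
    rw [List.map_cons, wordU_cons, wordU_cons,
      ← ih (fun p hp => hw p (List.mem_cons_of_mem _ hp)),
      ← h2 a.1 (hw a List.mem_cons_self) a.2]
    group

omit [Fintype K] in
/-- conjugation of a fixed word of a class of type `B₂` by a diagonal element -/
theorem conj_rw {S : B2Side K} (hS : B2Sg S) (h : GL chevF4.Idx K) (χ : ℕ → Kˣ)
    (h2 : ∀ s < chevF4.nroots, ∀ u : K, h * (hadd4 K).xU s u * h⁻¹
      = (hadd4 K).xU s ((χ s : K) * u))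
    (hχa : (χ S.ra : K) = ph1 K m (χ S.rb : K))
    (hχ1 : (χ S.r1 : K) = (χ S.ra : K) * (χ S.rb : K))
    (hχ2 : (χ S.r2 : K) = ph2 K m (χ S.r1 : K)) (t u : K) :
    h * (hadd4 K).wordU (S.rw m t u) * h⁻¹
      = (hadd4 K).wordU (S.rw m ((χ S.rb : K) * t) ((χ S.r1 : K) * u)) := by
  have hw : ∀ p ∈ S.rw m t u, p.1 < chevF4.nroots := by
    intro p hp
    unfold B2Side.rw B2Side.w4 at hp
    simp only [List.mem_cons, List.not_mem_nil, or_false] at hp
    rcases hp with rfl | rfl | rfl | rfl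
    · exact hS.la
    · exact hS.lb
    · exact hS.l1
    · exact hS.l2
  rw [diag_conj_word4 h χ h2 _ hw]
  unfold B2Side.rw B2Side.w4
  simp only [List.map_cons, List.map_nil]
  have e1 : (χ S.ra : K) * ph1 K m t = ph1 K m ((χ S.rb : K) * t) := by
    rw [map_mul, hχa]
  have e3 : (χ S.r1 : K) * (ph1 K m t * t + u)
      = ph1 K m ((χ S.rb : K) * t) * ((χ S.rb : K) * t) + (χ S.r1 : K) * u := by
    rw [map_mul, hχ1, hχa]
    ring
  have e4 : (χ S.r2 : K) * ph2 K m u = ph2 K m ((χ S.r1 : K) * u) := by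
    rw [map_mul, hχ2]
  rw [e1, e3, e4]

omit [Fintype K] in
/-- conjugation of a fixed word of a pair by a diagonal element -/
theorem conj_pair {S : PairSide K} (hS : PairSg S) (h : GL chevF4.Idx K) (χ : ℕ → Kˣ)
    (h2 : ∀ s < chevF4.nroots, ∀ u : K, h * (hadd4 K).xU s u * h⁻¹
      = (hadd4 K).xU s ((χ s : K) * u))
    (hχs : (χ S.rs : K) = ph1 K m (χ S.rl : K)) (t : K) :
    h * (hadd4 K).wordU (S.rw m t) * h⁻¹ = (hadd4 K).wordU (S.rw m ((χ S.rl : K) * t)) := by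
  have hw : ∀ p ∈ S.rw m t, p.1 < chevF4.nroots := by
    intro p hp
    unfold PairSide.rw PairSide.w2 at hp
    simp only [List.mem_cons, List.not_mem_nil, or_false] at hp
    rcases hp with rfl | rfl
    · exact hS.ls
    · exact hS.ll
  rw [diag_conj_word4 h χ h2 _ hw]
  unfold PairSide.rw PairSide.w2
  simp only [List.map_cons, List.map_nil]
  rw [map_mul, hχs]

/-- the characters of the element `tauT (μ, 1)` of `H¹` -/
theorem chi_fst (hK : Fintype.card K = 2 ^ (2 * m + 1)) (μ : Kˣ) : ∃ χ : ℕ → Kˣ,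
    (∀ s < chevF4.nroots, ∀ u : K, tauT K m (μ, 1) * (hadd4 K).xU s u * (tauT K m (μ, 1))⁻¹
      = (hadd4 K).xU s ((χ s : K) * u)) ∧
    ∀ (v : ℕ) (hv : v < chevF4.nroots), (χ v : K) =
      (ph1 K m (μ : K)) ^ (cartanM chevF4 j0 ⟨v, hv⟩) * (μ : K) ^ (cartanM chevF4 j3 ⟨v, hv⟩) := by
  obtain ⟨χ, h2, hχ⟩ := tauT_char hK ((μ, 1) : Kˣ × Kˣ)
  refine ⟨χ, h2, fun v hv => ?_⟩
  rw [hχ v hv]
  simp only [map_one, one_zpow, mul_one, Units.val_mul, Units.val_zpow_eq_zpow_val, Units.coe_map,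
    MonoidHom.coe_coe]

/-- the values of the characters on the roots of the generators -/
theorem chi_vals (hK : Fintype.card K = 2 ^ (2 * m + 1)) (μ : Kˣ) : ∃ χ : ℕ → Kˣ,
    (∀ s < chevF4.nroots, ∀ u : K, tauT K m (μ, 1) * (hadd4 K).xU s u * (tauT K m (μ, 1))⁻¹
      = (hadd4 K).xU s ((χ s : K) * u)) ∧
    (χ 33 : K) = (ph1 K m (μ : K)) ^ 2 ∧ (χ 24 : K) = (μ : K) ^ 2 ∧
    (χ 14 : K) = ((ph1 K m (μ : K)) ^ 2)⁻¹ ∧ (χ 23 : K) = ((μ : K) ^ 2)⁻¹ ∧
    (χ 27 : K) = (ph1 K m (μ : K))⁻¹ ∧ (χ 25 : K) = (μ : K)⁻¹ ∧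
    (χ 28 : K) = (ph1 K m (μ : K))⁻¹ * (μ : K)⁻¹ ∧
    (χ 30 : K) = ((ph1 K m (μ : K)) ^ 2)⁻¹ * (μ : K)⁻¹ ∧
    (χ 20 : K) = ph1 K m (μ : K) ∧ (χ 22 : K) = (μ : K) ∧
    (χ 19 : K) = ph1 K m (μ : K) * (μ : K) ∧
    (χ 17 : K) = (ph1 K m (μ : K)) ^ 2 * (μ : K) := by
  obtain ⟨χ, h2, hχ⟩ := chi_fst hK μ
  refine ⟨χ, h2, ?_, ?_, ?_, ?_, ?_, ?_, ?_, ?_, ?_, ?_, ?_, ?_⟩
  · rw [hχ 33 (by decide)]
    have c0 : cartanM chevF4 j0 ⟨33, by decide⟩ = 2 := by decide
    have c3 : cartanM chevF4 j3 ⟨33, by decide⟩ = 0 := by decide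
    rw [c0, c3, zpow_zero, mul_one]
    rw [zpow_ofNat]
  · rw [hχ 24 (by decide)]
    have c0 : cartanM chevF4 j0 ⟨24, by decide⟩ = 0 := by decide
    have c3 : cartanM chevF4 j3 ⟨24, by decide⟩ = 2 := by decide
    rw [c0, c3, zpow_zero, one_mul]
    rw [zpow_ofNat]
  · rw [hχ 14 (by decide)]
    have c0 : cartanM chevF4 j0 ⟨14, by decide⟩ = -2 := by decide
    have c3 : cartanM chevF4 j3 ⟨14, by decide⟩ = 0 := by decide
    rw [c0, c3, zpow_zero, mul_one, zpow_neg]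
    rw [zpow_ofNat]
  · rw [hχ 23 (by decide)]
    have c0 : cartanM chevF4 j0 ⟨23, by decide⟩ = 0 := by decide
    have c3 : cartanM chevF4 j3 ⟨23, by decide⟩ = -2 := by decide
    rw [c0, c3, zpow_zero, one_mul, zpow_neg]
    rw [zpow_ofNat]
  · rw [hχ 27 (by decide)]
    have c0 : cartanM chevF4 j0 ⟨27, by decide⟩ = -1 := by decide
    have c3 : cartanM chevF4 j3 ⟨27, by decide⟩ = 0 := by decide
    rw [c0, c3, zpow_zero, mul_one, zpow_neg_one]
  · rw [hχ 25 (by decide)]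
    have c0 : cartanM chevF4 j0 ⟨25, by decide⟩ = 0 := by decide
    have c3 : cartanM chevF4 j3 ⟨25, by decide⟩ = -1 := by decide
    rw [c0, c3, zpow_zero, one_mul, zpow_neg_one]
  · rw [hχ 28 (by decide)]
    have c0 : cartanM chevF4 j0 ⟨28, by decide⟩ = -1 := by decide
    have c3 : cartanM chevF4 j3 ⟨28, by decide⟩ = -1 := by decide
    rw [c0, c3, zpow_neg_one, zpow_neg_one]
  · rw [hχ 30 (by decide)]
    have c0 : cartanM chevF4 j0 ⟨30, by decide⟩ = -2 := by decide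
    have c3 : cartanM chevF4 j3 ⟨30, by decide⟩ = -1 := by decide
    rw [c0, c3, zpow_neg_one, zpow_neg]
    rw [zpow_ofNat]
  · rw [hχ 20 (by decide)]
    have c0 : cartanM chevF4 j0 ⟨20, by decide⟩ = 1 := by decide
    have c3 : cartanM chevF4 j3 ⟨20, by decide⟩ = 0 := by decide
    rw [c0, c3, zpow_zero, mul_one, zpow_one]
  · rw [hχ 22 (by decide)]
    have c0 : cartanM chevF4 j0 ⟨22, by decide⟩ = 0 := by decide
    have c3 : cartanM chevF4 j3 ⟨22, by decide⟩ = 1 := by decide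
    rw [c0, c3, zpow_zero, one_mul, zpow_one]
  · rw [hχ 19 (by decide)]
    have c0 : cartanM chevF4 j0 ⟨19, by decide⟩ = 1 := by decide
    have c3 : cartanM chevF4 j3 ⟨19, by decide⟩ = 1 := by decide
    rw [c0, c3, zpow_one, zpow_one]
  · rw [hχ 17 (by decide)]
    have c0 : cartanM chevF4 j0 ⟨17, by decide⟩ = 2 := by decide
    have c3 : cartanM chevF4 j3 ⟨17, by decide⟩ = 1 := by decide
    rw [c0, c3, zpow_one]
    rw [zpow_ofNat]

end tw

section derived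

variable {Γ : Type*} [Group Γ]

/-- the derived subgroup of a subgroup, as a subgroup of the ambient group -/
def Cm (G : Subgroup Γ) : Subgroup Γ := (commutator ↥G).map G.subtype

theorem comm_mem_Cm {G : Subgroup Γ} {a b : Γ} (ha : a ∈ G) (hb : b ∈ G) :
    a * b * a⁻¹ * b⁻¹ ∈ Cm G := by
  refine ⟨(⟨a, ha⟩ : ↥G) * ⟨b, hb⟩ * (⟨a, ha⟩ : ↥G)⁻¹ * (⟨b, hb⟩ : ↥G)⁻¹, ?_, rfl⟩
  have := Subgroup.commutator_mem_commutator (Subgroup.mem_top (⟨a, ha⟩ : ↥G))
    (Subgroup.mem_top (⟨b, hb⟩ : ↥G))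
  rwa [commutatorElement_def] at this

theorem perfect_of_le {G : Subgroup Γ} (h : G ≤ Cm G) : commutator ↥G = ⊤ := by
  rw [eq_top_iff]
  rintro ⟨x, hx⟩ -
  obtain ⟨y, hy, hyx⟩ := h hx
  have : y = ⟨x, hx⟩ := Subtype.ext hyx
  rw [← this]
  exact hy

end derived

section main

variable {K : Type*} [Field K] [Fintype K] [CharP K 2] {m : ℕ}

omit [Fintype K] in
theorem add_one_ne_zero2 (c : K) (hc : c ≠ 1) : c + 1 ≠ 0 := by
  intro h
  apply hc
  have : c = -1 := eq_neg_of_add_eq_zero_left h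
  rw [this, CharTwo.neg_eq]

omit [Fintype K] in
/-- the fixed words of a pair are products of commutators -/
theorem pair_mem_Cm {S : PairSide K} (hS : PairSg S) (G : Subgroup (GL chevF4.Idx K))
    (hG : ∀ t : K, (hadd4 K).wordU (S.rw m t) ∈ G)
    (h : GL chevF4.Idx K) (hh : h ∈ G) (χ : ℕ → Kˣ)
    (h2 : ∀ s < chevF4.nroots, ∀ u : K, h * (hadd4 K).xU s u * h⁻¹
      = (hadd4 K).xU s ((χ s : K) * u))
    (hχs : (χ S.rs : K) = ph1 K m (χ S.rl : K)) (hne : (χ S.rl : K) ≠ 1) (t : K) :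
    (hadd4 K).wordU (S.rw m t) ∈ Cm G := by
  have h0 := add_one_ne_zero2 _ hne
  have hc := comm_mem_Cm hh (hG (t / ((χ S.rl : K) + 1)))
  rw [conj_pair hS h χ h2 hχs, pair_inv, pair_mul] at hc
  have e : (χ S.rl : K) * (t / ((χ S.rl : K) + 1)) + t / ((χ S.rl : K) + 1) = t := by
    field_simp
  rwa [e] at hc

/-- the fixed words of a class of type `B₂` are products of commutators -/
theorem b2_mem_Cm {S : B2Side K} (hS : B2Sg S) (hc : B2Central S)
    (hK : Fintype.card K = 2 ^ (2 * m + 1)) (G : Subgroup (GL chevF4.Idx K))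
    (hG : ∀ t u : K, (hadd4 K).wordU (S.rw m t u) ∈ G)
    (h : GL chevF4.Idx K) (hh : h ∈ G) (χ : ℕ → Kˣ)
    (h2 : ∀ s < chevF4.nroots, ∀ u : K, h * (hadd4 K).xU s u * h⁻¹
      = (hadd4 K).xU s ((χ s : K) * u))
    (hχa : (χ S.ra : K) = ph1 K m (χ S.rb : K))
    (hχ1 : (χ S.r1 : K) = (χ S.ra : K) * (χ S.rb : K))
    (hχ2 : (χ S.r2 : K) = ph2 K m (χ S.r1 : K))
    (hneb : (χ S.rb : K) ≠ 1) (hne1 : (χ S.r1 : K) ≠ 1) (t u : K) :
    (hadd4 K).wordU (S.rw m t u) ∈ Cm G := by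
  have hb0 := add_one_ne_zero2 _ hneb
  have h10 := add_one_ne_zero2 _ hne1
  -- the centre
  have step1 : ∀ u : K, (hadd4 K).wordU (S.rw m 0 u) ∈ Cm G := by
    intro u
    have hcm := comm_mem_Cm hh (hG 0 (u / ((χ S.r1 : K) + 1)))
    rw [conj_rw hS h χ h2 hχa hχ1 hχ2, rw_inv hc hK, rw_mul hc hK] at hcm
    have e : (χ S.r1 : K) * (u / ((χ S.r1 : K) + 1)) +
        (u / ((χ S.r1 : K) + 1) + ph1 K m 0 * 0) + ph1 K m ((χ S.rb : K) * 0) * 0 = u := by
      simp only [mul_zero, map_zero, add_zero]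
      field_simp
    rw [e, mul_zero, add_zero] at hcm
    exact hcm
  -- the first coordinate
  set t0 : K := t / ((χ S.rb : K) + 1) with ht0
  have hcm := comm_mem_Cm hh (hG t0 0)
  rw [conj_rw hS h χ h2 hχa hχ1 hχ2, rw_inv hc hK, rw_mul hc hK] at hcm
  have e : (χ S.rb : K) * t0 + t0 = t := by
    rw [ht0]
    field_simp
  rw [e] at hcm
  set u'' : K := (χ S.r1 : K) * 0 + (0 + ph1 K m t0 * t0) + ph1 K m ((χ S.rb : K) * t0) * t0
    with hu''
  have e2 : (hadd4 K).wordU (S.rw m t u)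
      = (hadd4 K).wordU (S.rw m t u'') * (hadd4 K).wordU (S.rw m 0 (u'' + u)) := by
    rw [rw_mul hc hK, add_zero, mul_zero, add_zero, ← add_assoc, CharTwo.add_self_eq_zero,
      zero_add]
  rw [e2]
  exact Subgroup.mul_mem _ hcm (step1 _)

/-- a generator of the multiplicative group acts without fixed points on all the generators -/
theorem exists_gen (hK : Fintype.card K = 2 ^ (2 * m + 1)) (hm : 1 ≤ m) :
    ∃ μ : Kˣ, (μ : K) ≠ 1 ∧ ph1 K m (μ : K) * (μ : K) ≠ 1 := by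
  classical
  obtain ⟨μ, hμ⟩ := IsCyclic.exists_ofOrder_eq_natCard (α := Kˣ)
  rw [Nat.card_eq_fintype_card, Fintype.card_units, hK] at hμ
  have hθ : 2 ≤ 2 ^ m := by
    calc 2 = 2 ^ 1 := by norm_num
      _ ≤ 2 ^ m := Nat.pow_le_pow_right (by norm_num) hm
  have hq : 2 ^ (2 * m + 1) = 2 * (2 ^ m) ^ 2 := by
    rw [pow_succ, pow_mul', mul_comm]
  refine ⟨μ, ?_, ?_⟩
  · intro h
    have h1 : μ = 1 := Units.ext h
    rw [h1, orderOf_one, hq] at hμ
    have : 8 ≤ 2 * (2 ^ m) ^ 2 := by nlinarith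
    omega
  · intro h
    have h1 : μ ^ (2 ^ m + 1) = 1 := by
      apply Units.ext
      rw [Units.val_pow_eq_pow_val, pow_succ, ← Cfsg.Agent.Lib.Helper8.F4T.ph1_apply, h, Units.val_one]
    have hd := orderOf_dvd_of_pow_eq_one h1
    rw [hμ, hq] at hd
    have hle := Nat.le_of_dvd (by positivity) hd
    have : 4 * 2 ^ m ≤ 2 * (2 ^ m) ^ 2 := by nlinarith
    omega

/-- the large Ree groups over fields with more than two elements are perfect -/
theorem twistedF4_perfect (hK : Fintype.card K = 2 ^ (2 * m + 1)) (hm : 1 ≤ m) :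
    commutator ↥(twistedF4 K (2 ^ m)) = ⊤ := by
  obtain ⟨μ, hμ1, hμ2⟩ := exists_gen hK hm
  obtain ⟨χ, h2, v33, v24, v14, v23, v27, v25, v28, v30, v20, v22, v19, v17⟩ := chi_vals hK μ
  have hH : tauT K m (μ, 1) ∈ twistedF4 K (2 ^ m) := tauT_fst_mem μ
  have hμ0 : (μ : K) ≠ 0 := μ.ne_zero
  have hb0 : ph1 K m (μ : K) ≠ 0 := by
    rw [Cfsg.Agent.Lib.Helper8.F4T.ph1_apply]
    exact pow_ne_zero _ hμ0
  have hsq : (μ : K) ^ 2 ≠ 1 := by
    intro h
    apply hμ1
    have : ((μ : K) + 1) ^ 2 = 0 := by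
      rw [add_sq, h, mul_one, one_pow]
      have h2 : (2 : K) = 0 := CharTwo.two_eq_zero
      rw [h2, zero_mul, add_zero]
      exact CharTwo.add_self_eq_zero _
    have h3 := pow_eq_zero_iff (two_ne_zero) |>.1 this
    have : (μ : K) = -1 := eq_neg_of_add_eq_zero_left h3
    rw [this, CharTwo.neg_eq]
  have hP1 : ∀ t : K, (hadd4 K).wordU ((P1 K).rw m t) ∈ Cm (twistedF4 K (2 ^ m)) := by
    intro t
    apply pair_mem_Cm (P1sg K) _ (fun t => P1rw_mem t) _ hH χ h2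
    · show (χ 33 : K) = ph1 K m (χ 24 : K)
      rw [v33, v24, map_pow]
    · show (χ 24 : K) ≠ 1
      rw [v24]
      exact hsq
  have hP1n : ∀ t : K, (hadd4 K).wordU ((P1n K).rw m t) ∈ Cm (twistedF4 K (2 ^ m)) := by
    intro t
    apply pair_mem_Cm (P1nsg K) _ (fun t => by rw [P1n_rw]; exact pairV_mem_twisted _ t) _ hH χ h2
    · show (χ 14 : K) = ph1 K m (χ 23 : K)
      rw [v14, v23, map_inv₀, map_pow]
    · show (χ 23 : K) ≠ 1
      rw [v23]
      intro h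
      exact hsq (inv_eq_one.1 h)
  have hQ4 : ∀ t u : K, (hadd4 K).wordU ((Q4 K).rw m t u) ∈ Cm (twistedF4 K (2 ^ m)) := by
    intro t u
    apply b2_mem_Cm (Q4sg K) Q4central hK _ (fun t u => Q4rw_mem t u) _ hH χ h2
    · show (χ 27 : K) = ph1 K m (χ 25 : K)
      rw [v27, v25, map_inv₀]
    · show (χ 28 : K) = (χ 27 : K) * (χ 25 : K)
      rw [v28, v27, v25]
    · show (χ 30 : K) = ph2 K m (χ 28 : K)
      rw [v30, v28, map_mul, map_inv₀, map_inv₀, ph2_ph1 hK, ← ph1_pow2, mul_comm]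
    · show (χ 25 : K) ≠ 1
      rw [v25]
      intro h
      exact hμ1 (inv_eq_one.1 h)
    · show (χ 28 : K) ≠ 1
      rw [v28, ← mul_inv]
      intro h
      exact hμ2 (inv_eq_one.1 h)
  have hQ4n : ∀ t u : K, (hadd4 K).wordU ((Q4n K).rw m t u) ∈ Cm (twistedF4 K (2 ^ m)) := by
    intro t u
    apply b2_mem_Cm (Q4nsg K) Q4ncentral hK _
      (fun t u => by rw [Q4n_rw]; exact b2V_mem_twisted _ t u) _ hH χ h2
    · show (χ 20 : K) = ph1 K m (χ 22 : K)
      rw [v20, v22]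
    · show (χ 19 : K) = (χ 20 : K) * (χ 22 : K)
      rw [v19, v20, v22]
    · show (χ 17 : K) = ph2 K m (χ 19 : K)
      rw [v17, v19, map_mul, ph2_ph1 hK, ← ph1_pow2, mul_comm]
    · show (χ 22 : K) ≠ 1
      rw [v22]
      exact hμ1
    · show (χ 19 : K) ≠ 1
      rw [v19]
      exact hμ2
  apply perfect_of_le
  unfold twistedF4 ChevalleyDatum.genSubgroup
  rw [Subgroup.closure_le]
  rintro g ⟨w, hw, hg⟩
  have e : g = (hadd4 K).wordU w := by
    apply Units.ext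
    rw [hg, (hadd4 K).wordU_val]
  rw [SetLike.mem_coe, e]
  rcases hw with ⟨t, rfl | rfl⟩ | ⟨t, u, rfl | rfl⟩
  · rw [← P1_rw]
    exact hP1 t
  · rw [← P1n_rw]
    exact hP1n t
  · rw [← Q4_rw]
    exact hQ4 t u
  · rw [← Q4n_rw]
    exact hQ4n t u

end main

end Cfsg.Agent.F4P
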