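import Mathlib
import Cfsg.Agent.S1960
import Cfsg.Agent.Lib.Helper4.GTFus5

/-!
# Control of transfer by a set of section functors: transport lemmas
-/

set_option autoImplicit false
set_option linter.style.haveILetI false
set_option linter.unusedVariables false
set_option linter.unusedSectionVars false

namespace Cfsg.Agent.Lib.Lead.GTTransfer

open Cfsg Cfsg.Agent.Lib.Helper7 Cfsg.Agent.Lib.Lead.Conj Cfsg.Agent.Lib.Lead.ConjFamily Cfsg.Agent.S1963
  Cfsg.Agent.S1965 Cfsg.Agent.S1961 Cfsg.Agent.S1959 Cfsg.Agent.Lib.Helper4.GT2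
  Cfsg.Agent.Lib.Helper4.GTSec Cfsg.Agent.Lib.Helper4.GTFus

open scoped commutatorElement

universe u

section defs

variable (𝓦 : Set (∀ (Q : Type u) [Group Q], Subgroup Q))

/-- the family focal subgroup of `T` relative to `H` -/
def Foc (X : Type u) [Group X] (T H : Subgroup X) : Subgroup X :=
  ⨆ W ∈ 𝓦, T ⊓ ⁅H ⊓ Subgroup.normalizer ((Cfsg.inducedFunctor (G := X) W T : Subgroup X) : Set X),
    H ⊓ Subgroup.normalizer ((Cfsg.inducedFunctor (G := X) W T : Subgroup X) : Set X)⁆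

variable {𝓦}

theorem foc_eq (X : Type u) [Group X] (T H : Subgroup X) :
    (⨆ W' ∈ Ind 𝓦 X, T ⊓ ⁅H ⊓ Subgroup.normalizer ((W' T : Subgroup X) : Set X),
      H ⊓ Subgroup.normalizer ((W' T : Subgroup X) : Set X)⁆) = Foc 𝓦 X T H := by
  unfold Foc Ind
  rw [iSup_image]

theorem foc_mono (X : Type u) [Group X] (T : Subgroup X) {H H' : Subgroup X} (h : H ≤ H') :
    Foc 𝓦 X T H ≤ Foc 𝓦 X T H' := by
  unfold Foc
  refine iSup₂_mono (fun W hW => inf_le_inf_left _ (Subgroup.commutator_mono ?_ ?_)) <;>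
  exact inf_le_inf_right _ h

theorem foc_le (X : Type u) [Group X] (T H : Subgroup X) : Foc 𝓦 X T H ≤ T ⊓ ⁅H, H⁆ := by
  unfold Foc
  refine iSup₂_le (fun W hW => inf_le_inf_left _ (Subgroup.commutator_mono inf_le_left inf_le_left))

theorem le_foc (X : Type u) [Group X] (T H : Subgroup X) {W : ∀ (Q : Type u) [Group Q], Subgroup Q}
    (hW : W ∈ 𝓦) :
    T ⊓ ⁅H ⊓ Subgroup.normalizer ((Cfsg.inducedFunctor (G := X) W T : Subgroup X) : Set X),
      H ⊓ Subgroup.normalizer ((Cfsg.inducedFunctor (G := X) W T : Subgroup X) : Set X)⁆ ≤ Foc 𝓦 X T H := by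
  unfold Foc
  exact le_iSup₂ (f := fun W (_ : W ∈ 𝓦) => T ⊓ ⁅H ⊓ Subgroup.normalizer
    ((Cfsg.inducedFunctor (G := X) W T : Subgroup X) : Set X),
      H ⊓ Subgroup.normalizer ((Cfsg.inducedFunctor (G := X) W T : Subgroup X) : Set X)⁆) W hW

end defs

section transport

variable {p : ℕ} [Fact p.Prime] {𝓦 : Set (∀ (Q : Type u) [Group Q], Subgroup Q)}

/-- control of transfer in `X`, for a given Sylow subgroup -/
theorem ctl_of_ft (h𝓦 : ∀ W ∈ 𝓦, Cfsg.IsCharPFunctor.{u} p W) {X : Type u} [Group X] [Finite X]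
    (hX : FamilyControlsTransferIn p (Ind 𝓦 X) ⊤) (T : Sylow p X) :
    (T : Subgroup X) ⊓ ⁅(⊤ : Subgroup X), ⊤⁆ = Foc 𝓦 X (T : Subgroup X) ⊤ := by
  have h1 := Cfsg.Agent.S1960.family_transfer_any_sylow (isConjugacyFunctor_ind h𝓦 X) hX
    (IsSylowIn.of_sylow_top T)
  rw [foc_eq] at h1
  exact h1

theorem ft_of_ctl {X : Type u} [Group X] [Finite X] (T : Sylow p X)
    (h : (T : Subgroup X) ⊓ ⁅(⊤ : Subgroup X), ⊤⁆ ≤ Foc 𝓦 X (T : Subgroup X) ⊤) :
    FamilyControlsTransferIn p (Ind 𝓦 X) ⊤ := by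
  refine ⟨(T : Subgroup X), le_top, T.isPGroup', ?_, ?_⟩
  · rw [Subgroup.relIndex_top_right]; exact T.not_dvd_index
  · rw [foc_eq]
    exact le_antisymm h (foc_le X _ _)

theorem map_top_inf_normalizer {X Y : Type u} [Group X] [Group Y] (f : X →* Y) (hf : Function.Injective f)
    (U : Subgroup X) :
    ((⊤ : Subgroup X) ⊓ Subgroup.normalizer (U : Set X)).map f =
      f.range ⊓ Subgroup.normalizer ((U.map f : Subgroup Y) : Set Y) := by
  ext y
  constructor
  · rintro ⟨x, ⟨-, hx⟩, rfl⟩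
    exact ⟨⟨x, rfl⟩, Subgroup.le_normalizer_map f ⟨x, hx, rfl⟩⟩
  · rintro ⟨⟨x, rfl⟩, hx⟩
    refine ⟨x, ⟨Subgroup.mem_top x, ?_⟩, rfl⟩
    have h1 : x ∈ (Subgroup.normalizer ((U.map f : Subgroup Y) : Set Y)).comap f := hx
    have h2 := Subgroup.le_normalizer_comap f h1
    rwa [Subgroup.comap_map_eq_self_of_injective hf] at h2

/-- transport of control of transfer along an injective homomorphism -/
theorem transfer_map (h𝓦 : ∀ W ∈ 𝓦, Cfsg.IsCharPFunctor.{u} p W) {X Y : Type u} [Group X] [Group Y]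
    [Finite X] [Finite Y] (f : X →* Y) (hf : Function.Injective f)
    (h : FamilyControlsTransferIn p (Ind 𝓦 X) ⊤) :
    FamilyControlsTransferIn p (Ind 𝓦 Y) f.range := by
  obtain ⟨T, -, hTp, hTidx, heq⟩ := h
  refine ⟨T.map f, Subgroup.map_le_range f T, hTp.map f, ?_, ?_⟩
  · rw [MonoidHom.range_eq_map, Subgroup.relIndex_map_map_of_injective _ _ hf]
    exact hTidx
  · rw [foc_eq] at heq ⊢
    have h1 : T.map f ⊓ ⁅f.range, f.range⁆ = (T ⊓ ⁅(⊤ : Subgroup X), ⊤⁆).map f := by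
      rw [Subgroup.map_inf_eq _ _ f hf, Subgroup.map_commutator, ← MonoidHom.range_eq_map]
    rw [h1, heq]
    unfold Foc
    rw [Subgroup.map_iSup]
    refine iSup_congr (fun W => ?_)
    rw [Subgroup.map_iSup]
    refine iSup_congr (fun hW => ?_)
    have hW2 := pFunctor2_induced W (h𝓦 W hW)
    have hmap : Cfsg.inducedFunctor (G := Y) W (T.map f) = (Cfsg.inducedFunctor (G := X) W T).map f :=
      hW2.map X Y f T hTp (fun x _ hx => by
        have : f x = f 1 := by rw [hx, map_one]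
        exact hf this)
    rw [Subgroup.map_inf_eq _ _ f hf, Subgroup.map_commutator, map_top_inf_normalizer f hf, hmap]

/-- transport along an isomorphism -/
theorem ft_equiv (h𝓦 : ∀ W ∈ 𝓦, Cfsg.IsCharPFunctor.{u} p W) {X Y : Type u} [Group X] [Group Y]
    [Finite X] [Finite Y] (e : X ≃* Y) (h : FamilyControlsTransferIn p (Ind 𝓦 X) ⊤) :
    FamilyControlsTransferIn p (Ind 𝓦 Y) ⊤ := by
  have h1 := transfer_map h𝓦 e.toMonoidHom e.injective h
  have h2 : e.toMonoidHom.range = ⊤ := MonoidHom.range_eq_top.mpr e.surjective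
  rwa [h2] at h1

/-- control in a subgroup containing the Sylow subgroup -/
theorem le_foc_of_subgroup (h𝓦 : ∀ W ∈ 𝓦, Cfsg.IsCharPFunctor.{u} p W) {X : Type u} [Group X] [Finite X]
    (T : Sylow p X) (Y : Subgroup X) (hTY : (T : Subgroup X) ≤ Y)
    (hY : FamilyControlsTransferIn p (Ind 𝓦 ↥Y) ⊤) :
    (T : Subgroup X) ⊓ ⁅Y, Y⁆ ≤ Foc 𝓦 X (T : Subgroup X) ⊤ := by
  have h1 := transfer_map h𝓦 Y.subtype Y.subtype_injective hY
  rw [Subgroup.range_subtype] at h1
  have h2 := Cfsg.Agent.S1960.family_transfer_any_sylow (isConjugacyFunctor_ind h𝓦 X) h1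
    (IsSylowIn.of_sylow_le T hTY)
  rw [foc_eq] at h2
  rw [h2]
  exact foc_mono X _ le_top

end transport

end Cfsg.Agent.Lib.Lead.GTTransfer
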