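import Mathlib
import Cfsg.Agent.Lib.Lead.GTTransfer1

/-!
# Control of transfer: quotients by normal `p'`-subgroups, generation by two subgroups
-/

set_option autoImplicit false
set_option linter.style.haveILetI false
set_option linter.unusedVariables false
set_option linter.unusedSectionVars false

namespace Cfsg.Agent.Lib.Lead.GTTransfer

open Cfsg Cfsg.Agent.Lib.Helper7 Cfsg.Agent.Lib.Lead.Conj Cfsg.Agent.Lib.Lead.ConjFamily Cfsg.Agent.S1963
  Cfsg.Agent.S1965 Cfsg.Agent.S1961 Cfsg.Agent.S1959 Cfsg.Agent.Lib.Helper4.GT2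
  Cfsg.Agent.Lib.Helper4.GTSec Cfsg.Agent.Lib.Helper4.GTFus

open scoped commutatorElement

universe u

section aux

variable {X : Type u} [Group X]

theorem commutator_self_le (N : Subgroup X) : ⁅N, N⁆ ≤ N := by
  rw [← Subgroup.map_subtype_commutator]
  exact Subgroup.map_subtype_le _

/-- a `p`-element of `N` congruent modulo a `p'`-group to an element of `N'` lies in `N'` -/
theorem mem_commutator_of_mul_mem [Finite X] {p : ℕ} {N M : Subgroup X} {t n : X} (ht : t ∈ N) (hn : n ∈ ⁅N, N⁆)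
    (hm : n⁻¹ * t ∈ M) (hMc : (Nat.card ↥M).Coprime p) {a : ℕ} (hta : t ^ p ^ a = 1) : t ∈ ⁅N, N⁆ := by
  have hnN : n ∈ N := commutator_self_le N hn
  set φ : ↥N →* Abelianization ↥N := Abelianization.of with hφ
  have hker : φ.ker = commutator ↥N := Abelianization.ker_of ↥N
  have hn' : φ ⟨n, hnN⟩ = 1 := by
    rw [← MonoidHom.mem_ker, hker]
    rw [← Subgroup.map_subtype_commutator] at hn
    obtain ⟨y, hy, hyn⟩ := hn
    have : y = ⟨n, hnN⟩ := Subtype.ext hyn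
    rw [← this]; exact hy
  have hmN : n⁻¹ * t ∈ N := N.mul_mem (N.inv_mem hnN) ht
  have hprod : (⟨t, ht⟩ : ↥N) = ⟨n, hnN⟩ * ⟨n⁻¹ * t, hmN⟩ := by
    apply Subtype.ext
    simp
  have h1 : φ ⟨t, ht⟩ = φ ⟨n⁻¹ * t, hmN⟩ := by
    rw [hprod, map_mul, hn', one_mul]
  have h2 : φ ⟨t, ht⟩ ^ Nat.card ↥M = 1 := by
    rw [h1, ← map_pow]
    have h3 : (⟨n⁻¹ * t, hmN⟩ : ↥N) ^ Nat.card ↥M = 1 := by
      apply Subtype.ext
      have h4 : (⟨n⁻¹ * t, hm⟩ : ↥M) ^ Nat.card ↥M = 1 := pow_card_eq_one'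
      have h5 := congrArg Subtype.val h4
      rw [Subgroup.coe_pow, Subgroup.coe_one] at h5
      rw [Subgroup.coe_pow, Subgroup.coe_one]
      exact h5
    rw [h3, map_one]
  have h3 : φ ⟨t, ht⟩ ^ p ^ a = 1 := by
    rw [← map_pow]
    have : (⟨t, ht⟩ : ↥N) ^ p ^ a = 1 := by
      apply Subtype.ext
      simpa using hta
    rw [this, map_one]
  have h4 : orderOf (φ ⟨t, ht⟩) = 1 := by
    apply Nat.Coprime.eq_one_of_dvd _ (orderOf_dvd_of_pow_eq_one h2)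
    exact Nat.Coprime.coprime_dvd_left (orderOf_dvd_of_pow_eq_one h3) (hMc.symm.pow_left a)
  rw [orderOf_eq_one_iff, ← MonoidHom.mem_ker, hker] at h4
  rw [← Subgroup.map_subtype_commutator]
  exact ⟨⟨t, ht⟩, h4, rfl⟩

end aux

section quotp'

variable {p : ℕ} [Fact p.Prime] {𝓦 : Set (∀ (Q : Type u) [Group Q], Subgroup Q)}
variable {X : Type u} [Group X] [Finite X]

/-- control of transfer lifts from the quotient by a normal `p'`-subgroup -/
theorem ctl_of_quotient_p' (h𝓦 : ∀ W ∈ 𝓦, Cfsg.IsCharPFunctor.{u} p W) (T : Sylow p X) (M : Subgroup X)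
    [hM : M.Normal] (hMc : (Nat.card ↥M).Coprime p)
    (hq : FamilyControlsTransferIn p (Ind 𝓦 (X ⧸ M)) ⊤) :
    (T : Subgroup X) ⊓ ⁅(⊤ : Subgroup X), ⊤⁆ ≤ Foc 𝓦 X (T : Subgroup X) ⊤ := by
  have hTM : (T : Subgroup X) ⊓ M = ⊥ :=
    (Cfsg.Agent.H1.inf_eq_bot_of_pgroup_coprime M (T : Subgroup X) T.isPGroup' hMc) ▸ inf_comm _ _
  have hs := QuotientGroup.mk'_surjective M
  have hTb : ((T.mapSurjective hs : Sylow p (X ⧸ M)) : Subgroup (X ⧸ M)) =
      (T : Subgroup X).map (QuotientGroup.mk' M) := Sylow.coe_mapSurjective hs T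
  have h1 := ctl_of_ft h𝓦 hq (T.mapSurjective hs)
  rw [hTb] at h1
  have hterm : Foc 𝓦 (X ⧸ M) ((T : Subgroup X).map (QuotientGroup.mk' M)) ⊤ ≤
      (Foc 𝓦 X (T : Subgroup X) ⊤).map (QuotientGroup.mk' M) := by
    unfold Foc
    refine iSup₂_le (fun W hW => ?_)
    refine le_trans ?_ (Subgroup.map_mono (le_foc (𝓦 := 𝓦) X (T : Subgroup X) ⊤ hW))
    have hW2 := pFunctor2_induced W (h𝓦 W hW)
    set V : Subgroup X := Cfsg.inducedFunctor (G := X) W (T : Subgroup X) with hV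
    have hVS : V ≤ (T : Subgroup X) := hW2.le X _ T.isPGroup'
    have hSV : (T : Subgroup X) ≤ Subgroup.normalizer (V : Set X) :=
      Subgroup.le_normalizer.trans (normalizer_le_normalizer_W2 hW2 _ T.isPGroup')
    have hmapV : Cfsg.inducedFunctor (G := X ⧸ M) W ((T : Subgroup X).map (QuotientGroup.mk' M)) =
        V.map (QuotientGroup.mk' M) :=
      hW2.map X (X ⧸ M) (QuotientGroup.mk' M) (T : Subgroup X) T.isPGroup' (fun x hx hx1 => by
        have h1 : x ∈ M := (QuotientGroup.eq_one_iff x).mp hx1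
        have h2 : x ∈ (T : Subgroup X) ⊓ M := ⟨hx, h1⟩
        rwa [hTM, Subgroup.mem_bot] at h2)
    rw [hmapV]
    have hN : (⊤ : Subgroup (X ⧸ M)) ⊓ Subgroup.normalizer
        ((V.map (QuotientGroup.mk' M) : Subgroup (X ⧸ M)) : Set (X ⧸ M)) ≤
        ((⊤ : Subgroup X) ⊓ Subgroup.normalizer (V : Set X)).map (QuotientGroup.mk' M) := by
      rintro y ⟨-, hy⟩
      obtain ⟨x, rfl⟩ := hs y
      have hxV : cj x V ≤ V ⊔ M := by
        rintro _ ⟨v, hv, rfl⟩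
        apply mem_sup_of_mk_mem_map
        have h1 : QuotientGroup.mk' M v ∈ V.map (QuotientGroup.mk' M) := ⟨v, hv, rfl⟩
        have h2 := (Subgroup.mem_normalizer_iff.mp hy (QuotientGroup.mk' M v)).mp h1
        show QuotientGroup.mk' M (x * v * x⁻¹) ∈ _
        rw [mk_conj]; exact h2
      have hxB : cj x (⊥ : Subgroup X) ≤ (T : Subgroup X) ⊔ M := by
        unfold cj
        rw [Subgroup.map_bot]; exact bot_le
      obtain ⟨m, hm, hmx, -⟩ := lift_step T M hMc hVS hSV (B₁ := ⊥) bot_le hxV hxB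
      refine ⟨m * x, ⟨Subgroup.mem_top _, hmx⟩, ?_⟩
      rw [map_mul, QuotientGroup.mk'_apply, QuotientGroup.mk'_apply, (QuotientGroup.eq_one_iff m).mpr hm,
        one_mul]
    rintro y ⟨⟨t, ht, rfl⟩, hy2⟩
    have hy3 : QuotientGroup.mk' M t ∈ (⁅(⊤ : Subgroup X) ⊓ Subgroup.normalizer (V : Set X),
        (⊤ : Subgroup X) ⊓ Subgroup.normalizer (V : Set X)⁆).map (QuotientGroup.mk' M) := by
      rw [Subgroup.map_commutator]
      exact Subgroup.commutator_mono hN hN hy2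
    obtain ⟨n, hn, hnt⟩ := hy3
    have hm : n⁻¹ * t ∈ M := by
      rw [← QuotientGroup.eq_one_iff, ← QuotientGroup.mk'_apply, map_mul, map_inv, hnt, inv_mul_cancel]
    have htN : t ∈ (⊤ : Subgroup X) ⊓ Subgroup.normalizer (V : Set X) := ⟨Subgroup.mem_top _, hSV ht⟩
    obtain ⟨a, ha⟩ := T.isPGroup' ⟨t, ht⟩
    have ha' : t ^ p ^ a = 1 := by
      have := congrArg Subtype.val ha
      simpa using this
    exact ⟨t, ⟨ht, mem_commutator_of_mul_mem htN hn hm hMc ha'⟩, rfl⟩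
  intro x hx
  have hx1 : QuotientGroup.mk' M x ∈ (T : Subgroup X).map (QuotientGroup.mk' M) ⊓
      ⁅(⊤ : Subgroup (X ⧸ M)), ⊤⁆ := by
    refine ⟨⟨x, hx.1, rfl⟩, ?_⟩
    have h2 : QuotientGroup.mk' M x ∈ (⁅(⊤ : Subgroup X), (⊤ : Subgroup X)⁆ : Subgroup X).map
        (QuotientGroup.mk' M) := ⟨x, hx.2, rfl⟩
    rwa [Subgroup.map_commutator, Subgroup.map_top_of_surjective _ hs] at h2
  rw [h1] at hx1
  obtain ⟨f, hf, hfx⟩ := hterm hx1
  have hfT : f ∈ (T : Subgroup X) := (foc_le X _ _ hf).1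
  have h3 : f⁻¹ * x ∈ (T : Subgroup X) ⊓ M := by
    refine ⟨Subgroup.mul_mem _ (Subgroup.inv_mem _ hfT) hx.1, ?_⟩
    show f⁻¹ * x ∈ M
    rw [← QuotientGroup.eq_one_iff, ← QuotientGroup.mk'_apply, map_mul, map_inv, hfx, inv_mul_cancel]
  rw [hTM, Subgroup.mem_bot] at h3
  have : x = f := (inv_mul_eq_one.mp h3).symm
  rw [this]; exact hf

end quotp'

section generation

variable {G : Type*} [Group G] [Finite G] {p : ℕ} [Fact p.Prime]

/-- for `H ⊴ G`, a conjugation between subsets of `S` factors through `H S` and `N_G(S ∩ H)` -/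
theorem generation_factor (S : Sylow p G) (H : Subgroup G) [hH : H.Normal]
    (A : Set G) (g : G) (hA : A ⊆ ((S : Subgroup G) : Set G)) (hgA : lc g A ⊆ ((S : Subgroup G) : Set G)) :
    ∃ y₁ ∈ H ⊔ (S : Subgroup G), ∃ y₂ ∈ Subgroup.normalizer (((S : Subgroup G) ⊓ H : Subgroup G) : Set G),
      g = y₂ * y₁ ∧ lc y₁ A ⊆ ((S : Subgroup G) : Set G) := by
  set D : Subgroup G := (S : Subgroup G) ⊓ H with hD
  have hDsyl : IsSylowIn p D H :=
    (IsSylowIn.of_sylow_top S).inf_normal H le_top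
      (by rw [Subgroup.normalizer_eq_top_iff.mpr hH])
  obtain ⟨l, hl, h, hh, rfl⟩ := frattini_mul H hDsyl g
  have hlinv : l⁻¹ ∈ Subgroup.normalizer (D : Set G) := Subgroup.inv_mem _ hl
  have hDl : D ≤ cj l⁻¹ (S : Subgroup G) := by
    have : cj l⁻¹ D = D := cj_eq_of_mem_normalizer hlinv
    rw [← this]; exact cj_mono _ inf_le_left
  have hhA : lc h A ⊆ ((cj l⁻¹ (S : Subgroup G) : Subgroup G) : Set G) := by
    rintro _ ⟨a, ha, rfl⟩
    rw [SetLike.mem_coe, mem_cj, inv_inv]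
    have : l * h * a * (l * h)⁻¹ ∈ (S : Subgroup G) := hgA ⟨a, ha, rfl⟩
    convert this using 1
    group
  set T : Subgroup G := D ⊔ Subgroup.closure (lc h A) with hT
  have hTl : T ≤ cj l⁻¹ (S : Subgroup G) := sup_le hDl ((Subgroup.closure_le _).mpr hhA)
  have hTp : IsPGroup p ↥T := (S.isPGroup'.map (MulAut.conj l⁻¹).toMonoidHom).to_le hTl
  have hTHS : T ≤ H ⊔ (S : Subgroup G) := by
    refine sup_le (inf_le_right.trans le_sup_left) ((Subgroup.closure_le _).mpr ?_)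
    rintro _ ⟨a, ha, rfl⟩
    have e : h * a * h⁻¹ = h * (a * h⁻¹ * a⁻¹) * a := by group
    show h * a * h⁻¹ ∈ H ⊔ (S : Subgroup G)
    rw [e]
    exact Subgroup.mul_mem _ (Subgroup.mem_sup_left (H.mul_mem hh (hH.conj_mem _ (H.inv_mem hh) a)))
      (Subgroup.mem_sup_right (hA ha))
  obtain ⟨y, hy, hyT⟩ := exists_conj_le S (le_sup_right : (S : Subgroup G) ≤ H ⊔ (S : Subgroup G)) hTp hTHS
  have hy' : y ∈ (S : Subgroup G) ⊔ H := by rw [sup_comm]; exact hy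
  rw [← SetLike.mem_coe, Subgroup.mul_normal] at hy'
  obtain ⟨s₁, hs₁, h₁, hh₁, rfl⟩ := hy'
  have hh₁T : cj h₁ T ≤ (S : Subgroup G) := by
    have h3 : cj s₁⁻¹ (cj (s₁ * h₁) T) ≤ cj s₁⁻¹ (S : Subgroup G) := cj_mono _ hyT
    rw [cj_cj, ← mul_assoc, inv_mul_cancel, one_mul] at h3
    exact h3.trans (cj_le_of_mem le_rfl ((S : Subgroup G).inv_mem hs₁))
  have hh₁D : h₁ ∈ Subgroup.normalizer (D : Set G) := by
    apply mem_normalizer_of_cj_le
    refine le_inf ((cj_mono h₁ (le_sup_left : D ≤ T)).trans hh₁T) ?_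
    exact cj_le_of_mem inf_le_right hh₁
  have hy₁A : lc (h₁ * h) A ⊆ ((S : Subgroup G) : Set G) := by
    rw [lc_mul]
    intro x hx
    apply hh₁T
    rw [← SetLike.mem_coe, ← lc_coe]
    exact lc_mono h₁ (fun b hb => (le_sup_right : Subgroup.closure (lc h A) ≤ T)
      (Subgroup.subset_closure hb)) hx
  refine ⟨h₁ * h, Subgroup.mem_sup_left (H.mul_mem hh₁ hh), l * h₁⁻¹,
    Subgroup.mul_mem _ hl (Subgroup.inv_mem _ hh₁D), by group, hy₁A⟩

/-- the focal subgroup is generated by the focal subgroups of `H S` and `N_G(S ∩ H)` -/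
theorem gen_focal (S : Sylow p G) (H : Subgroup G) [hH : H.Normal] (F : Subgroup G)
    (h1 : (S : Subgroup G) ⊓ ⁅H ⊔ (S : Subgroup G), H ⊔ (S : Subgroup G)⁆ ≤ F)
    (h2 : (S : Subgroup G) ⊓ ⁅Subgroup.normalizer (((S : Subgroup G) ⊓ H : Subgroup G) : Set G),
      Subgroup.normalizer (((S : Subgroup G) ⊓ H : Subgroup G) : Set G)⁆ ≤ F) :
    (S : Subgroup G) ⊓ ⁅(⊤ : Subgroup G), ⊤⁆ ≤ F := by
  have hfoc := Subgroup.commutator_inf_eq_focalSubgroup S
  have e : (S : Subgroup G) ⊓ ⁅(⊤ : Subgroup G), ⊤⁆ = (S : Subgroup G).focalSubgroup := by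
    rw [← hfoc, inf_comm]; rfl
  rw [e, Subgroup.focalSubgroup_def, Subgroup.closure_le]
  rintro g ⟨hgS, x, hxS, u, rfl⟩
  -- `⁅x, u⁆ = x * u * x⁻¹ * u⁻¹`
  set a := x⁻¹ with ha
  have haS : a ∈ (S : Subgroup G) := Subgroup.inv_mem _ hxS
  have huS : u * a * u⁻¹ ∈ (S : Subgroup G) := by
    have e1 : u * a * u⁻¹ = x⁻¹ * ⁅x, u⁆ := by
      rw [commutatorElement_def, ha]; group
    rw [e1]; exact Subgroup.mul_mem _ (Subgroup.inv_mem _ hxS) hgS
  obtain ⟨y₁, hy₁, y₂, hy₂, hu, hy₁a⟩ := generation_factor S H {a} u (by rintro _ rfl; exact haS)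
    (by rintro _ ⟨b, rfl, rfl⟩; exact huS)
  set b := y₁ * a * y₁⁻¹ with hb
  have hbS : b ∈ (S : Subgroup G) := hy₁a ⟨a, rfl, rfl⟩
  have hSN : (S : Subgroup G) ≤ Subgroup.normalizer (((S : Subgroup G) ⊓ H : Subgroup G) : Set G) := by
    intro s hs
    apply mem_normalizer_of_cj_le
    unfold cj
    rw [Subgroup.map_inf_eq _ _ _ (MulAut.conj s).injective]
    exact inf_le_inf (cj_le_of_mem le_rfl hs) (le_of_eq (cj_normal s H))
  have e2 : ⁅x, u⁆ = ⁅a⁻¹, y₁⁆ * ⁅b⁻¹, y₂⁆ := by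
    rw [commutatorElement_def, commutatorElement_def, commutatorElement_def, hb, hu, ha]
    group
  have hc1 : ⁅a⁻¹, y₁⁆ ∈ (S : Subgroup G) ⊓ ⁅H ⊔ (S : Subgroup G), H ⊔ (S : Subgroup G)⁆ := by
    refine ⟨?_, Subgroup.commutator_mem_commutator
      (Subgroup.mem_sup_right (Subgroup.inv_mem _ haS)) hy₁⟩
    have e3 : ⁅a⁻¹, y₁⁆ = a⁻¹ * b := by
      rw [commutatorElement_def, hb]; group
    rw [e3]; exact Subgroup.mul_mem _ (Subgroup.inv_mem _ haS) hbS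
  have hc2 : ⁅b⁻¹, y₂⁆ ∈ (S : Subgroup G) ⊓
      ⁅Subgroup.normalizer (((S : Subgroup G) ⊓ H : Subgroup G) : Set G),
        Subgroup.normalizer (((S : Subgroup G) ⊓ H : Subgroup G) : Set G)⁆ := by
    refine ⟨?_, Subgroup.commutator_mem_commutator (hSN (Subgroup.inv_mem _ hbS)) hy₂⟩
    have e3 : ⁅b⁻¹, y₂⁆ = b⁻¹ * (u * a * u⁻¹) := by
      rw [commutatorElement_def, hb, hu]; group
    rw [e3]; exact Subgroup.mul_mem _ (Subgroup.inv_mem _ hbS) huS
  rw [e2]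
  exact Subgroup.mul_mem _ (h1 hc1) (h2 hc2)

end generation

end Cfsg.Agent.Lib.Lead.GTTransfer
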