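import Mathlib
import Cfsg.Agent.Lib.Lead.GTTransfer2

/-!
# Control of transfer by a set of section functors, from the constrained sections (Glauberman)
-/

set_option autoImplicit false
set_option linter.style.haveILetI false
set_option linter.unusedVariables false
set_option linter.unusedSectionVars false

namespace Cfsg.Agent.Lib.Lead.GTTransfer

open Cfsg Cfsg.Agent.Lib.Helper7 Cfsg.Agent.Lib.Lead.Conj Cfsg.Agent.Lib.Lead.ConjFamily Cfsg.Agent.S1963
  Cfsg.Agent.S1965 Cfsg.Agent.S1961 Cfsg.Agent.S1959 Cfsg.Agent.Lib.Helper4.GT2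
  Cfsg.Agent.Lib.Helper4.GTSec Cfsg.Agent.Lib.Helper4.GTFus Cfsg.Agent.Lib.Helper4.PNil

open scoped commutatorElement

universe u

section transferlemma

/-- the transfer of an element all of whose powers are stable -/
theorem transfer_pow_of_stable_elem {G : Type*} [Group G] {H : Subgroup G} [H.FiniteIndex]
    {A : Type*} [CommGroup A] (ϕ : ↥H →* A) (x : ↥H)
    (hstab : ∀ (n : ℕ) (g : G) (hg : g⁻¹ * ((x : G) ^ n) * g ∈ H),
      ϕ ⟨g⁻¹ * ((x : G) ^ n) * g, hg⟩ = ϕ (x ^ n)) :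
    MonoidHom.transfer ϕ (x : G) = ϕ x ^ H.index := by
  classical
  have : Fintype (Quotient (MulAction.orbitRel (Subgroup.zpowers (x : G)) (G ⧸ H))) :=
    Fintype.ofFinite _
  rw [Subgroup.index_eq_sum_minimalPeriod H (x : G), ← Finset.prod_pow_eq_pow_sum,
    MonoidHom.transfer_eq_prod_quotient_orbitRel_zpowers_quot]
  apply Finset.prod_congr rfl
  intro q _
  have h1 := hstab (Function.minimalPeriod ((x : G) • ·) q.out) q.out.out
    (QuotientGroup.out_conj_pow_minimalPeriod_mem H (x : G) q.out)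
  rw [map_pow] at h1
  rw [← h1]

variable {p : ℕ} [Fact p.Prime] {X : Type u} [Group X] [Finite X]

/-- if `X = C_X(P) T` for a normal `p`-subgroup `P`, then `P ∩ X' ≤ T'` -/
theorem inf_commutator_le_of_centralizer_mul (T : Sylow p X) (P : Subgroup X)
    (hPT : P ≤ (T : Subgroup X))
    (hX : ∀ x : X, ∃ c ∈ Subgroup.centralizer (P : Set X), ∃ t ∈ (T : Subgroup X), x = c * t) :
    P ⊓ ⁅(⊤ : Subgroup X), ⊤⁆ ≤ ⁅(T : Subgroup X), (T : Subgroup X)⁆ := by
  intro x hx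
  set φ : ↥(T : Subgroup X) →* Abelianization ↥(T : Subgroup X) := Abelianization.of with hφ
  have hker : φ.ker = commutator ↥(T : Subgroup X) := Abelianization.ker_of _
  have hxT : x ∈ (T : Subgroup X) := hPT hx.1
  have hstab : ∀ (n : ℕ) (g : X) (hg : g⁻¹ * (((⟨x, hxT⟩ : ↥(T : Subgroup X)) : X) ^ n) * g ∈ (T : Subgroup X)),
      φ ⟨g⁻¹ * (((⟨x, hxT⟩ : ↥(T : Subgroup X)) : X) ^ n) * g, hg⟩ = φ ((⟨x, hxT⟩ : ↥(T : Subgroup X)) ^ n) := by
    intro n g hg
    obtain ⟨c, hc, t, ht, rfl⟩ := hX g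
    have hxn : x ^ n ∈ P := P.pow_mem hx.1 n
    have hcx : c⁻¹ * x ^ n * c = x ^ n := by
      have := Subgroup.mem_centralizer_iff.mp hc (x ^ n) hxn
      rw [mul_assoc, this, ← mul_assoc, inv_mul_cancel, one_mul]
    have e : (c * t)⁻¹ * x ^ n * (c * t) = t⁻¹ * x ^ n * t := by
      calc (c * t)⁻¹ * x ^ n * (c * t) = t⁻¹ * (c⁻¹ * x ^ n * c) * t := by group
        _ = t⁻¹ * x ^ n * t := by rw [hcx]
    have e2 : (⟨(c * t)⁻¹ * (((⟨x, hxT⟩ : ↥(T : Subgroup X)) : X) ^ n) * (c * t), hg⟩ : ↥(T : Subgroup X)) =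
        (⟨t, ht⟩ : ↥(T : Subgroup X))⁻¹ * (⟨x, hxT⟩ : ↥(T : Subgroup X)) ^ n * ⟨t, ht⟩ := by
      apply Subtype.ext
      simp only [Subgroup.coe_mul, Subgroup.coe_inv, Subgroup.coe_pow]
      exact e
    rw [e2, map_mul, map_mul, map_inv, mul_comm (φ ⟨t, ht⟩)⁻¹, mul_assoc, inv_mul_cancel, mul_one]
  have htr := transfer_pow_of_stable_elem φ ⟨x, hxT⟩ hstab
  have h1 : MonoidHom.transfer φ x = 1 := by
    have h2 : x ∈ commutator X := hx.2
    exact Abelianization.commutator_subset_ker _ h2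
  have h3 : φ ⟨x, hxT⟩ ^ (T : Subgroup X).index = 1 := by
    rw [← htr]; exact h1
  obtain ⟨a, ha⟩ := T.isPGroup' ⟨x, hxT⟩
  have h4 : φ ⟨x, hxT⟩ ^ p ^ a = 1 := by rw [← map_pow, ha, map_one]
  have hp : p.Prime := Fact.out
  have hcop : Nat.Coprime (p ^ a) (T : Subgroup X).index :=
    Nat.Coprime.pow_left a ((Nat.Prime.coprime_iff_not_dvd hp).mpr T.not_dvd_index)
  have h5 : orderOf (φ ⟨x, hxT⟩) = 1 :=
    Nat.Coprime.eq_one_of_dvd (Nat.Coprime.coprime_dvd_left (orderOf_dvd_of_pow_eq_one h4) hcop)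
      (orderOf_dvd_of_pow_eq_one h3)
  rw [orderOf_eq_one_iff, ← MonoidHom.mem_ker, hker] at h5
  rw [← Subgroup.map_subtype_commutator]
  exact ⟨⟨x, hxT⟩, h5, rfl⟩

end transferlemma

section quotp

variable {p : ℕ} [Fact p.Prime] {𝓦 : Set (∀ (Q : Type u) [Group Q], Subgroup Q)}
variable {X : Type u} [Group X] [Finite X]

/-- the quotient step: control in `X ⧸ P` and in the proper subgroups containing `T` gives control modulo `P ∩ X'` -/
theorem quot_step (h𝓦 : ∀ W ∈ 𝓦, Cfsg.IsCharPFunctor.{u} p W) (T : Sylow p X) (P : Subgroup X)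
    [hPn : P.Normal] (hPp : IsPGroup p ↥P) (hPT : P ≤ (T : Subgroup X)) (hne : P ≠ (T : Subgroup X))
    (hPcore : ∀ Q : Subgroup X, Q.Normal → IsPGroup p ↥Q → Q ≤ P)
    (hq : FamilyControlsTransferIn p (Ind 𝓦 (X ⧸ P)) ⊤)
    (hsub : ∀ L : Subgroup X, L ≠ ⊤ → (T : Subgroup X) ≤ L →
      (T : Subgroup X) ⊓ ⁅L, L⁆ ≤ Foc 𝓦 X (T : Subgroup X) ⊤) :
    (T : Subgroup X) ⊓ ⁅(⊤ : Subgroup X), ⊤⁆ ≤
      Foc 𝓦 X (T : Subgroup X) ⊤ ⊔ (P ⊓ ⁅(⊤ : Subgroup X), ⊤⁆) := by
  have hs := QuotientGroup.mk'_surjective P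
  have hTb : ((T.mapSurjective hs : Sylow p (X ⧸ P)) : Subgroup (X ⧸ P)) =
      (T : Subgroup X).map (QuotientGroup.mk' P) := Sylow.coe_mapSurjective hs T
  have h1 := ctl_of_ft h𝓦 hq (T.mapSurjective hs)
  rw [hTb] at h1
  have hTbp : IsPGroup p ↥((T : Subgroup X).map (QuotientGroup.mk' P)) := T.isPGroup'.map _
  have hTbne : (T : Subgroup X).map (QuotientGroup.mk' P) ≠ ⊥ := by
    intro h
    apply hne
    apply le_antisymm hPT
    have h2 := (Subgroup.map_eq_bot_iff _).mp h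
    rwa [QuotientGroup.ker_mk'] at h2
  have hterm : Foc 𝓦 (X ⧸ P) ((T : Subgroup X).map (QuotientGroup.mk' P)) ⊤ ≤
      (Foc 𝓦 X (T : Subgroup X) ⊤).map (QuotientGroup.mk' P) := by
    unfold Foc
    refine iSup₂_le (fun W hW => ?_)
    have hW2 := pFunctor2_induced W (h𝓦 W hW)
    set Vb : Subgroup (X ⧸ P) :=
      Cfsg.inducedFunctor (G := X ⧸ P) W ((T : Subgroup X).map (QuotientGroup.mk' P)) with hVb
    have hVbp : IsPGroup p ↥Vb := hTbp.to_le (hW2.le (X ⧸ P) _ hTbp)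
    have hVbne : Vb ≠ ⊥ := hW2.ne_bot (X ⧸ P) _ hTbp hTbne
    have hTbN : (T : Subgroup X).map (QuotientGroup.mk' P) ≤ Subgroup.normalizer (Vb : Set (X ⧸ P)) :=
      Subgroup.le_normalizer.trans (normalizer_le_normalizer_W2 hW2 _ hTbp)
    set L : Subgroup X := (Subgroup.normalizer (Vb : Set (X ⧸ P))).comap (QuotientGroup.mk' P) with hL
    have hTL : (T : Subgroup X) ≤ L := fun t ht => hTbN ⟨t, ht, rfl⟩
    have hNL : Subgroup.normalizer (Vb : Set (X ⧸ P)) = L.map (QuotientGroup.mk' P) :=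
      (Subgroup.map_comap_eq_self_of_surjective hs _).symm
    have hLne : L ≠ ⊤ := by
      intro hLtop
      apply hVbne
      have hVn : Vb.Normal := by
        rw [← Subgroup.normalizer_eq_top_iff, hNL, hLtop]
        exact Subgroup.map_top_of_surjective _ hs
      have hQn : (Vb.comap (QuotientGroup.mk' P)).Normal := hVn.comap _
      have hQp : IsPGroup p ↥(Vb.comap (QuotientGroup.mk' P)) :=
        hVbp.comap_of_ker_isPGroup _ (by rw [QuotientGroup.ker_mk']; exact hPp)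
      have hQP := hPcore _ hQn hQp
      have h2 : Vb = (Vb.comap (QuotientGroup.mk' P)).map (QuotientGroup.mk' P) :=
        (Subgroup.map_comap_eq_self_of_surjective hs _).symm
      rw [h2, eq_bot_iff]
      refine (Subgroup.map_mono hQP).trans ?_
      rw [(Subgroup.map_eq_bot_iff _).mpr (by rw [QuotientGroup.ker_mk'])]
    refine le_trans ?_ (Subgroup.map_mono (hsub L hLne hTL))
    rintro y ⟨⟨t, ht, rfl⟩, hy2⟩
    have hy3 : QuotientGroup.mk' P t ∈ (⁅L, L⁆ : Subgroup X).map (QuotientGroup.mk' P) := by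
      rw [Subgroup.map_commutator, ← hNL]
      exact Subgroup.commutator_mono inf_le_right inf_le_right hy2
    obtain ⟨l, hl, hlt⟩ := hy3
    have hlP : l⁻¹ * t ∈ P := by
      rw [← QuotientGroup.eq_one_iff, ← QuotientGroup.mk'_apply, map_mul, map_inv, hlt, inv_mul_cancel]
    have hlT : l ∈ (T : Subgroup X) := by
      have e : l = t * (l⁻¹ * t)⁻¹ := by group
      rw [e]
      exact Subgroup.mul_mem _ ht (Subgroup.inv_mem _ (hPT hlP))
    exact ⟨l, ⟨hlT, hl⟩, hlt⟩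
  intro x hx
  have hx1 : QuotientGroup.mk' P x ∈ (T : Subgroup X).map (QuotientGroup.mk' P) ⊓
      ⁅(⊤ : Subgroup (X ⧸ P)), ⊤⁆ := by
    refine ⟨⟨x, hx.1, rfl⟩, ?_⟩
    have h2 : QuotientGroup.mk' P x ∈ (⁅(⊤ : Subgroup X), (⊤ : Subgroup X)⁆ : Subgroup X).map
        (QuotientGroup.mk' P) := ⟨x, hx.2, rfl⟩
    rwa [Subgroup.map_commutator, Subgroup.map_top_of_surjective _ hs] at h2
  rw [h1] at hx1
  obtain ⟨f, hf, hfx⟩ := hterm hx1
  have hfc : f ∈ ⁅(⊤ : Subgroup X), ⊤⁆ := (Subgroup.mem_inf.mp (foc_le X _ _ hf)).2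
  have hyP : f⁻¹ * x ∈ P := by
    rw [← QuotientGroup.eq_one_iff, ← QuotientGroup.mk'_apply, map_mul, map_inv, hfx, inv_mul_cancel]
  have e : x = f * (f⁻¹ * x) := by group
  rw [e]
  exact Subgroup.mul_mem_sup hf ⟨hyP, Subgroup.mul_mem _ (Subgroup.inv_mem _ hfc) hx.2⟩

end quotp

section main

variable {p : ℕ} [Fact p.Prime] {𝓦 : Set (∀ (Q : Type u) [Group Q], Subgroup Q)}

/-- the induction step -/
theorem main_step (h𝓦 : ∀ W ∈ 𝓦, Cfsg.IsCharPFunctor.{u} p W) (G : Type u) [Group G]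
    (X : Type u) [Group X] [Finite X] (hX : IsSec G X)
    (ih : ∀ (Y : Type u) [Group Y] [Finite Y], Nat.card Y < Nat.card X → IsSec G Y →
      FamilyControlsTransferIn p (Ind 𝓦 Y) ⊤)
    (hcons : Subgroup.centralizer ((Cfsg.pCore p X : Subgroup X) : Set X) ≤ Cfsg.pCore p X →
      FamilyControlsTransferIn p (Ind 𝓦 X) ⊤) :
    FamilyControlsTransferIn p (Ind 𝓦 X) ⊤ := by
  have hp : p.Prime := Fact.out
  obtain ⟨S⟩ : Nonempty (Sylow p X) := inferInstance
  haveI hPn : (Cfsg.pCore p X).Normal := Cfsg.Agent.H1.pCore_normal p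
  set P := Cfsg.pCore p X with hP
  have hPp : IsPGroup p ↥P := Cfsg.Agent.H1.pCore_isPGroup p
  have hPS : P ≤ (S : Subgroup X) := hPp.le_sylow_of_normal S
  have hPcore : ∀ Q : Subgroup X, Q.Normal → IsPGroup p ↥Q → Q ≤ P :=
    fun Q hQn hQp => Cfsg.Agent.H1.le_pCore hQn hQp
  have ih_sub : ∀ Y : Subgroup X, Y ≠ ⊤ → FamilyControlsTransferIn p (Ind 𝓦 ↥Y) ⊤ := by
    intro Y hY
    have h1 : Nat.card ↥Y < Nat.card X := by
      refine lt_of_le_of_ne (Nat.le_of_dvd Nat.card_pos (Subgroup.card_subgroup_dvd_card Y)) ?_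
      intro h
      exact hY ((Subgroup.card_eq_iff_eq_top Y).mp h)
    exact ih ↥Y h1 (isSec_sub G X Y hX)
  have ih_quot : ∀ (M : Subgroup X) [M.Normal], M ≠ ⊥ →
      FamilyControlsTransferIn p (Ind 𝓦 (X ⧸ M)) ⊤ := by
    intro M _ hM
    have h1 : Nat.card (X ⧸ M) < Nat.card X := by
      rw [Subgroup.card_eq_card_quotient_mul_card_subgroup M]
      have h2 : 1 < Nat.card ↥M := (Subgroup.one_lt_card_iff_ne_bot M).mpr hM
      have h3 : 0 < Nat.card (X ⧸ M) := Nat.card_pos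
      nlinarith
    exact ih (X ⧸ M) h1 (isSec_quot G X M hX)
  have hsub : ∀ L : Subgroup X, L ≠ ⊤ → (S : Subgroup X) ≤ L →
      (S : Subgroup X) ⊓ ⁅L, L⁆ ≤ Foc 𝓦 X (S : Subgroup X) ⊤ :=
    fun L hL hSL => le_foc_of_subgroup h𝓦 S L hSL (ih_sub L hL)
  -- case 1: `O_{p'}(X) ≠ 1`
  by_cases hM : Cfsg.pPrimeCore p X = ⊥
  swap
  · haveI : (Cfsg.pPrimeCore p X).Normal := Cfsg.Agent.H1.pPrimeCore_normal p
    exact ft_of_ctl S (ctl_of_quotient_p' h𝓦 S (Cfsg.pPrimeCore p X)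
      (Cfsg.Agent.H1.pPrimeCore_coprime p) (ih_quot _ hM))
  -- case 2a: `O_p(X) = 1`
  by_cases hPbot : P = ⊥
  · apply Cfsg.Agent.S1960.result S (Ind 𝓦 X) (isConjugacyFunctor_ind h𝓦 X)
    intro T hTS hTne hidx
    have hNT : Subgroup.normalizer (T : Set X) ≠ ⊤ := by
      intro h
      apply hTne
      rw [eq_bot_iff, ← hPbot]
      exact hPcore T (Subgroup.normalizer_eq_top_iff.mp h) (S.isPGroup'.to_le hTS)
    have h1 := transfer_map h𝓦 (Subgroup.normalizer (T : Set X)).subtype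
      (Subgroup.subtype_injective _) (ih_sub _ hNT)
    rwa [Subgroup.range_subtype] at h1
  -- case 2b
  set C : Subgroup X := Subgroup.centralizer (P : Set X) with hC
  haveI hCn : C.Normal := Subgroup.normal_centralizer
  by_cases hSC : (S : Subgroup X) ⊓ C ≤ P
  · exact hcons (centralizer_pCore_le S hM hSC)
  have hne : P ≠ (S : Subgroup X) := by
    intro h
    apply hSC
    rw [← h]; exact inf_le_left
  apply ft_of_ctl S
  set H : Subgroup X := P ⊔ C with hH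
  haveI hHn : H.Normal := by rw [hH]; infer_instance
  have hSD : (S : Subgroup X) ≤ Subgroup.normalizer (((S : Subgroup X) ⊓ H : Subgroup X) : Set X) := by
    intro s hs
    apply mem_normalizer_of_cj_le
    unfold cj
    rw [Subgroup.map_inf_eq _ _ _ (MulAut.conj s).injective]
    refine inf_le_inf (cj_le_of_mem le_rfl hs) (le_of_eq (cj_normal s H))
  have hND : Subgroup.normalizer (((S : Subgroup X) ⊓ H : Subgroup X) : Set X) ≠ ⊤ := by
    intro h
    apply hSC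
    have h1 : (S : Subgroup X) ⊓ H ≤ P :=
      hPcore _ (Subgroup.normalizer_eq_top_iff.mp h) (S.isPGroup'.to_le inf_le_left)
    exact (inf_le_inf_left _ (le_sup_right : C ≤ H)).trans h1
  by_cases hHS : H ⊔ (S : Subgroup X) = ⊤
  · -- `X = C S`
    have hCS : C ⊔ (S : Subgroup X) = ⊤ := by
      rw [eq_top_iff, ← hHS, hH]
      exact sup_le (sup_le (hPS.trans le_sup_right) le_sup_left) le_sup_right
    have hfac : ∀ x : X, ∃ c ∈ Subgroup.centralizer (P : Set X), ∃ t ∈ (S : Subgroup X), x = c * t := by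
      intro x
      have hx : x ∈ C ⊔ (S : Subgroup X) := by rw [hCS]; exact Subgroup.mem_top x
      rw [← SetLike.mem_coe, Subgroup.normal_mul] at hx
      obtain ⟨c, hc, t, ht, rfl⟩ := hx
      exact ⟨c, hc, t, ht, rfl⟩
    have hStop : (S : Subgroup X) ≠ ⊤ := by
      intro h
      apply hne
      apply le_antisymm hPS
      apply hPcore _ _ S.isPGroup'
      rw [h]; infer_instance
    have h1 := quot_step h𝓦 S P hPp hPS hne hPcore (ih_quot P hPbot) hsub
    have h2 := inf_commutator_le_of_centralizer_mul S P hPS hfac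
    have h3 : ⁅(S : Subgroup X), (S : Subgroup X)⁆ ≤ Foc 𝓦 X (S : Subgroup X) ⊤ :=
      (le_inf (commutator_self_le _) le_rfl).trans (hsub _ hStop le_rfl)
    exact h1.trans (sup_le le_rfl (h2.trans h3))
  · exact gen_focal S H _ (hsub _ hHS le_sup_right) (hsub _ hND hSD)

/-- **Glauberman**: control of transfer in the constrained sections gives control in all sections -/
theorem main_transfer (h𝓦 : ∀ W ∈ 𝓦, Cfsg.IsCharPFunctor.{u} p W) (G : Type u) [Group G]
    (hloc : ∀ (X : Type u) [Group X] [Finite X], IsSec G X →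
      Subgroup.centralizer ((Cfsg.pCore p X : Subgroup X) : Set X) ≤ Cfsg.pCore p X →
      FamilyControlsTransferIn p (Ind 𝓦 X) ⊤) :
    ∀ (n : ℕ) (X : Type u) [Group X] [Finite X], Nat.card X = n → IsSec G X →
      FamilyControlsTransferIn p (Ind 𝓦 X) ⊤ := by
  intro n
  induction n using Nat.strong_induction_on with
  | _ n ih =>
  intro X _ _ hn hX
  exact main_step h𝓦 G X hX (fun Y _ _ hY hYs => ih _ (hn ▸ hY) Y rfl hYs) (hloc X hX)

/-- the statement form: sections `K ⧸ R` -/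
theorem main_transfer_sections (h𝓦 : ∀ W ∈ 𝓦, Cfsg.IsCharPFunctor.{u} p W) (G : Type u) [Group G] [Finite G]
    (hloc : ∀ (K R : Subgroup G) [hR : (R.subgroupOf K).Normal],
      Subgroup.centralizer ((Cfsg.pCore p (↥K ⧸ R.subgroupOf K) : Subgroup (↥K ⧸ R.subgroupOf K)) :
        Set (↥K ⧸ R.subgroupOf K)) ≤ Cfsg.pCore p (↥K ⧸ R.subgroupOf K) →
      FamilyControlsTransferIn p (Ind 𝓦 (↥K ⧸ R.subgroupOf K)) ⊤)
    (X : Type u) [Group X] [Finite X] (hX : IsSec G X) :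
    FamilyControlsTransferIn p (Ind 𝓦 X) ⊤ := by
  refine main_transfer h𝓦 G ?_ (Nat.card X) X rfl hX
  intro Y _ _ hY hcY
  obtain ⟨K, R, hR, ⟨e⟩⟩ := isSec_equiv G Y hY
  haveI := hR
  exact ft_equiv h𝓦 e.symm (hloc K R (constrained_equiv e hcY))

end main

end Cfsg.Agent.Lib.Lead.GTTransfer
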