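import Mathlib
import Cfsg.Prelude.Def_Characters
import Cfsg.Agent.Lib.helper3.Extraspecial
import Cfsg.Agent.Lib.helper3.Inflate
import Cfsg.Agent.Lib.helper3.Inflate2
import Cfsg.Agent.Lib.helper3.Irr8
import Cfsg.Agent.Lib.helper3.Irr10
import Cfsg.Agent.Lib.helper3.AbelianInertia
import Cfsg.Agent.Lib.helper3.Lin
import Cfsg.Agent.Lib.helper3.FaithfulP

set_option autoImplicit false
set_option linter.style.haveILetI false

/-!
# Character-theoretic tools for groups whose equal-degree characters share kernels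
-/

namespace Cfsg.Agent.Lib.Lead.GalDeg

open Cfsg Module
open Cfsg.Agent.Lib.helper3.Irr Cfsg.Agent.Lib.helper3.Central Cfsg.Agent.Lib.helper3.CharBasic
open scoped ComplexConjugate
open scoped commutatorElement

universe u

variable {G : Type u} [Group G]

/-- a nonidentity element is outside the kernel of some irreducible character -/
theorem exists_irr_apply_ne [Finite G] {g : G} (hg : g ≠ 1) :
    ∃ χ : G → ℂ, IsIrrCharacter G χ ∧ χ g ≠ χ 1 := by
  classical
  letI : Fintype G := Fintype.ofFinite G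
  by_contra hcon
  push Not at hcon
  have hnc : ¬ IsConj g 1 := by
    intro h
    exact hg (isConj_one_left.mp h)
  have h0 := (column_orthogonality g 1).2 hnc
  have h1 : ∑ χ : IrrCharacter G, (χ : G → ℂ) g * conj ((χ : G → ℂ) 1)
      = ∑ χ : IrrCharacter G, (χ : G → ℂ) 1 ^ 2 := by
    apply Finset.sum_congr rfl
    intro χ _
    rw [hcon χ χ.2, conj_apply_one (isCharacter_of_isIrrCharacter χ.2), sq]
  rw [h1, sum_sq_degree] at h0
  have : (Nat.card G : ℂ) ≠ 0 := by
    exact_mod_cast (Nat.card_pos (α := G)).ne'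
  exact this h0

/-- a linear character is multiplicative, so trivial on commutators -/
theorem linear_apply_commutator {χ : G → ℂ} (hχ : IsCharacter G χ) (h1 : χ 1 = 1) (a b : G) :
    χ ⁅a, b⁆ = 1 := by
  have hm := Cfsg.Agent.Lib.helper3.Lin.map_mul_of_apply_one_eq_one hχ h1
  rw [commutatorElement_def, hm, hm, hm]
  have ha : χ a * χ a⁻¹ = 1 := by rw [← hm, mul_inv_cancel, h1]
  have hb : χ b * χ b⁻¹ = 1 := by rw [← hm, mul_inv_cancel, h1]
  calc χ a * χ b * χ a⁻¹ * χ b⁻¹ = (χ a * χ a⁻¹) * (χ b * χ b⁻¹) := by ring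
    _ = 1 := by rw [ha, hb, one_mul]

/-- a nonabelian group has a nonlinear irreducible character -/
theorem exists_nonlinear [Finite G] (hna : ¬ ∀ a b : G, a * b = b * a) :
    ∃ χ : G → ℂ, IsIrrCharacter G χ ∧ χ 1 ≠ 1 := by
  push Not at hna
  obtain ⟨a, b, hab⟩ := hna
  have hg : ⁅a, b⁆ ≠ 1 := by
    intro h
    exact hab (commutatorElement_eq_one_iff_mul_comm.mp h)
  obtain ⟨χ, hχ, hne⟩ := exists_irr_apply_ne hg
  refine ⟨χ, hχ, fun h1 => hne ?_⟩
  rw [linear_apply_commutator (isCharacter_of_isIrrCharacter hχ) h1, h1]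

/-- an irreducible character with the commutator subgroup in its kernel is linear -/
theorem linear_of_commutator_le_ker [Finite G] {χ : G → ℂ} (hχ : IsIrrCharacter G χ)
    (h : ∀ c ∈ commutator G, χ c = χ 1) : χ 1 = 1 := by
  have hconst : ∀ g n : G, n ∈ commutator G → χ (g * n) = χ g := fun g n hn =>
    apply_mul_of_apply_eq_one (isCharacter_of_isIrrCharacter hχ) (h n hn) g
  obtain ⟨ψ, hψ, rfl⟩ := exists_eq_inflate hχ (commutator G) hconst
  have hcomm : ∀ a b : G ⧸ commutator G, a * b = b * a := by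
    intro a b
    obtain ⟨a, rfl⟩ := QuotientGroup.mk_surjective a
    obtain ⟨b, rfl⟩ := QuotientGroup.mk_surjective b
    rw [← QuotientGroup.mk_mul, ← QuotientGroup.mk_mul, QuotientGroup.eq]
    have : (a * b)⁻¹ * (b * a) = ⁅b⁻¹, a⁻¹⁆ := by
      rw [commutatorElement_def]; group
    rw [this]
    exact Subgroup.commutator_mem_commutator (Subgroup.mem_top _) (Subgroup.mem_top _)
  have := apply_one_eq_one_of_comm hcomm hψ
  rw [inflate_apply]
  exact this

theorem quotient_commutator_comm (a b : G ⧸ commutator G) : a * b = b * a := by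
  obtain ⟨a, rfl⟩ := QuotientGroup.mk_surjective a
  obtain ⟨b, rfl⟩ := QuotientGroup.mk_surjective b
  rw [← QuotientGroup.mk_mul, ← QuotientGroup.mk_mul, QuotientGroup.eq]
  have : (a * b)⁻¹ * (b * a) = ⁅b⁻¹, a⁻¹⁆ := by
    rw [commutatorElement_def]; group
  rw [this]
  exact Subgroup.commutator_mem_commutator (Subgroup.mem_top _) (Subgroup.mem_top _)

/-- linear characters separate elements outside the commutator subgroup -/
theorem exists_linear_apply_ne [Finite G] {g : G} (hg : g ∉ commutator G) :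
    ∃ lam : G → ℂ, IsCharacter G lam ∧ lam 1 = 1 ∧ lam g ≠ 1 := by
  have hne : (QuotientGroup.mk g : G ⧸ commutator G) ≠ 1 := by
    intro h
    exact hg ((QuotientGroup.eq_one_iff g).mp h)
  obtain ⟨ψ, hψ, hψg⟩ := exists_irr_apply_ne hne
  have h1 : ψ 1 = 1 := apply_one_eq_one_of_comm quotient_commutator_comm hψ
  refine ⟨inflate (commutator G) ψ,
    isCharacter_of_isIrrCharacter (isIrrCharacter_inflate (commutator G) hψ), ?_, ?_⟩
  · rw [inflate_apply]; exact h1
  · rw [inflate_apply, ← h1]; exact hψg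

/-- the central character of a nonlinear irreducible representation is nontrivial at every
nonidentity element of a derived group of prime order -/
theorem central_hom_ne_one [Fintype G] {p : ℕ} [hp : Fact p.Prime]
    (hc : Nat.card (commutator G) = p) (hcz : commutator G ≤ Subgroup.center G)
    {d : ℕ} (ρ : Representation ℂ G (Fin d → ℂ)) [ρ.IsIrreducible] (h1 : ρ.character 1 ≠ 1)
    (lam : Subgroup.center G →* ℂ)
    (hlam : ∀ z : Subgroup.center G, ρ (z : G) = lam z • LinearMap.id)
    {z : G} (hzc : z ∈ commutator G) (hz1 : z ≠ 1) : lam ⟨z, hcz hzc⟩ ≠ 1 := by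
  intro hl
  apply h1
  apply linear_of_commutator_le_ker (isIrrCharacter_of_rep ρ)
  intro c hcm
  have htriv : ∀ w : commutator G, (lam.comp (Subgroup.inclusion hcz)) w = 1 := by
    by_contra hcon
    push Not at hcon
    have := hom_ne_one_of_prime_card hc (lam.comp (Subgroup.inclusion hcz)) hcon
      ⟨_, hzc⟩ (fun h => hz1 (congrArg Subtype.val h))
    exact this hl
  have h3 : ρ c = LinearMap.id := by
    have h4 := hlam ⟨c, hcz hcm⟩
    have h5 := htriv ⟨c, hcm⟩
    have h6 : lam ⟨c, hcz hcm⟩ = 1 := h5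
    rw [h6, one_smul] at h4
    exact h4
  rw [Representation.char_one]
  exact (character_eq_finrank_iff ρ c).mpr h3

/-- a nonlinear irreducible character vanishes off the centre when the derived group has prime
order -/
theorem vanish_off_center [Fintype G] {p : ℕ} [hp : Fact p.Prime]
    (hc : Nat.card (commutator G) = p) (hcz : commutator G ≤ Subgroup.center G)
    {d : ℕ} (ρ : Representation ℂ G (Fin d → ℂ)) [ρ.IsIrreducible] (h1 : ρ.character 1 ≠ 1)
    (x : G) (hx : x ∉ Subgroup.center G) : ρ.character x = 0 := by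
  obtain ⟨lam, hlam⟩ := exists_central_hom ρ
  rw [Subgroup.mem_center_iff] at hx
  push Not at hx
  obtain ⟨y, hy⟩ := hx
  have hzc : ⁅x⁻¹, y⁻¹⁆ ∈ commutator G :=
    Subgroup.commutator_mem_commutator (Subgroup.mem_top _) (Subgroup.mem_top _)
  have hzZ : ⁅x⁻¹, y⁻¹⁆ ∈ Subgroup.center G := hcz hzc
  have hz1 : ⁅x⁻¹, y⁻¹⁆ ≠ 1 := by
    intro h
    rw [commutatorElement_def] at h
    apply hy
    have h2 : x⁻¹ * y⁻¹ * x * y = 1 := by simpa using h
    calc y * x = y * x * (x⁻¹ * y⁻¹ * x * y) := by rw [h2, mul_one]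
      _ = x * y := by group
  have hconj : y⁻¹ * x * y = x * ⁅x⁻¹, y⁻¹⁆ := by
    rw [commutatorElement_def]; group
  have hval := character_mul_central ρ lam hlam x ⟨_, hzZ⟩
  have hcc : ρ.character (y⁻¹ * x * y) = ρ.character x := by
    have := Representation.char_conj ρ x y⁻¹
    rw [inv_inv] at this
    exact this
  rw [hconj] at hcc
  have hval' : ρ.character (x * ⁅x⁻¹, y⁻¹⁆) = lam ⟨_, hzZ⟩ * ρ.character x := hval
  rw [hval'] at hcc
  have hlamz : lam ⟨_, hzZ⟩ ≠ 1 := central_hom_ne_one hc hcz ρ h1 lam hlam hzc hz1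
  have h2 : (lam ⟨_, hzZ⟩ - 1) * ρ.character x = 0 := by linear_combination hcc
  rcases mul_eq_zero.mp h2 with h | h
  · exact absurd (sub_eq_zero.mp h) hlamz
  · exact h

/-- **Degrees for derived group of prime order**: a nonlinear irreducible character vanishes off the
centre, so `|G| = |Z(G)| χ(1)²`. -/
theorem card_eq_center_mul_sq_of_commutator_prime [Finite G] {p : ℕ} [hp : Fact p.Prime]
    (hc : Nat.card (commutator G) = p) (hcz : commutator G ≤ Subgroup.center G)
    {χ : G → ℂ} (hχ : IsIrrCharacter G χ) (h1 : χ 1 ≠ 1) :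
    ∃ n : ℕ, χ 1 = n ∧ Nat.card G = Nat.card (Subgroup.center G) * n ^ 2 := by
  classical
  letI : Fintype G := Fintype.ofFinite G
  obtain ⟨d, ρ, hirr, rfl⟩ := hχ
  haveI := hirr
  have := card_eq_card_center_mul_sq ρ (vanish_off_center hc hcz ρ h1)
  exact ⟨finrank ℂ (Fin d → ℂ), Representation.char_one ρ, this⟩

/-- the kernel of a character is closed under powers -/
theorem apply_zpow_of_apply_eq [Finite G] {χ : G → ℂ} (hχ : IsCharacter G χ) {g : G}
    (hg : χ g = χ 1) (k : ℤ) : χ (g ^ k) = χ 1 := by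
  obtain ⟨d, ρ, rfl⟩ := hχ
  rw [Representation.char_one] at hg ⊢
  have h1 : g ∈ MonoidHom.ker ρ := (character_eq_finrank_iff ρ g).mp hg
  have h2 : g ^ k ∈ MonoidHom.ker ρ := Subgroup.zpow_mem _ h1 k
  exact (character_eq_finrank_iff ρ _).mpr h2

/-- a linear character is trivial on the commutator subgroup -/
theorem linear_commutator_le {χ : G → ℂ} (hχ : IsCharacter G χ) (h1 : χ 1 = 1) (c : G)
    (hc : c ∈ commutator G) : χ c = 1 := by
  have hle : commutator G ≤ MonoidHom.ker (Cfsg.Agent.Lib.helper3.Lin.toHom hχ h1) := by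
    rw [commutator_def, Subgroup.commutator_le]
    intro a _ b _
    rw [MonoidHom.mem_ker, Cfsg.Agent.Lib.helper3.Lin.toHom_apply]
    exact linear_apply_commutator hχ h1 a b
  have := hle hc
  rw [MonoidHom.mem_ker, Cfsg.Agent.Lib.helper3.Lin.toHom_apply] at this
  exact this

/-- equal-degree nonlinear irreducible characters have the same kernel -/
def SameKer (G : Type u) [Group G] : Prop :=
  ∀ χ ψ : G → ℂ, IsIrrCharacter G χ → IsIrrCharacter G ψ → χ 1 ≠ 1 → χ 1 = ψ 1 →
    ∀ g : G, χ g = χ 1 ↔ ψ g = ψ 1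

theorem SameKer.quotient [Finite G] (h : SameKer G) (N : Subgroup G) [N.Normal] :
    SameKer (G ⧸ N) := by
  intro χ ψ hχ hψ h1 h2 g
  obtain ⟨g, rfl⟩ := QuotientGroup.mk_surjective g
  have := h (inflate N χ) (inflate N ψ) (isIrrCharacter_inflate N hχ) (isIrrCharacter_inflate N hψ)
    (by rw [inflate_apply]; exact h1) (by rw [inflate_apply, inflate_apply]; exact h2) g
  simpa [inflate_apply] using this

/-- under `SameKer`, kernels of nonlinear irreducible characters lie in the commutator subgroup -/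
theorem SameKer.ker_le_commutator [Finite G] (h : SameKer G) {χ : G → ℂ} (hχ : IsIrrCharacter G χ)
    (h1 : χ 1 ≠ 1) {g : G} (hg : χ g = χ 1) : g ∈ commutator G := by
  classical
  letI : Fintype G := Fintype.ofFinite G
  by_contra hgc
  obtain ⟨lam, hlam, hl1, hlg⟩ := exists_linear_apply_ne hgc
  have hirr := isIrrCharacter_linear_mul hlam hl1 hχ
  have h3 : (lam * χ) 1 = χ 1 := by rw [Pi.mul_apply, hl1, one_mul]
  have := (h χ (lam * χ) hχ hirr h1 h3.symm g).mp hg
  rw [Pi.mul_apply, Pi.mul_apply, hl1, one_mul, hg] at this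
  have hne : χ 1 ≠ 0 := apply_one_ne_zero hχ
  apply hlg
  have h4 : (lam g - 1) * χ 1 = 0 := by linear_combination this
  rcases mul_eq_zero.mp h4 with h5 | h5
  · exact sub_eq_zero.mp h5
  · exact absurd h5 hne

end Cfsg.Agent.Lib.Lead.GalDeg
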