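import Mathlib
import Cfsg.Agent.Lib.Lead.PGroup

set_option autoImplicit false
set_option linter.unusedSectionVars false

/-!
# Group theory for `p`-groups `P` with a central subgroup `L` of order `p` such that `P ⧸ L` has
cyclic centre and derived group of order `p`
-/

namespace Cfsg.Agent.Lib.Lead.GalDeg

open scoped commutatorElement

universe u

section basic

variable {G : Type u} [Group G]

theorem comm_mul_left_of_commute {z x w : G} (hx : Commute z x) (hw : Commute z w) :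
    ⁅z * x, w⁆ = ⁅x, w⁆ := by
  rw [commutatorElement_def, commutatorElement_def, mul_inv_rev]
  have h1 : Commute z (x * w * x⁻¹) := (hx.mul_right hw).mul_right hx.inv_right
  calc z * x * w * (x⁻¹ * z⁻¹) * w⁻¹ = z * (x * w * x⁻¹) * z⁻¹ * w⁻¹ := by group
    _ = (x * w * x⁻¹) * z * z⁻¹ * w⁻¹ := by rw [h1.eq]
    _ = x * w * x⁻¹ * w⁻¹ := by group

theorem comm_mul_right_of_commute {z x w : G} (hx : Commute z x) (hw : Commute z w) :
    ⁅x, z * w⁆ = ⁅x, w⁆ := by
  rw [← commutatorElement_inv (z * w) x, comm_mul_left_of_commute hw hx, commutatorElement_inv]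

/-- `⁅a ^ n, b⁆ = ⁅a, b⁆ ^ n` when `⁅a, b⁆` commutes with `a` -/
theorem comm_pow_left {a b : G} (hc : Commute ⁅a, b⁆ a) (n : ℕ) : ⁅a ^ n, b⁆ = ⁅a, b⁆ ^ n := by
  induction n with
  | zero => simp
  | succ n ih =>
    have h1 : ⁅a ^ (n + 1), b⁆ = a ^ n * ⁅a, b⁆ * (a ^ n)⁻¹ * ⁅a ^ n, b⁆ := by
      rw [pow_succ, commutatorElement_def, commutatorElement_def, commutatorElement_def]
      group
    have h2 : Commute ⁅a, b⁆ (a ^ n) := hc.pow_right n
    rw [h1, ih, ← h2.eq, mul_assoc ⁅a, b⁆, mul_inv_cancel, mul_one, pow_succ']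

theorem comm_mul_distrib_right {g x y : G} (hc : ∀ t : G, Commute ⁅g, y⁆ t) :
    ⁅g, x * y⁆ = ⁅g, x⁆ * ⁅g, y⁆ := by
  have h1 : ⁅g, x * y⁆ = ⁅g, x⁆ * (x * ⁅g, y⁆ * x⁻¹) := by
    rw [commutatorElement_def, commutatorElement_def, commutatorElement_def]
    group
  rw [h1, ← (hc x).eq, mul_assoc ⁅g, y⁆, mul_inv_cancel, mul_one]

end basic

section strct

variable {P : Type u} [Group P]

/-- preimage of the centre of `P ⧸ L` -/
def cenMod (L : Subgroup P) [L.Normal] : Subgroup P :=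
  (Subgroup.center (P ⧸ L)).comap (QuotientGroup.mk' L)

theorem mem_cenMod {L : Subgroup P} [L.Normal] {u : P} :
    u ∈ cenMod L ↔ ∀ x : P, ⁅u, x⁆ ∈ L := by
  unfold cenMod
  rw [Subgroup.mem_comap, Subgroup.mem_center_iff]
  constructor
  · intro h x
    rw [← QuotientGroup.eq_one_iff, ← QuotientGroup.mk'_apply, map_commutatorElement,
      commutatorElement_eq_one_iff_mul_comm]
    exact (h _).symm
  · intro h x
    obtain ⟨x, rfl⟩ := QuotientGroup.mk_surjective x
    have := h x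
    rw [← QuotientGroup.eq_one_iff, ← QuotientGroup.mk'_apply, map_commutatorElement,
      commutatorElement_eq_one_iff_mul_comm] at this
    exact this.symm

theorem center_le_cenMod (L : Subgroup P) [L.Normal] : Subgroup.center P ≤ cenMod L := by
  intro u hu
  rw [mem_cenMod]
  intro x
  have : ⁅u, x⁆ = 1 := by
    rw [commutatorElement_eq_one_iff_mul_comm]
    exact ((Subgroup.mem_center_iff.mp hu) x).symm
  rw [this]
  exact L.one_mem

theorem le_cenMod (L : Subgroup P) [L.Normal] (hLZ : L ≤ Subgroup.center P) : L ≤ cenMod L :=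
  hLZ.trans (center_le_cenMod L)

theorem index_cenMod (L : Subgroup P) [L.Normal] :
    (cenMod L).index = (Subgroup.center (P ⧸ L)).index :=
  Subgroup.index_comap_of_surjective _ (QuotientGroup.mk'_surjective L)

variable [Finite P] {p : ℕ} [hp : Fact p.Prime]

/-- the data extracted from a cyclic centre of `P ⧸ L` -/
structure Gen (L : Subgroup P) [L.Normal] (g : P) : Prop where
  mem : g ∈ cenMod L
  gen : ∀ u ∈ cenMod L, ∃ k : ℤ, ∃ l ∈ L, u = g ^ k * l

theorem exists_gen (L : Subgroup P) [L.Normal] (hcyc : IsCyclic (Subgroup.center (P ⧸ L))) :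
    ∃ g : P, Gen L g := by
  obtain ⟨⟨gb, hgb⟩, hgen⟩ := hcyc.exists_generator
  obtain ⟨g, rfl⟩ := QuotientGroup.mk_surjective gb
  refine ⟨g, hgb, ?_⟩
  intro u hu
  have hu' : (QuotientGroup.mk u : P ⧸ L) ∈ Subgroup.center (P ⧸ L) := hu
  obtain ⟨k, hk⟩ := Subgroup.mem_zpowers_iff.mp (hgen ⟨_, hu'⟩)
  have hk' : (QuotientGroup.mk g : P ⧸ L) ^ k = QuotientGroup.mk u := by
    have := congrArg Subtype.val hk
    simpa using this
  rw [← QuotientGroup.mk_zpow, QuotientGroup.eq] at hk'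
  exact ⟨k, _, hk', by group⟩

variable {L : Subgroup P} [L.Normal] {g : P}

theorem Gen.comm_mem (hg : Gen L g) (x : P) : ⁅x, g⁆ ∈ L := by
  have := mem_cenMod.mp hg.mem x
  rw [← commutatorElement_inv]
  exact L.inv_mem this

/-- the commutator homomorphism `x ↦ ⁅x, g⁆` into `L` -/
noncomputable def Gen.hom (hg : Gen L g) (hLZ : L ≤ Subgroup.center P) : P →* L where
  toFun x := ⟨⁅x, g⁆, hg.comm_mem x⟩
  map_one' := by
    apply Subtype.ext
    simp
  map_mul' x y := by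
    apply Subtype.ext
    show ⁅x * y, g⁆ = ⁅x, g⁆ * ⁅y, g⁆
    have hc : ∀ t : P, Commute ⁅y, g⁆ t := fun t =>
      ((Subgroup.mem_center_iff.mp (hLZ (hg.comm_mem y))) t).symm
    have h1 : ⁅x * y, g⁆ = x * ⁅y, g⁆ * x⁻¹ * ⁅x, g⁆ := by
      rw [commutatorElement_def, commutatorElement_def, commutatorElement_def]
      group
    rw [h1, ← (hc x).eq, mul_assoc ⁅y, g⁆, mul_inv_cancel, mul_one]
    exact (hc _).eq

theorem Gen.mem_ker_hom (hg : Gen L g) (hLZ : L ≤ Subgroup.center P) (x : P) :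
    x ∈ (hg.hom hLZ).ker ↔ x * g = g * x := by
  rw [MonoidHom.mem_ker]
  constructor
  · intro h
    have h1 : ⁅x, g⁆ = 1 := congrArg Subtype.val h
    exact commutatorElement_eq_one_iff_mul_comm.mp h1
  · intro h
    apply Subtype.ext
    show ⁅x, g⁆ = 1
    exact commutatorElement_eq_one_iff_mul_comm.mpr h

/-- the centralizer of the generator -/
noncomputable def Gen.M (hg : Gen L g) (hLZ : L ≤ Subgroup.center P) : Subgroup P :=
  (hg.hom hLZ).ker

theorem Gen.mem_M (hg : Gen L g) (hLZ : L ≤ Subgroup.center P) (x : P) :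
    x ∈ hg.M hLZ ↔ x * g = g * x := hg.mem_ker_hom hLZ x

theorem Gen.index_M_dvd (hg : Gen L g) (hLZ : L ≤ Subgroup.center P) (hLc : Nat.card L = p) :
    (hg.M hLZ).index ∣ p := by
  unfold Gen.M
  rw [Subgroup.index_ker, ← hLc]
  exact Subgroup.card_subgroup_dvd_card _

/-- `M` centralizes `cenMod L` -/
theorem Gen.M_comm (hg : Gen L g) (hLZ : L ≤ Subgroup.center P) {m u : P}
    (hm : m ∈ hg.M hLZ) (hu : u ∈ cenMod L) : Commute m u := by
  obtain ⟨k, l, hl, rfl⟩ := hg.gen u hu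
  have h1 : Commute m g := (hg.mem_M hLZ m).mp hm
  have h2 : Commute m l := ((Subgroup.mem_center_iff.mp (hLZ hl)) m)
  exact (h1.zpow_right k).mul_right h2

theorem Gen.cenMod_le_M (hg : Gen L g) (hLZ : L ≤ Subgroup.center P) : cenMod L ≤ hg.M hLZ := by
  intro u hu
  rw [hg.mem_M]
  obtain ⟨k, l, hl, rfl⟩ := hg.gen u hu
  have h2 : Commute l g := ((Subgroup.mem_center_iff.mp (hLZ hl)) g).symm
  have h3 : Commute (g ^ k) g := (Commute.refl g).zpow_left k
  exact (h3.mul_left h2).eq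

theorem Gen.M_normal (hg : Gen L g) (hLZ : L ≤ Subgroup.center P) : (hg.M hLZ).Normal := by
  unfold Gen.M
  infer_instance

/-- commutators of elements of `M` are central in `P` -/
theorem Gen.comm_mem_center (hg : Gen L g) (hLZ : L ≤ Subgroup.center P)
    (hcomm : ∀ a b : P, ⁅a, b⁆ ∈ cenMod L) {x y : P} (hx : x ∈ hg.M hLZ) (hy : y ∈ hg.M hLZ) :
    ⁅x, y⁆ ∈ Subgroup.center P := by
  rw [Subgroup.mem_center_iff]
  intro t
  have h1 : t * ⁅x, y⁆ * t⁻¹ = ⁅t * x * t⁻¹, t * y * t⁻¹⁆ := by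
    rw [commutatorElement_def, commutatorElement_def]; group
  have hx' : t * x * t⁻¹ = ⁅t, x⁆ * x := by rw [commutatorElement_def]; group
  have hy' : t * y * t⁻¹ = ⁅t, y⁆ * y := by rw [commutatorElement_def]; group
  have ha := hcomm t x
  have hb := hcomm t y
  have hax : Commute ⁅t, x⁆ x := (hg.M_comm hLZ hx ha).symm
  have hay : Commute ⁅t, x⁆ y := (hg.M_comm hLZ hy ha).symm
  have hbx : Commute ⁅t, y⁆ x := (hg.M_comm hLZ hx hb).symm
  have hby : Commute ⁅t, y⁆ y := (hg.M_comm hLZ hy hb).symm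
  have hab : Commute ⁅t, x⁆ ⁅t, y⁆ := hg.M_comm hLZ (hg.cenMod_le_M hLZ ha) hb
  have h2 : ⁅⁅t, x⁆ * x, ⁅t, y⁆ * y⁆ = ⁅x, y⁆ := by
    rw [comm_mul_left_of_commute hax (hab.mul_right hay),
      comm_mul_right_of_commute hbx hby]
  rw [hx', hy', h2] at h1
  calc t * ⁅x, y⁆ = (t * ⁅x, y⁆ * t⁻¹) * t := by group
    _ = ⁅x, y⁆ * t := by rw [h1]

/-- commutators of elements of `M` have order dividing `p` -/
theorem Gen.comm_pow (hg : Gen L g) (hLZ : L ≤ Subgroup.center P)
    (hcomm : ∀ a b : P, ⁅a, b⁆ ∈ cenMod L) (hpow : ∀ a : P, a ^ p ∈ cenMod L)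
    {x y : P} (hx : x ∈ hg.M hLZ) (hy : y ∈ hg.M hLZ) : ⁅x, y⁆ ^ p = 1 := by
  have hc : Commute ⁅x, y⁆ x := (hg.M_comm hLZ hx (hcomm x y)).symm
  rw [← comm_pow_left hc p, commutatorElement_eq_one_iff_mul_comm]
  exact ((hg.M_comm hLZ hy (hpow x)).symm).eq

/-- `g ^ p` is central -/
theorem Gen.pow_mem_center (hg : Gen L g) (hLZ : L ≤ Subgroup.center P) (hLc : Nat.card L = p) :
    g ^ p ∈ Subgroup.center P := by
  rw [Subgroup.mem_center_iff]
  intro x
  have hgx : ⁅g, x⁆ ∈ L := mem_cenMod.mp hg.mem x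
  have hc : Commute ⁅g, x⁆ g := ((Subgroup.mem_center_iff.mp (hLZ hgx)) g).symm
  have h1 := comm_pow_left hc p
  have h2 : ⁅g, x⁆ ^ p = 1 := by
    have h3 : (⟨_, hgx⟩ : L) ^ Nat.card L = 1 := pow_card_eq_one'
    rw [hLc] at h3
    exact congrArg Subtype.val h3
  rw [h2] at h1
  exact (commutatorElement_eq_one_iff_mul_comm.mp h1).symm

/-- the centre has index `1` or `p` in `cenMod L` -/
theorem Gen.relIndex_center_dvd (hg : Gen L g) (hLZ : L ≤ Subgroup.center P)
    (hLc : Nat.card L = p) : (Subgroup.center P).relIndex (cenMod L) ∣ p := by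
  unfold Subgroup.relIndex
  rw [Subgroup.index_eq_card]
  set Z' : Subgroup (cenMod L) := (Subgroup.center P).subgroupOf (cenMod L) with hZ'
  set γ : cenMod L ⧸ Z' := QuotientGroup.mk ⟨g, hg.mem⟩ with hγ
  have hall : ∀ q : cenMod L ⧸ Z', q ∈ Subgroup.zpowers γ := by
    intro q
    obtain ⟨⟨u, hu⟩, rfl⟩ := QuotientGroup.mk_surjective q
    obtain ⟨k, l, hl, hul⟩ := hg.gen u hu
    rw [Subgroup.mem_zpowers_iff]
    refine ⟨k, ?_⟩
    rw [hγ, ← QuotientGroup.mk_zpow, QuotientGroup.eq, hZ', Subgroup.mem_subgroupOf]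
    have : (((⟨g, hg.mem⟩ : cenMod L) ^ k)⁻¹ * ⟨u, hu⟩ : cenMod L) = ((g ^ k)⁻¹ * u : P) := by
      push_cast
      rfl
    rw [this, hul]
    have : (g ^ k)⁻¹ * (g ^ k * l) = l := by group
    rw [this]
    exact hLZ hl
  rw [← orderOf_eq_card_of_forall_mem_zpowers hall]
  apply orderOf_dvd_of_pow_eq_one
  rw [hγ, ← QuotientGroup.mk_pow, QuotientGroup.eq_one_iff, hZ', Subgroup.mem_subgroupOf]
  exact hg.pow_mem_center hLZ hLc

/-- in the situation `|P : cenMod L| = p²`, `|P : M| = p` the subgroup `M` is abelian -/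
theorem Gen.M_abelian (hg : Gen L g) (hLZ : L ≤ Subgroup.center P)
    (hidx : (cenMod L).index = p ^ 2) (hMidx : (hg.M hLZ).index = p) :
    ∀ x ∈ hg.M hLZ, ∀ y ∈ hg.M hLZ, x * y = y * x := by
  have hle := hg.cenMod_le_M hLZ
  have h1 := Subgroup.relIndex_mul_index hle
  rw [hidx, hMidx, sq] at h1
  have h2 : (cenMod L).relIndex (hg.M hLZ) = p :=
    Nat.eq_of_mul_eq_mul_right hp.out.pos h1
  set C' : Subgroup (hg.M hLZ) := (cenMod L).subgroupOf (hg.M hLZ) with hC'
  haveI : (cenMod L).Normal := by unfold cenMod; infer_instance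
  haveI : C'.Normal := by rw [hC']; infer_instance
  have hcard : Nat.card (hg.M hLZ ⧸ C') = p := by
    rw [← Subgroup.index_eq_card]
    exact h2
  haveI : IsCyclic (hg.M hLZ ⧸ C') := isCyclic_of_prime_card hcard
  have hker : (QuotientGroup.mk' C').ker ≤ Subgroup.center (hg.M hLZ) := by
    rw [QuotientGroup.ker_mk']
    intro c hc
    rw [hC', Subgroup.mem_subgroupOf] at hc
    rw [Subgroup.mem_center_iff]
    intro m
    apply Subtype.ext
    push_cast
    exact (hg.M_comm hLZ m.2 hc).eq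
  intro x hx y hy
  have := commutative_of_cyclic_center_quotient (QuotientGroup.mk' C') hker
    (⟨x, hx⟩ : hg.M hLZ) ⟨y, hy⟩
  exact congrArg Subtype.val this

end strct

section pgroup

variable {G : Type u} [Group G] [Finite G] {p : ℕ} [hp : Fact p.Prime]

/-- a normal subgroup of order `p` of a `p`-group is central -/
theorem le_center_of_normal_of_card_prime (hG : IsPGroup p G) (N : Subgroup G) [N.Normal]
    (hN : Nat.card N = p) : N ≤ Subgroup.center G := by
  have hNb : N ≠ ⊥ := by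
    intro h
    rw [h, Subgroup.card_bot] at hN
    exact hp.out.one_lt.ne hN
  obtain ⟨z, hzN, hzZ, hz1⟩ := Cfsg.Agent.Lib.Lead.PGroup.exists_mem_center_of_normal hG N hNb
  intro n hn
  have h1 : (⟨n, hn⟩ : N) ∈ Subgroup.zpowers (⟨z, hzN⟩ : N) :=
    mem_zpowers_of_prime_card hN (fun h => hz1 (congrArg Subtype.val h))
  obtain ⟨k, hk⟩ := Subgroup.mem_zpowers_iff.mp h1
  have h2 : z ^ k = n := by
    have := congrArg Subtype.val hk
    simpa using this
  rw [← h2]
  exact Subgroup.zpow_mem _ hzZ k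

end pgroup

end Cfsg.Agent.Lib.Lead.GalDeg
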