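import Mathlib
import Cfsg.Prelude.Def_Transfer
import Cfsg.Agent.H1.Frattini
import Cfsg.Agent.Lib.Helper7.Core

/-!
# Groups of class two with cyclic derived group of prime order (lead)

Tools for P. Hall's theorem on `p`-groups of symplectic type (S3762):
* `mul_pow_cl2`: the power formula in class two;
* `Cl2`: the context "all commutators are powers of a central element `z` of order `p`";
* `sq_index`: in such a group the index of the centre is `p ^ (2 m)`;
* `mem_zpowers_of_pow_eq_one`: in a cyclic group the elements of order dividing `p` lie in any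
  subgroup of order `p`;
* `isExtraspecial_of_cl2`: a criterion for being extraspecial;
* `cube_facts`: non-abelian groups of order `p ^ 3`.
-/

set_option autoImplicit false
open Cfsg
open scoped commutatorElement

namespace Cfsg.Agent.Lead.Symp

universe u

section powerformula

variable {G : Type*} [Group G]

theorem swap_mul' (a b : G) : b * a = ⁅b, a⁆ * (a * b) := by
  simp [commutatorElement_def]

/-- `b ^ n * a = a * b ^ n * ⁅b, a⁆ ^ n` when `⁅b, a⁆` commutes with `a` and `b` -/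
theorem pow_mul_cl2 (a b : G) (h1 : Commute ⁅b, a⁆ a) (h2 : Commute ⁅b, a⁆ b) (n : ℕ) :
    b ^ n * a = a * b ^ n * ⁅b, a⁆ ^ n := by
  induction n with
  | zero => simp
  | succ n ih =>
    have h3 : ⁅b, a⁆ * (a * b) = (a * b) * ⁅b, a⁆ := (h1.mul_right h2).eq
    have h4 : ⁅b, a⁆ * b ^ n = b ^ n * ⁅b, a⁆ := (h2.pow_right n).eq
    calc b ^ (n + 1) * a = b * (b ^ n * a) := by rw [pow_succ', mul_assoc]
      _ = b * (a * b ^ n * ⁅b, a⁆ ^ n) := by rw [ih]
      _ = (b * a) * b ^ n * ⁅b, a⁆ ^ n := by simp only [mul_assoc]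
      _ = (a * b) * ⁅b, a⁆ * b ^ n * ⁅b, a⁆ ^ n := by rw [swap_mul' a b, h3]
      _ = (a * b) * (⁅b, a⁆ * b ^ n) * ⁅b, a⁆ ^ n := by simp only [mul_assoc]
      _ = (a * b) * (b ^ n * ⁅b, a⁆) * ⁅b, a⁆ ^ n := by rw [h4]
      _ = a * b ^ (n + 1) * ⁅b, a⁆ ^ (n + 1) := by
        rw [pow_succ' b n, pow_succ' ⁅b, a⁆ n]; simp only [mul_assoc]

/-- the power formula in class two -/
theorem mul_pow_cl2 (a b : G) (h1 : Commute ⁅b, a⁆ a) (h2 : Commute ⁅b, a⁆ b) (n : ℕ) :
    (a * b) ^ n = a ^ n * b ^ n * ⁅b, a⁆ ^ (n.choose 2) := by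
  induction n with
  | zero => simp
  | succ n ih =>
    have h5 : ⁅b, a⁆ ^ (n.choose 2) * (a * b) = (a * b) * ⁅b, a⁆ ^ (n.choose 2) :=
      ((h1.mul_right h2).pow_left _).eq
    have h6 : ⁅b, a⁆ ^ n * b = b * ⁅b, a⁆ ^ n := (h2.pow_left n).eq
    have h7 : (n + 1).choose 2 = n + n.choose 2 := by
      rw [Nat.choose_succ_succ' n 1, Nat.choose_one_right]
    calc (a * b) ^ (n + 1) = (a * b) ^ n * (a * b) := pow_succ _ _
      _ = a ^ n * b ^ n * (⁅b, a⁆ ^ (n.choose 2) * (a * b)) := by rw [ih]; simp only [mul_assoc]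
      _ = a ^ n * (b ^ n * a) * b * ⁅b, a⁆ ^ (n.choose 2) := by rw [h5]; simp only [mul_assoc]
      _ = a ^ n * (a * b ^ n * ⁅b, a⁆ ^ n) * b * ⁅b, a⁆ ^ (n.choose 2) := by
        rw [pow_mul_cl2 a b h1 h2 n]
      _ = a ^ n * a * b ^ n * (⁅b, a⁆ ^ n * b) * ⁅b, a⁆ ^ (n.choose 2) := by
        simp only [mul_assoc]
      _ = a ^ n * a * b ^ n * (b * ⁅b, a⁆ ^ n) * ⁅b, a⁆ ^ (n.choose 2) := by rw [h6]
      _ = a ^ (n + 1) * b ^ (n + 1) * ⁅b, a⁆ ^ ((n + 1).choose 2) := by
        rw [h7, pow_add ⁅b, a⁆, pow_succ a n, pow_succ b n]; simp only [mul_assoc]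

end powerformula

section basic

variable {E : Type u} [Group E]

/-- all commutators are powers of the central element `z` of order `p` -/
structure Cl2 (p : ℕ) (z : E) : Prop where
  ne : z ≠ 1
  zp : z ^ p = 1
  cen : ∀ x : E, x * z = z * x
  comm : ∀ x y : E, ∃ k : ℤ, ⁅x, y⁆ = z ^ k

variable {p : ℕ} {z : E}

theorem zk_cen (C : Cl2 p z) (k : ℤ) (g : E) : z ^ k * g = g * z ^ k :=
  (Commute.zpow_left (C.cen g).symm k).eq

theorem ccen (C : Cl2 p z) (a b g : E) : ⁅a, b⁆ * g = g * ⁅a, b⁆ := by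
  obtain ⟨k, hk⟩ := C.comm a b
  rw [hk]; exact zk_cen C k g

theorem kmul (C : Cl2 p z) (g y y' : E) : ⁅g, y * y'⁆ = ⁅g, y⁆ * ⁅g, y'⁆ := by
  have h : ⁅g, y * y'⁆ = ⁅g, y⁆ * (y * ⁅g, y'⁆ * y⁻¹) := by
    simp only [commutatorElement_def]; group
  rw [h, ← ccen C g y' y, mul_inv_cancel_right]

theorem kmul' (C : Cl2 p z) (g g' y : E) : ⁅g * g', y⁆ = ⁅g, y⁆ * ⁅g', y⁆ := by
  have h : ⁅g * g', y⁆ = (g * ⁅g', y⁆ * g⁻¹) * ⁅g, y⁆ := by
    simp only [commutatorElement_def]; group
  rw [h, ← ccen C g' y g, mul_inv_cancel_right, ccen C g' y]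

/-- `g ↦ ⁅g, y⁆` as a homomorphism -/
def chomL (C : Cl2 p z) (y : E) : E →* E :=
  MonoidHom.mk' (fun g => ⁅g, y⁆) (fun g g' => kmul' C g g' y)

/-- `y ↦ ⁅g, y⁆` as a homomorphism -/
def chomR (C : Cl2 p z) (g : E) : E →* E :=
  MonoidHom.mk' (fun y => ⁅g, y⁆) (fun y y' => kmul C g y y')

theorem czpowL (C : Cl2 p z) (x y : E) (a : ℤ) : ⁅x ^ a, y⁆ = ⁅x, y⁆ ^ a :=
  map_zpow (chomL C y) x a

theorem czpowR (C : Cl2 p z) (x y : E) (a : ℤ) : ⁅x, y ^ a⁆ = ⁅x, y⁆ ^ a :=
  map_zpow (chomR C x) y a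

theorem cinvL (C : Cl2 p z) (x y : E) : ⁅x⁻¹, y⁆ = (⁅x, y⁆)⁻¹ :=
  map_inv (chomL C y) x

theorem orderOf_z [hp : Fact p.Prime] (C : Cl2 p z) : orderOf z = p :=
  orderOf_eq_prime C.zp C.ne

theorem comm_mem (C : Cl2 p z) (x y : E) : ⁅x, y⁆ ∈ Subgroup.zpowers z := by
  obtain ⟨k, hk⟩ := C.comm x y
  rw [hk]; exact Subgroup.zpow_mem_zpowers z k

theorem commute_comm (C : Cl2 p z) (a b g : E) : Commute ⁅a, b⁆ g := ccen C a b g

/-- the power formula, up to an element of `⟨z⟩` -/
theorem mul_pow_mem (C : Cl2 p z) (a b : E) (n : ℕ) :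
    ∃ w ∈ Subgroup.zpowers z, (a * b) ^ n = a ^ n * b ^ n * w :=
  ⟨⁅b, a⁆ ^ (n.choose 2), Subgroup.pow_mem _ (comm_mem C b a) _,
    mul_pow_cl2 a b (commute_comm C b a a) (commute_comm C b a b) n⟩

theorem zpowers_pow_p (C : Cl2 p z) {w : E} (hw : w ∈ Subgroup.zpowers z) : w ^ p = 1 := by
  obtain ⟨k, rfl⟩ := Subgroup.mem_zpowers_iff.mp hw
  rw [← zpow_natCast, ← zpow_mul, mul_comm, zpow_mul, zpow_natCast, C.zp, one_zpow]

theorem zpowers_central (C : Cl2 p z) {w : E} (hw : w ∈ Subgroup.zpowers z) (g : E) :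
    w * g = g * w := by
  obtain ⟨k, rfl⟩ := Subgroup.mem_zpowers_iff.mp hw
  exact zk_cen C k g

end basic

section pair

variable {E : Type u} [Group E] {p : ℕ} {z x y : E}

theorem memC {x y c : E} : c ∈ Subgroup.centralizer ({x, y} : Set E) ↔ ⁅c, x⁆ = 1 ∧ ⁅c, y⁆ = 1 := by
  simp only [Subgroup.mem_centralizer_iff, Set.mem_insert_iff, Set.mem_singleton_iff,
    forall_eq_or_imp, forall_eq, commutatorElement_eq_one_iff_mul_comm]
  constructor <;> rintro ⟨h1, h2⟩ <;> exact ⟨h1.symm, h2.symm⟩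

theorem memC_comm {x y c : E} (hc : c ∈ Subgroup.centralizer ({x, y} : Set E)) :
    x * c = c * x ∧ y * c = c * y := by
  rw [memC] at hc
  exact ⟨(commutatorElement_eq_one_iff_mul_comm.mp hc.1).symm,
    (commutatorElement_eq_one_iff_mul_comm.mp hc.2).symm⟩

theorem z_memC (C : Cl2 p z) : z ∈ Subgroup.centralizer ({x, y} : Set E) := by
  rw [memC]
  constructor <;> rw [commutatorElement_eq_one_iff_mul_comm] <;> exact (C.cen _).symm

theorem cyx (hxy : ⁅x, y⁆ = z) : ⁅y, x⁆ = z⁻¹ := by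
  rw [← commutatorElement_inv, hxy]

theorem comm_nf (C : Cl2 p z) (hxy : ⁅x, y⁆ = z) (a b : ℤ) (c : E)
    (hc : c ∈ Subgroup.centralizer ({x, y} : Set E)) :
    ⁅x ^ a * y ^ b * c, y⁆ = z ^ a ∧ ⁅x ^ a * y ^ b * c, x⁆ = z ^ (-b) := by
  have hc' := memC.mp hc
  constructor
  · rw [kmul' C, kmul' C, czpowL C, czpowL C, hxy, commutatorElement_self, one_zpow, hc'.2,
      mul_one, mul_one]
  · rw [kmul' C, kmul' C, czpowL C, czpowL C, cyx hxy, commutatorElement_self, one_zpow, hc'.1,
      mul_one, one_mul, inv_zpow, zpow_neg]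

theorem decomp (C : Cl2 p z) (hxy : ⁅x, y⁆ = z) (e : E) :
    ∃ (a b : ℤ) (c : E), c ∈ Subgroup.centralizer ({x, y} : Set E) ∧ e = x ^ a * y ^ b * c := by
  obtain ⟨a, ha⟩ := C.comm e y
  obtain ⟨k, hk⟩ := C.comm e x
  refine ⟨a, -k, (x ^ a * y ^ (-k))⁻¹ * e, ?_, by group⟩
  have h1 := comm_nf C hxy a (-k) 1 (one_mem _)
  rw [mul_one] at h1
  rw [memC]
  constructor
  · rw [kmul' C, cinvL C, h1.2, hk, neg_neg, inv_mul_cancel]
  · rw [kmul' C, cinvL C, h1.1, ha, inv_mul_cancel]

theorem ctx_sub (C : Cl2 p z) :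
    Cl2 p (⟨z, z_memC C⟩ : Subgroup.centralizer ({x, y} : Set E)) := by
  refine ⟨fun h => C.ne (by simpa using congrArg Subtype.val h), Subtype.ext (by simpa using C.zp),
    fun a => Subtype.ext (C.cen a), fun a b => ?_⟩
  obtain ⟨k, hk⟩ := C.comm (a : E) b
  refine ⟨k, Subtype.ext ?_⟩
  simpa [commutatorElement_def] using hk

/-- the centre of the centraliser of a hyperbolic pair is the centre of the group -/
theorem center_sub (C : Cl2 p z) (hxy : ⁅x, y⁆ = z) :
    (Subgroup.center (Subgroup.centralizer ({x, y} : Set E))).map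
      (Subgroup.centralizer ({x, y} : Set E)).subtype = Subgroup.center E := by
  ext w
  constructor
  · rintro ⟨w', hw', rfl⟩
    rw [SetLike.mem_coe, Subgroup.mem_center_iff] at hw'
    rw [Subgroup.mem_center_iff]
    have hwc := memC_comm w'.2
    intro e
    obtain ⟨a, b, c, hc, rfl⟩ := decomp C hxy e
    have h1 : c * (w' : E) = w' * c := by
      have := hw' ⟨c, hc⟩
      simpa using congrArg Subtype.val this
    have hx : Commute (x ^ a) (w' : E) := Commute.zpow_left hwc.1 a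
    have hy : Commute (y ^ b) (w' : E) := Commute.zpow_left hwc.2 b
    exact ((hx.mul_left hy).mul_left h1).eq
  · intro hw
    rw [Subgroup.mem_center_iff] at hw
    have hwC : w ∈ Subgroup.centralizer ({x, y} : Set E) := by
      rw [Subgroup.mem_centralizer_iff]
      intro g _
      exact hw g
    refine ⟨⟨w, hwC⟩, ?_, rfl⟩
    rw [SetLike.mem_coe, Subgroup.mem_center_iff]
    intro g
    exact Subtype.ext (hw g)

/-- the order of the centraliser of a hyperbolic pair -/
theorem card_E [Finite E] [hp : Fact p.Prime] (C : Cl2 p z) (hxy : ⁅x, y⁆ = z) :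
    Nat.card E = p * p * Nat.card (Subgroup.centralizer ({x, y} : Set E)) := by
  have hmem : ∀ (g e : E), ⁅e, g⁆ ∈ Subgroup.zpowers z := fun g e => comm_mem C e g
  obtain ⟨f₁, hf₁⟩ : ∃ f₁ : E →* Subgroup.zpowers z, ∀ e, (f₁ e : E) = ⁅e, x⁆ :=
    ⟨(chomL C x).codRestrict (Subgroup.zpowers z) (hmem x), fun _ => rfl⟩
  obtain ⟨f₂, hf₂⟩ : ∃ f₂ : E →* Subgroup.zpowers z, ∀ e, (f₂ e : E) = ⁅e, y⁆ :=
    ⟨(chomL C y).codRestrict (Subgroup.zpowers z) (hmem y), fun _ => rfl⟩
  obtain ⟨Φ, hΦ⟩ : ∃ Φ : E →* Subgroup.zpowers z × Subgroup.zpowers z, ∀ e, Φ e = (f₁ e, f₂ e) :=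
    ⟨f₁.prod f₂, fun _ => rfl⟩
  have hsurj : Function.Surjective Φ := by
    rintro ⟨⟨u, hu⟩, ⟨v, hv⟩⟩
    obtain ⟨k, rfl⟩ := Subgroup.mem_zpowers_iff.mp hu
    obtain ⟨a, rfl⟩ := Subgroup.mem_zpowers_iff.mp hv
    refine ⟨x ^ a * y ^ (-k) * 1, ?_⟩
    have h1 := comm_nf C hxy a (-k) 1 (one_mem _)
    rw [hΦ]
    refine Prod.ext (Subtype.ext ?_) (Subtype.ext ?_)
    · rw [hf₁, h1.2, neg_neg]
    · rw [hf₂, h1.1]
  have hker : Φ.ker = Subgroup.centralizer ({x, y} : Set E) := by
    ext e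
    rw [MonoidHom.mem_ker, hΦ, memC, Prod.ext_iff]
    simp only [Prod.fst_one, Prod.snd_one]
    rw [Subtype.ext_iff, Subtype.ext_iff, hf₁, hf₂]
    rfl
  have h1 := Subgroup.card_eq_card_quotient_mul_card_subgroup Φ.ker
  rw [Nat.card_congr (QuotientGroup.quotientKerEquivOfSurjective Φ hsurj).toEquiv, Nat.card_prod,
    Nat.card_zpowers, orderOf_z C, hker] at h1
  exact h1

theorem exists_pair [hp : Fact p.Prime] (C : Cl2 p z) (hna : ¬ ∀ x y : E, x * y = y * x) :
    ∃ x y : E, ⁅x, y⁆ = z := by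
  push Not at hna
  obtain ⟨x, y₀, h⟩ := hna
  obtain ⟨k, hk⟩ := C.comm x y₀
  have hpk : ¬ (p : ℤ) ∣ k := by
    rintro ⟨m, rfl⟩
    apply h
    rw [← commutatorElement_eq_one_iff_mul_comm, hk, zpow_mul, zpow_natCast, C.zp, one_zpow]
  have hcop : IsCoprime k (p : ℤ) := by
    rw [isCoprime_comm]
    exact (Int.prime_iff_natAbs_prime.mpr (by simpa using hp.out)).coprime_iff_not_dvd.mpr hpk
  obtain ⟨u, v, huv⟩ := hcop
  refine ⟨x, y₀ ^ u, ?_⟩
  rw [czpowR C, hk, ← zpow_mul]
  have : k * u = 1 - v * p := by linarith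
  rw [this, zpow_sub, zpow_one, zpow_mul', zpow_natCast, C.zp, one_zpow, inv_one, mul_one]

end pair

/-- in a class two group with derived group of order `p` the centre has index `p ^ (2 m)` -/
theorem sq_index {p : ℕ} [hp : Fact p.Prime] : ∀ n : ℕ, ∀ (E : Type u) [Group E] [Finite E] (z : E),
    Cl2 p z → Nat.card E ≤ n → ∃ m : ℕ, Nat.card E = p ^ (2 * m) * Nat.card (Subgroup.center E) := by
  intro n
  induction n using Nat.strong_induction_on with
  | _ n ih =>
    intro E _ _ z C hn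
    by_cases hab : ∀ x y : E, x * y = y * x
    · refine ⟨0, ?_⟩
      have : Subgroup.center E = ⊤ := by
        rw [Subgroup.eq_top_iff']
        intro w
        rw [Subgroup.mem_center_iff]
        intro g
        exact hab g w
      rw [this, Subgroup.card_top]; simp
    · obtain ⟨x, y, hxy⟩ := exists_pair C hab
      have hcard := card_E C hxy
      have hp2 : 2 ≤ p := hp.out.two_le
      have hDpos : 0 < Nat.card (Subgroup.centralizer ({x, y} : Set E)) := Nat.card_pos
      have hlt : Nat.card (Subgroup.centralizer ({x, y} : Set E)) < n := by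
        have h4 : 4 ≤ p * p := Nat.mul_le_mul hp2 hp2
        have : Nat.card (Subgroup.centralizer ({x, y} : Set E)) < Nat.card E := by
          rw [hcard]
          calc Nat.card (Subgroup.centralizer ({x, y} : Set E))
              < 4 * Nat.card (Subgroup.centralizer ({x, y} : Set E)) := by omega
            _ ≤ p * p * Nat.card (Subgroup.centralizer ({x, y} : Set E)) :=
              Nat.mul_le_mul_right _ h4
        omega
      obtain ⟨m, hm⟩ := ih _ hlt (Subgroup.centralizer ({x, y} : Set E)) _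
        (ctx_sub (x := x) (y := y) C) le_rfl
      refine ⟨m + 1, ?_⟩
      have hcen : Nat.card (Subgroup.center (Subgroup.centralizer ({x, y} : Set E))) =
          Nat.card (Subgroup.center E) := by
        rw [← center_sub C hxy]
        exact (Subgroup.card_map_of_injective (Subgroup.subtype_injective _)).symm
      rw [hcard, hm, hcen]
      ring

section cyclic

variable {G : Type*} [Group G]

/-- in a cyclic group the solutions of `x ^ p = 1` lie in every subgroup of order `p` -/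
theorem mem_zpowers_of_pow_eq_one {p : ℕ} (hp : 0 < p) (Z : Subgroup G) [Finite Z]
    (hcyc : IsCyclic Z) {c w : G} (hc : c ∈ Z) (hw : w ∈ Z) (hco : orderOf c = p) (hwp : w ^ p = 1) :
    w ∈ Subgroup.zpowers c := by
  classical
  haveI := Fintype.ofFinite Z
  have h1 : (Finset.univ.filter (fun g : Z => g ^ p = 1)).card ≤ p :=
    IsCyclic.card_pow_eq_one_le hp
  have h2 : (Finset.univ.filter (fun g : Z => (g : G) ∈ Subgroup.zpowers c)) ⊆
      Finset.univ.filter (fun g : Z => g ^ p = 1) := by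
    intro g hg
    rw [Finset.mem_filter] at hg ⊢
    refine ⟨hg.1, ?_⟩
    obtain ⟨k, hk⟩ := Subgroup.mem_zpowers_iff.mp hg.2
    apply Subtype.ext
    rw [Subgroup.coe_pow, ← hk, Subgroup.coe_one, ← zpow_natCast, ← zpow_mul, mul_comm, zpow_mul,
      zpow_natCast, ← hco, pow_orderOf_eq_one, one_zpow]
  have h3 : (Finset.univ.filter (fun g : Z => (g : G) ∈ Subgroup.zpowers c)).card = p := by
    have hle : Subgroup.zpowers c ≤ Z := by
      rw [Subgroup.zpowers_le]; exact hc
    have e : {g : Z // (g : G) ∈ Subgroup.zpowers c} ≃ Subgroup.zpowers c :=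
      { toFun := fun g => ⟨g.1.1, g.2⟩
        invFun := fun g => ⟨⟨g.1, hle g.2⟩, g.2⟩
        left_inv := fun g => rfl
        right_inv := fun g => rfl }
    rw [← Fintype.card_subtype, ← Nat.card_eq_fintype_card, Nat.card_congr e, Nat.card_zpowers, hco]
  have h4 := Finset.eq_of_subset_of_card_le h2 (by rw [h3]; exact h1)
  have h5 : (⟨w, hw⟩ : Z) ∈ Finset.univ.filter (fun g : Z => g ^ p = 1) := by
    rw [Finset.mem_filter]
    exact ⟨Finset.mem_univ _, Subtype.ext (by simpa using hwp)⟩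
  rw [← h4, Finset.mem_filter] at h5
  exact h5.2

/-- the subgroups of a cyclic `p`-group form a chain -/
theorem le_or_le_of_cyclic {D : Type*} [Group D] [Finite D] {p : ℕ} [hp : Fact p.Prime]
    (hD : IsPGroup p D) [IsCyclic D] (X Y : Subgroup D) : X ≤ Y ∨ Y ≤ X := by
  classical
  have := Fintype.ofFinite D
  have key : ∀ (X Y : Subgroup D) (a b : ℕ), Nat.card X = p ^ a → Nat.card Y = p ^ b → a ≤ b →
      X ≤ Y := by
    intro X Y a b hXa hYb hab
    have hYall : ∀ g : D, g ^ p ^ b = 1 → g ∈ Y := by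
      have h1 : (Finset.univ.filter (fun g : D => g ^ p ^ b = 1)).card ≤ p ^ b :=
        IsCyclic.card_pow_eq_one_le (pow_pos hp.out.pos b)
      have h2 : (Finset.univ.filter (fun g : D => g ∈ Y)) ⊆
          Finset.univ.filter (fun g : D => g ^ p ^ b = 1) := by
        intro g hg
        rw [Finset.mem_filter] at hg ⊢
        refine ⟨hg.1, ?_⟩
        have h3 : (⟨g, hg.2⟩ : ↥Y) ^ Nat.card Y = 1 := pow_card_eq_one'
        rw [hYb] at h3
        have := congrArg Subtype.val h3
        simpa using this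
      have h3 : (Finset.univ.filter (fun g : D => g ∈ Y)).card = p ^ b := by
        rw [← hYb, Nat.card_eq_fintype_card, Fintype.card_subtype]
      have h4 := Finset.eq_of_subset_of_card_le h2 (by rw [h3]; exact h1)
      intro g hg
      have h5 : g ∈ Finset.univ.filter (fun g : D => g ^ p ^ b = 1) := by
        rw [Finset.mem_filter]; exact ⟨Finset.mem_univ g, hg⟩
      rw [← h4, Finset.mem_filter] at h5
      exact h5.2
    intro g hg
    apply hYall
    have h1 : g ^ p ^ a = 1 := by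
      have h3 : (⟨g, hg⟩ : ↥X) ^ Nat.card X = 1 := pow_card_eq_one'
      rw [hXa] at h3
      have := congrArg Subtype.val h3
      simpa using this
    obtain ⟨c, rfl⟩ := Nat.exists_eq_add_of_le hab
    rw [pow_add, pow_mul, h1, one_pow]
  obtain ⟨a, ha⟩ := (IsPGroup.iff_card).mp (hD.to_subgroup X)
  obtain ⟨b, hb⟩ := (IsPGroup.iff_card).mp (hD.to_subgroup Y)
  rcases le_total a b with h | h
  · exact Or.inl (key X Y a b ha hb h)
  · exact Or.inr (key Y X b a hb ha h)

/-- chain property for subgroups of a cyclic `p`-subgroup -/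
theorem le_or_le_of_le_cyclic {p : ℕ} [hp : Fact p.Prime] {P X Y : Subgroup G} [Finite P]
    (hP : IsPGroup p P) (hcyc : IsCyclic P) (hX : X ≤ P) (hY : Y ≤ P) : X ≤ Y ∨ Y ≤ X := by
  rcases le_or_le_of_cyclic hP (X.subgroupOf P) (Y.subgroupOf P) with h | h
  · left
    intro x hx
    have h1 : (⟨x, hX hx⟩ : ↥P) ∈ X.subgroupOf P := by rw [Subgroup.mem_subgroupOf]; exact hx
    have h2 := h h1
    rwa [Subgroup.mem_subgroupOf] at h2
  · right
    intro x hx
    have h1 : (⟨x, hY hx⟩ : ↥P) ∈ Y.subgroupOf P := by rw [Subgroup.mem_subgroupOf]; exact hx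
    have h2 := h h1
    rwa [Subgroup.mem_subgroupOf] at h2

end cyclic

section crit

variable {Q : Type u} [Group Q] [Finite Q] {p : ℕ} [hp : Fact p.Prime]

/-- a criterion for being extraspecial -/
theorem isExtraspecial_of_cl2 (hQ : IsPGroup p Q) {c : Q} (C : Cl2 p c)
    (hpow : ∀ x : Q, x ^ p ∈ Subgroup.zpowers c)
    (hcen : ∀ w ∈ Subgroup.center Q, w ∈ Subgroup.zpowers c)
    (hna : ¬ ∀ x y : Q, x * y = y * x) : IsExtraspecial p Q := by
  have hcenter : Subgroup.center Q = Subgroup.zpowers c := by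
    apply le_antisymm hcen
    rw [Subgroup.zpowers_le, Subgroup.mem_center_iff]
    intro g
    exact C.cen g
  have hcomm : commutator Q = Subgroup.zpowers c := by
    apply le_antisymm
    · rw [commutator_def, Subgroup.commutator_le]
      intro a _ b _
      exact comm_mem C a b
    · obtain ⟨x, y, hxy⟩ := exists_pair C hna
      rw [Subgroup.zpowers_le, ← hxy, commutator_def]
      exact Subgroup.commutator_mem_commutator (Subgroup.mem_top x) (Subgroup.mem_top y)
  have hfrat : frattini Q = Subgroup.zpowers c := by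
    apply le_antisymm
    · apply Cfsg.Agent.Lib.Helper7.frattini_le_of_elemAb_quotient p
      · intro x y
        have := comm_mem C x y
        rwa [commutatorElement_def] at this
      · exact hpow
    · rw [← hcomm]
      exact Cfsg.Agent.H1.commutator_le_frattini hQ
  refine ⟨⟨hQ, hfrat.trans hcenter.symm, hcomm.trans hcenter.symm⟩, ?_⟩
  rw [hcenter, Nat.card_zpowers, orderOf_z C]

/-- non-abelian groups of order `p ^ 3` -/
theorem cube_facts (hcard : Nat.card Q = p ^ 3) (hna : ¬ ∀ x y : Q, x * y = y * x) :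
    Nat.card (Subgroup.center Q) = p ∧ (∀ x y : Q, ⁅x, y⁆ ∈ Subgroup.center Q) ∧
      ∀ x : Q, x ^ p ∈ Subgroup.center Q := by
  have hQ : IsPGroup p Q := IsPGroup.of_card hcard
  haveI : Nontrivial Q := by
    rw [← Finite.one_lt_card_iff_nontrivial, hcard]
    exact Nat.one_lt_pow (by norm_num) hp.out.one_lt
  have hZnt : Nontrivial (Subgroup.center Q) := hQ.center_nontrivial
  obtain ⟨k, hk⟩ := (IsPGroup.iff_card).mp (hQ.to_subgroup (Subgroup.center Q))
  have hk3 : k ≤ 3 := by
    have h1 : p ^ k ∣ p ^ 3 := by rw [← hk, ← hcard]; exact Subgroup.card_subgroup_dvd_card _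
    exact (Nat.pow_dvd_pow_iff_le_right hp.out.one_lt).mp h1
  have hk0 : k ≠ 0 := by
    intro h
    rw [h, pow_zero] at hk
    have := (Finite.one_lt_card_iff_nontrivial (α := Subgroup.center Q)).mpr hZnt
    omega
  have hidx : (Subgroup.center Q).index = p ^ (3 - k) := by
    have h1 := Subgroup.card_mul_index (Subgroup.center Q)
    rw [hk, hcard] at h1
    have h2 : p ^ 3 = p ^ k * p ^ (3 - k) := by rw [← pow_add]; congr 1; omega
    rw [h2] at h1
    exact Nat.eq_of_mul_eq_mul_left (pow_pos hp.out.pos k) h1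
  have hk1 : k = 1 := by
    by_contra hne
    have hk23 : k = 2 ∨ k = 3 := by omega
    apply hna
    rcases hk23 with h | h
    · -- quotient of order p is cyclic
      have h1 : Nat.card (Q ⧸ Subgroup.center Q) = p := by
        rw [← Subgroup.index_eq_card, hidx, h]; simp
      haveI : IsCyclic (Q ⧸ Subgroup.center Q) := isCyclic_of_prime_card h1
      have := commutative_of_cyclic_center_quotient (QuotientGroup.mk' (Subgroup.center Q))
        (by rw [QuotientGroup.ker_mk'])
      exact fun x y => this x y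
    · have h1 : Subgroup.center Q = ⊤ := by
        apply Subgroup.eq_top_of_card_eq
        rw [hk, h, hcard]
      intro x y
      have : y ∈ Subgroup.center Q := h1 ▸ Subgroup.mem_top y
      exact (Subgroup.mem_center_iff.mp this x)
  subst hk1
  rw [pow_one] at hk
  have hq : Nat.card (Q ⧸ Subgroup.center Q) = p ^ 2 := by
    rw [← Subgroup.index_eq_card, hidx]
  refine ⟨hk, ?_, ?_⟩
  · intro x y
    have hqc : ∀ a b : Q ⧸ Subgroup.center Q, a * b = b * a :=
      IsPGroup.commutative_of_card_eq_prime_sq hq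
    have h1 : (QuotientGroup.mk' (Subgroup.center Q)) ⁅x, y⁆ = 1 := by
      rw [map_commutatorElement, commutatorElement_eq_one_iff_mul_comm]
      exact hqc _ _
    rwa [QuotientGroup.mk'_apply, QuotientGroup.eq_one_iff] at h1
  · intro x
    by_contra hx
    -- the image of `x` has order `p ^ 2`, so the quotient is cyclic
    have h1 : (QuotientGroup.mk' (Subgroup.center Q) x) ^ p ≠ 1 := by
      rw [← map_pow, QuotientGroup.mk'_apply, Ne, QuotientGroup.eq_one_iff]
      exact hx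
    have h2 : orderOf (QuotientGroup.mk' (Subgroup.center Q) x) ∣ p ^ 2 := by
      rw [← hq]; exact orderOf_dvd_natCard _
    obtain ⟨j, hj, hjo⟩ := (Nat.dvd_prime_pow hp.out).mp h2
    have hj2 : j = 2 := by
      by_contra hne
      have : j ≤ 1 := by omega
      apply h1
      have h3 : orderOf (QuotientGroup.mk' (Subgroup.center Q) x) ∣ p := by
        rw [hjo]
        exact (pow_dvd_pow p this).trans (by rw [pow_one])
      exact orderOf_dvd_iff_pow_eq_one.mp h3
    rw [hj2] at hjo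
    haveI : IsCyclic (Q ⧸ Subgroup.center Q) :=
      isCyclic_of_orderOf_eq_card _ (by rw [hjo, hq])
    apply hna
    have := commutative_of_cyclic_center_quotient (QuotientGroup.mk' (Subgroup.center Q))
      (by rw [QuotientGroup.ker_mk'])
    exact fun x y => this x y

end crit

end Cfsg.Agent.Lead.Symp
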