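import Mathlib
import Cfsg.Prelude.Def_Characters
import Cfsg.Agent.Lib.Lead.GalDegA
import Cfsg.Agent.Lib.Lead.GalDegB
import Cfsg.Agent.Lib.Lead.SympA

set_option autoImplicit false
set_option linter.style.haveILetI false
set_option linter.unusedSectionVars false

/-!
# `p`-groups whose equal-degree nonlinear characters share kernels
-/

namespace Cfsg.Agent.Lib.Lead.GalDeg

open Cfsg Module
open Cfsg.Agent.Lib.helper3.Irr Cfsg.Agent.Lib.helper3.Central Cfsg.Agent.Lib.helper3.CharBasic
open scoped ComplexConjugate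
open scoped commutatorElement

universe u

/-- arithmetic behind the comparison of the two degrees -/
theorem sq_eq_of_mul {p e₁ e₂ n₁ n₂ : ℕ} (hp : p.Prime) (h1 : e₁ ∣ p) (h2 : e₂ ∣ p)
    (hn₁ : 0 < n₁) (hn₂ : 0 < n₂) (h : e₁ * n₁ ^ 2 = e₂ * n₂ ^ 2) : n₁ = n₂ := by
  have key : ∀ a b : ℕ, 0 < a → 0 < b → a ^ 2 = p * b ^ 2 → False := by
    intro a b ha hb hab
    have h3 : (a ^ 2).factorization p = (p * b ^ 2).factorization p := by rw [hab]
    rw [Nat.factorization_pow, Nat.factorization_mul hp.ne_zero (pow_pos hb 2).ne',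
      Nat.factorization_pow, hp.factorization] at h3
    simp only [Finsupp.smul_apply, Finsupp.add_apply, Finsupp.single_eq_same, smul_eq_mul] at h3
    omega
  rcases (Nat.dvd_prime hp).mp h1 with rfl | rfl <;> rcases (Nat.dvd_prime hp).mp h2 with rfl | rfl
  · rw [one_mul, one_mul] at h
    exact Nat.pow_left_injective (by norm_num : 2 ≠ 0) h
  · rw [one_mul] at h
    exact (key n₁ n₂ hn₁ hn₂ h).elim
  · rw [one_mul] at h
    exact (key n₂ n₁ hn₂ hn₁ h.symm).elim
  · have := Nat.eq_of_mul_eq_mul_left hp.pos h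
    exact Nat.pow_left_injective (by norm_num : 2 ≠ 0) this

variable {G : Type u} [Group G] [Finite G] {p : ℕ} [hp : Fact p.Prime]

/-- with an abelian subgroup of index `p`, nonlinear irreducible characters of a `p`-group have
degree `p` -/
theorem degree_eq_p (hG : IsPGroup p G) {χ : G → ℂ} (hχ : IsIrrCharacter G χ) (h1 : χ 1 ≠ 1)
    (A : Subgroup G) (hA : ∀ a ∈ A, ∀ b ∈ A, a * b = b * a) (hidx : A.index = p) :
    χ 1 = p := by
  classical
  letI : Fintype G := Fintype.ofFinite G
  obtain ⟨n, hn, hdvd, hpos⟩ := irr_degree_dvd_card hχ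
  have hle := degree_le_index_of_abelian hχ A hA
  rw [hn, hidx, Complex.natCast_re] at hle
  have hle' : n ≤ p := by exact_mod_cast hle
  obtain ⟨k, hk⟩ := IsPGroup.iff_card.mp hG
  rw [hk] at hdvd
  obtain ⟨j, -, hj⟩ := (Nat.dvd_prime_pow hp.out).mp hdvd
  rcases Nat.eq_zero_or_pos j with rfl | hj0
  · rw [pow_zero] at hj
    rw [hj] at hn
    exact absurd (by simpa using hn) h1
  · have : p ∣ n := by rw [hj]; exact dvd_pow_self p hj0.ne'
    have := Nat.le_of_dvd hpos this
    rw [hn]
    congr 1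
    omega

/-- Step 1: derived group of order `p` forces a cyclic centre -/
theorem isCyclic_center_of_card_commutator (hS : SameKer G) (hna : ¬ ∀ a b : G, a * b = b * a)
    (hc : Nat.card (commutator G) = p) : IsCyclic (Subgroup.center G) := by
  obtain ⟨χ, hχ, hχ1⟩ := exists_nonlinear hna
  have hχ' := hχ
  obtain ⟨d, ρ, hirr, rfl⟩ := hχ
  haveI := hirr
  have hker : ∀ g : G, ρ.character g = ρ.character 1 → g = 1 := by
    intro g hg
    by_contra hg1
    have hgc := hS.ker_le_commutator hχ' hχ1 hg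
    apply hχ1
    apply linear_of_commutator_le_ker hχ'
    intro c hc'
    have hmem : (⟨c, hc'⟩ : commutator G) ∈ Subgroup.zpowers (⟨g, hgc⟩ : commutator G) :=
      mem_zpowers_of_prime_card hc (fun h => hg1 (congrArg Subtype.val h))
    obtain ⟨k, hk⟩ := Subgroup.mem_zpowers_iff.mp hmem
    have h2 : g ^ k = c := by
      have := congrArg Subtype.val hk
      simpa using this
    rw [← h2]
    exact apply_zpow_of_apply_eq (isCharacter_of_isIrrCharacter hχ') hg k
  have hinj : Function.Injective ρ := by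
    intro a b hab
    have h1 : ρ (a⁻¹ * b) = LinearMap.id := by
      rw [map_mul, ← hab, ← map_mul, inv_mul_cancel, map_one]
      rfl
    have h2 : ρ.character (a⁻¹ * b) = ρ.character 1 := by
      rw [Representation.char_one]
      exact (character_eq_finrank_iff ρ _).mpr h1
    exact inv_mul_eq_one.mp (hker _ h2)
  exact isCyclic_center_of_faithful_irreducible ρ hinj

theorem card_quotient_lt (L : Subgroup G) (hLc : Nat.card L = p) :
    Nat.card (G ⧸ L) < Nat.card G := by
  have h1 := Subgroup.card_eq_card_quotient_mul_card_subgroup L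
  rw [hLc] at h1
  have h2 : 0 < Nat.card (G ⧸ L) := Nat.card_pos
  have h3 := hp.out.one_lt
  rw [h1]
  nlinarith

theorem quotient_comm_iff (L : Subgroup G) [L.Normal] (a b : G) :
    (QuotientGroup.mk a : G ⧸ L) * QuotientGroup.mk b = QuotientGroup.mk b * QuotientGroup.mk a ↔
      ⁅a, b⁆ ∈ L := by
  rw [← commutatorElement_eq_one_iff_mul_comm, ← QuotientGroup.mk'_apply, ← QuotientGroup.mk'_apply,
    ← map_commutatorElement, QuotientGroup.mk'_apply, QuotientGroup.eq_one_iff]

/-- Step 2: the induction step is impossible when `P ⧸ L` is nonabelian -/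
theorem step2_false (hP : IsPGroup p G) (hS : SameKer G)
    (IH : ∀ (Q : Type u) [Group Q] [Finite Q], Nat.card Q < Nat.card G → IsPGroup p Q →
      (¬ ∀ a b : Q, a * b = b * a) → SameKer Q →
      IsCyclic (Subgroup.center Q) ∧ Nat.card (commutator Q) = p)
    (L : Subgroup G) [L.Normal] (hLZ : L ≤ Subgroup.center G) (hLc : Nat.card L = p)
    (hLP : L ≤ commutator G) (hna : ¬ ∀ a b : G ⧸ L, a * b = b * a) : False := by
  classical
  obtain ⟨hcyc, hQ'⟩ := IH (G ⧸ L) (card_quotient_lt L hLc) (hP.to_quotient L) hna (hS.quotient L)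
  have hQ'Z : commutator (G ⧸ L) ≤ Subgroup.center (G ⧸ L) :=
    le_center_of_normal_of_card_prime (hP.to_quotient L) _ hQ'
  have hcommQ : ∀ a b : G ⧸ L, ⁅a, b⁆ ∈ Subgroup.center (G ⧸ L) := fun a b =>
    hQ'Z (Subgroup.commutator_mem_commutator (Subgroup.mem_top _) (Subgroup.mem_top _))
  have hcomm : ∀ a b : G, ⁅a, b⁆ ∈ cenMod L := by
    intro a b
    show QuotientGroup.mk' L ⁅a, b⁆ ∈ Subgroup.center (G ⧸ L)
    rw [map_commutatorElement]
    exact hcommQ _ _
  have hpow : ∀ a : G, a ^ p ∈ cenMod L := by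
    intro a
    rw [mem_cenMod]
    intro x
    rw [← QuotientGroup.eq_one_iff, ← QuotientGroup.mk'_apply, map_commutatorElement, map_pow]
    have hc : Commute ⁅QuotientGroup.mk' L a, QuotientGroup.mk' L x⁆ (QuotientGroup.mk' L a) :=
      ((Subgroup.mem_center_iff.mp (hcommQ _ _)) _).symm
    rw [comm_pow_left hc p]
    have h3 : (⟨_, Subgroup.commutator_mem_commutator (Subgroup.mem_top (QuotientGroup.mk' L a))
        (Subgroup.mem_top (QuotientGroup.mk' L x))⟩ : commutator (G ⧸ L)) ^ Nat.card (commutator (G ⧸ L)) = 1 :=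
      pow_card_eq_one'
    rw [hQ'] at h3
    exact congrArg Subtype.val h3
  obtain ⟨g, hg⟩ := exists_gen L hcyc
  obtain ⟨χ₁, hχ₁, hχ₁1⟩ := exists_nonlinear hna
  obtain ⟨n₁, hn₁, hcard₁⟩ := card_eq_center_mul_sq_of_commutator_prime hQ' hQ'Z hχ₁ hχ₁1
  have hidx₁ : (cenMod L).index = n₁ ^ 2 := by
    rw [index_cenMod]
    have := (Subgroup.center (G ⧸ L)).card_mul_index
    rw [hcard₁] at this
    exact Nat.eq_of_mul_eq_mul_left Nat.card_pos this
  have hn₁pos : 0 < n₁ := by
    rcases Nat.eq_zero_or_pos n₁ with h0 | h0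
    · rw [h0] at hcard₁
      have : 0 < Nat.card (G ⧸ L) := Nat.card_pos
      simp at hcard₁
      omega
    · exact h0
  have hinfl₁ := isIrrCharacter_inflate L hχ₁
  have hinfl₁1 : inflate L χ₁ 1 = n₁ := by rw [inflate_apply]; exact hn₁
  by_cases hB : ∃ c : G, c ∈ Subgroup.center G ∧ c ∈ commutator G ∧ c ^ p = 1 ∧ c ∉ L
  · -- Case B: a second central subgroup of order `p`
    obtain ⟨c, hcZ, hcP, hcp, hcL⟩ := hB
    have hc1 : c ≠ 1 := fun h => hcL (h ▸ L.one_mem)
    have hL₂Z : Subgroup.zpowers c ≤ Subgroup.center G := by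
      rw [Subgroup.zpowers_le]; exact hcZ
    haveI hL₂n : (Subgroup.zpowers c).Normal := by
      constructor
      intro n hn t
      have := Subgroup.mem_center_iff.mp (hL₂Z hn) t
      rw [this, mul_assoc, mul_inv_cancel, mul_one]
      exact hn
    have hL₂c : Nat.card (Subgroup.zpowers c) = p := by
      rw [Nat.card_zpowers]; exact orderOf_eq_prime hcp hc1
    have hna₂ : ¬ ∀ a b : G ⧸ Subgroup.zpowers c, a * b = b * a := by
      intro hab
      have hle : commutator G ≤ Subgroup.zpowers c := by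
        rw [commutator_def, Subgroup.commutator_le]
        intro a _ b _
        exact (quotient_comm_iff _ a b).mp (hab _ _)
      have hLL₂ : L ≤ Subgroup.zpowers c := hLP.trans hle
      have : L = Subgroup.zpowers c :=
        Subgroup.eq_of_le_of_card_ge hLL₂ (by rw [hLc, hL₂c])
      exact hcL (this ▸ Subgroup.mem_zpowers c)
    obtain ⟨hcyc₂, hQ₂'⟩ := IH (G ⧸ Subgroup.zpowers c) (card_quotient_lt _ hL₂c)
      (hP.to_quotient _) hna₂ (hS.quotient _)
    have hQ₂'Z : commutator (G ⧸ Subgroup.zpowers c) ≤ Subgroup.center (G ⧸ Subgroup.zpowers c) :=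
      le_center_of_normal_of_card_prime (hP.to_quotient _) _ hQ₂'
    obtain ⟨g₂, hg₂⟩ := exists_gen (Subgroup.zpowers c) hcyc₂
    obtain ⟨χ₂, hχ₂, hχ₂1⟩ := exists_nonlinear hna₂
    obtain ⟨n₂, hn₂, hcard₂⟩ := card_eq_center_mul_sq_of_commutator_prime hQ₂' hQ₂'Z hχ₂ hχ₂1
    have hidx₂ : (cenMod (Subgroup.zpowers c)).index = n₂ ^ 2 := by
      rw [index_cenMod]
      have := (Subgroup.center (G ⧸ Subgroup.zpowers c)).card_mul_index
      rw [hcard₂] at this
      exact Nat.eq_of_mul_eq_mul_left Nat.card_pos this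
    have hn₂pos : 0 < n₂ := by
      rcases Nat.eq_zero_or_pos n₂ with h0 | h0
      · rw [h0] at hcard₂
        have : 0 < Nat.card (G ⧸ Subgroup.zpowers c) := Nat.card_pos
        simp at hcard₂
        omega
      · exact h0
    have he₁ := hg.relIndex_center_dvd hLZ hLc
    have he₂ := hg₂.relIndex_center_dvd hL₂Z hL₂c
    have hr₁ := Subgroup.relIndex_mul_index (center_le_cenMod L)
    have hr₂ := Subgroup.relIndex_mul_index (center_le_cenMod (Subgroup.zpowers c))
    rw [hidx₁] at hr₁
    rw [hidx₂] at hr₂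
    have hn_eq : n₁ = n₂ := sq_eq_of_mul hp.out he₁ he₂ hn₁pos hn₂pos (hr₁.trans hr₂.symm)
    have hinfl₂ := isIrrCharacter_inflate (Subgroup.zpowers c) hχ₂
    have hinfl₂1 : inflate (Subgroup.zpowers c) χ₂ 1 = n₂ := by rw [inflate_apply]; exact hn₂
    have hk := hS (inflate L χ₁) (inflate (Subgroup.zpowers c) χ₂) hinfl₁ hinfl₂
      (by rw [inflate_apply]; exact hχ₁1) (by rw [hinfl₁1, hinfl₂1, hn_eq]) c
    have h2 : inflate (Subgroup.zpowers c) χ₂ c = inflate (Subgroup.zpowers c) χ₂ 1 :=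
      inflate_apply_of_mem _ χ₂ (Subgroup.mem_zpowers c)
    have h1 := hk.mpr h2
    rw [inflate_apply, inflate_apply] at h1
    have h1' : χ₁ (QuotientGroup.mk c) = χ₁ 1 := h1
    apply hχ₁1
    apply linear_of_commutator_le_ker hχ₁
    intro d hd
    have hmkc : (QuotientGroup.mk c : G ⧸ L) ∈ commutator (G ⧸ L) := by
      have h3 : (commutator G).map (QuotientGroup.mk' L) = commutator (G ⧸ L) := by
        rw [commutator_def, Subgroup.map_commutator, Subgroup.map_top_of_surjective _
          (QuotientGroup.mk'_surjective L), commutator_def]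
      rw [← h3]
      exact Subgroup.mem_map_of_mem _ hcP
    have hmkc1 : (QuotientGroup.mk c : G ⧸ L) ≠ 1 := fun h => hcL ((QuotientGroup.eq_one_iff c).mp h)
    have hmem : (⟨d, hd⟩ : commutator (G ⧸ L)) ∈ Subgroup.zpowers
        (⟨QuotientGroup.mk c, hmkc⟩ : commutator (G ⧸ L)) :=
      mem_zpowers_of_prime_card hQ' (fun h => hmkc1 (congrArg Subtype.val h))
    obtain ⟨k, hk'⟩ := Subgroup.mem_zpowers_iff.mp hmem
    have h4 : (QuotientGroup.mk c : G ⧸ L) ^ k = d := by
      have := congrArg Subtype.val hk'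
      simpa using this
    rw [← h4]
    exact apply_zpow_of_apply_eq (isCharacter_of_isIrrCharacter hχ₁) h1' k
  · -- Case A: an abelian subgroup of index `p`
    push Not at hB
    have hMcomm : ∀ x ∈ hg.M hLZ, ∀ y ∈ hg.M hLZ, ⁅x, y⁆ ∈ L := fun x hx y hy =>
      hB _ (hg.comm_mem_center hLZ hcomm hx hy)
        (Subgroup.commutator_mem_commutator (Subgroup.mem_top _) (Subgroup.mem_top _))
        (hg.comm_pow hLZ hcomm hpow hx hy)
    have hLM : L ≤ hg.M hLZ := (le_cenMod L hLZ).trans (hg.cenMod_le_M hLZ)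
    have hMtop : (hg.M hLZ).index ≠ 1 := by
      intro h
      rw [Subgroup.index_eq_one] at h
      apply hna
      intro a b
      obtain ⟨a, rfl⟩ := QuotientGroup.mk_surjective a
      obtain ⟨b, rfl⟩ := QuotientGroup.mk_surjective b
      rw [quotient_comm_iff]
      exact hMcomm a (h ▸ Subgroup.mem_top a) b (h ▸ Subgroup.mem_top b)
    have hMp : (hg.M hLZ).index = p :=
      ((Nat.dvd_prime hp.out).mp (hg.index_M_dvd hLZ hLc)).resolve_left hMtop
    have hMb : ∀ a ∈ (hg.M hLZ).map (QuotientGroup.mk' L),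
        ∀ b ∈ (hg.M hLZ).map (QuotientGroup.mk' L), a * b = b * a := by
      rintro _ ⟨x, hx, rfl⟩ _ ⟨y, hy, rfl⟩
      rw [QuotientGroup.mk'_apply, QuotientGroup.mk'_apply, quotient_comm_iff]
      exact hMcomm x hx y hy
    have hMbidx : ((hg.M hLZ).map (QuotientGroup.mk' L)).index = p := by
      rw [Subgroup.index_map_eq _ (QuotientGroup.mk'_surjective L)
        (by rw [QuotientGroup.ker_mk']; exact hLM)]
      exact hMp
    have hdeg₁ := degree_eq_p (hP.to_quotient L) hχ₁ hχ₁1 _ hMb hMbidx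
    have hn₁p : n₁ = p := by
      rw [hn₁] at hdeg₁
      exact_mod_cast hdeg₁
    have hidx : (cenMod L).index = p ^ 2 := by rw [hidx₁, hn₁p]
    have hMab := hg.M_abelian hLZ hidx hMp
    -- a character not containing `L` in its kernel
    have hLnt : ∃ z : G, z ∈ L ∧ z ≠ 1 := by
      by_contra hcon
      push Not at hcon
      have : L = ⊥ := by
        rw [Subgroup.eq_bot_iff_forall]
        exact hcon
      rw [this, Subgroup.card_bot] at hLc
      exact hp.out.one_lt.ne hLc
    obtain ⟨z, hzL, hz1⟩ := hLnt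
    obtain ⟨ψ, hψ, hψz⟩ := exists_irr_apply_ne hz1
    have hψ1 : ψ 1 ≠ 1 := by
      intro h1
      apply hψz
      rw [linear_commutator_le (isCharacter_of_isIrrCharacter hψ) h1 z (hLP hzL), h1]
    have hdegψ := degree_eq_p hP hψ hψ1 _ hMab hMp
    have hk := hS (inflate L χ₁) ψ hinfl₁ hψ (by rw [inflate_apply]; exact hχ₁1)
      (by rw [hinfl₁1, hdegψ, hn₁p]) z
    exact hψz (hk.mp (inflate_apply_of_mem L χ₁ hzL))

/-- a nonidentity element of a `p`-group has a power of order `p` -/
theorem exists_pow_orderOf_eq_prime (hG : IsPGroup p G) {z : G} (hz : z ≠ 1) :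
    ∃ j : ℕ, orderOf (z ^ j) = p := by
  obtain ⟨k, hk⟩ := IsPGroup.iff_orderOf.mp hG z
  have hk0 : k ≠ 0 := by
    rintro rfl
    rw [pow_zero, orderOf_eq_one_iff] at hk
    exact hz hk
  refine ⟨p ^ (k - 1), ?_⟩
  have hdvd : p ^ (k - 1) ∣ orderOf z := by
    rw [hk]; exact pow_dvd_pow p (Nat.sub_le k 1)
  rw [orderOf_pow_of_dvd (pow_pos hp.out.pos _).ne' hdvd, hk,
    Nat.pow_div (Nat.sub_le k 1) hp.out.pos]
  have : k - (k - 1) = 1 := by omega
  rw [this, pow_one]

/-- **Main theorem**: a nonabelian `p`-group whose equal-degree nonlinear irreducible characters have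
equal kernels has cyclic centre and derived group of order `p`. -/
theorem main : ∀ n : ℕ, ∀ (G : Type u) [Group G] [Finite G], Nat.card G = n → IsPGroup p G →
    (¬ ∀ a b : G, a * b = b * a) → SameKer G →
    IsCyclic (Subgroup.center G) ∧ Nat.card (commutator G) = p := by
  intro n
  induction n using Nat.strong_induction_on with
  | _ n ih =>
    intro G _ _ hn hP hna hS
    have hcne : commutator G ≠ ⊥ := by
      intro h
      apply hna
      intro a b
      have : ⁅a, b⁆ ∈ commutator G :=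
        Subgroup.commutator_mem_commutator (Subgroup.mem_top _) (Subgroup.mem_top _)
      rw [h, Subgroup.mem_bot] at this
      exact commutatorElement_eq_one_iff_mul_comm.mp this
    obtain ⟨z, hzc, hzZ, hz1⟩ :=
      Cfsg.Agent.Lib.Lead.PGroup.exists_mem_center_of_normal hP (commutator G) hcne
    obtain ⟨j, hj⟩ := exists_pow_orderOf_eq_prime hP hz1
    have hwZ : z ^ j ∈ Subgroup.center G := Subgroup.pow_mem _ hzZ j
    have hwc : z ^ j ∈ commutator G := Subgroup.pow_mem _ hzc j
    have hLZ : Subgroup.zpowers (z ^ j) ≤ Subgroup.center G := by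
      rw [Subgroup.zpowers_le]; exact hwZ
    have hLP : Subgroup.zpowers (z ^ j) ≤ commutator G := by
      rw [Subgroup.zpowers_le]; exact hwc
    haveI hLn : (Subgroup.zpowers (z ^ j)).Normal := by
      constructor
      intro n hn t
      have := Subgroup.mem_center_iff.mp (hLZ hn) t
      rw [this, mul_assoc, mul_inv_cancel, mul_one]
      exact hn
    have hLc : Nat.card (Subgroup.zpowers (z ^ j)) = p := by
      rw [Nat.card_zpowers]; exact hj
    by_cases hab : ∀ a b : G ⧸ Subgroup.zpowers (z ^ j), a * b = b * a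
    · have hle : commutator G ≤ Subgroup.zpowers (z ^ j) := by
        rw [commutator_def, Subgroup.commutator_le]
        intro a _ b _
        exact (quotient_comm_iff _ a b).mp (hab _ _)
      have heq : commutator G = Subgroup.zpowers (z ^ j) := le_antisymm hle hLP
      have hc : Nat.card (commutator G) = p := by rw [heq]; exact hLc
      exact ⟨isCyclic_center_of_card_commutator hS hna hc, hc⟩
    · exfalso
      exact step2_false hP hS
        (fun Q _ _ hlt hQ hnaQ hSQ => ih (Nat.card Q) (hn ▸ hlt) Q rfl hQ hnaQ hSQ)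
        (Subgroup.zpowers (z ^ j)) hLZ hLc hLP hab

/-- the central character of a nonlinear irreducible representation is injective when the centre
is cyclic and the derived group has order `p` -/
theorem central_hom_injective [Fintype G] (hP : IsPGroup p G)
    (hZ : IsCyclic (Subgroup.center G)) (hc : Nat.card (commutator G) = p)
    (hcz : commutator G ≤ Subgroup.center G)
    {d : ℕ} (ρ : Representation ℂ G (Fin d → ℂ)) [ρ.IsIrreducible] (h1 : ρ.character 1 ≠ 1)
    (lam : Subgroup.center G →* ℂ)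
    (hlam : ∀ z : Subgroup.center G, ρ (z : G) = lam z • LinearMap.id) :
    Function.Injective lam := by
  rw [injective_iff_map_eq_one]
  intro z hz
  by_contra hz1
  obtain ⟨j, hj⟩ := exists_pow_orderOf_eq_prime (hP.to_subgroup (Subgroup.center G)) hz1
  have hw : lam (z ^ j) = 1 := by rw [map_pow, hz, one_pow]
  -- a nonidentity element of the commutator subgroup
  have hex : ∃ c : G, c ∈ commutator G ∧ c ≠ 1 := by
    by_contra hcon
    push Not at hcon
    have : commutator G = ⊥ := by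
      rw [Subgroup.eq_bot_iff_forall]
      exact hcon
    rw [this, Subgroup.card_bot] at hc
    exact hp.out.one_lt.ne hc
  obtain ⟨c, hcc, hc1⟩ := hex
  have hcp : c ^ p = 1 := by
    have h3 : (⟨c, hcc⟩ : commutator G) ^ Nat.card (commutator G) = 1 := pow_card_eq_one'
    rw [hc] at h3
    exact congrArg Subtype.val h3
  have hord : orderOf ((z ^ j : Subgroup.center G) : G) = p := by
    rw [Subgroup.orderOf_coe]; exact hj
  have hmem := Cfsg.Agent.Lead.Symp.mem_zpowers_of_pow_eq_one hp.out.pos (Subgroup.center G) hZ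
    (c := ((z ^ j : Subgroup.center G) : G)) (w := c) (z ^ j).2 (hcz hcc) hord hcp
  obtain ⟨k, hk⟩ := Subgroup.mem_zpowers_iff.mp hmem
  have hne := central_hom_ne_one hc hcz ρ h1 lam hlam hcc hc1
  apply hne
  have h5 : (⟨c, hcz hcc⟩ : Subgroup.center G) = (z ^ j) ^ k := by
    apply Subtype.ext
    push_cast
    exact hk.symm
  rw [h5]
  -- `lam` of an integer power
  have hone : ρ ((((z ^ j) ^ k : Subgroup.center G) : G)) = LinearMap.id := by
    have h6 : ρ ((z ^ j : Subgroup.center G) : G) = LinearMap.id := by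
      rw [hlam, hw, one_smul]
    have h7 : ((z ^ j : Subgroup.center G) : G) ∈ MonoidHom.ker ρ := h6
    have h8 := Subgroup.zpow_mem _ h7 k
    have h9 : ((((z ^ j) ^ k : Subgroup.center G)) : G) = (((z ^ j : Subgroup.center G) : G)) ^ k := by
      push_cast
      rfl
    rw [h9]
    exact h8
  rw [hlam] at hone
  haveI := nontrivial_of_irreducible ρ
  obtain ⟨v, hv⟩ := exists_ne (0 : Fin d → ℂ)
  have h10 := congrArg (fun T : (Fin d → ℂ) →ₗ[ℂ] (Fin d → ℂ) => T v) hone
  simp only [LinearMap.smul_apply, LinearMap.id_apply] at h10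
  have h11 : (lam ((z ^ j) ^ k) - 1) • v = 0 := by rw [sub_smul, h10, one_smul, sub_self]
  rcases smul_eq_zero.mp h11 with h12 | h12
  · exact sub_eq_zero.mp h12
  · exact absurd h12 hv

/-- **Converse**: with cyclic centre and derived group of order `p`, nonlinear irreducible characters
of equal degree are Galois conjugate. -/
theorem galois_conj (hP : IsPGroup p G) (hZ : IsCyclic (Subgroup.center G))
    (hc : Nat.card (commutator G) = p) {χ ψ : G → ℂ} (hχ : IsIrrCharacter G χ)
    (hψ : IsIrrCharacter G ψ) (h1 : χ 1 ≠ 1) (h2 : χ 1 = ψ 1) :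
    ∃ k : ℕ, Nat.Coprime k (Nat.card G) ∧ ∀ g : G, ψ g = χ (g ^ k) := by
  classical
  letI : Fintype G := Fintype.ofFinite G
  have hcz : commutator G ≤ Subgroup.center G := le_center_of_normal_of_card_prime hP _ hc
  have h1' : ψ 1 ≠ 1 := h2 ▸ h1
  obtain ⟨d, ρ, hirr, rfl⟩ := hχ
  obtain ⟨d', σ, hirr', rfl⟩ := hψ
  haveI := hirr
  haveI := hirr'
  obtain ⟨lam, hlam⟩ := exists_central_hom ρ
  obtain ⟨mu, hmu⟩ := exists_central_hom σ
  have hlinj := central_hom_injective hP hZ hc hcz ρ h1 lam hlam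
  have hminj := central_hom_injective hP hZ hc hcz σ h1' mu hmu
  obtain ⟨z₀, hz₀⟩ := hZ.exists_generator
  have hN : 0 < orderOf z₀ := orderOf_pos z₀
  haveI : NeZero (orderOf z₀) := ⟨hN.ne'⟩
  have hprimζ : IsPrimitiveRoot (lam z₀) (orderOf z₀) := by
    rw [← orderOf_injective lam hlinj z₀]
    exact IsPrimitiveRoot.orderOf _
  have hprimξ : IsPrimitiveRoot (mu z₀) (orderOf z₀) := by
    rw [← orderOf_injective mu hminj z₀]
    exact IsPrimitiveRoot.orderOf _
  obtain ⟨i, -, hi⟩ := hprimζ.eq_pow_of_pow_eq_one (ξ := mu z₀)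
    (by rw [← map_pow, pow_orderOf_eq_one, map_one])
  have hcop : i.Coprime (orderOf z₀) := by
    rw [← hi] at hprimξ
    exact (hprimζ.pow_iff_coprime hN i).mp hprimξ
  -- the order of `z₀` is a nontrivial power of `p`
  obtain ⟨k, hk⟩ := IsPGroup.iff_orderOf.mp (hP.to_subgroup (Subgroup.center G)) z₀
  have hk0 : k ≠ 0 := by
    rintro rfl
    rw [pow_zero, orderOf_eq_one_iff] at hk
    -- then the centre is trivial
    have htriv : ∀ z : Subgroup.center G, z = 1 := by
      intro z
      obtain ⟨m, hm⟩ := Subgroup.mem_zpowers_iff.mp (hz₀ z)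
      rw [← hm, hk, one_zpow]
    have : commutator G = ⊥ := by
      rw [Subgroup.eq_bot_iff_forall]
      intro c hcc
      exact congrArg Subtype.val (htriv ⟨c, hcz hcc⟩)
    rw [this, Subgroup.card_bot] at hc
    exact hp.out.one_lt.ne hc
  have hcop_p : i.Coprime p := by
    rw [hk] at hcop
    exact Nat.Coprime.coprime_dvd_right (dvd_pow_self p hk0) hcop
  obtain ⟨n, hn⟩ := IsPGroup.iff_card.mp hP
  have hcop' : i.Coprime (Nat.card G) := by
    rw [hn]; exact Nat.Coprime.pow_right n hcop_p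
  refine ⟨i, hcop', ?_⟩
  intro g
  by_cases hgZ : g ∈ Subgroup.center G
  · have e1 := character_mul_central σ mu hmu 1 ⟨g, hgZ⟩
    have e2 := character_mul_central ρ lam hlam 1 ⟨g ^ i, Subgroup.pow_mem _ hgZ i⟩
    have e3 : mu ⟨g, hgZ⟩ = (lam ⟨g, hgZ⟩) ^ i := by
      obtain ⟨j, hj⟩ := (mem_powers_iff_mem_zpowers.mpr (hz₀ ⟨g, hgZ⟩))
      have hj' : z₀ ^ j = ⟨g, hgZ⟩ := hj
      rw [← hj', map_pow, map_pow, ← hi, ← pow_mul, ← pow_mul, mul_comm]
    have e4 : lam ⟨g ^ i, Subgroup.pow_mem _ hgZ i⟩ = (lam ⟨g, hgZ⟩) ^ i := by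
      rw [← map_pow]
      rfl
    simp only [one_mul] at e1 e2
    rw [e1, e2, e3, e4, h2]
  · have hv := vanish_off_center hc hcz σ h1' g hgZ
    have hgi : g ^ i ∉ Subgroup.center G := by
      intro h
      obtain ⟨m, hm⟩ := exists_pow_eq_self_of_coprime
        (hcop'.coprime_dvd_right (orderOf_dvd_natCard g))
      exact hgZ (hm ▸ Subgroup.pow_mem _ h m)
    rw [hv, vanish_off_center hc hcz ρ h1 _ hgi]

/-- Galois conjugate characters have the same kernel -/
theorem sameKer_of_galois
    (h : ∀ χ ψ : G → ℂ, IsIrrCharacter G χ → IsIrrCharacter G ψ → χ 1 ≠ 1 → χ 1 = ψ 1 →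
      ∃ k : ℕ, Nat.Coprime k (Nat.card G) ∧ ∀ g : G, ψ g = χ (g ^ k)) : SameKer G := by
  intro χ ψ hχ hψ h1 h2 g
  obtain ⟨k, hk, hv⟩ := h χ ψ hχ hψ h1 h2
  have hχc := isCharacter_of_isIrrCharacter hχ
  constructor
  · intro hg
    rw [hv g, ← h2]
    have := apply_zpow_of_apply_eq hχc hg (k : ℤ)
    rwa [zpow_natCast] at this
  · intro hg
    rw [hv g, ← h2] at hg
    obtain ⟨m, hm⟩ := exists_pow_eq_self_of_coprime
      (hk.coprime_dvd_right (orderOf_dvd_natCard g))
    have := apply_zpow_of_apply_eq hχc hg (m : ℤ)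
    rwa [zpow_natCast, hm] at this

end Cfsg.Agent.Lib.Lead.GalDeg
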