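import Mathlib
import Cfsg.Agent.S0058
import Cfsg.Agent.Lib.Helper7.SylowLib

set_option autoImplicit false

namespace Cfsg.Agent.Lib.Lead.GamIso

open Cfsg.Agent.Lib.Helper7

variable {G : Type*} [Group G]

/-- A Sylow subgroup of `H` lying in an intermediate subgroup `K` is Sylow in `K`. -/
theorem isSylowIn_mid [Finite G] {p : ℕ} [Fact p.Prime] {P K H : Subgroup G}
    (hP : IsSylowIn p P H) (hPK : P ≤ K) (hKH : K ≤ H) : IsSylowIn p P K := by
  have hp : p.Prime := Fact.out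
  refine ⟨hPK, ?_⟩
  have h1 : Nat.card ↥P ∣ Nat.card ↥K := Subgroup.card_dvd_of_le hPK
  have h2 : Nat.card ↥K ∣ Nat.card ↥H := Subgroup.card_dvd_of_le hKH
  have hK0 : Nat.card ↥K ≠ 0 := Nat.card_pos.ne'
  have hH0 : Nat.card ↥H ≠ 0 := Nat.card_pos.ne'
  rw [hP.2]
  congr 1
  apply le_antisymm
  · have h3 : p ^ (Nat.card ↥H).factorization p ∣ Nat.card ↥K := hP.2 ▸ h1
    exact (hp.pow_dvd_iff_le_factorization hK0).mp h3
  · exact (Nat.factorization_le_iff_dvd hK0 hH0).mpr h2 p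

/-- Frattini-type step: if the `g`-conjugate of a Sylow subgroup `P` of `H` still lies in `H`, then
`g ∈ H * N(P)`. -/
theorem exists_mul_mem_normalizer [Finite G] {p : ℕ} [Fact p.Prime] {P H : Subgroup G}
    (hP : IsSylowIn p P H) (g : G) (hg : P.map (MulAut.conj g).toMonoidHom ≤ H) :
    ∃ h ∈ H, h⁻¹ * g ∈ Subgroup.normalizer (P : Set G) := by
  have hP' : IsSylowIn p (P.map (MulAut.conj g).toMonoidHom) H :=
    ⟨hg, by rw [Subgroup.card_map_of_injective (MulAut.conj g).injective]; exact hP.2⟩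
  obtain ⟨h, hh, e⟩ := hP.conj hP'
  refine ⟨h, hh, ?_⟩
  rw [Subgroup.mem_normalizer_iff]
  intro x
  constructor
  · intro hx
    have : g * x * g⁻¹ ∈ P.map (MulAut.conj g).toMonoidHom := ⟨x, hx, by simp [MulAut.conj_apply]⟩
    rw [e] at this
    obtain ⟨y, hy, hyx⟩ := this
    have hyx' : h * y * h⁻¹ = g * x * g⁻¹ := by simpa [MulAut.conj_apply] using hyx
    have : h⁻¹ * g * x * (h⁻¹ * g)⁻¹ = y := by
      have : y = h⁻¹ * (g * x * g⁻¹) * h := by rw [← hyx']; group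
      rw [this]; group
    rw [this]; exact hy
  · intro hx
    have : g * x * g⁻¹ ∈ P.map (MulAut.conj h).toMonoidHom := by
      refine ⟨h⁻¹ * g * x * (h⁻¹ * g)⁻¹, hx, ?_⟩
      simp only [MulEquiv.coe_toMonoidHom, MulAut.conj_apply]
      group
    rw [← e] at this
    obtain ⟨y, hy, hyx⟩ := this
    have hyx' : g * y * g⁻¹ = g * x * g⁻¹ := by simpa [MulAut.conj_apply] using hyx
    have : y = x := by
      have := congrArg (fun t => g⁻¹ * t * g) hyx'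
      simpa [mul_assoc] using this
    rw [← this]; exact hy

/-- The centralizer of an element normalizes the cyclic group it generates. -/
theorem centralizer_singleton_le_normalizer_zpowers (a : G) :
    Subgroup.centralizer {a} ≤ Subgroup.normalizer ((Subgroup.zpowers a : Subgroup G) : Set G) := by
  intro g hg
  have hga : a * g = g * a := Subgroup.mem_centralizer_iff.mp hg a rfl
  have hcomm : ∀ k : ℤ, g * a ^ k * g⁻¹ = a ^ k := by
    intro k
    have : Commute g (a ^ k) := (Commute.zpow_right (show Commute g a from hga.symm) k)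
    rw [this.eq, mul_inv_cancel_right]
  rw [Subgroup.mem_normalizer_iff]
  intro x
  constructor
  · rintro ⟨k, rfl⟩
    rw [hcomm k]; exact ⟨k, rfl⟩
  · rintro ⟨k, hk⟩
    have hk' : a ^ k = g * x * g⁻¹ := hk
    have : x = g⁻¹ * (g * x * g⁻¹) * g := by group
    rw [this, ← hk']
    have : g⁻¹ * a ^ k * g = a ^ k := by
      have h1 := hcomm k
      calc g⁻¹ * a ^ k * g = g⁻¹ * (g * a ^ k * g⁻¹) * g := by rw [h1]
        _ = a ^ k := by group
    rw [this]; exact ⟨k, rfl⟩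


/-- A finite group with an element `b` of prime order `p` outside the group generated by another
element `a` of order `p` is not cyclic. -/
theorem not_isCyclic_of_two_order_p {E : Type*} [Group E] [Finite E] {p : ℕ} [Fact p.Prime]
    (a b : E) (ha : orderOf a = p) (hb : orderOf b = p) (hb' : b ∉ Subgroup.zpowers a) :
    ¬ IsCyclic E := by
  classical
  have hp : p.Prime := Fact.out
  intro hc
  have := Fintype.ofFinite E
  have hle := IsCyclic.card_pow_eq_one_le (α := E) (n := p) hp.pos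
  let T : Finset E := insert b ((Finset.range p).image (fun i => a ^ i))
  have hT : T ⊆ Finset.univ.filter (fun x : E => x ^ p = 1) := by
    intro x hx
    rw [Finset.mem_filter]
    refine ⟨Finset.mem_univ _, ?_⟩
    rcases Finset.mem_insert.mp hx with rfl | hx
    · rw [← hb]; exact pow_orderOf_eq_one _
    · obtain ⟨i, -, rfl⟩ := Finset.mem_image.mp hx
      rw [← pow_mul, mul_comm, pow_mul, ← ha, pow_orderOf_eq_one, one_pow]
  have hcard : T.card = p + 1 := by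
    rw [Finset.card_insert_of_notMem, Finset.card_image_of_injOn, Finset.card_range]
    · intro i hi j hj hij
      have hi' : i < orderOf a := by rw [ha]; exact Finset.mem_range.mp hi
      have hj' : j < orderOf a := by rw [ha]; exact Finset.mem_range.mp hj
      exact pow_injOn_Iio_orderOf hi' hj' hij
    · intro hmem
      obtain ⟨i, -, rfl⟩ := Finset.mem_image.mp hmem
      exact hb' (Subgroup.npow_mem_zpowers a i)
  have := Finset.card_le_card hT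
  omega

theorem dvd_card_inf_of_gam_ne_top {Q : Type*} [Group Q] [Finite Q] {p : ℕ} [Fact p.Prime]
    (R : Sylow p Q)
    (hG : (⨆ D : {D : Subgroup Q // D ≤ (R : Subgroup Q) ∧ D ≠ ⊥},
      Subgroup.normalizer ((D : Subgroup Q) : Set Q)) ≠ ⊤)
    (Y₁ Y₂ : Subgroup Q) (hn₁ : Y₁.Normal) (hn₂ : Y₂.Normal)
    (h₁ : p ∣ Nat.card ↥Y₁) (h₂ : p ∣ Nat.card ↥Y₂) : p ∣ Nat.card ↥(Y₁ ⊓ Y₂) := by
  have hp : p.Prime := Fact.out
  by_contra hZ
  apply hG
  have hN : ∀ D : Subgroup Q, D ≤ (R : Subgroup Q) → D ≠ ⊥ → Subgroup.normalizer (D : Set Q) ≤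
      (⨆ D : {D : Subgroup Q // D ≤ (R : Subgroup Q) ∧ D ≠ ⊥},
        Subgroup.normalizer ((D : Subgroup Q) : Set Q)) := fun D h1 h2 =>
    le_iSup (fun D : {D : Subgroup Q // D ≤ (R : Subgroup Q) ∧ D ≠ ⊥} =>
      Subgroup.normalizer ((D : Subgroup Q) : Set Q)) ⟨D, h1, h2⟩
  generalize (⨆ D : {D : Subgroup Q // D ≤ (R : Subgroup Q) ∧ D ≠ ⊥},
        Subgroup.normalizer ((D : Subgroup Q) : Set Q)) = Γ at hN ⊢
  have := hn₁
  have := hn₂
  have hZn : (Y₁ ⊓ Y₂).Normal := inferInstance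
  have hcop : Nat.Coprime p (Nat.card ↥(Y₁ ⊓ Y₂)) := (Nat.Prime.coprime_iff_not_dvd hp).mpr hZ
  -- `R ∩ Z = 1`
  have hRZ : ∀ x, x ∈ (R : Subgroup Q) → x ∈ Y₁ ⊓ Y₂ → x = 1 := by
    intro x hxR hxZ
    obtain ⟨k, hk⟩ := R.2 ⟨x, hxR⟩
    have hk' : x ^ p ^ k = 1 := by simpa using congrArg Subtype.val hk
    have h2 : x ^ Nat.card ↥(Y₁ ⊓ Y₂) = 1 := by
      have := pow_card_eq_one' (G := ↥(Y₁ ⊓ Y₂)) (x := ⟨x, hxZ⟩)
      simpa using congrArg Subtype.val this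
    have h3 : orderOf x ∣ Nat.gcd (p ^ k) (Nat.card ↥(Y₁ ⊓ Y₂)) :=
      Nat.dvd_gcd (orderOf_dvd_of_pow_eq_one hk') (orderOf_dvd_of_pow_eq_one h2)
    rw [Nat.Coprime.pow_left k hcop] at h3
    exact orderOf_eq_one_iff.mp (Nat.dvd_one.mp h3)
  -- the Sylow subgroups `S_i = R ∩ Y_i`
  have hS₁ : IsSylowIn p ((R : Subgroup Q) ⊓ Y₁) Y₁ :=
    (IsSylowIn.of_sylow_top R).inf_normal Y₁ le_top (by rw [Subgroup.normalizer_eq_top]; )
  have hS₂ : IsSylowIn p ((R : Subgroup Q) ⊓ Y₂) Y₂ :=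
    (IsSylowIn.of_sylow_top R).inf_normal Y₂ le_top (by rw [Subgroup.normalizer_eq_top]; )
  have hdvd : ∀ {S Y : Subgroup Q}, IsSylowIn p S Y → p ∣ Nat.card ↥Y → p ∣ Nat.card ↥S := by
    intro S Y hS hY
    rw [hS.2]
    have hY0 : Nat.card ↥Y ≠ 0 := Nat.card_pos.ne'
    have : 1 ≤ (Nat.card ↥Y).factorization p :=
      (hp.dvd_iff_one_le_factorization hY0).mp hY
    exact dvd_pow_self p (by omega)
  obtain ⟨a₁, ha₁⟩ := exists_prime_orderOf_dvd_card' p (hdvd hS₁ h₁)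
  obtain ⟨a₂, ha₂⟩ := exists_prime_orderOf_dvd_card' p (hdvd hS₂ h₂)
  have ha₁' : orderOf (a₁ : Q) = p := by rw [Subgroup.orderOf_coe]; exact ha₁
  have ha₂' : orderOf (a₂ : Q) = p := by rw [Subgroup.orderOf_coe]; exact ha₂
  have ha₁R : (a₁ : Q) ∈ (R : Subgroup Q) := a₁.2.1
  have ha₁Y : (a₁ : Q) ∈ Y₁ := a₁.2.2
  have ha₂R : (a₂ : Q) ∈ (R : Subgroup Q) := a₂.2.1
  have ha₂Y : (a₂ : Q) ∈ Y₂ := a₂.2.2
  have ha₁ne : (a₁ : Q) ≠ 1 := by
    intro h; rw [h, orderOf_one] at ha₁'; exact hp.one_lt.ne ha₁'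
  have ha₂ne : (a₂ : Q) ≠ 1 := by
    intro h; rw [h, orderOf_one] at ha₂'; exact hp.one_lt.ne ha₂'
  -- `a₁` and `a₂` commute
  have hcomm : (a₁ : Q) * a₂ = a₂ * a₁ := by
    have hc : (a₁ : Q) * a₂ * (a₁ : Q)⁻¹ * (a₂ : Q)⁻¹ = 1 := by
      apply hRZ
      · exact mul_mem (mul_mem (mul_mem ha₁R ha₂R) (inv_mem ha₁R)) (inv_mem ha₂R)
      · refine Subgroup.mem_inf.mpr ⟨?_, ?_⟩
        · have : (a₂ : Q) * (a₁ : Q)⁻¹ * (a₂ : Q)⁻¹ ∈ Y₁ := hn₁.conj_mem _ (inv_mem ha₁Y) _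
          have h4 := mul_mem ha₁Y this
          convert h4 using 1; group
        · have : (a₁ : Q) * a₂ * (a₁ : Q)⁻¹ ∈ Y₂ := hn₂.conj_mem _ ha₂Y _
          exact mul_mem this (inv_mem ha₂Y)
    calc (a₁ : Q) * a₂ = ((a₁ : Q) * a₂ * (a₁ : Q)⁻¹ * (a₂ : Q)⁻¹) * (a₂ * a₁) := by group
      _ = a₂ * a₁ := by rw [hc, one_mul]
  -- `a₂ ∉ ⟨a₁⟩`
  have ha₂notin : (a₂ : Q) ∉ Subgroup.zpowers (a₁ : Q) := by
    intro hmem
    apply ha₂ne
    apply hRZ _ ha₂R
    refine Subgroup.mem_inf.mpr ⟨?_, ha₂Y⟩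
    exact (Subgroup.zpowers_le.mpr ha₁Y) hmem
  -- `E = ⟨a₁, a₂⟩`
  set E : Subgroup Q := Subgroup.closure {(a₁ : Q), (a₂ : Q)} with hE
  have hER : E ≤ (R : Subgroup Q) := by
    rw [hE, Subgroup.closure_le]
    intro x hx
    rcases hx with rfl | rfl
    · exact ha₁R
    · exact ha₂R
  have hEcomm : IsMulCommutative E := by
    apply Subgroup.isMulCommutative_closure
    intro x hx y hy
    rcases hx with rfl | rfl <;> rcases hy with rfl | rfl
    · rfl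
    · exact hcomm
    · exact hcomm.symm
    · rfl
  have ha₁E : (a₁ : Q) ∈ E := Subgroup.subset_closure (by simp)
  have ha₂E : (a₂ : Q) ∈ E := Subgroup.subset_closure (by simp)
  have hEnc : ¬ IsCyclic E := by
    apply not_isCyclic_of_two_order_p (p := p) (⟨a₁, ha₁E⟩ : E) ⟨a₂, ha₂E⟩
    · rw [← Subgroup.orderOf_coe]; exact ha₁'
    · rw [← Subgroup.orderOf_coe]; exact ha₂'
    · rintro ⟨k, hk⟩
      apply ha₂notin
      refine ⟨k, ?_⟩
      have := congrArg Subtype.val hk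
      simpa using this
  have hEcop : (Nat.card E).Coprime (Nat.card ↥(Y₁ ⊓ Y₂)) := by
    have hEp : IsPGroup p E := R.2.to_le hER
    obtain ⟨n, hn⟩ := IsPGroup.iff_card.mp hEp
    rw [hn]
    exact Nat.Coprime.pow_left n hcop
  have hgen := Cfsg.Agent.S0058.result E (Y₁ ⊓ Y₂) hEnc
    (by rw [Subgroup.normalizer_eq_top]; exact le_top) hEcop
  -- `R ≤ Γ`
  have hRne : (R : Subgroup Q) ≠ ⊥ := by
    intro h
    apply ha₁ne
    exact Subgroup.mem_bot.mp (h.le ha₁R)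
  have hRΓ : (R : Subgroup Q) ≤ Γ := Subgroup.le_normalizer.trans (hN _ le_rfl hRne)
  -- `Z ≤ Γ`
  have hZΓ : Y₁ ⊓ Y₂ ≤ Γ := by
    rw [← hgen]
    apply iSup₂_le
    intro a ha
    refine inf_le_right.trans ?_
    refine (centralizer_singleton_le_normalizer_zpowers a).trans ?_
    apply hN
    · exact Subgroup.zpowers_le.mpr (hER ha.1)
    · intro h
      apply ha.2
      have : a ∈ Subgroup.zpowers a := Subgroup.mem_zpowers a
      rw [h] at this
      exact Subgroup.mem_bot.mp this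
  -- `Y₁ ≤ Γ`
  have hS₂ne : (R : Subgroup Q) ⊓ Y₂ ≠ ⊥ := by
    intro h
    apply ha₂ne
    exact Subgroup.mem_bot.mp (h.le a₂.2)
  have hS₁ne : (R : Subgroup Q) ⊓ Y₁ ≠ ⊥ := by
    intro h
    apply ha₁ne
    exact Subgroup.mem_bot.mp (h.le a₁.2)
  have hY₁Γ : Y₁ ≤ Γ := by
    intro y hy
    have hMle : (Y₁ ⊓ Y₂) ⊔ ((R : Subgroup Q) ⊓ Y₂) ≤ Y₂ := sup_le inf_le_right inf_le_right
    have hSM : IsSylowIn p ((R : Subgroup Q) ⊓ Y₂) ((Y₁ ⊓ Y₂) ⊔ ((R : Subgroup Q) ⊓ Y₂)) :=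
      isSylowIn_mid hS₂ le_sup_right hMle
    have hconj : ((R : Subgroup Q) ⊓ Y₂).map (MulAut.conj y).toMonoidHom ≤
        (Y₁ ⊓ Y₂) ⊔ ((R : Subgroup Q) ⊓ Y₂) := by
      rintro _ ⟨s, hs, rfl⟩
      have hs2 : s ∈ Y₂ := hs.2
      have h5 : y * s * y⁻¹ * s⁻¹ ∈ Y₁ ⊓ Y₂ := by
        refine Subgroup.mem_inf.mpr ⟨?_, ?_⟩
        · have : s * y⁻¹ * s⁻¹ ∈ Y₁ := hn₁.conj_mem _ (inv_mem hy) _
          have h4 := mul_mem hy this
          convert h4 using 1; group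
        · exact mul_mem (hn₂.conj_mem _ hs2 _) (inv_mem hs2)
      have h6 : y * s * y⁻¹ = (y * s * y⁻¹ * s⁻¹) * s := by group
      show (MulAut.conj y) s ∈ _
      rw [MulAut.conj_apply, h6]
      exact mul_mem (Subgroup.mem_sup_left h5) (Subgroup.mem_sup_right hs)
    obtain ⟨m, hm, hmy⟩ := exists_mul_mem_normalizer hSM y hconj
    have hmΓ : m ∈ Γ := (sup_le hZΓ (inf_le_left.trans hRΓ)) hm
    have h7 : m⁻¹ * y ∈ Γ := hN _ inf_le_left hS₂ne hmy
    have : y = m * (m⁻¹ * y) := by group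
    rw [this]
    exact mul_mem hmΓ h7
  -- Frattini
  rw [eq_top_iff]
  intro g _
  have hconj : ((R : Subgroup Q) ⊓ Y₁).map (MulAut.conj g).toMonoidHom ≤ Y₁ := by
    rintro _ ⟨s, hs, rfl⟩
    show (MulAut.conj g) s ∈ _
    rw [MulAut.conj_apply]
    exact hn₁.conj_mem _ hs.2 _
  obtain ⟨y, hy, hyg⟩ := exists_mul_mem_normalizer hS₁ g hconj
  have h7 : y⁻¹ * g ∈ Γ := hN _ inf_le_left hS₁ne hyg
  have : g = y * (y⁻¹ * g) := by group
  rw [this]
  exact mul_mem (hY₁Γ hy) h7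

end Cfsg.Agent.Lib.Lead.GamIso
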