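import Mathlib
import Cfsg.Agent.Lib.Helper4.Sylow

set_option autoImplicit false
set_option linter.unusedVariables false
set_option linter.style.haveILetI false

/-! Generously `k`-transitive groups: orbits of a `k`-point stabiliser of length prime to `p`. -/

namespace Cfsg.Agent.Lead.Generous

open MulAction Equiv

section Core

variable {𝔾 : Type*} [Group 𝔾] {α : Type*} [Fintype α] [DecidableEq α] [MulAction 𝔾 α]

/-- the subgroup of elements inducing a power of `c` on `Γ` -/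
def L0 (𝔾 : Type*) [Group 𝔾] {α : Type*} [Fintype α] [DecidableEq α] [MulAction 𝔾 α]
    (Γ : Finset α) (c : Perm Γ) : Subgroup 𝔾 where
  carrier := {g | ∃ j : ℕ, ∀ x : Γ, g • (x : α) = ((c ^ j) x : α)}
  one_mem' := ⟨0, fun x => by simp⟩
  mul_mem' := by
    rintro g g' ⟨j, h⟩ ⟨j', h'⟩
    refine ⟨j + j', fun x => ?_⟩
    rw [mul_smul, h' x, h ((c ^ j') x), pow_add, Perm.mul_apply]
  inv_mem' := by
    rintro g ⟨j, h⟩
    refine ⟨j * (orderOf c - 1), fun x => ?_⟩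
    rw [inv_smul_eq_iff, h ((c ^ (j * (orderOf c - 1))) x), ← Perm.mul_apply, ← pow_add]
    have : j + j * (orderOf c - 1) = j * orderOf c := by
      have ho : 1 ≤ orderOf c := orderOf_pos c
      obtain ⟨o, ho'⟩ : ∃ o, orderOf c = o + 1 := ⟨orderOf c - 1, by omega⟩
      rw [ho']
      simp only [Nat.add_sub_cancel]
      ring
    rw [this, pow_mul', pow_orderOf_eq_one, one_pow, Perm.one_apply]

lemma mem_L0 {Γ : Finset α} {c : Perm Γ} {g : 𝔾} :
    g ∈ L0 𝔾 Γ c ↔ ∃ j : ℕ, ∀ x : Γ, g • (x : α) = ((c ^ j) x : α) := Iff.rfl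

lemma fixing_le_L0 (Γ : Finset α) (c : Perm Γ) : fixingSubgroup 𝔾 (Γ : Set α) ≤ L0 𝔾 Γ c := by
  intro h hh
  rw [mem_fixingSubgroup_iff] at hh
  exact ⟨0, fun x => by rw [pow_zero, Perm.one_apply]; exact hh _ x.2⟩

lemma pow_smul_of {Γ : Finset α} {c : Perm Γ} {g : 𝔾} (hg : ∀ x : Γ, g • (x : α) = (c x : α))
    (j : ℕ) (x : Γ) : g ^ j • (x : α) = ((c ^ j) x : α) := by
  induction j generalizing x with
  | zero => simp
  | succ j ih => rw [pow_succ, mul_smul, hg, ih, pow_succ, Perm.mul_apply]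

lemma pow_smul_fix {g : 𝔾} {y : α} (hg : g • y = y) (j : ℕ) : g ^ j • y = y := by
  induction j with
  | zero => simp
  | succ j ih => rw [pow_succ, mul_smul, hg, ih]

lemma L0_conj_mem {Γ : Finset α} {c : Perm Γ} {l : 𝔾} (hl : l ∈ L0 𝔾 Γ c) {h : 𝔾}
    (hh : h ∈ fixingSubgroup 𝔾 (Γ : Set α)) : l * h * l⁻¹ ∈ fixingSubgroup 𝔾 (Γ : Set α) := by
  rw [mem_fixingSubgroup_iff] at hh ⊢
  intro x hx
  obtain ⟨j', hj'⟩ := (L0 𝔾 Γ c).inv_mem hl
  have h1 : l⁻¹ • x = (((c ^ j') ⟨x, hx⟩ : Γ) : α) := hj' ⟨x, hx⟩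
  rw [mul_smul, mul_smul, h1, hh _ ((c ^ j') ⟨x, hx⟩).2, ← h1, smul_inv_smul]

/-- elements of `L0` differ from a power of `g` by an element of the fixing subgroup. -/
lemma L0_decomp {Γ : Finset α} {c : Perm Γ} {g : 𝔾} (hg : ∀ x : Γ, g • (x : α) = (c x : α))
    {l : 𝔾} (hl : l ∈ L0 𝔾 Γ c) :
    ∃ j : ℕ, l * (g ^ j)⁻¹ ∈ fixingSubgroup 𝔾 (Γ : Set α) := by
  obtain ⟨j, hj⟩ := hl
  refine ⟨j, ?_⟩
  rw [mem_fixingSubgroup_iff]
  intro x hx
  have h1 : (g ^ j)⁻¹ • x = ((((c ^ j)⁻¹) ⟨x, hx⟩ : Γ) : α) := by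
    rw [inv_smul_eq_iff, pow_smul_of hg]
    simp
  rw [mul_smul, h1, hj]
  simp

lemma L0_preserves_orbit {Γ : Finset α} {c : Perm Γ} {g : 𝔾}
    (hg : ∀ x : Γ, g • (x : α) = (c x : α)) {y₀ : α} (hgy : g • y₀ = y₀)
    {l : 𝔾} (hl : l ∈ L0 𝔾 Γ c) {y : α}
    (hy : y ∈ orbit (fixingSubgroup 𝔾 (Γ : Set α)) y₀) :
    l • y ∈ orbit (fixingSubgroup 𝔾 (Γ : Set α)) y₀ := by
  obtain ⟨⟨h', hh'⟩, rfl⟩ := hy
  obtain ⟨j, hj⟩ := L0_decomp hg hl
  have h2 := L0_conj_mem hl hh'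
  refine ⟨⟨l * h' * l⁻¹, h2⟩ * ⟨l * (g ^ j)⁻¹, hj⟩, ?_⟩
  show (l * h' * l⁻¹ * (l * (g ^ j)⁻¹)) • y₀ = l • (h' • y₀)
  have e : l * h' * l⁻¹ * (l * (g ^ j)⁻¹) = l * h' * (g ^ j)⁻¹ := by group
  rw [e, mul_smul, mul_smul, inv_smul_eq_iff.2 (pow_smul_fix hgy j).symm]

theorem core [Finite 𝔾] (p : ℕ) [hp : Fact p.Prime] (Γ : Finset α) (c : Perm Γ) (hc : c.IsCycle)
    (hcp : c.support.card = p) (f : Fin p → α) (hf : ∀ i, f i ∉ Γ)
    (hdist : ∀ i j, i ≠ j → f j ∉ orbit (fixingSubgroup 𝔾 (Γ : Set α)) (f i))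
    (hnd : ∀ i, ¬ p ∣ Nat.card (orbit (fixingSubgroup 𝔾 (Γ : Set α)) (f i)))
    (g : Fin p → 𝔾) (hg : ∀ i, ∀ x : Γ, g i • (x : α) = (c x : α)) (hgf : ∀ i, g i • f i = f i)
    (a m : ℕ) (hH : Nat.card (fixingSubgroup 𝔾 (Γ : Set α)) = p ^ a * m) (hm : ¬ p ∣ m) :
    ∃ Γ' : Finset α, Γ'.card = Γ.card ∧
      p ^ (a + 1) ∣ Nat.card (fixingSubgroup 𝔾 (Γ' : Set α)) := by
  classical
  obtain ⟨x₁, hx₁⟩ : ∃ x₁ : Γ, c x₁ ≠ x₁ := by
    obtain ⟨x, hx, -⟩ := hc
    exact ⟨x, hx⟩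
  have i₀ : Fin p := ⟨0, hp.out.pos⟩
  have hLcard : Nat.card (L0 𝔾 Γ c) = p ^ (a + 1) * m := by
    have h1 := Subgroup.card_mul_index (stabilizer (L0 𝔾 Γ c) (x₁ : α))
    rw [index_stabilizer] at h1
    have horb : orbit (L0 𝔾 Γ c) (x₁ : α) = (fun y : Γ => (y : α)) '' (c.support : Set Γ) := by
      ext y
      constructor
      · rintro ⟨⟨l, hl⟩, rfl⟩
        obtain ⟨j, hj⟩ := hl
        refine ⟨(c ^ j) x₁, ?_, (hj x₁).symm⟩
        rw [Finset.mem_coe, Perm.pow_apply_mem_support, Perm.mem_support]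
        exact hx₁
      · rintro ⟨y, hy, rfl⟩
        rw [Finset.mem_coe, Perm.mem_support] at hy
        obtain ⟨i, hi⟩ := hc.exists_pow_eq hx₁ hy
        refine ⟨⟨g i₀ ^ i, ⟨i, fun x => pow_smul_of (hg i₀) i x⟩⟩, ?_⟩
        show g i₀ ^ i • (x₁ : α) = y
        rw [pow_smul_of (hg i₀), hi]
    have hncard : (orbit (L0 𝔾 Γ c) (x₁ : α)).ncard = p := by
      rw [horb, Set.ncard_image_of_injective _ Subtype.val_injective, Set.ncard_coe_finset, hcp]
    have hstab : Nat.card (stabilizer (L0 𝔾 Γ c) (x₁ : α)) =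
        Nat.card (fixingSubgroup 𝔾 (Γ : Set α)) := by
      apply Nat.card_congr
      refine ⟨fun s => ⟨((s : L0 𝔾 Γ c) : 𝔾), ?_⟩,
        fun h => ⟨⟨(h : 𝔾), fixing_le_L0 Γ c h.2⟩, ?_⟩, fun s => rfl, fun h => rfl⟩
      · obtain ⟨j, hj⟩ := (s : L0 𝔾 Γ c).2
        have hs : ((s : L0 𝔾 Γ c) : 𝔾) • (x₁ : α) = x₁ := s.2
        have h2 : (c ^ j) x₁ = x₁ := Subtype.ext (by rw [← hj x₁]; exact hs)
        have h3 : c ^ j = 1 := (hc.pow_eq_one_iff' hx₁).2 h2
        rw [mem_fixingSubgroup_iff]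
        intro x hx
        rw [hj ⟨x, hx⟩, h3]; rfl
      · rw [mem_stabilizer_iff]
        exact (mem_fixingSubgroup_iff 𝔾).1 h.2 x₁ x₁.2
    rw [hncard, hstab, hH] at h1
    rw [← h1]; ring
  obtain ⟨S⟩ : Nonempty (Sylow p (L0 𝔾 Γ c)) := inferInstance
  have hScard : Nat.card S = p ^ (a + 1) :=
    Cfsg.Agent.Lib.Helper4.Sylow.card_sylow_of_card_eq hLcard hm S
  have hfix : ∀ i, ∃ δ ∈ orbit (fixingSubgroup 𝔾 (Γ : Set α)) (f i),
      ∀ s : S, ((s : L0 𝔾 Γ c) : 𝔾) • δ = δ := by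
    intro i
    let O : SubMulAction S α :=
      { carrier := orbit (fixingSubgroup 𝔾 (Γ : Set α)) (f i)
        smul_mem' := fun s y hy => L0_preserves_orbit (hg i) (hgf i) (s : L0 𝔾 Γ c).2 hy }
    have hcardO : Nat.card O = Nat.card (orbit (fixingSubgroup 𝔾 (Γ : Set α)) (f i)) := rfl
    have hne := S.isPGroup'.nonempty_fixed_point_of_prime_not_dvd_card O
      (by rw [hcardO]; exact hnd i)
    obtain ⟨⟨δ, hδ⟩, hfixed⟩ := hne
    refine ⟨δ, hδ, fun s => ?_⟩
    have := hfixed s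
    exact congrArg Subtype.val this
  choose δ hδO hδfix using hfix
  have hδinj : Function.Injective δ := by
    intro i j hij
    by_contra hne
    apply hdist i j hne
    have h1 := hδO i
    have h2 := hδO j
    rw [← hij] at h2
    have e1 := orbit_eq_iff.2 h1
    have e2 := orbit_eq_iff.2 h2
    rw [← e1, e2]
    exact mem_orbit_self _
  have hδΓ : ∀ i, δ i ∉ Γ := by
    intro i hmem
    obtain ⟨⟨h, hh⟩, hhe⟩ := hδO i
    have hhe' : h • f i = δ i := hhe
    have h1 : h⁻¹ • δ i = δ i :=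
      (mem_fixingSubgroup_iff 𝔾).1 ((fixingSubgroup 𝔾 (Γ : Set α)).inv_mem hh) _ hmem
    rw [← hhe', inv_smul_smul] at h1
    apply hf i
    rw [h1, hhe']; exact hmem
  let Γ₀ : Finset α :=
    (Finset.univ.filter (fun x : Γ => c x = x)).map (Function.Embedding.subtype _)
  let Γ₁ : Finset α := Finset.univ.image δ
  have hΓ₀card : Γ₀.card + p = Γ.card := by
    rw [Finset.card_map, ← hcp]
    have h1 := Finset.card_filter_add_card_filter_not (s := (Finset.univ : Finset Γ))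
      (fun x : Γ => c x = x)
    rw [Finset.card_univ, Fintype.card_coe] at h1
    have h2 : c.support = Finset.univ.filter (fun x : Γ => ¬ c x = x) := by
      ext x; simp [Perm.mem_support]
    rw [h2]; exact h1
  have hΓ₁card : Γ₁.card = p := by
    rw [Finset.card_image_of_injective _ hδinj, Finset.card_univ, Fintype.card_fin]
  have hdisj : Disjoint Γ₀ Γ₁ := by
    rw [Finset.disjoint_left]
    intro y hy0 hy1
    obtain ⟨x, -, rfl⟩ := Finset.mem_map.1 hy0
    obtain ⟨i, -, hi⟩ := Finset.mem_image.1 hy1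
    apply hδΓ i
    rw [hi]; exact x.2
  refine ⟨Γ₀ ∪ Γ₁, ?_, ?_⟩
  · rw [Finset.card_union_of_disjoint hdisj, hΓ₁card, hΓ₀card]
  · rw [← hScard]
    let φ : S →* fixingSubgroup 𝔾 ((Γ₀ ∪ Γ₁ : Finset α) : Set α) :=
      ((L0 𝔾 Γ c).subtype.comp (S : Subgroup (L0 𝔾 Γ c)).subtype).codRestrict _ (by
        intro s
        rw [mem_fixingSubgroup_iff]
        intro y hy
        rw [Finset.mem_coe, Finset.mem_union] at hy
        rcases hy with hy | hy
        · obtain ⟨x, hx, rfl⟩ := Finset.mem_map.1 hy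
          rw [Finset.mem_filter] at hx
          obtain ⟨j, hj⟩ := (s : L0 𝔾 Γ c).2
          show ((s : L0 𝔾 Γ c) : 𝔾) • (x : α) = x
          rw [hj x, Perm.pow_apply_eq_self_of_apply_eq_self hx.2]
        · obtain ⟨i, -, rfl⟩ := Finset.mem_image.1 hy
          exact hδfix i s)
    apply Subgroup.card_dvd_of_injective φ
    intro s t hst
    have := congrArg (fun u : fixingSubgroup 𝔾 ((Γ₀ ∪ Γ₁ : Finset α) : Set α) => (u : 𝔾)) hst
    exact Subtype.ext (Subtype.ext this)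

end Core

section Top

variable {α : Type*} [Fintype α] [DecidableEq α]

/-- generous `k`-transitivity gives `k`-homogeneity -/
lemma homog (G : Subgroup (Perm α)) {k : ℕ}
    (hgen : ∀ s : Finset α, s.card = k + 1 → ∀ σ : Perm s, ∃ g ∈ G, ∀ x : s, g (x : α) = σ x) :
    ∀ (n : ℕ) (A B : Finset α), A.card = k → B.card = k → (A \ B).card = n →
      ∃ g ∈ G, A.image g = B := by
  intro n
  induction n with
  | zero =>
    intro A B hA hB h0
    rw [Finset.card_eq_zero, Finset.sdiff_eq_empty_iff_subset] at h0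
    have : A = B := Finset.eq_of_subset_of_card_le h0 (by rw [hA, hB])
    exact ⟨1, G.one_mem, by rw [this]; simp⟩
  | succ n ih =>
    intro A B hA hB hn
    obtain ⟨a, ha⟩ : (A \ B).Nonempty := by rw [← Finset.card_pos]; omega
    have hBA : (B \ A).card = n + 1 := by
      have h1 := Finset.card_sdiff_add_card_inter A B
      have h2 := Finset.card_sdiff_add_card_inter B A
      rw [Finset.inter_comm] at h2
      omega
    obtain ⟨b, hb⟩ : (B \ A).Nonempty := by rw [← Finset.card_pos]; omega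
    rw [Finset.mem_sdiff] at ha hb
    have hs : (insert b A).card = k + 1 := by rw [Finset.card_insert_of_notMem hb.2, hA]
    have has : a ∈ insert b A := Finset.mem_insert_of_mem ha.1
    have hbs : b ∈ insert b A := Finset.mem_insert_self b A
    obtain ⟨g₀, hg₀G, hg₀⟩ := hgen (insert b A) hs (swap ⟨a, has⟩ ⟨b, hbs⟩)
    have hab : a ≠ b := fun h => hb.2 (h ▸ ha.1)
    have hg₀a : g₀ a = b := by
      have := hg₀ ⟨a, has⟩
      rw [swap_apply_left] at this
      exact this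
    have hg₀x : ∀ x ∈ A, x ≠ a → g₀ x = x := by
      intro x hx hxa
      have := hg₀ ⟨x, Finset.mem_insert_of_mem hx⟩
      rw [swap_apply_of_ne_of_ne] at this
      · exact this
      · intro h; exact hxa (congrArg Subtype.val h)
      · intro h
        have h' : x = b := congrArg Subtype.val h
        exact hb.2 (h' ▸ hx)
    have hA₁ : A.image g₀ = insert b (A.erase a) := by
      ext y
      rw [Finset.mem_image, Finset.mem_insert, Finset.mem_erase]
      constructor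
      · rintro ⟨x, hx, rfl⟩
        by_cases hxa : x = a
        · left; rw [hxa, hg₀a]
        · right; rw [hg₀x x hx hxa]; exact ⟨hxa, hx⟩
      · rintro (rfl | ⟨hya, hy⟩)
        · exact ⟨a, ha.1, hg₀a⟩
        · exact ⟨y, hy, hg₀x y hy hya⟩
    have hA₁card : (A.image g₀).card = k := by
      rw [Finset.card_image_of_injective _ g₀.injective, hA]
    have hA₁B : (A.image g₀ \ B).card = n := by
      have : A.image g₀ \ B = (A \ B).erase a := by
        rw [hA₁]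
        ext y
        simp only [Finset.mem_sdiff, Finset.mem_insert, Finset.mem_erase]
        constructor
        · rintro ⟨rfl | ⟨hya, hy⟩, hyB⟩
          · exact absurd hb.1 hyB
          · exact ⟨hya, hy, hyB⟩
        · rintro ⟨hya, hy, hyB⟩
          exact ⟨Or.inr ⟨hya, hy⟩, hyB⟩
      rw [this, Finset.card_erase_of_mem (Finset.mem_sdiff.2 ha), hn]
      rfl
    obtain ⟨g₁, hg₁G, hg₁⟩ := ih (A.image g₀) B hA₁card hB hA₁B
    refine ⟨g₁ * g₀, G.mul_mem hg₁G hg₀G, ?_⟩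
    rw [← hg₁, Finset.image_image]
    rfl

theorem main (G : Subgroup (Perm α)) {k : ℕ} (hk : k < Fintype.card α)
    (hgen : ∀ s : Finset α, s.card = k + 1 → ∀ σ : Perm s, ∃ g ∈ G, ∀ x : s, g (x : α) = σ x)
    {p : ℕ} (hp : p.Prime) (hpk : p ≤ k) (Γ : Finset α) (hΓ : Γ.card = k)
    (f : Fin p → α) (hf : ∀ i, f i ∉ Γ)
    (hdist : ∀ i j, i ≠ j → f j ∉ orbit (fixingSubgroup G (Γ : Set α)) (f i)) :
    ∃ i, p ∣ Nat.card (orbit (fixingSubgroup G (Γ : Set α)) (f i)) := by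
  classical
  haveI : Fact p.Prime := ⟨hp⟩
  by_contra hcon
  push_neg at hcon
  have hcardΓ : Fintype.card Γ = k := by rw [Fintype.card_coe, hΓ]
  have hlnd : ((Finset.univ : Finset Γ).toList.take p).Nodup :=
    (Finset.nodup_toList _).sublist (List.take_sublist _ _)
  have hllen : ((Finset.univ : Finset Γ).toList.take p).length = p := by
    rw [List.length_take, Finset.length_toList, Finset.card_univ, hcardΓ]
    omega
  have hc : ((Finset.univ : Finset Γ).toList.take p).formPerm.IsCycle :=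
    List.isCycle_formPerm hlnd (by rw [hllen]; exact hp.two_le)
  have hcp : ((Finset.univ : Finset Γ).toList.take p).formPerm.support.card = p := by
    rw [List.support_formPerm_of_nodup _ hlnd (by
      intro x hx
      have h1 := congrArg List.length hx
      rw [hllen] at h1
      simp only [List.length_singleton] at h1
      have := hp.two_le
      omega), List.toFinset_card_of_nodup hlnd, hllen]
  generalize ((Finset.univ : Finset Γ).toList.take p).formPerm = c at hc hcp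
  have hg : ∀ i, ∃ g ∈ G, (∀ x : Γ, g (x : α) = (c x : α)) ∧ g (f i) = f i := by
    intro i
    have hs : (insert (f i) Γ).card = k + 1 := by rw [Finset.card_insert_of_notMem (hf i), hΓ]
    have hĉ : ∀ x, (Perm.ofSubtype c) x ∈ insert (f i) Γ ↔ x ∈ insert (f i) Γ := by
      intro x
      by_cases hx : x ∈ Γ
      · have : (Perm.ofSubtype c) x = c ⟨x, hx⟩ := Perm.ofSubtype_apply_of_mem c hx
        rw [this]
        constructor
        · intro _; exact Finset.mem_insert_of_mem hx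
        · intro _; exact Finset.mem_insert_of_mem (c ⟨x, hx⟩).2
      · have : (Perm.ofSubtype c) x = x := Perm.ofSubtype_apply_of_not_mem c hx
        rw [this]
    obtain ⟨g, hgG, hg⟩ := hgen (insert (f i) Γ) hs ((Perm.ofSubtype c).subtypePerm hĉ)
    refine ⟨g, hgG, fun x => ?_, ?_⟩
    · have := hg ⟨(x : α), Finset.mem_insert_of_mem x.2⟩
      rw [this]
      show (Perm.ofSubtype c) (x : α) = _
      rw [Perm.ofSubtype_apply_of_mem c x.2]
    · have := hg ⟨f i, Finset.mem_insert_self _ _⟩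
      rw [this]
      show (Perm.ofSubtype c) (f i) = _
      exact Perm.ofSubtype_apply_of_not_mem c (hf i)
  choose g hgG hgc hgf using hg
  obtain ⟨a, m, hm, hH⟩ := Nat.exists_eq_pow_mul_and_not_dvd
    (Nat.card_pos (α := fixingSubgroup G (Γ : Set α))).ne' p hp.ne_one
  obtain ⟨Γ', hΓ'card, hdvd⟩ := core (𝔾 := G) p Γ c hc hcp f hf hdist hcon
    (fun i => ⟨g i, hgG i⟩) (fun i x => hgc i x) (fun i => hgf i) a m hH hm
  obtain ⟨g₀, hg₀G, hg₀⟩ := homog G hgen _ Γ Γ' hΓ (by rw [hΓ'card, hΓ]) rfl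
  have hcarddvd : Nat.card (fixingSubgroup G (Γ' : Set α)) ∣
      Nat.card (fixingSubgroup G (Γ : Set α)) := by
    let φ : fixingSubgroup G (Γ' : Set α) →* fixingSubgroup G (Γ : Set α) :=
      MonoidHom.mk' (fun h => ⟨(⟨g₀, hg₀G⟩ : G)⁻¹ * (h : G) * ⟨g₀, hg₀G⟩, by
        rw [mem_fixingSubgroup_iff]
        intro x hx
        have hx' : g₀ x ∈ (Γ' : Set α) := by
          rw [← hg₀, Finset.mem_coe]
          exact Finset.mem_image_of_mem _ hx
        have h1 := (mem_fixingSubgroup_iff G).1 h.2 _ hx'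
        rw [mul_smul, mul_smul]
        show (⟨g₀, hg₀G⟩ : G)⁻¹ • ((h : G) • (g₀ x)) = x
        rw [h1]
        show g₀⁻¹ (g₀ x) = x
        simp⟩) (by
        intro h h'
        apply Subtype.ext
        show (⟨g₀, hg₀G⟩ : G)⁻¹ * ((h : G) * (h' : G)) * ⟨g₀, hg₀G⟩ =
          ((⟨g₀, hg₀G⟩ : G)⁻¹ * (h : G) * ⟨g₀, hg₀G⟩) * ((⟨g₀, hg₀G⟩ : G)⁻¹ * (h' : G) * ⟨g₀, hg₀G⟩)
        group)
    apply Subgroup.card_dvd_of_injective φ
    intro h h' hh
    have h1 : (⟨g₀, hg₀G⟩ : G)⁻¹ * (h : G) * ⟨g₀, hg₀G⟩ =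
        (⟨g₀, hg₀G⟩ : G)⁻¹ * (h' : G) * ⟨g₀, hg₀G⟩ :=
      congrArg (fun u : fixingSubgroup G (Γ : Set α) => (u : G)) hh
    exact Subtype.ext (mul_left_cancel (mul_right_cancel h1))
  have h2 := dvd_trans hdvd hcarddvd
  rw [hH, pow_succ] at h2
  exact hm (Nat.dvd_of_mul_dvd_mul_left (pow_pos hp.pos a) h2)

end Top

end Cfsg.Agent.Lead.Generous
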