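import Mathlib

set_option autoImplicit false
set_option linter.style.haveILetI false
set_option linter.unusedVariables false

/-! Jordan's theorem on normal subgroups of multiply transitive groups. -/

namespace Cfsg.Agent.Lead.JordanNormal

open MulAction SubMulAction

section Elementwise

variable {G α : Type*} [Group G] [MulAction G α]

/-- a regular normal subgroup of a group whose point stabilizer is 2-transitive on the
remaining points has exponent 2. -/
lemma regular_exp_two (N : Subgroup G) [N.Normal] (a : α)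
    (hreg : ∀ g ∈ N, g • a = a → g = 1)
    (h2 : ∀ p q r : α, p ≠ a → q ≠ a → r ≠ a → p ≠ q → p ≠ r →
      ∃ g : G, g • a = a ∧ g • p = p ∧ g • q = r)
    (hcard : ∀ p q : α, ∃ r, r ≠ a ∧ r ≠ p ∧ r ≠ q) :
    ∀ x ∈ N, x ^ 2 = 1 := by
  intro x hx
  by_contra hx2
  have hx1 : x ≠ 1 := by rintro rfl; exact hx2 (one_pow 2)
  have hpa : x • a ≠ a := fun h => hx1 (hreg x hx h)
  have hqa : x⁻¹ • a ≠ a := fun h => hx1 (inv_eq_one.1 (hreg x⁻¹ (N.inv_mem hx) h))
  have hpq : x • a ≠ x⁻¹ • a := by
    intro h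
    apply hx2
    apply hreg _ (N.pow_mem hx 2)
    rw [pow_two, mul_smul, h, smul_inv_smul]
  obtain ⟨r, hra, hrp, hrq⟩ := hcard (x • a) (x⁻¹ • a)
  obtain ⟨g, hga, hgp, hgq⟩ := h2 (x • a) (x⁻¹ • a) r hpa hqa hra hpq (Ne.symm hrp)
  have hga' : g⁻¹ • a = a := by rw [inv_smul_eq_iff, hga]
  have hconj : g * x * g⁻¹ = x := by
    have hmem : x⁻¹ * (g * x * g⁻¹) ∈ N :=
      N.mul_mem (N.inv_mem hx) (Subgroup.Normal.conj_mem inferInstance x hx g)
    have h1 : (x⁻¹ * (g * x * g⁻¹)) • a = a := by
      rw [mul_smul, mul_smul, mul_smul, hga', hgp, inv_smul_smul]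
    have := hreg _ hmem h1
    rw [inv_mul_eq_one] at this
    exact this.symm
  have hconj' : g * x⁻¹ * g⁻¹ = x⁻¹ := by
    have : g * x⁻¹ * g⁻¹ = (g * x * g⁻¹)⁻¹ := by group
    rw [this, hconj]
  have : r = x⁻¹ • a := by
    rw [← hgq]
    nth_rewrite 2 [← hconj']
    rw [mul_smul, mul_smul, hga']
  exact hrq this

lemma regular_three_false (N : Subgroup G) [N.Normal] (a : α)
    (hreg : ∀ g ∈ N, g • a = a → g = 1)
    (htr : ∀ y : α, ∃ g ∈ N, g • a = y)
    (hexp : ∀ x ∈ N, x ^ 2 = 1)
    (h3 : ∀ p q r s : α, p ≠ a → q ≠ a → r ≠ a → s ≠ a → p ≠ q → p ≠ r → q ≠ r →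
      p ≠ s → q ≠ s → ∃ g : G, g • a = a ∧ g • p = p ∧ g • q = q ∧ g • r = s)
    (hcard2 : ∀ p : α, ∃ q, q ≠ a ∧ q ≠ p)
    (hcard4 : ∀ p q r : α, ∃ s, s ≠ a ∧ s ≠ p ∧ s ≠ q ∧ s ≠ r) : False := by
  obtain ⟨p, hpa, -⟩ := hcard2 a
  obtain ⟨x, hx, rfl⟩ := htr p
  obtain ⟨q, hqa, hqp⟩ := hcard2 (x • a)
  obtain ⟨y, hy, rfl⟩ := htr q
  have hx1 : x ≠ 1 := by rintro rfl; exact hpa (one_smul _ _)
  have hy1 : y ≠ 1 := by rintro rfl; exact hqa (one_smul _ _)
  have hxy : y ≠ x := by rintro rfl; exact hqp rfl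
  have hxinv : x⁻¹ = x := by
    have := hexp x hx
    rw [pow_two] at this
    exact inv_eq_of_mul_eq_one_left this
  have hra : (x * y) • a ≠ a := by
    intro h
    have := hreg _ (N.mul_mem hx hy) h
    apply hxy
    rw [← hxinv]
    exact (inv_eq_of_mul_eq_one_right this).symm ▸ rfl
  have hrp : x • a ≠ (x * y) • a := by
    intro h
    rw [mul_smul, smul_left_cancel_iff] at h
    exact hqa h.symm
  have hrq : y • a ≠ (x * y) • a := by
    intro h
    apply hx1
    have hmem : y⁻¹ * (x * y) ∈ N := N.mul_mem (N.inv_mem hy) (N.mul_mem hx hy)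
    have h1 : (y⁻¹ * (x * y)) • a = a := by
      rw [mul_smul, ← h, inv_smul_smul]
    have := hreg _ hmem h1
    have h2 : x * y = y := by
      rw [inv_mul_eq_one] at this
      exact this.symm
    exact mul_eq_right.1 h2
  obtain ⟨s, hsa, hsp, hsq, hsr⟩ := hcard4 (x • a) (y • a) ((x * y) • a)
  obtain ⟨g, hga, hgp, hgq, hgr⟩ := h3 (x • a) (y • a) ((x * y) • a) s hpa hqa hra hsa
    (Ne.symm hqp) hrp hrq (Ne.symm hsp) (Ne.symm hsq)
  have hga' : g⁻¹ • a = a := by rw [inv_smul_eq_iff, hga]
  have conj_fix : ∀ z ∈ N, g • (z • a) = z • a → g * z * g⁻¹ = z := by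
    intro z hz hgz
    have hmem : z⁻¹ * (g * z * g⁻¹) ∈ N :=
      N.mul_mem (N.inv_mem hz) (Subgroup.Normal.conj_mem inferInstance z hz g)
    have h1 : (z⁻¹ * (g * z * g⁻¹)) • a = a := by
      rw [mul_smul, mul_smul, mul_smul, hga', hgz, inv_smul_smul]
    have := hreg _ hmem h1
    rw [inv_mul_eq_one] at this
    exact this.symm
  have hcx := conj_fix x hx hgp
  have hcy := conj_fix y hy hgq
  have hcxy : g * (x * y) * g⁻¹ = x * y := by
    have : g * (x * y) * g⁻¹ = (g * x * g⁻¹) * (g * y * g⁻¹) := by group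
    rw [this, hcx, hcy]
  have : g • ((x * y) • a) = (x * y) • a := by
    calc g • ((x * y) • a) = (g * (x * y) * g⁻¹) • a := by
          rw [mul_smul (g * (x * y)), hga', mul_smul g]
      _ = (x * y) • a := by rw [hcxy]
  rw [hgr] at this
  exact hsr this

/-- the exceptional configuration cannot occur -/
lemma exceptional_false (N : Subgroup G) (a b c x' : α)
    (hba : b ≠ a) (hca : c ≠ a) (hxa : x' ≠ a) (hbc : b ≠ c) (hxb : x' ≠ b) (hxc : x' ≠ c)
    (htr : ∀ y : α, ∃ g ∈ N, g • y = a)
    (hinv : ∀ s ∈ N, s • a = a → s ^ 2 = 1)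
    (htrβ : ∀ y z : α, y ≠ a → z ≠ a → ∃ s ∈ N, s • a = a ∧ s • y = z)
    (hfree : ∀ s ∈ N, s • a = a → ∀ y, y ≠ a → s • y = y → s = 1) : False := by
  -- w ∈ N_a with w b = c
  obtain ⟨w, hw, hwa, hwb⟩ := htrβ b c hba hca
  have hw2 := hinv w hw hwa
  have hwc : w • c = b := by
    rw [← hwb, ← mul_smul, ← pow_two, hw2, one_smul]
  -- w' fixing x' and swapping b, c
  obtain ⟨t, ht, htx⟩ := htr x'
  have htb : t • b ≠ a := by
    intro h
    rw [← htx, smul_left_cancel_iff] at h
    exact hxb h.symm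
  have htc : t • c ≠ a := by
    intro h
    rw [← htx, smul_left_cancel_iff] at h
    exact hxc h.symm
  obtain ⟨s', hs', hs'a, hs'b⟩ := htrβ (t • b) (t • c) htb htc
  have hs'2 := hinv s' hs' hs'a
  have hs'c : s' • (t • c) = t • b := by
    rw [← hs'b, ← mul_smul, ← pow_two, hs'2, one_smul]
  let w' := t⁻¹ * s' * t
  have hw' : w' ∈ N := N.mul_mem (N.mul_mem (N.inv_mem ht) hs') ht
  have hw'b : w' • b = c := by
    show (t⁻¹ * s' * t) • b = c
    rw [mul_smul, mul_smul, hs'b, inv_smul_smul]
  have hw'c : w' • c = b := by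
    show (t⁻¹ * s' * t) • c = b
    rw [mul_smul, mul_smul, hs'c, inv_smul_smul]
  have hw'x : w' • x' = x' := by
    show (t⁻¹ * s' * t) • x' = x'
    rw [mul_smul, mul_smul, htx, hs'a, ← htx, inv_smul_smul]
  -- w⁻¹ w' fixes b and c, so it is trivial
  have hfix2 : ∀ u ∈ N, u • b = b → u • c = c → u = 1 := by
    intro u hu hub huc
    obtain ⟨t₂, ht₂, ht₂b⟩ := htr b
    have hmem : t₂ * u * t₂⁻¹ ∈ N := N.mul_mem (N.mul_mem ht₂ hu) (N.inv_mem ht₂)
    have h1 : (t₂ * u * t₂⁻¹) • a = a := by
      rw [mul_smul, mul_smul, ← ht₂b, inv_smul_smul, hub]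
    have hne : t₂ • c ≠ a := by
      intro h
      rw [← ht₂b, smul_left_cancel_iff] at h
      exact hbc h.symm
    have h2 : (t₂ * u * t₂⁻¹) • (t₂ • c) = t₂ • c := by
      rw [mul_smul, mul_smul, inv_smul_smul, huc]
    have := hfree _ hmem h1 _ hne h2
    have h3 : t₂ * u = t₂ := by
      have := mul_inv_eq_one.1 this
      exact this
    exact mul_eq_left.1 h3
  have heq : w⁻¹ * w' = 1 := by
    apply hfix2 _ (N.mul_mem (N.inv_mem hw) hw')
    · rw [mul_smul, hw'b, inv_smul_eq_iff, hwb]
    · rw [mul_smul, hw'c, inv_smul_eq_iff, hwc]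
  have hww' : w' = w := by
    rw [inv_mul_eq_one] at heq
    exact heq.symm
  have hwx : w • x' = x' := by rw [← hww']; exact hw'x
  have hw1 : w = 1 := hfree w hw hwa x' hxa hwx
  rw [hw1, one_smul] at hwb
  exact hbc hwb

end Elementwise

section Glue

universe u v

lemma exists_notMem {α : Type*} [Finite α] (l : List α) (h : l.length < Nat.card α) :
    ∃ r, r ∉ l := by
  classical
  by_contra hno
  push_neg at hno
  haveI := Fintype.ofFinite α
  have h1 : (Finset.univ : Finset α) ⊆ l.toFinset := by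
    intro x _
    exact List.mem_toFinset.2 (hno x)
  have h2 := Finset.card_le_card h1
  have h3 := List.toFinset_card_le l
  rw [Finset.card_univ, ← Nat.card_eq_fintype_card] at h2
  omega

lemma three_trans {H β : Type*} [Group H] [MulAction H β]
    (h : IsMultiplyPretransitive H β 3)
    (p q r p' q' r' : β) (hpq : p ≠ q) (hpr : p ≠ r) (hqr : q ≠ r)
    (hpq' : p' ≠ q') (hpr' : p' ≠ r') (hqr' : q' ≠ r') :
    ∃ g : H, g • p = p' ∧ g • q = q' ∧ g • r = r' := by
  let x : Fin 3 ↪ β := ⟨![p, q, r], by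
    intro i j hij
    fin_cases i <;> fin_cases j <;> simp_all⟩
  let y : Fin 3 ↪ β := ⟨![p', q', r'], by
    intro i j hij
    fin_cases i <;> fin_cases j <;> simp_all⟩
  obtain ⟨g, hg⟩ := h.exists_smul_eq x y
  refine ⟨g, ?_, ?_, ?_⟩
  · have := DFunLike.congr_fun hg 0
    rw [Function.Embedding.smul_apply] at this
    exact this
  · have := DFunLike.congr_fun hg 1
    rw [Function.Embedding.smul_apply] at this
    exact this
  · have := DFunLike.congr_fun hg 2
    rw [Function.Embedding.smul_apply] at this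
    exact this

variable {G : Type u} {α : Type v} [Group G] [MulAction G α]

instance faithful_ofStabilizer [FaithfulSMul G α] (a : α) :
    FaithfulSMul (stabilizer G a) (ofStabilizer G a) where
  eq_of_smul_eq_smul := by
    intro g h hgh
    apply Subtype.ext
    apply FaithfulSMul.eq_of_smul_eq_smul (α := α)
    intro y
    by_cases hy : y = a
    · rw [hy]
      have h1 : (g : G) • a = a := g.2
      have h2 : (h : G) • a = a := h.2
      rw [h1, h2]
    · have := hgh ⟨y, hy⟩
      exact congrArg Subtype.val this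

lemma transitive_of_normal [FaithfulSMul G α] [IsPreprimitive G α] (N : Subgroup G)
    [N.Normal] (hN : N ≠ ⊥) : IsPretransitive N α := by
  apply IsQuasiPreprimitive.isPretransitive_of_normal
  intro h
  apply hN
  rw [Subgroup.eq_bot_iff_forall]
  intro n hn
  apply FaithfulSMul.eq_of_smul_eq_smul (α := α)
  intro x
  have hx : x ∈ fixedPoints N α := by rw [h]; trivial
  rw [one_smul]
  exact hx ⟨n, hn⟩

lemma transfer (N : Subgroup G) (a : α) (m : ℕ)
    (h : IsMultiplyPretransitive (N.subgroupOf (stabilizer G a)) (ofStabilizer G a) m) :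
    IsMultiplyPretransitive (stabilizer N a) (ofStabilizer N a) m := by
  let σ : ↥(N.subgroupOf (stabilizer G a)) → ↥(stabilizer N a) := fun g =>
    ⟨⟨g.1.1, Subgroup.mem_subgroupOf.1 g.2⟩, by
      rw [mem_stabilizer_iff]
      exact g.1.2⟩
  let f : ofStabilizer G a →ₑ[σ] ofStabilizer N a :=
    { toFun := fun x => ⟨x.1, x.2⟩
      map_smul' := fun g x => rfl }
  have hσ : Function.Surjective σ := by
    rintro ⟨⟨g, hgN⟩, hga⟩
    exact ⟨⟨⟨g, hga⟩, Subgroup.mem_subgroupOf.2 hgN⟩, rfl⟩
  have hf : Function.Bijective f := by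
    constructor
    · intro x y hxy
      apply Subtype.ext
      exact congrArg Subtype.val hxy
    · rintro ⟨y, hy⟩
      exact ⟨⟨y, hy⟩, rfl⟩
  exact (IsPretransitive.of_embedding_congr hσ hf).1 h

theorem jordan_aux : ∀ (k : ℕ), 2 ≤ k → ∀ (G : Type u) [Group G] (α : Type v) [MulAction G α]
    [FaithfulSMul G α] [Finite α], k < Nat.card α → IsMultiplyPretransitive G α k →
    ∀ (N : Subgroup G), N.Normal → N ≠ ⊥ →
    IsMultiplyPretransitive N α (k - 1) ∨ (k = 3 ∧ ∀ n ∈ N, n ^ 2 = 1) := by
  intro k hk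
  induction k, hk using Nat.le_induction with
  | base =>
    intro G _ α _ _ _ hcard hG N hNn hN
    left
    haveI := hNn
    haveI : IsPreprimitive G α := isPreprimitive_of_is_two_pretransitive hG
    rw [show 2 - 1 = 1 from rfl, is_one_pretransitive_iff]
    exact transitive_of_normal N hN
  | succ k hk ih =>
    intro G _ α _ _ _ hcard hG N hNn hN
    haveI := hNn
    haveI hG' : IsMultiplyPretransitive G α (k + 1) := hG
    have hG2 : IsMultiplyPretransitive G α 2 :=
      isMultiplyPretransitive_of_le (n := k + 1) (by omega) (by omega)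
    haveI : IsPreprimitive G α := isPreprimitive_of_is_two_pretransitive hG2
    haveI hGt : IsPretransitive G α := IsPreprimitive.toIsPretransitive
    haveI hNt : IsPretransitive N α := transitive_of_normal N hN
    obtain ⟨a, -⟩ := exists_notMem (α := α) [] (by simp; omega)
    haveI hGa : IsMultiplyPretransitive (stabilizer G a) (ofStabilizer G a) k :=
      (ofStabilizer.isMultiplyPretransitive (a := a)).1 hG
    have hcardβ : Nat.card (ofStabilizer G a) + 1 = Nat.card α :=
      nat_card_ofStabilizer_add_one_eq G a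
    have hcardβ' : k < Nat.card (ofStabilizer G a) := by omega
    let Na : Subgroup (stabilizer G a) := N.subgroupOf (stabilizer G a)
    haveI hNan : Na.Normal := Subgroup.Normal.subgroupOf hNn _
    rw [show k + 1 - 1 = k from rfl]
    have htr : ∀ y : α, ∃ g ∈ N, g • a = y := by
      intro y
      obtain ⟨g, hg⟩ := exists_smul_eq N a y
      exact ⟨g.1, g.2, hg⟩
    have hGa2 : IsMultiplyPretransitive (stabilizer G a) (ofStabilizer G a) 2 :=
      isMultiplyPretransitive_of_le (n := k) hk (by omega)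
    by_cases hNa : Na = ⊥
    · -- regular case
      have hreg : ∀ g ∈ N, g • a = a → g = 1 := by
        intro g hg hga
        have hmem : (⟨g, hga⟩ : stabilizer G a) ∈ Na := Subgroup.mem_subgroupOf.2 hg
        rw [hNa, Subgroup.mem_bot] at hmem
        exact congrArg Subtype.val hmem
      have hGa2' : ∀ (a₁ b c d : ofStabilizer G a), a₁ ≠ b → c ≠ d →
          ∃ g : stabilizer G a, g • a₁ = c ∧ g • b = d :=
        fun a₁ b c d h h' => is_two_pretransitive_iff.1 hGa2 h h'
      have h2 : ∀ p q r : α, p ≠ a → q ≠ a → r ≠ a → p ≠ q → p ≠ r →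
          ∃ g : G, g • a = a ∧ g • p = p ∧ g • q = r := by
        intro p q r hp hq hr hpq hpr
        obtain ⟨g, h1, h2⟩ := hGa2' ⟨p, hp⟩ ⟨q, hq⟩ ⟨p, hp⟩
          ⟨r, hr⟩ (fun h => hpq (congrArg Subtype.val h))
          (fun h => hpr (congrArg Subtype.val h))
        exact ⟨g.1, g.2, congrArg Subtype.val h1, congrArg Subtype.val h2⟩
      have hcard3 : ∀ p q : α, ∃ r, r ≠ a ∧ r ≠ p ∧ r ≠ q := by
        intro p q
        obtain ⟨r, hr⟩ := exists_notMem (α := α) [a, p, q] (by simp; omega)
        simp only [List.mem_cons, List.not_mem_nil, or_false, not_or] at hr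
        exact ⟨r, hr.1, hr.2.1, hr.2.2⟩
      have hexp := regular_exp_two N a hreg h2 hcard3
      by_cases hk3 : k + 1 = 3
      · right
        exact ⟨hk3, hexp⟩
      · exfalso
        have hk3' : 3 ≤ k := by omega
        have hGa3 : IsMultiplyPretransitive (stabilizer G a) (ofStabilizer G a) 3 :=
          isMultiplyPretransitive_of_le (n := k) hk3' (by omega)
        have h3 : ∀ p q r s : α, p ≠ a → q ≠ a → r ≠ a → s ≠ a → p ≠ q → p ≠ r → q ≠ r →
            p ≠ s → q ≠ s → ∃ g : G, g • a = a ∧ g • p = p ∧ g • q = q ∧ g • r = s := by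
          intro p q r s hp hq hr hs hpq hpr hqr hps hqs
          obtain ⟨g, h1, h2, h3⟩ := three_trans hGa3 (⟨p, hp⟩ : ofStabilizer G a) ⟨q, hq⟩
            ⟨r, hr⟩ ⟨p, hp⟩ ⟨q, hq⟩ ⟨s, hs⟩
            (fun h => hpq (congrArg Subtype.val h)) (fun h => hpr (congrArg Subtype.val h))
            (fun h => hqr (congrArg Subtype.val h)) (fun h => hpq (congrArg Subtype.val h))
            (fun h => hps (congrArg Subtype.val h)) (fun h => hqs (congrArg Subtype.val h))
          exact ⟨g.1, g.2, congrArg Subtype.val h1, congrArg Subtype.val h2,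
            congrArg Subtype.val h3⟩
        have hcard2 : ∀ p : α, ∃ q, q ≠ a ∧ q ≠ p := by
          intro p
          obtain ⟨r, hr⟩ := exists_notMem (α := α) [a, p] (by simp; omega)
          simp only [List.mem_cons, List.not_mem_nil, or_false, not_or] at hr
          exact ⟨r, hr.1, hr.2⟩
        have hcard4 : ∀ p q r : α, ∃ s, s ≠ a ∧ s ≠ p ∧ s ≠ q ∧ s ≠ r := by
          intro p q r
          obtain ⟨s, hs⟩ := exists_notMem (α := α) [a, p, q, r] (by simp; omega)
          simp only [List.mem_cons, List.not_mem_nil, or_false, not_or] at hs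
          exact ⟨s, hs.1, hs.2.1, hs.2.2.1, hs.2.2.2⟩
        exact regular_three_false N a hreg htr hexp h3 hcard2 hcard4
    · rcases ih (stabilizer G a) (ofStabilizer G a) hcardβ' hGa Na hNan hNa with
        h | ⟨hk3, hexp⟩
      · left
        have h1 := transfer N a (k - 1) h
        have hk1 : k = (k - 1).succ := by omega
        rw [hk1]
        exact (ofStabilizer.isMultiplyPretransitive (G := N) (a := a)).2 h1
      · exfalso
        -- exceptional case: k = 3
        haveI : IsPreprimitive (stabilizer G a) (ofStabilizer G a) :=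
          isPreprimitive_of_is_two_pretransitive hGa2
        haveI hNat : IsPretransitive Na (ofStabilizer G a) := transitive_of_normal Na hNa
        have hinv : ∀ s ∈ N, s • a = a → s ^ 2 = 1 := by
          intro s hs hsa
          have hmem : (⟨s, hsa⟩ : stabilizer G a) ∈ Na := Subgroup.mem_subgroupOf.2 hs
          have := hexp _ hmem
          exact congrArg Subtype.val this
        have htrβ : ∀ y z : α, y ≠ a → z ≠ a → ∃ s ∈ N, s • a = a ∧ s • y = z := by
          intro y z hy hz
          obtain ⟨s, hs⟩ := exists_smul_eq Na (⟨y, hy⟩ : ofStabilizer G a) ⟨z, hz⟩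
          exact ⟨s.1.1, Subgroup.mem_subgroupOf.1 s.2, s.1.2, congrArg Subtype.val hs⟩
        have hcomm : ∀ s ∈ N, s • a = a → ∀ m ∈ N, m • a = a → s * m = m * s := by
          intro s hs hsa m hm hma
          have h1 := hinv s hs hsa
          have h2 := hinv m hm hma
          have h3 := hinv (s * m) (N.mul_mem hs hm) (by rw [mul_smul, hma, hsa])
          have e1 : s⁻¹ = s := by
            rw [pow_two] at h1
            exact inv_eq_of_mul_eq_one_left h1
          have e2 : m⁻¹ = m := by
            rw [pow_two] at h2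
            exact inv_eq_of_mul_eq_one_left h2
          have e3 : (s * m)⁻¹ = s * m := by
            rw [pow_two] at h3
            exact inv_eq_of_mul_eq_one_left h3
          rw [← e3, mul_inv_rev, e1, e2]
        have hfree : ∀ s ∈ N, s • a = a → ∀ y, y ≠ a → s • y = y → s = 1 := by
          intro s hs hsa y hy hsy
          apply FaithfulSMul.eq_of_smul_eq_smul (α := α)
          intro z
          rw [one_smul]
          by_cases hz : z = a
          · rw [hz, hsa]
          · obtain ⟨m, hm, hma, hmy⟩ := htrβ y z hy hz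
            rw [← hmy, ← mul_smul, hcomm s hs hsa m hm hma, mul_smul, hsy]
        have htr' : ∀ y : α, ∃ g ∈ N, g • y = a := by
          intro y
          obtain ⟨g, hg, hga⟩ := htr y
          exact ⟨g⁻¹, N.inv_mem hg, by rw [inv_smul_eq_iff, hga]⟩
        obtain ⟨b, hb⟩ := exists_notMem (α := α) [a] (by simp; omega)
        obtain ⟨c, hc⟩ := exists_notMem (α := α) [a, b] (by simp; omega)
        obtain ⟨x', hx'⟩ := exists_notMem (α := α) [a, b, c] (by simp; omega)
        simp only [List.mem_cons, List.not_mem_nil, or_false, not_or] at hb hc hx'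
        exact exceptional_false N a b c x' hb hc.1 hx'.1 (Ne.symm hc.2) hx'.2.1 hx'.2.2
          htr' hinv htrβ hfree

end Glue

end Cfsg.Agent.Lead.JordanNormal
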