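import Mathlib
import Cfsg.Agent.Lib.Lead.KInf1

/-!
# The K-infinity subgroups: comparison of the sequences of a group and of a subgroup

If `T ≤ S`, all even terms of the K-sequence of `S` lie in `T` and some odd term of it lies in `T`, then `S` and `T`
have the same lower and the same upper K-infinity subgroup.  For `T` normal in the ambient group these are normal.
-/

set_option autoImplicit false
set_option linter.style.haveILetI false
set_option linter.unusedVariables false
set_option linter.unusedSectionVars false

namespace Cfsg.Agent.Lib.Lead.KInf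

open Cfsg
open scoped commutatorElement

variable {G : Type*} [Group G]

theorem compare_of_even_le {S T : Subgroup G} (hTS : T ≤ S) (hE : ∀ n, relEven S n ≤ T) :
    ∀ n, relOdd T n ≤ relOdd S n ∧ relEven S n ≤ relEven T n := by
  have step1 : ∀ n, relOdd T n ≤ relOdd S n → relEven S n ≤ relEven T n := by
    intro n h
    refine sSup_le fun B hB => ?_
    have hBT : B ≤ T := (le_sSup hB).trans (hE n)
    exact le_sSup ⟨lower_antitone h hB.1, hBT⟩
  have step2 : ∀ n, relEven S n ≤ relEven T n → relOdd T (n + 1) ≤ relOdd S (n + 1) := by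
    intro n h
    refine sSup_le fun B hB => ?_
    exact le_sSup ⟨upper_antitone h hB.1, hB.2.trans hTS⟩
  have key : ∀ n, relOdd T n ≤ relOdd S n := by
    intro n
    induction n with
    | zero => exact hTS
    | succ n ih => exact step2 n (step1 n ih)
  exact fun n => ⟨key n, step1 n (key n)⟩

theorem compare_of_odd_le {S T : Subgroup G} (hTS : T ≤ S) {m : ℕ} (hO : relOdd S m ≤ T) :
    ∀ i, relOdd S (m + i) ≤ relOdd T i ∧ relEven T i ≤ relEven S (m + i) := by
  have step1 : ∀ i, relOdd S (m + i) ≤ relOdd T i → relEven T i ≤ relEven S (m + i) := by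
    intro i h
    refine sSup_le fun B hB => ?_
    exact le_sSup ⟨lower_antitone h hB.1, hB.2.trans hTS⟩
  have step2 : ∀ i, relEven T i ≤ relEven S (m + i) →
      relOdd S (m + (i + 1)) ≤ relOdd T (i + 1) := by
    intro i h
    refine sSup_le fun B hB => ?_
    have hB' : B ≤ relOdd S (m + (i + 1)) := le_sSup hB
    have hBT : B ≤ T := (hB'.trans (relOdd_antitone S (by omega))).trans hO
    exact le_sSup ⟨upper_antitone h hB.1, hBT⟩
  have key : ∀ i, relOdd S (m + i) ≤ relOdd T i := by
    intro i
    induction i with
    | zero => exact hO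
    | succ i ih => exact step2 i (step1 i ih)
  exact fun i => ⟨key i, step1 i (key i)⟩

theorem iSup_relEven_eq {S T : Subgroup G} (hTS : T ≤ S) (hE : ∀ n, relEven S n ≤ T) {m : ℕ}
    (hO : relOdd S m ≤ T) : ⨆ n, relEven S n = ⨆ n, relEven T n := by
  apply le_antisymm
  · exact iSup_mono fun n => (compare_of_even_le hTS hE n).2
  · refine iSup_le fun i => ?_
    exact ((compare_of_odd_le hTS hO i).2).trans (le_iSup (fun n => relEven S n) (m + i))

theorem iInf_relOdd_eq {S T : Subgroup G} (hTS : T ≤ S) (hE : ∀ n, relEven S n ≤ T) {m : ℕ}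
    (hO : relOdd S m ≤ T) : ⨅ n, relOdd S n = ⨅ n, relOdd T n := by
  apply le_antisymm
  · refine le_iInf fun i => ?_
    exact (iInf_le (fun n => relOdd S n) (m + i)).trans (compare_of_odd_le hTS hO i).1
  · exact iInf_mono fun n => (compare_of_even_le hTS hE n).1

theorem map_conj_of_normal (T : Subgroup G) [hT : T.Normal] (g : G) :
    T.map (MulAut.conj g).toMonoidHom = T := by
  ext x
  constructor
  · rintro ⟨y, hy, rfl⟩
    exact hT.conj_mem y hy g
  · intro hx
    refine ⟨g⁻¹ * x * g, ?_, ?_⟩
    · have := hT.conj_mem x hx g⁻¹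
      rwa [inv_inv] at this
    · show g * (g⁻¹ * x * g) * g⁻¹ = x
      group

theorem normal_of_map_conj (K : Subgroup G)
    (h : ∀ g : G, K.map (MulAut.conj g).toMonoidHom = K) : K.Normal := by
  constructor
  intro x hx g
  have : (MulAut.conj g).toMonoidHom x ∈ K.map (MulAut.conj g).toMonoidHom :=
    Subgroup.mem_map_of_mem _ hx
  rw [h g] at this
  exact this

theorem iSup_relEven_normal (T : Subgroup G) [hT : T.Normal] : (⨆ n, relEven T n).Normal := by
  apply normal_of_map_conj
  intro g
  rw [Subgroup.map_iSup]
  refine iSup_congr fun n => ?_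
  rw [relEven_map _ (MulAut.conj g).injective, map_conj_of_normal]

theorem iInf_relOdd_normal (T : Subgroup G) [hT : T.Normal] : (⨅ n, relOdd T n).Normal := by
  apply normal_of_map_conj
  intro g
  rw [Subgroup.map_iInf _ (MulAut.conj g).injective]
  refine iInf_congr fun n => ?_
  rw [relOdd_map _ (MulAut.conj g).injective, map_conj_of_normal]

end Cfsg.Agent.Lib.Lead.KInf
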