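import Mathlib
import Cfsg.Prelude.Def_PLocal
import Cfsg.Prelude.Def_Solvable
import Cfsg.Agent.Lib.Lead.KInf2
import Cfsg.Agent.Lib.Helper7.Core

/-!
# The K-infinity subgroups of a Sylow subgroup are normal unless some element acts cubically on a critical subgroup

`T ≤ S` subgroups of `G`, `A ≤ T` of class at most two, normal in `S`, with `[T, A] ≤ Z(A)`.  If no `g ∈ S \ T`
satisfies `[A, g, g, g] ≤ Z(A)` and `[Z(A), g, g] = 1`, then all even terms of the K-sequence of `S` and all odd terms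
from the first on lie in `T`; so `S` and `T` have the same K-infinity subgroups.
-/

set_option autoImplicit false
set_option linter.style.haveILetI false
set_option linter.unusedVariables false
set_option linter.unusedSectionVars false

namespace Cfsg.Agent.Lib.Lead.KInf

open Cfsg
open scoped commutatorElement

section general

variable {G : Type*} [Group G]

theorem normalizer_le_normalizer_Zc (A : Subgroup G) :
    Subgroup.normalizer (A : Set G) ≤ Subgroup.normalizer ((Zc A : Subgroup G) : Set G) := by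
  intro s hs
  have hs' : s⁻¹ ∈ Subgroup.normalizer (A : Set G) := Subgroup.inv_mem _ hs
  have key : ∀ t ∈ Subgroup.normalizer (A : Set G), ∀ x ∈ Zc A, t * x * t⁻¹ ∈ Zc A := by
    intro t ht x hx
    obtain ⟨hx1, hx2⟩ := Subgroup.mem_inf.mp hx
    refine Subgroup.mem_inf.mpr ⟨(Subgroup.mem_normalizer_iff.mp ht x).mp hx1, ?_⟩
    rw [Subgroup.mem_centralizer_iff]
    intro a ha
    have ha' : t⁻¹ * a * t ∈ A := by
      have := (Subgroup.mem_normalizer_iff.mp (Subgroup.inv_mem _ ht) a).mp ha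
      rwa [inv_inv] at this
    have h1 := Subgroup.mem_centralizer_iff.mp hx2 _ ha'
    calc a * (t * x * t⁻¹) = t * ((t⁻¹ * a * t) * x) * t⁻¹ := by group
      _ = t * (x * (t⁻¹ * a * t)) * t⁻¹ := by rw [h1]
      _ = t * x * t⁻¹ * a := by group
  rw [Subgroup.mem_normalizer_iff]
  intro x
  constructor
  · exact key s hs x
  · intro hx
    have := key s⁻¹ hs' _ hx
    have e : s⁻¹ * (s * x * s⁻¹) * s⁻¹⁻¹ = x := by group
    rwa [e] at this

theorem Zc_commutator_eq_bot (B : Subgroup G) : ⁅Zc B, B⁆ = ⊥ :=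
  (Subgroup.commutator_eq_bot_iff_le_centralizer).mpr inf_le_right

theorem Zc_abelian (B : Subgroup G) : ⁅Zc B, Zc B⁆ = ⊥ :=
  le_bot_iff.mp ((Subgroup.commutator_mono le_rfl inf_le_left).trans (Zc_commutator_eq_bot B).le)

theorem triple_eq_bot_of_classTwo {B : Subgroup G} (h : B ∈ classTwoSubgroups G) :
    ⁅⁅B, B⁆, B⁆ = ⊥ := (classTwo_iff B).mp h

variable {S T A : Subgroup G}

/-- the property of `g` in the conclusion -/
def Cubic (A : Subgroup G) (g : G) : Prop :=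
  Cfsg.iterCommutator A (Subgroup.zpowers g) 3 ≤ Zc A ∧
    ⁅⁅Zc A, Subgroup.zpowers g⁆, Subgroup.zpowers g⁆ = ⊥

theorem cubic_of_le {B : Subgroup G} {g : G} (hg : g ∈ B)
    (h3 : ⁅⁅⁅A, B⁆, B⁆, B⁆ = ⊥) (h2 : ⁅⁅Zc A, B⁆, B⁆ = ⊥) : Cubic A g := by
  have hz : Subgroup.zpowers g ≤ B := (Subgroup.zpowers_le).mpr hg
  constructor
  · show ⁅⁅⁅A, Subgroup.zpowers g⁆, Subgroup.zpowers g⁆, Subgroup.zpowers g⁆ ≤ Zc A
    have : ⁅⁅⁅A, Subgroup.zpowers g⁆, Subgroup.zpowers g⁆, Subgroup.zpowers g⁆ ≤ ⁅⁅⁅A, B⁆, B⁆, B⁆ :=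
      Subgroup.commutator_mono (Subgroup.commutator_mono (Subgroup.commutator_mono le_rfl hz) hz) hz
    rw [h3] at this
    exact this.trans bot_le
  · have : ⁅⁅Zc A, Subgroup.zpowers g⁆, Subgroup.zpowers g⁆ ≤ ⁅⁅Zc A, B⁆, B⁆ :=
      Subgroup.commutator_mono (Subgroup.commutator_mono le_rfl hz) hz
    rw [h2] at this
    exact le_bot_iff.mp this

theorem seq_le_of_no_cubic (hTS : T ≤ S) (hAT : A ≤ T)
    (hSA : S ≤ Subgroup.normalizer (A : Set G))
    (hcl : ⁅A, A⁆ ≤ Subgroup.centralizer (A : Set G)) (hTA : ⁅T, A⁆ ≤ Zc A)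
    (hno : ∀ g ∈ S, g ∉ T → ¬ Cubic A g) :
    (∀ n, relEven S n ≤ T) ∧ ∀ n, relOdd S (n + 1) ≤ T := by
  have hAS : A ≤ S := hAT.trans hTS
  have hSZ : S ≤ Subgroup.normalizer ((Zc A : Subgroup G) : Set G) :=
    hSA.trans (normalizer_le_normalizer_Zc A)
  have hAT' : ⁅A, T⁆ ≤ Zc A := by rw [Subgroup.commutator_comm]; exact hTA
  -- (i) `A` lies in every lower family
  have hA_lower : ∀ n, A ∈ kLowerStarFamily (relOdd S n) := by
    intro n
    refine ⟨hcl, (relOdd_le S n).trans hSA, ?_⟩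
    intro A' hA' hA'Q hAA' hc1 hc2
    by_contra hcon
    have hA'T : ¬ A' ≤ T := fun h => hcon ((Subgroup.commutator_mono le_rfl h).trans hAT')
    obtain ⟨g, hgA', hgT⟩ := SetLike.not_le_iff_exists.mp hA'T
    have hgS : g ∈ S := relOdd_le S n (hA'Q hgA')
    apply hno g hgS hgT
    refine cubic_of_le hgA' ?_ hc2
    have h1 : ⁅A, A'⁆ ≤ A' := by
      rw [Subgroup.commutator_comm]; exact commutator_le_of_le_normalizer hAA'
    have h2 : ⁅⁅⁅A, A'⁆, A'⁆, A'⁆ ≤ ⁅⁅A', A'⁆, A'⁆ :=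
      Subgroup.commutator_mono (Subgroup.commutator_mono h1 le_rfl) le_rfl
    rw [triple_eq_bot_of_classTwo hA'] at h2
    exact le_bot_iff.mp h2
  have hA_even : ∀ n, A ≤ relEven S n := fun n => le_sSup ⟨hA_lower n, hAS⟩
  -- (ii) the odd terms
  have hodd : ∀ n, relOdd S (n + 1) ≤ T := by
    intro n
    refine sSup_le fun B hB => ?_
    obtain ⟨⟨hBcl, hBE⟩, hBS⟩ := hB
    by_contra hBT
    obtain ⟨g, hgB, hgT⟩ := SetLike.not_le_iff_exists.mp hBT
    apply hno g (hBS hgB) hgT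
    have h1 : ⁅A, B⁆ ≤ Zc B := by
      rw [Subgroup.commutator_comm]
      exact (Subgroup.commutator_mono le_rfl (hA_even n)).trans hBE
    have h2 : ⁅⁅A, B⁆, B⁆ = ⊥ := by
      have := Subgroup.commutator_mono h1 (le_refl B)
      rw [Zc_commutator_eq_bot] at this
      exact le_bot_iff.mp this
    refine cubic_of_le hgB ?_ ?_
    · rw [h2]; exact Subgroup.commutator_bot_left B
    · have : ⁅⁅Zc A, B⁆, B⁆ ≤ ⁅⁅A, B⁆, B⁆ :=
        Subgroup.commutator_mono (Subgroup.commutator_mono inf_le_left le_rfl) le_rfl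
      rw [h2] at this
      exact le_bot_iff.mp this
  -- (iii) the even terms
  have hstep : ∀ n, A ≤ relOdd S n → relEven S n ≤ T := by
    intro n hAO
    refine sSup_le fun B hB => ?_
    obtain ⟨⟨hBcl, hOB, htest⟩, hBS⟩ := hB
    by_contra hBT
    obtain ⟨g, hgB, hgT⟩ := SetLike.not_le_iff_exists.mp hBT
    apply hno g (hBS hgB) hgT
    have hZcl : Zc A ∈ classTwoSubgroups G := by
      show ⁅Zc A, Zc A⁆ ≤ _
      rw [Zc_abelian]; exact bot_le
    have hBZ : B ≤ Subgroup.normalizer ((Zc A : Subgroup G) : Set G) := hBS.trans hSZ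
    have t1 : ⁅B, ⁅Zc A, Zc A⁆⁆ = ⊥ := by
      rw [Zc_abelian]; exact Subgroup.commutator_bot_right B
    have t2 : ⁅⁅Zc B, Zc A⁆, Zc A⁆ = ⊥ := by
      have h1 : ⁅Zc B, Zc A⁆ ≤ Zc A := by
        rw [Subgroup.commutator_comm]
        exact commutator_le_of_le_normalizer ((inf_le_left : Zc B ≤ B).trans hBZ)
      have := Subgroup.commutator_mono h1 (le_refl (Zc A))
      rw [Zc_abelian] at this
      exact le_bot_iff.mp this
    have h1 : ⁅B, Zc A⁆ ≤ Zc B :=
      htest (Zc A) hZcl ((inf_le_left : Zc A ≤ A).trans hAO) hBZ t1 t2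
    have hAB : ⁅A, B⁆ ≤ B := by
      rw [Subgroup.commutator_comm]; exact commutator_le_of_le_normalizer (hAO.trans hOB)
    refine cubic_of_le hgB ?_ ?_
    · have h2 : ⁅⁅⁅A, B⁆, B⁆, B⁆ ≤ ⁅⁅B, B⁆, B⁆ :=
        Subgroup.commutator_mono (Subgroup.commutator_mono hAB le_rfl) le_rfl
      rw [triple_eq_bot_of_classTwo hBcl] at h2
      exact le_bot_iff.mp h2
    · have h2 : ⁅⁅Zc A, B⁆, B⁆ ≤ ⁅Zc B, B⁆ := by
        refine Subgroup.commutator_mono ?_ le_rfl
        rw [Subgroup.commutator_comm]; exact h1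
      rw [Zc_commutator_eq_bot] at h2
      exact le_bot_iff.mp h2
  have hAodd : ∀ n, relEven S n ≤ T → A ≤ relOdd S (n + 1) := by
    intro n h
    exact le_sSup ⟨⟨hcl, (Subgroup.commutator_mono le_rfl h).trans hAT'⟩, hAS⟩
  have hboth : ∀ n, A ≤ relOdd S n ∧ relEven S n ≤ T := by
    intro n
    induction n with
    | zero => exact ⟨hAS, hstep 0 hAS⟩
    | succ n ih =>
      have h1 := hAodd n ih.2
      exact ⟨h1, hstep (n + 1) h1⟩
  exact ⟨fun n => (hboth n).2, hodd⟩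

theorem kinf_normal_of_no_cubic [hT : T.Normal] (hTS : T ≤ S) (hAT : A ≤ T)
    (hSA : S ≤ Subgroup.normalizer (A : Set G))
    (hcl : ⁅A, A⁆ ≤ Subgroup.centralizer (A : Set G)) (hTA : ⁅T, A⁆ ≤ Zc A)
    (hno : ∀ g ∈ S, g ∉ T → ¬ Cubic A g) :
    (⨆ n, relEven S n).Normal ∧ (⨅ n, relOdd S n).Normal := by
  obtain ⟨hE, hO⟩ := seq_le_of_no_cubic hTS hAT hSA hcl hTA hno
  rw [iSup_relEven_eq hTS hE (hO 0), iInf_relOdd_eq hTS hE (hO 0)]
  exact ⟨iSup_relEven_normal T, iInf_relOdd_normal T⟩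

/-- a subgroup of a normal subgroup `T` that is characteristic in `T` is normal -/
theorem normal_of_characteristic_subgroupOf {T A : Subgroup G} [hT : T.Normal] (hAT : A ≤ T)
    (hA : (A.subgroupOf T).Characteristic) : A.Normal := by
  constructor
  intro a ha g
  have h1 : (⟨a, hAT ha⟩ : ↥T) ∈ A.subgroupOf T := Subgroup.mem_subgroupOf.mpr ha
  have h2 := (Subgroup.characteristic_iff_map_eq.mp hA (MulAut.conjNormal g))
  have h3 : (MulAut.conjNormal g : MulAut ↥T) ⟨a, hAT ha⟩ ∈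
      (A.subgroupOf T).map (MulAut.conjNormal g : MulAut ↥T).toMonoidHom :=
    Subgroup.mem_map_of_mem _ h1
  rw [h2] at h3
  exact Subgroup.mem_subgroupOf.mp h3

end general

section sylow

universe u

variable {G : Type u} [Group G] [Finite G] {p : ℕ} [Fact p.Prime]

open Cfsg.Agent.Lib.Helper7 in
/-- the first part of the theorem on critical subgroups -/
theorem exists_cubic (S : Sylow p G) (A : Subgroup G) (hAT : A ≤ Cfsg.pCore p G)
    (hAchar : (A.subgroupOf (Cfsg.pCore p G)).Characteristic)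
    (hA2 : ⁅A, A⁆ ≤ Subgroup.centralizer ((A : Subgroup G) : Set G))
    (hA3 : ⁅Cfsg.pCore p G, A⁆ ≤ A ⊓ Subgroup.centralizer ((A : Subgroup G) : Set G))
    (hK : ¬ (Cfsg.inducedFunctor Cfsg.kInfLower (S : Subgroup G)).Normal ∨
      ¬ (Cfsg.inducedFunctor Cfsg.kInfUpper (S : Subgroup G)).Normal) :
    ∃ g : G, g ∈ (S : Subgroup G) ∧ g ∉ Cfsg.pCore p G ∧ Cubic A g := by
  by_contra hcon
  haveI hTn : (Cfsg.pCore p G).Normal := pCore_normal p G
  haveI hAn : A.Normal := normal_of_characteristic_subgroupOf hAT hAchar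
  have hno : ∀ g ∈ (S : Subgroup G), g ∉ Cfsg.pCore p G → ¬ Cubic A g :=
    fun g hg hgT hc => hcon ⟨g, hg, hgT, hc⟩
  have hSA : (S : Subgroup G) ≤ Subgroup.normalizer (A : Set G) := by
    rw [Subgroup.normalizer_eq_top]; exact le_top
  obtain ⟨h1, h2⟩ := kinf_normal_of_no_cubic (pCore_le_sylow S) hAT hSA hA2 hA3 hno
  rw [induced_kInfLower, induced_kInfUpper] at hK
  rcases hK with h | h
  · exact h h1
  · exact h h2

end sylow

end Cfsg.Agent.Lib.Lead.KInf
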