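import Mathlib
import Cfsg.Agent.Lib.Lead.KInf4
import Cfsg.Agent.Lib.Lead.KInf3
import Cfsg.Agent.Lib.Lead.PGroup
import Cfsg.Agent.Lib.Lead.EngelTransfer

/-!
# The Engel degree on the chief factors below a normal `p`-subgroup, through a critical subgroup

`engel_bound`: `P` a normal `p`-subgroup of the finite group `G`, `Q ≤ P` normal in `G` with `[P, Q] ≤ Z(Q)` and
`C_P(Q) = Z(Q)`; if `g` has Engel degree `≤ i` on the chief factors below `Q` and `≤ j` on those below `Z(Q)`, then
it has degree `≤ i + j - 1` on the chief factors below `P`.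
-/

set_option autoImplicit false
set_option linter.style.haveILetI false
set_option linter.unusedVariables false
set_option linter.unusedSectionVars false

namespace Cfsg.Agent.Lib.Lead.KInf

open Cfsg
open scoped commutatorElement Pointwise

section ann

variable {G : Type*} [Group G]

/-- the elements `u` with `[M, u]` inside the normal core of `R` -/
def Ann (M R : Subgroup G) : Subgroup G where
  carrier := {u | ∀ m ∈ M, ⁅m, u⁆ ∈ R.normalCore}
  one_mem' := by
    intro m _
    have e : ⁅m, (1 : G)⁆ = 1 := by rw [commutatorElement_def]; group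
    rw [e]; exact Subgroup.one_mem _
  mul_mem' := by
    intro a b ha hb m hm
    have e : ⁅m, a * b⁆ = ⁅m, a⁆ * (a * ⁅m, b⁆ * a⁻¹) := by
      simp only [commutatorElement_def]; group
    rw [e]
    exact Subgroup.mul_mem _ (ha m hm) ((Subgroup.normalCore_normal R).conj_mem _ (hb m hm) a)
  inv_mem' := by
    intro a ha m hm
    have e : ⁅m, a⁻¹⁆ = a⁻¹ * (⁅m, a⁆)⁻¹ * a⁻¹⁻¹ := by
      simp only [commutatorElement_def]; group
    rw [e]
    exact (Subgroup.normalCore_normal R).conj_mem _ (Subgroup.inv_mem _ (ha m hm)) a⁻¹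

theorem le_Ann_iff (M R X : Subgroup G) [hR : R.Normal] : X ≤ Ann M R ↔ ⁅M, X⁆ ≤ R := by
  rw [Subgroup.commutator_le]
  constructor
  · intro h m hm x hx
    have := h hx m hm
    rwa [Subgroup.normalCore_eq_self] at this
  · intro h x hx m hm
    show ⁅m, x⁆ ∈ R.normalCore
    rw [Subgroup.normalCore_eq_self]
    exact h m hm x hx

theorem commutator_Ann_le (M R : Subgroup G) [hR : R.Normal] : ⁅M, Ann M R⁆ ≤ R :=
  (le_Ann_iff M R _).mp le_rfl

instance Ann_normal (M R : Subgroup G) [hM : M.Normal] : (Ann M R).Normal := by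
  constructor
  intro u hu x m hm
  have h1 : ⁅x⁻¹ * m * x, u⁆ ∈ R.normalCore := hu _ (by
    have := hM.conj_mem m hm x⁻¹
    rwa [inv_inv] at this)
  have e : ⁅m, x * u * x⁻¹⁆ = x * ⁅x⁻¹ * m * x, u⁆ * x⁻¹ := by
    simp only [commutatorElement_def]; group
  rw [e]
  exact (Subgroup.normalCore_normal R).conj_mem _ h1 x

theorem Ann_bot_left (R : Subgroup G) : Ann ⊥ R = ⊤ := by
  rw [eq_top_iff]
  intro u _ m hm
  rw [Subgroup.mem_bot] at hm
  subst hm
  have e : ⁅(1 : G), u⁆ = 1 := by rw [commutatorElement_def]; group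
  rw [e]; exact Subgroup.one_mem _

theorem Ann_anti {M₁ M₂ : Subgroup G} (h : M₁ ≤ M₂) (R : Subgroup G) : Ann M₂ R ≤ Ann M₁ R :=
  fun u hu m hm => hu m (h hm)

theorem Ann_bot_right_le (M : Subgroup G) : Ann M ⊥ ≤ Subgroup.centralizer (M : Set G) := by
  intro u hu
  rw [Subgroup.mem_centralizer_iff]
  intro m hm
  have h1 : ⁅m, u⁆ ∈ (⊥ : Subgroup G) := (Subgroup.normalCore_le ⊥) (hu m hm)
  rw [Subgroup.mem_bot, commutatorElement_eq_one_iff_mul_comm] at h1
  exact h1

end ann

section sup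

variable {G : Type*} [Group G]

theorem iter_le_of_sup {Y V U K : Subgroup G} [hV : V.Normal] (h : Y ⊔ V = U) (n : ℕ)
    (hY : Cfsg.iterCommutator Y K n ≤ V) : Cfsg.iterCommutator U K n ≤ V := by
  set π := QuotientGroup.mk' V with hπ
  have hker : π.ker = V := QuotientGroup.ker_mk' V
  have hVmap : V.map π = ⊥ := by
    rw [Subgroup.map_eq_bot_iff, hker]
  have hU : U.map π = Y.map π := by
    rw [← h, Subgroup.map_sup, hVmap, sup_bot_eq]
  have h1 : (Cfsg.iterCommutator U K n).map π = ⊥ := by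
    rw [iter_map, hU, ← iter_map]
    have := Subgroup.map_mono (f := π) hY
    rw [hVmap] at this
    exact le_bot_iff.mp this
  rw [Subgroup.map_eq_bot_iff, hker] at h1
  exact h1

theorem Zc_normal (Q : Subgroup G) [hQ : Q.Normal] : (Zc Q).Normal := by
  have h1 : Subgroup.normalizer (Q : Set G) = ⊤ := Subgroup.normalizer_eq_top Q
  have h2 := normalizer_le_normalizer_Zc Q
  rw [h1] at h2
  exact Subgroup.normalizer_eq_top_iff.mp (top_le_iff.mp h2)

end sup

section chief

variable {G : Type*} [Group G] [Finite G] {p : ℕ} [Fact p.Prime]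

open Cfsg.Agent.Lib.Lead.PGroup in
/-- a normal `p`-subgroup centralizes the chief factors below it -/
theorem chief_central {R R' P : Subgroup G} (hch : Cfsg.IsChiefFactor R R') [hP : P.Normal]
    (hPp : IsPGroup p ↥P) (hRP : R ≤ P) : ⁅R, P⁆ ≤ R' := by
  obtain ⟨hlt, hRn, hR'n, hmin⟩ := hch
  haveI := hRn
  haveI := hR'n
  set C : Subgroup G := R ⊓ Ann P R' with hC
  have hCn : C.Normal := inferInstance
  have hR'C : R' ≤ C := by
    refine le_inf hlt.le ?_
    rw [le_Ann_iff]
    exact Subgroup.commutator_le_right P R'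
  rcases hmin C hCn hR'C inf_le_left with h | h
  · exfalso
    -- find an element of `R \ R'` centralizing `P` modulo `R'`
    obtain ⟨x, hxR, hxR'⟩ := SetLike.exists_of_lt hlt
    set X := ↥P ⧸ (R'.subgroupOf P) with hX
    have hXp : IsPGroup p X := hPp.to_quotient _
    set H : Subgroup X := (R.subgroupOf P).map (QuotientGroup.mk' (R'.subgroupOf P)) with hH
    haveI hHn : H.Normal :=
      Subgroup.Normal.map inferInstance _ (QuotientGroup.mk'_surjective _)
    have hHb : H ≠ ⊥ := by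
      intro hb
      have h1 : QuotientGroup.mk' (R'.subgroupOf P) ⟨x, hRP hxR⟩ ∈ H :=
        Subgroup.mem_map_of_mem _ (Subgroup.mem_subgroupOf.mpr hxR)
      rw [hb, Subgroup.mem_bot, QuotientGroup.mk'_apply, QuotientGroup.eq_one_iff] at h1
      exact hxR' (Subgroup.mem_subgroupOf.mp h1)
    have h2 := normal_inf_center_ne_bot hXp H hHb
    obtain ⟨⟨z, hz⟩, hz1'⟩ := (Subgroup.ne_bot_iff_exists_ne_one).mp h2
    have hz1 : z ≠ 1 := fun h => hz1' (Subtype.ext h)
    obtain ⟨hzH, hzZ⟩ := Subgroup.mem_inf.mp hz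
    obtain ⟨y, hy, hyz⟩ := hzH
    have hyR : (y : G) ∈ R := Subgroup.mem_subgroupOf.mp hy
    have hyC : (y : G) ∈ C := by
      refine Subgroup.mem_inf.mpr ⟨hyR, ?_⟩
      intro m hm
      rw [Subgroup.normalCore_eq_self]
      have h3 := Subgroup.mem_center_iff.mp hzZ (QuotientGroup.mk' _ ⟨m, hm⟩)
      rw [← hyz, ← map_mul, ← map_mul] at h3
      have h4 : (QuotientGroup.mk' (R'.subgroupOf P)) ((⟨m, hm⟩ : ↥P) * y * (⟨m, hm⟩ : ↥P)⁻¹ * y⁻¹) = 1 := by
        rw [map_mul, map_mul, h3, map_mul, map_inv, map_inv]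
        group
      rw [QuotientGroup.mk'_apply, QuotientGroup.eq_one_iff] at h4
      exact Subgroup.mem_subgroupOf.mp h4
    rw [h] at hyC
    apply hz1
    rw [← hyz, QuotientGroup.mk'_apply, QuotientGroup.eq_one_iff]
    exact Subgroup.mem_subgroupOf.mpr hyC
  · have h1 : R ≤ Ann P R' := by
      rw [← h]; exact inf_le_right
    rw [le_Ann_iff] at h1
    rw [Subgroup.commutator_comm]
    exact h1

end chief

section main

variable {G : Type*} [Group G] [Finite G] {p : ℕ} [Fact p.Prime]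

open Cfsg.Agent.Lib.Lead.EngelTransfer in
theorem engel_bound (P : Subgroup G) [hPn : P.Normal] (hP : IsPGroup p ↥P) (Q : Subgroup G)
    [hQn : Q.Normal] (hQP : Q ≤ P) (hQ3 : ⁅P, Q⁆ ≤ Zc Q)
    (hQ4 : P ⊓ Subgroup.centralizer (Q : Set G) = Zc Q)
    (g : G) (i j : ℕ) (hi : 1 ≤ i) (hj : 1 ≤ j)
    (hQi : ∀ U V : Subgroup G, Cfsg.IsChiefFactor U V → U ≤ Q →
      Cfsg.iterCommutator U (Subgroup.zpowers g) i ≤ V)
    (hZj : ∀ U V : Subgroup G, Cfsg.IsChiefFactor U V → U ≤ Zc Q →
      Cfsg.iterCommutator U (Subgroup.zpowers g) j ≤ V) :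
    ∀ U V : Subgroup G, Cfsg.IsChiefFactor U V → U ≤ P →
      Cfsg.iterCommutator U (Subgroup.zpowers g) (i + j - 1) ≤ V := by
  intro U V hUV hUP
  obtain ⟨hlt, hUn, hVn, hmin⟩ := hUV
  haveI := hUn
  haveI := hVn
  haveI hZn : (Zc Q).Normal := Zc_normal Q
  have hbetween : ∀ N : Subgroup G, N.Normal → N ≤ U → (N ⊔ V = V ∨ N ⊔ V = U) := by
    intro N hN hNU
    haveI := hN
    exact hmin (N ⊔ V) inferInstance le_sup_right (sup_le hNU hlt.le)
  rcases hbetween (U ⊓ Q) inferInstance inf_le_left with h | h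
  · -- the main case
    have hUQV : U ⊓ Q ≤ V := by rw [← h]; exact le_sup_left
    -- Step 1 : the target
    let pR : Subgroup G → Prop := fun R => R.Normal ∧ R ≤ Zc Q ∧ (U ⊓ Ann Q R) ⊔ V = U
    have hpRZ : pR (Zc Q) := by
      refine ⟨hZn, le_rfl, ?_⟩
      have h1 : U ≤ Ann Q (Zc Q) := by
        rw [le_Ann_iff, Subgroup.commutator_comm]
        exact (Subgroup.commutator_mono hUP le_rfl).trans hQ3
      rw [inf_eq_left.mpr h1]
      exact sup_eq_left.mpr hlt.le
    obtain ⟨R, hRle, hRmin⟩ := Finite.exists_le_minimal (p := pR) hpRZ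
    obtain ⟨hRn, hRZ, hRU⟩ := hRmin.prop
    haveI := hRn
    have hRbot : R ≠ ⊥ := by
      intro hb
      have h1 : U ⊓ Ann Q R ≤ V := by
        rw [hb]
        intro x hx
        obtain ⟨hxU, hxA⟩ := Subgroup.mem_inf.mp hx
        have hxC := Ann_bot_right_le Q hxA
        have hxZ : x ∈ Zc Q := by
          rw [← hQ4]; exact Subgroup.mem_inf.mpr ⟨hUP hxU, hxC⟩
        exact hUQV (Subgroup.mem_inf.mpr ⟨hxU, (Subgroup.mem_inf.mp hxZ).1⟩)
      have h2 : (U ⊓ Ann Q R) ⊔ V = V := sup_eq_right.mpr h1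
      rw [hRU] at h2
      exact hlt.ne h2.symm
    obtain ⟨R', hRR'⟩ := exists_chief_below R hRbot
    have hR'lt : R' < R := hRR'.1
    have hR'n : R'.Normal := hRR'.2.2.1
    haveI := hR'n
    have hQR' : U ⊓ Ann Q R' ≤ V := by
      rcases hbetween (U ⊓ Ann Q R') inferInstance inf_le_left with h1 | h1
      · rw [← h1]; exact le_sup_left
      · exfalso
        have h2 : pR R' := ⟨hR'n, hR'lt.le.trans hRZ, h1⟩
        have h3 := hRmin.le_of_le h2 hR'lt.le
        exact hR'lt.not_ge h3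
    -- Step 2 : the source
    let pM : Subgroup G → Prop :=
      fun M' => M'.Normal ∧ M' ≤ Q ∧ (U ⊓ Ann Q R ⊓ Ann M' R') ⊔ V = U
    have hpMbot : pM ⊥ := ⟨inferInstance, bot_le, by rw [Ann_bot_left, inf_top_eq]; exact hRU⟩
    obtain ⟨M', _, hM'max⟩ := Finite.exists_le_maximal (p := pM) hpMbot
    obtain ⟨hM'n, hM'Q, hM'U⟩ := hM'max.prop
    haveI := hM'n
    have hM'ne : M' ≠ Q := by
      intro he
      have h1 : U ⊓ Ann Q R ⊓ Ann M' R' ≤ V := by
        rw [he]
        exact (inf_le_inf_right _ inf_le_left).trans hQR'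
      have h2 := sup_eq_right.mpr h1
      rw [hM'U] at h2
      exact hlt.ne h2.symm
    have hM'ltQ : M' < Q := lt_of_le_of_ne hM'Q hM'ne
    let pN : Subgroup G → Prop := fun M => M.Normal ∧ M' < M ∧ M ≤ Q
    obtain ⟨M, _, hMmin⟩ := Finite.exists_le_minimal (p := pN) ⟨hQn, hM'ltQ, le_rfl⟩
    obtain ⟨hMn, hM'M, hMQ⟩ := hMmin.prop
    haveI := hMn
    have hchM : Cfsg.IsChiefFactor M M' := by
      refine ⟨hM'M, hMn, hM'n, ?_⟩
      intro N hN hM'N hNM
      by_cases he : N = M'
      · left; exact he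
      · right
        have h1 : pN N := ⟨hN, lt_of_le_of_ne hM'N (Ne.symm he), hNM.trans hMQ⟩
        exact le_antisymm hNM (hMmin.le_of_le h1 hNM)
    have hYM : U ⊓ Ann Q R ⊓ Ann M R' ≤ V := by
      rcases hbetween (U ⊓ Ann Q R ⊓ Ann M R') inferInstance (inf_le_left.trans inf_le_left)
        with h1 | h1
      · rw [← h1]; exact le_sup_left
      · exfalso
        have h2 : pM M := ⟨hMn, hMQ, h1⟩
        have h3 := hM'max.le_of_ge h2 hM'M.le
        exact hM'M.not_ge h3
    -- the pairing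
    have hYU : U ⊓ Ann Q R ⊓ Ann M' R' ≤ U := inf_le_left.trans inf_le_left
    have hYP : U ⊓ Ann Q R ⊓ Ann M' R' ≤ P := hYU.trans hUP
    have f2 : ⁅M, U ⊓ Ann Q R ⊓ Ann M' R'⁆ ≤ R :=
      (Subgroup.commutator_mono hMQ (inf_le_left.trans inf_le_right)).trans (commutator_Ann_le Q R)
    have f3 : ⁅M', U ⊓ Ann Q R ⊓ Ann M' R'⁆ ≤ R' :=
      (Subgroup.commutator_mono le_rfl inf_le_right).trans (commutator_Ann_le M' R')
    have hRP : R ≤ P := hRZ.trans (inf_le_left.trans hQP)
    have f4 : ⁅R, P⁆ ≤ R' := chief_central hRR' hP hRP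
    have f4Y : ⁅R, U ⊓ Ann Q R ⊓ Ann M' R'⁆ ≤ R' := (Subgroup.commutator_mono le_rfl hYP).trans f4
    have f4M : ⁅R, M⁆ ≤ R' := (Subgroup.commutator_mono le_rfl (hMQ.trans hQP)).trans f4
    have f5M := hQi M M' hchM hMQ
    have f5R := hZj R R' hRR' hRZ
    have hker : (QuotientGroup.mk' R').ker = R' := QuotientGroup.ker_mk' R'
    have hsurj := QuotientGroup.mk'_surjective R'
    have hbot : ∀ X : Subgroup G, X ≤ R' → X.map (QuotientGroup.mk' R') = ⊥ := fun X hX => by
      rw [Subgroup.map_eq_bot_iff, hker]; exact hX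
    haveI : ((U ⊓ Ann Q R ⊓ Ann M' R').map (QuotientGroup.mk' R')).Normal :=
      Subgroup.Normal.map inferInstance _ hsurj
    haveI : (M.map (QuotientGroup.mk' R')).Normal := Subgroup.Normal.map inferInstance _ hsurj
    haveI : (M'.map (QuotientGroup.mk' R')).Normal := Subgroup.Normal.map inferInstance _ hsurj
    haveI : (R.map (QuotientGroup.mk' R')).Normal := Subgroup.Normal.map inferInstance _ hsurj
    have key := engel_pairing ((QuotientGroup.mk' R') g)
      ((U ⊓ Ann Q R ⊓ Ann M' R').map (QuotientGroup.mk' R')) (M.map (QuotientGroup.mk' R'))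
      (M'.map (QuotientGroup.mk' R')) (R.map (QuotientGroup.mk' R'))
      (by rw [← Subgroup.map_commutator]; exact Subgroup.map_mono f2)
      (by rw [← Subgroup.map_commutator]; exact hbot _ f3)
      (by rw [← Subgroup.map_commutator]; exact hbot _ f4Y)
      (by rw [← Subgroup.map_commutator]; exact hbot _ f4M)
      i j hi
      (by rw [← MonoidHom.map_zpowers, ← iter_map]; exact Subgroup.map_mono f5M)
      (by rw [← MonoidHom.map_zpowers, ← iter_map]; exact hbot _ f5R)
    rw [← MonoidHom.map_zpowers, ← iter_map, ← Subgroup.map_commutator, Subgroup.map_eq_bot_iff,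
      hker] at key
    have hDY := iter_le (U ⊓ Ann Q R ⊓ Ann M' R') (Subgroup.zpowers g) (i + j - 1)
    have h3 : Cfsg.iterCommutator (U ⊓ Ann Q R ⊓ Ann M' R') (Subgroup.zpowers g) (i + j - 1) ≤
        U ⊓ Ann Q R ⊓ Ann M R' :=
      le_inf (hDY.trans inf_le_left) ((le_Ann_iff M R' _).mpr key)
    exact iter_le_of_sup hM'U _ (h3.trans hYM)
  · -- `U = (U ⊓ Q) V`
    have hch : Cfsg.IsChiefFactor (U ⊓ Q) (V ⊓ Q) := by
      refine ⟨lt_of_le_of_ne (inf_le_inf_right Q hlt.le) ?_, inferInstance, inferInstance, ?_⟩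
      · intro he
        have h1 : U ⊓ Q ≤ V := by rw [← he]; exact inf_le_left
        have h2 : (U ⊓ Q) ⊔ V = V := sup_eq_right.mpr h1
        rw [h] at h2
        exact hlt.ne h2.symm
      · intro N hN hVN hNU
        haveI := hN
        rcases hbetween N hN (hNU.trans inf_le_left) with h1 | h1
        · left
          have h2 : N ≤ V := by rw [← h1]; exact le_sup_left
          exact le_antisymm (le_inf h2 (hNU.trans inf_le_right)) hVN
        · right
          refine le_antisymm hNU ?_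
          intro x hx
          obtain ⟨hxU, hxQ⟩ := Subgroup.mem_inf.mp hx
          have hx' : x ∈ ((N ⊔ V : Subgroup G) : Set G) := by
            show x ∈ N ⊔ V
            rw [h1]; exact hxU
          rw [Subgroup.mul_normal] at hx'
          obtain ⟨n, hn, v, hv, rfl⟩ := Set.mem_mul.mp hx'
          have hnQ : n ∈ Q := (Subgroup.mem_inf.mp (hNU hn)).2
          have hvQ : v ∈ Q := by
            have e : v = n⁻¹ * (n * v) := by group
            rw [e]; exact Q.mul_mem (Q.inv_mem hnQ) hxQ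
          exact N.mul_mem hn (hVN (Subgroup.mem_inf.mpr ⟨hv, hvQ⟩))
    have h1 := hQi _ _ hch inf_le_right
    have h2 : Cfsg.iterCommutator (U ⊓ Q) (Subgroup.zpowers g) (i + j - 1) ≤ V :=
      iter_le_of_le (by omega) (h1.trans inf_le_left)
    exact iter_le_of_sup h _ h2

end main

end Cfsg.Agent.Lib.Lead.KInf
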