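import Mathlib
import Cfsg.Agent.Lib.Lead.KInf5
import Cfsg.Agent.H1.CriticalSubgroup

/-!
# The local Engel condition for the K-infinity subgroups

If the lower or the upper K-infinity subgroup of a Sylow `p`-subgroup `S` of `X` is not normal in `X`, then some
`g ∈ S \ O_p(X)` satisfies `[U, g; 4] ≤ V` on all chief factors `U / V` below `O_p(X)`, and
`[Z(O_p(X)), g, g] = 1`.
-/

set_option autoImplicit false
set_option linter.style.haveILetI false
set_option linter.unusedVariables false
set_option linter.unusedSectionVars false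

namespace Cfsg.Agent.Lib.Lead.KInf

open Cfsg Cfsg.Agent.Lib.Helper7
open scoped commutatorElement

universe u

variable {X : Type u} [Group X] [Finite X] {p : ℕ} [Fact p.Prime]

/-- a critical subgroup of `O_p(X)`, inside `X` -/
theorem exists_critical_pCore (p : ℕ) [Fact p.Prime] (X : Type u) [Group X] [Finite X] :
    ∃ A : Subgroup X, A ≤ Cfsg.pCore p X ∧ (A.subgroupOf (Cfsg.pCore p X)).Characteristic ∧
      ⁅A, A⁆ ≤ Subgroup.centralizer (A : Set X) ∧ ⁅Cfsg.pCore p X, A⁆ ≤ Zc A ∧
      Cfsg.pCore p X ⊓ Subgroup.centralizer (A : Set X) = Zc A := by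
  set T := Cfsg.pCore p X with hT
  obtain ⟨H, hHchar, -, hH2, hH3⟩ :=
    Cfsg.Agent.H1.exists_critical_subgroup' (P := ↥T) (pCore_isPGroup p X)
  refine ⟨H.map T.subtype, Subgroup.map_subtype_le H, ?_, ?_, ?_, ?_⟩
  · have : (H.map T.subtype).subgroupOf T = H :=
      Subgroup.comap_map_eq_self_of_injective T.subtype_injective H
    rw [this]; exact hHchar
  · have h1 : ⁅H, H⁆ ≤ Subgroup.centralizer (H : Set ↥T) :=
      (Subgroup.commutator_mono le_rfl le_top).trans (hH2.trans inf_le_right)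
    have h2 : H ∈ classTwoSubgroups ↥T := h1
    exact (classTwo_map_iff T.subtype T.subtype_injective H).mpr h2
  · have h1 := Subgroup.map_mono (f := T.subtype) hH2
    rw [Subgroup.map_commutator, map_Zc T.subtype T.subtype_injective, ← MonoidHom.range_eq_map,
      Subgroup.range_subtype] at h1
    rw [Subgroup.commutator_comm]
    exact h1
  · apply le_antisymm
    · intro x hx
      obtain ⟨hxT, hxC⟩ := Subgroup.mem_inf.mp hx
      have h1 : (⟨x, hxT⟩ : ↥T) ∈ Subgroup.centralizer (H : Set ↥T) := by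
        rw [Subgroup.mem_centralizer_iff]
        intro h hh
        apply Subtype.ext
        have := Subgroup.mem_centralizer_iff.mp hxC (h : X) (Subgroup.mem_map_of_mem T.subtype hh)
        simpa using this
      have h2 : (⟨x, hxT⟩ : ↥T) ∈ H := hH3 h1
      exact Subgroup.mem_inf.mpr ⟨⟨⟨x, hxT⟩, h2, rfl⟩, hxC⟩
    · exact inf_le_inf_right _ (Subgroup.map_subtype_le H)

/-- the cubic element acts with Engel degree four on all chief factors below `O_p(X)` -/
theorem engel_four_of_cubic (A : Subgroup X) (hAT : A ≤ Cfsg.pCore p X) [hAn : A.Normal]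
    (hA3 : ⁅Cfsg.pCore p X, A⁆ ≤ Zc A)
    (hA4 : Cfsg.pCore p X ⊓ Subgroup.centralizer (A : Set X) = Zc A) {g : X} (hg : Cubic A g) :
    ∀ U V : Subgroup X, Cfsg.IsChiefFactor U V → U ≤ Cfsg.pCore p X →
      Cfsg.iterCommutator U (Subgroup.zpowers g) 4 ≤ V := by
  haveI := pCore_normal p X
  haveI hZn : (Zc A).Normal := Zc_normal A
  obtain ⟨hg3, hg2⟩ := hg
  have hZ2 : Cfsg.iterCommutator (Zc A) (Subgroup.zpowers g) 2 = ⊥ := hg2
  have hZj : ∀ U V : Subgroup X, Cfsg.IsChiefFactor U V → U ≤ Zc A →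
      Cfsg.iterCommutator U (Subgroup.zpowers g) 2 ≤ V := by
    intro U V _ hU
    have := iter_mono hU (Subgroup.zpowers g) 2
    rw [hZ2] at this
    exact this.trans bot_le
  have hQi : ∀ U V : Subgroup X, Cfsg.IsChiefFactor U V → U ≤ A →
      Cfsg.iterCommutator U (Subgroup.zpowers g) 3 ≤ V := by
    intro U V hUV hU
    obtain ⟨hlt, hUn, hVn, hmin⟩ := hUV
    haveI := hUn
    haveI := hVn
    rcases hmin ((U ⊓ Zc A) ⊔ V) inferInstance le_sup_right (sup_le inf_le_left hlt.le) with h | h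
    · have h1 : U ⊓ Zc A ≤ V := by rw [← h]; exact le_sup_left
      refine le_trans (le_inf (iter_le U _ 3) ?_) h1
      exact (iter_mono hU (Subgroup.zpowers g) 3).trans hg3
    · have h1 : Cfsg.iterCommutator (U ⊓ Zc A) (Subgroup.zpowers g) 2 ≤ V := by
        have := iter_mono (inf_le_right : U ⊓ Zc A ≤ Zc A) (Subgroup.zpowers g) 2
        rw [hZ2] at this
        exact this.trans bot_le
      exact iter_le_of_le (by norm_num) (iter_le_of_sup h 2 h1)
  have := engel_bound (Cfsg.pCore p X) (pCore_isPGroup p X) A hAT hA3 hA4 g 3 2 (by norm_num)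
    (by norm_num) hQi hZj
  exact this

/-- the local condition: Engel degree four and quadratic action on `Z(O_p(X))` -/
theorem engel_of_not_normal (S : Sylow p X)
    (hK : ¬ (Cfsg.inducedFunctor Cfsg.kInfLower (S : Subgroup X)).Normal ∨
      ¬ (Cfsg.inducedFunctor Cfsg.kInfUpper (S : Subgroup X)).Normal) :
    ∃ g : X, g ∈ (S : Subgroup X) ∧ g ∉ Cfsg.pCore p X ∧
      (∀ U V : Subgroup X, Cfsg.IsChiefFactor U V → U ≤ Cfsg.pCore p X →
        Cfsg.iterCommutator U (Subgroup.zpowers g) 4 ≤ V) ∧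
      ⁅⁅Zc (Cfsg.pCore p X), Subgroup.zpowers g⁆, Subgroup.zpowers g⁆ = ⊥ := by
  obtain ⟨A, hAT, hAchar, hA2, hA3, hA4⟩ := exists_critical_pCore p X
  haveI := pCore_normal p X
  haveI hAn : A.Normal := normal_of_characteristic_subgroupOf hAT hAchar
  obtain ⟨g, hgS, hgT, hg⟩ := exists_cubic S A hAT hAchar hA2 hA3 hK
  refine ⟨g, hgS, hgT, engel_four_of_cubic A hAT hA3 hA4 hg, ?_⟩
  have hZT : Zc (Cfsg.pCore p X) ≤ Zc A := by
    rw [← hA4]
    refine le_inf inf_le_left ?_
    exact (inf_le_right : Zc (Cfsg.pCore p X) ≤ _).trans (Subgroup.centralizer_le hAT)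
  have := Subgroup.commutator_mono (Subgroup.commutator_mono hZT (le_refl (Subgroup.zpowers g)))
    (le_refl (Subgroup.zpowers g))
  rw [hg.2] at this
  exact le_bot_iff.mp this

end Cfsg.Agent.Lib.Lead.KInf
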