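import Mathlib
import Cfsg.Agent.Lib.Lead.KInf6

/-!
# Elements acting trivially on the chief factors inside a critical subgroup

Coprime action on a normal `p`-subgroup along its chief factors, and the fact that an element acting trivially
on every chief factor inside a critical subgroup of `O_p(G)` lies in `O_p(G)` when `C_G(O_p(G)) ≤ O_p(G)`.
-/

set_option autoImplicit false
set_option linter.style.haveILetI false
set_option linter.unusedVariables false
set_option linter.unusedSectionVars false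

namespace Cfsg.Agent.Lib.Lead.KInf

open Cfsg Cfsg.Agent.Lib.Helper7
open scoped commutatorElement

section coprime

variable {G : Type*} [Group G]

theorem conj_pow_eq_of_commute {x a : G} (hc : Commute x ⁅x, a⁆) (k : ℕ) :
    x ^ k * a * (x ^ k)⁻¹ = ⁅x, a⁆ ^ k * a := by
  induction k with
  | zero => simp
  | succ k ih =>
    have h1 : x ^ (k + 1) * a * (x ^ (k + 1))⁻¹ = x * (x ^ k * a * (x ^ k)⁻¹) * x⁻¹ := by
      rw [pow_succ']; group
    have h2 : x * ⁅x, a⁆ ^ k = ⁅x, a⁆ ^ k * x := (hc.pow_right k).eq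
    have h3 : x * a * x⁻¹ = ⁅x, a⁆ * a := by rw [commutatorElement_def]; group
    calc x ^ (k + 1) * a * (x ^ (k + 1))⁻¹ = x * (⁅x, a⁆ ^ k * a) * x⁻¹ := by rw [h1, ih]
      _ = (x * ⁅x, a⁆ ^ k) * a * x⁻¹ := by group
      _ = ⁅x, a⁆ ^ k * (x * a * x⁻¹) := by rw [h2]; group
      _ = ⁅x, a⁆ ^ (k + 1) * a := by rw [h3, pow_succ]; group

/-- an element of order prime to `p` commuting with its commutator with `a`, a `p`-element, commutes with `a` -/
theorem comm_eq_one_of_coprime {p : ℕ} [Fact p.Prime] {x a : G} (hx : (orderOf x).Coprime p)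
    (hc : Commute x ⁅x, a⁆) (hp : ∃ k : ℕ, ⁅x, a⁆ ^ p ^ k = 1) : ⁅x, a⁆ = 1 := by
  have h1 := conj_pow_eq_of_commute hc (orderOf x)
  rw [pow_orderOf_eq_one] at h1
  have h2 : ⁅x, a⁆ ^ orderOf x = 1 := by
    have : a = ⁅x, a⁆ ^ orderOf x * a := by simpa using h1
    exact (mul_eq_right.mp this.symm)
  obtain ⟨k, hk⟩ := hp
  have h3 : orderOf ⁅x, a⁆ ∣ orderOf x := orderOf_dvd_of_pow_eq_one h2
  have h4 : orderOf ⁅x, a⁆ ∣ p ^ k := orderOf_dvd_of_pow_eq_one hk
  have h5 : (orderOf x).Coprime (p ^ k) := Nat.Coprime.pow_right k hx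
  have h6 : orderOf ⁅x, a⁆ = 1 := Nat.eq_one_of_dvd_coprimes h5 h3 h4
  exact orderOf_eq_one_iff.mp h6

end coprime

section chief

variable {G : Type*} [Group G] [Finite G] {p : ℕ} [Fact p.Prime]

open Cfsg.Agent.Lib.Lead.EngelTransfer in
/-- an element of order prime to `p` acting trivially on the chief factors inside the normal `p`-subgroup `A`
centralizes `A` -/
theorem comm_eq_one_of_trivial_on_chief (A : Subgroup G) [hAn : A.Normal] (hA : IsPGroup p ↥A) {x : G}
    (hx : (orderOf x).Coprime p)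
    (h : ∀ U V : Subgroup G, Cfsg.IsChiefFactor U V → U ≤ A → ∀ u ∈ U, ⁅x, u⁆ ∈ V) :
    ∀ a ∈ A, ⁅x, a⁆ = 1 := by
  by_contra hcon
  let bad : Subgroup G → Prop := fun Y => Y.Normal ∧ Y ≤ A ∧ ¬ ∀ a ∈ Y, ⁅x, a⁆ = 1
  have hbadA : bad A := ⟨hAn, le_rfl, hcon⟩
  obtain ⟨Y, -, hYmin⟩ := Finite.exists_le_minimal (p := bad) hbadA
  obtain ⟨hYn, hYA, hYbad⟩ := hYmin.prop
  haveI := hYn
  have hYbot : Y ≠ ⊥ := by
    intro hb
    apply hYbad
    intro a ha
    rw [hb, Subgroup.mem_bot] at ha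
    rw [ha]
    simp
  obtain ⟨Y', hch⟩ := exists_chief_below Y hYbot
  have hlt : Y' < Y := hch.1
  have hY'n : Y'.Normal := hch.2.2.1
  have hY'good : ∀ a ∈ Y', ⁅x, a⁆ = 1 := by
    by_contra hc
    have hb : bad Y' := ⟨hY'n, hlt.le.trans hYA, hc⟩
    exact hlt.not_ge (hYmin.le_of_le hb hlt.le)
  apply hYbad
  intro a ha
  have h1 : ⁅x, a⁆ ∈ Y' := h Y Y' hch hYA a ha
  have h2 : Commute x ⁅x, a⁆ := by
    have := hY'good _ h1
    rw [commutatorElement_eq_one_iff_commute] at this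
    exact this
  have h3 : ∃ k : ℕ, ⁅x, a⁆ ^ p ^ k = 1 := by
    obtain ⟨k, hk⟩ := hA ⟨⁅x, a⁆, hYA (hlt.le h1)⟩
    refine ⟨k, ?_⟩
    have := congrArg Subtype.val hk
    simpa using this
  exact comm_eq_one_of_coprime hx h2 h3

/-- the `p'`-part of an element -/
theorem exists_pow_coprime (k : G) : ∃ a : ℕ, (orderOf (k ^ p ^ a)).Coprime p := by
  have hpos : 0 < orderOf k := orderOf_pos k
  obtain ⟨a, m, hm, hkm⟩ := Nat.exists_eq_pow_mul_and_not_dvd hpos.ne' p (Fact.out : p.Prime).ne_one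
  refine ⟨a, ?_⟩
  have h1 : orderOf (k ^ p ^ a) = m := by
    rw [orderOf_pow' k (pow_ne_zero a (Fact.out : p.Prime).ne_zero), hkm]
    have : Nat.gcd (p ^ a * m) (p ^ a) = p ^ a := Nat.gcd_eq_right (Dvd.intro _ rfl)
    rw [this, Nat.mul_div_cancel_left _ (pow_pos (Fact.out : p.Prime).pos a)]
  rw [h1]
  exact (Nat.Coprime.symm ((Nat.Prime.coprime_iff_not_dvd Fact.out).mpr hm))

/-- an element acting trivially on all chief factors inside a critical subgroup of `O_p(G)` lies in `O_p(G)`,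
when `C_G(O_p(G)) ≤ O_p(G)` -/
theorem mem_pCore_of_trivial_on_chief (A : Subgroup G) [hAn : A.Normal] (hAT : A ≤ Cfsg.pCore p G)
    (hA5 : ∀ φ : MulAut ↥(Cfsg.pCore p G), (orderOf φ).Coprime p →
      (∀ a : ↥(Cfsg.pCore p G), (a : G) ∈ A → φ a = a) → φ = 1)
    (hCT : Subgroup.centralizer ((Cfsg.pCore p G : Subgroup G) : Set G) ≤ Cfsg.pCore p G) {g : G}
    (h : ∀ U V : Subgroup G, Cfsg.IsChiefFactor U V → U ≤ A → ⁅U, Subgroup.zpowers g⁆ ≤ V) :
    g ∈ Cfsg.pCore p G := by
  haveI hTn := pCore_normal p G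
  have hTp := pCore_isPGroup p G
  have hAp : IsPGroup p ↥A := hTp.to_le hAT
  set K : Subgroup G := Subgroup.normalClosure {g} with hK
  have hKAnn : ∀ U V : Subgroup G, Cfsg.IsChiefFactor U V → U ≤ A → K ≤ Ann U V := by
    intro U V hch hUA
    haveI := hch.2.1
    haveI := hch.2.2.1
    apply Subgroup.normalClosure_le_normal
    intro y hy
    rw [Set.mem_singleton_iff] at hy
    subst hy
    have : Subgroup.zpowers y ≤ Ann U V := by
      rw [le_Ann_iff]; exact h U V hch hUA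
    exact this (Subgroup.mem_zpowers y)
  have hKtriv : ∀ k ∈ K, ∀ U V : Subgroup G, Cfsg.IsChiefFactor U V → U ≤ A →
      ∀ u ∈ U, ⁅k, u⁆ ∈ V := by
    intro k hk U V hch hUA u hu
    haveI := hch.2.2.1
    have h1 := hKAnn U V hch hUA hk u hu
    rw [Subgroup.normalCore_eq_self] at h1
    have e : ⁅k, u⁆ = ⁅u, k⁆⁻¹ := (commutatorElement_inv u k).symm
    rw [e]
    exact V.inv_mem h1
  have hKp : IsPGroup p ↥K := by
    intro ⟨k, hk⟩
    obtain ⟨a, ha⟩ := exists_pow_coprime (p := p) k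
    refine ⟨a, ?_⟩
    apply Subtype.ext
    show k ^ p ^ a = 1
    set x := k ^ p ^ a with hx
    have hxK : x ∈ K := K.pow_mem hk _
    have hxA : ∀ b ∈ A, ⁅x, b⁆ = 1 :=
      comm_eq_one_of_trivial_on_chief A hAp ha (hKtriv x hxK)
    -- conjugation by `x` on `O_p(G)`
    set φ : MulAut ↥(Cfsg.pCore p G) := MulAut.conjNormal x with hφ
    have hφord : (orderOf φ).Coprime p := by
      have h1 : orderOf φ ∣ orderOf x := by
        have : φ = (MulAut.conjNormal : G →* MulAut ↥(Cfsg.pCore p G)) x := rfl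
        rw [this]
        exact orderOf_map_dvd _ x
      exact Nat.Coprime.coprime_dvd_left h1 ha
    have hφA : ∀ b : ↥(Cfsg.pCore p G), (b : G) ∈ A → φ b = b := by
      intro b hb
      apply Subtype.ext
      rw [hφ, MulAut.conjNormal_apply]
      have := hxA b hb
      rw [commutatorElement_eq_one_iff_mul_comm] at this
      rw [this]; group
    have hφ1 := hA5 φ hφord hφA
    have hxC : x ∈ Subgroup.centralizer ((Cfsg.pCore p G : Subgroup G) : Set G) := by
      rw [Subgroup.mem_centralizer_iff]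
      intro t ht
      have h1 : φ ⟨t, ht⟩ = ⟨t, ht⟩ := by rw [hφ1]; rfl
      have h2 := congrArg Subtype.val h1
      rw [hφ, MulAut.conjNormal_apply] at h2
      simp only at h2
      calc t * x = (x * t * x⁻¹) * x := by rw [h2]
        _ = x * t := by group
    have hxT : x ∈ Cfsg.pCore p G := hCT hxC
    obtain ⟨b, hb⟩ := hTp ⟨x, hxT⟩
    have hb' : x ^ p ^ b = 1 := by
      have := congrArg Subtype.val hb
      simpa using this
    have h3 : orderOf x ∣ p ^ b := orderOf_dvd_of_pow_eq_one hb'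
    have h4 : orderOf x = 1 :=
      Nat.eq_one_of_dvd_coprimes (Nat.Coprime.pow_right b ha) dvd_rfl h3
    exact orderOf_eq_one_iff.mp h4
  have hKT : K ≤ Cfsg.pCore p G := le_pCore Subgroup.normalClosure_normal hKp
  exact hKT (Subgroup.subset_normalClosure (Set.mem_singleton g))

end chief

end Cfsg.Agent.Lib.Lead.KInf
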