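import Mathlib
import Cfsg.Agent.Lib.Lead.KInf10

/-!
# Normal subgroups acting on a chief factor through a `p`-group

If every element of order prime to `p` of the normal subgroup `N` centralizes the chief factor `X / V`
(a `p`-group), then `N` centralizes `X / V`.
-/

set_option autoImplicit false
set_option linter.style.haveILetI false
set_option linter.unusedVariables false
set_option linter.unusedSectionVars false

namespace Cfsg.Agent.Lib.Lead.KInf

open Cfsg Cfsg.Agent.Lib.Helper7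
open scoped commutatorElement

section fp

variable {G : Type*} [Group G] [Finite G] {p : ℕ} [Fact p.Prime]

/-- the elements `n` with `[n, y] ∈ V` -/
def fixMod (y : G) (V : Subgroup G) [hV : V.Normal] : Subgroup G where
  carrier := {n | ⁅n, y⁆ ∈ V}
  one_mem' := by
    show ⁅(1 : G), y⁆ ∈ V
    have e : ⁅(1 : G), y⁆ = 1 := by rw [commutatorElement_def]; group
    rw [e]; exact V.one_mem
  mul_mem' := by
    intro n m hn hm
    show ⁅n * m, y⁆ ∈ V
    have e : ⁅n * m, y⁆ = n * ⁅m, y⁆ * n⁻¹ * ⁅n, y⁆ := by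
      simp only [commutatorElement_def]; group
    rw [e]
    exact V.mul_mem (hV.conj_mem _ hm n) hn
  inv_mem' := by
    intro n hn
    show ⁅n⁻¹, y⁆ ∈ V
    have e : ⁅n⁻¹, y⁆ = n⁻¹ * (⁅n, y⁆)⁻¹ * n⁻¹⁻¹ := by
      simp only [commutatorElement_def]; group
    rw [e]
    exact hV.conj_mem _ (V.inv_mem hn) n⁻¹

theorem mem_fixMod {y : G} {V : Subgroup G} [hV : V.Normal] {n : G} :
    n ∈ fixMod y V ↔ ⁅n, y⁆ ∈ V := Iff.rfl

open Cfsg.Agent.Lib.Lead.PGroup in
/-- in a `p`-group `H ≥ X > V`, some element of `X \ V` is central modulo `V` -/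
theorem exists_central_mod {H X V : Subgroup G} (hH : IsPGroup p ↥H) (hXH : X ≤ H) (hVX : V < X)
    [hVn : V.Normal] [hXn : X.Normal] : ∃ y ∈ X, y ∉ V ∧ ∀ h ∈ H, ⁅h, y⁆ ∈ V := by
  obtain ⟨x, hxX, hxV⟩ := SetLike.exists_of_lt hVX
  set Q := ↥H ⧸ (V.subgroupOf H) with hQ
  have hQp : IsPGroup p Q := hH.to_quotient _
  set I : Subgroup Q := (X.subgroupOf H).map (QuotientGroup.mk' (V.subgroupOf H)) with hI
  haveI hIn : I.Normal :=
    Subgroup.Normal.map inferInstance _ (QuotientGroup.mk'_surjective _)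
  have hIb : I ≠ ⊥ := by
    intro hb
    have h1 : QuotientGroup.mk' (V.subgroupOf H) ⟨x, hXH hxX⟩ ∈ I :=
      Subgroup.mem_map_of_mem _ (Subgroup.mem_subgroupOf.mpr hxX)
    rw [hb, Subgroup.mem_bot, QuotientGroup.mk'_apply, QuotientGroup.eq_one_iff] at h1
    exact hxV (Subgroup.mem_subgroupOf.mp h1)
  have h2 := normal_inf_center_ne_bot hQp I hIb
  obtain ⟨⟨z, hz⟩, hz1'⟩ := (Subgroup.ne_bot_iff_exists_ne_one).mp h2
  have hz1 : z ≠ 1 := fun h => hz1' (Subtype.ext h)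
  obtain ⟨hzI, hzZ⟩ := Subgroup.mem_inf.mp hz
  obtain ⟨y, hy, hyz⟩ := hzI
  have hyX : (y : G) ∈ X := Subgroup.mem_subgroupOf.mp hy
  refine ⟨(y : G), hyX, ?_, ?_⟩
  · intro hyV
    apply hz1
    rw [← hyz, QuotientGroup.mk'_apply, QuotientGroup.eq_one_iff]
    exact Subgroup.mem_subgroupOf.mpr hyV
  · intro m hm
    have h3 := Subgroup.mem_center_iff.mp hzZ (QuotientGroup.mk' _ ⟨m, hm⟩)
    rw [← hyz, ← map_mul, ← map_mul] at h3
    have h4 : (QuotientGroup.mk' (V.subgroupOf H))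
        ((⟨m, hm⟩ : ↥H) * y * (⟨m, hm⟩ : ↥H)⁻¹ * y⁻¹) = 1 := by
      rw [map_mul, map_mul, h3, map_mul, map_inv, map_inv]
      group
    rw [QuotientGroup.mk'_apply, QuotientGroup.eq_one_iff] at h4
    exact Subgroup.mem_subgroupOf.mp h4

/-- a normal subgroup is the join of a Sylow `p`-subgroup with any normal subgroup of `p`-power index -/
theorem sup_sylow_eq_top {N : Type*} [Group N] [Finite N] (K : Subgroup N) [hK : K.Normal]
    (hq : ∀ n : N, ∃ a : ℕ, n ^ p ^ a ∈ K) (Q : Sylow p N) : K ⊔ (Q : Subgroup N) = ⊤ := by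
  have hquot : IsPGroup p (N ⧸ K) := by
    intro q
    induction q using QuotientGroup.induction_on with
    | H n =>
      obtain ⟨a, ha⟩ := hq n
      refine ⟨a, ?_⟩
      rw [← QuotientGroup.mk_pow, QuotientGroup.eq_one_iff]
      exact ha
  obtain ⟨k, hk⟩ := IsPGroup.iff_card.mp hquot
  have hKidx : K.index = p ^ k := by rw [Subgroup.index_eq_card]; exact hk
  have hQidx : ¬ p ∣ (Q : Subgroup N).index := Q.not_dvd_index
  have h1 : (K ⊔ (Q : Subgroup N)).index ∣ p ^ k := by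
    rw [← hKidx]; exact Subgroup.index_dvd_of_le le_sup_left
  have h2 : (K ⊔ (Q : Subgroup N)).index ∣ (Q : Subgroup N).index :=
    Subgroup.index_dvd_of_le le_sup_right
  obtain ⟨j, -, hj⟩ := (Nat.dvd_prime_pow (Fact.out : p.Prime)).mp h1
  rw [← Subgroup.index_eq_one]
  rcases Nat.eq_zero_or_pos j with h0 | hpos
  · rw [hj, h0, pow_zero]
  · exfalso
    apply hQidx
    refine dvd_trans ?_ h2
    rw [hj]
    exact dvd_pow_self p hpos.ne'

/-- a normal subgroup whose elements of order prime to `p` centralize the chief factor `X / V` centralizes it -/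
theorem le_Ann_of_pprime {X V N : Subgroup G} (hch : Cfsg.IsChiefFactor X V) (hXp : IsPGroup p ↥X)
    [hNn : N.Normal] (h : ∀ n ∈ N, (orderOf n).Coprime p → n ∈ Ann X V) : N ≤ Ann X V := by
  obtain ⟨hlt, hXn, hVn, hmin⟩ := hch
  haveI := hXn
  haveI := hVn
  obtain ⟨Q⟩ := (inferInstance : Nonempty (Sylow p ↥N))
  set Qt : Subgroup G := (Q : Subgroup ↥N).map N.subtype with hQt
  set K' : Subgroup ↥N := (Ann X V).subgroupOf N with hK'
  haveI hK'n : K'.Normal := inferInstance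
  have hq : ∀ n : ↥N, ∃ a : ℕ, n ^ p ^ a ∈ K' := by
    intro ⟨n, hn⟩
    obtain ⟨a, ha⟩ := exists_pow_coprime (p := p) n
    refine ⟨a, ?_⟩
    rw [Subgroup.mem_subgroupOf]
    exact h _ (N.pow_mem hn _) ha
  have htop := sup_sylow_eq_top K' hq Q
  have hsup : N ≤ (Ann X V ⊓ N) ⊔ Qt := by
    intro n hn
    have h1 : (⟨n, hn⟩ : ↥N) ∈ K' ⊔ (Q : Subgroup ↥N) := by rw [htop]; exact Subgroup.mem_top _
    have h2 : N.subtype ⟨n, hn⟩ ∈ (K' ⊔ (Q : Subgroup ↥N)).map N.subtype :=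
      Subgroup.mem_map_of_mem _ h1
    rw [Subgroup.map_sup] at h2
    have h3 : K'.map N.subtype ⊔ (Q : Subgroup ↥N).map N.subtype ≤ (Ann X V ⊓ N) ⊔ Qt := by
      refine sup_le_sup_right ?_ _
      rintro _ ⟨⟨m, hm⟩, hmK, rfl⟩
      exact Subgroup.mem_inf.mpr ⟨Subgroup.mem_subgroupOf.mp hmK, hm⟩
    exact h3 h2
  have hQtp : IsPGroup p ↥Qt := by
    intro ⟨q, hq⟩
    obtain ⟨q0, hq0, rfl⟩ := hq
    obtain ⟨k, hk⟩ := Q.isPGroup' ⟨q0, hq0⟩
    refine ⟨k, ?_⟩
    apply Subtype.ext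
    have := congrArg (fun t : ↥(Q : Subgroup ↥N) => ((t : ↥N) : G)) hk
    simpa using this
  have hHp : IsPGroup p ↥(X ⊔ Qt) := IsPGroup.to_sup_of_normal_left hXp hQtp
  obtain ⟨y, hyX, hyV, hyH⟩ := exists_central_mod hHp (le_sup_left : X ≤ X ⊔ Qt) hlt
  have hNE : N ≤ fixMod y V := by
    refine hsup.trans (sup_le ?_ ?_)
    · intro n hn
      have h1 := (Subgroup.mem_inf.mp hn).1 y hyX
      rw [Subgroup.normalCore_eq_self] at h1
      rw [mem_fixMod]
      have e : ⁅n, y⁆ = ⁅y, n⁆⁻¹ := (commutatorElement_inv y n).symm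
      rw [e]
      exact V.inv_mem h1
    · intro n hn
      exact hyH n (le_sup_right (a := X) hn)
  set C' : Subgroup G := X ⊓ Ann N V with hC'
  haveI : C'.Normal := inferInstance
  have hVC : V ≤ C' := by
    refine le_inf hlt.le ?_
    rw [le_Ann_iff]
    exact Subgroup.commutator_le_right N V
  have hyC : y ∈ C' := by
    refine Subgroup.mem_inf.mpr ⟨hyX, ?_⟩
    intro m hm
    rw [Subgroup.normalCore_eq_self]
    exact hNE hm
  rcases hmin C' inferInstance hVC inf_le_left with h1 | h1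
  · exfalso
    rw [h1] at hyC
    exact hyV hyC
  · have h2 : X ≤ Ann N V := by rw [← h1]; exact inf_le_right
    rw [le_Ann_iff] at h2
    rw [le_Ann_iff, Subgroup.commutator_comm]
    exact h2

end fp

end Cfsg.Agent.Lib.Lead.KInf
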