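import Mathlib
import Cfsg.Agent.Lib.Lead.KInf11

/-!
# A commutator lemma for a class-two chief factor (Lemma K)

`X / V` a chief factor, `V` central in `X`, `X` of class at most two, `P = [X, X]` without involutions,
`g` in the normal subgroup `N`, acting quadratically on `P`, and `[g, [x', [g, [g, x]]]] ∈ C`;
if `[N, [N, P]] ⊆ C` then `[g, P] ⊆ C`.
-/

set_option autoImplicit false
set_option linter.style.haveILetI false
set_option linter.unusedVariables false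
set_option linter.unusedSectionVars false

namespace Cfsg.Agent.Lib.Lead.KInf

open Cfsg
open scoped commutatorElement

section conj

variable {G : Type*} [Group G]

/-- the conjugate `h⁻¹ U h`, as the preimage of `U` under conjugation by `h` -/
def conjSub (h : G) (U : Subgroup G) : Subgroup G := U.comap (MulAut.conj h).toMonoidHom

theorem mem_conjSub {h x : G} {U : Subgroup G} : x ∈ conjSub h U ↔ h * x * h⁻¹ ∈ U := Iff.rfl

theorem conjSub_mono (h : G) {U U' : Subgroup G} (hU : U ≤ U') : conjSub h U ≤ conjSub h U' :=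
  fun x hx => mem_conjSub.mpr (hU (mem_conjSub.mp hx))

theorem conjSub_conjSub (a b : G) (U : Subgroup G) :
    conjSub a (conjSub b U) = conjSub (b * a) U := by
  ext x
  rw [mem_conjSub, mem_conjSub, mem_conjSub]
  have e : b * (a * x * a⁻¹) * b⁻¹ = b * a * x * (b * a)⁻¹ := by group
  rw [e]

theorem conjSub_one (U : Subgroup G) : conjSub 1 U = U := by
  ext x
  rw [mem_conjSub]
  simp

theorem conjSub_inv_cancel (h : G) (U : Subgroup G) : conjSub h (conjSub h⁻¹ U) = U := by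
  rw [conjSub_conjSub, inv_mul_cancel, conjSub_one]

theorem conjSub_inv_cancel' (h : G) (U : Subgroup G) : conjSub h⁻¹ (conjSub h U) = U := by
  rw [conjSub_conjSub, mul_inv_cancel, conjSub_one]

theorem conjSub_normal (h : G) (V : Subgroup G) [hV : V.Normal] : conjSub h V = V := by
  ext x
  rw [mem_conjSub]
  constructor
  · intro hx
    have h1 := hV.conj_mem _ hx h⁻¹
    have e : h⁻¹ * (h * x * h⁻¹) * h⁻¹⁻¹ = x := by group
    rwa [e] at h1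
  · intro hx
    exact hV.conj_mem _ hx h

/-- `U` is normalized by `N` -/
def NInv (N U : Subgroup G) : Prop := ∀ n ∈ N, ∀ u ∈ U, n * u * n⁻¹ ∈ U

theorem NInv_conjSub {N U : Subgroup G} [hN : N.Normal] (h : G) (hU : NInv N U) :
    NInv N (conjSub h U) := by
  intro n hn x hx
  rw [mem_conjSub] at hx ⊢
  have e : h * (n * x * n⁻¹) * h⁻¹ = (h * n * h⁻¹) * (h * x * h⁻¹) * (h * n * h⁻¹)⁻¹ := by group
  rw [e]
  exact hU _ (hN.conj_mem _ hn h) _ hx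

theorem NInv_inf {N U U' : Subgroup G} (h : NInv N U) (h' : NInv N U') : NInv N (U ⊓ U') :=
  fun n hn u hu => Subgroup.mem_inf.mpr
    ⟨h n hn u (Subgroup.mem_inf.mp hu).1, h' n hn u (Subgroup.mem_inf.mp hu).2⟩

theorem NInv_of_normal (N U : Subgroup G) [hU : U.Normal] : NInv N U :=
  fun n _ u hu => hU.conj_mem u hu n

/-- `U` is minimal among the subgroups of `X` normalized by `N` and properly containing `V` -/
def IsMinN (N X V U : Subgroup G) : Prop :=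
  V < U ∧ U ≤ X ∧ NInv N U ∧
    ∀ U1 : Subgroup G, V ≤ U1 → U1 ≤ U → NInv N U1 → U1 = V ∨ U1 = U

theorem exists_isMinN [Finite G] (N X V : Subgroup G) [X.Normal] (hVX : V < X) :
    ∃ U, IsMinN N X V U := by
  let pr : Subgroup G → Prop := fun U => V < U ∧ U ≤ X ∧ NInv N U
  have hX : pr X := ⟨hVX, le_rfl, NInv_of_normal N X⟩
  obtain ⟨U, -, hUmin⟩ := Finite.exists_le_minimal (p := pr) hX
  obtain ⟨h1, h2, h3⟩ := hUmin.prop
  refine ⟨U, h1, h2, h3, ?_⟩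
  intro U1 hV1 h1U hinv
  by_cases hc : U1 = V
  · exact Or.inl hc
  · right
    have hlt : V < U1 := lt_of_le_of_ne hV1 (Ne.symm hc)
    exact le_antisymm h1U (hUmin.le_of_le ⟨hlt, h1U.trans h2, hinv⟩ h1U)

theorem isMinN_conjSub {N X V U : Subgroup G} [N.Normal] [X.Normal] [V.Normal] (h : G)
    (hU : IsMinN N X V U) : IsMinN N X V (conjSub h U) := by
  obtain ⟨h1, h2, h3, h4⟩ := hU
  refine ⟨?_, ?_, NInv_conjSub h h3, ?_⟩
  · refine lt_of_le_not_ge ?_ ?_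
    · have h5 := conjSub_mono h h1.le
      rwa [conjSub_normal h V] at h5
    · intro hle
      have h5 := conjSub_mono h⁻¹ hle
      rw [conjSub_inv_cancel', conjSub_normal h⁻¹ V] at h5
      exact h1.not_ge h5
  · have h5 := conjSub_mono h h2
    rwa [conjSub_normal h X] at h5
  · intro U1 hV1 h1U hinv
    have a1 : V ≤ conjSub h⁻¹ U1 := by
      have h5 := conjSub_mono h⁻¹ hV1
      rwa [conjSub_normal h⁻¹ V] at h5
    have a2 : conjSub h⁻¹ U1 ≤ U := by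
      have h5 := conjSub_mono h⁻¹ h1U
      rwa [conjSub_inv_cancel'] at h5
    rcases h4 _ a1 a2 (NInv_conjSub h⁻¹ hinv) with h5 | h5
    · left
      have h6 := congrArg (conjSub h) h5
      rwa [conjSub_inv_cancel, conjSub_normal h V] at h6
    · right
      have h6 := congrArg (conjSub h) h5
      rwa [conjSub_inv_cancel] at h6

/-- Clifford: `X` is generated by the minimal `N`-invariant subgroups over `V` -/
theorem le_of_forall_isMinN [Finite G] {N X V : Subgroup G} [N.Normal]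
    (hch : Cfsg.IsChiefFactor X V) (Y : Subgroup G) (hY : ∀ U, IsMinN N X V U → U ≤ Y) : X ≤ Y := by
  obtain ⟨hlt, hXn, hVn, hmin⟩ := hch
  haveI := hXn
  haveI := hVn
  set J : Subgroup G := sSup {U | IsMinN N X V U} with hJ
  have hJX : J ≤ X := sSup_le (fun U hU => hU.2.1)
  obtain ⟨U0, hU0⟩ := exists_isMinN N X V hlt
  have hVJ : V < J := lt_of_lt_of_le hU0.1 (le_sSup hU0)
  have hJn : J.Normal := by
    constructor
    intro j hj h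
    have hle : J ≤ conjSub h J := by
      refine sSup_le ?_
      intro U hU
      have h1 : conjSub h⁻¹ U ≤ J := le_sSup (isMinN_conjSub h⁻¹ hU)
      have h2 := conjSub_mono h h1
      rwa [conjSub_inv_cancel] at h2
    exact hle hj
  rcases hmin J hJn hVJ.le hJX with h1 | h1
  · exact absurd h1 (ne_of_gt hVJ)
  · rw [← h1]
    exact sSup_le (fun U hU => hY U hU)

end conj

section lemmaK

variable {G : Type*} [Group G]

/-- the hypotheses of Lemma K -/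
structure KHyp (N X V C : Subgroup G) (g : G) : Prop where
  hNn : N.Normal
  hg : g ∈ N
  hch : Cfsg.IsChiefFactor X V
  hVc : ∀ v ∈ V, ∀ x ∈ X, Commute v x
  hPc : ∀ z ∈ ⁅X, X⁆, ∀ x ∈ X, Commute z x
  h5 : ∀ z ∈ ⁅X, X⁆, z * z = 1 → z = 1
  h6 : ∀ z ∈ ⁅X, X⁆, ∀ n ∈ N, ∀ n' ∈ N, ⁅n', ⁅n, z⁆⁆ ∈ C
  h7 : ∀ z ∈ ⁅X, X⁆, ⁅g, ⁅g, z⁆⁆ = 1
  h8 : ∀ x ∈ X, ∀ x' ∈ X, ⁅g, ⁅x', ⁅g, ⁅g, x⁆⁆⁆⁆ ∈ C

namespace KHyp

variable {N X V C : Subgroup G} {g : G} (H : KHyp N X V C g)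
include H

theorem hXn : X.Normal := H.hch.2.1

theorem hVn : V.Normal := H.hch.2.2.1

theorem hVX : V ≤ X := H.hch.1.le

theorem comm_mem {x y : G} (hx : x ∈ X) (hy : y ∈ X) : ⁅x, y⁆ ∈ ⁅X, X⁆ :=
  Subgroup.commutator_mem_commutator hx hy

theorem P_le : ⁅X, X⁆ ≤ X := by
  haveI := H.hXn
  exact Subgroup.commutator_le_left X X

theorem d_mem {x : G} (hx : x ∈ X) (n : G) : ⁅n, x⁆ ∈ X := by
  rw [commutatorElement_def]
  exact X.mul_mem (H.hXn.conj_mem x hx n) (X.inv_mem hx)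

theorem dP_mem {z : G} (hz : z ∈ ⁅X, X⁆) (n : G) : ⁅n, z⁆ ∈ ⁅X, X⁆ := by
  haveI := H.hXn
  have hPn : (⁅X, X⁆ : Subgroup G).Normal := inferInstance
  rw [commutatorElement_def]
  exact Subgroup.mul_mem _ (hPn.conj_mem z hz n) (Subgroup.inv_mem _ hz)

theorem lam_mul_left {x y z : G} (hx : x ∈ X) (hy : y ∈ X) (hz : z ∈ X) :
    ⁅x * y, z⁆ = ⁅x, z⁆ * ⁅y, z⁆ := by
  have e : ⁅x * y, z⁆ = (x * ⁅y, z⁆ * x⁻¹) * ⁅x, z⁆ := by
    simp only [commutatorElement_def]; group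
  have c1 : x * ⁅y, z⁆ * x⁻¹ = ⁅y, z⁆ := by
    have h1 := (H.hPc _ (H.comm_mem hy hz) x hx).eq
    rw [← h1, mul_inv_cancel_right]
  rw [e, c1]
  exact (H.hPc _ (H.comm_mem hy hz) _ (H.P_le (H.comm_mem hx hz))).eq

theorem lam_mul_right {x y z : G} (hx : x ∈ X) (hy : y ∈ X) (hz : z ∈ X) :
    ⁅x, y * z⁆ = ⁅x, y⁆ * ⁅x, z⁆ := by
  have e : ⁅x, y * z⁆ = ⁅x, y⁆ * (y * ⁅x, z⁆ * y⁻¹) := by
    simp only [commutatorElement_def]; group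
  have c1 : y * ⁅x, z⁆ * y⁻¹ = ⁅x, z⁆ := by
    have h1 := (H.hPc _ (H.comm_mem hx hz) y hy).eq
    rw [← h1, mul_inv_cancel_right]
  rw [e, c1]

theorem lam_V_left {v x : G} (hv : v ∈ V) (hx : x ∈ X) : ⁅v, x⁆ = 1 :=
  commutatorElement_eq_one_iff_commute.mpr (H.hVc v hv x hx)

theorem lam_V_right {v x : G} (hx : x ∈ X) (hv : v ∈ V) : ⁅x, v⁆ = 1 :=
  commutatorElement_eq_one_iff_commute.mpr (H.hVc v hv x hx).symm

theorem del_mul {z w : G} (hz : z ∈ ⁅X, X⁆) (hw : w ∈ ⁅X, X⁆) :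
    ⁅g, z * w⁆ = ⁅g, z⁆ * ⁅g, w⁆ := by
  have e : ⁅g, z * w⁆ = ⁅g, z⁆ * (z * ⁅g, w⁆ * z⁻¹) := by
    simp only [commutatorElement_def]; group
  have c1 : z * ⁅g, w⁆ * z⁻¹ = ⁅g, w⁆ := by
    have h1 := (H.hPc z hz _ (H.P_le (H.dP_mem hw g))).eq
    rw [h1, mul_inv_cancel_right]
  rw [e, c1]

theorem del_inv {z : G} (hz : z ∈ ⁅X, X⁆) : ⁅g, z⁻¹⁆ = (⁅g, z⁆)⁻¹ := by
  have h1 := H.del_mul hz (Subgroup.inv_mem _ hz)
  rw [mul_inv_cancel, commutatorElement_one_right] at h1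
  exact eq_inv_of_mul_eq_one_right h1.symm

theorem kap_symm {x x' : G} (hx : x ∈ X) (hx' : x' ∈ X) :
    ⁅g, ⁅x', x⁆⁆ = (⁅g, ⁅x, x'⁆⁆)⁻¹ := by
  rw [← commutatorElement_inv x x', H.del_inv (H.comm_mem hx hx')]

theorem kap_mem_symm {x x' : G} (hx : x ∈ X) (hx' : x' ∈ X) (h : ⁅g, ⁅x, x'⁆⁆ ∈ C) :
    ⁅g, ⁅x', x⁆⁆ ∈ C := by
  rw [H.kap_symm hx hx']
  exact C.inv_mem h

theorem kap_mul_left {x y s : G} (hx : x ∈ X) (hy : y ∈ X) (hs : s ∈ X) :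
    ⁅g, ⁅x * y, s⁆⁆ = ⁅g, ⁅x, s⁆⁆ * ⁅g, ⁅y, s⁆⁆ := by
  rw [H.lam_mul_left hx hy hs, H.del_mul (H.comm_mem hx hs) (H.comm_mem hy hs)]

theorem kap_conj_mem {n x x' : G} (hn : n ∈ N) (hx : x ∈ X) (hx' : x' ∈ X)
    (h : ⁅g, ⁅x, x'⁆⁆ ∈ C) : ⁅g, ⁅n * x * n⁻¹, n * x' * n⁻¹⁆⁆ ∈ C := by
  have e : ⁅n * x * n⁻¹, n * x' * n⁻¹⁆ = ⁅n, ⁅x, x'⁆⁆ * ⁅x, x'⁆ := by
    simp only [commutatorElement_def]; group
  rw [e, H.del_mul (H.dP_mem (H.comm_mem hx hx') n) (H.comm_mem hx hx')]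
  exact C.mul_mem (H.h6 _ (H.comm_mem hx hx') n hn g H.hg) h

/-- the left radical of `κ` with respect to the set `S` -/
def rad (S : Set G) (hS : ∀ s ∈ S, s ∈ X) : Subgroup G where
  carrier := {x | x ∈ X ∧ ∀ s ∈ S, ⁅g, ⁅x, s⁆⁆ ∈ C}
  one_mem' := ⟨X.one_mem, fun s hs => by
    rw [commutatorElement_one_left, commutatorElement_one_right]; exact C.one_mem⟩
  mul_mem' := by
    rintro x y ⟨hx, hx'⟩ ⟨hy, hy'⟩
    refine ⟨X.mul_mem hx hy, fun s hs => ?_⟩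
    rw [H.kap_mul_left hx hy (hS s hs)]
    exact C.mul_mem (hx' s hs) (hy' s hs)
  inv_mem' := by
    rintro x ⟨hx, hx'⟩
    refine ⟨X.inv_mem hx, fun s hs => ?_⟩
    have h1 := H.kap_mul_left hx (X.inv_mem hx) (hS s hs)
    rw [mul_inv_cancel, commutatorElement_one_left, commutatorElement_one_right] at h1
    have h2 : ⁅g, ⁅x⁻¹, s⁆⁆ = (⁅g, ⁅x, s⁆⁆)⁻¹ := eq_inv_of_mul_eq_one_right h1.symm
    rw [h2]
    exact C.inv_mem (hx' s hs)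

theorem mem_rad {S : Set G} {hS : ∀ s ∈ S, s ∈ X} {x : G} :
    x ∈ H.rad S hS ↔ x ∈ X ∧ ∀ s ∈ S, ⁅g, ⁅x, s⁆⁆ ∈ C := Iff.rfl

theorem rad_NInv {S : Set G} (hS : ∀ s ∈ S, s ∈ X) (hSinv : ∀ n ∈ N, ∀ s ∈ S, n * s * n⁻¹ ∈ S) :
    NInv N (H.rad S hS) := by
  intro n hn x hx
  obtain ⟨hxX, hx'⟩ := H.mem_rad.mp hx
  refine H.mem_rad.mpr ⟨H.hXn.conj_mem x hxX n, fun s hs => ?_⟩
  have hs' : n⁻¹ * s * n⁻¹⁻¹ ∈ S := hSinv n⁻¹ (N.inv_mem hn) s hs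
  have h1 := H.kap_conj_mem hn hxX (hS _ hs') (hx' _ hs')
  have e : n * (n⁻¹ * s * n⁻¹⁻¹) * n⁻¹ = s := by group
  rwa [e] at h1

theorem V_le_rad {S : Set G} (hS : ∀ s ∈ S, s ∈ X) : V ≤ H.rad S hS := by
  intro v hv
  refine H.mem_rad.mpr ⟨H.hVX hv, fun s hs => ?_⟩
  rw [H.lam_V_left hv (hS s hs), commutatorElement_one_right]
  exact C.one_mem

theorem dd_mem_rad {x : G} (hx : x ∈ X) :
    ⁅g, ⁅g, x⁆⁆ ∈ H.rad (X : Set G) (fun s hs => hs) := by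
  have hdd : ⁅g, ⁅g, x⁆⁆ ∈ X := H.d_mem (H.d_mem hx g) g
  refine H.mem_rad.mpr ⟨hdd, fun s hs => ?_⟩
  exact H.kap_mem_symm hs hdd (H.h8 x hx s hs)

theorem E1 {x x' : G} (hx : x ∈ X) (hx' : x' ∈ X) :
    ⁅g, ⁅x, x'⁆⁆ = ⁅⁅g, x⁆, ⁅g, x'⁆⁆ * ⁅⁅g, x⁆, x'⁆ * ⁅x, ⁅g, x'⁆⁆ := by
  have e1 : ⁅g, ⁅x, x'⁆⁆ = ⁅⁅g, x⁆ * x, ⁅g, x'⁆ * x'⁆ * (⁅x, x'⁆)⁻¹ := by
    simp only [commutatorElement_def]; group
  have hd : ⁅g, x⁆ ∈ X := H.d_mem hx g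
  have hd' : ⁅g, x'⁆ ∈ X := H.d_mem hx' g
  rw [e1, H.lam_mul_left hd hx (X.mul_mem hd' hx'), H.lam_mul_right hd hd' hx',
    H.lam_mul_right hx hd' hx', ← mul_assoc, mul_inv_cancel_right]

theorem E2 {x x' : G} (hx : x ∈ X) (hx' : x' ∈ X) :
    ⁅g, ⁅⁅g, x⁆, ⁅g, x'⁆⁆⁆ * ⁅g, ⁅⁅g, x⁆, x'⁆⁆ * ⁅g, ⁅x, ⁅g, x'⁆⁆⁆ = 1 := by
  have hd : ⁅g, x⁆ ∈ X := H.d_mem hx g
  have hd' : ⁅g, x'⁆ ∈ X := H.d_mem hx' g
  have h := H.h7 _ (H.comm_mem hx hx')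
  rw [H.E1 hx hx', H.del_mul (Subgroup.mul_mem _ (H.comm_mem hd hd') (H.comm_mem hd hx'))
    (H.comm_mem hx hd'), H.del_mul (H.comm_mem hd hd') (H.comm_mem hd hx')] at h
  exact h

theorem key [Finite G] : X ≤ H.rad (X : Set G) (fun s hs => hs) := by
  haveI := H.hNn
  haveI := H.hXn
  haveI := H.hVn
  set R := H.rad (X : Set G) (fun s hs => hs) with hR
  by_contra hnot
  obtain ⟨U, hU, hUR⟩ : ∃ U, IsMinN N X V U ∧ ¬ U ≤ R := by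
    by_contra hc
    push Not at hc
    exact hnot (le_of_forall_isMinN H.hch _ hc)
  obtain ⟨u, huU, huR⟩ := SetLike.not_le_iff_exists.mp hUR
  have hUX : U ≤ X := hU.2.1
  have huX : u ∈ X := hUX huU
  have hsing : ∀ s ∈ ({u} : Set G), s ∈ X := fun s hs => by
    rw [Set.mem_singleton_iff.mp hs]; exact huX
  obtain ⟨U', hU', hU'R⟩ : ∃ U', IsMinN N X V U' ∧ ¬ U' ≤ H.rad {u} hsing := by
    by_contra hc
    push Not at hc
    have h1 : X ≤ H.rad {u} hsing := le_of_forall_isMinN H.hch _ hc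
    apply huR
    refine H.mem_rad.mpr ⟨huX, fun s hs => ?_⟩
    have h2 := (H.mem_rad.mp (h1 hs)).2 u rfl
    exact H.kap_mem_symm hs huX h2
  obtain ⟨u', hu'U', hu'R⟩ := SetLike.not_le_iff_exists.mp hU'R
  have hU'X : U' ≤ X := hU'.2.1
  have hu'X : u' ∈ X := hU'X hu'U'
  have hk : ⁅g, ⁅u', u⁆⁆ ∉ C := by
    intro hc
    apply hu'R
    refine H.mem_rad.mpr ⟨hu'X, fun s hs => ?_⟩
    rw [Set.mem_singleton_iff.mp hs]
    exact hc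
  have hk' : ⁅g, ⁅u, u'⁆⁆ ∉ C := fun hc => hk (H.kap_mem_symm huX hu'X hc)
  have hUinv : NInv N U := hU.2.2.1
  have hU'inv : NInv N U' := hU'.2.2.1
  have hXinv : ∀ n ∈ N, ∀ s ∈ (X : Set G), n * s * n⁻¹ ∈ (X : Set G) :=
    fun n _ s hs => H.hXn.conj_mem s hs n
  -- the four intersections
  have iUR : U ⊓ R = V := by
    rcases hU.2.2.2 (U ⊓ R) (le_inf hU.1.le (H.V_le_rad _)) inf_le_left
      (NInv_inf hUinv (H.rad_NInv _ hXinv)) with h | h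
    · exact h
    · exact absurd ((inf_eq_left.mp h) huU) huR
  have iU'R : U' ⊓ R = V := by
    rcases hU'.2.2.2 (U' ⊓ R) (le_inf hU'.1.le (H.V_le_rad _)) inf_le_left
      (NInv_inf hU'inv (H.rad_NInv _ hXinv)) with h | h
    · exact h
    · exfalso
      have h1 : u' ∈ R := (inf_eq_left.mp h) hu'U'
      exact hk ((H.mem_rad.mp h1).2 u huX)
  have iL : U ⊓ H.rad (U' : Set G) (fun s hs => hU'X hs) = V := by
    rcases hU.2.2.2 (U ⊓ H.rad (U' : Set G) (fun s hs => hU'X hs))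
      (le_inf hU.1.le (H.V_le_rad _)) inf_le_left
      (NInv_inf hUinv (H.rad_NInv _ (fun n hn s hs => hU'inv n hn s hs))) with h | h
    · exact h
    · exfalso
      have h1 := (inf_eq_left.mp h) huU
      exact hk' ((H.mem_rad.mp h1).2 u' hu'U')
  have iL' : U' ⊓ H.rad (U : Set G) (fun s hs => hUX hs) = V := by
    rcases hU'.2.2.2 (U' ⊓ H.rad (U : Set G) (fun s hs => hUX hs))
      (le_inf hU'.1.le (H.V_le_rad _)) inf_le_left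
      (NInv_inf hU'inv (H.rad_NInv _ (fun n hn s hs => hUinv n hn s hs))) with h | h
    · exact h
    · exfalso
      have h1 := (inf_eq_left.mp h) hu'U'
      exact hk ((H.mem_rad.mp h1).2 u huU)
  have dU : ∀ a ∈ U, ⁅g, a⁆ ∈ U := fun a ha => by
    rw [commutatorElement_def]
    exact U.mul_mem (hUinv g H.hg a ha) (U.inv_mem ha)
  have dU' : ∀ b ∈ U', ⁅g, b⁆ ∈ U' := fun b hb => by
    rw [commutatorElement_def]
    exact U'.mul_mem (hU'inv g H.hg b hb) (U'.inv_mem hb)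
  have ddU : ∀ a ∈ U, ⁅g, ⁅g, a⁆⁆ ∈ V := fun a ha => by
    rw [← iUR]
    exact Subgroup.mem_inf.mpr ⟨dU _ (dU a ha), H.dd_mem_rad (hUX ha)⟩
  have ddU' : ∀ b ∈ U', ⁅g, ⁅g, b⁆⁆ ∈ V := fun b hb => by
    rw [← iU'R]
    exact Subgroup.mem_inf.mpr ⟨dU' _ (dU' b hb), H.dd_mem_rad (hU'X hb)⟩
  have kA : ∀ a ∈ U, ∀ b ∈ U', ⁅g, ⁅⁅g, a⁆, b⁆⁆ = ⁅⁅g, a⁆, ⁅g, b⁆⁆ := by
    intro a ha b hb
    have hbX := hU'X hb
    have hda : ⁅g, a⁆ ∈ X := hUX (dU a ha)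
    have hdb : ⁅g, b⁆ ∈ X := hU'X (dU' b hb)
    rw [H.E1 hda hbX, H.lam_V_left (ddU a ha) hdb, H.lam_V_left (ddU a ha) hbX, one_mul, one_mul]
  have kB : ∀ a ∈ U, ∀ b ∈ U', ⁅g, ⁅a, ⁅g, b⁆⁆⁆ = ⁅⁅g, a⁆, ⁅g, b⁆⁆ := by
    intro a ha b hb
    have haX := hUX ha
    have hda : ⁅g, a⁆ ∈ X := hUX (dU a ha)
    have hdb : ⁅g, b⁆ ∈ X := hU'X (dU' b hb)
    rw [H.E1 haX hdb, H.lam_V_right hda (ddU' b hb), H.lam_V_right haX (ddU' b hb), one_mul,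
      mul_one]
  have kC : ∀ a ∈ U, ∀ b ∈ U', ⁅g, ⁅⁅g, a⁆, ⁅g, b⁆⁆⁆ = 1 := by
    intro a ha b hb
    have hda : ⁅g, a⁆ ∈ X := hUX (dU a ha)
    have hdb : ⁅g, b⁆ ∈ X := hU'X (dU' b hb)
    rw [H.E1 hda hdb, H.lam_V_left (ddU a ha) (H.d_mem hdb g), H.lam_V_left (ddU a ha) hdb,
      H.lam_V_right hda (ddU' b hb), one_mul, one_mul]
  have hc1 : ∀ a ∈ U, ∀ b ∈ U', ⁅⁅g, a⁆, ⁅g, b⁆⁆ = 1 := by
    intro a ha b hb
    have hda : ⁅g, a⁆ ∈ X := hUX (dU a ha)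
    have hdb : ⁅g, b⁆ ∈ X := hU'X (dU' b hb)
    have e2 := H.E2 (hUX ha) (hU'X hb)
    rw [kC a ha b hb, kA a ha b hb, kB a ha b hb, one_mul] at e2
    exact H.h5 _ (H.comm_mem hda hdb) e2
  have hdaV : ∀ a ∈ U, ⁅g, a⁆ ∈ V := by
    intro a ha
    rw [← iL]
    refine Subgroup.mem_inf.mpr ⟨dU a ha, H.mem_rad.mpr ⟨hUX (dU a ha), fun b hb => ?_⟩⟩
    rw [kA a ha b hb, hc1 a ha b hb]
    exact C.one_mem
  have hdbV : ∀ b ∈ U', ⁅g, b⁆ ∈ V := by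
    intro b hb
    rw [← iL']
    refine Subgroup.mem_inf.mpr ⟨dU' b hb, H.mem_rad.mpr ⟨hU'X (dU' b hb), fun a ha => ?_⟩⟩
    refine H.kap_mem_symm (hUX ha) (hU'X (dU' b hb)) ?_
    rw [kB a ha b hb, hc1 a ha b hb]
    exact C.one_mem
  apply hk'
  rw [H.E1 huX hu'X, H.lam_V_left (hdaV u huU) (H.d_mem hu'X g), H.lam_V_left (hdaV u huU) hu'X,
    H.lam_V_right huX (hdbV u' hu'U'), one_mul, one_mul]
  exact C.one_mem

/-- Lemma K -/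
theorem main [Finite G] : ∀ z ∈ ⁅X, X⁆, ⁅g, z⁆ ∈ C := by
  intro z hz
  have hkey := H.key
  have h0 := hz
  rw [Subgroup.commutator_def] at h0
  have h1 : z ∈ ⁅X, X⁆ ∧ ⁅g, z⁆ ∈ C := by
    refine Subgroup.closure_induction (p := fun z _ => z ∈ ⁅X, X⁆ ∧ ⁅g, z⁆ ∈ C) ?_ ?_ ?_ ?_ h0
    · rintro _ ⟨x, hx, x', hx', rfl⟩
      exact ⟨H.comm_mem hx hx', (H.mem_rad.mp (hkey hx)).2 x' hx'⟩
    · exact ⟨Subgroup.one_mem _, by rw [commutatorElement_one_right]; exact C.one_mem⟩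
    · rintro a b _ _ ⟨ha, ha'⟩ ⟨hb, hb'⟩
      exact ⟨Subgroup.mul_mem _ ha hb, by rw [H.del_mul ha hb]; exact C.mul_mem ha' hb'⟩
    · rintro a _ ⟨ha, ha'⟩
      exact ⟨Subgroup.inv_mem _ ha, by rw [H.del_inv ha]; exact C.inv_mem ha'⟩
  exact h1.2

end KHyp

end lemmaK

end Cfsg.Agent.Lib.Lead.KInf
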