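import Mathlib
import Cfsg.Agent.Lib.Lead.KInf12

/-!
# Elements acting quadratically and non-trivially on a chief factor inside a critical subgroup

`Good A g`: some chief factor `U / V` with `U ≤ A` has `[U, g, g] ≤ V` and `[U, g] ≰ V`.  An element outside
`O_p(G)` that is quadratic on `A` modulo `Z(A)` and on `Z(A)` is good; for `p = 2`, so is every element outside
`O_p(G)` whose square lies in `O_p(G)`.
-/

set_option autoImplicit false
set_option linter.style.haveILetI false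
set_option linter.unusedVariables false
set_option linter.unusedSectionVars false

namespace Cfsg.Agent.Lib.Lead.KInf

open Cfsg Cfsg.Agent.Lib.Helper7
open scoped commutatorElement

section tools

variable {G : Type*} [Group G]

/-- a normal subgroup of `X` not inside `V` covers the chief factor `X / V` -/
theorem chief_inf {X V X1 : Subgroup G} (hch : Cfsg.IsChiefFactor X V) [hX1n : X1.Normal]
    (hX1X : X1 ≤ X) (hX1V : ¬ X1 ≤ V) : Cfsg.IsChiefFactor X1 (X1 ⊓ V) := by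
  obtain ⟨hlt, hXn, hVn, hmin⟩ := hch
  haveI := hXn
  haveI := hVn
  refine ⟨lt_of_le_of_ne inf_le_left (fun h => hX1V (inf_eq_left.mp h)), hX1n, inferInstance, ?_⟩
  intro M hMn hle hMX1
  haveI := hMn
  rcases hmin (M ⊔ V) inferInstance le_sup_right (sup_le (hMX1.trans hX1X) hlt.le) with h | h
  · left
    have hMV : M ≤ V := by rw [← h]; exact le_sup_left
    exact le_antisymm (le_inf hMX1 hMV) hle
  · right
    refine le_antisymm hMX1 ?_
    intro x hx
    have hx' : x ∈ M ⊔ V := by rw [h]; exact hX1X hx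
    obtain ⟨m, hm, v, hv, rfl⟩ := Subgroup.mem_sup_of_normal_right.mp hx'
    have hv1 : v ∈ X1 := by
      have e : v = m⁻¹ * (m * v) := by group
      rw [e]
      exact X1.mul_mem (X1.inv_mem (hMX1 hm)) hx
    exact M.mul_mem hm (hle (Subgroup.mem_inf.mpr ⟨hv1, hv⟩))

/-- quadratic action of `⟨g⟩` on `U / V` from the generator -/
theorem quad_of_gen [Finite G] {U V : Subgroup G} [hUn : U.Normal] [hVn : V.Normal] (g : G) (hVU : V ≤ U)
    (h : ∀ u ∈ U, ⁅g, ⁅u, g⁆⁆ ∈ V) :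
    ⁅⁅U, Subgroup.zpowers g⁆, Subgroup.zpowers g⁆ ≤ V := by
  set F : Subgroup G := U ⊓ Ann (Subgroup.zpowers g) V with hF
  have hmemF : ∀ f : G, f ∈ F ↔ f ∈ U ∧ ∀ k ∈ Subgroup.zpowers g, ⁅k, f⁆ ∈ V := by
    intro f
    rw [hF, Subgroup.mem_inf]
    constructor
    · rintro ⟨h1, h2⟩
      refine ⟨h1, fun k hk => ?_⟩
      have h3 := h2 k hk
      rwa [Subgroup.normalCore_eq_self] at h3
    · rintro ⟨h1, h2⟩
      refine ⟨h1, fun k hk => ?_⟩
      rw [Subgroup.normalCore_eq_self]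
      exact h2 k hk
  have hcommU : ∀ u ∈ U, ∀ k : G, ⁅u, k⁆ ∈ U := by
    intro u hu k
    have e : ⁅u, k⁆ = u * (k * u⁻¹ * k⁻¹) := by rw [commutatorElement_def]; group
    rw [e]
    exact U.mul_mem hu (hUn.conj_mem _ (U.inv_mem hu) k)
  have stepA : ∀ u ∈ U, ⁅u, g⁆ ∈ F := by
    intro u hu
    rw [hmemF]
    refine ⟨hcommU u hu g, ?_⟩
    have h1 : Subgroup.zpowers g ≤ fixMod ⁅u, g⁆ V := by
      rw [Subgroup.zpowers_le, mem_fixMod]
      exact h u hu
    intro k hk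
    exact mem_fixMod.mp (h1 hk)
  have stepB : V ≤ F := by
    intro v hv
    rw [hmemF]
    refine ⟨hVU hv, fun k _ => ?_⟩
    rw [commutatorElement_def]
    exact V.mul_mem (hVn.conj_mem v hv k) (V.inv_mem hv)
  have stepC : ∀ k ∈ Subgroup.zpowers g, ∀ f ∈ F, k * f * k⁻¹ ∈ F := by
    intro k hk f hf
    have e : k * f * k⁻¹ = ⁅k, f⁆ * f := by rw [commutatorElement_def]; group
    rw [e]
    exact F.mul_mem (stepB (((hmemF f).mp hf).2 k hk)) hf
  have stepD : ∀ u ∈ U, ∀ k ∈ Subgroup.zpowers g, ⁅u, k⁆ ∈ F := by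
    intro u hu k hk
    have hk' := hk
    rw [Subgroup.zpowers_eq_closure] at hk'
    have h1 : k ∈ Subgroup.zpowers g ∧ ⁅u, k⁆ ∈ F := by
      refine Subgroup.closure_induction
        (p := fun k _ => k ∈ Subgroup.zpowers g ∧ ⁅u, k⁆ ∈ F) ?_ ?_ ?_ ?_ hk'
      · intro x hx
        rw [Set.mem_singleton_iff] at hx
        rw [hx]
        exact ⟨Subgroup.mem_zpowers g, stepA u hu⟩
      · refine ⟨Subgroup.one_mem _, ?_⟩
        rw [commutatorElement_one_right]
        exact F.one_mem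
      · rintro a b _ _ ⟨ha, ha'⟩ ⟨hb, hb'⟩
        refine ⟨Subgroup.mul_mem _ ha hb, ?_⟩
        have e : ⁅u, a * b⁆ = ⁅u, a⁆ * (a * ⁅u, b⁆ * a⁻¹) := by
          simp only [commutatorElement_def]; group
        rw [e]
        exact F.mul_mem ha' (stepC a ha _ hb')
      · rintro a _ ⟨ha, ha'⟩
        refine ⟨Subgroup.inv_mem _ ha, ?_⟩
        have e : ⁅u, a⁻¹⁆ = a⁻¹ * (⁅u, a⁆)⁻¹ * a⁻¹⁻¹ := by
          simp only [commutatorElement_def]; group
        rw [e]
        exact stepC a⁻¹ (Subgroup.inv_mem _ ha) _ (F.inv_mem ha')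
    exact h1.2
  have h1 : ⁅U, Subgroup.zpowers g⁆ ≤ F := by
    rw [Subgroup.commutator_le]
    exact stepD
  have h2 : ⁅F, Subgroup.zpowers g⁆ ≤ V := by
    rw [Subgroup.commutator_le]
    intro f hf k hk
    have h3 := ((hmemF f).mp hf).2 k hk
    have e : ⁅f, k⁆ = (⁅k, f⁆)⁻¹ := (commutatorElement_inv k f).symm
    rw [e]
    exact V.inv_mem h3
  exact (Subgroup.commutator_mono h1 le_rfl).trans h2

/-- an element whose square is central and which inverts nothing of order above two acts quadratically -/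
theorem invol_quad {Q : Type*} [Group Q] (t a : Q) (h1 : (t * t) * a = a * (t * t))
    (h3 : ⁅a, t⁆ * ⁅a, t⁆ = 1) : ⁅t, ⁅a, t⁆⁆ = 1 := by
  have hc : a⁻¹ * (t * t)⁻¹ = (t * t)⁻¹ * a⁻¹ := by
    rw [← mul_inv_rev, ← mul_inv_rev, h1]
  have e1 : t * ⁅a, t⁆ * t⁻¹ = t * a * t * (a⁻¹ * (t * t)⁻¹) := by
    simp only [commutatorElement_def]; group
  have e2 : t * a * t * ((t * t)⁻¹ * a⁻¹) = (⁅a, t⁆)⁻¹ := by
    simp only [commutatorElement_def]; group
  have e3 : ⁅t, ⁅a, t⁆⁆ = (t * ⁅a, t⁆ * t⁻¹) * (⁅a, t⁆)⁻¹ := by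
    rw [commutatorElement_def t]
  rw [e3, e1, hc, e2, ← mul_inv_rev, h3, inv_one]

open Cfsg.Agent.Lib.Lead.EngelNorm in
/-- a chief factor inside a `p`-group has exponent `p` -/
theorem chief_pow_mem [Finite G] {p : ℕ} [Fact p.Prime] {B B₁ : Subgroup G}
    (hch : Cfsg.IsChiefFactor B B₁) (hBp : IsPGroup p ↥B) : ∀ u ∈ B, u ^ p ∈ B₁ := by
  obtain ⟨hlt, hBn, hB₁n, hchief⟩ := hch
  haveI := hBn
  haveI := hB₁n
  set π : G →* G ⧸ B₁ := QuotientGroup.mk' B₁ with hπ
  have hπs : Function.Surjective π := QuotientGroup.mk'_surjective B₁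
  have hker : π.ker = B₁ := QuotientGroup.ker_mk' B₁
  have hπ1 : ∀ z : G, π z = 1 ↔ z ∈ B₁ := fun z => by rw [← MonoidHom.mem_ker, hker]
  set N : Subgroup (G ⧸ B₁) := B.map π with hNdef
  haveI hNn : N.Normal := hBn.map π hπs
  have hNp : IsPGroup p ↥N := hBp.map π
  have hNb : N ≠ ⊥ := by
    intro h
    apply hlt.not_ge
    intro z hz
    have : π z ∈ N := Subgroup.mem_map_of_mem π hz
    rw [h, Subgroup.mem_bot] at this
    exact (hπ1 z).mp this
  have hmin : ∀ C : Subgroup (G ⧸ B₁), C.Normal → C ≤ N → C = ⊥ ∨ C = N := by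
    intro C hCn hCN
    have h1 : (C.comap π).Normal := hCn.comap π
    have h2 : B₁ ≤ C.comap π := by
      intro z hz
      rw [Subgroup.mem_comap, (hπ1 z).mpr hz]
      exact C.one_mem
    have h3 : C.comap π ≤ B := by
      intro z hz
      have : π z ∈ N := hCN hz
      obtain ⟨b, hb, hbz⟩ := this
      have h4 : b⁻¹ * z ∈ B₁ := by
        rw [← hπ1, map_mul, map_inv, hbz, inv_mul_cancel]
      have h5 : z = b * (b⁻¹ * z) := by group
      rw [h5]
      exact B.mul_mem hb (hlt.le h4)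
    have h4 : (C.comap π).map π = C := Subgroup.map_comap_eq_self_of_surjective hπs C
    rcases hchief _ h1 h2 h3 with h | h
    · left
      rw [← h4, h]
      exact (Subgroup.map_eq_bot_iff _).mpr (le_of_eq hker.symm)
    · right
      rw [← h4, h]
  obtain ⟨-, hexp⟩ := minimal_normal_pgroup N hNp hNb hmin
  intro u hu
  have h1 := hexp (π u) (Subgroup.mem_map_of_mem π hu)
  rw [← map_pow, hπ1] at h1
  exact h1

end tools

section good

universe u

variable {G : Type u} [Group G] [Finite G] {p : ℕ} [Fact p.Prime]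

/-- some chief factor inside `A` on which `g` acts quadratically and non-trivially -/
def Good (A : Subgroup G) (g : G) : Prop :=
  ∃ U V : Subgroup G, Cfsg.IsChiefFactor U V ∧ U ≤ A ∧
    ⁅⁅U, Subgroup.zpowers g⁆, Subgroup.zpowers g⁆ ≤ V ∧ ¬ ⁅U, Subgroup.zpowers g⁆ ≤ V

theorem exists_nontrivial_chief (A : Subgroup G) [hAn : A.Normal] (hAT : A ≤ Cfsg.pCore p G)
    (hA5 : ∀ φ : MulAut ↥(Cfsg.pCore p G), (orderOf φ).Coprime p →
      (∀ a : ↥(Cfsg.pCore p G), (a : G) ∈ A → φ a = a) → φ = 1)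
    (hCT : Subgroup.centralizer ((Cfsg.pCore p G : Subgroup G) : Set G) ≤ Cfsg.pCore p G) {g : G}
    (hg : g ∉ Cfsg.pCore p G) :
    ∃ U V : Subgroup G, Cfsg.IsChiefFactor U V ∧ U ≤ A ∧ ¬ ⁅U, Subgroup.zpowers g⁆ ≤ V := by
  by_contra hc
  apply hg
  refine mem_pCore_of_trivial_on_chief A hAT hA5 hCT ?_
  intro U V hch hUA
  by_contra hh
  exact hc ⟨U, V, hch, hUA, hh⟩

/-- quadratic on `A / Z(A)` and on `Z(A)`, and outside `O_p(G)`: good -/
theorem good_of_quad (A : Subgroup G) [hAn : A.Normal] (hAT : A ≤ Cfsg.pCore p G)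
    (hA5 : ∀ φ : MulAut ↥(Cfsg.pCore p G), (orderOf φ).Coprime p →
      (∀ a : ↥(Cfsg.pCore p G), (a : G) ∈ A → φ a = a) → φ = 1)
    (hCT : Subgroup.centralizer ((Cfsg.pCore p G : Subgroup G) : Set G) ≤ Cfsg.pCore p G) {g : G}
    (hg : g ∉ Cfsg.pCore p G)
    (hq1 : ⁅⁅A, Subgroup.zpowers g⁆, Subgroup.zpowers g⁆ ≤ Zc A)
    (hq2 : ⁅⁅Zc A, Subgroup.zpowers g⁆, Subgroup.zpowers g⁆ = ⊥) : Good A g := by
  obtain ⟨U, V, hch, hUA, hnt⟩ := exists_nontrivial_chief A hAT hA5 hCT hg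
  refine ⟨U, V, hch, hUA, ?_, hnt⟩
  obtain ⟨hlt, hUn, hVn, hmin⟩ := hch
  haveI := hUn
  haveI := hVn
  haveI hWn : (Zc A).Normal := Zc_normal A
  rcases hmin ((U ⊓ Zc A) ⊔ V) inferInstance le_sup_right (sup_le inf_le_left hlt.le) with h | h
  · have h1 : U ⊓ Zc A ≤ V := by rw [← h]; exact le_sup_left
    refine le_trans (le_inf ?_ ?_) h1
    · exact (Subgroup.commutator_mono (Subgroup.commutator_le_left U _) le_rfl).trans
        (Subgroup.commutator_le_left U _)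
    · exact (Subgroup.commutator_mono (Subgroup.commutator_mono hUA le_rfl) le_rfl).trans hq1
  · have h2 : Cfsg.iterCommutator (U ⊓ Zc A) (Subgroup.zpowers g) 2 ≤ V := by
      show ⁅⁅U ⊓ Zc A, Subgroup.zpowers g⁆, Subgroup.zpowers g⁆ ≤ V
      have h3 : ⁅⁅U ⊓ Zc A, Subgroup.zpowers g⁆, Subgroup.zpowers g⁆ ≤
          ⁅⁅Zc A, Subgroup.zpowers g⁆, Subgroup.zpowers g⁆ :=
        Subgroup.commutator_mono (Subgroup.commutator_mono inf_le_right le_rfl) le_rfl
      rw [hq2] at h3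
      exact h3.trans bot_le
    exact iter_le_of_sup h 2 h2

/-- for `p = 2`: an element outside `O_2(G)` with square in `O_2(G)` is good -/
theorem good_of_two (hp : p = 2) (A : Subgroup G) [hAn : A.Normal] (hAT : A ≤ Cfsg.pCore p G)
    (hA5 : ∀ φ : MulAut ↥(Cfsg.pCore p G), (orderOf φ).Coprime p →
      (∀ a : ↥(Cfsg.pCore p G), (a : G) ∈ A → φ a = a) → φ = 1)
    (hCT : Subgroup.centralizer ((Cfsg.pCore p G : Subgroup G) : Set G) ≤ Cfsg.pCore p G) {g : G}
    (hg : g ∉ Cfsg.pCore p G) (hgg : g * g ∈ Cfsg.pCore p G) : Good A g := by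
  haveI hTn := pCore_normal p G
  have hTp := pCore_isPGroup p G
  obtain ⟨U, V, hch, hUA, hnt⟩ := exists_nontrivial_chief A hAT hA5 hCT hg
  refine ⟨U, V, hch, hUA, ?_, hnt⟩
  have hUT : U ≤ Cfsg.pCore p G := hUA.trans hAT
  have hexp : ∀ u ∈ U, u * u ∈ V := by
    intro u hu
    have h1 := chief_pow_mem hch (hTp.to_le hUT) u hu
    rw [hp, pow_two] at h1
    exact h1
  have hcen : ⁅U, Cfsg.pCore p G⁆ ≤ V := chief_central hch hTp hUT
  obtain ⟨hlt, hUn, hVn, hmin⟩ := hch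
  haveI := hUn
  haveI := hVn
  refine quad_of_gen g hlt.le ?_
  intro u hu
  set π : G →* G ⧸ V := QuotientGroup.mk' V with hπ
  have hπ1 : ∀ z : G, π z = 1 ↔ z ∈ V := fun z => by
    rw [← MonoidHom.mem_ker, QuotientGroup.ker_mk']
  rw [← hπ1, map_commutatorElement, map_commutatorElement]
  have hw : ⁅u, g⁆ ∈ U := by
    have e : ⁅u, g⁆ = u * (g * u⁻¹ * g⁻¹) := by rw [commutatorElement_def]; group
    rw [e]
    exact U.mul_mem hu (hUn.conj_mem _ (U.inv_mem hu) g)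
  refine invol_quad (π g) (π u) ?_ ?_
  · have h1 : ⁅u, g * g⁆ ∈ V := hcen (Subgroup.commutator_mem_commutator hu hgg)
    rw [← hπ1, map_commutatorElement, map_mul] at h1
    exact ((commutatorElement_eq_one_iff_commute.mp h1).eq).symm
  · have h1 := hexp _ hw
    rw [← hπ1, map_mul, map_commutatorElement] at h1
    exact h1

/-- in a `2`-group not inside `T`, some element outside `T` has its square in `T` -/
theorem exists_sq_mem (hp : p = 2) {B T : Subgroup G} (hB : IsPGroup p ↥B) (hBT : ¬ B ≤ T) :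
    ∃ g ∈ B, g ∉ T ∧ g * g ∈ T := by
  obtain ⟨g, hgB, hgT⟩ := SetLike.not_le_iff_exists.mp hBT
  have hex : ∃ k : ℕ, g ^ 2 ^ k ∈ T := by
    obtain ⟨k, hk⟩ := hB ⟨g, hgB⟩
    refine ⟨k, ?_⟩
    have h1 := congrArg Subtype.val hk
    rw [Subgroup.coe_pow, Subgroup.coe_one, hp] at h1
    rw [h1]
    exact T.one_mem
  classical
  set k := Nat.find hex with hk
  have hk1 : g ^ 2 ^ k ∈ T := Nat.find_spec hex
  have hk0 : k ≠ 0 := by
    intro h0
    rw [h0, pow_zero, pow_one] at hk1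
    exact hgT hk1
  obtain ⟨j, hj⟩ := Nat.exists_eq_succ_of_ne_zero hk0
  refine ⟨g ^ 2 ^ j, B.pow_mem hgB _, ?_, ?_⟩
  · intro hmem
    have : k ≤ j := Nat.find_min' hex hmem
    omega
  · have e : g ^ 2 ^ j * g ^ 2 ^ j = g ^ 2 ^ k := by
      rw [← pow_add, hj, pow_succ]
      congr 1
      ring
    rw [e]
    exact hk1

end good

end Cfsg.Agent.Lib.Lead.KInf
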