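import Mathlib
import Cfsg.Agent.Lib.Lead.KInf13

/-!
# The K-infinity subgroups and a quadratic chief factor inside a critical subgroup

If no element of `S \ O_p(G)` that acts cubically on the critical subgroup `A` acts quadratically and
non-trivially on a chief factor inside `A`, and `C_G(O_p(G)) ≤ O_p(G)`, then the K-infinity subgroups of `S`
are those of `O_p(G)`.
-/

set_option autoImplicit false
set_option linter.style.haveILetI false
set_option linter.unusedVariables false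
set_option linter.unusedSectionVars false

namespace Cfsg.Agent.Lib.Lead.KInf

open Cfsg Cfsg.Agent.Lib.Helper7
open scoped commutatorElement

section general

variable {G : Type*} [Group G] {S T A : Subgroup G}

/-- the comparison of the K-sequences, from two tests -/
theorem seq_le_of_tests (hTS : T ≤ S) (hAT : A ≤ T)
    (hSA : S ≤ Subgroup.normalizer (A : Set G))
    (hcl : ⁅A, A⁆ ≤ Subgroup.centralizer (A : Set G)) (hTA : ⁅T, A⁆ ≤ Zc A)
    (hQ : ∀ B : Subgroup G, B ≤ S → ⁅⁅A, B⁆, B⁆ ≤ Zc A → ⁅⁅Zc A, B⁆, B⁆ = ⊥ → B ≤ T)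
    (hIII : ∀ B : Subgroup G, B ≤ S → B ∈ classTwoSubgroups G →
      A ≤ Subgroup.normalizer (B : Set G) →
      (∀ X ∈ classTwoSubgroups G, X ≤ A → B ≤ Subgroup.normalizer (X : Set G) → ⁅B, ⁅X, X⁆⁆ = ⊥ →
        ⁅⁅Zc B, X⁆, X⁆ = ⊥ → ⁅B, X⁆ ≤ Zc B) → B ≤ T) :
    (∀ n, relEven S n ≤ T) ∧ ∀ n, relOdd S (n + 1) ≤ T := by
  have hAS : A ≤ S := hAT.trans hTS
  have hAT' : ⁅A, T⁆ ≤ Zc A := by rw [Subgroup.commutator_comm]; exact hTA
  -- (i) `A` lies in every lower family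
  have hA_lower : ∀ n, A ∈ kLowerStarFamily (relOdd S n) := by
    intro n
    refine ⟨hcl, (relOdd_le S n).trans hSA, ?_⟩
    intro A' hA' hA'Q hAA' hc1 hc2
    have hA'S : A' ≤ S := hA'Q.trans (relOdd_le S n)
    have h1 : ⁅A, A'⁆ ≤ A' := by
      rw [Subgroup.commutator_comm]; exact commutator_le_of_le_normalizer hAA'
    have h2 : ⁅A, A'⁆ ≤ A := commutator_le_of_le_normalizer (hA'S.trans hSA)
    have h3 : ⁅⁅A, A'⁆, A'⁆ ≤ Zc A := by
      refine le_inf ((Subgroup.commutator_mono h2 le_rfl).trans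
        (commutator_le_of_le_normalizer (hA'S.trans hSA))) ?_
      have h4 : ⁅⁅A, A'⁆, A'⁆ ≤ ⁅A', A'⁆ := Subgroup.commutator_mono h1 le_rfl
      refine h4.trans ?_
      rw [← Subgroup.commutator_eq_bot_iff_le_centralizer, Subgroup.commutator_comm]
      exact hc1
    have hA'T : A' ≤ T := hQ A' hA'S h3 hc2
    exact (Subgroup.commutator_mono le_rfl hA'T).trans hAT'
  have hA_even : ∀ n, A ≤ relEven S n := fun n => le_sSup ⟨hA_lower n, hAS⟩
  -- (ii) the odd terms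
  have hodd : ∀ n, relOdd S (n + 1) ≤ T := by
    intro n
    refine sSup_le fun B hB => ?_
    obtain ⟨⟨hBcl, hBE⟩, hBS⟩ := hB
    have h1 : ⁅A, B⁆ ≤ Zc B := by
      rw [Subgroup.commutator_comm]
      exact (Subgroup.commutator_mono le_rfl (hA_even n)).trans hBE
    have h2 : ⁅⁅A, B⁆, B⁆ = ⊥ := by
      have := Subgroup.commutator_mono h1 (le_refl B)
      rw [Zc_commutator_eq_bot] at this
      exact le_bot_iff.mp this
    refine hQ B hBS ?_ ?_
    · rw [h2]; exact bot_le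
    · have : ⁅⁅Zc A, B⁆, B⁆ ≤ ⁅⁅A, B⁆, B⁆ :=
        Subgroup.commutator_mono (Subgroup.commutator_mono inf_le_left le_rfl) le_rfl
      rw [h2] at this
      exact le_bot_iff.mp this
  -- (iii) the even terms
  have hstep : ∀ n, A ≤ relOdd S n → relEven S n ≤ T := by
    intro n hAO
    refine sSup_le fun B hB => ?_
    obtain ⟨⟨hBcl, hOB, htest⟩, hBS⟩ := hB
    refine hIII B hBS hBcl (hAO.trans hOB) ?_
    intro X hX hXA hBX h1 h2
    exact htest X hX (hXA.trans hAO) hBX h1 h2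
  have hAodd : ∀ n, relEven S n ≤ T → A ≤ relOdd S (n + 1) := by
    intro n h
    exact le_sSup ⟨⟨hcl, (Subgroup.commutator_mono le_rfl h).trans hAT'⟩, hAS⟩
  have hboth : ∀ n, A ≤ relOdd S n ∧ relEven S n ≤ T := by
    intro n
    induction n with
    | zero => exact ⟨hAS, hstep 0 hAS⟩
    | succ n ih =>
      have h1 := hAodd n ih.2
      exact ⟨h1, hstep (n + 1) h1⟩
  exact ⟨fun n => (hboth n).2, hodd⟩

end general

section sylow

universe u

variable {G : Type u} [Group G] [Finite G] {p : ℕ} [Fact p.Prime]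

open Cfsg.Agent.Lib.Lead.EngelTransfer in
/-- Lemma III: for `p` odd, a member of a lower family passing the tests lies in `O_p(G)` -/
theorem lemmaIII (hp2 : p ≠ 2) (S : Sylow p G) (A : Subgroup G) [hAn : A.Normal]
    (hAT : A ≤ Cfsg.pCore p G)
    (hA2 : ⁅A, A⁆ ≤ Subgroup.centralizer ((A : Subgroup G) : Set G))
    (hA3 : ⁅Cfsg.pCore p G, A⁆ ≤ Zc A)
    (hA5 : ∀ φ : MulAut ↥(Cfsg.pCore p G), (orderOf φ).Coprime p →
      (∀ a : ↥(Cfsg.pCore p G), (a : G) ∈ A → φ a = a) → φ = 1)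
    (hCT : Subgroup.centralizer ((Cfsg.pCore p G : Subgroup G) : Set G) ≤ Cfsg.pCore p G)
    (hno : ∀ g ∈ (S : Subgroup G), g ∉ Cfsg.pCore p G → Cubic A g → ¬ Good A g)
    (B : Subgroup G) (hBS : B ≤ (S : Subgroup G)) (hBcl : B ∈ classTwoSubgroups G)
    (hAB : A ≤ Subgroup.normalizer (B : Set G))
    (htest : ∀ X : Subgroup G, X.Normal → X ≤ A → ⁅B, ⁅X, X⁆⁆ = ⊥ → ⁅⁅Zc B, X⁆, X⁆ = ⊥ →
      ⁅B, X⁆ ≤ Zc B) : B ≤ Cfsg.pCore p G := by
  by_contra hBT
  haveI hTn := pCore_normal p G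
  have hTp := pCore_isPGroup p G
  have hpp : p.Prime := Fact.out
  set T : Subgroup G := Cfsg.pCore p G with hT
  set W : Subgroup G := Zc A with hW
  haveI hWn : W.Normal := Zc_normal A
  have hWA : W ≤ A := inf_le_left
  have hWc : ⁅W, A⁆ = ⊥ := Zc_commutator_eq_bot A
  have hWab : ⁅W, W⁆ = ⊥ := Zc_abelian A
  have hAB' : ⁅A, B⁆ ≤ B := by
    rw [Subgroup.commutator_comm]; exact commutator_le_of_le_normalizer hAB
  -- all elements of `B` are cubic
  have hBW : ⁅B, W⁆ ≤ Zc B := by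
    refine htest W hWn hWA ?_ ?_
    · rw [hWab]; exact Subgroup.commutator_bot_right B
    · have h1 : ⁅Zc B, W⁆ ≤ W := Subgroup.commutator_le_right _ _
      have h2 := Subgroup.commutator_mono h1 (le_refl W)
      rw [hWab] at h2
      exact le_bot_iff.mp h2
  have hWBB : ⁅⁅W, B⁆, B⁆ = ⊥ := by
    have h2 : ⁅⁅W, B⁆, B⁆ ≤ ⁅Zc B, B⁆ :=
      Subgroup.commutator_mono (by rw [Subgroup.commutator_comm]; exact hBW) le_rfl
    rw [Zc_commutator_eq_bot] at h2
    exact le_bot_iff.mp h2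
  have hABBB : ⁅⁅⁅A, B⁆, B⁆, B⁆ = ⊥ := by
    have h2 : ⁅⁅⁅A, B⁆, B⁆, B⁆ ≤ ⁅⁅B, B⁆, B⁆ :=
      Subgroup.commutator_mono (Subgroup.commutator_mono hAB' le_rfl) le_rfl
    rw [triple_eq_bot_of_classTwo hBcl] at h2
    exact le_bot_iff.mp h2
  have hcub : ∀ g ∈ B, Cubic A g := fun g hg => cubic_of_le hg hABBB hWBB
  have hnoB : ∀ g ∈ B, g ∉ T → ¬ Good A g := fun g hg hgT => hno g (hBS hg) hgT (hcub g hg)
  -- Step 1
  have hZB : Zc B ≤ T := by
    intro g hg
    by_contra hgT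
    have hgB : g ∈ B := (inf_le_left : Zc B ≤ B) hg
    have hz : Subgroup.zpowers g ≤ Zc B := Subgroup.zpowers_le.mpr hg
    have h1 : ⁅⁅A, Subgroup.zpowers g⁆, Subgroup.zpowers g⁆ = ⊥ := by
      have h2 : ⁅⁅A, Subgroup.zpowers g⁆, Subgroup.zpowers g⁆ ≤ ⁅B, Zc B⁆ :=
        Subgroup.commutator_mono
          ((Subgroup.commutator_mono le_rfl (hz.trans inf_le_left)).trans hAB') hz
      rw [Subgroup.commutator_comm B (Zc B), Zc_commutator_eq_bot] at h2
      exact le_bot_iff.mp h2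
    apply hnoB g hgB hgT
    refine good_of_quad A hAT hA5 hCT hgT ?_ ?_
    · rw [h1]; exact bot_le
    · have h2 : ⁅⁅W, Subgroup.zpowers g⁆, Subgroup.zpowers g⁆ ≤
          ⁅⁅A, Subgroup.zpowers g⁆, Subgroup.zpowers g⁆ :=
        Subgroup.commutator_mono (Subgroup.commutator_mono hWA le_rfl) le_rfl
      rw [h1] at h2
      exact le_bot_iff.mp h2
  -- triviality of `B` on the chief factors inside `Y`
  let Triv : Subgroup G → Prop := fun Y =>
    ∀ U1 V1 : Subgroup G, Cfsg.IsChiefFactor U1 V1 → U1 ≤ Y → ⁅U1, B⁆ ≤ V1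
  -- Step 2
  have hS2 : ∀ X : Subgroup G, X.Normal → X ≤ A → ⁅B, ⁅X, X⁆⁆ = ⊥ → Triv X := by
    intro X hXn hXA hBXX U1 V1 hch hU1X
    haveI := hch.2.1
    haveI := hch.2.2.1
    have ht2 : ⁅⁅Zc B, X⁆, X⁆ = ⊥ := by
      have h1 : ⁅Zc B, X⁆ ≤ W := (Subgroup.commutator_mono hZB hXA).trans hA3
      have h2 := Subgroup.commutator_mono h1 hXA
      rw [hWc] at h2
      exact le_bot_iff.mp h2
    have hBX : ⁅B, X⁆ ≤ Zc B := htest X hXn hXA hBXX ht2
    have hXBB : ⁅⁅X, B⁆, B⁆ = ⊥ := by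
      have h2 : ⁅⁅X, B⁆, B⁆ ≤ ⁅Zc B, B⁆ :=
        Subgroup.commutator_mono (by rw [Subgroup.commutator_comm]; exact hBX) le_rfl
      rw [Zc_commutator_eq_bot] at h2
      exact le_bot_iff.mp h2
    rw [Subgroup.commutator_le]
    intro u hu b hb
    have hzb : Subgroup.zpowers b ≤ B := Subgroup.zpowers_le.mpr hb
    have hmem : ⁅u, b⁆ ∈ ⁅U1, Subgroup.zpowers b⁆ :=
      Subgroup.commutator_mem_commutator hu (Subgroup.mem_zpowers b)
    by_cases hbT : b ∈ T
    · have h1 : ⁅U1, Subgroup.zpowers b⁆ ≤ ⁅U1, T⁆ :=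
        Subgroup.commutator_mono le_rfl (Subgroup.zpowers_le.mpr hbT)
      exact chief_central hch hTp ((hU1X.trans hXA).trans hAT) (h1 hmem)
    · have hng := hnoB b hb hbT
      by_contra hc
      apply hng
      refine ⟨U1, V1, hch, hU1X.trans hXA, ?_, ?_⟩
      · have h3 : ⁅⁅U1, Subgroup.zpowers b⁆, Subgroup.zpowers b⁆ ≤ ⁅⁅X, B⁆, B⁆ :=
          Subgroup.commutator_mono (Subgroup.commutator_mono hU1X hzb) hzb
        rw [hXBB] at h3
        exact h3.trans bot_le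
      · intro hle
        exact hc (hle hmem)
  have hTrivW : Triv W :=
    hS2 W hWn hWA (by rw [hWab]; exact Subgroup.commutator_bot_right B)
  -- Step 3
  have hnotTrivA : ¬ Triv A := by
    intro hTA
    apply hBT
    intro g hg
    refine mem_pCore_of_trivial_on_chief A hAT hA5 hCT ?_
    intro U1 V1 hch hU1A
    exact (Subgroup.commutator_mono le_rfl (Subgroup.zpowers_le.mpr hg)).trans
      (hTA U1 V1 hch hU1A)
  let bad : Subgroup G → Prop := fun U =>
    U ≤ A ∧ ∃ V' : Subgroup G, Cfsg.IsChiefFactor U V' ∧ ¬ ⁅U, B⁆ ≤ V'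
  obtain ⟨U0, hU0⟩ : ∃ U, bad U := by
    by_contra hc
    apply hnotTrivA
    intro U1 V1 hch hU1A
    by_contra hh
    exact hc ⟨U1, hU1A, V1, hch, hh⟩
  obtain ⟨X, -, hXmin⟩ := Finite.exists_le_minimal (p := bad) hU0
  obtain ⟨hXA, V, hch, hXB⟩ := hXmin.prop
  have hTrivlt : ∀ Y : Subgroup G, Y < X → Triv Y := by
    intro Y hY U1 V1 hch1 hU1Y
    by_contra hh
    have hb : bad U1 := ⟨(hU1Y.trans hY.le).trans hXA, V1, hch1, hh⟩
    exact (lt_of_le_of_lt hU1Y hY).not_ge (hXmin.le_of_le hb (hU1Y.trans hY.le))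
  have hVX : V < X := hch.1
  haveI hXn : X.Normal := hch.2.1
  haveI hVn : V.Normal := hch.2.2.1
  have hchmin := hch.2.2.2
  -- Step 4
  set N : Subgroup G := Subgroup.normalClosure (B : Set G) with hN
  haveI hNn : N.Normal := Subgroup.normalClosure_normal
  have hBN : B ≤ N := Subgroup.le_normalClosure
  have hNtriv : ∀ Y : Subgroup G, Triv Y → ∀ U1 V1 : Subgroup G, Cfsg.IsChiefFactor U1 V1 →
      U1 ≤ Y → N ≤ Ann U1 V1 := by
    intro Y hY U1 V1 hch1 hU1Y
    haveI := hch1.2.1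
    haveI := hch1.2.2.1
    have h1 : B ≤ Ann U1 V1 := (le_Ann_iff U1 V1 B).mpr (hY U1 V1 hch1 hU1Y)
    exact Subgroup.normalClosure_le_normal h1
  set N0 : Subgroup G :=
    Subgroup.normalClosure {x : G | x ∈ N ∧ (orderOf x).Coprime p} with hN0
  haveI hN0n : N0.Normal := Subgroup.normalClosure_normal
  have hN0N : N0 ≤ N := Subgroup.normalClosure_le_normal (fun x hx => hx.1)
  have hN0c : ∀ Y : Subgroup G, Y.Normal → Y ≤ A → Triv Y → ⁅N0, Y⁆ = ⊥ := by
    intro Y hYn hYA hY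
    haveI := hYn
    rw [Subgroup.commutator_eq_bot_iff_le_centralizer]
    refine Subgroup.normalClosure_le_normal ?_
    rintro x ⟨hxN, hxp⟩
    have h1 : ∀ a ∈ Y, ⁅x, a⁆ = 1 := by
      refine comm_eq_one_of_trivial_on_chief Y (hTp.to_le (hYA.trans hAT)) hxp ?_
      intro U1 V1 hch1 hU1Y u hu
      haveI := hch1.2.1
      haveI := hch1.2.2.1
      have h2 := hNtriv Y hY U1 V1 hch1 hU1Y hxN
      have h3 := h2 u hu
      rw [Subgroup.normalCore_eq_self] at h3
      have e : ⁅x, u⁆ = (⁅u, x⁆)⁻¹ := (commutatorElement_inv u x).symm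
      rw [e]
      exact V1.inv_mem h3
    rw [SetLike.mem_coe, Subgroup.mem_centralizer_iff]
    intro y hy
    exact ((commutatorElement_eq_one_iff_commute.mp (h1 y hy)).eq).symm
  have hN0V : ⁅N0, V⁆ = ⊥ := hN0c V hVn (hVX.le.trans hXA) (hTrivlt V hVX)
  have hN0W : ⁅N0, W⁆ = ⊥ := hN0c W hWn hWA hTrivW
  set X1 : Subgroup G := ⁅X, N0⁆ with hX1
  haveI hX1n : X1.Normal := Subgroup.commutator_normal X N0
  have hX1X : X1 ≤ X := Subgroup.commutator_le_left X N0
  have hXXW : ⁅X, X⁆ ≤ W :=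
    (Subgroup.commutator_mono hXA hXA).trans (le_inf (Subgroup.commutator_le_left A A) hA2)
  have hX1V : ⁅X1, V⁆ = ⊥ := by
    refine Subgroup.commutator_commutator_eq_bot_of_rotate ?_ ?_
    · rw [hN0V]; exact Subgroup.commutator_bot_left X
    · have h1 : ⁅V, X⁆ ≤ W := (Subgroup.commutator_mono hVX.le le_rfl).trans hXXW
      have h2 := Subgroup.commutator_mono h1 (le_refl N0)
      rw [Subgroup.commutator_comm W N0, hN0W] at h2
      exact le_bot_iff.mp h2
  have hXp : IsPGroup p ↥X := hTp.to_le (hXA.trans hAT)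
  have hX1eq : X1 = X := by
    by_contra hne
    have hlt1 : X1 < X := lt_of_le_of_ne hX1X hne
    by_cases hc : X1 ≤ V
    · have h1 : N ≤ Ann X V := by
        refine le_Ann_of_pprime hch hXp ?_
        intro n hn hnp
        have hnN0 : n ∈ N0 := Subgroup.subset_normalClosure ⟨hn, hnp⟩
        intro m hm
        rw [Subgroup.normalCore_eq_self]
        exact hc (Subgroup.commutator_mem_commutator hm hnN0)
      apply hXB
      exact (Subgroup.commutator_mono le_rfl hBN).trans ((le_Ann_iff X V N).mp h1)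
    · have hch1 : Cfsg.IsChiefFactor X1 (X1 ⊓ V) := chief_inf hch hX1X hc
      have h1 : ⁅X1, B⁆ ≤ X1 ⊓ V := hTrivlt X1 hlt1 X1 (X1 ⊓ V) hch1 le_rfl
      have hsup : X1 ⊔ V = X := by
        rcases hchmin (X1 ⊔ V) inferInstance le_sup_right (sup_le hX1X hVX.le) with h | h
        · exfalso
          apply hc
          rw [← h]
          exact le_sup_left
        · exact h
      apply hXB
      have h2 : X1 ⊔ V ≤ Ann B V :=
        sup_le ((le_Ann_iff B V X1).mpr (by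
          rw [Subgroup.commutator_comm]; exact h1.trans inf_le_right))
          ((le_Ann_iff B V V).mpr (Subgroup.commutator_le_right B V))
      have h3 := (le_Ann_iff B V _).mp h2
      rw [hsup, Subgroup.commutator_comm] at h3
      exact h3
  have hXV : ⁅X, V⁆ = ⊥ := by
    have h1 : ⁅X, V⁆ = ⁅X1, V⁆ := by rw [hX1eq]
    rw [h1]
    exact hX1V
  -- Step 5
  set P : Subgroup G := ⁅X, X⁆ with hP
  haveI hPn : P.Normal := Subgroup.commutator_normal X X
  have hPW : P ≤ W := hXXW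
  have hBP : ⁅B, P⁆ ≠ ⊥ := by
    intro h
    exact hXB (hS2 X hXn hXA h X V hch le_rfl)
  set C : Subgroup G := ⁅⁅P, N⁆, N⁆ with hC
  haveI hPNn : (⁅P, N⁆ : Subgroup G).Normal := Subgroup.commutator_normal P N
  haveI hCn : C.Normal := Subgroup.commutator_normal ⁅P, N⁆ N
  have hK : ∀ g ∈ B, KHyp N X V C g := by
    intro g hg
    refine ⟨hNn, hBN hg, hch, ?_, ?_, ?_, ?_, ?_, ?_⟩
    · intro v hv x hx
      have h1 : ⁅x, v⁆ ∈ ⁅X, V⁆ := Subgroup.commutator_mem_commutator hx hv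
      rw [hXV, Subgroup.mem_bot] at h1
      exact (commutatorElement_eq_one_iff_commute.mp h1).symm
    · intro z hz x hx
      have hzW : z ∈ W := hPW hz
      have h1 := Subgroup.mem_centralizer_iff.mp (Subgroup.mem_inf.mp hzW).2 x (hXA hx)
      exact h1.symm
    · intro z hz hzz
      have hzT : z ∈ T := hAT (hWA (hPW hz))
      obtain ⟨k, hk⟩ := hTp ⟨z, hzT⟩
      have hk' : z ^ p ^ k = 1 := by
        have h1 := congrArg Subtype.val hk
        rwa [Subgroup.coe_pow, Subgroup.coe_one] at h1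
      have h2 : orderOf z ∣ p ^ k := orderOf_dvd_of_pow_eq_one hk'
      have h3 : orderOf z ∣ 2 := orderOf_dvd_of_pow_eq_one (by rw [pow_two]; exact hzz)
      have hcop : Nat.Coprime (p ^ k) 2 :=
        Nat.Coprime.pow_left k ((Nat.coprime_primes hpp Nat.prime_two).mpr hp2)
      have h4 : orderOf z = 1 := Nat.eq_one_of_dvd_coprimes hcop h2 h3
      exact orderOf_eq_one_iff.mp h4
    · intro z hz n hn n' hn'
      have h1 : ⁅n, z⁆ ∈ ⁅P, N⁆ := by
        rw [Subgroup.commutator_comm P N]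
        exact Subgroup.commutator_mem_commutator hn hz
      show ⁅n', ⁅n, z⁆⁆ ∈ ⁅⁅P, N⁆, N⁆
      rw [Subgroup.commutator_comm ⁅P, N⁆ N]
      exact Subgroup.commutator_mem_commutator hn' h1
    · intro z hz
      have h1 : ⁅g, z⁆ ∈ ⁅W, B⁆ := by
        rw [Subgroup.commutator_comm W B]
        exact Subgroup.commutator_mem_commutator hg (hPW hz)
      have h2 : ⁅g, ⁅g, z⁆⁆ ∈ ⁅⁅W, B⁆, B⁆ := by
        rw [Subgroup.commutator_comm ⁅W, B⁆ B]
        exact Subgroup.commutator_mem_commutator hg h1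
      rw [hWBB, Subgroup.mem_bot] at h2
      exact h2
    · intro x hx x' hx'
      have hxN : x ∈ Subgroup.normalizer (B : Set G) := hAB (hXA hx)
      have hx'N : x' ∈ Subgroup.normalizer ((Zc B : Subgroup G) : Set G) :=
        normalizer_le_normalizer_Zc B (hAB (hXA hx'))
      have hgx : ⁅g, x⁆ ∈ B := by
        have e : ⁅g, x⁆ = g * (x * g⁻¹ * x⁻¹) := by rw [commutatorElement_def]; group
        rw [e]
        exact B.mul_mem hg ((Subgroup.mem_normalizer_iff.mp hxN g⁻¹).mp (B.inv_mem hg))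
      have hy : ⁅g, ⁅g, x⁆⁆ ∈ Zc B := by
        have h1 : ⁅g, ⁅g, x⁆⁆ ∈ ⁅B, B⁆ := Subgroup.commutator_mem_commutator hg hgx
        exact Subgroup.mem_inf.mpr ⟨Subgroup.commutator_le_self B h1, hBcl h1⟩
      have hy' : ⁅x', ⁅g, ⁅g, x⁆⁆⁆ ∈ Zc B := by
        rw [commutatorElement_def]
        exact (Zc B).mul_mem ((Subgroup.mem_normalizer_iff.mp hx'N _).mp hy) ((Zc B).inv_mem hy)
      have h2 : ⁅g, ⁅x', ⁅g, ⁅g, x⁆⁆⁆⁆ = 1 := by
        rw [commutatorElement_eq_one_iff_commute]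
        have h3 := Subgroup.mem_centralizer_iff.mp (Subgroup.mem_inf.mp hy').2 g hg
        exact h3
      rw [h2]
      exact C.one_mem
  have hBPC : ⁅B, P⁆ ≤ C := by
    rw [Subgroup.commutator_le]
    intro b hb z hz
    exact (hK b hb).main z hz
  have hPNC : ⁅P, N⁆ ≤ C := by
    have h1 : B ≤ Ann P C :=
      (le_Ann_iff P C B).mpr (by rw [Subgroup.commutator_comm]; exact hBPC)
    have h2 : N ≤ Ann P C := Subgroup.normalClosure_le_normal h1
    exact (le_Ann_iff P C N).mp h2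
  set Y : Subgroup G := ⁅P, N⁆ with hY
  have hYW : Y ≤ W := (Subgroup.commutator_le_left P N).trans hPW
  have hYbot : Y = ⊥ := by
    by_contra hne
    obtain ⟨Y', hchY⟩ := exists_chief_below Y hne
    haveI := hchY.2.2.1
    have h1 : N ≤ Ann Y Y' := hNtriv W hTrivW Y Y' hchY hYW
    have h2 : ⁅Y, N⁆ ≤ Y' := (le_Ann_iff Y Y' N).mp h1
    have h3 : Y ≤ Y' := hPNC.trans h2
    exact hchY.1.not_ge h3
  apply hBP
  have h1 : ⁅B, P⁆ ≤ Y := by
    rw [Subgroup.commutator_comm]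
    exact Subgroup.commutator_mono le_rfl hBN
  rw [hYbot] at h1
  exact le_bot_iff.mp h1

/-- the test (iii), for every prime -/
theorem le_pCore_of_tests (S : Sylow p G) (A : Subgroup G) [hAn : A.Normal]
    (hAT : A ≤ Cfsg.pCore p G)
    (hA2 : ⁅A, A⁆ ≤ Subgroup.centralizer ((A : Subgroup G) : Set G))
    (hA3 : ⁅Cfsg.pCore p G, A⁆ ≤ Zc A)
    (hA5 : ∀ φ : MulAut ↥(Cfsg.pCore p G), (orderOf φ).Coprime p →
      (∀ a : ↥(Cfsg.pCore p G), (a : G) ∈ A → φ a = a) → φ = 1)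
    (hCT : Subgroup.centralizer ((Cfsg.pCore p G : Subgroup G) : Set G) ≤ Cfsg.pCore p G)
    (hno : ∀ g ∈ (S : Subgroup G), g ∉ Cfsg.pCore p G → Cubic A g → ¬ Good A g)
    (B : Subgroup G) (hBS : B ≤ (S : Subgroup G)) (hBcl : B ∈ classTwoSubgroups G)
    (hAB : A ≤ Subgroup.normalizer (B : Set G))
    (htest : ∀ X ∈ classTwoSubgroups G, X ≤ A → B ≤ Subgroup.normalizer (X : Set G) →
      ⁅B, ⁅X, X⁆⁆ = ⊥ → ⁅⁅Zc B, X⁆, X⁆ = ⊥ → ⁅B, X⁆ ≤ Zc B) : B ≤ Cfsg.pCore p G := by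
  have htest' : ∀ X : Subgroup G, X.Normal → X ≤ A → ⁅B, ⁅X, X⁆⁆ = ⊥ → ⁅⁅Zc B, X⁆, X⁆ = ⊥ →
      ⁅B, X⁆ ≤ Zc B := by
    intro X hXn hXA h1 h2
    haveI := hXn
    refine htest X ?_ hXA ?_ h1 h2
    · show ⁅X, X⁆ ≤ Subgroup.centralizer (X : Set G)
      exact ((Subgroup.commutator_mono hXA hXA).trans hA2).trans
        (Subgroup.centralizer_le (by exact_mod_cast hXA))
    · rw [Subgroup.normalizer_eq_top]
      exact le_top
  by_cases hp2 : p = 2
  · by_contra hBT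
    obtain ⟨g, hgB, hgT, hgg⟩ := exists_sq_mem hp2 (S.isPGroup'.to_le hBS) hBT
    -- all elements of `B` are cubic
    haveI hWn : (Zc A).Normal := Zc_normal A
    have hWab : ⁅Zc A, Zc A⁆ = ⊥ := Zc_abelian A
    have hAB' : ⁅A, B⁆ ≤ B := by
      rw [Subgroup.commutator_comm]; exact commutator_le_of_le_normalizer hAB
    have hBW : ⁅B, Zc A⁆ ≤ Zc B := by
      refine htest' (Zc A) hWn inf_le_left ?_ ?_
      · rw [hWab]; exact Subgroup.commutator_bot_right B
      · have h1 : ⁅Zc B, Zc A⁆ ≤ Zc A := Subgroup.commutator_le_right _ _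
        have h2 := Subgroup.commutator_mono h1 (le_refl (Zc A))
        rw [hWab] at h2
        exact le_bot_iff.mp h2
    have hWBB : ⁅⁅Zc A, B⁆, B⁆ = ⊥ := by
      have h2 : ⁅⁅Zc A, B⁆, B⁆ ≤ ⁅Zc B, B⁆ :=
        Subgroup.commutator_mono (by rw [Subgroup.commutator_comm]; exact hBW) le_rfl
      rw [Zc_commutator_eq_bot] at h2
      exact le_bot_iff.mp h2
    have hABBB : ⁅⁅⁅A, B⁆, B⁆, B⁆ = ⊥ := by
      have h2 : ⁅⁅⁅A, B⁆, B⁆, B⁆ ≤ ⁅⁅B, B⁆, B⁆ :=
        Subgroup.commutator_mono (Subgroup.commutator_mono hAB' le_rfl) le_rfl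
      rw [triple_eq_bot_of_classTwo hBcl] at h2
      exact le_bot_iff.mp h2
    exact hno g (hBS hgB) hgT (cubic_of_le hgB hABBB hWBB)
      (good_of_two hp2 A hAT hA5 hCT hgT hgg)
  · exact lemmaIII hp2 S A hAT hA2 hA3 hA5 hCT hno B hBS hBcl hAB htest'

/-- the theorem on critical subgroups, with the quadratic chief factor -/
theorem exists_cubic_good (S : Sylow p G) (A : Subgroup G) (hAT : A ≤ Cfsg.pCore p G)
    (hAchar : (A.subgroupOf (Cfsg.pCore p G)).Characteristic)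
    (hA2 : ⁅A, A⁆ ≤ Subgroup.centralizer ((A : Subgroup G) : Set G))
    (hA3 : ⁅Cfsg.pCore p G, A⁆ ≤ A ⊓ Subgroup.centralizer ((A : Subgroup G) : Set G))
    (hA5 : ∀ φ : MulAut ↥(Cfsg.pCore p G), (orderOf φ).Coprime p →
      (∀ a : ↥(Cfsg.pCore p G), (a : G) ∈ A → φ a = a) → φ = 1)
    (hK : ¬ (Cfsg.inducedFunctor Cfsg.kInfLower (S : Subgroup G)).Normal ∨
      ¬ (Cfsg.inducedFunctor Cfsg.kInfUpper (S : Subgroup G)).Normal) :
    ∃ g : G, g ∈ (S : Subgroup G) ∧ g ∉ Cfsg.pCore p G ∧ Cubic A g ∧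
      (Subgroup.centralizer ((Cfsg.pCore p G : Subgroup G) : Set G) ≤ Cfsg.pCore p G →
        Good A g) := by
  by_cases hCT : Subgroup.centralizer ((Cfsg.pCore p G : Subgroup G) : Set G) ≤ Cfsg.pCore p G
  · by_contra hcon
    haveI hTn : (Cfsg.pCore p G).Normal := pCore_normal p G
    haveI hAn : A.Normal := normal_of_characteristic_subgroupOf hAT hAchar
    have hno : ∀ g ∈ (S : Subgroup G), g ∉ Cfsg.pCore p G → Cubic A g → ¬ Good A g :=
      fun g hg hgT hc hgood => hcon ⟨g, hg, hgT, hc, fun _ => hgood⟩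
    have hSA : (S : Subgroup G) ≤ Subgroup.normalizer (A : Set G) := by
      rw [Subgroup.normalizer_eq_top]; exact le_top
    have hTS : Cfsg.pCore p G ≤ (S : Subgroup G) := pCore_le_sylow S
    have hQ : ∀ B : Subgroup G, B ≤ (S : Subgroup G) → ⁅⁅A, B⁆, B⁆ ≤ Zc A →
        ⁅⁅Zc A, B⁆, B⁆ = ⊥ → B ≤ Cfsg.pCore p G := by
      intro B hBS h1 h2
      by_contra hBT
      obtain ⟨g, hgB, hgT⟩ := SetLike.not_le_iff_exists.mp hBT
      have hz : Subgroup.zpowers g ≤ B := Subgroup.zpowers_le.mpr hgB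
      haveI hWn : (Zc A).Normal := Zc_normal A
      have h3 : ⁅⁅⁅A, B⁆, B⁆, B⁆ ≤ Zc A :=
        (Subgroup.commutator_mono h1 le_rfl).trans (Subgroup.commutator_le_left (Zc A) B)
      have hcub : Cubic A g := by
        constructor
        · show ⁅⁅⁅A, Subgroup.zpowers g⁆, Subgroup.zpowers g⁆, Subgroup.zpowers g⁆ ≤ Zc A
          exact (Subgroup.commutator_mono (Subgroup.commutator_mono
            (Subgroup.commutator_mono le_rfl hz) hz) hz).trans h3
        · have h4 : ⁅⁅Zc A, Subgroup.zpowers g⁆, Subgroup.zpowers g⁆ ≤ ⁅⁅Zc A, B⁆, B⁆ :=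
            Subgroup.commutator_mono (Subgroup.commutator_mono le_rfl hz) hz
          rw [h2] at h4
          exact le_bot_iff.mp h4
      apply hno g (hBS hgB) hgT hcub
      refine good_of_quad A hAT hA5 hCT hgT ?_ hcub.2
      exact (Subgroup.commutator_mono (Subgroup.commutator_mono le_rfl hz) hz).trans h1
    have hIII := fun B hBS hBcl hAB htest =>
      le_pCore_of_tests S A hAT hA2 hA3 hA5 hCT hno B hBS hBcl hAB htest
    obtain ⟨hE, hO⟩ := seq_le_of_tests hTS hAT hSA hA2 hA3 hQ hIII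
    have h1 : (⨆ n, relEven (S : Subgroup G) n).Normal := by
      rw [iSup_relEven_eq hTS hE (hO 0)]
      exact iSup_relEven_normal _
    have h2 : (⨅ n, relOdd (S : Subgroup G) n).Normal := by
      rw [iInf_relOdd_eq hTS hE (hO 0)]
      exact iInf_relOdd_normal _
    rw [induced_kInfLower, induced_kInfUpper] at hK
    rcases hK with h | h
    · exact h h1
    · exact h h2
  · obtain ⟨g, hgS, hgT, hc⟩ := exists_cubic S A hAT hAchar hA2 hA3 hK
    exact ⟨g, hgS, hgT, hc, fun h => absurd h hCT⟩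

end sylow

end Cfsg.Agent.Lib.Lead.KInf
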