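import Mathlib
import Cfsg.Agent.Lib.Lead.KInf14

/-!
# Failure of `p`-stability in a quotient, from a quadratic chief factor

An automorphism of order prime to `p` of a `p`-group `T` that fixes a self-centralizing normal subgroup elementwise
is trivial; a quadratic and non-trivial action on a chief factor `U / V` makes `G / V` fail `p`-stability.
-/

set_option autoImplicit false
set_option linter.style.haveILetI false
set_option linter.unusedVariables false
set_option linter.unusedSectionVars false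

namespace Cfsg.Agent.Lib.Lead.KInf

open Cfsg Cfsg.Agent.Lib.Helper7
open scoped commutatorElement

section aut

variable {G : Type*} [Group G] {p : ℕ} [Fact p.Prime]

/-- an automorphism of order prime to `p` of the `p`-group `T` fixing `A` elementwise, `C_T(A) ≤ A`, is trivial -/
theorem aut_trivial_of_critical {T A : Subgroup G} (hTp : IsPGroup p ↥T) (hAT : A ≤ T)
    (hAnorm : ∀ x ∈ T, ∀ a ∈ A, x * a * x⁻¹ ∈ A)
    (hC : T ⊓ Subgroup.centralizer (A : Set G) ≤ A) (φ : MulAut ↥T) (hφ : (orderOf φ).Coprime p)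
    (hfix : ∀ a : ↥T, (a : G) ∈ A → φ a = a) : φ = 1 := by
  ext x
  rw [MulAut.one_apply]
  congr 1
  set c : ↥T := x⁻¹ * φ x with hc
  have hcC : (c : G) ∈ Subgroup.centralizer (A : Set G) := by
    rw [Subgroup.mem_centralizer_iff]
    intro a ha
    set a' : ↥T := ⟨a, hAT ha⟩ with ha'
    have hy : ((x * a' * x⁻¹ : ↥T) : G) ∈ A := by
      have := hAnorm x x.2 a ha
      simpa using this
    have h1 := hfix _ hy
    rw [map_mul, map_mul, map_inv, hfix a' ha] at h1
    have h2 : a' * c = c * a' := by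
      rw [hc]
      calc a' * (x⁻¹ * φ x) = x⁻¹ * (x * a' * x⁻¹) * φ x := by group
        _ = x⁻¹ * (φ x * a' * (φ x)⁻¹) * φ x := by rw [h1]
        _ = x⁻¹ * φ x * a' := by group
    have h3 := congrArg Subtype.val h2
    simpa using h3
  have hcA : (c : G) ∈ A := hC (Subgroup.mem_inf.mpr ⟨c.2, hcC⟩)
  have hφc : φ c = c := hfix c hcA
  have hφx : φ x = x * c := by rw [hc]; group
  have hpow : ∀ k : ℕ, (φ ^ k) x = x * c ^ k := by
    intro k
    induction k with
    | zero => simp
    | succ k ih =>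
      rw [pow_succ', MulAut.mul_apply, ih, map_mul, map_pow, hφc, hφx, pow_succ', mul_assoc]
  have h1 := hpow (orderOf φ)
  rw [pow_orderOf_eq_one, MulAut.one_apply] at h1
  have h2 : c ^ orderOf φ = 1 := by
    have := h1.symm
    exact mul_eq_left.mp this
  obtain ⟨m, hm⟩ := hTp c
  have h3 : orderOf c ∣ orderOf φ := orderOf_dvd_of_pow_eq_one h2
  have h4 : orderOf c ∣ p ^ m := orderOf_dvd_of_pow_eq_one hm
  have h5 : (orderOf φ).Coprime (p ^ m) := Nat.Coprime.pow_right m hφ
  have h6 : orderOf c = 1 := Nat.eq_one_of_dvd_coprimes h5 h3 h4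
  have h7 : c = 1 := orderOf_eq_one_iff.mp h6
  rw [hφx, h7, mul_one]

end aut

section pstable

universe u

variable {G : Type u} [Group G] [Finite G] {p : ℕ} [Fact p.Prime]

/-- a quadratic, non-trivial action on a chief factor `U / V` inside a `p`-group: `G / V` is not `p`-stable -/
theorem not_pstable_of_quadratic {U V : Subgroup G} (hch : Cfsg.IsChiefFactor U V)
    (hUp : IsPGroup p ↥U) {g : G}
    (hq : ⁅⁅U, Subgroup.zpowers g⁆, Subgroup.zpowers g⁆ ≤ V)
    (hnt : ¬ ⁅U, Subgroup.zpowers g⁆ ≤ V) :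
    ∃ (N : Subgroup G) (_ : N.Normal), ¬ Cfsg.IsNormalizerPStable p (G ⧸ N) := by
  have hUn : U.Normal := hch.2.1
  have hVn : V.Normal := hch.2.2.1
  haveI := hUn
  haveI := hVn
  refine ⟨V, hVn, ?_⟩
  intro hst
  set π : G →* G ⧸ V := QuotientGroup.mk' V with hπ
  have hπs : Function.Surjective π := QuotientGroup.mk'_surjective V
  have hπ1 : ∀ z : G, π z = 1 ↔ z ∈ V := fun z => by
    rw [← MonoidHom.mem_ker, QuotientGroup.ker_mk']
  set P : Subgroup (G ⧸ V) := U.map π with hP
  haveI hPn : P.Normal := hUn.map π hπs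
  have hPp : IsPGroup p ↥P := hUp.map π
  have hnorm : ∀ x : G, π x ∈ Subgroup.normalizer (P : Set (G ⧸ V)) := by
    intro x
    rw [Subgroup.normalizer_eq_top]
    exact Subgroup.mem_top _
  have hquad : ⁅⁅P, Subgroup.zpowers (π g)⁆, Subgroup.zpowers (π g)⁆ = ⊥ := by
    have h1 : ⁅⁅P, Subgroup.zpowers (π g)⁆, Subgroup.zpowers (π g)⁆ =
        (⁅⁅U, Subgroup.zpowers g⁆, Subgroup.zpowers g⁆).map π := by
      rw [Subgroup.map_commutator, Subgroup.map_commutator, MonoidHom.map_zpowers]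
    rw [h1, Subgroup.map_eq_bot_iff, QuotientGroup.ker_mk']
    exact hq
  have hmem := hst P hPp (π g) (hnorm g) hquad
  -- the homomorphism onto the automizer
  set Cn : Subgroup ↥(Subgroup.normalizer (P : Set (G ⧸ V))) :=
    (Subgroup.centralizer (P : Set (G ⧸ V))).subgroupOf (Subgroup.normalizer (P : Set (G ⧸ V)))
    with hCn
  set ψ : G →* ↥(Subgroup.normalizer (P : Set (G ⧸ V))) ⧸ Cn :=
    (QuotientGroup.mk' Cn).comp (π.codRestrict (Subgroup.normalizer (P : Set (G ⧸ V))) hnorm)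
    with hψ
  have hψ1 : ∀ n : G, ψ n = 1 ↔ n ∈ Ann U V := by
    intro n
    have e1 : ψ n = 1 ↔ π n ∈ Subgroup.centralizer (P : Set (G ⧸ V)) := by
      rw [hψ, MonoidHom.comp_apply, QuotientGroup.mk'_apply, QuotientGroup.eq_one_iff, hCn,
        Subgroup.mem_subgroupOf]
      rfl
    rw [e1, Subgroup.mem_centralizer_iff]
    constructor
    · intro h m hm
      rw [Subgroup.normalCore_eq_self, ← hπ1, map_commutatorElement,
        commutatorElement_eq_one_iff_commute]
      exact h (π m) (Subgroup.mem_map_of_mem π hm)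
    · rintro h _ ⟨m, hm, rfl⟩
      have h1 := h m hm
      rw [Subgroup.normalCore_eq_self, ← hπ1, map_commutatorElement,
        commutatorElement_eq_one_iff_commute] at h1
      exact h1.eq
  set R : Subgroup G := (Cfsg.pCore p (↥(Subgroup.normalizer (P : Set (G ⧸ V))) ⧸ Cn)).comap ψ
    with hR
  haveI hRn : R.Normal := (pCore_normal p _).comap ψ
  have hRp : ∀ n ∈ R, (orderOf n).Coprime p → n ∈ Ann U V := by
    intro n hn hnp
    rw [← hψ1]
    have h1 : ψ n ∈ Cfsg.pCore p (↥(Subgroup.normalizer (P : Set (G ⧸ V))) ⧸ Cn) := hn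
    obtain ⟨m, hm⟩ := (pCore_isPGroup p _) ⟨ψ n, h1⟩
    have hm' : ψ n ^ p ^ m = 1 := by
      have h2 := congrArg Subtype.val hm
      rwa [Subgroup.coe_pow, Subgroup.coe_one] at h2
    have h3 : orderOf (ψ n) ∣ p ^ m := orderOf_dvd_of_pow_eq_one hm'
    have h4 : orderOf (ψ n) ∣ orderOf n := orderOf_map_dvd ψ n
    have h5 : (orderOf n).Coprime (p ^ m) := Nat.Coprime.pow_right m hnp
    exact orderOf_eq_one_iff.mp (Nat.eq_one_of_dvd_coprimes h5 h4 h3)
  have hRA : R ≤ Ann U V := le_Ann_of_pprime hch hUp hRp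
  have hgR : g ∈ R := hmem
  have hgA : g ∈ Ann U V := hRA hgR
  apply hnt
  have hz : Subgroup.zpowers g ≤ Ann U V := Subgroup.zpowers_le.mpr hgA
  exact (le_Ann_iff U V _).mp hz

end pstable

section final

universe u

variable {G : Type u} [Group G] [Finite G] {p : ℕ} [Fact p.Prime]

/-- the theorem on the K-infinity subgroups, with the failure of `p`-stability -/
theorem engel_pstable_of_not_normal (S : Sylow p G)
    (hK : ¬ (Cfsg.inducedFunctor Cfsg.kInfLower (S : Subgroup G)).Normal ∨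
      ¬ (Cfsg.inducedFunctor Cfsg.kInfUpper (S : Subgroup G)).Normal) :
    ∃ g : G, g ∈ (S : Subgroup G) ∧ g ∉ Cfsg.pCore p G ∧
      (∀ U V : Subgroup G, Cfsg.IsChiefFactor U V → U ≤ Cfsg.pCore p G →
        Cfsg.iterCommutator U (Subgroup.zpowers g) 4 ≤ V) ∧
      ⁅⁅Zc (Cfsg.pCore p G), Subgroup.zpowers g⁆, Subgroup.zpowers g⁆ = ⊥ ∧
      (Subgroup.centralizer ((Cfsg.pCore p G : Subgroup G) : Set G) ≤ Cfsg.pCore p G →
        ∃ (N : Subgroup G) (_ : N.Normal), ¬ Cfsg.IsNormalizerPStable p (G ⧸ N)) := by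
  obtain ⟨A, hAT, hAchar, hA2, hA3, hA4⟩ := exists_critical_pCore p G
  haveI := pCore_normal p G
  have hTp := pCore_isPGroup p G
  haveI hAn : A.Normal := normal_of_characteristic_subgroupOf hAT hAchar
  have hA5 : ∀ φ : MulAut ↥(Cfsg.pCore p G), (orderOf φ).Coprime p →
      (∀ a : ↥(Cfsg.pCore p G), (a : G) ∈ A → φ a = a) → φ = 1 := by
    intro φ hφ hfix
    refine aut_trivial_of_critical hTp hAT (fun x _ a ha => hAn.conj_mem a ha x) ?_ φ hφ hfix
    rw [hA4]
    exact inf_le_left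
  obtain ⟨g, hgS, hgT, hg, hgood⟩ := exists_cubic_good S A hAT hAchar hA2 hA3 hA5 hK
  refine ⟨g, hgS, hgT, engel_four_of_cubic A hAT hA3 hA4 hg, ?_, ?_⟩
  · have hZT : Zc (Cfsg.pCore p G) ≤ Zc A := by
      rw [← hA4]
      refine le_inf inf_le_left ?_
      exact (inf_le_right : Zc (Cfsg.pCore p G) ≤ _).trans (Subgroup.centralizer_le hAT)
    have := Subgroup.commutator_mono (Subgroup.commutator_mono hZT (le_refl (Subgroup.zpowers g)))
      (le_refl (Subgroup.zpowers g))
    rw [hg.2] at this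
    exact le_bot_iff.mp this
  · intro hCT
    obtain ⟨U, V, hch, hUA, hq, hnt⟩ := hgood hCT
    exact not_pstable_of_quadratic hch (hTp.to_le (hUA.trans hAT)) hq hnt

end final

end Cfsg.Agent.Lib.Lead.KInf
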