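import Mathlib
import Cfsg.Agent.Lib.Lead.KInf15
import Cfsg.Agent.Lib.Helper4.GTFus6
import Cfsg.Agent.Lib.Helper7.ZJCtl

/-!
# Control of strong fusion by the K-infinity subgroups in groups with `p`-stable sections

The K-infinity subgroups of a Sylow `p`-subgroup are normal in every constrained group all of whose quotients are
`p`-stable; so they control strong fusion in every group all of whose sections are `p`-stable.
-/

set_option autoImplicit false
set_option linter.style.haveILetI false
set_option linter.unusedVariables false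
set_option linter.unusedSectionVars false

namespace Cfsg.Agent.Lib.Lead.KInf

open Cfsg Cfsg.Agent.Lib.Helper7 Cfsg.Agent.Lib.Helper4.GTFus Cfsg.Agent.Lib.Helper4.GTSec
  Cfsg.Agent.Lib.Helper4.GT2 Cfsg.Agent.S1959
open scoped commutatorElement

universe u v

section control

variable {p : ℕ} [Fact p.Prime]

/-- Glauberman's theorem in the form used here: a functor normal in the constrained members of the class of sections of
`G` controls strong fusion in every section -/
theorem controls_of_normal_in_constrained (G : Type u) [Group G]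
    (W : ∀ (Q : Type u) [Group Q], Subgroup Q) (hW : Cfsg.IsCharPFunctor.{u} p W)
    (hloc : ∀ (X : Type u) [Group X] [Finite X], IsSec G X →
      Subgroup.centralizer ((Cfsg.pCore p X : Subgroup X) : Set X) ≤ Cfsg.pCore p X →
      ∀ T : Sylow p X, (Cfsg.inducedFunctor (G := X) W (T : Subgroup X)).Normal)
    (X : Type u) [Group X] [Finite X] (hX : IsSec G X) (T : Sylow p X) :
    Cfsg.ControlsStrongFusion p (Cfsg.inducedFunctor (G := X) W (T : Subgroup X)) := by
  have h𝓦 : ∀ W' ∈ ({W} : Set (∀ (Q : Type u) [Group Q], Subgroup Q)),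
      Cfsg.IsCharPFunctor.{u} p W' := by
    rintro _ rfl; exact hW
  have hfam := main h𝓦 G (fun Y _ _ hY hc => by
    obtain ⟨T'⟩ : Nonempty (Sylow p Y) := inferInstance
    have hn := hloc Y hY hc T'
    refine family_of_ch T' (fun A g hA hgA => Ch.single _ ⟨W, rfl, rfl⟩ ?_ hA hgA)
    rw [Subgroup.normalizer_eq_top_iff.mpr hn]; exact Subgroup.mem_top g) (Nat.card X) X rfl hX
  refine ⟨T, (pFunctor2_induced W hW).le _ _ T.isPGroup', fun A hA => ⟨hA, fun g hgA => ?_⟩⟩
  have hch := ch_of_top h𝓦 T hfam hA hgA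
  obtain ⟨x, hx, hxa⟩ := ch_single_functor (W₀ := Cfsg.inducedFunctor (G := X) W)
    (by rintro _ ⟨W', rfl, rfl⟩; rfl) hch
  exact ⟨x, hx, fun a ha => (hxa a ha).symm⟩

/-- the sections of `G` are `p`-stable when the sections `K ⧸ R` are -/
theorem pstable_of_isSec {G : Type u} [Group G]
    (hst : ∀ (K R : Subgroup G) [hR : (R.subgroupOf K).Normal],
      Cfsg.IsNormalizerPStable p (↥K ⧸ R.subgroupOf K))
    (X : Type u) [Group X] (hX : IsSec G X) : Cfsg.IsNormalizerPStable p X := by
  obtain ⟨K, R, hR, ⟨e⟩⟩ := isSec_equiv G X hX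
  haveI := hR
  exact QuadLin.isNormalizerPStable_of_injective e.toMonoidHom e.injective (hst K R)

/-- the K-infinity subgroups are normal in a constrained group all of whose quotients are `p`-stable -/
theorem kinf_normal_of_pstable (X : Type u) [Group X] [Finite X]
    (hst : ∀ (N : Subgroup X) [N.Normal], Cfsg.IsNormalizerPStable p (X ⧸ N))
    (hc : Subgroup.centralizer ((Cfsg.pCore p X : Subgroup X) : Set X) ≤ Cfsg.pCore p X)
    (T : Sylow p X) :
    (Cfsg.inducedFunctor (G := X) Cfsg.kInfLower (T : Subgroup X)).Normal ∧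
      (Cfsg.inducedFunctor (G := X) Cfsg.kInfUpper (T : Subgroup X)).Normal := by
  by_contra hcon
  have hK : ¬ (Cfsg.inducedFunctor Cfsg.kInfLower (T : Subgroup X)).Normal ∨
      ¬ (Cfsg.inducedFunctor Cfsg.kInfUpper (T : Subgroup X)).Normal := not_and_or.mp hcon
  obtain ⟨g, -, -, -, -, h5⟩ := engel_pstable_of_not_normal T hK
  obtain ⟨N, hN, hns⟩ := h5 hc
  haveI := hN
  exact hns (hst N)

/-- the K-infinity subgroups control strong fusion in every section of a group with `p`-stable sections -/
theorem kinf_controls (G : Type u) [Group G]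
    (hst : ∀ (X : Type u) [Group X] [Finite X], IsSec G X → Cfsg.IsNormalizerPStable p X)
    (X : Type u) [Group X] [Finite X] (hX : IsSec G X) (T : Sylow p X) :
    Cfsg.ControlsStrongFusion p (Cfsg.inducedFunctor (G := X) Cfsg.kInfLower (T : Subgroup X)) ∧
      Cfsg.ControlsStrongFusion p (Cfsg.inducedFunctor (G := X) Cfsg.kInfUpper (T : Subgroup X)) := by
  have hn : ∀ (Y : Type u) [Group Y] [Finite Y], IsSec G Y →
      Subgroup.centralizer ((Cfsg.pCore p Y : Subgroup Y) : Set Y) ≤ Cfsg.pCore p Y →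
      ∀ T' : Sylow p Y,
        (Cfsg.inducedFunctor (G := Y) Cfsg.kInfLower (T' : Subgroup Y)).Normal ∧
        (Cfsg.inducedFunctor (G := Y) Cfsg.kInfUpper (T' : Subgroup Y)).Normal := by
    intro Y _ _ hY hc T'
    exact kinf_normal_of_pstable Y (fun N _ => hst (Y ⧸ N) (isSec_quot G Y N hY)) hc T'
  exact ⟨controls_of_normal_in_constrained G Cfsg.kInfLower (isCharPFunctor_kInfLower p)
      (fun Y _ _ hY hc T' => (hn Y hY hc T').1) X hX T,
    controls_of_normal_in_constrained G Cfsg.kInfUpper (isCharPFunctor_kInfUpper p)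
      (fun Y _ _ hY hc T' => (hn Y hY hc T').2) X hX T⟩

/-- a section `K ⧸ R` belongs to the class -/
theorem isSec_section (G : Type u) [Group G] (K R : Subgroup G) [hR : (R.subgroupOf K).Normal] :
    IsSec G (↥K ⧸ R.subgroupOf K) :=
  isSec_quot G ↥K _ (isSec_sub G G K (isSec_self G))

/-- members of the class of sections of a `Qd(p)`-free group are `Qd(p)`-free -/
theorem qd_free_of_isSec {G : Type u} [Group G] (hfree : ¬ Cfsg.Involves ↥(Cfsg.qd p) G)
    (X : Type u) [Group X] (hX : IsSec G X) : ¬ Cfsg.Involves ↥(Cfsg.qd p) X := by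
  obtain ⟨K, f, hf⟩ := hX
  intro h
  apply hfree
  exact involves_of_injective K.subtype K.subtype_injective (QuadLin.involves_of_surjective f hf h)

end control

section good

variable {G : Type u} [Group G] [Finite G] {p : ℕ} [Fact p.Prime]

/-- if a K-infinity subgroup of `S` is not normal in the constrained group `G`, some element of `S` outside `O_p(G)` acts
quadratically and non-trivially on a chief factor inside `O_p(G)` -/
theorem exists_good_of_not_normal (S : Sylow p G)
    (hK : ¬ (Cfsg.inducedFunctor Cfsg.kInfLower (S : Subgroup G)).Normal ∨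
      ¬ (Cfsg.inducedFunctor Cfsg.kInfUpper (S : Subgroup G)).Normal)
    (hCT : Subgroup.centralizer ((Cfsg.pCore p G : Subgroup G) : Set G) ≤ Cfsg.pCore p G) :
    ∃ g : G, g ∈ (S : Subgroup G) ∧ g ∉ Cfsg.pCore p G ∧ ∃ U V : Subgroup G,
      Cfsg.IsChiefFactor U V ∧ U ≤ Cfsg.pCore p G ∧
      ⁅⁅U, Subgroup.zpowers g⁆, Subgroup.zpowers g⁆ ≤ V ∧ ¬ ⁅U, Subgroup.zpowers g⁆ ≤ V := by
  obtain ⟨A, hAT, hAchar, hA2, hA3, hA4⟩ := exists_critical_pCore p G
  haveI := pCore_normal p G
  have hTp := pCore_isPGroup p G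
  haveI hAn : A.Normal := normal_of_characteristic_subgroupOf hAT hAchar
  have hA5 : ∀ φ : MulAut ↥(Cfsg.pCore p G), (orderOf φ).Coprime p →
      (∀ a : ↥(Cfsg.pCore p G), (a : G) ∈ A → φ a = a) → φ = 1 := by
    intro φ hφ hfix
    refine aut_trivial_of_critical hTp hAT (fun x _ a ha => hAn.conj_mem a ha x) ?_ φ hφ hfix
    rw [hA4]
    exact inf_le_left
  obtain ⟨g, hgS, hgT, hg, hgood⟩ := exists_cubic_good S A hAT hAchar hA2 hA3 hA5 hK
  obtain ⟨U, V, hch, hUA, hq, hnt⟩ := hgood hCT
  exact ⟨g, hgS, hgT, U, V, hch, hUA.trans hAT, hq, hnt⟩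

end good

section transport

/-- transport of the lower K-infinity subgroup along an injective homomorphism -/
theorem induced_kInfLower_map {A : Type u} {B : Type v} [Group A] [Group B] (f : A →* B)
    (hf : Function.Injective f) (P : Subgroup A) :
    (Cfsg.inducedFunctor (G := A) Cfsg.kInfLower P).map f =
      Cfsg.inducedFunctor (G := B) Cfsg.kInfLower (P.map f) := by
  rw [induced_kInfLower, induced_kInfLower, Subgroup.map_iSup]
  exact iSup_congr fun n => relEven_map f hf P n

/-- transport of "the lower K-infinity subgroup of `T` controls strong fusion" along an isomorphism -/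
theorem controls_kinf_transport {A : Type u} {B : Type v} [Group A] [Group B] [Finite A] {p : ℕ}
    [Fact p.Prime] (e : A ≃* B) (T : Sylow p A)
    (h : Cfsg.ControlsStrongFusion p (Cfsg.inducedFunctor (G := A) Cfsg.kInfLower (T : Subgroup A))) :
    ∃ T' : Sylow p B,
      Cfsg.ControlsStrongFusion p (Cfsg.inducedFunctor (G := B) Cfsg.kInfLower (T' : Subgroup B)) := by
  haveI : Finite B := Finite.of_equiv A e.toEquiv
  have hrange : (T : Subgroup A) ≤ e.symm.toMonoidHom.range := by
    intro x _
    exact ⟨e x, e.symm_apply_apply x⟩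
  have hinj : Function.Injective e.symm.toMonoidHom := e.symm.injective
  have hT' : ((T.comapOfInjective e.symm.toMonoidHom hinj hrange : Sylow p B) : Subgroup B) =
      (T : Subgroup A).comap e.symm.toMonoidHom := rfl
  refine ⟨T.comapOfInjective e.symm.toMonoidHom hinj hrange, ?_⟩
  have h2 := ZJCtl.controlsStrongFusion_map e h
  rw [induced_kInfLower_map e.toMonoidHom e.injective] at h2
  rw [hT', show Subgroup.comap e.symm.toMonoidHom (T : Subgroup A) =
    Subgroup.map e.toMonoidHom (T : Subgroup A) from (Subgroup.map_equiv_eq_comap_symm e _).symm]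
  exact h2

end transport

section qd

open Matrix

variable {K : Type*} [Field K] [Fintype K] {p : ℕ} [Fact p.Prime] [CharP K p]

/-- no nontrivial characteristic subgroup of a Sylow `p`-subgroup of `Qd` controls strong fusion -/
theorem not_controls_qdOver_char (T : Sylow p ↥(qdOver K))
    (U : Subgroup ↥(T : Subgroup ↥(qdOver K))) (hne : U ≠ ⊥) (hch : U.Characteristic) :
    ¬ Cfsg.ControlsStrongFusion p (U.map (T : Subgroup ↥(qdOver K)).subtype) := by
  intro h
  have hV : pCore p ↥(qdOver K) ≤ T := Cfsg.Agent.H1.pCore_le_sylow T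
  obtain ⟨hN, hNT⟩ := qd_char_normalizer T U hne hch
  apply hNT
  rw [eq_top_iff]
  intro g _
  obtain ⟨x, hx, hxg⟩ := ZJCtl.exists_normalizer_mul_centralizer h g
  rw [hN] at hx
  have h1 : x⁻¹ * g ∈ Subgroup.normalizer ((T : Subgroup ↥(qdOver K)) : Set ↥(qdOver K)) :=
    Subgroup.le_normalizer (hV (ZJCtl.centralizer_pCore_qdOver_le hxg))
  have h2 : g = x * (x⁻¹ * g) := by group
  rw [h2]
  exact mul_mem hx h1

theorem nontrivial_sylow_qdOver (T : Sylow p ↥(qdOver K)) :
    Nontrivial ↥(T : Subgroup ↥(qdOver K)) := by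
  have hV : pCore p ↥(qdOver K) ≤ T := Cfsg.Agent.H1.pCore_le_sylow T
  refine ⟨⟨⟨aff 1 ![1, 0], hV ?_⟩, 1, ?_⟩⟩
  · rw [pCore_qdOver]; exact aff_one_mem_ker _
  · intro h1
    have h2 : aff (1 : SpecialLinearGroup (Fin 2) K) ![1, 0] = aff 1 0 := by
      rw [aff_one]
      exact congrArg Subtype.val h1
    have h3 := congrFun (aff_injective h2).2 0
    simp at h3

/-- the lower K-infinity subgroup of a Sylow `p`-subgroup of `Qd` does not control strong fusion -/
theorem not_controls_qdOver_kinf (T : Sylow p ↥(qdOver K)) :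
    ¬ Cfsg.ControlsStrongFusion p
      (Cfsg.inducedFunctor (G := ↥(qdOver K)) Cfsg.kInfLower (T : Subgroup ↥(qdOver K))) := by
  haveI := nontrivial_sylow_qdOver T
  have hne : Cfsg.kInfLower ↥(T : Subgroup ↥(qdOver K)) ≠ ⊥ :=
    (isCharPFunctor_kInfLower p).1 _ T.isPGroup' inferInstance
  have hch : (Cfsg.kInfLower ↥(T : Subgroup ↥(qdOver K))).Characteristic := by
    rw [Subgroup.characteristic_iff_map_eq]
    intro φ
    exact kInfLower_iso φ
  exact not_controls_qdOver_char T _ hne hch

end qd

end Cfsg.Agent.Lib.Lead.KInf
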