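import Mathlib
import Cfsg.Agent.Lib.Lead.KInf6
import Cfsg.Agent.S1972
import Cfsg.Agent.Lib.Helper7.IdxP

/-!
# The K-infinity subgroups control transfer for `p ≥ 5`
-/

set_option autoImplicit false
set_option linter.style.haveILetI false
set_option linter.unusedVariables false
set_option linter.unusedSectionVars false

namespace Cfsg.Agent.Lib.Lead.KInf

open Cfsg Cfsg.Agent.Lib.Helper7
open scoped commutatorElement

universe u

variable {p : ℕ} [Fact p.Prime]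

/-- the local hypothesis of the Engel criterion for control of transfer, lower K-infinity -/
theorem hloc_lower (hp : 5 ≤ p) (G : Type u) [Group G] [Finite G] :
    ∀ (K R : Subgroup G) [hR : (R.subgroupOf K).Normal], Subgroup.centralizer ((Cfsg.pCore p (↥K ⧸ R.subgroupOf K) : Subgroup (↥K ⧸ R.subgroupOf K)) : Set (↥K ⧸ R.subgroupOf K)) ≤ Cfsg.pCore p (↥K ⧸ R.subgroupOf K) → ∀ T : Sylow p (↥K ⧸ R.subgroupOf K), ¬ (Cfsg.inducedFunctor (G := (↥K ⧸ R.subgroupOf K)) Cfsg.kInfLower ((T : Subgroup (↥K ⧸ R.subgroupOf K)))).Normal → ∃ g : (↥K ⧸ R.subgroupOf K), g ∈ (T : Subgroup (↥K ⧸ R.subgroupOf K)) ∧ g ∉ Cfsg.pCore p (↥K ⧸ R.subgroupOf K) ∧ ∀ U V : Subgroup (↥K ⧸ R.subgroupOf K), Cfsg.IsChiefFactor U V → U ≤ Cfsg.pCore p (↥K ⧸ R.subgroupOf K) → Cfsg.iterCommutator U (Subgroup.zpowers g) (p - 1) ≤ V := by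
  intro K R hR _ T hT
  obtain ⟨g, hgT, hgP, hg4, -⟩ := engel_of_not_normal T (Or.inl hT)
  refine ⟨g, hgT, hgP, ?_⟩
  intro U V hUV hU
  haveI := hUV.2.2.1
  exact iter_le_of_le (by omega) (hg4 U V hUV hU)

/-- the local hypothesis of the Engel criterion for control of transfer, upper K-infinity -/
theorem hloc_upper (hp : 5 ≤ p) (G : Type u) [Group G] [Finite G] :
    ∀ (K R : Subgroup G) [hR : (R.subgroupOf K).Normal], Subgroup.centralizer ((Cfsg.pCore p (↥K ⧸ R.subgroupOf K) : Subgroup (↥K ⧸ R.subgroupOf K)) : Set (↥K ⧸ R.subgroupOf K)) ≤ Cfsg.pCore p (↥K ⧸ R.subgroupOf K) → ∀ T : Sylow p (↥K ⧸ R.subgroupOf K), ¬ (Cfsg.inducedFunctor (G := (↥K ⧸ R.subgroupOf K)) Cfsg.kInfUpper ((T : Subgroup (↥K ⧸ R.subgroupOf K)))).Normal → ∃ g : (↥K ⧸ R.subgroupOf K), g ∈ (T : Subgroup (↥K ⧸ R.subgroupOf K)) ∧ g ∉ Cfsg.pCore p (↥K ⧸ R.subgroupOf K) ∧ ∀ U V : Subgroup (↥K ⧸ R.subgroupOf K), Cfsg.IsChiefFactor U V → U ≤ Cfsg.pCore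 p (↥K ⧸ R.subgroupOf K) → Cfsg.iterCommutator U (Subgroup.zpowers g) (p - 1) ≤ V := by
  intro K R hR _ T hT
  obtain ⟨g, hgT, hgP, hg4, -⟩ := engel_of_not_normal T (Or.inr hT)
  refine ⟨g, hgT, hgP, ?_⟩
  intro U V hUV hU
  haveI := hUV.2.2.1
  exact iter_le_of_le (by omega) (hg4 U V hUV hU)

open Cfsg.Agent.Lib.Lead.GTTransfer Cfsg.Agent.Lib.Helper4.GTSec in
/-- control of transfer for every Sylow subgroup, lower K-infinity -/
theorem transfer_lower (hp : 5 ≤ p) {G : Type u} [Group G] [Finite G] (S : Sylow p G) :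
    (S : Subgroup G) ⊓ commutator G = (S : Subgroup G) ⊓
      ⁅Subgroup.normalizer ((Cfsg.inducedFunctor Cfsg.kInfLower (S : Subgroup G) : Subgroup G) : Set G),
        Subgroup.normalizer ((Cfsg.inducedFunctor Cfsg.kInfLower (S : Subgroup G) : Subgroup G) : Set G)⁆ := by
  have hW : Cfsg.IsCharPFunctor.{u} p Cfsg.kInfLower := isCharPFunctor_kInfLower p
  have h1 := Cfsg.Agent.S1972.all_sections' hW G (hloc_lower hp G) _ G rfl (isSec_self G)
  have h2 := ctl_of_ft (Cfsg.Agent.S1972.h𝓦_single' hW) h1 S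
  rw [commutator_def, h2]
  unfold Foc
  rw [iSup_singleton, top_inf_eq]

open Cfsg.Agent.Lib.Lead.GTTransfer Cfsg.Agent.Lib.Helper4.GTSec in
/-- control of transfer for every Sylow subgroup, upper K-infinity -/
theorem transfer_upper (hp : 5 ≤ p) {G : Type u} [Group G] [Finite G] (S : Sylow p G) :
    (S : Subgroup G) ⊓ commutator G = (S : Subgroup G) ⊓
      ⁅Subgroup.normalizer ((Cfsg.inducedFunctor Cfsg.kInfUpper (S : Subgroup G) : Subgroup G) : Set G),
        Subgroup.normalizer ((Cfsg.inducedFunctor Cfsg.kInfUpper (S : Subgroup G) : Subgroup G) : Set G)⁆ := by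
  have hW : Cfsg.IsCharPFunctor.{u} p Cfsg.kInfUpper := isCharPFunctor_kInfUpper p
  have h1 := Cfsg.Agent.S1972.all_sections' hW G (hloc_upper hp G) _ G rfl (isSec_self G)
  have h2 := ctl_of_ft (Cfsg.Agent.S1972.h𝓦_single' hW) h1 S
  rw [commutator_def, h2]
  unfold Foc
  rw [iSup_singleton, top_inf_eq]

/-- a normal subgroup of index `p`, `p ≥ 5` -/
theorem exists_normal_index_p (hp : 5 ≤ p) {G : Type u} [Group G] [Finite G] (S : Sylow p G)
    (hS : (S : Subgroup G) ≠ ⊥)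
    (hN : ∀ g ∈ Subgroup.normalizer ((S : Subgroup G) : Set G), (orderOf g).Coprime p →
      g ∈ Subgroup.centralizer ((S : Subgroup G) : Set G)) :
    ∃ N : Subgroup G, N.Normal ∧ N.index = p := by
  have hW : Cfsg.IsCharPFunctor.{u} p Cfsg.kInfLower := isCharPFunctor_kInfLower p
  have hctl := Cfsg.Agent.S1972.result Cfsg.kInfLower hW (hloc_lower hp G)
  obtain ⟨N, hN1, hN2⟩ := Cfsg.Agent.Lib.Helper7.IdxP.main Cfsg.kInfLower hW hctl (Nat.card G) G rfl
    (Cfsg.Agent.Lib.Helper4.GTSec.isSec_self G) S hS hN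
  exact ⟨N, hN1, hN2⟩

end Cfsg.Agent.Lib.Lead.KInf
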