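import Mathlib
import Cfsg.Agent.Lib.Lead.KInf7
import Cfsg.Agent.Lib.helper3.Burnside

/-!
# Groups all of whose Sylow subgroups are self-normalizing have prime power order
-/

set_option autoImplicit false
set_option linter.style.haveILetI false
set_option linter.unusedVariables false
set_option linter.unusedSectionVars false

namespace Cfsg.Agent.Lib.Lead.KInf

open Cfsg Cfsg.Agent.Lib.Helper7 Cfsg.Agent.Lib.Helper7.IdxP
open scoped commutatorElement

universe u

variable {G : Type u} [Group G] [Finite G]

/-- the Frattini argument: a normal subgroup of prime index `r` is an `r`-group -/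
theorem pgroup_of_normal_prime_index
    (h : ∀ q : ℕ, q.Prime → q ∣ Nat.card G → ∀ Q : Sylow q G,
      Subgroup.normalizer ((Q : Subgroup G) : Set G) = Q)
    (M : Subgroup G) [hMn : M.Normal] {r : ℕ} (hr : r.Prime) (hM : M.index = r) : IsPGroup r G := by
  have hcard : Nat.card M * r = Nat.card G := by rw [← hM]; exact M.card_mul_index
  have hMpos : Nat.card M ≠ 0 := Nat.card_pos.ne'
  have key : ∀ {s : ℕ}, s.Prime → s ∣ Nat.card M → s = r := by
    intro s hs hsM
    by_contra hsr
    haveI : Fact s.Prime := ⟨hs⟩
    obtain ⟨R⟩ : Nonempty (Sylow s M) := inferInstance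
    set R' : Subgroup G := (R : Subgroup M).map M.subtype with hR'
    have hc1 : Nat.card R' = Nat.card R :=
      Nat.card_congr ((R : Subgroup M).equivMapOfInjective M.subtype M.subtype_injective).symm.toEquiv
    have hfac : (Nat.card G).factorization s = (Nat.card M).factorization s := by
      rw [← hcard, Nat.factorization_mul hMpos hr.ne_zero]
      simp [Nat.Prime.factorization hr, Ne.symm hsr]
    have hc2 : Nat.card R' = s ^ (Nat.card G).factorization s := by
      rw [hc1, hfac]; exact R.card_eq_multiplicity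
    have hsG : s ∣ Nat.card G := hsM.trans (M.card_subgroup_dvd_card)
    have h1 := h s hs hsG (Sylow.ofCard R' hc2)
    rw [Sylow.coe_ofCard] at h1
    have h2 := Sylow.normalizer_sup_eq_top R
    rw [← hR', h1] at h2
    have h3 : R' ≤ M := Subgroup.map_subtype_le _
    rw [sup_eq_right.mpr h3] at h2
    rw [h2, Subgroup.index_top] at hM
    exact hr.one_lt.ne hM
  have hMpow := Nat.eq_prime_pow_of_unique_prime_dvd hMpos (fun {d} hd hdM => key hd hdM)
  refine IsPGroup.of_card (n := (Nat.card M).primeFactorsList.length + 1) ?_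
  rw [← hcard, pow_succ, ← hMpow]

/-- a nontrivial finite solvable group has a normal subgroup of prime index -/
theorem exists_normal_prime_index_of_solvable [Nontrivial G] [Group.IsSolvable G] :
    ∃ (r : ℕ) (M : Subgroup G), r.Prime ∧ M.Normal ∧ M.index = r := by
  have hlt : commutator G < ⊤ := Group.IsSolvable.commutator_lt_top_of_nontrivial G
  have hne : Nat.card (Abelianization G) ≠ 1 := by
    intro h1
    have : (commutator G).index = 1 := by rw [Subgroup.index_eq_card]; exact h1
    rw [Subgroup.index_eq_one] at this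
    exact hlt.ne this
  set r := (Nat.card (Abelianization G)).minFac with hr
  have hrp : r.Prime := Nat.minFac_prime hne
  haveI : Fact r.Prime := ⟨hrp⟩
  have hdvd : r ∣ Nat.card (Abelianization G) := Nat.minFac_dvd _
  obtain ⟨P⟩ : Nonempty (Sylow r (Abelianization G)) := inferInstance
  have hP : (P : Subgroup (Abelianization G)) ≠ ⊥ := P.ne_bot_of_dvd_card hdvd
  haveI : (P : Subgroup (Abelianization G)).Normal := Subgroup.normal_of_isMulCommutative _
  have h1 : HasIdx r (Abelianization G) := hasIdx_of_normal_sylow P hP (by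
    intro g _
    rw [Subgroup.mem_centralizer_iff]
    intro y _
    exact mul_comm _ _)
  have hf : Function.Surjective (Abelianization.of : G →* Abelianization G) :=
    QuotientGroup.mk_surjective
  obtain ⟨M, hMn, hMi⟩ := hasIdx_of_surjective Abelianization.of hf h1
  exact ⟨r, M, hrp, hMn, hMi⟩

theorem card_eq_two_pow_mul_three_pow {n : ℕ} (hn : n ≠ 0)
    (h : ∀ q : ℕ, q.Prime → q ∣ n → q < 5) : ∃ a b : ℕ, n = 2 ^ a * 3 ^ b := by
  refine ⟨n.factorization 2, n.factorization 3, ?_⟩
  have h1 : n.primeFactors ⊆ ({2, 3} : Finset ℕ) := by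
    intro q hq
    have hqp : q.Prime := Nat.prime_of_mem_primeFactors hq
    have hqd : q ∣ n := Nat.dvd_of_mem_primeFactors hq
    have hq5 := h q hqp hqd
    have hq2 := hqp.two_le
    interval_cases q
    · simp
    · simp
    · exact absurd hqp (by norm_num)
  conv_lhs => rw [← Nat.prod_factorization_pow_eq_self hn]
  rw [Finsupp.prod, Nat.support_factorization]
  rw [Finset.prod_subset h1 (fun q _ hq => by
    have : n.factorization q = 0 := by
      rw [← Finsupp.notMem_support_iff, Nat.support_factorization]; exact hq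
    rw [this, pow_zero])]
  rw [Finset.prod_pair (by norm_num)]

/-- the main theorem -/
theorem prime_power_of_self_normalizing
    (h : ∀ q : ℕ, q.Prime → q ∣ Nat.card G → ∀ Q : Sylow q G,
      Subgroup.normalizer ((Q : Subgroup G) : Set G) = Q) :
    ∃ q : ℕ, q.Prime ∧ IsPGroup q G := by
  by_cases hnt : Nontrivial G
  · by_cases h5 : ∃ q : ℕ, q.Prime ∧ 5 ≤ q ∧ q ∣ Nat.card G
    · obtain ⟨q, hq, hq5, hqd⟩ := h5
      haveI : Fact q.Prime := ⟨hq⟩
      obtain ⟨Q⟩ : Nonempty (Sylow q G) := inferInstance
      have hQ : (Q : Subgroup G) ≠ ⊥ := Q.ne_bot_of_dvd_card hqd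
      have hN : ∀ g ∈ Subgroup.normalizer ((Q : Subgroup G) : Set G), (orderOf g).Coprime q →
          g ∈ Subgroup.centralizer ((Q : Subgroup G) : Set G) := by
        intro g hg hgc
        rw [h q hq hqd Q] at hg
        obtain ⟨k, hk⟩ := Q.isPGroup' ⟨g, hg⟩
        have hk' : g ^ q ^ k = 1 := by
          have := congrArg Subtype.val hk
          simpa using this
        have h1 : orderOf g ∣ q ^ k := orderOf_dvd_of_pow_eq_one hk'
        have h2 : orderOf g = 1 := Nat.Coprime.eq_one_of_dvd (Nat.Coprime.pow_right k hgc) h1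
        rw [orderOf_eq_one_iff] at h2
        rw [h2]
        exact Subgroup.one_mem _
      obtain ⟨M, hMn, hMi⟩ := exists_normal_index_p hq5 Q hQ hN
      haveI := hMn
      exact ⟨q, hq, pgroup_of_normal_prime_index h M hq hMi⟩
    · push Not at h5
      have h6 : ∀ q : ℕ, q.Prime → q ∣ Nat.card G → q < 5 := by
        intro q hq hqd
        by_contra hc
        exact h5 q hq (not_lt.mp hc) hqd
      obtain ⟨a, b, hab⟩ := card_eq_two_pow_mul_three_pow (Nat.card_pos (α := G)).ne' h6
      haveI : Group.IsSolvable G :=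
        Cfsg.Agent.Lib.helper3.Burnside.isSolvable_of_card_eq 2 3 Nat.prime_two Nat.prime_three
          (Nat.card G) G rfl ⟨a, b, hab⟩
      obtain ⟨r, M, hr, hMn, hMi⟩ := exists_normal_prime_index_of_solvable (G := G)
      haveI := hMn
      exact ⟨r, hr, pgroup_of_normal_prime_index h M hr hMi⟩
  · rw [not_nontrivial_iff_subsingleton] at hnt
    refine ⟨2, Nat.prime_two, IsPGroup.of_card (n := 0) ?_⟩
    rw [pow_zero]
    haveI := hnt
    exact Nat.card_of_subsingleton (1 : G)

end Cfsg.Agent.Lib.Lead.KInf
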