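import Mathlib
import Cfsg.Agent.Lib.Lead.KInf6
import Cfsg.Agent.Lib.Helper4.GTFus1
import Cfsg.Prelude.Def_Amalgam

/-!
# The local quadratic condition for the lower K-infinity subgroup, inside subgroups of `G`
-/

set_option autoImplicit false
set_option linter.style.haveILetI false
set_option linter.unusedVariables false
set_option linter.unusedSectionVars false

namespace Cfsg.Agent.Lib.Lead.KInf

open Cfsg Cfsg.Agent.Lib.Helper7
open scoped commutatorElement

universe u

variable {G : Type u} [Group G] [Finite G] {p : ℕ} [Fact p.Prime]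

theorem isConjugacyFunctor_kInfLower (p : ℕ) [Fact p.Prime] (G : Type u) [Group G] [Finite G] :
    Cfsg.IsConjugacyFunctor p (Cfsg.inducedFunctor (G := G) Cfsg.kInfLower) := by
  have hW : Cfsg.IsCharPFunctor.{u} p Cfsg.kInfLower := isCharPFunctor_kInfLower p
  have h1 := Cfsg.Agent.Lib.Helper4.GTFus.isConjugacyFunctor_ind
    (𝓦 := ({Cfsg.kInfLower} : Set (∀ (Q : Type u) [Group Q], Subgroup Q)))
    (by rintro _ rfl; exact hW) G
  exact h1 _ ⟨Cfsg.kInfLower, rfl, rfl⟩

theorem center_le_induced_kInfLower (P : Subgroup G) :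
    P ⊓ Subgroup.centralizer ((P : Subgroup G) : Set G) ≤
      Cfsg.inducedFunctor (G := G) Cfsg.kInfLower P := by
  have h1 : Zc (⊤ : Subgroup ↥P) ≤ Cfsg.kInfLower ↥P := by
    intro x hx
    apply center_le_kInfLower
    rw [Subgroup.mem_center_iff]
    intro y
    exact (Subgroup.mem_centralizer_iff.mp (Subgroup.mem_inf.mp hx).2 y (Subgroup.mem_top y))
  have h2 := Subgroup.map_mono (f := P.subtype) h1
  rw [map_Zc P.subtype P.subtype_injective, ← MonoidHom.range_eq_map, Subgroup.range_subtype] at h2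
  exact h2

/-- the local quadratic condition -/
theorem local_quadratic (H T : Subgroup G) (hTH : T ≤ H) (hTp : IsPGroup p ↥T)
    (hidx : ¬ p ∣ T.relIndex H)
    (hn : ¬ H ≤ Subgroup.normalizer
      ((Cfsg.inducedFunctor (G := G) Cfsg.kInfLower T : Subgroup G) : Set G)) :
    ∃ g : G, g ∈ T ∧ g ∉ Cfsg.pCoreOf p H ∧
      ⁅⁅Cfsg.pCoreOf p H ⊓ Subgroup.centralizer ((Cfsg.pCoreOf p H : Subgroup G) : Set G),
        Subgroup.zpowers g⁆, Subgroup.zpowers g⁆ = ⊥ := by
  have hT'p : IsPGroup p ↥(T.subgroupOf H) := hTp.comap_of_injective H.subtype H.subtype_injective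
  obtain ⟨S', hS'⟩ : ∃ S' : Sylow p ↥H, (S' : Subgroup ↥H) = T.subgroupOf H :=
    ⟨hT'p.toSylow hidx, IsPGroup.toSylow_coe _ _⟩
  have hmapT : (T.subgroupOf H).map H.subtype = T := Subgroup.map_subgroupOf_eq_of_le hTH
  have hK : (Cfsg.inducedFunctor (G := ↥H) Cfsg.kInfLower (S' : Subgroup ↥H)).map H.subtype =
      Cfsg.inducedFunctor (G := G) Cfsg.kInfLower T := by
    rw [induced_kInfLower, induced_kInfLower, Subgroup.map_iSup, hS']
    refine iSup_congr fun n => ?_
    rw [relEven_map H.subtype H.subtype_injective, hmapT]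
  have hnn : ¬ (Cfsg.inducedFunctor (G := ↥H) Cfsg.kInfLower (S' : Subgroup ↥H)).Normal := by
    intro hnorm
    apply hn
    rw [← hK]
    have h1 := Subgroup.le_normalizer_map H.subtype
      (H := Cfsg.inducedFunctor (G := ↥H) Cfsg.kInfLower (S' : Subgroup ↥H))
    rw [Subgroup.normalizer_eq_top, ← MonoidHom.range_eq_map, Subgroup.range_subtype] at h1
    exact h1
  obtain ⟨g', hg'S, hg'P, -, hquad⟩ := engel_of_not_normal S' (Or.inl hnn)
  refine ⟨(g' : G), ?_, ?_, ?_⟩
  · rw [hS'] at hg'S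
    exact Subgroup.mem_subgroupOf.mp hg'S
  · rintro ⟨y, hy, hyg⟩
    have : y = g' := Subtype.ext hyg
    exact hg'P (this ▸ hy)
  · have h1 : (Zc (Cfsg.pCore p ↥H)).map H.subtype =
        Cfsg.pCoreOf p H ⊓ Subgroup.centralizer ((Cfsg.pCoreOf p H : Subgroup G) : Set G) :=
      map_Zc H.subtype H.subtype_injective _
    have h2 : (Subgroup.zpowers g').map H.subtype = Subgroup.zpowers (g' : G) := by
      rw [MonoidHom.map_zpowers]; rfl
    rw [← h1, ← h2, ← Subgroup.map_commutator, ← Subgroup.map_commutator, hquad, Subgroup.map_bot]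

end Cfsg.Agent.Lib.Lead.KInf
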