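import Mathlib
import Cfsg.Prelude.Def_Blocks
import Cfsg.Agent.Lib.helper3.ProjVanish6
import Cfsg.Agent.Lib.helper3.Burnside
import Cfsg.Agent.Lib.helper3.LocalM3

/-!
# Kazarin's lemma: the character-theoretic core

If the class of `x` has `p`-power size, `q ≠ p` is a prime dividing `|G|` and not dividing the
order of `x`, then `x` lies in a proper normal subgroup of `G`.
-/

set_option autoImplicit false
set_option linter.style.haveILetI false
set_option linter.unusedSectionVars false

namespace Cfsg.Agent.Lib.Lead.Kazarin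

open Cfsg Module Cfsg.Agent.Lib.helper3.LocalM Cfsg.Agent.Lib.helper3.CharBasic
open Cfsg.Agent.Lib.helper3.IndFun
open Cfsg.Agent.Lib.helper3.Irr Cfsg.Agent.Lib.helper3.Central Cfsg.Agent.Lib.helper3.Block
open scoped ComplexConjugate

variable {G : Type*} [Group G]

/-- In the principal `q`-block there is a nontrivial irreducible character of degree prime to `p`
(for any prime `p`), as soon as `q` divides the group order. -/
theorem exists_principal_not_dvd [Fintype G] {q : ℕ} {M : Ideal AlgInt} (hM : IsPModular q M)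
    (hqG : q ∣ Nat.card G) (p : ℕ) (hp : p.Prime) :
    ∃ χ : IrrCharacter G, SameBlock M (fun _ : G => (1 : ℂ)) (χ : G → ℂ) ∧
      (χ : G → ℂ) ≠ (fun _ => 1) ∧ ∃ n : ℕ, (χ : G → ℂ) 1 = n ∧ ¬ p ∣ n := by
  classical
  haveI hMp := isPrime_of_isPModular hM
  have hq : q.Prime := hM.1
  haveI : Fact q.Prime := ⟨hq⟩
  set χ₀ : IrrCharacter G := ⟨fun _ => 1, isIrrCharacter_one⟩ with hχ₀
  set B : Set (IrrCharacter G) := blockOf M (χ₀ : G → ℂ) with hB
  have hS : ∀ θ ∈ B, blockOf M (θ : G → ℂ) ⊆ B := by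
    intro θ hθ ψ hψ
    exact sameBlock_trans hθ hψ
  obtain ⟨z, hz⟩ := exists_prime_orderOf_dvd_card' q hqG
  have horth := weak_block_orthogonality hM B hS 1 z
    (by rw [orderOf_one]; exact fun h => hq.one_lt.ne' (Nat.dvd_one.mp h)) (by rw [hz])
  by_contra hcon
  push Not at hcon
  have hdeg : ∀ χ : IrrCharacter G, ∃ n : ℕ, 0 < n ∧ (χ : G → ℂ) 1 = n :=
    fun χ => exists_pos_nat_apply_one χ.2
  choose deg hdegpos hdeg using hdeg
  have hterm : ∀ χ : IrrCharacter G, χ ≠ χ₀ →
      ∃ β : ℂ, IsIntegral ℤ β ∧ (if χ ∈ B then (1 : ℂ) else 0)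
        * ((χ : G → ℂ) 1 * conj ((χ : G → ℂ) z)) = (p : ℂ) * β := by
    intro χ hχ
    have hχ1 : (χ : G → ℂ) ≠ fun _ => 1 := fun h => hχ (Subtype.ext h)
    by_cases hχB : χ ∈ B
    · have hpd : p ∣ deg χ := hcon χ hχB hχ1 (deg χ) (hdeg χ)
      obtain ⟨e, he⟩ := hpd
      refine ⟨(e : ℂ) * conj ((χ : G → ℂ) z), ?_, ?_⟩
      · apply IsIntegral.mul (isIntegral_algebraMap (R := ℤ) (x := (e : ℤ)))
        have h1 := Cfsg.Agent.Lib.helper3.Lin.isIntegral_of_isCharacter
          (isCharacter_of_isIrrCharacter χ.2) z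
        exact h1.map (Complex.conjAe.toAlgHom.restrictScalars ℤ)
      · rw [if_pos hχB, hdeg χ, he]
        push_cast
        ring
    · refine ⟨0, isIntegral_zero, ?_⟩
      rw [if_neg hχB]
      simp
  choose! β hβint hβ using hterm
  rw [← Finset.add_sum_erase Finset.univ _ (Finset.mem_univ χ₀)] at horth
  have hχ₀B : χ₀ ∈ B := sameBlock_refl hMp.ne_top _
  have h1 : (if χ₀ ∈ B then (1 : ℂ) else 0)
      * ((χ₀ : G → ℂ) 1 * conj ((χ₀ : G → ℂ) z)) = 1 := by
    rw [if_pos hχ₀B]
    simp [hχ₀]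
  have h2 : ∑ χ ∈ Finset.univ.erase χ₀, (if χ ∈ B then (1 : ℂ) else 0)
        * ((χ : G → ℂ) 1 * conj ((χ : G → ℂ) z))
      = (p : ℂ) * ∑ χ ∈ Finset.univ.erase χ₀, β χ := by
    rw [Finset.mul_sum]
    apply Finset.sum_congr rfl
    intro χ hχ
    exact hβ χ (Finset.ne_of_mem_erase hχ)
  rw [h1, h2] at horth
  have hint : IsIntegral ℤ (∑ χ ∈ Finset.univ.erase χ₀, β χ) :=
    IsIntegral.sum _ (fun χ hχ => hβint χ (Finset.ne_of_mem_erase hχ))
  have hdvd := Cfsg.Agent.Lib.helper3.AlgInt.int_dvd_of_eq_mul_isIntegral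
    (a := (-1 : ℤ)) (b := (p : ℤ)) hint (by push_cast; linear_combination (-1 : ℂ) * horth)
    (by exact_mod_cast hp.ne_zero)
  have : (p : ℤ) ∣ 1 := (Int.dvd_neg).mp hdvd
  have hp1 : p ∣ 1 := by exact_mod_cast this
  exact hp.one_lt.ne' (Nat.dvd_one.mp hp1)

/-- A root of unity of order prime to `q` that is congruent to `1` modulo `M` is `1`. -/
theorem eq_one_of_sub_mem {q : ℕ} {M : Ideal AlgInt} (hM : IsPModular q M) (ε : AlgInt) (m : ℕ)
    (hm : ε ^ m = 1) (hqm : ¬ q ∣ m) (hε : 1 - ε ∈ M) : ε = 1 := by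
  by_contra hne
  haveI hMp := isPrime_of_isPModular hM
  have hgeom : (ε - 1) * ∑ j ∈ Finset.range m, ε ^ j = 0 := by
    rw [mul_comm, geom_sum_mul, hm, sub_self]
  have hsum : ∑ j ∈ Finset.range m, ε ^ j = 0 := by
    rcases mul_eq_zero.mp hgeom with h | h
    · exact absurd (sub_eq_zero.mp h) hne
    · exact h
  have hquot : Ideal.Quotient.mk M ε = 1 := by
    have h1 : Ideal.Quotient.mk M (1 - ε) = 0 := Ideal.Quotient.eq_zero_iff_mem.mpr hε
    rw [map_sub, map_one, sub_eq_zero] at h1
    exact h1.symm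
  have h2 : Ideal.Quotient.mk M (∑ j ∈ Finset.range m, ε ^ j) = (m : AlgInt ⧸ M) := by
    rw [map_sum]
    simp only [map_pow, hquot, one_pow, Finset.sum_const, Finset.card_range, nsmul_eq_mul, mul_one]
  rw [hsum, map_zero] at h2
  have h3 : Ideal.Quotient.mk M (m : AlgInt) = 0 := by
    rw [map_natCast]; exact h2.symm
  have h4 : (m : AlgInt) ∈ M := Ideal.Quotient.eq_zero_iff_mem.mp h3
  exact hqm ((natCast_mem_iff hM m).mp h4)

/-- **Kazarin's lemma** (character-theoretic core). -/
theorem exists_proper_normal [Finite G] (x : G) {p k q : ℕ} (hp : p.Prime) (hq : q.Prime)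
    (hqp : q ≠ p) (hclass : (Subgroup.centralizer ({x} : Set G)).index = p ^ k)
    (hqG : q ∣ Nat.card G) (hqx : ¬ q ∣ orderOf x) :
    ∃ K : Subgroup G, K.Normal ∧ K ≠ ⊤ ∧ x ∈ K := by
  classical
  letI : Fintype G := Fintype.ofFinite G
  obtain ⟨M, hM⟩ := exists_isPModular q hq
  haveI hMp := isPrime_of_isPModular hM
  obtain ⟨χ, hχB, hχ1, n, hn, hpn⟩ := exists_principal_not_dvd hM hqG p hp
  obtain ⟨m, ρ, hirr, hρ⟩ := χ.2
  haveI := hirr
  have hmn : finrank ℂ (Fin m → ℂ) = n := by
    have := Representation.char_one ρ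
    rw [hρ, hn] at this
    exact_mod_cast this.symm
  have hcop : Nat.Coprime (finrank ℂ (Fin m → ℂ))
      (Subgroup.centralizer ({x} : Set G)).index := by
    rw [hmn, hclass]
    exact Nat.Coprime.pow_right k ((Nat.Prime.coprime_iff_not_dvd hp).mpr hpn).symm
  have hn0 : n ≠ 0 := by
    rw [← hmn]; exact_mod_cast finrank_ne_zero_of_irreducible ρ
  have hnC : (n : ℂ) ≠ 0 := by exact_mod_cast hn0
  have hblock := hχB x
  have hc1 : centralChar (fun _ : G => (1 : ℂ)) x = ((p ^ k : ℕ) : ℂ) := by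
    unfold centralChar; rw [hclass]; simp
  have hpkM : ((p ^ k : ℕ) : AlgInt) ∉ M := by
    intro h
    have h1 := (natCast_mem_iff hM (p ^ k)).mp h
    exact hqp ((Nat.prime_dvd_prime_iff_eq hq hp).mp (hq.dvd_of_dvd_pow h1))
  rcases character_eq_zero_or_norm_eq_of_coprime ρ x hcop with h0 | hnorm
  · exfalso
    have hc2 : centralChar (χ : G → ℂ) x = 0 := by
      unfold centralChar; rw [← hρ, h0]; simp
    rw [hc1, hc2, sub_zero] at hblock
    apply hpkM
    apply mem_of_memLocalIdeal
    push_cast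
    push_cast at hblock
    exact hblock
  · obtain ⟨ω, hω⟩ := (norm_character_eq_finrank_iff ρ x).mp hnorm
    have ho : 0 < orderOf x := orderOf_pos x
    have hωpow : ω ^ orderOf x = 1 := by
      have h1 : (ρ x) ^ orderOf x = 1 := by
        rw [← map_pow, pow_orderOf_eq_one, map_one]
      rw [hω, smul_pow] at h1
      have hm0 : m ≠ 0 := by
        intro h
        apply hn0
        rw [← hmn, h]
        simp
      have h2 := congrArg (fun T : Module.End ℂ (Fin m → ℂ) => T (fun _ => (1 : ℂ))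
        (⟨0, Nat.pos_of_ne_zero hm0⟩ : Fin m)) h1
      simpa using h2
    have hωint : IsIntegral ℤ ω := by
      apply IsIntegral.of_pow ho
      rw [hωpow]; exact isIntegral_one
    have hchar : ρ.character x = ω * n := by
      unfold Representation.character
      rw [hω, LinearMap.map_smul, ← hmn]
      simp
    have hc2 : centralChar (χ : G → ℂ) x = ((p ^ k : ℕ) : ℂ) * ω := by
      unfold centralChar
      rw [hclass, hn, ← hρ, hchar]
      field_simp
    rw [hc1, hc2] at hblock
    set ε : AlgInt := ⟨ω, hωint⟩ with hε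
    have hmem : ((p ^ k : ℕ) : AlgInt) * (1 - ε) ∈ M := by
      apply mem_of_memLocalIdeal
      have : ((((p ^ k : ℕ) : AlgInt) * (1 - ε) : AlgInt) : ℂ)
          = ((p ^ k : ℕ) : ℂ) - ((p ^ k : ℕ) : ℂ) * ω := by
        push_cast
        rw [hε]
        ring
      rw [this]
      exact hblock
    have hε1 : 1 - ε ∈ M := by
      rcases hMp.mem_or_mem hmem with h | h
      · exact absurd h hpkM
      · exact h
    have hεpow : ε ^ orderOf x = 1 := by
      apply Subtype.ext
      push_cast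
      exact hωpow
    have hεeq := eq_one_of_sub_mem hM ε (orderOf x) hεpow hqx hε1
    have hω1 : ω = 1 := by
      have := congrArg Subtype.val hεeq
      simpa [hε] using this
    refine ⟨MonoidHom.ker ρ, MonoidHom.normal_ker ρ, ?_, ?_⟩
    · intro hker
      apply hχ1
      have hall : ∀ y : G, ρ y = 1 := by
        intro y
        have : y ∈ MonoidHom.ker ρ := by rw [hker]; trivial
        exact MonoidHom.mem_ker.mp this
      have hval : ∀ y : G, (χ : G → ℂ) y = n := by
        intro y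
        rw [← hρ, ← hn, ← hρ]
        simp only [Representation.character, hall]
      have hnorm1 := irr_classInner_self χ.2
      rw [classInner_apply] at hnorm1
      simp only [hval, Complex.conj_natCast, Finset.sum_const, Finset.card_univ, nsmul_eq_mul]
        at hnorm1
      rw [← Nat.card_eq_fintype_card] at hnorm1
      have hG : (Nat.card G : ℂ) ≠ 0 := card_ne_zero_complex G
      have hn2 : ((n * n : ℕ) : ℂ) = 1 := by
        push_cast
        field_simp at hnorm1
        linear_combination hnorm1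
      have hn3 : n * n = 1 := by exact_mod_cast hn2
      have hn1 : n = 1 := by nlinarith [Nat.eq_one_of_mul_eq_one_left hn3]
      funext y
      rw [hval y, hn1]
      simp
    · rw [MonoidHom.mem_ker, hω, hω1, one_smul]
      rfl

end Cfsg.Agent.Lib.Lead.Kazarin
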