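import Mathlib
import Cfsg.Agent.Lib.Lead.Kazarin1
import Cfsg.Agent.H1.CentralSolv

/-!
# Kazarin's theorem: an element with a class of prime power size generates a solvable normal
subgroup.
-/

set_option autoImplicit false
set_option linter.style.haveILetI false
set_option linter.unusedSectionVars false

namespace Cfsg.Agent.Lib.Lead.Kazarin

open Cfsg

/-- A finite family of solvable normal subgroups lies in a single solvable normal subgroup. -/
theorem exists_solvable_normal_ge {H : Type*} [Group H] {ι : Type*} (s : Finset ι)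
    (L : ι → Subgroup H) (hn : ∀ i ∈ s, (L i).Normal) (hs : ∀ i ∈ s, Group.IsSolvable (L i)) :
    ∃ K : Subgroup H, K.Normal ∧ Group.IsSolvable K ∧ ∀ i ∈ s, L i ≤ K := by
  classical
  induction s using Finset.induction_on with
  | empty =>
    refine ⟨⊥, inferInstance, ?_, by simp⟩
    exact Group.isSolvable_of_comm (fun a b => Subsingleton.elim _ _)
  | insert a s ha ih =>
    obtain ⟨K, hKn, hKs, hK⟩ := ih (fun i hi => hn i (Finset.mem_insert_of_mem hi))
      (fun i hi => hs i (Finset.mem_insert_of_mem hi))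
    haveI := hKn
    haveI := hKs
    haveI := hn a (Finset.mem_insert_self a s)
    haveI := hs a (Finset.mem_insert_self a s)
    refine ⟨L a ⊔ K, inferInstance, Cfsg.Agent.H1.CentralSolv.isSolvable_sup (L a) K, ?_⟩
    intro i hi
    rcases Finset.mem_insert.mp hi with rfl | hi
    · exact le_sup_left
    · exact (hK i hi).trans le_sup_right

/-- In a finite group there is a largest solvable normal subgroup. -/
theorem exists_solvable_radical (G : Type*) [Group G] [Finite G] :
    ∃ R : Subgroup G, R.Normal ∧ Group.IsSolvable R ∧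
      ∀ K : Subgroup G, K.Normal → Group.IsSolvable K → K ≤ R := by
  classical
  letI : Fintype {N : Subgroup G // N.Normal ∧ Group.IsSolvable N} := Fintype.ofFinite _
  obtain ⟨R, hRn, hRs, hR⟩ := exists_solvable_normal_ge
    (Finset.univ : Finset {N : Subgroup G // N.Normal ∧ Group.IsSolvable N})
    (fun N => N.1) (fun N _ => N.2.1) (fun N _ => N.2.2)
  exact ⟨R, hRn, hRs, fun K hKn hKs => hR ⟨K, hKn, hKs⟩ (Finset.mem_univ _)⟩

/-- A subgroup containing all prime power order elements of a finite cyclic subgroup contains the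
generator. -/
theorem mem_of_prime_pow_mem {G : Type*} [Group G] (S : Subgroup G) :
    ∀ (n : ℕ), 0 < n → ∀ y : G, orderOf y = n →
      (∀ z ∈ Subgroup.zpowers y, ∀ s e : ℕ, s.Prime → orderOf z = s ^ e → z ∈ S) → y ∈ S := by
  intro n
  induction n using Nat.recOnPrimeCoprime with
  | zero => intro h; exact absurd h (lt_irrefl 0)
  | prime_pow s e hs =>
    intro _ y hy h
    exact h y (Subgroup.mem_zpowers y) s e hs hy
  | coprime a b ha hb hab iha ihb =>
    intro _ y hy h
    have ha0 : a ≠ 0 := by omega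
    have hb0 : b ≠ 0 := by omega
    have h1 : orderOf (y ^ a) = b := by
      rw [orderOf_pow' y ha0, hy, Nat.gcd_eq_right (Dvd.intro b rfl),
        Nat.mul_div_cancel_left b (by omega)]
    have h2 : orderOf (y ^ b) = a := by
      rw [orderOf_pow' y hb0, hy, Nat.gcd_eq_right (Dvd.intro_left a rfl),
        Nat.mul_div_cancel a (by omega)]
    have hya : y ^ a ∈ S := by
      apply ihb (by omega) (y ^ a) h1
      intro z hz
      apply h z
      exact (Subgroup.zpowers_le.mpr (Subgroup.pow_mem _ (Subgroup.mem_zpowers y) a)) hz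
    have hyb : y ^ b ∈ S := by
      apply iha (by omega) (y ^ b) h2
      intro z hz
      apply h z
      exact (Subgroup.zpowers_le.mpr (Subgroup.pow_mem _ (Subgroup.mem_zpowers y) b)) hz
    have hbez : (1 : ℤ) = (a : ℤ) * Nat.gcdA a b + (b : ℤ) * Nat.gcdB a b := by
      have := Nat.gcd_eq_gcd_ab a b
      rw [hab] at this
      exact_mod_cast this
    have : y = (y ^ a) ^ (Nat.gcdA a b) * (y ^ b) ^ (Nat.gcdB a b) := by
      rw [← zpow_natCast y a, ← zpow_natCast y b, ← zpow_mul, ← zpow_mul, ← zpow_add, ← hbez,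
        zpow_one]
    rw [this]
    exact S.mul_mem (S.zpow_mem hya _) (S.zpow_mem hyb _)

/-- For `H` normal in a finite group, `|H : C_H(y)|` divides `|G : C_G(y)|`. -/
theorem relIndex_dvd_index_of_normal' {G : Type*} [Group G] [Finite G] (C H : Subgroup G)
    [H.Normal] : C.relIndex H ∣ C.index := by
  have h1 : (C ⊓ H).relIndex H * H.index = (C ⊓ H).index :=
    Subgroup.relIndex_mul_index inf_le_right
  have h2 : (C ⊓ H).relIndex C * C.index = (C ⊓ H).index :=
    Subgroup.relIndex_mul_index inf_le_left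
  rw [Subgroup.inf_relIndex_right] at h1
  rw [Subgroup.inf_relIndex_left] at h2
  obtain ⟨e, he⟩ := Subgroup.relIndex_dvd_index_of_normal H C
  have h0 : H.relIndex C ≠ 0 := by
    unfold Subgroup.relIndex
    exact Subgroup.index_ne_zero_of_finite
  refine ⟨e, ?_⟩
  have h3 : H.relIndex C * (C.relIndex H * e) = H.relIndex C * C.index := by
    rw [h2, ← h1, he]; ring
  exact (Nat.eq_of_mul_eq_mul_left (Nat.pos_of_ne_zero h0) h3).symm

theorem centralizer_subtype {G : Type*} [Group G] (H : Subgroup G) (y : H) :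
    Subgroup.centralizer ({y} : Set H)
      = (Subgroup.centralizer ({(y : G)} : Set G)).subgroupOf H := by
  ext z
  simp only [Subgroup.mem_centralizer_iff, Set.mem_singleton_iff, forall_eq,
    Subgroup.mem_subgroupOf]
  constructor
  · intro h
    have := congrArg Subtype.val h
    simpa using this
  · intro h
    apply Subtype.ext
    simpa using h

/-- Step A: an element with `p`-power class lying in a proper normal subgroup. -/
theorem step_normal.{u} (p : ℕ) (hp : p.Prime) (N : ℕ)
    (IH : ∀ m < N, ∀ (G' : Type u) [Group G'] [Finite G'], Nat.card G' = m →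
      ∀ (x : G') (k : ℕ), (Subgroup.centralizer ({x} : Set G')).index = p ^ k →
      ∃ K : Subgroup G', K.Normal ∧ Group.IsSolvable K ∧ x ∈ K)
    (G : Type u) [Group G] [Finite G] (hN : Nat.card G = N) (H : Subgroup G) [hHn : H.Normal]
    (hH : H ≠ ⊤) (x : G) (hx : x ∈ H) (k : ℕ)
    (hclass : (Subgroup.centralizer ({x} : Set G)).index = p ^ k) :
    ∃ K : Subgroup G, K.Normal ∧ Group.IsSolvable K ∧ x ∈ K := by
  have hcard : Nat.card H < N := by
    rw [← hN]; exact Cfsg.Agent.H1.CentralSolv.card_lt_of_ne_top hH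
  have hdvd : (Subgroup.centralizer ({(⟨x, hx⟩ : H)} : Set H)).index ∣ p ^ k := by
    rw [centralizer_subtype, ← hclass]
    exact relIndex_dvd_index_of_normal' _ H
  obtain ⟨j, -, hj⟩ := (Nat.dvd_prime_pow hp).mp hdvd
  obtain ⟨K, hKn, hKs, hxK⟩ := IH (Nat.card H) hcard H rfl ⟨x, hx⟩ j hj
  obtain ⟨R, hRn, hRs, hR⟩ := exists_solvable_radical H
  have hxR : (⟨x, hx⟩ : H) ∈ R := hR K hKn hKs hxK
  refine ⟨R.map H.subtype, ?_, ?_, ⟨⟨x, hx⟩, hxR, rfl⟩⟩
  · constructor
    intro n hn g
    obtain ⟨r, hr, rfl⟩ := hn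
    have hle : R.map (MulAut.conjNormal g : MulAut H).toMonoidHom ≤ R := by
      apply hR
      · exact Subgroup.Normal.map hRn _ (MulAut.conjNormal g : MulAut H).surjective
      · exact Group.isSolvable_of_isSolvable_injective
          (f := (R.equivMapOfInjective (MulAut.conjNormal g : MulAut H).toMonoidHom
            (MulAut.conjNormal g : MulAut H).injective).symm.toMonoidHom)
          (MulEquiv.injective _)
    refine ⟨MulAut.conjNormal g r, hle ⟨r, hr, rfl⟩, ?_⟩
    simp
  · exact Group.isSolvable_of_isSolvable_injective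
      (f := (R.equivMapOfInjective H.subtype H.subtype_injective).symm.toMonoidHom)
      (MulEquiv.injective _)

/-- a number all of whose prime factors are among `p`, `s` -/
theorem exists_pow_mul_pow {p s n : ℕ} (hp : p.Prime) (hn : n ≠ 0)
    (h : ∀ q : ℕ, q.Prime → q ∣ n → q = p ∨ q = s) : ∃ a b, n = p ^ a * s ^ b := by
  refine ⟨n.factorization p, (ordCompl[p] n).primeFactorsList.length, ?_⟩
  have h1 : ordCompl[p] n ≠ 0 := (Nat.ordCompl_pos p hn).ne'
  have h2 := Nat.eq_prime_pow_of_unique_prime_dvd (n := ordCompl[p] n) (p := s) h1 (by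
    intro d hd hdn
    have hdn' : d ∣ n := hdn.trans (Nat.ordCompl_dvd n p)
    rcases h d hd hdn' with rfl | rfl
    · exfalso; exact Nat.not_dvd_ordCompl hp hn hdn
    · rfl)
  rw [← h2]
  exact (Nat.ordProj_mul_ordCompl_eq_self n p).symm

/-- **Kazarin's theorem**, inductive form. -/
theorem kazarin_aux.{u} (p : ℕ) (hp : p.Prime) :
    ∀ (N : ℕ) (G : Type u) [Group G] [Finite G], Nat.card G = N →
    ∀ (x : G) (k : ℕ), (Subgroup.centralizer ({x} : Set G)).index = p ^ k →
    ∃ K : Subgroup G, K.Normal ∧ Group.IsSolvable K ∧ x ∈ K := by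
  intro N
  induction N using Nat.strong_induction_on with
  | _ N IH =>
  intro G _ _ hN x k hclass
  by_cases hsol : Group.IsSolvable G
  · exact ⟨⊤, inferInstance, inferInstance, Subgroup.mem_top x⟩
  have hthird : ∀ s : ℕ, s.Prime → ∃ q : ℕ, q.Prime ∧ q ∣ Nat.card G ∧ q ≠ p ∧ q ≠ s := by
    intro s hs
    by_contra hcon
    push Not at hcon
    apply hsol
    obtain ⟨a, b, hab⟩ := exists_pow_mul_pow (p := p) (s := s) hp (Nat.card_pos (α := G)).ne'
      (fun q hq hqd => by
        by_contra h
        push Not at h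
        exact h.2 (hcon q hq hqd h.1))
    exact Cfsg.Agent.Lib.helper3.Burnside.isSolvable_of_card_eq p s hp hs (Nat.card G) G rfl
      ⟨a, b, hab⟩
  obtain ⟨R, hRn, hRs, hR⟩ := exists_solvable_radical G
  refine ⟨R, hRn, hRs, ?_⟩
  apply mem_of_prime_pow_mem R (orderOf x) (orderOf_pos x) x rfl
  intro z hz s e hs hze
  obtain ⟨q, hq, hqG, hqp, hqs⟩ := hthird s hs
  have hle : Subgroup.centralizer ({x} : Set G) ≤ Subgroup.centralizer ({z} : Set G) := by
    obtain ⟨i, rfl⟩ := Subgroup.mem_zpowers_iff.mp hz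
    intro c hc
    rw [Subgroup.mem_centralizer_iff] at hc ⊢
    intro w hw
    rw [Set.mem_singleton_iff] at hw
    subst hw
    have h1 : Commute x c := hc x rfl
    exact (h1.zpow_left i).eq
  have hdvd : (Subgroup.centralizer ({z} : Set G)).index ∣ p ^ k :=
    hclass ▸ Subgroup.index_dvd_of_le hle
  obtain ⟨j, -, hj⟩ := (Nat.dvd_prime_pow hp).mp hdvd
  have hqz : ¬ q ∣ orderOf z := by
    rw [hze]
    intro h
    exact hqs ((Nat.prime_dvd_prime_iff_eq hq hs).mp (hq.dvd_of_dvd_pow h))
  obtain ⟨K, hKn, hKtop, hzK⟩ := exists_proper_normal z hp hq hqp hj hqG hqz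
  haveI := hKn
  obtain ⟨K', hK'n, hK's, hzK'⟩ := step_normal p hp N IH G hN K hKtop z hzK j hj
  exact hR K' hK'n hK's hzK'

/-- **Kazarin's theorem**: an element whose class has prime power size lies in a solvable normal
subgroup. -/
theorem kazarin {G : Type*} [Group G] [Finite G] {p : ℕ} (hp : p.Prime) (x : G) (k : ℕ)
    (hclass : (Subgroup.centralizer ({x} : Set G)).index = p ^ k) :
    ∃ K : Subgroup G, K.Normal ∧ Group.IsSolvable K ∧ x ∈ K :=
  kazarin_aux p hp (Nat.card G) G rfl x k hclass

end Cfsg.Agent.Lib.Lead.Kazarin
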