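import Cfsg.Agent.Lib.Lead.LargeES

/-!
# Two large extraspecial subgroups `Q`, `Y` with centres `z ∈ Y`, `t ∈ Q`

`Pair Q Y z t`: elementwise data.  `Pair.cent_Qt`: the centralizer of `C_Q(t)` in `C_G(z)` is
`{1, z, t, tz}`.  `Pair.structure`: the structure of `R = C_Y(z) C_Q(t)`.
-/

set_option autoImplicit false
open Cfsg
open scoped commutatorElement

namespace Cfsg.Agent.Lead.LargeES

open Cfsg.Agent.Lib.Lead.KleinFour

variable {G : Type*} [Group G]

/-- elements of `N(E)` whose commutators with all of `S` lie in `E` -/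
def commSub (E : Subgroup G) (S : Set G) : Subgroup G where
  carrier := {x | x ∈ Subgroup.normalizer (E : Set G) ∧ ∀ s ∈ S, x * s * x⁻¹ * s⁻¹ ∈ E}
  one_mem' := ⟨Subgroup.one_mem _, fun s _ => by
    have : (1 : G) * s * 1⁻¹ * s⁻¹ = 1 := by group
    rw [this]; exact E.one_mem⟩
  mul_mem' := by
    rintro x y ⟨hxN, hx⟩ ⟨hyN, hy⟩
    refine ⟨Subgroup.mul_mem _ hxN hyN, fun s hs => ?_⟩
    have : x * y * s * (x * y)⁻¹ * s⁻¹ = x * (y * s * y⁻¹ * s⁻¹) * x⁻¹ * (x * s * x⁻¹ * s⁻¹) := by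
      group
    rw [this]
    exact E.mul_mem ((Subgroup.mem_normalizer_iff.mp hxN _).mp (hy s hs)) (hx s hs)
  inv_mem' := by
    rintro x ⟨hxN, hx⟩
    refine ⟨Subgroup.inv_mem _ hxN, fun s hs => ?_⟩
    have : x⁻¹ * s * x⁻¹⁻¹ * s⁻¹ = x⁻¹ * (x * s * x⁻¹ * s⁻¹)⁻¹ * x⁻¹⁻¹ := by group
    rw [this]
    exact (Subgroup.mem_normalizer_iff.mp (Subgroup.inv_mem _ hxN) _).mp (E.inv_mem (hx s hs))

theorem mem_commSub {E : Subgroup G} {S : Set G} {x : G} :
    x ∈ commSub E S ↔ x ∈ Subgroup.normalizer (E : Set G) ∧ ∀ s ∈ S, x * s * x⁻¹ * s⁻¹ ∈ E :=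
  Iff.rfl

structure Pair (Q Y : Subgroup G) (z t : G) : Prop where
  hQ : LES Q z
  hY : LES Y t
  tQ : t ∈ Q
  zY : z ∈ Y
  ne : t ≠ z
  hDC : ∀ d ∈ Q, (∀ x ∈ Q, x * t = t * x → x * d = d * x) → d = 1 ∨ d = z ∨ d = t ∨ d = t * z

variable {Q Y : Subgroup G} {z t : G}

/-- conjugation facts for an element of `Q` moving `t` -/
theorem move_facts (hQ : LES Q z) (_htt : t * t = 1) {q : G} (hqQ : q ∈ Q)
    (hqt : q * t * q⁻¹ * t⁻¹ = z) :
    q * t * q⁻¹ = z * t ∧ q⁻¹ * t * q = z * t ∧ t * q * t⁻¹ = q * z ∧ q * z * q⁻¹ = z ∧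
      q⁻¹ * z * q = z := by
  have hzz := hQ.zz
  have hzinv : z⁻¹ = z := inv_eq_of_mul_eq_one_right hzz
  have hqz : q * z = z * q := hQ.zc q hqQ
  have e1 : q⁻¹ * z * q = z := by
    calc q⁻¹ * z * q = q⁻¹ * (z * q) := by group
      _ = q⁻¹ * (q * z) := by rw [hqz]
      _ = z := by group
  have e4 : q * z * q⁻¹ = z := by
    calc q * z * q⁻¹ = (q * z) * q⁻¹ := by group
      _ = (z * q) * q⁻¹ := by rw [hqz]
      _ = z := by group
  have e3 : q * t * q⁻¹ = z * t := by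
    calc q * t * q⁻¹ = (q * t * q⁻¹ * t⁻¹) * t := by group
      _ = z * t := by rw [hqt]
  have e5 : q⁻¹ * t * q = z * t := by
    have h1 : q⁻¹ * (q * t * q⁻¹) * q = t := by group
    rw [e3] at h1
    have h2 : q⁻¹ * (z * t) * q = (q⁻¹ * z * q) * (q⁻¹ * t * q) := by group
    rw [h2, e1] at h1
    calc q⁻¹ * t * q = z⁻¹ * (z * (q⁻¹ * t * q)) := by group
      _ = z * t := by rw [h1, hzinv]
  refine ⟨e3, e5, ?_, e4, e1⟩
  calc t * q * t⁻¹ = q * (q⁻¹ * t * q) * t⁻¹ := by group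
    _ = q * (z * t) * t⁻¹ := by rw [e5]
    _ = q * z := by group

/-- The centralizer in `C_G(z)` of `C_Q(t)` is the four-group `⟨z, t⟩`. -/
theorem Pair.cent_Qt (P : Pair Q Y z t) {c : G} (hcz : c * z = z * c)
    (hc : ∀ x ∈ Q, x * t = t * x → c * x = x * c) : c = 1 ∨ c = z ∨ c = t ∨ c = t * z := by
  have hQ := P.hQ
  have hzz := hQ.zz
  have htt := P.hY.zz
  have hzinv : z⁻¹ = z := inv_eq_of_mul_eq_one_right hzz
  have htinv : t⁻¹ = t := inv_eq_of_mul_eq_one_right htt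
  have hzt : z * t = t * z := (hQ.zc t P.tQ).symm
  obtain ⟨q, hqQ, hqt⟩ := hQ.exists_move P.tQ P.hY.z1 P.ne
  obtain ⟨e3, e5, e6, e4, e1⟩ := move_facts hQ htt hqQ hqt
  have hqz : q * z = z * q := hQ.zc q hqQ
  -- an element centralizing `C_Q(t)` and `q` centralizes `Q`
  have key : ∀ c' : G, (∀ x ∈ Q, x * t = t * x → c' * x = x * c') → c' * q = q * c' →
      c' = 1 ∨ c' = z := by
    intro c' h1 h2
    apply hQ.cent
    intro a ha
    by_cases hat : a * t = t * a
    · exact (h1 a ha hat).symm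
    · have hz' : a * t * a⁻¹ * t⁻¹ = z := by
        refine (hQ.comm a ha t P.tQ).resolve_left (fun h => hat ?_)
        calc a * t = (a * t * a⁻¹ * t⁻¹) * (t * a) := by group
          _ = t * a := by rw [h, one_mul]
      have hat' : a * t * a⁻¹ = z * t := by
        calc a * t * a⁻¹ = (a * t * a⁻¹ * t⁻¹) * t := by group
          _ = z * t := by rw [hz']
      have hxQ : q⁻¹ * a ∈ Q := Q.mul_mem (Q.inv_mem hqQ) ha
      have hxt : (q⁻¹ * a) * t = t * (q⁻¹ * a) := by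
        have h3 : (q⁻¹ * a) * t * (q⁻¹ * a)⁻¹ = t := by
          calc (q⁻¹ * a) * t * (q⁻¹ * a)⁻¹ = q⁻¹ * (a * t * a⁻¹) * q := by group
            _ = q⁻¹ * (z * t) * q := by rw [hat']
            _ = (q⁻¹ * z * q) * (q⁻¹ * t * q) := by group
            _ = z * (z * t) := by rw [e1, e5]
            _ = t := by rw [← mul_assoc, hzz, one_mul]
        calc (q⁻¹ * a) * t = ((q⁻¹ * a) * t * (q⁻¹ * a)⁻¹) * (q⁻¹ * a) := by group
          _ = t * (q⁻¹ * a) := by rw [h3]
      have h4 := h1 _ hxQ hxt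
      calc a * c' = q * ((q⁻¹ * a) * c') := by group
        _ = q * (c' * (q⁻¹ * a)) := by rw [h4]
        _ = (q * c') * (q⁻¹ * a) := by group
        _ = (c' * q) * (q⁻¹ * a) := by rw [h2]
        _ = c' * a := by group
  have hcq : c * q * c⁻¹ ∈ Q := hQ.norm c hcz q hqQ
  obtain ⟨d, hd⟩ : ∃ d, d = q⁻¹ * (c * q * c⁻¹) := ⟨_, rfl⟩
  have hdQ : d ∈ Q := by rw [hd]; exact Q.mul_mem (Q.inv_mem hqQ) hcq
  have hcq' : c * q * c⁻¹ = q * d := by rw [hd]; group
  have hdc : ∀ x ∈ Q, x * t = t * x → x * d = d * x := by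
    intro x hxQ hxt
    have hx'Q : q * x * q⁻¹ ∈ Q := Q.mul_mem (Q.mul_mem hqQ hxQ) (Q.inv_mem hqQ)
    have hx't : (q * x * q⁻¹) * t = t * (q * x * q⁻¹) := by
      rcases hQ.comm q hqQ x hxQ with h | h
      · have : q * x * q⁻¹ = x := by
          calc q * x * q⁻¹ = (q * x * q⁻¹ * x⁻¹) * x := by group
            _ = x := by rw [h, one_mul]
        rw [this]; exact hxt
      · have : q * x * q⁻¹ = z * x := by
          calc q * x * q⁻¹ = (q * x * q⁻¹ * x⁻¹) * x := by group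
            _ = z * x := by rw [h]
        rw [this]
        calc z * x * t = z * (x * t) := by group
          _ = z * (t * x) := by rw [hxt]
          _ = (z * t) * x := by group
          _ = (t * z) * x := by rw [hzt]
          _ = t * (z * x) := by group
    have h1 := hc _ hx'Q hx't
    have h2 := hc x hxQ hxt
    have h3 : c * (q * x * q⁻¹) * c⁻¹ = q * x * q⁻¹ := by
      calc c * (q * x * q⁻¹) * c⁻¹ = (c * (q * x * q⁻¹)) * c⁻¹ := by group
        _ = ((q * x * q⁻¹) * c) * c⁻¹ := by rw [h1]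
        _ = q * x * q⁻¹ := by group
    have h4 : c * x * c⁻¹ = x := by
      calc c * x * c⁻¹ = (c * x) * c⁻¹ := by group
        _ = (x * c) * c⁻¹ := by rw [h2]
        _ = x := by group
    have h5 : c * (q * x * q⁻¹) * c⁻¹ = (q * d) * x * (q * d)⁻¹ := by
      calc c * (q * x * q⁻¹) * c⁻¹ = (c * q * c⁻¹) * (c * x * c⁻¹) * (c * q * c⁻¹)⁻¹ := by group
        _ = (q * d) * x * (q * d)⁻¹ := by rw [hcq', h4]
    rw [h3] at h5
    -- h5 : q * x * q⁻¹ = q * d * x * (q * d)⁻¹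
    have h6 : x = d * x * d⁻¹ := by
      calc x = q⁻¹ * (q * x * q⁻¹) * q := by group
        _ = q⁻¹ * ((q * d) * x * (q * d)⁻¹) * q := by rw [← h5]
        _ = d * x * d⁻¹ := by group
    calc x * d = (d * x * d⁻¹) * d := by rw [← h6]
      _ = d * x := by group
  -- squares
  have hqq : c * (q * q) * c⁻¹ = q * q := by
    rcases hQ.sq q hqQ with h | h
    · rw [h]; group
    · rw [h]
      calc c * z * c⁻¹ = (c * z) * c⁻¹ := by group
        _ = (z * c) * c⁻¹ := by rw [hcz]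
        _ = z := by group
  have hqq' : c * (q * q) * c⁻¹ = (q * d) * (q * d) := by
    calc c * (q * q) * c⁻¹ = (c * q * c⁻¹) * (c * q * c⁻¹) := by group
      _ = (q * d) * (q * d) := by rw [hcq']
  have hqtqt : (q * t) * (q * t) = q * q * z := by
    calc (q * t) * (q * t) = q * (t * q * t⁻¹) * (t * t) := by group
      _ = q * (q * z) * 1 := by rw [e6, htt]
      _ = q * q * z := by group
  rcases P.hDC d hdQ hdc with h | h | h | h
  · -- d = 1
    rw [h, mul_one] at hcq'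
    have h2 : c * q = q * c := by
      calc c * q = (c * q * c⁻¹) * c := by group
        _ = q * c := by rw [hcq']
    rcases key c hc h2 with h' | h'
    · exact Or.inl h'
    · exact Or.inr (Or.inl h')
  · -- d = z
    rw [h] at hcq'
    have h1 : ∀ x ∈ Q, x * t = t * x → (t * c) * x = x * (t * c) := by
      intro x hxQ hxt
      calc (t * c) * x = t * (c * x) := by group
        _ = t * (x * c) := by rw [hc x hxQ hxt]
        _ = (t * x) * c := by group
        _ = (x * t) * c := by rw [hxt]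
        _ = x * (t * c) := by group
    have h2 : (t * c) * q = q * (t * c) := by
      have : (t * c) * q * (t * c)⁻¹ = q := by
        calc (t * c) * q * (t * c)⁻¹ = t * (c * q * c⁻¹) * t⁻¹ := by group
          _ = t * (q * z) * t⁻¹ := by rw [hcq']
          _ = (t * q * t⁻¹) * (t * z * t⁻¹) := by group
          _ = (q * z) * (t * z * t⁻¹) := by rw [e6]
          _ = (q * z) * ((z * t) * t⁻¹) := by rw [hzt]
          _ = q * (z * z) := by group
          _ = q := by rw [hzz, mul_one]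
      calc (t * c) * q = ((t * c) * q * (t * c)⁻¹) * (t * c) := by group
        _ = q * (t * c) := by rw [this]
    rcases key (t * c) h1 h2 with h' | h'
    · right; right; left
      calc c = t⁻¹ * (t * c) := by group
        _ = t := by rw [h', mul_one, htinv]
    · right; right; right
      calc c = t⁻¹ * (t * c) := by group
        _ = t * z := by rw [h', htinv]
  · -- d = t : impossible
    exfalso
    rw [h] at hqq'
    rw [hqq, hqtqt] at hqq'
    apply hQ.z1
    calc z = (q * q)⁻¹ * (q * q * z) := by group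
      _ = 1 := by rw [← hqq']; group
  · -- d = t z : impossible
    exfalso
    rw [h] at hqq'
    have : (q * (t * z)) * (q * (t * z)) = q * q * z := by
      calc (q * (t * z)) * (q * (t * z)) = (q * t) * (z * q) * (t * z) := by group
        _ = (q * t) * (q * z) * (t * z) := by rw [hqz]
        _ = (q * t) * q * (z * t) * z := by group
        _ = (q * t) * q * (t * z) * z := by rw [hzt]
        _ = ((q * t) * (q * t)) * (z * z) := by group
        _ = q * q * z := by rw [hqtqt, hzz, mul_one]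
    rw [hqq, this] at hqq'
    apply hQ.z1
    calc z = (q * q)⁻¹ * (q * q * z) := by group
      _ = 1 := by rw [← hqq']; group

/-- Structure of `R = C_Y(z) C_Q(t)`. -/
theorem Pair.structure [Finite G] (P : Pair Q Y z t) (V X R E : Subgroup G)
    (hV : V = Subgroup.closure ({z, t} : Set G)) (hX : X = Q ⊔ Y)
    (hR : R = (Y ⊓ Subgroup.centralizer ({z} : Set G)) ⊔ (Q ⊓ Subgroup.centralizer ({t} : Set G)))
    (hE : E = Q ⊓ Y) :
    (Subgroup.center ↥R).map R.subtype = V ∧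
    E ≤ (Subgroup.upperCentralSeries ↥R 2).map R.subtype ∧
    Subgroup.upperCentralSeries ↥R 3 = ⊤ ∧
    Cfsg.IsElementaryAbelian 2 E ∧
    (∀ x ∈ R, ∀ y ∈ R, x * y * x⁻¹ * y⁻¹ ∈ E ∧ x ^ 2 ∈ E) ∧
    (Y ⊓ Subgroup.centralizer ({z} : Set G)) ⊓ (Q ⊓ Subgroup.centralizer ({t} : Set G)) = E ∧
    ⁅X, E⁆ ≤ V := by
  classical
  have hQ := P.hQ
  have hY := P.hY
  have hzz := hQ.zz
  have htt := hY.zz
  have hzt : z * t = t * z := (hQ.zc t P.tQ).symm
  obtain ⟨V', hV4, hzV', htV', hVel'⟩ := exists_kleinFour hzz htt hzt hQ.z1 hY.z1 (Ne.symm P.ne)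
  have hzV : z ∈ V := by rw [hV]; exact Subgroup.subset_closure (by simp)
  have htV : t ∈ V := by rw [hV]; exact Subgroup.subset_closure (by simp)
  have hVV' : V ≤ V' := by
    rw [hV, Subgroup.closure_le]
    rintro x (rfl | rfl)
    · exact hzV'
    · exact htV'
  have hVel : ∀ v ∈ V, v = 1 ∨ v = z ∨ v = t ∨ v = z * t := fun v hv => hVel' v (hVV' hv)
  obtain ⟨Yz, hYzdef⟩ : ∃ Yz, Yz = Y ⊓ Subgroup.centralizer ({z} : Set G) := ⟨_, rfl⟩
  obtain ⟨Qt, hQtdef⟩ : ∃ Qt, Qt = Q ⊓ Subgroup.centralizer ({t} : Set G) := ⟨_, rfl⟩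
  rw [← hYzdef, ← hQtdef] at hR ⊢
  have hYz : ∀ y, y ∈ Yz ↔ y ∈ Y ∧ y * z = z * y := by
    intro y
    rw [hYzdef, Subgroup.mem_inf, Subgroup.mem_centralizer_singleton_iff, eq_comm]
  have hQt : ∀ x, x ∈ Qt ↔ x ∈ Q ∧ x * t = t * x := by
    intro x
    rw [hQtdef, Subgroup.mem_inf, Subgroup.mem_centralizer_singleton_iff, eq_comm]
  have hEmem : ∀ e, e ∈ E ↔ e ∈ Q ∧ e ∈ Y := by intro e; rw [hE, Subgroup.mem_inf]
  have hzE : z ∈ E := (hEmem z).mpr ⟨hQ.zQ, P.zY⟩
  have htE : t ∈ E := (hEmem t).mpr ⟨P.tQ, hY.zQ⟩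
  have hVE : V ≤ E := by
    rw [hV, Subgroup.closure_le]
    rintro x (rfl | rfl)
    · exact hzE
    · exact htE
  have hEsq : ∀ e ∈ E, e * e = 1 := by
    intro e he
    obtain ⟨h1, h2⟩ := (hEmem e).mp he
    rcases hQ.sq e h1 with h | h
    · exact h
    · rcases hY.sq e h2 with h' | h'
      · exact h'
      · exact absurd (h'.symm.trans h) P.ne
  have hEcomm : ∀ e ∈ E, ∀ e' ∈ E, e * e' = e' * e := by
    intro e he e' he'
    obtain ⟨h1, h2⟩ := (hEmem e).mp he
    obtain ⟨h1', h2'⟩ := (hEmem e').mp he'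
    have hc : e * e' * e⁻¹ * e'⁻¹ = 1 := by
      rcases hQ.comm e h1 e' h1' with h | h
      · exact h
      · rcases hY.comm e h2 e' h2' with h' | h'
        · exact h'
        · exact absurd (h'.symm.trans h) P.ne
    calc e * e' = (e * e' * e⁻¹ * e'⁻¹) * (e' * e) := by group
      _ = e' * e := by rw [hc, one_mul]
  have h4 : Cfsg.IsElementaryAbelian 2 E :=
    ⟨⟨⟨fun a b => Subtype.ext (hEcomm a a.2 b b.2)⟩⟩, fun a ha => by rw [pow_two]; exact hEsq a ha⟩
  have h6 : Yz ⊓ Qt = E := by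
    ext x
    rw [Subgroup.mem_inf, hYz, hQt, hEmem]
    constructor
    · rintro ⟨⟨hy, _⟩, ⟨hq, _⟩⟩; exact ⟨hq, hy⟩
    · rintro ⟨hq, hy⟩; exact ⟨⟨hy, hQ.zc x hq⟩, ⟨hq, hY.zc x hy⟩⟩
  have hRgen : ∀ x, x ∈ Yz ∨ x ∈ Qt → x ∈ R := by
    intro x hx
    rw [hR]
    rcases hx with hx | hx
    · exact (le_sup_left : Yz ≤ Yz ⊔ Qt) hx
    · exact (le_sup_right : Qt ≤ Yz ⊔ Qt) hx
  have hcross : ∀ x ∈ Qt, ∀ y ∈ Yz, x * y * x⁻¹ * y⁻¹ ∈ E := by
    intro x hx y hy
    obtain ⟨hxQ, hxt⟩ := (hQt x).mp hx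
    obtain ⟨hyY, hyz⟩ := (hYz y).mp hy
    rw [hEmem]
    constructor
    · have h1 : y * x⁻¹ * y⁻¹ ∈ Q := hQ.norm y hyz x⁻¹ (Q.inv_mem hxQ)
      have : x * y * x⁻¹ * y⁻¹ = x * (y * x⁻¹ * y⁻¹) := by group
      rw [this]; exact Q.mul_mem hxQ h1
    · exact Y.mul_mem (hY.norm x hxt y hyY) (Y.inv_mem hyY)
  have hgenN : ∀ x, x ∈ Yz ∨ x ∈ Qt → x ∈ Subgroup.normalizer (E : Set G) := by
    intro x hx
    haveI : Finite ((E : Set G)) := Subtype.finite
    apply Subgroup.mem_normalizer_fintype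
    intro e he
    obtain ⟨h1, h2⟩ := (hEmem e).mp he
    rw [SetLike.mem_coe, hEmem]
    rcases hx with hx | hx
    · obtain ⟨hyY, hyz⟩ := (hYz x).mp hx
      exact ⟨hQ.norm x hyz e h1, Y.mul_mem (Y.mul_mem hyY h2) (Y.inv_mem hyY)⟩
    · obtain ⟨hxQ, hxt⟩ := (hQt x).mp hx
      exact ⟨Q.mul_mem (Q.mul_mem hxQ h1) (Q.inv_mem hxQ), hY.norm x hxt e h2⟩
  have hgencomm : ∀ x, x ∈ Yz ∨ x ∈ Qt → ∀ s, s ∈ Yz ∨ s ∈ Qt → x * s * x⁻¹ * s⁻¹ ∈ E := by
    intro x hx s hs
    rcases hx with hx | hx <;> rcases hs with hs | hs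
    · rcases hY.comm x ((hYz x).mp hx).1 s ((hYz s).mp hs).1 with h | h
      · rw [h]; exact E.one_mem
      · rw [h]; exact htE
    · have : x * s * x⁻¹ * s⁻¹ = (s * x * s⁻¹ * x⁻¹)⁻¹ := by group
      rw [this]; exact E.inv_mem (hcross s hs x hx)
    · exact hcross x hx s hs
    · rcases hQ.comm x ((hQt x).mp hx).1 s ((hQt s).mp hs).1 with h | h
      · rw [h]; exact E.one_mem
      · rw [h]; exact hzE
  have hR1 : R ≤ commSub E {s | s ∈ Yz ∨ s ∈ Qt} := by
    refine hR.le.trans (sup_le ?_ ?_)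
    · intro x hx; exact ⟨hgenN x (Or.inl hx), fun s hs => hgencomm x (Or.inl hx) s hs⟩
    · intro x hx; exact ⟨hgenN x (Or.inr hx), fun s hs => hgencomm x (Or.inr hx) s hs⟩
  have hRN : R ≤ Subgroup.normalizer (E : Set G) := fun x hx => (hR1 hx).1
  have hR2 : R ≤ commSub E (R : Set G) := by
    refine hR.le.trans (sup_le ?_ ?_)
    · intro x hx
      refine ⟨hgenN x (Or.inl hx), fun s hs => ?_⟩
      have : x * s * x⁻¹ * s⁻¹ = (s * x * s⁻¹ * x⁻¹)⁻¹ := by group
      rw [this]; exact E.inv_mem ((hR1 hs).2 x (Or.inl hx))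
    · intro x hx
      refine ⟨hgenN x (Or.inr hx), fun s hs => ?_⟩
      have : x * s * x⁻¹ * s⁻¹ = (s * x * s⁻¹ * x⁻¹)⁻¹ := by group
      rw [this]; exact E.inv_mem ((hR1 hs).2 x (Or.inr hx))
  have hRcomm : ∀ x ∈ R, ∀ y ∈ R, x * y * x⁻¹ * y⁻¹ ∈ E := fun x hx y hy => (hR2 hx).2 y hy
  have hback : ∀ y, y ∈ Subgroup.closure ((Yz : Set G) ∪ (Qt : Set G)) → y ∈ R := by
    intro y hy
    rw [hR, Subgroup.sup_eq_closure]; exact hy
  have hRsq' : ∀ x, x ∈ Subgroup.closure ((Yz : Set G) ∪ (Qt : Set G)) → x * x ∈ E := by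
    intro x hx'
    induction hx' using Subgroup.closure_induction with
    | mem x hx =>
      rcases hx with hx | hx
      · rcases hY.sq x ((hYz x).mp hx).1 with h | h
        · rw [h]; exact E.one_mem
        · rw [h]; exact htE
      · rcases hQ.sq x ((hQt x).mp hx).1 with h | h
        · rw [h]; exact E.one_mem
        · rw [h]; exact hzE
    | one => rw [mul_one]; exact E.one_mem
    | mul x y hx hy ihx ihy =>
      have hxR := hback x hx
      have hyR := hback y hy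
      have h1 := hRcomm x⁻¹ (R.inv_mem hxR) y hyR
      rw [inv_inv] at h1
      have : x * y * (x * y) = (x * x) * (x⁻¹ * y * x * y⁻¹) * (y * y) := by group
      rw [this]
      exact E.mul_mem (E.mul_mem ihx h1) ihy
    | inv x hx ih =>
      have : x⁻¹ * x⁻¹ = (x * x)⁻¹ := by group
      rw [this]; exact E.inv_mem ih
  have hRsq : ∀ x ∈ R, x * x ∈ E := by
    intro x hx
    apply hRsq'
    rw [← Subgroup.sup_eq_closure, ← hR]; exact hx
  have hRz : ∀ r ∈ R, r * z = z * r := by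
    have : R ≤ Subgroup.centralizer ({z} : Set G) := by
      refine hR.le.trans (sup_le ?_ ?_)
      · intro y hy
        rw [Subgroup.mem_centralizer_singleton_iff]; exact ((hYz y).mp hy).2
      · intro x hx
        rw [Subgroup.mem_centralizer_singleton_iff]; exact (hQ.zc x ((hQt x).mp hx).1)
    intro r hr
    exact (Subgroup.mem_centralizer_singleton_iff.mp (this hr))
  have hRt : ∀ r ∈ R, r * t = t * r := by
    have : R ≤ Subgroup.centralizer ({t} : Set G) := by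
      refine hR.le.trans (sup_le ?_ ?_)
      · intro y hy
        rw [Subgroup.mem_centralizer_singleton_iff]; exact (hY.zc y ((hYz y).mp hy).1)
      · intro x hx
        rw [Subgroup.mem_centralizer_singleton_iff]; exact ((hQt x).mp hx).2
    intro r hr
    exact (Subgroup.mem_centralizer_singleton_iff.mp (this hr))
  have hRV : ∀ r ∈ R, ∀ v ∈ V, r * v = v * r := by
    intro r hr v hv
    rcases hVel v hv with rfl | rfl | rfl | rfl
    · simp
    · exact hRz r hr
    · exact hRt r hr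
    · calc r * (z * t) = (r * z) * t := by group
        _ = (z * r) * t := by rw [hRz r hr]
        _ = z * (r * t) := by group
        _ = z * (t * r) := by rw [hRt r hr]
        _ = z * t * r := by group
  have hzR : z ∈ R := hRgen z (Or.inr ((hQt z).mpr ⟨hQ.zQ, hzt⟩))
  have htR : t ∈ R := hRgen t (Or.inr ((hQt t).mpr ⟨P.tQ, rfl⟩))
  have hER : E ≤ R := by
    intro e he
    obtain ⟨h1, h2⟩ := (hEmem e).mp he
    exact hRgen e (Or.inr ((hQt e).mpr ⟨h1, hY.zc e h2⟩))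
  have h1 : (Subgroup.center ↥R).map R.subtype = V := by
    apply le_antisymm
    · rintro c ⟨c', hc', rfl⟩
      have hcR : (c' : G) ∈ R := c'.2
      have hcz : (c' : G) * z = z * c' := hRz _ hcR
      have hcen : ∀ x ∈ Q, x * t = t * x → (c' : G) * x = x * c' := by
        intro x hxQ hxt
        have hxR : x ∈ R := hRgen x (Or.inr ((hQt x).mpr ⟨hxQ, hxt⟩))
        have := Subgroup.mem_center_iff.mp hc' ⟨x, hxR⟩
        exact (congrArg Subtype.val this).symm
      show (c' : G) ∈ V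
      rcases P.cent_Qt hcz hcen with h | h | h | h
      · rw [h]; exact V.one_mem
      · rw [h]; exact hzV
      · rw [h]; exact htV
      · rw [h]; exact V.mul_mem htV hzV
    · have : Subgroup.closure ({z, t} : Set G) ≤ (Subgroup.center ↥R).map R.subtype := by
        rw [Subgroup.closure_le]
        rintro x (rfl | rfl)
        · exact ⟨⟨x, hzR⟩, Subgroup.mem_center_iff.mpr (fun r => Subtype.ext (hRz r r.2)), rfl⟩
        · exact ⟨⟨x, htR⟩, Subgroup.mem_center_iff.mpr (fun r => Subtype.ext (hRt r r.2)), rfl⟩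
      rw [hV]; exact this
  -- X and V
  have hQNV : ∀ a ∈ Q, ∀ v ∈ V, a * v * a⁻¹ * v⁻¹ ∈ V := by
    intro a ha v hv
    rcases hQ.comm a ha v ((hEmem v).mp (hVE hv)).1 with h | h
    · rw [h]; exact V.one_mem
    · rw [h]; exact hzV
  have hYNV : ∀ b ∈ Y, ∀ v ∈ V, b * v * b⁻¹ * v⁻¹ ∈ V := by
    intro b hb v hv
    rcases hY.comm b hb v ((hEmem v).mp (hVE hv)).2 with h | h
    · rw [h]; exact V.one_mem
    · rw [h]; exact htV
  have hNV : ∀ x : G, (∀ v ∈ V, x * v * x⁻¹ * v⁻¹ ∈ V) → x ∈ Subgroup.normalizer (V : Set G) := by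
    intro x hx
    haveI : Finite ((V : Set G)) := Subtype.finite
    apply Subgroup.mem_normalizer_fintype
    intro v hv
    have : x * v * x⁻¹ = (x * v * x⁻¹ * v⁻¹) * v := by group
    rw [this]; exact V.mul_mem (hx v hv) hv
  have hXsub : X ≤ commSub V (E : Set G) := by
    refine hX.le.trans (sup_le ?_ ?_)
    · intro a ha
      refine ⟨hNV a (hQNV a ha), fun e he => ?_⟩
      rcases hQ.comm a ha e ((hEmem e).mp he).1 with h | h
      · rw [h]; exact V.one_mem
      · rw [h]; exact hzV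
    · intro b hb
      refine ⟨hNV b (hYNV b hb), fun e he => ?_⟩
      rcases hY.comm b hb e ((hEmem e).mp he).2 with h | h
      · rw [h]; exact V.one_mem
      · rw [h]; exact htV
  have hXcomm : ∀ x ∈ X, ∀ e ∈ E, x * e * x⁻¹ * e⁻¹ ∈ V := fun x hx e he => (hXsub hx).2 e he
  have hRX : R ≤ X := by
    refine hR.le.trans (sup_le ?_ ?_)
    · intro y hy; rw [hX]; exact (le_sup_right : Y ≤ Q ⊔ Y) ((hYz y).mp hy).1
    · intro x hx; rw [hX]; exact (le_sup_left : Q ≤ Q ⊔ Y) ((hQt x).mp hx).1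
  have h7 : ⁅X, E⁆ ≤ V := by
    rw [Subgroup.commutator_le]
    intro x hx e he
    rw [commutatorElement_def]
    exact hXcomm x hx e he
  have hZ2 : ∀ e (heR : e ∈ R), e ∈ E → (⟨e, heR⟩ : ↥R) ∈ Subgroup.upperCentralSeries ↥R 2 := by
    intro e heR heE
    show _ ∈ Subgroup.upperCentralSeries ↥R (1 + 1)
    rw [Subgroup.mem_upperCentralSeries_succ_iff]
    intro y
    rw [Subgroup.upperCentralSeries_one, Subgroup.mem_center_iff]
    intro r
    apply Subtype.ext
    have hv : e * (y : G) * e⁻¹ * (y : G)⁻¹ ∈ V := by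
      have := hXcomm y (hRX y.2) e heE
      have h' : e * (y : G) * e⁻¹ * (y : G)⁻¹ = ((y : G) * e * (y : G)⁻¹ * e⁻¹)⁻¹ := by group
      rw [h']; exact V.inv_mem this
    exact hRV r r.2 _ hv
  refine ⟨h1, ?_, ?_, h4, ?_, h6, h7⟩
  · intro e he
    exact ⟨⟨e, hER he⟩, hZ2 e _ he, rfl⟩
  · rw [eq_top_iff]
    intro x _
    show x ∈ Subgroup.upperCentralSeries ↥R (2 + 1)
    rw [Subgroup.mem_upperCentralSeries_succ_iff]
    intro y
    exact hZ2 ((⁅x, y⁆ : ↥R) : G) (⁅x, y⁆ : ↥R).2 (hRcomm x x.2 y y.2)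
  · intro x hx y hy
    exact ⟨hRcomm x hx y hy, by rw [pow_two]; exact hRsq x hx⟩

end Cfsg.Agent.Lead.LargeES
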