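import Cfsg.Agent.Lib.Lead.LargeESPair
import Cfsg.Agent.Lib.Helper7.Core
import Cfsg.Agent.S0992
import Cfsg.Agent.S0444

/-!
# `X = ⟨Q, Y⟩` for a pair of large extraspecial subgroups: `X / R ≅ S₃`
-/

set_option autoImplicit false
open Cfsg
open scoped commutatorElement

namespace Cfsg.Agent.Lead.LargeES

open Cfsg.Agent.Lib.Lead.KleinFour Cfsg.Agent.Lib.Helper7

variable {G : Type*} [Group G]

/-- the image of a subgroup `X ≤ N(V)` in `Aut V` for a four-group `V` has order six as soon as it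
contains elements inducing automorphisms of orders two and three -/
theorem card_range_six [Finite G] (V : Subgroup G) [IsKleinFour ↥V] (X : Subgroup G)
    (hXN : X ≤ Subgroup.normalizer (V : Set G)) (a b : G) (haX : a ∈ X) (hbX : b ∈ X)
    (ha2 : a * a ∈ Subgroup.centralizer (V : Set G)) (ha1 : a ∉ Subgroup.centralizer (V : Set G))
    (hb3 : b * b * b ∈ Subgroup.centralizer (V : Set G)) (hb1 : b ∉ Subgroup.centralizer (V : Set G)) :
    Nat.card (V.normalizerMonoidHom.comp (Subgroup.inclusion hXN)).range = 6 := by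
  have hdvd : Nat.card (V.normalizerMonoidHom.comp (Subgroup.inclusion hXN)).range ∣ 6 :=
    (Subgroup.card_subgroup_dvd_card _).trans (Cfsg.Agent.S0992.card_mulAut_dvd_six ↥V)
  have hker : ∀ n : ↥X, (V.normalizerMonoidHom.comp (Subgroup.inclusion hXN)) n = 1 ↔
      (n : G) ∈ Subgroup.centralizer (V : Set G) := by
    intro n
    rw [MonoidHom.comp_apply, ← MonoidHom.mem_ker, Subgroup.normalizerMonoidHom_ker,
      Subgroup.mem_subgroupOf]
    rfl
  have h2 : 2 ∣ Nat.card (V.normalizerMonoidHom.comp (Subgroup.inclusion hXN)).range := by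
    have hfact : Fact (Nat.Prime 2) := ⟨Nat.prime_two⟩
    have ho : orderOf ((V.normalizerMonoidHom.comp (Subgroup.inclusion hXN)) ⟨a, haX⟩) = 2 := by
      apply orderOf_eq_prime
      · rw [← map_pow, hker]
        show ((⟨a, haX⟩ : ↥X) ^ 2 : ↥X).1 ∈ _
        rw [Subgroup.coe_pow, pow_two]
        exact ha2
      · rw [Ne, hker]; exact ha1
    rw [← ho]
    exact Subgroup.orderOf_dvd_natCard _ ⟨_, rfl⟩
  have h3 : 3 ∣ Nat.card (V.normalizerMonoidHom.comp (Subgroup.inclusion hXN)).range := by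
    have hfact : Fact (Nat.Prime 3) := ⟨Nat.prime_three⟩
    have ho : orderOf ((V.normalizerMonoidHom.comp (Subgroup.inclusion hXN)) ⟨b, hbX⟩) = 3 := by
      apply orderOf_eq_prime
      · rw [← map_pow, hker]
        show ((⟨b, hbX⟩ : ↥X) ^ 3 : ↥X).1 ∈ _
        rw [Subgroup.coe_pow, pow_succ, pow_two]
        exact hb3
      · rw [Ne, hker]; exact hb1
    rw [← ho]
    exact Subgroup.orderOf_dvd_natCard _ ⟨_, rfl⟩
  have h6 : 6 ∣ Nat.card (V.normalizerMonoidHom.comp (Subgroup.inclusion hXN)).range :=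
    Nat.Coprime.mul_dvd_of_dvd_of_dvd (by norm_num : Nat.Coprime 2 3) h2 h3
  exact Nat.dvd_antisymm hdvd h6

/-- an element of `Q` not commuting with `t` lies in the coset `q C_Q(t)` -/
theorem coset_move {Q : Subgroup G} {z t : G} (hQ : LES Q z) (htQ : t ∈ Q) (htt : t * t = 1) {q : G}
    (hqQ : q ∈ Q) (hqt : q * t * q⁻¹ * t⁻¹ = z) {a : G} (ha : a ∈ Q) (hat : ¬ a * t = t * a) :
    (q⁻¹ * a) * t = t * (q⁻¹ * a) := by
  obtain ⟨e3, e5, e6, e4, e1⟩ := move_facts hQ htt hqQ hqt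
  have hzz := hQ.zz
  have hz' : a * t * a⁻¹ * t⁻¹ = z := by
    refine (hQ.comm a ha t htQ).resolve_left (fun h => hat ?_)
    calc a * t = (a * t * a⁻¹ * t⁻¹) * (t * a) := by group
      _ = t * a := by rw [h, one_mul]
  have hat' : a * t * a⁻¹ = z * t := by
    calc a * t * a⁻¹ = (a * t * a⁻¹ * t⁻¹) * t := by group
      _ = z * t := by rw [hz']
  have h3 : (q⁻¹ * a) * t * (q⁻¹ * a)⁻¹ = t := by
    calc (q⁻¹ * a) * t * (q⁻¹ * a)⁻¹ = q⁻¹ * (a * t * a⁻¹) * q := by group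
      _ = q⁻¹ * (z * t) * q := by rw [hat']
      _ = (q⁻¹ * z * q) * (q⁻¹ * t * q) := by group
      _ = z * (z * t) := by rw [e1, e5]
      _ = t := by rw [← mul_assoc, hzz, one_mul]
  calc (q⁻¹ * a) * t = ((q⁻¹ * a) * t * (q⁻¹ * a)⁻¹) * (q⁻¹ * a) := by group
    _ = t * (q⁻¹ * a) := by rw [h3]

/-- `q y q⁻¹` interchanges `z` and `t` -/
theorem swap_conj {z t q y : G} (hzz : z * z = 1) (htt : t * t = 1) (hzt : z * t = t * z)
    (hq1 : q⁻¹ * z * q = z) (hq2 : q * z * q⁻¹ = z) (hq3 : q * t * q⁻¹ = z * t)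
    (hq4 : q⁻¹ * t * q = z * t) (hy1 : y * t * y⁻¹ = t) (hy2 : y * z * y⁻¹ = t * z) :
    (q * y * q⁻¹) * z * (q * y * q⁻¹)⁻¹ = t ∧ (q * y * q⁻¹) * t * (q * y * q⁻¹)⁻¹ = z := by
  have e7 : t * z * t = z := by rw [← hzt, mul_assoc, htt, mul_one]
  constructor
  · calc (q * y * q⁻¹) * z * (q * y * q⁻¹)⁻¹ = q * (y * (q⁻¹ * z * q) * y⁻¹) * q⁻¹ := by group
      _ = q * (y * z * y⁻¹) * q⁻¹ := by rw [hq1]
      _ = q * (t * z) * q⁻¹ := by rw [hy2]
      _ = (q * t * q⁻¹) * (q * z * q⁻¹) := by group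
      _ = (z * t) * z := by rw [hq3, hq2]
      _ = t := by rw [hzt, mul_assoc, hzz, mul_one]
  · calc (q * y * q⁻¹) * t * (q * y * q⁻¹)⁻¹ = q * (y * (q⁻¹ * t * q) * y⁻¹) * q⁻¹ := by group
      _ = q * (y * (z * t) * y⁻¹) * q⁻¹ := by rw [hq4]
      _ = q * ((y * z * y⁻¹) * (y * t * y⁻¹)) * q⁻¹ := by group
      _ = q * ((t * z) * t) * q⁻¹ := by rw [hy2, hy1]
      _ = q * z * q⁻¹ := by rw [e7]
      _ = z := hq2


theorem six_card_le {H : Type*} [Group H] (d e : H) : (Cfsg.Agent.S0444.six d e).card ≤ 6 := by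
  classical
  unfold Cfsg.Agent.S0444.six
  exact Finset.card_le_six

theorem key3 : ∀ σ : Equiv.Perm (Fin 3), σ ≠ 1 → σ ^ 2 = 1 →
    ∃ τ : Equiv.Perm (Fin 3), (σ * (τ * σ * τ⁻¹)) ^ 3 = 1 ∧ σ * (τ * σ * τ⁻¹) ≠ 1 := by
  decide +kernel

variable {Q Y : Subgroup G} {z t : G}

/-- the structure of `X = ⟨Q, Y⟩` -/
theorem Pair.structure2 [Finite G] (P : Pair Q Y z t)
    (hlink : ∀ n : G, n * z * n⁻¹ = t → ∀ a ∈ Q, n * a * n⁻¹ ∈ Y)
    (V X R : Subgroup G) (hV : V = Subgroup.closure ({z, t} : Set G)) (hX : X = Q ⊔ Y)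
    (hR : R = (Y ⊓ Subgroup.centralizer ({z} : Set G)) ⊔ (Q ⊓ Subgroup.centralizer ({t} : Set G))) :
    R = X ⊓ Subgroup.centralizer (V : Set G) ∧
    R = (Cfsg.pCore 2 ↥X).map X.subtype ∧
    (∃ _ : (R.subgroupOf X).Normal, Nonempty (↥X ⧸ R.subgroupOf X ≃* Equiv.Perm (Fin 3))) ∧
    Subgroup.normalizer (V : Set G) =
      X ⊔ (Subgroup.centralizer ({z} : Set G) ⊓ Subgroup.centralizer (V : Set G)) ∧
    (∀ y ∈ Subgroup.normalizer (V : Set G), ∀ x ∈ X, y * x * y⁻¹ ∈ X) ∧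
    R ≤ Subgroup.centralizer ({z} : Set G) ⊓ Subgroup.centralizer (V : Set G) ∧
    (∀ x ∈ X, ∀ c ∈ Subgroup.centralizer ({z} : Set G) ⊓ Subgroup.centralizer (V : Set G),
      x * c * x⁻¹ * c⁻¹ ∈ R) ∧
    X ⊓ (Subgroup.centralizer ({z} : Set G) ⊓ Subgroup.centralizer (V : Set G)) = R := by
  classical
  have hQ := P.hQ
  have hY := P.hY
  have hzz := hQ.zz
  have htt := hY.zz
  have hzt : z * t = t * z := (hQ.zc t P.tQ).symm
  have hzinv : z⁻¹ = z := inv_eq_of_mul_eq_one_right hzz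
  have htinv : t⁻¹ = t := inv_eq_of_mul_eq_one_right htt
  obtain ⟨-, -, -, hEea, hR5, -, -⟩ := P.structure V X R (Q ⊓ Y) hV hX hR rfl
  -- the four-group
  obtain ⟨V', hV4, hzV', htV', hVel'⟩ := exists_kleinFour hzz htt hzt hQ.z1 hY.z1 (Ne.symm P.ne)
  have hzV : z ∈ V := by rw [hV]; exact Subgroup.subset_closure (by simp)
  have htV : t ∈ V := by rw [hV]; exact Subgroup.subset_closure (by simp)
  have hVeq : V = V' := by
    apply le_antisymm
    · rw [hV, Subgroup.closure_le]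
      rintro x (rfl | rfl)
      · exact hzV'
      · exact htV'
    · intro v hv
      rcases hVel' v hv with rfl | rfl | rfl | rfl
      · exact V.one_mem
      · exact hzV
      · exact htV
      · exact V.mul_mem hzV htV
  haveI : IsKleinFour ↥V := by rw [hVeq]; exact hV4
  have hVel : ∀ v ∈ V, v = 1 ∨ v = z ∨ v = t ∨ v = z * t := by rw [hVeq]; exact hVel'
  obtain ⟨Yz, hYzdef⟩ : ∃ Yz, Yz = Y ⊓ Subgroup.centralizer ({z} : Set G) := ⟨_, rfl⟩
  obtain ⟨Qt, hQtdef⟩ : ∃ Qt, Qt = Q ⊓ Subgroup.centralizer ({t} : Set G) := ⟨_, rfl⟩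
  rw [← hYzdef, ← hQtdef] at hR
  have hYz : ∀ y, y ∈ Yz ↔ y ∈ Y ∧ y * z = z * y := by
    intro y
    rw [hYzdef, Subgroup.mem_inf, Subgroup.mem_centralizer_singleton_iff]
  have hQt : ∀ x, x ∈ Qt ↔ x ∈ Q ∧ x * t = t * x := by
    intro x
    rw [hQtdef, Subgroup.mem_inf, Subgroup.mem_centralizer_singleton_iff]
  have hYzR : Yz ≤ R := by rw [hR]; exact le_sup_left
  have hQtR : Qt ≤ R := by rw [hR]; exact le_sup_right
  have hQX : Q ≤ X := by rw [hX]; exact le_sup_left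
  have hYX : Y ≤ X := by rw [hX]; exact le_sup_right
  have hRz : ∀ r ∈ R, r * z = z * r := by
    have : R ≤ Subgroup.centralizer ({z} : Set G) := by
      refine hR.le.trans (sup_le ?_ ?_)
      · intro y hy
        rw [Subgroup.mem_centralizer_singleton_iff]; exact ((hYz y).mp hy).2
      · intro x hx
        rw [Subgroup.mem_centralizer_singleton_iff]; exact (hQ.zc x ((hQt x).mp hx).1)
    intro r hr
    exact (Subgroup.mem_centralizer_singleton_iff.mp (this hr))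
  have hRt : ∀ r ∈ R, r * t = t * r := by
    have : R ≤ Subgroup.centralizer ({t} : Set G) := by
      refine hR.le.trans (sup_le ?_ ?_)
      · intro y hy
        rw [Subgroup.mem_centralizer_singleton_iff]; exact (hY.zc y ((hYz y).mp hy).1)
      · intro x hx
        rw [Subgroup.mem_centralizer_singleton_iff]; exact ((hQt x).mp hx).2
    intro r hr
    exact (Subgroup.mem_centralizer_singleton_iff.mp (this hr))
  have hCV : ∀ n : G, n * z = z * n → n * t = t * n → n ∈ Subgroup.centralizer (V : Set G) := by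
    intro n h1 h2
    rw [Subgroup.mem_centralizer_iff]
    intro v hv
    rcases hVel v hv with rfl | rfl | rfl | rfl
    · simp
    · exact h1.symm
    · exact h2.symm
    · calc z * t * n = z * (t * n) := by group
        _ = z * (n * t) := by rw [h2]
        _ = (z * n) * t := by group
        _ = (n * z) * t := by rw [h1]
        _ = n * (z * t) := by group
  have hCVz : ∀ n ∈ Subgroup.centralizer (V : Set G), n * z = z * n := fun n hn =>
    ((Subgroup.mem_centralizer_iff.mp hn) z hzV).symm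
  have hCVt : ∀ n ∈ Subgroup.centralizer (V : Set G), n * t = t * n := fun n hn =>
    ((Subgroup.mem_centralizer_iff.mp hn) t htV).symm
  have hRCV : R ≤ Subgroup.centralizer (V : Set G) := fun r hr => hCV r (hRz r hr) (hRt r hr)
  have hRX : R ≤ X := by
    refine hR.le.trans (sup_le ?_ ?_)
    · intro y hy; exact hYX ((hYz y).mp hy).1
    · intro x hx; exact hQX ((hQt x).mp hx).1
  -- moving elements
  obtain ⟨q, hqQ, hqt⟩ := hQ.exists_move P.tQ hY.z1 P.ne
  obtain ⟨y, hyY, hyz⟩ := hY.exists_move P.zY hQ.z1 (Ne.symm P.ne)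
  obtain ⟨q3, q5, q6, q4, q1⟩ := move_facts hQ htt hqQ hqt
  obtain ⟨y3, y5, y6, y4, y1⟩ := move_facts hY hzz hyY hyz
  have hzV' : z * t ∈ V := V.mul_mem hzV htV
  have hNV : ∀ n : G, n * z * n⁻¹ ∈ V → n * t * n⁻¹ ∈ V → n ∈ Subgroup.normalizer (V : Set G) := by
    intro n h1 h2
    haveI : Finite ((V : Set G)) := Subtype.finite
    apply Subgroup.mem_normalizer_fintype
    intro v hv
    rcases hVel v hv with rfl | rfl | rfl | rfl
    · have : n * 1 * n⁻¹ = 1 := by group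
      rw [this]; exact V.one_mem
    · exact h1
    · exact h2
    · have : n * (z * t) * n⁻¹ = (n * z * n⁻¹) * (n * t * n⁻¹) := by group
      rw [this]; exact V.mul_mem h1 h2
  have hQN : Q ≤ Subgroup.normalizer (V : Set G) := by
    intro a ha
    apply hNV
    · have : a * z * a⁻¹ = z := by
        calc a * z * a⁻¹ = (a * z) * a⁻¹ := by group
          _ = (z * a) * a⁻¹ := by rw [hQ.zc a ha]
          _ = z := by group
      rw [this]; exact hzV
    · have e : a * t * a⁻¹ = (a * t * a⁻¹ * t⁻¹) * t := by group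
      rw [e]
      rcases hQ.comm a ha t P.tQ with h | h
      · rw [h, one_mul]; exact htV
      · rw [h]; exact hzV'
  have hYN : Y ≤ Subgroup.normalizer (V : Set G) := by
    intro b hb
    apply hNV
    · have e : b * z * b⁻¹ = (b * z * b⁻¹ * z⁻¹) * z := by group
      rw [e]
      rcases hY.comm b hb z P.zY with h | h
      · rw [h, one_mul]; exact hzV
      · rw [h, ← hzt]; exact hzV'
    · have : b * t * b⁻¹ = t := by
        calc b * t * b⁻¹ = (b * t) * b⁻¹ := by group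
          _ = (t * b) * b⁻¹ := by rw [hY.zc b hb]
          _ = t := by group
      rw [this]; exact htV
  have hXN : X ≤ Subgroup.normalizer (V : Set G) := hX.le.trans (sup_le hQN hYN)
  have hconjC : ∀ n ∈ Subgroup.normalizer (V : Set G), ∀ c ∈ Subgroup.centralizer (V : Set G),
      n * c * n⁻¹ ∈ Subgroup.centralizer (V : Set G) := by
    intro n hn c hc
    rw [Subgroup.mem_centralizer_iff]
    intro v hv
    have hv' : n⁻¹ * v * n ∈ V := by
      have := (Subgroup.mem_normalizer_iff.mp (Subgroup.inv_mem _ hn) v).mp hv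
      rwa [inv_inv] at this
    have h1 := (Subgroup.mem_centralizer_iff.mp hc) _ hv'
    calc v * (n * c * n⁻¹) = n * ((n⁻¹ * v * n) * c) * n⁻¹ := by group
      _ = n * (c * (n⁻¹ * v * n)) * n⁻¹ := by rw [h1]
      _ = n * c * n⁻¹ * v := by group
  -- `X` normalizes `R`
  have hQR : ∀ a ∈ Q, ∀ r ∈ R, a * r * a⁻¹ ∈ R := by
    intro a ha r hr
    have h1 : a * r * a⁻¹ * r⁻¹ ∈ Q := by
      have := hQ.norm r (hRz r hr) a⁻¹ (Q.inv_mem ha)
      have e : a * r * a⁻¹ * r⁻¹ = a * (r * a⁻¹ * r⁻¹) := by group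
      rw [e]; exact Q.mul_mem ha this
    have h2 : a * r * a⁻¹ * r⁻¹ ∈ Subgroup.centralizer (V : Set G) :=
      Subgroup.mul_mem _ (hconjC a (hQN ha) r (hRCV hr)) (Subgroup.inv_mem _ (hRCV hr))
    have h3 : a * r * a⁻¹ * r⁻¹ ∈ Qt := (hQt _).mpr ⟨h1, hCVt _ h2⟩
    have e : a * r * a⁻¹ = (a * r * a⁻¹ * r⁻¹) * r := by group
    rw [e]; exact R.mul_mem (hQtR h3) hr
  have hYR : ∀ b ∈ Y, ∀ r ∈ R, b * r * b⁻¹ ∈ R := by
    intro b hb r hr
    have h1 : b * r * b⁻¹ * r⁻¹ ∈ Y := by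
      have := hY.norm r (hRt r hr) b⁻¹ (Y.inv_mem hb)
      have e : b * r * b⁻¹ * r⁻¹ = b * (r * b⁻¹ * r⁻¹) := by group
      rw [e]; exact Y.mul_mem hb this
    have h2 : b * r * b⁻¹ * r⁻¹ ∈ Subgroup.centralizer (V : Set G) :=
      Subgroup.mul_mem _ (hconjC b (hYN hb) r (hRCV hr)) (Subgroup.inv_mem _ (hRCV hr))
    have h3 : b * r * b⁻¹ * r⁻¹ ∈ Yz := (hYz _).mpr ⟨h1, hCVz _ h2⟩
    have e : b * r * b⁻¹ = (b * r * b⁻¹ * r⁻¹) * r := by group
    rw [e]; exact R.mul_mem (hYzR h3) hr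
  have hXNR : X ≤ Subgroup.normalizer (R : Set G) := by
    haveI : Finite ((R : Set G)) := Subtype.finite
    refine hX.le.trans (sup_le ?_ ?_)
    · intro a ha
      exact Subgroup.mem_normalizer_fintype (fun r hr => hQR a ha r hr)
    · intro b hb
      exact Subgroup.mem_normalizer_fintype (fun r hr => hYR b hb r hr)
  have hnormal : (R.subgroupOf X).Normal := by
    rw [Subgroup.normal_subgroupOf_iff hRX]
    intro r x hr hx
    exact (Subgroup.mem_normalizer_iff.mp (hXNR hx) r).mp hr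
  -- the quotient
  haveI := hnormal
  obtain ⟨π, hπ⟩ : ∃ π : ↥X →* ↥X ⧸ R.subgroupOf X, π = QuotientGroup.mk' (R.subgroupOf X) :=
    ⟨_, rfl⟩
  have hπ1 : ∀ x : ↥X, (x : G) ∈ R → π x = 1 := by
    intro x hx
    rw [hπ, QuotientGroup.mk'_apply, QuotientGroup.eq_one_iff, Subgroup.mem_subgroupOf]; exact hx
  have hπeq : ∀ a b : ↥X, (a : G)⁻¹ * b ∈ R → π a = π b := by
    intro a b h
    rw [hπ, QuotientGroup.mk'_apply, QuotientGroup.mk'_apply, QuotientGroup.eq,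
      Subgroup.mem_subgroupOf]
    exact h
  have hqX : q ∈ X := hQX hqQ
  have hyX : y ∈ X := hYX hyY
  obtain ⟨q', hq'⟩ : ∃ q' : ↥X, q' = ⟨q, hqX⟩ := ⟨_, rfl⟩
  obtain ⟨y', hy'⟩ : ∃ y' : ↥X, y' = ⟨y, hyX⟩ := ⟨_, rfl⟩
  have hzR : z ∈ R := hQtR ((hQt z).mpr ⟨hQ.zQ, hzt⟩)
  have htR : t ∈ R := hQtR ((hQt t).mpr ⟨P.tQ, rfl⟩)
  have hq2 : π q' * π q' = 1 := by
    rw [← map_mul]; apply hπ1
    rw [hq']; show q * q ∈ R
    rcases hQ.sq q hqQ with h | h
    · rw [h]; exact R.one_mem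
    · rw [h]; exact hzR
  have hy2 : π y' * π y' = 1 := by
    rw [← map_mul]; apply hπ1
    rw [hy']; show y * y ∈ R
    rcases hY.sq y hyY with h | h
    · rw [h]; exact R.one_mem
    · rw [h]; exact htR
  have hqinv : (π q')⁻¹ = π q' := inv_eq_of_mul_eq_one_right hq2
  have hyinv : (π y')⁻¹ = π y' := inv_eq_of_mul_eq_one_right hy2
  -- the braid relation
  obtain ⟨s1, s2⟩ := swap_conj hzz htt hzt q1 q4 q3 q5 y4 y3
  obtain ⟨s3, s4⟩ := swap_conj htt hzz hzt.symm y1 y4 y3 y5 q4 q3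
  obtain ⟨p₁, hp₁⟩ : ∃ p₁ : G, p₁ = q * y * q⁻¹ := ⟨_, rfl⟩
  obtain ⟨p₂, hp₂⟩ : ∃ p₂ : G, p₂ = y * q * y⁻¹ := ⟨_, rfl⟩
  rw [← hp₁] at s1 s2
  rw [← hp₂] at s3 s4
  have hr₀z : (p₁⁻¹ * p₂) * z = z * (p₁⁻¹ * p₂) := by
    have h1 : p₁⁻¹ * t * p₁ = z := by
      calc p₁⁻¹ * t * p₁ = p₁⁻¹ * (p₁ * z * p₁⁻¹) * p₁ := by rw [s1]
        _ = z := by group
    have h2 : (p₁⁻¹ * p₂) * z * (p₁⁻¹ * p₂)⁻¹ = z := by
      calc (p₁⁻¹ * p₂) * z * (p₁⁻¹ * p₂)⁻¹ = p₁⁻¹ * (p₂ * z * p₂⁻¹) * p₁ := by group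
        _ = p₁⁻¹ * t * p₁ := by rw [s4]
        _ = z := h1
    calc (p₁⁻¹ * p₂) * z = ((p₁⁻¹ * p₂) * z * (p₁⁻¹ * p₂)⁻¹) * (p₁⁻¹ * p₂) := by group
      _ = z * (p₁⁻¹ * p₂) := by rw [h2]
  have hr₀t : (p₁⁻¹ * p₂) * t = t * (p₁⁻¹ * p₂) := by
    have h1 : p₁⁻¹ * z * p₁ = t := by
      calc p₁⁻¹ * z * p₁ = p₁⁻¹ * (p₁ * t * p₁⁻¹) * p₁ := by rw [s2]
        _ = t := by group
    have h2 : (p₁⁻¹ * p₂) * t * (p₁⁻¹ * p₂)⁻¹ = t := by
      calc (p₁⁻¹ * p₂) * t * (p₁⁻¹ * p₂)⁻¹ = p₁⁻¹ * (p₂ * t * p₂⁻¹) * p₁ := by group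
        _ = p₁⁻¹ * z * p₁ := by rw [s3]
        _ = t := h1
    calc (p₁⁻¹ * p₂) * t = ((p₁⁻¹ * p₂) * t * (p₁⁻¹ * p₂)⁻¹) * (p₁⁻¹ * p₂) := by group
      _ = t * (p₁⁻¹ * p₂) := by rw [h2]
  have hr₀C : p₁⁻¹ * p₂ ∈ Subgroup.centralizer (V : Set G) := hCV _ hr₀z hr₀t
  have hr₀R : p₁⁻¹ * p₂ ∈ R := by
    have hn : (q⁻¹ * y) * z * (q⁻¹ * y)⁻¹ = t := by
      calc (q⁻¹ * y) * z * (q⁻¹ * y)⁻¹ = q⁻¹ * (y * z * y⁻¹) * q := by group
        _ = q⁻¹ * (t * z) * q := by rw [y3]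
        _ = (q⁻¹ * t * q) * (q⁻¹ * z * q) := by group
        _ = (z * t) * z := by rw [q5, q1]
        _ = t := by rw [hzt, mul_assoc, hzz, mul_one]
    have hb1 : (q⁻¹ * y) * q * (q⁻¹ * y)⁻¹ ∈ Y := hlink _ hn q hqQ
    have hbY : q⁻¹ * (p₁⁻¹ * p₂) * q ∈ Y := by
      have e : q⁻¹ * (p₁⁻¹ * p₂) * q = y⁻¹ * ((q⁻¹ * y) * q * (q⁻¹ * y)⁻¹) := by
        rw [hp₁, hp₂]; group
      rw [e]; exact Y.mul_mem (Y.inv_mem hyY) hb1
    have hbC : q⁻¹ * (p₁⁻¹ * p₂) * q ∈ Subgroup.centralizer (V : Set G) := by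
      have := hconjC q⁻¹ (Subgroup.inv_mem _ (hQN hqQ)) _ hr₀C
      rwa [inv_inv] at this
    have hbR : q⁻¹ * (p₁⁻¹ * p₂) * q ∈ R := hYzR ((hYz _).mpr ⟨hbY, hCVz _ hbC⟩)
    have := hQR q hqQ _ hbR
    have e : q * (q⁻¹ * (p₁⁻¹ * p₂) * q) * q⁻¹ = p₁⁻¹ * p₂ := by group
    rwa [e] at this
  have hbraid : π y' * π q' * π y' = π q' * π y' * π q' := by
    have h1 : π (q' * y' * q'⁻¹) = π (y' * q' * y'⁻¹) := by
      apply hπeq
      have e : ((q' * y' * q'⁻¹ : ↥X) : G)⁻¹ * ((y' * q' * y'⁻¹ : ↥X) : G) = p₁⁻¹ * p₂ := by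
        rw [hq', hy', hp₁, hp₂]; rfl
      rw [e]; exact hr₀R
    rw [map_mul, map_mul, map_mul, map_mul, map_inv, map_inv, hqinv, hyinv] at h1
    exact h1.symm
  -- the quotient has at most six elements
  have hπQ : ∀ a (ha : a ∈ Q), π ⟨a, hQX ha⟩ = 1 ∨ π ⟨a, hQX ha⟩ = π q' := by
    intro a ha
    by_cases hat : a * t = t * a
    · left; exact hπ1 _ (hQtR ((hQt a).mpr ⟨ha, hat⟩))
    · right
      have h1 := coset_move hQ P.tQ htt hqQ hqt ha hat
      have h2 : q⁻¹ * a ∈ Qt := (hQt _).mpr ⟨Q.mul_mem (Q.inv_mem hqQ) ha, h1⟩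
      symm
      apply hπeq
      rw [hq']; exact hQtR h2
  have hπY : ∀ b (hb : b ∈ Y), π ⟨b, hYX hb⟩ = 1 ∨ π ⟨b, hYX hb⟩ = π y' := by
    intro b hb
    by_cases hbz : b * z = z * b
    · left; exact hπ1 _ (hYzR ((hYz b).mpr ⟨hb, hbz⟩))
    · right
      have h1 := coset_move hY P.zY hzz hyY hyz hb hbz
      have h2 : y⁻¹ * b ∈ Yz := (hYz _).mpr ⟨Y.mul_mem (Y.inv_mem hyY) hb, h1⟩
      symm
      apply hπeq
      rw [hy']; exact hYzR h2
  have hcl : ∀ g, g ∈ Subgroup.closure ((Q : Set G) ∪ (Y : Set G)) → g ∈ X := by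
    intro g hg; rw [hX, Subgroup.sup_eq_closure]; exact hg
  have hgen : ∀ a (ha : a ∈ (Q : Set G) ∪ (Y : Set G)),
      π ⟨a, hcl a (Subgroup.subset_closure ha)⟩ = 1 ∨
      π ⟨a, hcl a (Subgroup.subset_closure ha)⟩ = π q' ∨
      π ⟨a, hcl a (Subgroup.subset_closure ha)⟩ = π y' := by
    intro a ha
    rcases ha with ha | ha
    · rcases hπQ a ha with h | h
      · exact Or.inl h
      · exact Or.inr (Or.inl h)
    · rcases hπY a ha with h | h
      · exact Or.inl h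
      · exact Or.inr (Or.inr h)
  have hsix' : ∀ g (hg : g ∈ Subgroup.closure ((Q : Set G) ∪ (Y : Set G))),
      π ⟨g, hcl g hg⟩ ∈ Cfsg.Agent.S0444.six (π q') (π y') := by
    intro g hg
    induction hg using Subgroup.closure_induction_left with
    | one =>
      have : π ⟨1, hcl 1 (Subgroup.one_mem _)⟩ = 1 := map_one π
      rw [this]; unfold Cfsg.Agent.S0444.six; simp
    | mul_left a ha g hg ih =>
      have e : π ⟨a * g, hcl _ (Subgroup.mul_mem _ (Subgroup.subset_closure ha) hg)⟩ =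
          π ⟨a, hcl a (Subgroup.subset_closure ha)⟩ * π ⟨g, hcl g hg⟩ := by
        rw [← map_mul]; rfl
      rw [e]
      rcases hgen a ha with h | h | h
      · rw [h, one_mul]; exact ih
      · rw [h]; exact (Cfsg.Agent.S0444.mul_mem_six hq2 hy2 hbraid ih).1
      · rw [h]; exact (Cfsg.Agent.S0444.mul_mem_six hq2 hy2 hbraid ih).2
    | inv_mul_cancel a ha g hg ih =>
      have e : π ⟨a⁻¹ * g, hcl _ (Subgroup.mul_mem _
          (Subgroup.inv_mem _ (Subgroup.subset_closure ha)) hg)⟩ =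
          (π ⟨a, hcl a (Subgroup.subset_closure ha)⟩)⁻¹ * π ⟨g, hcl g hg⟩ := by
        rw [← map_inv, ← map_mul]; rfl
      rw [e]
      rcases hgen a ha with h | h | h
      · rw [h, inv_one, one_mul]; exact ih
      · rw [h, hqinv]; exact (Cfsg.Agent.S0444.mul_mem_six hq2 hy2 hbraid ih).1
      · rw [h, hyinv]; exact (Cfsg.Agent.S0444.mul_mem_six hq2 hy2 hbraid ih).2
  have hsix : ∀ xb : ↥X ⧸ R.subgroupOf X, xb ∈ Cfsg.Agent.S0444.six (π q') (π y') := by
    intro xb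
    induction xb using QuotientGroup.induction_on with
    | H x =>
      have hx : (x : G) ∈ Subgroup.closure ((Q : Set G) ∪ (Y : Set G)) := by
        rw [← Subgroup.sup_eq_closure, ← hX]; exact x.2
      have := hsix' x hx
      rw [hπ] at this ⊢
      exact this
  have hcardle : Nat.card (↥X ⧸ R.subgroupOf X) ≤ 6 := by
    have h1 : (Set.univ : Set (↥X ⧸ R.subgroupOf X)) ⊆
        ((Cfsg.Agent.S0444.six (π q') (π y') : Finset _) : Set (↥X ⧸ R.subgroupOf X)) :=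
      fun x _ => hsix x
    calc Nat.card (↥X ⧸ R.subgroupOf X)
        = (Set.univ : Set (↥X ⧸ R.subgroupOf X)).ncard := (Set.ncard_univ _).symm
      _ ≤ ((Cfsg.Agent.S0444.six (π q') (π y') : Finset _) : Set (↥X ⧸ R.subgroupOf X)).ncard :=
          Set.ncard_le_ncard h1 (Finset.finite_toSet _)
      _ = (Cfsg.Agent.S0444.six (π q') (π y')).card := Set.ncard_coe_finset _
      _ ≤ 6 := six_card_le _ _
  -- the image of `X` in `Aut V`
  obtain ⟨m, hm⟩ : ∃ m : G, m = q * y := ⟨_, rfl⟩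
  have e7 : z * t * z = t := by rw [hzt, mul_assoc, hzz, mul_one]
  have e8 : t * z * t = z := by rw [← hzt, mul_assoc, htt, mul_one]
  have hmz : m * z * m⁻¹ = t := by
    calc m * z * m⁻¹ = q * (y * z * y⁻¹) * q⁻¹ := by rw [hm]; group
      _ = q * (t * z) * q⁻¹ := by rw [y3]
      _ = (q * t * q⁻¹) * (q * z * q⁻¹) := by group
      _ = z * t * z := by rw [q3, q4]
      _ = t := e7
  have hmt : m * t * m⁻¹ = z * t := by
    calc m * t * m⁻¹ = q * (y * t * y⁻¹) * q⁻¹ := by rw [hm]; group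
      _ = q * t * q⁻¹ := by rw [y4]
      _ = z * t := q3
  have hmzt : m * (z * t) * m⁻¹ = z := by
    calc m * (z * t) * m⁻¹ = (m * z * m⁻¹) * (m * t * m⁻¹) := by group
      _ = t * (z * t) := by rw [hmz, hmt]
      _ = t * z * t := by group
      _ = z := e8
  have hqqC : q * q ∈ Subgroup.centralizer (V : Set G) := by
    rcases hQ.sq q hqQ with h | h
    · rw [h]; exact Subgroup.one_mem _
    · rw [h]; exact hCV z rfl hzt
  have hqnC : q ∉ Subgroup.centralizer (V : Set G) := by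
    intro h
    have h1 : q * t = t * q := hCVt q h
    apply hQ.z1
    rw [← hqt]
    calc q * t * q⁻¹ * t⁻¹ = (q * t) * q⁻¹ * t⁻¹ := by group
      _ = (t * q) * q⁻¹ * t⁻¹ := by rw [h1]
      _ = 1 := by group
  have hm3 : m * m * m ∈ Subgroup.centralizer (V : Set G) := by
    apply hCV
    · have : (m * m * m) * z * (m * m * m)⁻¹ = z := by
        calc (m * m * m) * z * (m * m * m)⁻¹ = m * (m * (m * z * m⁻¹) * m⁻¹) * m⁻¹ := by group
          _ = m * (m * t * m⁻¹) * m⁻¹ := by rw [hmz]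
          _ = m * (z * t) * m⁻¹ := by rw [hmt]
          _ = z := hmzt
      calc (m * m * m) * z = ((m * m * m) * z * (m * m * m)⁻¹) * (m * m * m) := by group
        _ = z * (m * m * m) := by rw [this]
    · have : (m * m * m) * t * (m * m * m)⁻¹ = t := by
        calc (m * m * m) * t * (m * m * m)⁻¹ = m * (m * (m * t * m⁻¹) * m⁻¹) * m⁻¹ := by group
          _ = m * (m * (z * t) * m⁻¹) * m⁻¹ := by rw [hmt]
          _ = m * z * m⁻¹ := by rw [hmzt]
          _ = t := hmz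
      calc (m * m * m) * t = ((m * m * m) * t * (m * m * m)⁻¹) * (m * m * m) := by group
        _ = t * (m * m * m) := by rw [this]
  have hm1 : m ∉ Subgroup.centralizer (V : Set G) := by
    intro h
    have h1 : m * z = z * m := hCVz m h
    apply P.ne
    rw [← hmz]
    calc m * z * m⁻¹ = (m * z) * m⁻¹ := by group
      _ = (z * m) * m⁻¹ := by rw [h1]
      _ = z := by group
  have hmX : m ∈ X := by rw [hm]; exact X.mul_mem hqX hyX
  have hrange := card_range_six V X hXN q m hqX hmX hqqC hqnC hm3 hm1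
  obtain ⟨f', hf'⟩ : ∃ f' : ↥X →* MulAut ↥V,
      f' = V.normalizerMonoidHom.comp (Subgroup.inclusion hXN) := ⟨_, rfl⟩
  rw [← hf'] at hrange
  have hkerf : ∀ n : ↥X, f' n = 1 ↔ (n : G) ∈ Subgroup.centralizer (V : Set G) := by
    intro n
    rw [hf', MonoidHom.comp_apply, ← MonoidHom.mem_ker, Subgroup.normalizerMonoidHom_ker,
      Subgroup.mem_subgroupOf]
    rfl
  have hkereq : f'.ker = (Subgroup.centralizer (V : Set G)).subgroupOf X := by
    ext n; rw [MonoidHom.mem_ker, hkerf, Subgroup.mem_subgroupOf]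
  have hidx6 : (Subgroup.centralizer (V : Set G)).relIndex X = 6 := by
    rw [Subgroup.relIndex, ← hkereq, Subgroup.index_ker, hrange]
  have hK : (X ⊓ Subgroup.centralizer (V : Set G)).relIndex X = 6 := by
    rw [Subgroup.inf_relIndex_left]; exact hidx6
  have hRK : R ≤ X ⊓ Subgroup.centralizer (V : Set G) := le_inf hRX hRCV
  have hmul := Subgroup.relIndex_mul_relIndex (H := R) (K := X ⊓ Subgroup.centralizer (V : Set G))
    (L := X) hRK inf_le_left
  have hRidx : R.relIndex X = Nat.card (↥X ⧸ R.subgroupOf X) := by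
    rw [Subgroup.relIndex, Subgroup.index_eq_card]
  have hRKidx : R.relIndex (X ⊓ Subgroup.centralizer (V : Set G)) = 1 := by
    have hne : R.relIndex (X ⊓ Subgroup.centralizer (V : Set G)) ≠ 0 := by
      rw [Subgroup.relIndex]; exact Subgroup.index_ne_zero_of_finite
    rw [hK] at hmul
    have : R.relIndex (X ⊓ Subgroup.centralizer (V : Set G)) * 6 ≤ 6 := by
      rw [hmul, hRidx]; exact hcardle
    omega
  have ha : R = X ⊓ Subgroup.centralizer (V : Set G) :=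
    le_antisymm hRK (Subgroup.relIndex_eq_one.mp hRKidx)
  have hcard6 : Nat.card (↥X ⧸ R.subgroupOf X) = 6 := by
    rw [← hRidx, ← hmul, hRKidx, hK]
  -- the homomorphism onto `S₃`
  have hψ₀inj : Function.Injective
      (MulAction.toPermHom (MulAut ↥V) (Cfsg.Agent.S0992.nonOne ↥V)) := by
    rw [← MonoidHom.ker_eq_bot_iff, eq_bot_iff]
    intro f hf
    rw [MonoidHom.mem_ker] at hf
    rw [Subgroup.mem_bot]
    ext v
    by_cases hv : v = 1
    · rw [hv, map_one]; rfl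
    · have := congrArg (fun σ : Equiv.Perm (Cfsg.Agent.S0992.nonOne ↥V) =>
        ((σ ⟨v, hv⟩ : Cfsg.Agent.S0992.nonOne ↥V) : ↥V)) hf
      exact congrArg Subtype.val this
  have hcard3 : Nat.card (Cfsg.Agent.S0992.nonOne ↥V) = 3 := by
    have h3 : Nat.card (Cfsg.Agent.S0992.nonOne ↥V) = ({(1 : ↥V)}ᶜ : Set ↥V).ncard := by
      rw [← Nat.card_coe_set_eq]; rfl
    rw [h3, Set.ncard_compl, Set.ncard_singleton, IsKleinFour.card_four]
  obtain ⟨e₃⟩ : Nonempty (Cfsg.Agent.S0992.nonOne ↥V ≃ Fin 3) := ⟨Finite.equivFinOfCardEq hcard3⟩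
  obtain ⟨ψ, hψ⟩ : ∃ ψ : ↥X →* Equiv.Perm (Fin 3),
      ψ = (e₃.permCongrHom.toMonoidHom.comp
        (MulAction.toPermHom (MulAut ↥V) (Cfsg.Agent.S0992.nonOne ↥V))).comp f' := ⟨_, rfl⟩
  have hψker : ∀ n : ↥X, ψ n = 1 ↔ (n : G) ∈ R := by
    intro n
    rw [hψ, MonoidHom.comp_apply, MonoidHom.comp_apply, MulEquiv.coe_toMonoidHom]
    rw [map_eq_one_iff _ (MulEquiv.injective _), map_eq_one_iff _ hψ₀inj, hkerf, ha,
      Subgroup.mem_inf]
    exact ⟨fun h => ⟨n.2, h⟩, fun h => h.2⟩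
  have hψkereq : ψ.ker = R.subgroupOf X := by
    ext n; rw [MonoidHom.mem_ker, hψker, Subgroup.mem_subgroupOf]
  have hψsurj : Function.Surjective ψ := by
    rw [← MonoidHom.range_eq_top]
    apply (Subgroup.card_eq_iff_eq_top _).mp
    rw [← Subgroup.index_ker, hψkereq, Subgroup.index_eq_card, hcard6, Nat.card_perm, Nat.card_fin]
    rfl
  have hiso : Nonempty (↥X ⧸ R.subgroupOf X ≃* Equiv.Perm (Fin 3)) :=
    ⟨(QuotientGroup.quotientMulEquivOfEq hψkereq.symm).trans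
      (QuotientGroup.quotientKerEquivOfSurjective ψ hψsurj)⟩
  -- `R = O₂(X)`
  have hb : R = (Cfsg.pCore 2 ↥X).map X.subtype := by
    apply le_antisymm
    · have hR2 : IsPGroup 2 ↥(R.subgroupOf X) := by
        intro r
        refine ⟨2, ?_⟩
        have hrR : ((r : ↥X) : G) ∈ R := Subgroup.mem_subgroupOf.mp r.2
        have h1 := (hR5 _ hrR _ hrR).2
        have h2 := hEea.2 _ h1
        rw [← pow_mul] at h2
        apply Subtype.ext
        apply Subtype.ext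
        rw [Subgroup.coe_pow, Subgroup.coe_pow]
        exact h2
      have hle : R.subgroupOf X ≤ Cfsg.pCore 2 ↥X := le_pCore hnormal hR2
      calc R = (R.subgroupOf X).map X.subtype := (Subgroup.map_subgroupOf_eq_of_le hRX).symm
        _ ≤ (Cfsg.pCore 2 ↥X).map X.subtype := Subgroup.map_mono hle
    · rintro o ⟨o', ho', rfl⟩
      show (o' : G) ∈ R
      rw [← hψker o']
      by_contra hσ1
      have hO2 := pCore_isPGroup 2 ↥X
      have hpow : ∀ w : ↥X, w ∈ Cfsg.pCore 2 ↥X → ∃ k : ℕ, (ψ w) ^ (2 ^ k) = 1 := by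
        intro w hw
        obtain ⟨k, hk⟩ := hO2 ⟨w, hw⟩
        refine ⟨k, ?_⟩
        have h1 : w ^ (2 ^ k) = 1 := by
          have := congrArg Subtype.val hk
          simpa using this
        rw [← map_pow, h1, map_one]
      obtain ⟨k, hk⟩ := hpow o' ho'
      have hσ2 : (ψ o') ^ 2 = 1 := by
        have h1 : orderOf (ψ o') ∣ 2 ^ k := orderOf_dvd_of_pow_eq_one hk
        obtain ⟨j, -, hj⟩ := (Nat.dvd_prime_pow Nat.prime_two).mp h1
        have h2 : orderOf (ψ o') ∣ 6 := by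
          have := orderOf_dvd_natCard (ψ o')
          rwa [Nat.card_perm, Nat.card_fin] at this
        have hj1 : j ≤ 1 := by
          by_contra hcon
          push_neg at hcon
          have h4 : 2 ^ 2 ∣ 2 ^ j := pow_dvd_pow 2 hcon
          rw [← hj] at h4
          have := h4.trans h2
          omega
        have h3 : orderOf (ψ o') ∣ 2 := by
          rw [hj]
          calc 2 ^ j ∣ 2 ^ 1 := pow_dvd_pow 2 hj1
            _ = 2 := by norm_num
        exact orderOf_dvd_iff_pow_eq_one.mp h3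
      obtain ⟨τ, hτ3, hτ1⟩ := key3 (ψ o') hσ1 hσ2
      obtain ⟨x₁, hx₁⟩ := hψsurj τ
      have hρ' : o' * (x₁ * o' * x₁⁻¹) ∈ Cfsg.pCore 2 ↥X :=
        Subgroup.mul_mem _ ho' ((pCore_normal 2 ↥X).conj_mem o' ho' x₁)
      obtain ⟨k', hk'⟩ := hpow _ hρ'
      have hψρ : ψ (o' * (x₁ * o' * x₁⁻¹)) = ψ o' * (τ * ψ o' * τ⁻¹) := by
        rw [map_mul, map_mul, map_mul, map_inv, hx₁]
      rw [hψρ] at hk'
      apply hτ1
      rw [← orderOf_eq_one_iff]
      have h1 : orderOf (ψ o' * (τ * ψ o' * τ⁻¹)) ∣ 2 ^ k' := orderOf_dvd_of_pow_eq_one hk'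
      have h2 : orderOf (ψ o' * (τ * ψ o' * τ⁻¹)) ∣ 3 := orderOf_dvd_of_pow_eq_one hτ3
      have hcop : Nat.Coprime (2 ^ k') 3 := Nat.Coprime.pow_left k' (by norm_num)
      exact Nat.eq_one_of_dvd_coprimes hcop h1 h2
  -- the normalizer of `V`
  have hCVle : Subgroup.centralizer (V : Set G) ≤
      Subgroup.centralizer ({z} : Set G) ⊓ Subgroup.centralizer (V : Set G) :=
    le_inf (fun c hc => Subgroup.mem_centralizer_singleton_iff.mpr (hCVz c hc)) le_rfl
  have hAut6 := Cfsg.Agent.S0992.card_mulAut_dvd_six ↥V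
  haveI : Finite (MulAut ↥V) := Nat.finite_of_card_ne_zero (fun h => by
    rw [h] at hAut6; omega)
  have hrange_top : f'.range = ⊤ := by
    apply (Subgroup.card_eq_iff_eq_top _).mp
    have h2 : Nat.card f'.range ≤ Nat.card (MulAut ↥V) := Subgroup.card_le_card_group _
    have h3 := Nat.le_of_dvd (by norm_num) hAut6
    rw [hrange] at h2 ⊢
    omega
  have hdecomp : ∀ n ∈ Subgroup.normalizer (V : Set G),
      ∃ x ∈ X, ∃ c ∈ Subgroup.centralizer (V : Set G), n = x * c := by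
    intro n hn
    have : V.normalizerMonoidHom ⟨n, hn⟩ ∈ f'.range := by rw [hrange_top]; exact Subgroup.mem_top _
    obtain ⟨x, hx⟩ := this
    refine ⟨x, x.2, (x : G)⁻¹ * n, ?_, by group⟩
    have h1 : V.normalizerMonoidHom ((Subgroup.inclusion hXN x)⁻¹ * ⟨n, hn⟩) = 1 := by
      rw [map_mul, map_inv, ← hx, hf', MonoidHom.comp_apply, inv_mul_cancel]
    rw [← MonoidHom.mem_ker, Subgroup.normalizerMonoidHom_ker, Subgroup.mem_subgroupOf] at h1
    exact h1
  have hd : Subgroup.normalizer (V : Set G) =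
      X ⊔ (Subgroup.centralizer ({z} : Set G) ⊓ Subgroup.centralizer (V : Set G)) := by
    apply le_antisymm
    · intro n hn
      obtain ⟨x, hx, c, hc, rfl⟩ := hdecomp n hn
      exact Subgroup.mul_mem_sup hx (hCVle hc)
    · exact sup_le hXN (inf_le_right.trans (Subgroup.centralizer_le_normalizer _))
  have hcX : ∀ c ∈ Subgroup.centralizer (V : Set G), ∀ x ∈ X, c * x * c⁻¹ ∈ X := by
    intro c hc x hx
    have hle : X.map (MulAut.conj c).toMonoidHom ≤ X := by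
      rw [hX, Subgroup.map_sup]
      apply sup_le
      · rintro _ ⟨a, ha, rfl⟩
        simp only [MulEquiv.coe_toMonoidHom, MulAut.conj_apply]
        exact (le_sup_left : Q ≤ Q ⊔ Y) (hQ.norm c (hCVz c hc) a ha)
      · rintro _ ⟨b, hb, rfl⟩
        simp only [MulEquiv.coe_toMonoidHom, MulAut.conj_apply]
        exact (le_sup_right : Y ≤ Q ⊔ Y) (hY.norm c (hCVt c hc) b hb)
    exact hle (conj_mem_map_conj hx)
  have he : ∀ n ∈ Subgroup.normalizer (V : Set G), ∀ x ∈ X, n * x * n⁻¹ ∈ X := by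
    intro n hn x hx
    obtain ⟨x₁, hx₁, c, hc, rfl⟩ := hdecomp n hn
    have h1 := hcX c hc x hx
    have e : x₁ * c * x * (x₁ * c)⁻¹ = x₁ * (c * x * c⁻¹) * x₁⁻¹ := by group
    rw [e]; exact X.mul_mem (X.mul_mem hx₁ h1) (X.inv_mem hx₁)
  have hf : R ≤ Subgroup.centralizer ({z} : Set G) ⊓ Subgroup.centralizer (V : Set G) :=
    hRCV.trans hCVle
  refine ⟨ha, hb, ⟨hnormal, hiso⟩, hd, he, hf, ?_, ?_⟩
  · intro x hx c hc
    have hcV : c ∈ Subgroup.centralizer (V : Set G) := (Subgroup.mem_inf.mp hc).2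
    rw [ha, Subgroup.mem_inf]
    constructor
    · have h1 := hcX c hcV x⁻¹ (X.inv_mem hx)
      have e : x * c * x⁻¹ * c⁻¹ = x * (c * x⁻¹ * c⁻¹) := by group
      rw [e]; exact X.mul_mem hx h1
    · exact Subgroup.mul_mem _ (hconjC x (hXN hx) c hcV) (Subgroup.inv_mem _ hcV)
  · apply le_antisymm
    · intro x hx
      rw [Subgroup.mem_inf, Subgroup.mem_inf] at hx
      rw [ha, Subgroup.mem_inf]
      exact ⟨hx.1, hx.2.2⟩
    · exact le_inf hRX hf

end Cfsg.Agent.Lead.LargeES
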