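import Cfsg.Agent.Lib.Lead.MilnorSteinC
import Cfsg.Agent.Lib.Helper5.UC.Main

/-!
# Milnor–Stein for the Chevalley data of helper5: the table-level facts on pairs of roots (lead)
-/

set_option autoImplicit false

namespace Cfsg.Agent.MilnorStein

open Cfsg.Lie Cfsg.Agent.Lib.Helper5.Chev Cfsg.Agent.Lib.Helper5.St Cfsg.Agent.Lib.Helper5.Tw
  Cfsg.Agent.Lib.Helper5.UC

/-- the table-level facts on a pair of roots used in the Milnor–Stein argument -/
def PairOK (D : ChevalleyDatum) (r s : ℕ) : Prop :=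
  pairD D s r = pairD D r s ∧ pairD D (D.neg r) s = - pairD D r s ∧
  (0 ≤ pairD D r s → ∃ g < D.nroots, pairD D g r = 1 ∧ 0 ≤ pairD D g s ∧
    pairD D g s ≤ pairD D r s) ∧
  (pairD D r s = -1 → ∃ d < D.nroots, pairD D d r = -1 ∧ pairD D d s = 1) ∧
  ((pairD D r s = 2 ∧ s = r) ∨ (pairD D r s = -2 ∧ s = D.neg r) ∨
   ((pairD D r s = 0 ∨ pairD D r s = 1) ∧ D.commTerms r s = []) ∨
   (pairD D r s = -1 ∧ ∃ k < D.nroots, ∃ c : ℤ, (c = 1 ∨ c = -1) ∧
      D.commTerms r s = [(k, c, 1, 1)] ∧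
      ∀ v < D.nroots, pairD D k v = pairD D r v + pairD D s v))

section transfer

variable {K : Type*} [Field K] {D : ChevalleyDatum} {T : FD} {Bs : List ℕ} {gH : ℕ}
  {baseH : List ℕ} {fuel : ℕ}

theorem PairOK.transfer (C : StCtx K D T Bs gH baseH fuel) (hcw : CommW T D Bs) (i : ℕ)
    (hi : i < D.rank) (r s : ℕ) (hr : r < D.nroots) (hs : s < D.nroots)
    (h : PairOK D (wOf (Bs.getD i 0) r) (wOf (Bs.getD i 0) s)) : PairOK D r s := by
  have hcert := (C.hB i hi).cert C.hA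
  have hw : ∀ a < D.nroots, wOf (Bs.getD i 0) a < D.nroots := hcert.w_lt
  have hww : ∀ a < D.nroots, wOf (Bs.getD i 0) (wOf (Bs.getD i 0) a) = a := hcert.w_w
  have hpi : ∀ a < D.nroots, ∀ b < D.nroots,
      pairD D (wOf (Bs.getD i 0) a) (wOf (Bs.getD i 0) b) = pairD D a b :=
    fun a ha b hb => (C.hB i hi).pair_inv C.hA a b ha hb
  have hpi' : ∀ a < D.nroots, ∀ b < D.nroots,
      pairD D (wOf (Bs.getD i 0) a) b = pairD D a (wOf (Bs.getD i 0) b) := by
    intro a ha b hb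
    have := hpi a ha (wOf (Bs.getD i 0) b) (hw b hb)
    rw [hww b hb] at this
    exact this
  have hnr : D.neg r < D.nroots := neg_lt_all D C.hD r hr
  have hprs := hpi r hr s hs
  obtain ⟨h1, h2, h3, h4, h5⟩ := h
  refine ⟨?_, ?_, ?_, ?_, ?_⟩
  · rw [← hpi s hs r hr, ← hprs]; exact h1
  · rw [← hpi (D.neg r) hnr s hs, C.wOf_neg i hi r hr, ← hprs]; exact h2
  · intro h0
    rw [← hprs] at h0
    obtain ⟨g, hg, e1, e2, e3⟩ := h3 h0
    refine ⟨wOf (Bs.getD i 0) g, hw g hg, ?_, ?_, ?_⟩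
    · rw [hpi' g hg r hr]; exact e1
    · rw [hpi' g hg s hs]; exact e2
    · rw [hpi' g hg s hs, ← hprs]; exact e3
  · intro h0
    rw [← hprs] at h0
    obtain ⟨d, hd, e1, e2⟩ := h4 h0
    refine ⟨wOf (Bs.getD i 0) d, hw d hd, ?_, ?_⟩
    · rw [hpi' d hd r hr]; exact e1
    · rw [hpi' d hd s hs]; exact e2
  · have hc1 := hcw i hi (wOf (Bs.getD i 0) r) (hw r hr) (wOf (Bs.getD i 0) s) (hw s hs)
    rw [hww r hr, hww s hs, ← FD.commTerms_eq C.hA r s hr hs,
      ← FD.commTerms_eq C.hA _ _ (hw r hr) (hw s hs)] at hc1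
    rcases h5 with ⟨e, hsr⟩ | ⟨e, hsr⟩ | ⟨e, hct⟩ | ⟨e, k, hk, c, hc, hct, hadd⟩
    · left
      refine ⟨by rw [← hprs]; exact e, ?_⟩
      have := congrArg (wOf (Bs.getD i 0)) hsr
      rwa [hww s hs, hww r hr] at this
    · right; left
      refine ⟨by rw [← hprs]; exact e, ?_⟩
      have := congrArg (wOf (Bs.getD i 0)) hsr
      rwa [hww s hs, ← C.wOf_neg i hi r hr, hww _ hnr] at this
    · right; right; left
      refine ⟨by rw [← hprs]; exact e, ?_⟩
      rw [hc1, hct]; rfl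
    · right; right; right
      refine ⟨by rw [← hprs]; exact e, wOf (Bs.getD i 0) k, hw k hk,
        etaOf (Bs.getD i 0) k * etaOf (Bs.getD i 0) (wOf (Bs.getD i 0) r) *
          etaOf (Bs.getD i 0) (wOf (Bs.getD i 0) s) * c, ?_, ?_, ?_⟩
      · rcases hcert.eta_pm k hk with a1 | a1 <;>
        rcases hcert.eta_pm _ (hw r hr) with a2 | a2 <;>
        rcases hcert.eta_pm _ (hw s hs) with a3 | a3 <;>
        rcases hc with a4 | a4 <;> rw [a1, a2, a3, a4] <;> norm_num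
      · rw [hc1, hct]
        simp [phiW]
      · intro v hv
        rw [hpi' k hk v hv, hadd _ (hw v hv), hpi r hr v hv, hpi s hs v hv]

/-- induction on pairs of roots along the Weyl group -/
theorem pairs_induction (hA : T.Agrees D)
    (hB : ∀ i < D.rank, ReflChecks T D i (Bs.getD i 0)) (P : ℕ → ℕ → Prop)
    (hstep : ∀ i < D.rank, ∀ r < D.nroots, ∀ s < D.nroots,
      P (wOf (Bs.getD i 0) r) (wOf (Bs.getD i 0) s) → P r s)
    (g1 : ℕ) (base1 : List ℕ) (fuel1 : ℕ) (hr1 : reachb T Bs g1 base1 fuel1 = true)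
    (hrow : ∀ r0 ∈ base1, r0 < D.nroots ∧ ∃ (g2 : ℕ) (base2 : List ℕ) (fuel2 : ℕ),
      reachFb T Bs g2 base2 r0 fuel2 = true ∧ ∀ s ∈ base2, P r0 s) :
    ∀ r < D.nroots, ∀ s < D.nroots, P r s := by
  apply reach_all hA (fun r => ∀ s < D.nroots, P r s) Bs g1 base1 fuel1 hr1
  · intro r0 hr0
    obtain ⟨hr0lt, g2, base2, fuel2, hrF, hb2⟩ := hrow r0 hr0
    apply reachF_all hA (fun s => P r0 s) Bs g2 base2 r0 fuel2 hrF hb2
    · intro i hi s hs
      exact ((hB i hi).cert hA).w_lt s hs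
    · intro i hi hfix s hs h
      apply hstep i hi r0 hr0lt s hs
      rw [hfix]
      exact h
  · intro i hi s hs
    exact ((hB i hi).cert hA).w_lt s hs
  · intro i hi r hr h s hs
    exact hstep i hi r hr s hs (h _ (((hB i hi).cert hA).w_lt s hs))

/-- the facts on all pairs from the facts on the base pairs -/
theorem pairOK_all (C : StCtx K D T Bs gH baseH fuel) (hcw : CommW T D Bs)
    (g1 : ℕ) (base1 : List ℕ) (fuel1 : ℕ) (hr1 : reachb T Bs g1 base1 fuel1 = true)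
    (hrow : ∀ r0 ∈ base1, r0 < D.nroots ∧ ∃ (g2 : ℕ) (base2 : List ℕ) (fuel2 : ℕ),
      reachFb T Bs g2 base2 r0 fuel2 = true ∧ ∀ s ∈ base2, PairOK D r0 s) :
    ∀ r < D.nroots, ∀ s < D.nroots, PairOK D r s :=
  pairs_induction C.hA C.hB (PairOK D)
    (fun i hi r hr s hs h => PairOK.transfer C hcw i hi r s hr hs h) g1 base1 fuel1 hr1 hrow

end transfer

end Cfsg.Agent.MilnorStein
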