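import Cfsg.Agent.Lib.Lead.MSInstA

/-!
# Milnor–Stein for the Chevalley data of helper5: the root system and the root elements (lead)
-/

set_option autoImplicit false

namespace Cfsg.Agent.MilnorStein

open Cfsg.Lie Cfsg.Agent.Lib.Helper5.Chev Cfsg.Agent.Lib.Helper5.St Cfsg.Agent.Lib.Helper5.Tw
  Cfsg.Agent.Lib.Helper5.UC
open scoped commutatorElement

/-- the root of the first term of the commutator formula -/
def kOf (D : ChevalleyDatum) (r s : ℕ) : ℕ := ((D.commTerms r s).headD (0, 0, 0, 0)).1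

/-- the coefficient of the first term of the commutator formula -/
def cOf (D : ChevalleyDatum) (r s : ℕ) : ℤ := ((D.commTerms r s).headD (0, 0, 0, 0)).2.1

section roots

variable {D : ChevalleyDatum} (hD : D ∈ [chevG2, chevB2, chevD4, chevF4, chevE6, chevE7, chevE8])
  (hP : Ext.PFacts D) (hall : ∀ r < D.nroots, ∀ s < D.nroots, PairOK D r s)

include hall

theorem pair_vals (r s : ℕ) (hr : r < D.nroots) (hs : s < D.nroots) :
    pairD D r s = 2 ∨ pairD D r s = -2 ∨ pairD D r s = 0 ∨ pairD D r s = 1 ∨ pairD D r s = -1 := by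
  rcases (hall r hr s hs).2.2.2.2 with ⟨e, -⟩ | ⟨e, -⟩ | ⟨e | e, -⟩ | ⟨e, -⟩ <;> omega

theorem pair_eq_two (r s : ℕ) (hr : r < D.nroots) (hs : s < D.nroots) (h : pairD D r s = 2) :
    s = r := by
  rcases (hall r hr s hs).2.2.2.2 with ⟨-, e⟩ | ⟨e, -⟩ | ⟨e | e, -⟩ | ⟨e, -⟩
  · exact e
  all_goals omega

theorem pair_neg1 (r s : ℕ) (hr : r < D.nroots) (hs : s < D.nroots) (h : pairD D r s = -1) :
    kOf D r s < D.nroots ∧ (cOf D r s = 1 ∨ cOf D r s = -1) ∧
      D.commTerms r s = [(kOf D r s, cOf D r s, 1, 1)] ∧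
      ∀ v < D.nroots, pairD D (kOf D r s) v = pairD D r v + pairD D s v := by
  rcases (hall r hr s hs).2.2.2.2 with ⟨e, -⟩ | ⟨e, -⟩ | ⟨e | e, -⟩ | ⟨-, k, hk, c, hc, hct, hadd⟩
  · omega
  · omega
  · omega
  · omega
  · have e1 : kOf D r s = k := by unfold kOf; rw [hct]; rfl
    have e2 : cOf D r s = c := by unfold cOf; rw [hct]; rfl
    rw [e1, e2]
    exact ⟨hk, hc, hct, hadd⟩

include hP in
theorem pair_nonneg (r s : ℕ) (hr : r < D.nroots) (hs : s < D.nroots) (h : 0 ≤ pairD D r s) :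
    s = r ∨ (s ≠ r ∧ s ≠ D.neg r ∧ D.commTerms r s = []) := by
  rcases (hall r hr s hs).2.2.2.2 with ⟨-, e⟩ | ⟨e, -⟩ | ⟨e, hct⟩ | ⟨e, -⟩
  · exact Or.inl e
  · omega
  · right
    refine ⟨?_, ?_, hct⟩
    · rintro rfl
      have := hP.self s hs
      omega
    · rintro rfl
      have h2 := (hall r hr r hr).2.1
      have h3 := (hall r hr (D.neg r) hs).1
      have := hP.self r hr
      omega
  · omega

include hD hP in
/-- the abstract root system of the datum -/
noncomputable def slRoots : SLRoots {r : ℕ // r < D.nroots} where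
  p a b := pairD D a.1 b.1
  neg a := ⟨D.neg a.1, neg_lt_all D hD a.1 a.2⟩
  add a b := if h : kOf D b.1 a.1 < D.nroots then ⟨kOf D b.1 a.1, h⟩ else a
  p_self a := hP.self a.1 a.2
  p_symm a b := (hall b.1 b.2 a.1 a.2).1
  p_le a b := by
    rcases pair_vals hall a.1 b.1 a.2 b.2 with e | e | e | e | e <;> omega
  eq_of_p a b h := Subtype.ext (pair_eq_two hall a.1 b.1 a.2 b.2 h).symm
  p_neg a b := (hall a.1 a.2 b.1 b.2).2.1
  p_add a b h γ := by
    have hba : pairD D b.1 a.1 = -1 := by rw [(hall a.1 a.2 b.1 b.2).1]; exact h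
    obtain ⟨hk, -, -, hadd⟩ := pair_neg1 hall b.1 a.1 b.2 a.2 hba
    simp only [dif_pos hk]
    rw [hadd γ.1 γ.2, add_comm]
  room1 a b h := by
    obtain ⟨g, hg, e⟩ := (hall a.1 a.2 b.1 b.2).2.2.1 h
    exact ⟨⟨g, hg⟩, e⟩
  room2 a b h := by
    obtain ⟨d, hd, e⟩ := (hall a.1 a.2 b.1 b.2).2.2.2.1 h
    exact ⟨⟨d, hd⟩, e⟩

end roots


section elements

variable {K : Type*} [Field K] {D : ChevalleyDatum}
  (hD : D ∈ [chevG2, chevB2, chevD4, chevF4, chevE6, chevE7, chevE8])
  (hP : Ext.PFacts D) (hall : ∀ r < D.nroots, ∀ s < D.nroots, PairOK D r s)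

theorem commWord_nil {r s : ℕ} (h : D.commTerms r s = []) (t u : K) :
    D.commWord K r s t u = [] := by
  unfold ChevalleyDatum.commWord
  rw [h]; rfl

theorem commWord_single {r s k : ℕ} {c : ℤ} (h : D.commTerms r s = [(k, c, 1, 1)]) (t u : K) :
    D.commWord K r s t u = [(k, -((c : K) * t * u))] := by
  unfold ChevalleyDatum.commWord
  rw [h]
  simp only [List.map_cons, List.map_nil, pow_one]
  congr 2
  ring

/-- families of elements indexed by roots satisfying the relations of the abstract theorem give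
the relations (R1), (R2) -/
theorem rel_of_family {E : Type*} [Group E] (y : {r : ℕ // r < D.nroots} → K → E)
    (h1 : ∀ α t u, y α (t + u) = y α t * y α u)
    (h2 : ∀ α β t u, 0 ≤ pairD D α.1 β.1 → Commute (y α t) (y β u))
    (h3 : ∀ α β t u, pairD D α.1 β.1 = -1 →
      ⁅y α t, y β u⁆ = y (slRoots hD hP hall |>.add α β) (-((cOf D β.1 α.1 : ℤ) : K) * t * u)) :
    (∀ r < D.nroots, Rel1 (fun r t => if h : r < D.nroots then y ⟨r, h⟩ t else 1) r) ∧
    ∀ r < D.nroots, ∀ s < D.nroots, s ≠ r → s ≠ D.neg r →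
      Rel2 (fun r t => if h : r < D.nroots then y ⟨r, h⟩ t else 1) D r s := by
  have y0 : ∀ α, y α 0 = 1 := by
    intro α
    have := h1 α 0 0
    rw [add_zero] at this
    exact mul_eq_left.1 this.symm
  have yneg : ∀ α t, y α (-t) = (y α t)⁻¹ := by
    intro α t
    have := h1 α (-t) t
    rw [neg_add_cancel, y0] at this
    exact eq_inv_of_mul_eq_one_left this.symm
  refine ⟨fun r hr t u => ?_, fun r hr s hs hne hneg t u => ?_⟩
  · simp only [dif_pos hr]
    exact (h1 _ t u).symm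
  · simp only [dif_pos hr, dif_pos hs]
    rcases pair_vals hall r s hr hs with e | e | e | e | e
    · exact absurd (pair_eq_two hall r s hr hs e) hne
    · rcases (hall r hr s hs).2.2.2.2 with ⟨e', -⟩ | ⟨-, e'⟩ | ⟨e' | e', -⟩ | ⟨e', -⟩
      · omega
      · exact absurd e' hneg
      · omega
      · omega
      · omega
    · rcases pair_nonneg hP hall r s hr hs (by omega) with e' | ⟨-, -, hct⟩
      · exact absurd e' hne
      · rw [commWord_nil hct, wordG_nil, mul_one]
        exact (h2 ⟨s, hs⟩ ⟨r, hr⟩ u t (by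
          show 0 ≤ pairD D s r
          rw [(hall r hr s hs).1]; omega)).eq
    · rcases pair_nonneg hP hall r s hr hs (by omega) with e' | ⟨-, -, hct⟩
      · exact absurd e' hne
      · rw [commWord_nil hct, wordG_nil, mul_one]
        exact (h2 ⟨s, hs⟩ ⟨r, hr⟩ u t (by
          show 0 ≤ pairD D s r
          rw [(hall r hr s hs).1]; omega)).eq
    · obtain ⟨hk, -, hct, -⟩ := pair_neg1 hall r s hr hs e
      have hsr : pairD D s r = -1 := by rw [(hall r hr s hs).1]; exact e
      have key := h3 ⟨s, hs⟩ ⟨r, hr⟩ (-u) (-t) hsr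
      have hadd : (slRoots hD hP hall).add ⟨s, hs⟩ ⟨r, hr⟩ = ⟨kOf D r s, hk⟩ := by
        show (if h : kOf D r s < D.nroots then (⟨kOf D r s, h⟩ : {r : ℕ // r < D.nroots})
          else ⟨s, hs⟩) = _
        rw [dif_pos hk]
      rw [hadd, yneg, yneg, commutatorElement_def, inv_inv, inv_inv] at key
      rw [commWord_single hct, wordG_cons, wordG_nil, mul_one]
      simp only [dif_pos hk]
      have e2 : -((cOf D r s : ℤ) : K) * -u * -t = -(((cOf D r s : ℤ) : K) * t * u) := by ring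
      rw [e2] at key
      rw [← key]
      group

end elements

end Cfsg.Agent.MilnorStein
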