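import Cfsg.Agent.Lib.Lead.MSInstB

/-!
# Milnor–Stein for the Chevalley data of helper5: the group presented by (R1), (R2) is centrally
closed over every field, for the simply laced types with room (lead)
-/

set_option autoImplicit false

namespace Cfsg.Agent.MilnorStein

open Cfsg.Lie Cfsg.Agent.Lib.Helper5.Chev Cfsg.Agent.Lib.Helper5.St Cfsg.Agent.Lib.Helper5.Tw
  Cfsg.Agent.Lib.Helper5.UC
open scoped commutatorElement

section

variable {K : Type*} [Field K] {D : ChevalleyDatum}
  (hD : D ∈ [chevG2, chevB2, chevD4, chevF4, chevE6, chevE7, chevE8])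
  (hP : Ext.PFacts D) (hall : ∀ r < D.nroots, ∀ s < D.nroots, PairOK D r s)
  {Γ : Type*} [Group Γ] (R : RData K D Γ)

/-- the root elements of a group with (R1), (R2) as data for the abstract theorem -/
noncomputable def stData : StData (slRoots hD hP hall) K Γ where
  x a t := R.X a.1 t
  N a b := -((cOf D b.1 a.1 : ℤ) : K)
  x_add a t u := (R.add a.1 a.2 t u).symm
  x_comm a b t u h := by
    rcases pair_nonneg hP hall a.1 b.1 a.2 b.2 h with e | ⟨hne, hneg, hct⟩
    · have : b = a := Subtype.ext e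
      rw [this]
      exact R.X_comm_self a.1 a.2 t u
    · have := R.comm a.1 a.2 b.1 b.2 hne hneg t u
      rw [commWord_nil hct, wordG_nil, mul_one] at this
      exact this.symm
  x_sum a b t u h := by
    have hba : pairD D b.1 a.1 = -1 := by rw [(hall a.1 a.2 b.1 b.2).1]; exact h
    obtain ⟨hk, -, hct, -⟩ := pair_neg1 hall b.1 a.1 b.2 a.2 hba
    have hne : a.1 ≠ b.1 := by
      intro e
      have := hP.self b.1 b.2
      rw [e] at hba
      omega
    have hneg : a.1 ≠ D.neg b.1 := by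
      intro e
      have h2 := (hall b.1 b.2 b.1 b.2).2.1
      have h3 := hP.self b.1 b.2
      have h4 : pairD D a.1 b.1 = -1 := h
      rw [e] at h4
      omega
    have key := R.comm b.1 b.2 a.1 a.2 hne hneg (-u) (-t)
    rw [commWord_single hct, wordG_cons, wordG_nil, mul_one, ← R.X_inv a.1 a.2, ← R.X_inv b.1 b.2] at key
    have hadd : (slRoots hD hP hall).add a b = ⟨kOf D b.1 a.1, hk⟩ := by
      show (if h : kOf D b.1 a.1 < D.nroots then (⟨kOf D b.1 a.1, h⟩ : {r : ℕ // r < D.nroots})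
        else a) = _
      rw [dif_pos hk]
    rw [hadd]
    show ⁅R.X a.1 t, R.X b.1 u⁆ = R.X (kOf D b.1 a.1) (-((cOf D b.1 a.1 : ℤ) : K) * t * u)
    have e2 : -(((cOf D b.1 a.1 : ℤ) : K) * -u * -t) = -((cOf D b.1 a.1 : ℤ) : K) * t * u := by ring
    rw [e2] at key
    simp only at key
    rw [commutatorElement_def]
    symm
    calc R.X (kOf D b.1 a.1) (-((cOf D b.1 a.1 : ℤ) : K) * t * u)
        = ((R.X b.1 u)⁻¹ * (R.X a.1 t)⁻¹)⁻¹ * ((R.X b.1 u)⁻¹ * (R.X a.1 t)⁻¹ *
            R.X (kOf D b.1 a.1) (-((cOf D b.1 a.1 : ℤ) : K) * t * u)) := by group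
      _ = ((R.X b.1 u)⁻¹ * (R.X a.1 t)⁻¹)⁻¹ * ((R.X a.1 t)⁻¹ * (R.X b.1 u)⁻¹) := by rw [← key]
      _ = R.X a.1 t * R.X b.1 u * (R.X a.1 t)⁻¹ * (R.X b.1 u)⁻¹ := by group
  N_sq a b h := by
    have hba : pairD D b.1 a.1 = -1 := by rw [(hall a.1 a.2 b.1 b.2).1]; exact h
    obtain ⟨-, hc, -, -⟩ := pair_neg1 hall b.1 a.1 b.2 a.2 hba
    rcases hc with e | e <;> rw [e] <;> norm_num
  x_inj a t u h := by
    have := congrArg R.θ h
    rw [R.hθ a.1 a.2, R.hθ a.1 a.2] at this
    exact xU_injective R.hadd _ (xInj_all D R.hD a.1 a.2) _ _ this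

end

section cover

variable {K : Type*} [Field K] {D : ChevalleyDatum} {T : FD} {Bs : List ℕ} {gH : ℕ}
  {baseH : List ℕ} {fuel : ℕ}

/-- **Steinberg's cover is centrally closed over every field** for the simply laced types with
room (`E₆`, `E₇`, `E₈`): every central extension of it splits -/
theorem cover_splits (U : UCtx K D T Bs gH baseH fuel)
    (hall : ∀ r < D.nroots, ∀ s < D.nroots, PairOK D r s)
    {E : Type*} [Group E] (ψ : E →* D.SteinbergCover K) (hs : Function.Surjective ψ)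
    (hc : ∀ z : E, ψ z = 1 → ∀ y : E, z * y = y * z) :
    ∃ φ : D.SteinbergCover K →* E, ψ.comp φ = MonoidHom.id (D.SteinbergCover K) := by
  have hD := U.C.hD
  have hP := pfacts_of_check U.C U.pf
  let S := stData hD hP hall (coverRData (K := K) hD)
  apply splits S hs hc
  · have hg := (coverRData (K := K) hD).gen
    rw [eq_top_iff, ← hg, Subgroup.closure_le]
    rintro g ⟨r, hr, t, rfl⟩
    exact Subgroup.subset_closure ⟨⟨r, hr⟩, t, rfl⟩
  · intro y h1 h2 h3
    obtain ⟨r1, r2⟩ := rel_of_family hD hP hall y h1 h2 h3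
    obtain ⟨τ, hτ⟩ := exists_hom_of_rel _ U.C.hA r1 r2
    refine ⟨τ, fun α t => ?_⟩
    have := hτ α.1 α.2 t
    simp only [dif_pos α.2] at this
    exact this

end cover

end Cfsg.Agent.MilnorStein
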