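import Cfsg.Agent.Lib.Lead.MSInstC
import Cfsg.Agent.Lib.Helper5.UC.DtE7

/-!
# Milnor–Stein for `E₇`: the base pairs (lead)
-/

set_option autoImplicit false
set_option maxRecDepth 100000

namespace Cfsg.Agent.MilnorStein

open Cfsg.Lie Cfsg.Agent.Lib.Helper5.Chev Cfsg.Agent.Lib.Helper5.St Cfsg.Agent.Lib.Helper5.Tw
  Cfsg.Agent.Lib.Helper5.UC

theorem e7_add : ∀ v < chevE7.nroots,
    pairD chevE7 93 v = pairD chevE7 125 v + pairD chevE7 1 v := by decide +kernel

theorem base_E7 : ∀ s ∈ CmE7.base2_125, PairOK chevE7 125 s := by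
  intro s hs
  simp only [CmE7.base2_125, List.mem_cons, List.not_mem_nil, or_false] at hs
  rcases hs with rfl | rfl | rfl | rfl | rfl
  · exact ⟨rfl, by decide +kernel,
      fun _ => ⟨93, by decide, by decide +kernel, by decide +kernel, by decide +kernel⟩,
      fun h => absurd h (by decide +kernel), Or.inl ⟨by decide +kernel, rfl⟩⟩
  · exact ⟨by decide +kernel, by decide +kernel,
      fun h => absurd h (by decide +kernel),
      fun h => absurd h (by decide +kernel), Or.inr (Or.inl ⟨by decide +kernel, by decide +kernel⟩)⟩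
  · exact ⟨by decide +kernel, by decide +kernel,
      fun h => absurd h (by decide +kernel),
      fun _ => ⟨2, by decide, by decide +kernel, by decide +kernel⟩,
      Or.inr (Or.inr (Or.inr ⟨by decide +kernel, 93, by decide, 1, Or.inl rfl,
        by decide +kernel, e7_add⟩))⟩
  · exact ⟨by decide +kernel, by decide +kernel,
      fun _ => ⟨97, by decide, by decide +kernel, by decide +kernel, by decide +kernel⟩,
      fun h => absurd h (by decide +kernel),
      Or.inr (Or.inr (Or.inl ⟨Or.inl (by decide +kernel), by decide +kernel⟩))⟩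
  · exact ⟨by decide +kernel, by decide +kernel,
      fun _ => ⟨94, by decide, by decide +kernel, by decide +kernel, by decide +kernel⟩,
      fun h => absurd h (by decide +kernel),
      Or.inr (Or.inr (Or.inl ⟨Or.inr (by decide +kernel), by decide +kernel⟩))⟩

theorem pairOK_E7 : ∀ r < chevE7.nroots, ∀ s < chevE7.nroots, PairOK chevE7 r s := by
  have U := DtE7.uctx ℚ
  apply pairOK_all U.C U.cw CmE7.g1 CmE7.base1 33 CmE7.rb1
  intro r0 hr0
  simp only [CmE7.base1, List.mem_cons, List.not_mem_nil, or_false] at hr0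
  subst hr0
  exact ⟨by decide, CmE7.g2_125, CmE7.base2_125, 17, CmE7.rb2_125, base_E7⟩

/-- Steinberg's cover of type `E₇` is centrally closed over every field -/
theorem cover_splits_E7 {K : Type*} [Field K] {E : Type*} [Group E]
    (ψ : E →* chevE7.SteinbergCover K) (hs : Function.Surjective ψ)
    (hc : ∀ z : E, ψ z = 1 → ∀ y : E, z * y = y * z) :
    ∃ φ : chevE7.SteinbergCover K →* E, ψ.comp φ = MonoidHom.id (chevE7.SteinbergCover K) :=
  cover_splits (DtE7.uctx K) pairOK_E7 ψ hs hc

end Cfsg.Agent.MilnorStein
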