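import Cfsg.Agent.Lib.Lead.MSInstC
import Cfsg.Agent.Lib.Helper5.UC.DtE8

/-!
# Milnor–Stein for `E₈`: the base pairs (lead)
-/

set_option autoImplicit false
set_option maxRecDepth 100000

namespace Cfsg.Agent.MilnorStein

open Cfsg.Lie Cfsg.Agent.Lib.Helper5.Chev Cfsg.Agent.Lib.Helper5.St Cfsg.Agent.Lib.Helper5.Tw
  Cfsg.Agent.Lib.Helper5.UC

theorem e8_add : ∀ v < chevE8.nroots,
    pairD chevE8 120 v = pairD chevE8 239 v + pairD chevE8 1 v := by decide +kernel

theorem base_E8 : ∀ s ∈ CmE8.base2_239, PairOK chevE8 239 s := by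
  intro s hs
  simp only [CmE8.base2_239, List.mem_cons, List.not_mem_nil, or_false] at hs
  rcases hs with rfl | rfl | rfl | rfl | rfl
  · exact ⟨rfl, by decide +kernel,
      fun _ => ⟨120, by decide, by decide +kernel, by decide +kernel, by decide +kernel⟩,
      fun h => absurd h (by decide +kernel), Or.inl ⟨by decide +kernel, rfl⟩⟩
  · exact ⟨by decide +kernel, by decide +kernel,
      fun h => absurd h (by decide +kernel),
      fun h => absurd h (by decide +kernel), Or.inr (Or.inl ⟨by decide +kernel, by decide +kernel⟩)⟩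
  · exact ⟨by decide +kernel, by decide +kernel,
      fun h => absurd h (by decide +kernel),
      fun _ => ⟨2, by decide, by decide +kernel, by decide +kernel⟩,
      Or.inr (Or.inr (Or.inr ⟨by decide +kernel, 120, by decide, 1, Or.inl rfl,
        by decide +kernel, e8_add⟩))⟩
  · exact ⟨by decide +kernel, by decide +kernel,
      fun _ => ⟨168, by decide, by decide +kernel, by decide +kernel, by decide +kernel⟩,
      fun h => absurd h (by decide +kernel),
      Or.inr (Or.inr (Or.inl ⟨Or.inl (by decide +kernel), by decide +kernel⟩))⟩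
  · exact ⟨by decide +kernel, by decide +kernel,
      fun _ => ⟨122, by decide, by decide +kernel, by decide +kernel, by decide +kernel⟩,
      fun h => absurd h (by decide +kernel),
      Or.inr (Or.inr (Or.inl ⟨Or.inr (by decide +kernel), by decide +kernel⟩))⟩

theorem pairOK_E8 : ∀ r < chevE8.nroots, ∀ s < chevE8.nroots, PairOK chevE8 r s := by
  have U := DtE8.uctx ℚ
  apply pairOK_all U.C U.cw CmE8.g1 CmE8.base1 57 CmE8.rb1
  intro r0 hr0
  simp only [CmE8.base1, List.mem_cons, List.not_mem_nil, or_false] at hr0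
  subst hr0
  exact ⟨by decide, CmE8.g2_239, CmE8.base2_239, 33, CmE8.rb2_239, base_E8⟩

/-- Steinberg's cover of type `E₈` is centrally closed over every field -/
theorem cover_splits_E8 {K : Type*} [Field K] {E : Type*} [Group E]
    (ψ : E →* chevE8.SteinbergCover K) (hs : Function.Surjective ψ)
    (hc : ∀ z : E, ψ z = 1 → ∀ y : E, z * y = y * z) :
    ∃ φ : chevE8.SteinbergCover K →* E, ψ.comp φ = MonoidHom.id (chevE8.SteinbergCover K) :=
  cover_splits (DtE8.uctx K) pairOK_E8 ψ hs hc

end Cfsg.Agent.MilnorStein
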