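import Cfsg.Agent.Lib.Lead.MSInstE6
import Cfsg.Agent.Lib.Lead.MSInstE7

/-!
# The simply laced Steinberg groups with room are perfect, over every commutative ring (lead)
-/

set_option autoImplicit false

namespace Cfsg.Agent.MilnorStein

open Cfsg.Lie Cfsg.Agent.Lib.Helper5.Chev Cfsg.Agent.Lib.Helper5.St Cfsg.Agent.Lib.Helper5.Tw
  Cfsg.Agent.Lib.Helper5.UC
open scoped commutatorElement

section abstract_

variable {Φ : Type*} {R : SLRoots Φ} {K : Type*} [CommRing K] {Δ : Type*} [Group Δ]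
  (S : StData R K Δ)

/-- every root element is a commutator -/
theorem StData.x_eq_comm (α : Φ) (t : K) : ∃ a b : Δ, S.x α t = ⁅a, b⁆ := by
  obtain ⟨γ, hγ, -, -⟩ := R.room1 α α (by rw [R.p_self]; norm_num)
  have h1 : R.p γ (R.sub α γ) = -1 := R.p_sub_self hγ
  have h2 : R.add γ (R.sub α γ) = α := R.add_sub hγ
  refine ⟨S.x γ (S.N γ (R.sub α γ) * t), S.x (R.sub α γ) 1, ?_⟩
  rw [S.x_sum γ (R.sub α γ) _ _ h1, h2]
  congr 1
  have := S.N_sq γ (R.sub α γ) h1
  calc t = (S.N γ (R.sub α γ) * S.N γ (R.sub α γ)) * t := by rw [this, one_mul]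
    _ = S.N γ (R.sub α γ) * (S.N γ (R.sub α γ) * t) * 1 := by ring

theorem StData.perfect (hgen : Subgroup.closure {g : Δ | ∃ α t, g = S.x α t} = ⊤) :
    commutator Δ = ⊤ := by
  rw [eq_top_iff, ← hgen, Subgroup.closure_le]
  rintro g ⟨α, t, rfl⟩
  obtain ⟨a, b, e⟩ := S.x_eq_comm α t
  rw [e]
  exact Subgroup.commutator_mem_commutator (Subgroup.mem_top _) (Subgroup.mem_top _)

end abstract_

section cover

variable {K : Type*} [Field K] {D : ChevalleyDatum} {T : FD} {Bs : List ℕ} {gH : ℕ}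
  {baseH : List ℕ} {fuel : ℕ}

theorem cover_perfect (U : UCtx K D T Bs gH baseH fuel)
    (hall : ∀ r < D.nroots, ∀ s < D.nroots, PairOK D r s) :
    commutator (D.SteinbergCover K) = ⊤ := by
  have hD := U.C.hD
  have hP := pfacts_of_check U.C U.pf
  let S := stData hD hP hall (coverRData (K := K) hD)
  apply S.perfect
  have hg := (coverRData (K := K) hD).gen
  rw [eq_top_iff, ← hg, Subgroup.closure_le]
  rintro g ⟨r, hr, t, rfl⟩
  exact Subgroup.subset_closure ⟨⟨r, hr⟩, t, rfl⟩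

theorem cover_perfect_E6 {K : Type*} [Field K] : commutator (chevE6.SteinbergCover K) = ⊤ :=
  cover_perfect (DtE6.uctx K) pairOK_E6

theorem cover_perfect_E7 {K : Type*} [Field K] : commutator (chevE7.SteinbergCover K) = ⊤ :=
  cover_perfect (DtE7.uctx K) pairOK_E7

end cover

end Cfsg.Agent.MilnorStein
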