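import Mathlib
import Cfsg.Agent.Lib.Lead.JordanNormal
import Cfsg.Agent.Lib.Helper4.Sylow
import Cfsg.Agent.Lib.Helper4.SylowPrime

set_option autoImplicit false
set_option linter.unusedVariables false
set_option linter.style.haveILetI false

/-! Sharply 4-transitive groups of degree 11 and sharply 5-transitive groups of degree 12
are simple. -/

namespace Cfsg.Agent.Lead.MathieuSharp

open MulAction Equiv

variable {α : Type*} [Fintype α] [DecidableEq α]

omit [DecidableEq α] in
lemma card_of_sharp (G : Subgroup (Perm α)) (k : ℕ) [IsMultiplyPretransitive G α k]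
    (hsharp : ∀ x : Fin k ↪ α, stabilizer G x = ⊥) (hk : k ≤ Fintype.card α) :
    Nat.card G = (Fintype.card α).descFactorial k := by
  obtain ⟨x₀⟩ : Nonempty (Fin k ↪ α) :=
    Function.Embedding.nonempty_of_card_le (by rw [Fintype.card_fin]; exact hk)
  have h1 := MulAction.index_stabilizer G x₀
  rw [hsharp x₀, Subgroup.index_bot] at h1
  have horb : MulAction.orbit G x₀ = Set.univ := by
    apply Set.eq_univ_of_forall
    intro y
    obtain ⟨g, hg⟩ := exists_smul_eq G x₀ y
    exact ⟨g, hg⟩
  have h1' : Nat.card G = Set.ncard (MulAction.orbit G x₀) := h1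
  rw [h1', horb, Set.ncard_univ, Nat.card_eq_fintype_card,
    Fintype.card_embedding_eq, Fintype.card_fin]

omit [DecidableEq α] in
lemma dvd_card_of_trans {H : Type*} [Group H] [MulAction H α] (j : ℕ)
    (hN : IsMultiplyPretransitive H α j) (hj : j ≤ Fintype.card α) :
    (Fintype.card α).descFactorial j ∣ Nat.card H := by
  obtain ⟨x₀⟩ : Nonempty (Fin j ↪ α) :=
    Function.Embedding.nonempty_of_card_le (by rw [Fintype.card_fin]; exact hj)
  have h1 := MulAction.index_stabilizer H x₀
  haveI := hN
  rw [MulAction.orbit_eq_univ, Set.ncard_univ, Nat.card_eq_fintype_card,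
    Fintype.card_embedding_eq, Fintype.card_fin] at h1
  rw [← h1]
  exact Subgroup.index_dvd_card _

lemma cycleType_of_order_eleven (hα : Fintype.card α ≤ 21) (x : Perm α) (hx : orderOf x = 11) :
    x.cycleType = {11} := by
  obtain ⟨k, hk⟩ := Equiv.Perm.cycleType_prime_order (σ := x) (by rw [hx]; norm_num)
  rw [hx] at hk
  have hsum := x.sum_cycleType
  have hle : x.support.card ≤ Fintype.card α := Finset.card_le_univ _
  rw [hk, Multiset.sum_replicate, smul_eq_mul] at hsum
  have : k = 0 := by omega
  rw [hk, this]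
  rfl

lemma card_centralizer_eleven (hα1 : 11 ≤ Fintype.card α) (hα : Fintype.card α ≤ 12)
    (x : Perm α) (hx : orderOf x = 11) :
    Nat.card (Subgroup.centralizer {x}) = 11 := by
  rw [Equiv.Perm.nat_card_centralizer, cycleType_of_order_eleven (by omega) x hx]
  have h : Fintype.card α - 11 = 0 ∨ Fintype.card α - 11 = 1 := by omega
  rcases h with h | h <;> simp [h]

lemma card_centralizer_in (G : Subgroup (Perm α)) (hα1 : 11 ≤ Fintype.card α)
    (hα : Fintype.card α ≤ 12) (y : G) (hy : orderOf y = 11) :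
    Nat.card (Subgroup.centralizer ((Subgroup.zpowers y : Subgroup G) : Set G)) = 11 := by
  have hx : orderOf (y : Perm α) = 11 := by rw [Subgroup.orderOf_coe]; exact hy
  let f : Subgroup.centralizer ((Subgroup.zpowers y : Subgroup G) : Set G) →*
      Subgroup.centralizer {(y : Perm α)} :=
    { toFun := fun g => ⟨((g : G) : Perm α), by
        rw [Subgroup.mem_centralizer_singleton_iff]
        have h1 := Subgroup.mem_centralizer_iff.1 g.2 y (Subgroup.mem_zpowers y)
        have h2 := congrArg (Subtype.val : G → Perm α) h1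
        simp only [Subgroup.coe_mul] at h2
        exact h2.symm⟩
      map_one' := rfl
      map_mul' := fun _ _ => rfl }
  have hf : Function.Injective f := by
    intro a b hab
    apply Subtype.ext
    apply Subtype.ext
    exact congrArg (fun z : Subgroup.centralizer {(y : Perm α)} => (z : Perm α)) hab
  have h1 : Nat.card (Subgroup.centralizer ((Subgroup.zpowers y : Subgroup G) : Set G)) ∣ 11 := by
    have := Subgroup.card_dvd_of_injective f hf
    rwa [card_centralizer_eleven hα1 hα _ hx] at this
  have h2 : 11 ∣ Nat.card (Subgroup.centralizer ((Subgroup.zpowers y : Subgroup G) : Set G)) := by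
    have hle : Subgroup.zpowers y ≤
        Subgroup.centralizer ((Subgroup.zpowers y : Subgroup G) : Set G) := by
      rw [Subgroup.zpowers_le, Subgroup.mem_centralizer_iff]
      intro h hh
      obtain ⟨i, rfl⟩ := Subgroup.mem_zpowers_iff.1 hh
      exact ((Commute.refl y).zpow_left i).eq
    have := Subgroup.card_dvd_of_le hle
    rwa [Nat.card_zpowers, hy] at this
  exact Nat.dvd_antisymm h1 h2

lemma card_normalizer_dvd (G : Subgroup (Perm α)) (hα1 : 11 ≤ Fintype.card α)
    (hα : Fintype.card α ≤ 12) (y : G) (hy : orderOf y = 11) :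
    Nat.card (Subgroup.normalizer ((Subgroup.zpowers y : Subgroup G) : Set G)) ∣ 110 := by
  have key := Subgroup.card_dvd_of_injective _
    (QuotientGroup.kerLift_injective (Subgroup.zpowers y).normalizerMonoidHom)
  rw [Subgroup.normalizerMonoidHom_ker, ← Subgroup.index, ← Subgroup.relIndex] at key
  rw [IsCyclic.card_mulAut, Nat.card_zpowers, hy] at key
  have h10 : Nat.totient 11 = 10 := Nat.totient_prime (by norm_num)
  rw [h10] at key
  have hCN := Subgroup.centralizer_le_normalizer ((Subgroup.zpowers y : Subgroup G) : Set G)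
  have h1 := ((Subgroup.centralizer ((Subgroup.zpowers y : Subgroup G) : Set G)).subgroupOf
    (Subgroup.normalizer ((Subgroup.zpowers y : Subgroup G) : Set G))).card_mul_index
  rw [Nat.card_congr (Subgroup.subgroupOfEquivOfLe hCN).toEquiv,
    card_centralizer_in G hα1 hα y hy] at h1
  rw [← h1]
  exact Nat.mul_dvd_mul_left 11 key

theorem simple_of_numerics (G : Subgroup (Perm α)) (hα1 : 11 ≤ Fintype.card α)
    (hα : Fintype.card α ≤ 12) (m : ℕ) (hG : Nat.card G = 11 * m) (hm : ¬ 11 ∣ m)
    (hnum : ∀ c s : ℕ, c ∣ 110 → 11 ∣ c → s * c = 11 * m → s % 11 = 1 → c = 55)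
    (hidx : ∀ N : Subgroup G, N.Normal → N ≠ ⊥ → N.index ∣ 8) :
    IsSimpleGroup G := by
  haveI : Fact (Nat.Prime 11) := ⟨by norm_num⟩
  have hm0 : m ≠ 0 := by rintro rfl; exact hm (dvd_zero 11)
  haveI hnt : Nontrivial G := by
    rw [← Finite.one_lt_card_iff_nontrivial, hG]
    have : 1 ≤ m := Nat.one_le_iff_ne_zero.2 hm0
    omega
  refine { toNontrivial := hnt, eq_bot_or_eq_top_of_normal := fun N hN => ?_ }
  by_cases hNb : N = ⊥
  · exact Or.inl hNb
  right
  haveI := hN
  have h8 := hidx N hN hNb
  have hNc := N.card_mul_index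
  rw [hG] at hNc
  have h11N : 11 ∣ Nat.card N := by
    have : 11 ∣ Nat.card N * N.index := ⟨m, hNc⟩
    rcases (Nat.Prime.dvd_mul (by norm_num)).1 this with h | h
    · exact h
    · exfalso
      have := Nat.dvd_trans h h8
      omega
  obtain ⟨m', hm'⟩ := h11N
  have hm'11 : ¬ 11 ∣ m' := by
    rintro ⟨t, rfl⟩
    apply hm
    have h1 : 11 * (11 * t * N.index) = 11 * m := by rw [← hNc, hm']; ring
    have h2 := Nat.eq_of_mul_eq_mul_left (by norm_num) h1
    exact ⟨t * N.index, by rw [← h2]; ring⟩
  obtain ⟨Q⟩ : Nonempty (Sylow 11 N) := inferInstance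
  have hQ : Nat.card Q = 11 := by
    have := Cfsg.Agent.Lib.Helper4.Sylow.card_sylow_of_card_eq (p := 11) (a := 1) (m := m')
      (by rw [hm', pow_one]) hm'11 Q
    rwa [pow_one] at this
  have hP' : Nat.card ((Q : Subgroup N).map N.subtype) = 11 := by
    rw [Subgroup.card_map_of_injective N.subtype_injective]; exact hQ
  have hfac : (Nat.card G).factorization 11 = 1 := by
    rw [hG, Nat.factorization_mul (by norm_num) hm0]
    simp [Nat.Prime.factorization_self (show Nat.Prime 11 by norm_num),
      Nat.factorization_eq_zero_of_not_dvd hm]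
  let P : Sylow 11 G := Sylow.ofCard ((Q : Subgroup N).map N.subtype)
    (by rw [hP', hfac, pow_one])
  have hPcoe : (P : Subgroup G) = (Q : Subgroup N).map N.subtype := Sylow.coe_ofCard _ _
  have hPcard : Nat.card (P : Subgroup G) = 11 := by rw [hPcoe]; exact hP'
  obtain ⟨z, hzP, hz1⟩ : ∃ z ∈ (P : Subgroup G), z ≠ 1 := by
    haveI : Nontrivial (P : Subgroup G) := by
      rw [← Finite.one_lt_card_iff_nontrivial, hPcard]; omega
    exact Subgroup.exists_ne_one_of_nontrivial _
  have hPz : (P : Subgroup G) = Subgroup.zpowers z :=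
    Cfsg.Agent.Lib.Helper4.SylowPrime.sylow_eq_zpowers P hPcard z hz1 hzP
  have hzord : orderOf z = 11 := by rw [← Nat.card_zpowers, ← hPz, hPcard]
  have hNdvd := card_normalizer_dvd G hα1 hα z hzord
  rw [← hPz] at hNdvd
  have hcount := Cfsg.Agent.Lib.Helper4.Sylow.card_sylow_mul_card_normalizer P
  have hmod := card_sylow_modEq_one 11 G
  have h11dvd : 11 ∣ Nat.card (Subgroup.normalizer ((P : Subgroup G) : Set G)) := by
    have := Subgroup.card_dvd_of_le (Subgroup.le_normalizer (H := (P : Subgroup G)))
    rwa [hPcard] at this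
  have h55 : Nat.card (Subgroup.normalizer ((P : Subgroup G) : Set G)) = 55 :=
    hnum _ (Nat.card (Sylow 11 G)) hNdvd h11dvd (by rw [hcount, hG]) hmod
  -- Frattini
  have hfr := Sylow.normalizer_sup_eq_top Q
  rw [← hPcoe] at hfr
  have h1 : N.index = N.relIndex (Subgroup.normalizer ((P : Subgroup G) : Set G)) := by
    rw [← Subgroup.relIndex_top_right, ← hfr, Subgroup.relIndex_sup_right]
  have h2 := (N.subgroupOf (Subgroup.normalizer ((P : Subgroup G) : Set G))).card_mul_index
  rw [h55] at h2
  have hPN : (P : Subgroup G) ≤ N := by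
    rw [hPcoe]
    rintro _ ⟨q, -, rfl⟩
    exact q.2
  have h3 : 11 ∣ Nat.card (N.subgroupOf (Subgroup.normalizer ((P : Subgroup G) : Set G))) := by
    have hle := Subgroup.subgroupOf_mono (Subgroup.normalizer ((P : Subgroup G) : Set G)) hPN
    have := Subgroup.card_dvd_of_le hle
    rwa [Nat.card_congr (Subgroup.subgroupOfEquivOfLe Subgroup.le_normalizer).toEquiv,
      hPcard] at this
  obtain ⟨t, ht⟩ := h3
  have h4 : t * (N.subgroupOf (Subgroup.normalizer ((P : Subgroup G) : Set G))).index = 5 := by
    rw [ht] at h2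
    have : 11 * (t * (N.subgroupOf (Subgroup.normalizer ((P : Subgroup G) : Set G))).index)
        = 11 * 5 := by rw [← mul_assoc, h2]
    exact Nat.eq_of_mul_eq_mul_left (by norm_num) this
  have h5 : N.index ∣ 5 := by
    rw [h1]
    exact ⟨t, by rw [← h4, Subgroup.relIndex]; ring⟩
  have h6 : N.index ∣ Nat.gcd 5 8 := Nat.dvd_gcd h5 h8
  have h7 : N.index = 1 := by
    have : Nat.gcd 5 8 = 1 := by norm_num
    rw [this] at h6
    exact Nat.dvd_one.1 h6
  exact Subgroup.index_eq_one.1 h7

end Cfsg.Agent.Lead.MathieuSharp
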