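import Mathlib
import Cfsg.Prelude.Def_CaseTheorems
import Cfsg.Prelude.Def_OddOrderLocal

/-!
# 2-groups of sectional rank at most two are metacyclic, part A (author: lead)

Basic reformulations and the abelian case.
-/

set_option autoImplicit false

namespace Cfsg.Agent.Lib.Lead.MetaTwo

universe u

/-- no section of `S` is elementary abelian of order eight (formulated with squares) -/
def NoE8 (S : Type*) [Group S] : Prop :=
  ∀ H N : Subgroup S, N ≤ H → (∀ h ∈ H, h * h ∈ N) → N.relIndex H ≤ 4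

theorem comm_of_sq {S : Type*} [Group S] (h : ∀ x : S, x * x = 1) (x y : S) :
    x * y = y * x := by
  have h1 : x⁻¹ = x := inv_eq_of_mul_eq_one_right (h x)
  have h2 : y⁻¹ = y := inv_eq_of_mul_eq_one_right (h y)
  have h3 : (x * y)⁻¹ = x * y := inv_eq_of_mul_eq_one_right (h (x * y))
  calc x * y = (x * y)⁻¹ := h3.symm
    _ = y⁻¹ * x⁻¹ := mul_inv_rev _ _
    _ = y * x := by rw [h1, h2]

theorem noE8_of_sectional {S : Type*} [Group S] (hr : Cfsg.SectionalPRankLE 2 2 S) : NoE8 S := by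
  intro H N hNH hsq
  have hnorm : (N.subgroupOf H).Normal := by
    rw [Subgroup.normal_subgroupOf_iff hNH]
    intro n h hn hh
    have h1 : h * n * h⁻¹ = ((h * n) * (h * n)) * n⁻¹ * (h⁻¹ * h⁻¹) := by group
    rw [h1]
    exact N.mul_mem (N.mul_mem (hsq _ (H.mul_mem hh (hNH hn))) (N.inv_mem hn))
      (hsq _ (H.inv_mem hh))
  have h1 := hr H (N.subgroupOf H) ⊤ ?_ ?_
  · rw [Subgroup.card_top] at h1
    rw [Subgroup.relIndex, Subgroup.index_eq_card]
    exact h1
  · refine ⟨⟨?_⟩⟩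
    rintro ⟨a, -⟩ ⟨b, -⟩
    apply Subtype.ext
    simp only [Subgroup.coe_mul]
    apply comm_of_sq
    intro x
    obtain ⟨x, rfl⟩ := QuotientGroup.mk_surjective x
    rw [← QuotientGroup.mk_mul, QuotientGroup.eq_one_iff, Subgroup.mem_subgroupOf]
    exact hsq _ x.2
  · intro a _
    obtain ⟨x, rfl⟩ := QuotientGroup.mk_surjective a
    rw [← QuotientGroup.mk_pow, QuotientGroup.eq_one_iff, Subgroup.mem_subgroupOf, pow_two]
    exact hsq _ x.2

theorem noE8_quotient {S : Type*} [Group S] (h : NoE8 S) (Z : Subgroup S) [Z.Normal] :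
    NoE8 (S ⧸ Z) := by
  intro H N hNH hsq
  have h1 := h (H.comap (QuotientGroup.mk' Z)) (N.comap (QuotientGroup.mk' Z))
    (Subgroup.comap_mono hNH) ?_
  · rw [Subgroup.relIndex_comap, Subgroup.map_comap_eq_self_of_surjective
      (QuotientGroup.mk'_surjective Z)] at h1
    exact h1
  · intro x hx
    rw [Subgroup.mem_comap] at hx ⊢
    rw [map_mul]
    exact hsq _ hx

/-- a criterion for being metacyclic -/
theorem isMetacyclic_of_gens {S : Type*} [Group S] (g h : S) (hn : (Subgroup.zpowers g).Normal)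
    (hgen : ∀ x : S, ∃ j : ℤ, ∃ y ∈ Subgroup.zpowers g, x = h ^ j * y) : Cfsg.IsMetacyclic S := by
  refine ⟨Subgroup.zpowers g, hn, inferInstance, ⟨⟨(QuotientGroup.mk h : S ⧸ Subgroup.zpowers g), ?_⟩⟩⟩
  intro q
  obtain ⟨x, rfl⟩ := QuotientGroup.mk_surjective q
  obtain ⟨j, y, hy, rfl⟩ := hgen x
  refine ⟨j, ?_⟩
  show (QuotientGroup.mk h : S ⧸ Subgroup.zpowers g) ^ j = _
  rw [QuotientGroup.mk_mul, (QuotientGroup.eq_one_iff y).2 hy, mul_one, QuotientGroup.mk_zpow]

end Cfsg.Agent.Lib.Lead.MetaTwo
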