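import Mathlib
import Cfsg.Agent.Lib.Lead.MetaTwoA

/-!
# 2-groups of sectional rank at most two are metacyclic, part B (author: lead)

Abelian groups: two generators, and a direct decomposition.
-/

set_option autoImplicit false

namespace Cfsg.Agent.Lib.Lead.MetaTwo

universe u

theorem two_mul_card_le_of_lt {Q : Type*} [Group Q] [Finite Q] {A B : Subgroup Q} (h : A < B) :
    2 * Nat.card A ≤ Nat.card B := by
  obtain ⟨c, hc⟩ := Subgroup.card_dvd_of_le h.le
  have hA : 0 < Nat.card A := Nat.card_pos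
  have hB : 0 < Nat.card B := Nat.card_pos
  have hc2 : 2 ≤ c := by
    by_contra hcon
    push Not at hcon
    interval_cases c
    · rw [mul_zero] at hc
      omega
    · rw [mul_one] at hc
      exact absurd (Subgroup.eq_of_le_of_card_ge h.le hc.le) h.ne
  rw [hc]
  nlinarith

theorem exists_two_gens {Q : Type*} [Group Q] [Finite Q] (h : Nat.card Q ≤ 4) :
    ∃ u v : Q, Subgroup.closure ({u, v} : Set Q) = ⊤ := by
  by_cases hall : ∀ u : Q, u = 1
  · refine ⟨1, 1, ?_⟩
    rw [eq_top_iff]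
    intro x _
    rw [hall x]
    exact Subgroup.one_mem _
  push Not at hall
  obtain ⟨u, hu⟩ := hall
  by_cases htop : Subgroup.zpowers u = ⊤
  · refine ⟨u, 1, ?_⟩
    rw [eq_top_iff, ← htop, Subgroup.zpowers_le]
    exact Subgroup.subset_closure (Set.mem_insert _ _)
  obtain ⟨v, hv⟩ : ∃ v : Q, v ∉ Subgroup.zpowers u := by
    by_contra hcon
    push Not at hcon
    exact htop (eq_top_iff.mpr fun x _ => hcon x)
  refine ⟨u, v, ?_⟩
  have hle : Subgroup.zpowers u ≤ Subgroup.closure ({u, v} : Set Q) := by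
    rw [Subgroup.zpowers_le]
    exact Subgroup.subset_closure (Set.mem_insert _ _)
  have hlt : Subgroup.zpowers u < Subgroup.closure ({u, v} : Set Q) := by
    refine lt_of_le_of_ne hle ?_
    intro heq
    apply hv
    rw [heq]
    exact Subgroup.subset_closure (Set.mem_insert_of_mem _ rfl)
  have h2 : 2 ≤ Nat.card (Subgroup.zpowers u) := by
    rw [Nat.card_zpowers]
    have h0 : 0 < orderOf u := orderOf_pos u
    have h1 : orderOf u ≠ 1 := by
      rw [Ne, orderOf_eq_one_iff]
      exact hu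
    omega
  have h4 : 4 ≤ Nat.card (Subgroup.closure ({u, v} : Set Q)) := by
    have := two_mul_card_le_of_lt hlt
    omega
  apply Subgroup.eq_top_of_le_card
  omega

theorem abelian_gens {S : Type*} [CommGroup S] [Finite S] (h2 : IsPGroup 2 S) (h8 : NoE8 S) :
    ∃ x y : S, ∀ g : S, ∃ i j : ℤ, x ^ i * y ^ j = g := by
  classical
  set Φ : Subgroup S := (powMonoidHom 2 : S →* S).range with hΦ
  have hidx : Φ.index ≤ 4 := by
    have h1 := h8 ⊤ Φ le_top (fun h _ => ⟨h, by simp [pow_two]⟩)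
    rwa [Subgroup.relIndex_top_right] at h1
  have hcardQ : Nat.card (S ⧸ Φ) ≤ 4 := by
    rw [← Subgroup.index_eq_card]
    exact hidx
  obtain ⟨u, v, huv⟩ := exists_two_gens hcardQ
  obtain ⟨x, rfl⟩ := QuotientGroup.mk_surjective u
  obtain ⟨y, rfl⟩ := QuotientGroup.mk_surjective v
  set Q' : Subgroup S := Subgroup.closure ({x, y} : Set S) with hQ'
  -- every element is an element of `Q'` times a square
  have hdec : ∀ g : S, ∃ q ∈ Q', ∃ s : S, g = q * s ^ 2 := by
    intro g
    have h1 : (QuotientGroup.mk g : S ⧸ Φ) ∈ Subgroup.closure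
        ({(QuotientGroup.mk x : S ⧸ Φ), (QuotientGroup.mk y : S ⧸ Φ)} : Set (S ⧸ Φ)) := by
      rw [huv]; exact Subgroup.mem_top _
    have h2' : ({(QuotientGroup.mk x : S ⧸ Φ), (QuotientGroup.mk y : S ⧸ Φ)} : Set (S ⧸ Φ)) =
        (QuotientGroup.mk' Φ) '' ({x, y} : Set S) := by
      rw [Set.image_pair]
      rfl
    rw [h2', ← MonoidHom.map_closure] at h1
    obtain ⟨q, hq, hqg⟩ := h1
    have h3 : q⁻¹ * g ∈ Φ := by
      rw [← QuotientGroup.eq]
      exact hqg
    obtain ⟨s, hs⟩ := h3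
    refine ⟨q, hq, s, ?_⟩
    have : s ^ 2 = q⁻¹ * g := hs
    rw [this]
    group
  have htop : Q' = ⊤ := by
    by_contra hne
    -- the quotient `S ⧸ Q'` is a nontrivial 2-group in which squaring is surjective
    have hsurj : Function.Surjective (powMonoidHom 2 : (S ⧸ Q') →* (S ⧸ Q')) := by
      intro q
      obtain ⟨g, rfl⟩ := QuotientGroup.mk_surjective q
      obtain ⟨q', hq', s, rfl⟩ := hdec g
      refine ⟨QuotientGroup.mk s, ?_⟩
      rw [powMonoidHom_apply, QuotientGroup.mk_mul, (QuotientGroup.eq_one_iff q').2 hq', one_mul,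
        QuotientGroup.mk_pow]
    have hinj : Function.Injective (powMonoidHom 2 : (S ⧸ Q') →* (S ⧸ Q')) :=
      Finite.injective_iff_surjective.mpr hsurj
    have hnt : Nat.card (S ⧸ Q') ≠ 1 := by
      rw [← Subgroup.index_eq_card]
      intro h1
      exact hne (Subgroup.index_eq_one.mp h1)
    have hQ2 : IsPGroup 2 (S ⧸ Q') := h2.to_quotient Q'
    obtain ⟨n, hn⟩ := IsPGroup.iff_card.mp hQ2
    have hn0 : n ≠ 0 := by
      rintro rfl
      exact hnt (by simpa using hn)
    have h2dvd : 2 ∣ Nat.card (S ⧸ Q') := by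
      rw [hn]
      exact dvd_pow_self 2 hn0
    haveI : Fact (Nat.Prime 2) := ⟨Nat.prime_two⟩
    obtain ⟨t, ht⟩ := exists_prime_orderOf_dvd_card' 2 h2dvd
    have ht1 : t ≠ 1 := by
      intro h1
      rw [h1, orderOf_one] at ht
      omega
    apply ht1
    apply hinj
    rw [powMonoidHom_apply, powMonoidHom_apply, one_pow, ← ht]
    exact pow_orderOf_eq_one t
  refine ⟨x, y, fun g => ?_⟩
  have hg : g ∈ Subgroup.closure ({x, y} : Set S) := by
    rw [← hQ', htop]; exact Subgroup.mem_top _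
  exact Subgroup.mem_closure_pair.mp hg

end Cfsg.Agent.Lib.Lead.MetaTwo
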