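import Mathlib
import Cfsg.Agent.Lib.Lead.MetaTwoB

/-!
# 2-groups of sectional rank at most two are metacyclic, part C (author: lead)

Abelian groups: a direct decomposition into two cyclic groups.
-/

set_option autoImplicit false

namespace Cfsg.Agent.Lib.Lead.MetaTwo

universe u

theorem orderOf_dvd_of_le_two {S : Type*} [Group S] (h2 : IsPGroup 2 S) (w x : S)
    (h : orderOf w ≤ orderOf x) : orderOf w ∣ orderOf x := by
  haveI : Fact (Nat.Prime 2) := ⟨Nat.prime_two⟩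
  obtain ⟨a, ha⟩ := IsPGroup.iff_orderOf.mp h2 w
  obtain ⟨b, hb⟩ := IsPGroup.iff_orderOf.mp h2 x
  rw [ha, hb] at h ⊢
  exact pow_dvd_pow 2 ((Nat.pow_le_pow_iff_right (by norm_num)).mp h)

theorem abelian_gens_le {S : Type*} [CommGroup S] [Finite S] (h2 : IsPGroup 2 S) (h8 : NoE8 S) :
    ∃ x y : S, (∀ g : S, ∃ i j : ℤ, x ^ i * y ^ j = g) ∧ orderOf y ≤ orderOf x := by
  obtain ⟨x, y, hxy⟩ := abelian_gens h2 h8
  by_cases h : orderOf y ≤ orderOf x
  · exact ⟨x, y, hxy, h⟩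
  · refine ⟨y, x, fun g => ?_, by omega⟩
    obtain ⟨i, j, hij⟩ := hxy g
    exact ⟨j, i, by rw [mul_comm]; exact hij⟩

theorem abelian_direct {S : Type*} [CommGroup S] [Finite S] (h2 : IsPGroup 2 S) (h8 : NoE8 S) :
    ∃ x y : S, (∀ g : S, ∃ i j : ℤ, x ^ i * y ^ j = g) ∧
      (∀ i j : ℤ, x ^ i = y ^ j → y ^ j = 1) := by
  classical
  obtain ⟨x, y, hxy, hle⟩ := abelian_gens_le h2 h8
  -- choose `w` of minimal order generating together with `x`
  have hex : ∃ n : ℕ, ∃ w : S, (∀ g : S, ∃ i j : ℤ, x ^ i * w ^ j = g) ∧ orderOf w = n :=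
    ⟨orderOf y, y, hxy, rfl⟩
  obtain ⟨w, hw, hwn⟩ := Nat.find_spec hex
  have hmin : ∀ w' : S, (∀ g : S, ∃ i j : ℤ, x ^ i * w' ^ j = g) → orderOf w ≤ orderOf w' := by
    intro w' hw'
    rw [hwn]
    exact Nat.find_min' hex ⟨w', hw', rfl⟩
  have hwy : orderOf w ≤ orderOf y := hmin y hxy
  have hwx : orderOf w ∣ orderOf x := orderOf_dvd_of_le_two h2 w x (hwy.trans hle)
  refine ⟨x, w, hw, ?_⟩
  -- the order of `w` modulo `⟨x⟩`
  set q : S ⧸ Subgroup.zpowers x := QuotientGroup.mk w with hq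
  set d := orderOf q with hd
  have hde : d ∣ orderOf w := by
    rw [hd, orderOf_dvd_iff_pow_eq_one, hq, ← QuotientGroup.mk_pow, pow_orderOf_eq_one]
    rfl
  obtain ⟨m, hm⟩ := hde
  have hm0 : m ≠ 0 := by
    rintro rfl
    rw [mul_zero] at hm
    exact (orderOf_pos w).ne' hm
  have hdx : w ^ d ∈ Subgroup.zpowers x := by
    rw [← QuotientGroup.eq_one_iff, QuotientGroup.mk_pow]
    exact pow_orderOf_eq_one q
  obtain ⟨k, hk⟩ := hdx
  have hk : x ^ k = w ^ d := hk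
  -- `d ∣ k`
  have hdk : (d : ℤ) ∣ k := by
    have h1 : x ^ (k * (m : ℤ)) = 1 := by
      rw [zpow_mul, hk, zpow_natCast, ← pow_mul, ← hm, pow_orderOf_eq_one]
    have h2' : (orderOf x : ℤ) ∣ k * m := orderOf_dvd_iff_zpow_eq_one.mpr h1
    have h3 : ((d * m : ℕ) : ℤ) ∣ k * m := by
      rw [← hm]
      exact (Int.natCast_dvd_natCast.mpr hwx).trans h2'
    rw [Nat.cast_mul] at h3
    exact Int.dvd_of_mul_dvd_mul_right (by exact_mod_cast hm0) h3
  obtain ⟨k', hk'⟩ := hdk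
  -- the modified generator
  have hgen' : ∀ g : S, ∃ i j : ℤ, x ^ i * (w * x ^ (-k')) ^ j = g := by
    intro g
    obtain ⟨i, j, hij⟩ := hw g
    refine ⟨i + k' * j, j, ?_⟩
    rw [← hij, mul_zpow, ← zpow_mul, zpow_add]
    have : x ^ (-k' * j) = (x ^ (k' * j))⁻¹ := by rw [neg_mul, zpow_neg]
    rw [this]
    calc x ^ i * x ^ (k' * j) * (w ^ j * (x ^ (k' * j))⁻¹)
        = x ^ i * w ^ j * (x ^ (k' * j) * (x ^ (k' * j))⁻¹) := by
          simp only [mul_assoc, mul_left_comm]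
      _ = x ^ i * w ^ j := by rw [mul_inv_cancel, mul_one]
  have hord' : orderOf (w * x ^ (-k')) ∣ d := by
    rw [orderOf_dvd_iff_pow_eq_one, mul_pow, ← hk, ← zpow_natCast (x ^ (-k')) d, ← zpow_mul,
      ← zpow_add, hk']
    have : (d : ℤ) * k' + -k' * (d : ℤ) = 0 := by ring
    rw [this, zpow_zero]
  have hd0 : 0 < d := orderOf_pos q
  have hew : orderOf w ≤ d := (hmin _ hgen').trans (Nat.le_of_dvd hd0 hord')
  have hdw : d = orderOf w := le_antisymm (Nat.le_of_dvd (orderOf_pos w) ⟨m, hm⟩) hew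
  intro i j hij
  have h1 : q ^ j = 1 := by
    rw [hq, ← QuotientGroup.mk_zpow, QuotientGroup.eq_one_iff, ← hij]
    exact ⟨i, rfl⟩
  have h2' : (d : ℤ) ∣ j := orderOf_dvd_iff_zpow_eq_one.mpr h1
  rw [hdw] at h2'
  exact orderOf_dvd_iff_zpow_eq_one.mp h2'

end Cfsg.Agent.Lib.Lead.MetaTwo
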