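import Mathlib
import Cfsg.Agent.Lib.Lead.MetaTwoC

/-!
# 2-groups of sectional rank at most two are metacyclic, part D (author: lead)

Generic lemmas on generators, normalizers and commutators.
-/

set_option autoImplicit false

namespace Cfsg.Agent.Lib.Lead.MetaTwo

universe u

open scoped commutatorElement

variable {S : Type*} [Group S]

/-- a criterion for being metacyclic, in terms of generators -/
theorem isMetacyclic_of_closure (g h : S) (hn : (Subgroup.zpowers g).Normal)
    (hgen : Subgroup.closure ({g, h} : Set S) = ⊤) : Cfsg.IsMetacyclic S := by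
  refine ⟨Subgroup.zpowers g, hn, inferInstance,
    ⟨⟨(QuotientGroup.mk h : S ⧸ Subgroup.zpowers g), ?_⟩⟩⟩
  intro q
  obtain ⟨x, rfl⟩ := QuotientGroup.mk_surjective q
  have hx : x ∈ Subgroup.closure ({g, h} : Set S) := by rw [hgen]; exact Subgroup.mem_top _
  have hle : Subgroup.closure ({g, h} : Set S) ≤
      (Subgroup.zpowers (QuotientGroup.mk h : S ⧸ Subgroup.zpowers g)).comap
        (QuotientGroup.mk' (Subgroup.zpowers g)) := by
    rw [Subgroup.closure_le]
    intro y hy
    show (QuotientGroup.mk y : S ⧸ Subgroup.zpowers g) ∈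
      Subgroup.zpowers (QuotientGroup.mk h : S ⧸ Subgroup.zpowers g)
    rcases hy with hy | hy
    · rw [hy, (QuotientGroup.eq_one_iff g).2 (Subgroup.mem_zpowers g)]
      exact Subgroup.one_mem _
    · rw [Set.mem_singleton_iff] at hy
      rw [hy]
      exact Subgroup.mem_zpowers _
  exact hle hx

theorem conj_zpow' (b a : S) (i : ℤ) : b * a ^ i * b⁻¹ = (b * a * b⁻¹) ^ i := by
  have := map_zpow (MulAut.conj b) a i
  simp only [MulAut.conj_apply] at this
  exact this

theorem mem_normalizer_zpowers (a b : S) (h1 : b * a * b⁻¹ ∈ Subgroup.zpowers a)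
    (h2 : b⁻¹ * a * b ∈ Subgroup.zpowers a) : b ∈ Subgroup.normalizer (Subgroup.zpowers a : Set S) := by
  rw [Subgroup.mem_normalizer_iff]
  intro h
  constructor
  · rintro ⟨i, rfl⟩
    show b * a ^ i * b⁻¹ ∈ _
    rw [conj_zpow']
    exact Subgroup.zpow_mem _ h1 i
  · intro hh
    obtain ⟨i, hi⟩ := hh
    have hi : a ^ i = b * h * b⁻¹ := hi
    have : h = b⁻¹ * a ^ i * b⁻¹⁻¹ := by rw [hi]; group
    rw [this, conj_zpow', inv_inv]
    exact Subgroup.zpow_mem _ h2 i

theorem normal_of_closure_le_normalizer (H : Subgroup S) (X : Set S)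
    (hX : Subgroup.closure X = ⊤) (h : X ⊆ Subgroup.normalizer (H : Set S)) : H.Normal := by
  rw [← Subgroup.normalizer_eq_top_iff, eq_top_iff, ← hX, Subgroup.closure_le]
  exact h

theorem commutator_le_of_closure (K : Subgroup S) [K.Normal] (X : Set S)
    (hX : Subgroup.closure X = ⊤)
    (h : ∀ x ∈ X, ∀ y ∈ X, (QuotientGroup.mk x : S ⧸ K) * QuotientGroup.mk y =
      QuotientGroup.mk y * QuotientGroup.mk x) : commutator S ≤ K := by
  -- every element of the quotient commutes with the images of `X`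
  have h1 : ∀ x ∈ X, ∀ q : S ⧸ K, (QuotientGroup.mk x : S ⧸ K) * q = q * QuotientGroup.mk x := by
    intro x hx q
    obtain ⟨g, rfl⟩ := QuotientGroup.mk_surjective q
    have hg : g ∈ Subgroup.closure X := by rw [hX]; exact Subgroup.mem_top _
    have hle : Subgroup.closure X ≤ (Subgroup.centralizer
        ({(QuotientGroup.mk x : S ⧸ K)} : Set (S ⧸ K))).comap (QuotientGroup.mk' K) := by
      rw [Subgroup.closure_le]
      intro y hy
      show (QuotientGroup.mk y : S ⧸ K) ∈ Subgroup.centralizer _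
      rw [Subgroup.mem_centralizer_iff]
      intro m hm
      rw [Set.mem_singleton_iff] at hm
      rw [hm]
      exact h x hx y hy
    have := hle hg
    have h2 : (QuotientGroup.mk g : S ⧸ K) ∈ Subgroup.centralizer
        ({(QuotientGroup.mk x : S ⧸ K)} : Set (S ⧸ K)) := this
    rw [Subgroup.mem_centralizer_iff] at h2
    exact h2 _ rfl
  have h2 : ∀ p q : S ⧸ K, p * q = q * p := by
    intro p q
    obtain ⟨g, rfl⟩ := QuotientGroup.mk_surjective p
    have hg : g ∈ Subgroup.closure X := by rw [hX]; exact Subgroup.mem_top _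
    have hle : Subgroup.closure X ≤ (Subgroup.centralizer
        ({q} : Set (S ⧸ K))).comap (QuotientGroup.mk' K) := by
      rw [Subgroup.closure_le]
      intro y hy
      show (QuotientGroup.mk y : S ⧸ K) ∈ Subgroup.centralizer _
      rw [Subgroup.mem_centralizer_iff]
      intro m hm
      rw [Set.mem_singleton_iff] at hm
      rw [hm]
      exact (h1 y hy q).symm
    have h3 : (QuotientGroup.mk g : S ⧸ K) ∈ Subgroup.centralizer ({q} : Set (S ⧸ K)) := hle hg
    rw [Subgroup.mem_centralizer_iff] at h3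
    exact (h3 _ rfl).symm
  rw [commutator_def, Subgroup.commutator_le]
  intro g₁ _ g₂ _
  rw [← QuotientGroup.eq_one_iff, commutatorElement_def]
  simp only [QuotientGroup.mk_mul, QuotientGroup.mk_inv]
  rw [h2 (QuotientGroup.mk g₁) (QuotientGroup.mk g₂)]
  group

theorem normal_of_commutator_le (K : Subgroup S) (h : commutator S ≤ K) : K.Normal := by
  refine ⟨fun n hn g => ?_⟩
  have h1 : g * n * g⁻¹ = ⁅g, n⁆ * n := by rw [commutatorElement_def]; group
  rw [h1]
  exact K.mul_mem (h (Subgroup.commutator_mem_commutator (Subgroup.mem_top g) (Subgroup.mem_top n))) hn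

theorem comm_of_closure (X : Set S) (hcomm : ∀ x ∈ X, ∀ y ∈ X, x * y = y * x) :
    ∀ g ∈ Subgroup.closure X, ∀ h ∈ Subgroup.closure X, g * h = h * g := by
  intro g hg h hh
  have hc := Subgroup.isMulCommutative_closure hcomm
  have := hc.is_comm.comm (⟨g, hg⟩ : Subgroup.closure X) ⟨h, hh⟩
  exact congrArg Subtype.val this

theorem sq_of_closure (X : Set S) (hcomm : ∀ x ∈ X, ∀ y ∈ X, x * y = y * x)
    (hsq : ∀ x ∈ X, x * x = 1) : ∀ g ∈ Subgroup.closure X, g * g = 1 := by
  intro g hg
  induction hg using Subgroup.closure_induction with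
  | mem x hx => exact hsq x hx
  | one => exact mul_one 1
  | mul x y hx hy ihx ihy =>
    have hc := comm_of_closure X hcomm x hx y hy
    calc x * y * (x * y) = x * (y * x) * y := by group
      _ = x * (x * y) * y := by rw [hc]
      _ = (x * x) * (y * y) := by group
      _ = 1 := by rw [ihx, ihy, mul_one]
  | inv x hx ih =>
    have : x⁻¹ = x := inv_eq_of_mul_eq_one_right ih
    rw [this, ih]

theorem zpow_of_sq_one (z : S) (hz : z * z = 1) (e : ℤ) : z ^ e = 1 ∨ z ^ e = z := by
  have h2 : z ^ (2 : ℤ) = 1 := by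
    rw [zpow_ofNat, pow_two]; exact hz
  rcases Int.even_or_odd' e with ⟨m, hm | hm⟩
  · left
    rw [hm, zpow_mul, h2, one_zpow]
  · right
    rw [hm, zpow_add, zpow_mul, h2, one_zpow, one_mul, zpow_one]

theorem exists_involution_zpow [Finite S] (h2 : IsPGroup 2 S) (z : S) (hz : z ≠ 1) :
    ∃ e : ℕ, z ^ e ≠ 1 ∧ z ^ e * z ^ e = 1 := by
  haveI : Fact (Nat.Prime 2) := ⟨Nat.prime_two⟩
  obtain ⟨k, hk⟩ := IsPGroup.iff_orderOf.mp h2 z
  have hk0 : k ≠ 0 := by
    rintro rfl
    rw [pow_zero, orderOf_eq_one_iff] at hk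
    exact hz hk
  obtain ⟨k', rfl⟩ := Nat.exists_eq_succ_of_ne_zero hk0
  refine ⟨2 ^ k', ?_, ?_⟩
  · apply pow_ne_one_of_lt_orderOf (by positivity)
    rw [hk, pow_succ]
    have : 0 < 2 ^ k' := by positivity
    omega
  · rw [← pow_add, ← two_mul, ← pow_succ', ← hk, pow_orderOf_eq_one]

end Cfsg.Agent.Lib.Lead.MetaTwo
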