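import Mathlib
import Cfsg.Agent.Lib.Lead.MetaTwoD

/-!
# 2-groups of sectional rank at most two are metacyclic, part E (author: lead)

Lifting metacyclicity over a central involution lying in `Φ(P')K₃(P)` (Blackburn's argument).
-/

set_option autoImplicit false

namespace Cfsg.Agent.Lib.Lead.MetaTwo

universe u

open scoped commutatorElement

variable {S : Type*} [Group S]

theorem conj_zpow'' (b a : S) (i : ℤ) : b⁻¹ * a ^ i * b = (b⁻¹ * a * b) ^ i := by
  have := conj_zpow' b⁻¹ a i
  rwa [inv_inv] at this

theorem central_zpow (z : S) (hzc : ∀ g : S, g * z = z * g) (e : ℤ) (g : S) :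
    g * z ^ e = z ^ e * g :=
  (show Commute g z from hzc g).zpow_right e

theorem zpowers_normal_of_central (z : S) (hzc : ∀ g : S, g * z = z * g) :
    (Subgroup.zpowers z).Normal := by
  refine ⟨fun n hn g => ?_⟩
  obtain ⟨i, rfl⟩ := hn
  show g * z ^ i * g⁻¹ ∈ _
  rw [central_zpow z hzc i g, mul_inv_cancel_right]
  exact Subgroup.zpow_mem _ (Subgroup.mem_zpowers z) i

/-- if `a = a ^ m * z ^ e` and `z ∉ ⟨a⟩` then `z ^ e = 1` -/
theorem zpow_eq_one_of_eq (z a : S) (hz2 : z * z = 1) (hza : z ∉ Subgroup.zpowers a)
    (m e : ℤ) (h : a = a ^ m * z ^ e) : z ^ e = 1 := by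
  rcases zpow_of_sq_one z hz2 e with h1 | h1
  · exact h1
  · exfalso
    apply hza
    rw [h1] at h
    have : z = (a ^ m)⁻¹ * a := by
      calc z = (a ^ m)⁻¹ * (a ^ m * z) := by group
        _ = (a ^ m)⁻¹ * a := by rw [← h]
    rw [this]
    exact Subgroup.mul_mem _ (Subgroup.inv_mem _ (Subgroup.zpow_mem _ (Subgroup.mem_zpowers a) m))
      (Subgroup.mem_zpowers a)

theorem lift_metacyclic [Finite S] (h2 : IsPGroup 2 S)
    (z a b : S) (hzc : ∀ g : S, g * z = z * g) (hz2 : z * z = 1)
    (A : Subgroup S) (hA : A.Normal) (haA : a ∈ A)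
    (hAform : ∀ u ∈ A, ∃ i e : ℤ, u = a ^ i * z ^ e)
    (hgen : Subgroup.closure ({a, b, z} : Set S) = ⊤)
    (hzK : ∀ K : Subgroup S, K.Normal → (∀ u ∈ commutator S, u * u ∈ K) →
       (∀ u ∈ commutator S, ∀ g : S, ⁅u, g⁆ ∈ K) → z ∈ K) :
    Cfsg.IsMetacyclic S := by
  by_cases hza : z ∈ Subgroup.zpowers a
  · have hAeq : A = Subgroup.zpowers a := by
      apply le_antisymm
      · intro u hu
        obtain ⟨i, e, rfl⟩ := hAform u hu
        exact Subgroup.mul_mem _ (Subgroup.zpow_mem _ (Subgroup.mem_zpowers a) i)
          (Subgroup.zpow_mem _ hza e)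
      · rw [Subgroup.zpowers_le]; exact haA
    have hn : (Subgroup.zpowers a).Normal := hAeq ▸ hA
    apply isMetacyclic_of_closure a b hn
    rw [eq_top_iff, ← hgen, Subgroup.closure_le]
    intro x hx
    simp only [Set.mem_insert_iff, Set.mem_singleton_iff] at hx
    rcases hx with hx | hx | hx
    · rw [hx]; exact Subgroup.subset_closure (Set.mem_insert _ _)
    · rw [hx]; exact Subgroup.subset_closure (Set.mem_insert_of_mem _ rfl)
    · rw [hx]
      have hle : Subgroup.zpowers a ≤ Subgroup.closure ({a, b} : Set S) := by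
        rw [Subgroup.zpowers_le]
        exact Subgroup.subset_closure (Set.mem_insert _ _)
      exact hle hza
  · exfalso
    have haX : a ∈ ({a, b, z} : Set S) := Set.mem_insert _ _
    have hbX : b ∈ ({a, b, z} : Set S) := Set.mem_insert_of_mem _ (Set.mem_insert _ _)
    have hzX : z ∈ ({a, b, z} : Set S) := Set.mem_insert_of_mem _ (Set.mem_insert_of_mem _ rfl)
    have hform : ∀ u ∈ A, ∃ k : ℤ, u = a ^ k ∨ u = a ^ k * z := by
      intro u hu
      obtain ⟨i, e, rfl⟩ := hAform u hu
      rcases zpow_of_sq_one z hz2 e with h | h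
      · exact ⟨i, Or.inl (by rw [h, mul_one])⟩
      · exact ⟨i, Or.inr (by rw [h])⟩
    have hc1 : b⁻¹ * a * b ∈ A := by
      have := hA.conj_mem a haA b⁻¹
      rwa [inv_inv] at this
    have hc2 : b * a * b⁻¹ ∈ A := hA.conj_mem a haA b
    obtain ⟨k, hk⟩ := hform _ hc1
    obtain ⟨s, hs⟩ := hform _ hc2
    have hback : a = b⁻¹ * (b * a * b⁻¹) * b := by group
    have hznorm : ∀ (H : Subgroup S), z ∈ Subgroup.normalizer (H : Set S) := fun H =>
      Subgroup.center_le_normalizer _ (Subgroup.mem_center_iff.mpr hzc)
    rcases hk with hk | hk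
    · -- `b⁻¹ab = a ^ k`
      have hs' : b * a * b⁻¹ = a ^ s := by
        rcases hs with hs | hs
        · exact hs
        · have h1 : a = a ^ (k * s) * z ^ (1 : ℤ) := by
            calc a = b⁻¹ * (b * a * b⁻¹) * b := hback
              _ = b⁻¹ * (a ^ s * z) * b := by rw [hs]
              _ = b⁻¹ * a ^ s * b * z := by
                  rw [mul_assoc, mul_assoc, mul_assoc, ← hzc b]
                  simp only [mul_assoc]
              _ = a ^ (k * s) * z ^ (1 : ℤ) := by
                  rw [conj_zpow'', hk, ← zpow_mul, zpow_one]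
          have h2' := zpow_eq_one_of_eq z a hz2 hza _ _ h1
          rw [zpow_one] at h2'
          exfalso
          apply hza
          rw [h2']
          exact Subgroup.one_mem _
      have hbn : b ∈ Subgroup.normalizer (Subgroup.zpowers a : Set S) :=
        mem_normalizer_zpowers a b (hs' ▸ ⟨s, rfl⟩) (hk ▸ ⟨k, rfl⟩)
      have hn : (Subgroup.zpowers a).Normal := by
        apply normal_of_closure_le_normalizer _ _ hgen
        intro x hx
        simp only [Set.mem_insert_iff, Set.mem_singleton_iff] at hx
        rcases hx with hx | hx | hx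
        · rw [hx]; exact Subgroup.le_normalizer (Subgroup.mem_zpowers a)
        · rw [hx]; exact hbn
        · rw [hx]; exact hznorm _
      have ha1 : (QuotientGroup.mk a : S ⧸ Subgroup.zpowers a) = 1 :=
        (QuotientGroup.eq_one_iff a).2 (Subgroup.mem_zpowers a)
      have hzq : ∀ g : S, (QuotientGroup.mk g : S ⧸ Subgroup.zpowers a) * QuotientGroup.mk z =
          QuotientGroup.mk z * QuotientGroup.mk g := by
        intro g
        rw [← QuotientGroup.mk_mul, ← QuotientGroup.mk_mul, hzc]
      have hcomm : commutator S ≤ Subgroup.zpowers a := by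
        apply commutator_le_of_closure _ _ hgen
        intro x hx y hy
        simp only [Set.mem_insert_iff, Set.mem_singleton_iff] at hx hy
        rcases hx with hx | hx | hx <;> rcases hy with hy | hy | hy <;> rw [hx, hy] <;>
          first
          | rfl
          | (rw [ha1, one_mul, mul_one])
          | (rw [ha1, mul_one, one_mul])
          | exact hzq _
          | exact (hzq _).symm
      apply hza
      apply hzK _ hn
      · intro u hu
        exact Subgroup.mul_mem _ (hcomm hu) (hcomm hu)
      · intro u hu g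
        exact hcomm (Subgroup.commutator_mem_commutator (Subgroup.mem_top u) (Subgroup.mem_top g))
    · -- `b⁻¹ab = a ^ k * z`
      -- `bab⁻¹ = a ^ s * z ^ t`
      obtain ⟨t, ht⟩ : ∃ t : ℤ, b * a * b⁻¹ = a ^ s * z ^ t := by
        rcases hs with hs | hs
        · exact ⟨0, by rw [hs, zpow_zero, mul_one]⟩
        · exact ⟨1, by rw [hs, zpow_one]⟩
      have hazc : Commute (a ^ k) z := (hzc (a ^ k))
      have h1 : a = a ^ (k * s) * z ^ (s + t) := by
        calc a = b⁻¹ * (b * a * b⁻¹) * b := hback
          _ = b⁻¹ * (a ^ s * z ^ t) * b := by rw [ht]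
          _ = b⁻¹ * a ^ s * b * z ^ t := by
              rw [mul_assoc, mul_assoc, mul_assoc, ← central_zpow z hzc t b]
              simp only [mul_assoc]
          _ = (a ^ k * z) ^ s * z ^ t := by rw [conj_zpow'', hk]
          _ = a ^ (k * s) * z ^ (s + t) := by
              rw [hazc.mul_zpow, ← zpow_mul, zpow_add, mul_assoc]
      have hzst := zpow_eq_one_of_eq z a hz2 hza _ _ h1
      rw [hzst, mul_one] at h1
      have h3 : a ^ (k * s - 1) = 1 := by
        rw [zpow_sub, zpow_one, ← h1, mul_inv_cancel]
      have h4 : (orderOf a : ℤ) ∣ k * s - 1 := orderOf_dvd_iff_zpow_eq_one.mpr h3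
      haveI : Fact (Nat.Prime 2) := ⟨Nat.prime_two⟩
      obtain ⟨α, hα⟩ := IsPGroup.iff_orderOf.mp h2 a
      have hkodd : Odd k := by
        by_contra hke
        rw [Int.not_odd_iff_even] at hke
        have hα0 : α = 0 := by
          by_contra hα0
          have h5 : (2 : ℤ) ∣ k * s - 1 := by
            refine dvd_trans ?_ h4
            rw [hα]
            push_cast
            exact dvd_pow_self 2 hα0
          have h6 : (2 : ℤ) ∣ k * s := Dvd.dvd.mul_right (even_iff_two_dvd.mp hke) s
          have h7 : (2 : ℤ) ∣ k * s - (k * s - 1) := Int.dvd_sub h6 h5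
          rw [sub_sub_cancel] at h7
          norm_num at h7
        rw [hα0, pow_zero, orderOf_eq_one_iff] at hα
        apply hza
        have : z = 1 := by
          have h6 := hk
          rw [hα, one_zpow, one_mul, mul_one, inv_mul_cancel] at h6
          exact h6.symm
        rw [this]
        exact Subgroup.one_mem _
      obtain ⟨k', hk'⟩ := hkodd
      -- the subgroup generated by the square of `a`
      set a2 : S := a * a with ha2
      have ha2k : ∀ i : ℤ, a ^ i * a ^ i = a2 ^ i := by
        intro i
        rw [ha2, (Commute.refl a).mul_zpow]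
      have hM1 : b⁻¹ * a2 * b ∈ Subgroup.zpowers a2 := by
        have : b⁻¹ * a2 * b = a2 ^ k := by
          calc b⁻¹ * a2 * b = (b⁻¹ * a * b) * (b⁻¹ * a * b) := by rw [ha2]; group
            _ = (a ^ k * z) * (a ^ k * z) := by rw [hk]
            _ = a ^ k * a ^ k * (z * z) := by
                rw [mul_assoc, ← mul_assoc z, ← hzc (a ^ k)]
                group
            _ = a2 ^ k := by rw [hz2, mul_one, ha2k]
        rw [this]
        exact ⟨k, rfl⟩
      have hM2 : b * a2 * b⁻¹ ∈ Subgroup.zpowers a2 := by
        have : b * a2 * b⁻¹ = a2 ^ s := by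
          calc b * a2 * b⁻¹ = (b * a * b⁻¹) * (b * a * b⁻¹) := by rw [ha2]; group
            _ = (a ^ s * z ^ t) * (a ^ s * z ^ t) := by rw [ht]
            _ = a ^ s * a ^ s * (z ^ t * z ^ t) := by
                rw [mul_assoc, ← mul_assoc (z ^ t), ← central_zpow z hzc t (a ^ s)]
                group
            _ = a2 ^ s := by
                have : z ^ t * z ^ t = 1 := by
                  rw [← zpow_add, ← two_mul, zpow_mul, zpow_ofNat, pow_two, hz2, one_zpow]
                rw [this, mul_one, ha2k]
        rw [this]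
        exact ⟨s, rfl⟩
      have hbn : b ∈ Subgroup.normalizer (Subgroup.zpowers a2 : Set S) :=
        mem_normalizer_zpowers a2 b hM2 hM1
      have han : a ∈ Subgroup.normalizer (Subgroup.zpowers a2 : Set S) := by
        apply mem_normalizer_zpowers a2 a
        · have : a * a2 * a⁻¹ = a2 := by rw [ha2]; group
          rw [this]; exact Subgroup.mem_zpowers _
        · have : a⁻¹ * a2 * a = a2 := by rw [ha2]; group
          rw [this]; exact Subgroup.mem_zpowers _
      have hMn : (Subgroup.zpowers a2).Normal := by
        apply normal_of_closure_le_normalizer _ _ hgen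
        intro x hx
        simp only [Set.mem_insert_iff, Set.mem_singleton_iff] at hx
        rcases hx with hx | hx | hx
        · rw [hx]; exact han
        · rw [hx]; exact hbn
        · rw [hx]; exact hznorm _
      have hZn : (Subgroup.zpowers z).Normal := zpowers_normal_of_central z hzc
      have hKn : (Subgroup.zpowers a2 ⊔ Subgroup.zpowers z).Normal := Subgroup.sup_normal _ _
      have hzq : ∀ g : S, (QuotientGroup.mk g : S ⧸ (Subgroup.zpowers a2 ⊔ Subgroup.zpowers z)) *
          QuotientGroup.mk z = QuotientGroup.mk z * QuotientGroup.mk g := by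
        intro g
        rw [← QuotientGroup.mk_mul, ← QuotientGroup.mk_mul, hzc]
      have hab : (QuotientGroup.mk b : S ⧸ (Subgroup.zpowers a2 ⊔ Subgroup.zpowers z)) *
          QuotientGroup.mk a = QuotientGroup.mk a * QuotientGroup.mk b := by
        rw [← QuotientGroup.mk_mul, ← QuotientGroup.mk_mul, QuotientGroup.eq]
        have : (b * a)⁻¹ * (a * b) = a2 ^ k' * z := by
          calc (b * a)⁻¹ * (a * b) = a⁻¹ * (b⁻¹ * a * b) := by group
            _ = a⁻¹ * (a ^ k * z) := by rw [hk]
            _ = a ^ (k - 1) * z := by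
                rw [zpow_sub, zpow_one]
                have : a⁻¹ * a ^ k = a ^ k * a⁻¹ := by
                  rw [← zpow_neg_one, ← zpow_add, ← zpow_add, add_comm]
                rw [← mul_assoc, this]
            _ = a2 ^ k' * z := by
                rw [← ha2k, ← zpow_add, hk']
                congr 2
                ring
        rw [this]
        exact Subgroup.mul_mem _
          (Subgroup.mem_sup_left (Subgroup.zpow_mem _ (Subgroup.mem_zpowers a2) k'))
          (Subgroup.mem_sup_right (Subgroup.mem_zpowers z))
      have hcomm : commutator S ≤ Subgroup.zpowers a2 ⊔ Subgroup.zpowers z := by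
        apply commutator_le_of_closure _ _ hgen
        intro x hx y hy
        simp only [Set.mem_insert_iff, Set.mem_singleton_iff] at hx hy
        rcases hx with hx | hx | hx <;> rcases hy with hy | hy | hy <;> rw [hx, hy] <;>
          first
          | rfl
          | exact hab
          | exact hab.symm
          | exact hzq _
          | exact (hzq _).symm
      have hdecomp : ∀ u ∈ commutator S, ∃ m ∈ Subgroup.zpowers a2, ∃ e : ℤ, u = m * z ^ e := by
        intro u hu
        have h5 : u ∈ ((Subgroup.zpowers a2 ⊔ Subgroup.zpowers z : Subgroup S) : Set S) := hcomm hu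
        rw [Subgroup.mul_normal] at h5
        obtain ⟨m, hm, w, hw, rfl⟩ := Set.mem_mul.mp h5
        obtain ⟨e, rfl⟩ := hw
        exact ⟨m, hm, e, rfl⟩
      have hzM : z ∈ Subgroup.zpowers a2 := by
        apply hzK _ hMn
        · intro u hu
          obtain ⟨m, hm, e, rfl⟩ := hdecomp u hu
          have : m * z ^ e * (m * z ^ e) = m * m := by
            calc m * z ^ e * (m * z ^ e) = m * (z ^ e * m) * z ^ e := by group
              _ = m * (m * z ^ e) * z ^ e := by rw [central_zpow z hzc e m]
              _ = m * m * (z ^ e * z ^ e) := by group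
              _ = m * m := by
                  rw [← zpow_add, ← two_mul, zpow_mul, zpow_ofNat, pow_two, hz2, one_zpow, mul_one]
          rw [this]
          exact Subgroup.mul_mem _ hm hm
        · intro u hu g
          obtain ⟨m, hm, e, rfl⟩ := hdecomp u hu
          have : ⁅m * z ^ e, g⁆ = m * (g * m⁻¹ * g⁻¹) := by
            rw [commutatorElement_def]
            calc m * z ^ e * g * (m * z ^ e)⁻¹ * g⁻¹
                = m * (z ^ e * g) * (z ^ e)⁻¹ * m⁻¹ * g⁻¹ := by group
              _ = m * (g * z ^ e) * (z ^ e)⁻¹ * m⁻¹ * g⁻¹ := by rw [central_zpow z hzc e g]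
              _ = m * (g * m⁻¹ * g⁻¹) := by group
          rw [this]
          exact Subgroup.mul_mem _ hm (hMn.conj_mem _ (Subgroup.inv_mem _ hm) g)
      apply hza
      have hle : Subgroup.zpowers a2 ≤ Subgroup.zpowers a := by
        rw [Subgroup.zpowers_le]
        exact Subgroup.mul_mem _ (Subgroup.mem_zpowers a) (Subgroup.mem_zpowers a)
      exact hle hzM

end Cfsg.Agent.Lib.Lead.MetaTwo
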