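import Mathlib
import Cfsg.Agent.Lib.Lead.MetaTwoE

/-!
# 2-groups of sectional rank at most two are metacyclic, part F (author: lead)

The case of a central commutator subgroup of exponent two.
-/

set_option autoImplicit false

namespace Cfsg.Agent.Lib.Lead.MetaTwo

universe u

open scoped commutatorElement

variable {S : Type*} [Group S]

theorem metacyclic_of_comm [Finite S] (hcomm : ∀ a b : S, a * b = b * a) (h2 : IsPGroup 2 S)
    (h8 : NoE8 S) : Cfsg.IsMetacyclic S := by
  letI : CommGroup S := { ‹Group S› with mul_comm := hcomm }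
  obtain ⟨x, y, hxy⟩ := abelian_gens (S := S) h2 h8
  apply isMetacyclic_of_gens x y (Subgroup.normal_of_isMulCommutative _)
  intro g
  obtain ⟨i, j, hij⟩ := hxy g
  exact ⟨j, x ^ i, Subgroup.zpow_mem _ (Subgroup.mem_zpowers x) i, by rw [← hij]; exact hcomm _ _⟩

/-- squares are central when the commutator subgroup is central of exponent two -/
theorem sq_central (hsq : ∀ u ∈ commutator S, u * u = 1)
    (hcen : ∀ u ∈ commutator S, ∀ g : S, g * u = u * g) (g h : S) :
    g * g * h = h * (g * g) := by
  have hc : ⁅g, h⁆ ∈ commutator S :=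
    Subgroup.commutator_mem_commutator (Subgroup.mem_top g) (Subgroup.mem_top h)
  set c := ⁅g, h⁆ with hcdef
  have h1 : g * h = h * g * c := by
    rw [hcen c hc (h * g), hcdef, commutatorElement_def]; group
  calc g * g * h = g * (g * h) := by group
    _ = g * (h * g * c) := by rw [h1]
    _ = (g * h) * g * c := by group
    _ = (h * g * c) * g * c := by rw [h1]
    _ = h * g * (c * g) * c := by group
    _ = h * g * (g * c) * c := by rw [hcen c hc g]
    _ = h * (g * g) * (c * c) := by group
    _ = h * (g * g) := by rw [hsq c hc, mul_one]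

/-- the final contradiction: an elementary abelian subgroup of order eight -/
theorem no_three_involutions [Finite S] (h8 : NoE8 S) (z tx ty : S)
    (hz : z * z = 1) (htx : tx * tx = 1) (hty : ty * ty = 1)
    (h1 : z * tx = tx * z) (h2 : z * ty = ty * z) (h3 : tx * ty = ty * tx)
    (hz1 : z ≠ 1) (hx : tx ∉ Subgroup.zpowers z)
    (hy : ty ∉ Subgroup.closure ({z, tx} : Set S)) : False := by
  have hcomm : ∀ p ∈ ({z, tx, ty} : Set S), ∀ q ∈ ({z, tx, ty} : Set S), p * q = q * p := by
    intro p hp q hq
    simp only [Set.mem_insert_iff, Set.mem_singleton_iff] at hp hq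
    rcases hp with hp | hp | hp <;> rcases hq with hq | hq | hq <;> rw [hp, hq] <;>
      first
      | exact h1 | exact h1.symm | exact h2 | exact h2.symm | exact h3 | exact h3.symm
  have hsq : ∀ p ∈ ({z, tx, ty} : Set S), p * p = 1 := by
    intro p hp
    simp only [Set.mem_insert_iff, Set.mem_singleton_iff] at hp
    rcases hp with hp | hp | hp <;> rw [hp] <;> assumption
  have hE := sq_of_closure _ hcomm hsq
  have h4 := h8 (Subgroup.closure ({z, tx, ty} : Set S)) ⊥ bot_le (fun h hh => by
    rw [hE h hh]; exact Subgroup.one_mem _)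
  rw [Subgroup.relIndex_bot_left] at h4
  have l1 : (⊥ : Subgroup S) < Subgroup.zpowers z := by
    rw [bot_lt_iff_ne_bot]
    exact Subgroup.zpowers_ne_bot.mpr hz1
  have l2 : Subgroup.zpowers z < Subgroup.closure ({z, tx} : Set S) := by
    refine lt_of_le_of_ne ?_ ?_
    · rw [Subgroup.zpowers_le]
      exact Subgroup.subset_closure (Set.mem_insert _ _)
    · intro heq
      apply hx
      rw [heq]
      exact Subgroup.subset_closure (Set.mem_insert_of_mem _ rfl)
  have l3 : Subgroup.closure ({z, tx} : Set S) < Subgroup.closure ({z, tx, ty} : Set S) := by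
    refine lt_of_le_of_ne ?_ ?_
    · apply Subgroup.closure_mono
      intro p hp
      simp only [Set.mem_insert_iff, Set.mem_singleton_iff] at hp ⊢
      rcases hp with hp | hp
      · exact Or.inl hp
      · exact Or.inr (Or.inl hp)
    · intro heq
      apply hy
      rw [heq]
      exact Subgroup.subset_closure (Set.mem_insert_of_mem _ (Set.mem_insert_of_mem _ rfl))
  have c1 := two_mul_card_le_of_lt l1
  have c2 := two_mul_card_le_of_lt l2
  have c3 := two_mul_card_le_of_lt l3
  rw [Subgroup.card_bot] at c1
  omega

end Cfsg.Agent.Lib.Lead.MetaTwo
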