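import Mathlib
import Cfsg.Agent.Lib.Lead.MetaTwoF

/-!
# 2-groups of sectional rank at most two are metacyclic, part G (author: lead)

The case of a central commutator subgroup of exponent two, and the main theorem.
-/

set_option autoImplicit false

namespace Cfsg.Agent.Lib.Lead.MetaTwo

universe u

open scoped commutatorElement

theorem ab_of_surjective {S : Type*} [Group S] :
    Function.Surjective (Abelianization.of : S → Abelianization S) :=
  fun q => QuotientGroup.mk_surjective q

theorem ab_of_eq_one_iff {S : Type*} [Group S] (g : S) :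
    Abelianization.of g = 1 ↔ g ∈ commutator S := by
  rw [← MonoidHom.mem_ker, Abelianization.ker_of]

theorem class_two_metacyclic {S : Type*} [Group S] [Finite S] (h2 : IsPGroup 2 S) (h8 : NoE8 S)
    (hsq : ∀ u ∈ commutator S, u * u = 1)
    (hcen : ∀ u ∈ commutator S, ∀ g : S, g * u = u * g)
    (hnc : ¬ ∀ a b : S, a * b = b * a) : Cfsg.IsMetacyclic S := by
  have h2Q : IsPGroup 2 (Abelianization S) := h2.to_quotient _
  have h8Q : NoE8 (Abelianization S) := noE8_quotient h8 (commutator S)
  haveI : Finite (Abelianization S) := Finite.of_surjective _ ab_of_surjective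
  obtain ⟨xb, yb, hgenb, hdir⟩ := abelian_direct h2Q h8Q
  obtain ⟨x, rfl⟩ := ab_of_surjective xb
  obtain ⟨y, rfl⟩ := ab_of_surjective yb
  -- generation modulo the commutator subgroup
  have hgen1 : ∀ g : S, ∃ i j : ℤ, ∃ c ∈ commutator S, g = x ^ i * y ^ j * c := by
    intro g
    obtain ⟨i, j, hij⟩ := hgenb (Abelianization.of g)
    refine ⟨i, j, (x ^ i * y ^ j)⁻¹ * g, ?_, by group⟩
    rw [← ab_of_eq_one_iff, map_mul, map_inv, map_mul, map_zpow, map_zpow, hij, inv_mul_cancel]
  set z : S := ⁅x, y⁆ with hzdef
  have hzC : z ∈ commutator S :=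
    Subgroup.commutator_mem_commutator (Subgroup.mem_top x) (Subgroup.mem_top y)
  have hzc : ∀ g : S, g * z = z * g := hcen z hzC
  have hz2 : z * z = 1 := hsq z hzC
  have hZn : (Subgroup.zpowers z).Normal := zpowers_normal_of_central z hzc
  -- the commutator subgroup is generated by `z`
  have hCle : commutator S ≤ Subgroup.zpowers z := by
    apply commutator_le_of_closure _ (({x, y} : Set S) ∪ (commutator S : Set S))
    · rw [eq_top_iff]
      intro g _
      obtain ⟨i, j, c, hc, rfl⟩ := hgen1 g
      refine Subgroup.mul_mem _ (Subgroup.mul_mem _ (Subgroup.zpow_mem _ ?_ i)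
        (Subgroup.zpow_mem _ ?_ j)) ?_
      · exact Subgroup.subset_closure (Or.inl (Set.mem_insert _ _))
      · exact Subgroup.subset_closure (Or.inl (Set.mem_insert_of_mem _ rfl))
      · exact Subgroup.subset_closure (Or.inr hc)
    · have hxy : (QuotientGroup.mk x : S ⧸ Subgroup.zpowers z) * QuotientGroup.mk y =
          QuotientGroup.mk y * QuotientGroup.mk x := by
        rw [← QuotientGroup.mk_mul, ← QuotientGroup.mk_mul, QuotientGroup.eq_iff_div_mem]
        have : x * y / (y * x) = z := by
          rw [hzdef, commutatorElement_def, div_eq_mul_inv, mul_inv_rev, ← mul_assoc]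
        rw [this]
        exact Subgroup.mem_zpowers z
      have hcq : ∀ c ∈ commutator S, ∀ g : S,
          (QuotientGroup.mk g : S ⧸ Subgroup.zpowers z) * QuotientGroup.mk c =
          QuotientGroup.mk c * QuotientGroup.mk g := by
        intro c hc g
        rw [← QuotientGroup.mk_mul, ← QuotientGroup.mk_mul, hcen c hc g]
      intro p hp q hq
      rcases hp with hp | hp
      · rcases hq with hq | hq
        · simp only [Set.mem_insert_iff, Set.mem_singleton_iff] at hp hq
          rcases hp with hp | hp <;> rcases hq with hq | hq <;> rw [hp, hq] <;>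
            first
            | rfl | exact hxy | exact hxy.symm
        · exact hcq q hq p
      · exact (hcq p hp q).symm
  have hz1 : z ≠ 1 := by
    intro h1
    apply hnc
    intro a b
    have h3 : ⁅a, b⁆ ∈ Subgroup.zpowers z :=
      hCle (Subgroup.commutator_mem_commutator (Subgroup.mem_top a) (Subgroup.mem_top b))
    rw [h1, Subgroup.zpowers_one_eq_bot, Subgroup.mem_bot, commutatorElement_def] at h3
    calc a * b = (a * b * a⁻¹ * b⁻¹) * (b * a) := by group
      _ = b * a := by rw [h3, one_mul]
  have hzform : ∀ c ∈ commutator S, c = 1 ∨ c = z := by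
    intro c hc
    obtain ⟨i, rfl⟩ := hCle hc
    exact zpow_of_sq_one z hz2 i
  -- `x` and `y` generate
  have hzcl : z ∈ Subgroup.closure ({x, y} : Set S) := by
    have hx : x ∈ Subgroup.closure ({x, y} : Set S) := Subgroup.subset_closure (Set.mem_insert _ _)
    have hy : y ∈ Subgroup.closure ({x, y} : Set S) :=
      Subgroup.subset_closure (Set.mem_insert_of_mem _ rfl)
    rw [hzdef, commutatorElement_def]
    exact Subgroup.mul_mem _ (Subgroup.mul_mem _ (Subgroup.mul_mem _ hx hy) (Subgroup.inv_mem _ hx))
      (Subgroup.inv_mem _ hy)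
  have hgen : Subgroup.closure ({x, y} : Set S) = ⊤ := by
    rw [eq_top_iff]
    intro g _
    obtain ⟨i, j, c, hc, rfl⟩ := hgen1 g
    refine Subgroup.mul_mem _ (Subgroup.mul_mem _ (Subgroup.zpow_mem _ ?_ i)
      (Subgroup.zpow_mem _ ?_ j)) ?_
    · exact Subgroup.subset_closure (Set.mem_insert _ _)
    · exact Subgroup.subset_closure (Set.mem_insert_of_mem _ rfl)
    · rcases hzform c hc with h | h
      · rw [h]; exact Subgroup.one_mem _
      · rw [h]; exact hzcl
  by_cases hzx : z ∈ Subgroup.zpowers x
  · refine isMetacyclic_of_closure x y (normal_of_commutator_le _ (hCle.trans ?_)) hgen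
    rw [Subgroup.zpowers_le]; exact hzx
  by_cases hzy : z ∈ Subgroup.zpowers y
  · refine isMetacyclic_of_closure y x (normal_of_commutator_le _ (hCle.trans ?_)) ?_
    · rw [Subgroup.zpowers_le]; exact hzy
    · rw [Set.pair_comm]; exact hgen
  have hx1 : x ≠ 1 := by
    intro h
    apply hz1
    rw [hzdef, h, commutatorElement_def]; group
  have hy1 : y ≠ 1 := by
    intro h
    apply hz1
    rw [hzdef, h, commutatorElement_def]; group
  -- involutions in `⟨x⟩` and `⟨y⟩` are not in the commutator subgroup
  have hnx : ∀ t ∈ Subgroup.zpowers x, t ≠ 1 → t ∉ commutator S := by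
    intro t ht ht1 htC
    rcases hzform t htC with h | h
    · exact ht1 h
    · exact hzx (h ▸ ht)
  have hny : ∀ t ∈ Subgroup.zpowers y, t ≠ 1 → t ∉ commutator S := by
    intro t ht ht1 htC
    rcases hzform t htC with h | h
    · exact ht1 h
    · exact hzy (h ▸ ht)
  -- the key contradiction
  have hkey : ∀ tx ∈ Subgroup.zpowers x, ∀ ty ∈ Subgroup.zpowers y, tx ≠ 1 → ty ≠ 1 →
      tx * tx = 1 → ty * ty = 1 → tx * ty = ty * tx → False := by
    intro tx htx ty hty htx1 hty1 htx2 hty2 hcomm
    apply no_three_involutions h8 z tx ty hz2 htx2 hty2 (hzc tx).symm (hzc ty).symm hcomm hz1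
    · intro h
      exact hnx tx htx htx1 (by
        obtain ⟨i, rfl⟩ := h
        exact Subgroup.zpow_mem _ hzC i)
    · intro h
      -- map to the abelianization
      have hle : Subgroup.closure ({z, tx} : Set S) ≤
          (Subgroup.zpowers (Abelianization.of x)).comap Abelianization.of := by
        rw [Subgroup.closure_le]
        intro p hp
        simp only [Set.mem_insert_iff, Set.mem_singleton_iff] at hp
        rcases hp with hp | hp
        · rw [hp]
          show Abelianization.of z ∈ Subgroup.zpowers (Abelianization.of x)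
          rw [(ab_of_eq_one_iff z).2 hzC]
          exact Subgroup.one_mem _
        · rw [hp]
          obtain ⟨i, rfl⟩ := htx
          show Abelianization.of (x ^ i) ∈ Subgroup.zpowers (Abelianization.of x)
          rw [map_zpow]
          exact ⟨i, rfl⟩
      obtain ⟨i, hi⟩ := hle h
      obtain ⟨j, rfl⟩ := hty
      have hi : Abelianization.of x ^ i = Abelianization.of y ^ j := by
        rw [← map_zpow _ y j]; exact hi
      have h5 := hdir i j hi
      rw [← map_zpow, ab_of_eq_one_iff] at h5
      exact hny _ ⟨j, rfl⟩ hty1 h5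
  by_cases hx2 : x * x = 1
  · by_cases hy2 : y * y = 1
    · -- dihedral case
      have hxi : x⁻¹ = x := inv_eq_of_mul_eq_one_right hx2
      have hyi : y⁻¹ = y := inv_eq_of_mul_eq_one_right hy2
      have hzxy : z = (x * y) * (x * y) := by
        rw [hzdef, commutatorElement_def, hxi, hyi]; group
      refine isMetacyclic_of_closure (x * y) x (normal_of_commutator_le _ (hCle.trans ?_)) ?_
      · rw [Subgroup.zpowers_le, hzxy]
        exact Subgroup.mul_mem _ (Subgroup.mem_zpowers _) (Subgroup.mem_zpowers _)
      · rw [eq_top_iff, ← hgen, Subgroup.closure_le]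
        intro p hp
        simp only [Set.mem_insert_iff, Set.mem_singleton_iff] at hp
        have hx' : x ∈ Subgroup.closure ({x * y, x} : Set S) :=
          Subgroup.subset_closure (Set.mem_insert_of_mem _ rfl)
        have hxy' : x * y ∈ Subgroup.closure ({x * y, x} : Set S) :=
          Subgroup.subset_closure (Set.mem_insert _ _)
        rcases hp with hp | hp
        · rw [hp]; exact hx'
        · rw [hp]
          have hy' := Subgroup.mul_mem _ (Subgroup.inv_mem _ hx') hxy'
          rwa [inv_mul_cancel_left] at hy'
    · exfalso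
      -- a central involution in `⟨y⟩`
      obtain ⟨e, he1, he2⟩ := exists_involution_zpow h2 (y * y) hy2
      obtain ⟨e', he1', he2'⟩ := exists_involution_zpow h2 x hx1
      have hcen' : ∀ g : S, (y * y) ^ e * g = g * (y * y) ^ e := by
        intro g
        have : (y * y) ^ e = y ^ e * y ^ e := (Commute.refl y).mul_pow e
        rw [this]
        exact sq_central hsq hcen (y ^ e) g
      refine hkey (x ^ e') ⟨e', by simp⟩ ((y * y) ^ e) ?_ he1' he1 he2' he2 (hcen' _).symm
      exact Subgroup.pow_mem _ (Subgroup.mul_mem _ (Subgroup.mem_zpowers y) (Subgroup.mem_zpowers y)) e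
  · exfalso
    obtain ⟨e, he1, he2⟩ := exists_involution_zpow h2 (x * x) hx2
    obtain ⟨e', he1', he2'⟩ := exists_involution_zpow h2 y hy1
    have hcen' : ∀ g : S, (x * x) ^ e * g = g * (x * x) ^ e := by
      intro g
      have : (x * x) ^ e = x ^ e * x ^ e := (Commute.refl x).mul_pow e
      rw [this]
      exact sq_central hsq hcen (x ^ e) g
    refine hkey ((x * x) ^ e) ?_ (y ^ e') ⟨e', by simp⟩ he1 he1' he2 he2' (hcen' _)
    exact Subgroup.pow_mem _ (Subgroup.mul_mem _ (Subgroup.mem_zpowers x) (Subgroup.mem_zpowers x)) e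

end Cfsg.Agent.Lib.Lead.MetaTwo
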