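import Mathlib
import Cfsg.Agent.Lib.Lead.MetaTwoG
import Cfsg.Agent.Lib.Lead.PGroup

/-!
# 2-groups of sectional rank at most two are metacyclic, part H (author: lead)

The main theorem, by induction on the order.
-/

set_option autoImplicit false

namespace Cfsg.Agent.Lib.Lead.MetaTwo

universe u

open scoped commutatorElement

theorem metacyclic_of_noE8_aux : ∀ (n : ℕ) (S : Type u) [Group S] [Finite S], Nat.card S = n →
    IsPGroup 2 S → NoE8 S → Cfsg.IsMetacyclic S := by
  intro n
  induction n using Nat.strong_induction_on with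
  | _ n ih =>
  intro S _ _ hn h2 h8
  by_cases hab : ∀ a b : S, a * b = b * a
  · exact metacyclic_of_comm hab h2 h8
  set T : Set S := {t | ∃ u ∈ commutator S, t = u * u ∨ ∃ g : S, t = ⁅u, g⁆} with hT
  by_cases hN : Subgroup.normalClosure T = ⊥
  · have hT1 : ∀ t ∈ T, t = 1 := by
      intro t ht
      have : t ∈ Subgroup.normalClosure T := Subgroup.subset_normalClosure ht
      rwa [hN, Subgroup.mem_bot] at this
    apply class_two_metacyclic h2 h8 _ _ hab
    · intro u hu
      exact hT1 _ ⟨u, hu, Or.inl rfl⟩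
    · intro u hu g
      have h1 : ⁅u, g⁆ = 1 := hT1 _ ⟨u, hu, Or.inr ⟨g, rfl⟩⟩
      rw [commutatorElement_def] at h1
      calc g * u = (u * g * u⁻¹ * g⁻¹)⁻¹ * (u * g) := by group
        _ = u * g := by rw [h1, inv_one, one_mul]
  · haveI : Fact (Nat.Prime 2) := ⟨Nat.prime_two⟩
    obtain ⟨z0, hz0N, hz0c, hz01⟩ :=
      Cfsg.Agent.Lib.Lead.PGroup.exists_mem_center_of_normal h2 (Subgroup.normalClosure T) hN
    obtain ⟨e, hze1, hze2⟩ := exists_involution_zpow h2 z0 hz01
    set z : S := z0 ^ e with hz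
    have hzN : z ∈ Subgroup.normalClosure T := Subgroup.pow_mem _ hz0N e
    have hzc : ∀ g : S, g * z = z * g := by
      have : z ∈ Subgroup.center S := Subgroup.pow_mem _ hz0c e
      exact Subgroup.mem_center_iff.mp this
    haveI hZn : (Subgroup.zpowers z).Normal := zpowers_normal_of_central z hzc
    have hlt : Nat.card (S ⧸ Subgroup.zpowers z) < n := by
      rw [← hn, ← Subgroup.index_eq_card, ← Subgroup.card_mul_index (Subgroup.zpowers z)]
      have h1 : 2 ≤ Nat.card (Subgroup.zpowers z) := by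
        rw [Nat.card_zpowers]
        have h0 : 0 < orderOf z := orderOf_pos z
        have h1 : orderOf z ≠ 1 := by
          rw [Ne, orderOf_eq_one_iff]
          exact hze1
        omega
      have h0 : 0 < (Subgroup.zpowers z).index := Nat.pos_of_ne_zero Subgroup.index_ne_zero_of_finite
      nlinarith
    obtain ⟨N, hNn, hNc, hQc⟩ := ih _ hlt (S ⧸ Subgroup.zpowers z) rfl (h2.to_quotient _)
      (noE8_quotient h8 _)
    obtain ⟨⟨abar, habar⟩⟩ := hNc
    obtain ⟨⟨bbar, hbbar⟩⟩ := hQc
    obtain ⟨a, ha⟩ := QuotientGroup.mk_surjective (abar : S ⧸ Subgroup.zpowers z)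
    obtain ⟨b', rfl⟩ := QuotientGroup.mk_surjective bbar
    obtain ⟨b, rfl⟩ := QuotientGroup.mk_surjective b'
    have hAform : ∀ u ∈ N.comap (QuotientGroup.mk' (Subgroup.zpowers z)),
        ∃ i e : ℤ, u = a ^ i * z ^ e := by
      intro u hu
      rw [Subgroup.mem_comap] at hu
      obtain ⟨i, hi⟩ := habar ⟨_, hu⟩
      have hi' : ((abar ^ i : N) : S ⧸ Subgroup.zpowers z) = QuotientGroup.mk u := by
        have := congrArg Subtype.val hi
        exact this
      rw [Subgroup.coe_zpow, ← ha, ← QuotientGroup.mk_zpow, QuotientGroup.eq] at hi'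
      obtain ⟨e, he⟩ := hi'
      refine ⟨i, e, ?_⟩
      have he : z ^ e = (a ^ i)⁻¹ * u := he
      rw [he]; group
    apply lift_metacyclic h2 z a b hzc hze2 (N.comap (QuotientGroup.mk' (Subgroup.zpowers z)))
      (hNn.comap _) ?_ hAform ?_ ?_
    · rw [Subgroup.mem_comap]
      show (QuotientGroup.mk a : S ⧸ Subgroup.zpowers z) ∈ N
      rw [ha]
      exact abar.2
    · rw [eq_top_iff]
      intro g _
      obtain ⟨j, hj⟩ := hbbar (QuotientGroup.mk (QuotientGroup.mk g))
      have hj : (QuotientGroup.mk (QuotientGroup.mk b : S ⧸ Subgroup.zpowers z) :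
          (S ⧸ Subgroup.zpowers z) ⧸ N) ^ j = QuotientGroup.mk (QuotientGroup.mk g) := hj
      rw [← QuotientGroup.mk_zpow, QuotientGroup.eq, ← QuotientGroup.mk_zpow, ← QuotientGroup.mk_inv,
        ← QuotientGroup.mk_mul] at hj
      obtain ⟨i, e', hie⟩ := hAform ((b ^ j)⁻¹ * g) hj
      have hg : g = b ^ j * (a ^ i * z ^ e') := by rw [← hie]; group
      rw [hg]
      refine Subgroup.mul_mem _ (Subgroup.zpow_mem _ ?_ j) (Subgroup.mul_mem _
        (Subgroup.zpow_mem _ ?_ i) (Subgroup.zpow_mem _ ?_ e'))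
      · exact Subgroup.subset_closure (Set.mem_insert_of_mem _ (Set.mem_insert _ _))
      · exact Subgroup.subset_closure (Set.mem_insert _ _)
      · exact Subgroup.subset_closure (Set.mem_insert_of_mem _ (Set.mem_insert_of_mem _ rfl))
    · intro K hK hK1 hK2
      haveI := hK
      have hle : Subgroup.normalClosure T ≤ K := by
        apply Subgroup.normalClosure_le_normal
        rintro t ⟨u, hu, rfl | ⟨g, rfl⟩⟩
        · exact hK1 u hu
        · exact hK2 u hu g
      exact hle hzN

theorem metacyclic_of_noE8 {S : Type u} [Group S] [Finite S] (h2 : IsPGroup 2 S) (h8 : NoE8 S) :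
    Cfsg.IsMetacyclic S :=
  metacyclic_of_noE8_aux _ S rfl h2 h8

end Cfsg.Agent.Lib.Lead.MetaTwo
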