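import Cfsg.Agent.Lib.Lead.MultE
import Cfsg.Agent.Lib.Lead.EmbE67
import Cfsg.Agent.Lib.Lead.MSPerfect
import Cfsg.Agent.Lib.Helper5.Chev.HcE6
import Cfsg.Agent.Lib.Helper5.Chev.HcE7

/-!
# The Schur multiplier of `E₆(q)` (lead)
-/

set_option autoImplicit false

namespace Cfsg.Agent.RootEmb

open Cfsg.Lie Cfsg.Agent.Lib.Helper5.Chev Cfsg.Agent.Lib.Helper5.St Cfsg.Agent.Lib.Helper5.Tw
  Cfsg.Agent.Lib.Helper5.UC

universe u

/-- roots of `E₇` whose Cartan integers against the fundamental roots of `E₆` form a unimodular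
matrix -/
def v67 (j : ℕ) : ℕ := [6, 28, 63, 111, 115, 122].getD j 0

/-- the inverse matrix -/
def B67 (j m : ℕ) : ℤ :=
  ([[-1, -1, 0, -1, 0, 0], [-1, 0, 0, 0, 0, 0], [1, 0, 0, 0, 0, -1], [0, 0, 1, 0, 0, 0],
    [0, 0, 1, 1, 1, 0], [0, 0, 1, 0, 1, 0]].getD j []).getD m 0

set_option maxRecDepth 1000000 in
theorem v67_lt : ∀ j < chevE6.rank, v67 j < chevE7.nroots := by decide +kernel

set_option maxRecDepth 1000000 in
theorem hAB67 : ∀ k m : Fin chevE6.rank,
    ∑ j : Fin chevE6.rank, chevE7.cartan k (v67 j) * B67 j m = if k = m then 1 else 0 := by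
  decide +kernel

section

variable {K : Type u} [Field K] [Fintype K]

theorem card_ker_E6 :
    Nat.card (zact (G := Kˣ) (cartanM chevE6)).ker = Nat.gcd 3 (Fintype.card K - 1) := by
  classical
  have hcard : Nat.card Kˣ = Fintype.card K - 1 := by
    rw [Nat.card_eq_fintype_card, Fintype.card_units]
  have hker := card_ker_zact_of_snf (G := Kˣ) (cartanA chevE6) HcE6.P HcE6.P' HcE6.Q HcE6.Q'
    HcE6.d HcE6.hP HcE6.hP2 HcE6.hQ HcE6.hS
  rw [ker_cartanM_eq HcE6.Mt HcE6.hC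
    (fun j hj => (simple_lt_all chevE6 (by simp) j hj).1), hker, hcard]
  show ∏ i : Fin 6, (Fintype.card K - 1).gcd (HcE6.d i) = _
  simp [Fin.prod_univ_succ, HcE6.d, HcE6.dL, Nat.gcd_comm]

theorem multiplier_E6 :
    Cfsg.HasCyclicSchurMultiplier ↥(chevE6.group K) (Nat.gcd 3 (Fintype.card K - 1)) := by
  apply hasCyclic_of_cover (K := K) (D := chevE6) (by simp) _ _ card_ker_E6
  · intro hmul hcomm
    exact torus_injective' (by simp) (by simp) emb67 hmul hcomm v67 v67_lt B67 hAB67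
  · exact Cfsg.Agent.MilnorStein.cover_perfect_E6
  · intro Y _ ψ hs hc
    exact Cfsg.Agent.MilnorStein.cover_splits_E6 ψ hs hc
  · have h3 : Nat.gcd 3 (Fintype.card K - 1) ∣ 3 := Nat.gcd_dvd_left _ _
    rcases (Nat.dvd_prime Nat.prime_three).1 h3 with h | h
    · exact Or.inl h
    · right; rw [h]; exact Nat.prime_three

end

end Cfsg.Agent.RootEmb
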