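import Cfsg.Agent.Lib.Lead.MultE
import Cfsg.Agent.Lib.Lead.EmbE78
import Cfsg.Agent.Lib.Lead.MSPerfect
import Cfsg.Agent.Lib.Helper5.Chev.HcE7
import Cfsg.Agent.Lib.Helper5.Chev.HcE8

/-!
# The Schur multiplier of `E₇(q)` (lead)
-/

set_option autoImplicit false

namespace Cfsg.Agent.RootEmb

open Cfsg.Lie Cfsg.Agent.Lib.Helper5.Chev Cfsg.Agent.Lib.Helper5.St Cfsg.Agent.Lib.Helper5.Tw
  Cfsg.Agent.Lib.Helper5.UC

universe u

/-- roots of `E₈` whose Cartan integers against the fundamental roots of `E₇` form a unimodular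
matrix -/
def v78 (j : ℕ) : ℕ := [3, 13, 20, 25, 62, 105, 106].getD j 0

/-- the inverse matrix -/
def B78 (j m : ℕ) : ℤ :=
  ([[0, 0, 0, 0, 0, 1, 0], [-1, 0, -1, -1, -1, -1, 0], [0, 0, -1, -1, 0, 0, 0],
    [0, -1, 0, -1, -1, -1, 0], [0, 0, 0, 0, 1, 1, 0], [0, 1, 0, 0, 0, 0, 1],
    [0, 0, 0, 0, 0, 0, -1]].getD j []).getD m 0

set_option maxRecDepth 1000000 in
theorem v78_lt : ∀ j < chevE7.rank, v78 j < chevE8.nroots := by decide +kernel

set_option maxRecDepth 1000000 in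
theorem hAB78 : ∀ k m : Fin chevE7.rank,
    ∑ j : Fin chevE7.rank, chevE8.cartan k (v78 j) * B78 j m = if k = m then 1 else 0 := by
  decide +kernel

section

variable {K : Type u} [Field K] [Fintype K]

theorem card_ker_E7 :
    Nat.card (zact (G := Kˣ) (cartanM chevE7)).ker = Nat.gcd 2 (Fintype.card K - 1) := by
  classical
  have hcard : Nat.card Kˣ = Fintype.card K - 1 := by
    rw [Nat.card_eq_fintype_card, Fintype.card_units]
  have hker := card_ker_zact_of_snf (G := Kˣ) (cartanA chevE7) HcE7.P HcE7.P' HcE7.Q HcE7.Q'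
    HcE7.d HcE7.hP HcE7.hP2 HcE7.hQ HcE7.hS
  rw [ker_cartanM_eq HcE7.Mt HcE7.hC
    (fun j hj => (simple_lt_all chevE7 (by simp) j hj).1), hker, hcard]
  show ∏ i : Fin 7, (Fintype.card K - 1).gcd (HcE7.d i) = _
  simp [Fin.prod_univ_succ, HcE7.d, HcE7.dL, Nat.gcd_comm]

theorem multiplier_E7 :
    Cfsg.HasCyclicSchurMultiplier ↥(chevE7.group K) (Nat.gcd 2 (Fintype.card K - 1)) := by
  apply hasCyclic_of_cover (K := K) (D := chevE7) (by simp) _ _ card_ker_E7
  · intro hmul hcomm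
    exact torus_injective' (by simp) (by simp) emb78 hmul hcomm v78 v78_lt B78 hAB78
  · exact Cfsg.Agent.MilnorStein.cover_perfect_E7
  · intro Y _ ψ hs hc
    exact Cfsg.Agent.MilnorStein.cover_splits_E7 ψ hs hc
  · have h2 : Nat.gcd 2 (Fintype.card K - 1) ∣ 2 := Nat.gcd_dvd_left _ _
    rcases (Nat.dvd_prime Nat.prime_two).1 h2 with h | h
    · exact Or.inl h
    · right; rw [h]; exact Nat.prime_two

end

end Cfsg.Agent.RootEmb
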