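import Mathlib
import Cfsg.Prelude.Def_CaseTheorems
import Cfsg.Agent.Lib.Helper7.Core
import Cfsg.Agent.Lib.Lead.PGroup

/-!
A normal four-subgroup `U` of a Sylow 2-subgroup of a group of characteristic 2 type centralizes
every subgroup of odd order that it normalizes (author: lead).  Elementary: stability argument and a
dihedral argument.
-/

set_option autoImplicit false

namespace Cfsg.Agent.Lib.Lead.NFour

open Cfsg

variable {G : Type*} [Group G]

/-- In a subgroup of odd order, an element with trivial square is trivial. -/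
theorem eq_one_of_sq_of_odd [Finite G] (K : Subgroup G) (hK : Odd (Nat.card K)) (k : G)
    (hk : k ∈ K) (h : k * k = 1) : k = 1 := by
  have h1 : orderOf (⟨k, hk⟩ : K) ∣ Nat.card K := orderOf_dvd_natCard _
  have h2 : orderOf (⟨k, hk⟩ : K) ∣ 2 := by
    apply orderOf_dvd_of_pow_eq_one
    apply Subtype.ext
    simp [pow_two, h]
  have h3 : orderOf (⟨k, hk⟩ : K) = 1 := by
    rcases (Nat.dvd_prime Nat.prime_two).mp h2 with h' | h'
    · exact h'
    · rw [h'] at h1
      exact absurd (even_iff_two_dvd.mpr h1) (Nat.not_even_iff_odd.mpr hK)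
  have h4 := orderOf_eq_one_iff.mp h3
  exact congrArg Subtype.val h4

theorem pattern [Finite G] (U K : Subgroup G) (hK : Odd (Nat.card K))
    (hcomm : ∀ x ∈ U, ∀ y ∈ U, x * y = y * x) (hexp : ∀ x ∈ U, x * x = 1)
    (hB : ∀ x ∈ U, x ≠ 1 → ∀ k ∈ K, k * x = x * k → ∀ y ∈ U, k * y = y * k)
    (x w k' : G) (hx : x ∈ U) (hx1 : x ≠ 1) (hw : w ∈ U) (hk' : k' ∈ K)
    (hsq : (w * k') * (w * k') = 1) (hxc : x * (w * k') = (w * k') * x) : k' = 1 := by
  have h1 : x * w = w * x := hcomm x hx w hw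
  have h2 : k' * x = x * k' := by
    have : w * (x * k') = w * (k' * x) := by
      calc w * (x * k') = (w * x) * k' := by group
        _ = (x * w) * k' := by rw [h1]
        _ = x * (w * k') := by group
        _ = (w * k') * x := hxc
        _ = w * (k' * x) := by group
    exact (mul_left_cancel this).symm
  have h3 : k' * w = w * k' := hB x hx hx1 k' hk' h2 w hw
  have h4 : k' * k' = 1 := by
    calc k' * k' = (w * w) * (k' * k') := by rw [hexp w hw, one_mul]
      _ = w * (w * k') * k' := by group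
      _ = w * (k' * w) * k' := by rw [h3]
      _ = (w * k') * (w * k') := by group
      _ = 1 := hsq
  exact eq_one_of_sq_of_odd K hK k' hk' h4

/-- The dihedral argument: if for every nonidentity `x ∈ U` the centralizer `C_K(x)` is centralized by
all of `U`, then `K` is centralized by `U` (here for the product of two nonidentity elements). -/
theorem commute_of_local [Finite G] (U K : Subgroup G) (hK : Odd (Nat.card K))
    (hUK : U ≤ Subgroup.normalizer (K : Set G))
    (hcomm : ∀ x ∈ U, ∀ y ∈ U, x * y = y * x) (hexp : ∀ x ∈ U, x * x = 1)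
    (hB : ∀ x ∈ U, x ≠ 1 → ∀ k ∈ K, k * x = x * k → ∀ y ∈ U, k * y = y * k)
    (u v : G) (hu : u ∈ U) (hv : v ∈ U) (hu1 : u ≠ 1) (hv1 : v ≠ 1)
    (k : G) (hk : k ∈ K) : k * (u * v) = (u * v) * k := by
  obtain ⟨w, hw_def⟩ : ∃ w, w = u * v := ⟨_, rfl⟩
  rw [← hw_def]
  have hw : w ∈ U := hw_def ▸ U.mul_mem hu hv
  have hnorm : ∀ y ∈ U, ∀ a ∈ K, y * a * y⁻¹ ∈ K := fun y hy a ha =>
    ((Subgroup.mem_normalizer_iff.mp (hUK hy)) a).mp ha
  have hnorm' : ∀ y ∈ U, ∀ a ∈ K, y⁻¹ * a * y ∈ K := fun y hy a ha => by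
    have := hnorm y⁻¹ (U.inv_mem hy) a ha
    simpa using this
  have hinv : ∀ y : G, y * y = 1 → y⁻¹ = y := fun y hy => inv_eq_of_mul_eq_one_left hy
  have hww : w * w = 1 := hexp w hw
  have huu : u * u = 1 := hexp u hu
  have hvv : v * v = 1 := hexp v hv
  obtain ⟨b, hb_def⟩ : ∃ b, b = k⁻¹ * v * k := ⟨_, rfl⟩
  have hbb : b * b = 1 := by
    rw [hb_def]
    calc k⁻¹ * v * k * (k⁻¹ * v * k) = k⁻¹ * (v * v) * k := by group
      _ = 1 := by rw [hvv]; group
  obtain ⟨c, hc_def⟩ : ∃ c, c = u * b := ⟨_, rfl⟩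
  -- the coset `wK`
  have hcC : w⁻¹ * c ∈ K := by
    have h1 : w⁻¹ * c = (v⁻¹ * k⁻¹ * v) * k := by
      rw [hc_def, hb_def, hw_def]; group
    rw [h1]
    exact K.mul_mem (hnorm' v hv k⁻¹ (K.inv_mem hk)) hk
  have mulCK : ∀ g h : G, w⁻¹ * g ∈ K → w⁻¹ * h ∈ K → g * h ∈ K := by
    intro g h hg hh
    have h1 : g * h = (w * w) * (w⁻¹ * (w⁻¹ * g) * w) * (w⁻¹ * h) := by group
    rw [h1, hww, one_mul]
    exact K.mul_mem (hnorm' w hw _ hg) hh
  have mulKC : ∀ g h : G, g ∈ K → w⁻¹ * h ∈ K → w⁻¹ * (g * h) ∈ K := by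
    intro g h hg hh
    have h1 : w⁻¹ * (g * h) = (w⁻¹ * g * w) * (w⁻¹ * h) := by group
    rw [h1]
    exact K.mul_mem (hnorm' w hw _ hg) hh
  have hccK : c * c ∈ K := mulCK c c hcC hcC
  have hpowC : ∀ j : ℕ, w⁻¹ * c ^ (2 * j + 1) ∈ K := by
    intro j
    induction j with
    | zero => simpa using hcC
    | succ j ih =>
      have h1 : c ^ (2 * (j + 1) + 1) = (c * c) * c ^ (2 * j + 1) := by
        rw [show 2 * (j + 1) + 1 = 2 + (2 * j + 1) by ring, pow_add, pow_two]
      rw [h1]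
      exact mulKC _ _ hccK ih
  -- the odd order of `c * c`
  have hodd : Odd (orderOf (c * c)) := by
    have h1 : orderOf (⟨c * c, hccK⟩ : K) ∣ Nat.card K := orderOf_dvd_natCard _
    have h2 : orderOf (⟨c * c, hccK⟩ : K) = orderOf (c * c) := Subgroup.orderOf_mk _ _
    rw [h2] at h1
    exact Odd.of_dvd_nat hK h1
  obtain ⟨j, hj⟩ := hodd
  obtain ⟨t, ht_def⟩ : ∃ t, t = c ^ (2 * j + 1) := ⟨_, rfl⟩
  have htt : t * t = 1 := by
    rw [ht_def, ← pow_add, show 2 * j + 1 + (2 * j + 1) = 2 * (2 * j + 1) by ring, pow_mul, pow_two,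
      ← hj]
    exact pow_orderOf_eq_one _
  have htC : w⁻¹ * t ∈ K := ht_def ▸ hpowC j
  have hbinv : b⁻¹ = b := hinv b hbb
  have huinv : u⁻¹ = u := hinv u huu
  have hcinv : c⁻¹ = b * u := by
    rw [hc_def, mul_inv_rev, hbinv, huinv]
  have hucu : u * c * u⁻¹ = c⁻¹ := by
    rw [hcinv, hc_def, huinv]
    calc u * (u * b) * u = (u * u) * b * u := by group
      _ = b * u := by rw [huu, one_mul]
  have hbcb : b * c * b⁻¹ = c⁻¹ := by
    rw [hcinv, hc_def, hbinv]
    calc b * (u * b) * b = b * u * (b * b) := by group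
      _ = b * u := by rw [hbb, mul_one]
  have htinv : t⁻¹ = t := hinv t htt
  have hut : u * t = t * u := by
    have h1 : u * t * u⁻¹ = t := by
      rw [ht_def, ← conj_pow, hucu, inv_pow, ← ht_def, htinv]
    calc u * t = (u * t * u⁻¹) * u := by group
      _ = t * u := by rw [h1]
  have hbt : b * t = t * b := by
    have h1 : b * t * b⁻¹ = t := by
      rw [ht_def, ← conj_pow, hbcb, inv_pow, ← ht_def, htinv]
    calc b * t = (b * t * b⁻¹) * b := by group
      _ = t * b := by rw [h1]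
  -- `t = w`
  have htw : t = w := by
    have ht1 : t = w * (w⁻¹ * t) := by group
    have h1 : w⁻¹ * t = 1 := by
      apply pattern U K hK hcomm hexp hB u w (w⁻¹ * t) hu hu1 hw htC
      · rw [← ht1]; exact htt
      · rw [← ht1]; exact hut
    rw [ht1, h1, mul_one]
  rw [htw] at hbt
  -- conjugate `w' = k w k⁻¹` commutes with `v`
  obtain ⟨w', hw'_def⟩ : ∃ w', w' = k * w * k⁻¹ := ⟨_, rfl⟩
  have hvw' : v * w' = w' * v := by
    rw [hw'_def]
    calc v * (k * w * k⁻¹) = k * ((k⁻¹ * v * k) * w) * k⁻¹ := by group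
      _ = k * (w * (k⁻¹ * v * k)) * k⁻¹ := by rw [← hb_def, hbt]
      _ = k * w * k⁻¹ * v := by group
  have hw'w' : w' * w' = 1 := by
    rw [hw'_def]
    calc k * w * k⁻¹ * (k * w * k⁻¹) = k * (w * w) * k⁻¹ := by group
      _ = 1 := by rw [hww]; group
  have hw'C : w⁻¹ * w' ∈ K := by
    have h1 : w⁻¹ * w' = (w⁻¹ * k * w) * k⁻¹ := by rw [hw'_def]; group
    rw [h1]
    exact K.mul_mem (hnorm' w hw k hk) (K.inv_mem hk)
  have hw'w : w' = w := by
    have ht1 : w' = w * (w⁻¹ * w') := by group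
    have h1 : w⁻¹ * w' = 1 := by
      apply pattern U K hK hcomm hexp hB v w (w⁻¹ * w') hv hv1 hw hw'C
      · rw [← ht1]; exact hw'w'
      · rw [← ht1]; exact hvw'
    rw [ht1, h1, mul_one]
  calc k * w = (k * w * k⁻¹) * k := by group
    _ = w * k := by rw [← hw'_def, hw'w]

/-- A Klein four-group is `{1, u, v, uv}`. -/
theorem klein_cases [Finite G] (U : Subgroup G) [IsKleinFour U] {u v : G} (hu : u ∈ U) (hv : v ∈ U)
    (hu1 : u ≠ 1) (hv1 : v ≠ 1) (huv : u ≠ v) :
    ∀ g ∈ U, g = 1 ∨ g = u ∨ g = v ∨ g = u * v := by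
  classical
  intro g hg
  letI : Fintype U := Fintype.ofFinite U
  have h := IsKleinFour.eq_finset_univ (G := U) (x := ⟨u, hu⟩) (y := ⟨v, hv⟩)
    (by intro h; exact hu1 (congrArg Subtype.val h)) (by intro h; exact hv1 (congrArg Subtype.val h))
    (by intro h; exact huv (congrArg Subtype.val h))
  have hg' : (⟨g, hg⟩ : U) ∈ (Finset.univ : Finset U) := Finset.mem_univ _
  rw [← h] at hg'
  simp only [Finset.mem_insert, Finset.mem_singleton] at hg'
  rcases hg' with h | h | h | h
  · right; right; right; exact congrArg Subtype.val h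
  · right; left; exact congrArg Subtype.val h
  · right; right; left; exact congrArg Subtype.val h
  · left; exact congrArg Subtype.val h

theorem klein_sq (U : Subgroup G) [IsKleinFour U] : ∀ x ∈ U, x * x = 1 := by
  intro x hx
  have h1 : (⟨x, hx⟩ : U) ^ Monoid.exponent U = 1 := Monoid.pow_exponent_eq_one _
  rw [IsKleinFour.exponent_two, pow_two] at h1
  exact congrArg Subtype.val h1

theorem klein_comm (U : Subgroup G) [IsKleinFour U] : ∀ x ∈ U, ∀ y ∈ U, x * y = y * x := by
  intro x hx y hy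
  have hx2 := klein_sq U x hx
  have hy2 := klein_sq U y hy
  have hxy2 := klein_sq U (x * y) (U.mul_mem hx hy)
  have h1 : (x * y)⁻¹ = x * y := inv_eq_of_mul_eq_one_left hxy2
  have h2 : x⁻¹ = x := inv_eq_of_mul_eq_one_left hx2
  have h3 : y⁻¹ = y := inv_eq_of_mul_eq_one_left hy2
  rw [mul_inv_rev, h2, h3] at h1
  exact h1.symm

theorem klein_exists_other [Finite G] (U : Subgroup G) [IsKleinFour U] (u : G) :
    ∃ v ∈ U, v ≠ 1 ∧ v ≠ u := by
  classical
  by_contra hcon
  push Not at hcon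
  have hcard : Nat.card U = 4 := IsKleinFour.card_four
  have hinj : Function.Injective (fun x : U => decide ((x : G) = 1)) := by
    intro x y hxy
    simp only [decide_eq_decide] at hxy
    by_cases hx : (x : G) = 1
    · have hy := hxy.mp hx
      exact Subtype.ext (hx.trans hy.symm)
    · have hy : ¬ (y : G) = 1 := fun h => hx (hxy.mpr h)
      exact Subtype.ext ((hcon x x.2 hx).trans (hcon y y.2 hy).symm)
  have h := Nat.card_le_card_of_injective _ hinj
  rw [hcard] at h
  simp at h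

/-- Elements of the group generated by an involution. -/
theorem mem_zpowers_of_sq (u : G) (huu : u * u = 1) :
    ∀ g ∈ Subgroup.zpowers u, g = 1 ∨ g = u := by
  intro g hg
  obtain ⟨i, rfl⟩ := Subgroup.mem_zpowers_iff.mp hg
  have h2 : u ^ (2 : ℤ) = 1 := by
    rw [zpow_two]; exact huu
  have h3 : u ^ i = u ^ (i % 2) := by
    conv_lhs => rw [← Int.mul_ediv_add_emod i 2]
    rw [zpow_add, zpow_mul, h2, one_zpow, one_mul]
  rcases Int.emod_two_eq_zero_or_one i with h | h
  · left; rw [h3, h, zpow_zero]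
  · right; rw [h3, h, zpow_one]

theorem mem_normalizer_zpowers_iff (u : G) (huu : u * u = 1) (hu1 : u ≠ 1) (g : G) :
    g ∈ Subgroup.normalizer ((Subgroup.zpowers u : Subgroup G) : Set G) ↔ g * u = u * g := by
  constructor
  · intro hg
    have h1 : g * u * g⁻¹ ∈ Subgroup.zpowers u :=
      ((Subgroup.mem_normalizer_iff.mp hg) u).mp (Subgroup.mem_zpowers u)
    rcases mem_zpowers_of_sq u huu _ h1 with h | h
    · exfalso
      apply hu1
      have : u = g⁻¹ * (g * u * g⁻¹) * g := by group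
      rw [this, h]; group
    · calc g * u = (g * u * g⁻¹) * g := by group
        _ = u * g := by rw [h]
  · intro hg
    rw [Subgroup.mem_normalizer_iff]
    intro h
    have key : ∀ x ∈ Subgroup.zpowers u, g * x * g⁻¹ = x := by
      intro x hx
      rcases mem_zpowers_of_sq u huu x hx with h | h
      · rw [h]; group
      · rw [h, hg]; group
    constructor
    · intro hh
      rw [key h hh]; exact hh
    · intro hh
      have h1 := key _ hh
      have h2 : g * h * g⁻¹ = h := by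
        have h3 : g⁻¹ * (g * (g * h * g⁻¹) * g⁻¹) * g = g⁻¹ * (g * h * g⁻¹) * g := by rw [h1]
        calc g * h * g⁻¹ = g⁻¹ * (g * (g * h * g⁻¹) * g⁻¹) * g := by group
          _ = g⁻¹ * (g * h * g⁻¹) * g := h3
          _ = h := by group
      rw [← h2]; exact hh

/-- The interface with `IsCharacteristicTwoType`: `O_2` of a 2-local, as a subgroup of `G`. -/
theorem charTwo_interface (h2 : IsCharacteristicTwoType G) (T : Subgroup G) (hT : IsPGroup 2 T)
    (hT1 : T ≠ ⊥) :
    ∃ Q : Subgroup G, Q ≤ Subgroup.normalizer (T : Set G) ∧ IsPGroup 2 Q ∧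
      (∀ n ∈ Subgroup.normalizer (T : Set G), ∀ q ∈ Q, n * q * n⁻¹ ∈ Q) ∧
      (∀ M : Subgroup G, M ≤ Subgroup.normalizer (T : Set G) → IsPGroup 2 M →
        (∀ n ∈ Subgroup.normalizer (T : Set G), ∀ m ∈ M, n * m * n⁻¹ ∈ M) → M ≤ Q) ∧
      (∀ g ∈ Subgroup.normalizer (T : Set G), (∀ q ∈ Q, g * q = q * g) → g ∈ Q) := by
  obtain ⟨N, hN⟩ : ∃ N : Subgroup G, N = Subgroup.normalizer (T : Set G) := ⟨_, rfl⟩
  have hchar : Subgroup.centralizer (pCore 2 ↥N : Set ↥N) ≤ pCore 2 ↥N := by
    have := h2.2 T hT hT1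
    rw [← hN] at this
    exact this
  rw [← hN]
  refine ⟨(pCore 2 ↥N).map N.subtype, Subgroup.map_subtype_le _,
    (Cfsg.Agent.Lib.Helper7.pCore_isPGroup 2 ↥N).map _, ?_, ?_, ?_⟩
  · rintro n hn q ⟨q', hq', rfl⟩
    have hnorm := Cfsg.Agent.Lib.Helper7.pCore_normal 2 ↥N
    exact ⟨⟨n, hn⟩ * q' * ⟨n, hn⟩⁻¹, hnorm.conj_mem q' hq' ⟨n, hn⟩, by simp⟩
  · intro M hMN hM2 hMnorm
    have hnormal : (M.subgroupOf N).Normal := by
      refine ⟨fun m hm n => ?_⟩
      rw [Subgroup.mem_subgroupOf] at hm ⊢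
      have := hMnorm n n.2 m hm
      simpa using this
    have hp : IsPGroup 2 (M.subgroupOf N) := hM2.comap_subtype
    have hle := Cfsg.Agent.Lib.Helper7.le_pCore hnormal hp
    intro m hm
    exact ⟨⟨m, hMN hm⟩, hle (by rw [Subgroup.mem_subgroupOf]; exact hm), rfl⟩
  · intro g hg hcent
    refine ⟨⟨g, hg⟩, hchar ?_, rfl⟩
    rw [Subgroup.mem_centralizer_iff]
    intro q hq
    apply Subtype.ext
    have := hcent q ⟨q, hq, rfl⟩
    simpa using this.symm

/-- The stability argument. -/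
theorem le_of_stability (N Q U : Subgroup G) (u : G)
    (hQN : Q ≤ N) (hQ2 : IsPGroup 2 Q) (hQnorm : ∀ n ∈ N, ∀ q ∈ Q, n * q * n⁻¹ ∈ Q)
    (hQmax : ∀ M : Subgroup G, M ≤ N → IsPGroup 2 M → (∀ n ∈ N, ∀ m ∈ M, n * m * n⁻¹ ∈ M) → M ≤ Q)
    (hQcent : ∀ g ∈ N, (∀ q ∈ Q, g * q = q * g) → g ∈ Q)
    (hu : ∀ n ∈ N, n * u = u * n) (huu : u * u = 1)
    (hUN : U ≤ N)
    (hcomm : ∀ y ∈ U, ∀ q ∈ Q, y * q * y⁻¹ = q ∨ y * q * y⁻¹ = u * q) :
    U ≤ Q := by
  have hQnorm' : ∀ n ∈ N, ∀ q ∈ Q, n⁻¹ * q * n ∈ Q := fun n hn q hq => by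
    have := hQnorm n⁻¹ (N.inv_mem hn) q hq
    simpa using this
  have huinv : u⁻¹ = u := inv_eq_of_mul_eq_one_left huu
  -- conjugating `u * q`
  have hconj_u : ∀ n ∈ N, ∀ q : G, n * (u * q) * n⁻¹ = u * (n * q * n⁻¹) := by
    intro n hn q
    calc n * (u * q) * n⁻¹ = (n * u) * q * n⁻¹ := by group
      _ = (u * n) * q * n⁻¹ := by rw [hu n hn]
      _ = u * (n * q * n⁻¹) := by group
  let M : Subgroup G :=
    { carrier := {c | c ∈ N ∧ ∀ q ∈ Q, c * q * c⁻¹ = q ∨ c * q * c⁻¹ = u * q}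
      one_mem' := ⟨N.one_mem, fun q _ => Or.inl (by group)⟩
      mul_mem' := by
        rintro c d ⟨hc, hc'⟩ ⟨hd, hd'⟩
        refine ⟨N.mul_mem hc hd, fun q hq => ?_⟩
        have h1 : c * d * q * (c * d)⁻¹ = c * (d * q * d⁻¹) * c⁻¹ := by group
        rw [h1]
        rcases hd' q hq with h | h
        · rw [h]; exact hc' q hq
        · rw [h, hconj_u c hc q]
          rcases hc' q hq with h' | h'
          · right; rw [h']
          · left; rw [h', ← mul_assoc, huu, one_mul]
      inv_mem' := by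
        rintro c ⟨hc, hc'⟩
        refine ⟨N.inv_mem hc, fun q hq => ?_⟩
        have hq' : c⁻¹ * q * c ∈ Q := hQnorm' c hc q hq
        have h0 : c * (c⁻¹ * q * c) * c⁻¹ = q := by group
        rw [inv_inv]
        rcases hc' _ hq' with h | h
        · left; rw [h0] at h; exact h.symm
        · right
          rw [h0] at h
          calc c⁻¹ * q * c = (u * u) * (c⁻¹ * q * c) := by rw [huu, one_mul]
            _ = u * (u * (c⁻¹ * q * c)) := by group
            _ = u * q := by rw [← h] }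
  have hM_mem : ∀ c, c ∈ M ↔ c ∈ N ∧ ∀ q ∈ Q, c * q * c⁻¹ = q ∨ c * q * c⁻¹ = u * q :=
    fun c => Iff.rfl
  have hMN : M ≤ N := fun c hc => ((hM_mem c).mp hc).1
  have hMnorm : ∀ n ∈ N, ∀ m ∈ M, n * m * n⁻¹ ∈ M := by
    intro n hn m hm
    obtain ⟨hmN, hm'⟩ := (hM_mem m).mp hm
    refine (hM_mem _).mpr ⟨N.mul_mem (N.mul_mem hn hmN) (N.inv_mem hn), fun q hq => ?_⟩
    have hq' : n⁻¹ * q * n ∈ Q := hQnorm' n hn q hq
    have h1 : n * m * n⁻¹ * q * (n * m * n⁻¹)⁻¹ = n * (m * (n⁻¹ * q * n) * m⁻¹) * n⁻¹ := by group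
    rw [h1]
    rcases hm' _ hq' with h | h
    · left; rw [h]; group
    · right
      rw [h, hconj_u n hn]
      congr 1
      group
  have hM2 : IsPGroup 2 M := by
    intro ⟨c, hc⟩
    obtain ⟨hcN, hc'⟩ := (hM_mem c).mp hc
    have hcc : c * c ∈ Q := by
      apply hQcent _ (N.mul_mem hcN hcN)
      intro q hq
      have h1 : c * c * q * (c * c)⁻¹ = q := by
        have h2 : c * c * q * (c * c)⁻¹ = c * (c * q * c⁻¹) * c⁻¹ := by group
        rw [h2]
        rcases hc' q hq with h | h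
        · rw [h]
          exact h
        · rw [h, hconj_u c hcN q, h, ← mul_assoc, huu, one_mul]
      calc c * c * q = (c * c * q * (c * c)⁻¹) * (c * c) := by group
        _ = q * (c * c) := by rw [h1]
    obtain ⟨j, hj⟩ := hQ2 ⟨c * c, hcc⟩
    refine ⟨j + 1, ?_⟩
    apply Subtype.ext
    have hj' : (c * c) ^ 2 ^ j = 1 := by
      have := congrArg Subtype.val hj
      simpa using this
    simp only [Subgroup.coe_pow, Subgroup.coe_one]
    rw [pow_succ, mul_comm, pow_mul, pow_two]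
    exact hj'
  have hMQ : M ≤ Q := hQmax M hMN hM2 hMnorm
  intro y hy
  exact hMQ ((hM_mem y).mpr ⟨hUN hy, hcomm y hy⟩)

theorem le_normalizer_of_conj {H A : Subgroup G} (h : ∀ a ∈ A, ∀ x ∈ H, a * x * a⁻¹ ∈ H) :
    A ≤ Subgroup.normalizer (H : Set G) := by
  intro a ha
  rw [Subgroup.mem_normalizer_iff]
  intro x
  constructor
  · exact h a ha x
  · intro hx
    have := h a⁻¹ (A.inv_mem ha) _ hx
    have h2 : a⁻¹ * (a * x * a⁻¹) * a⁻¹⁻¹ = x := by group
    rw [h2] at this
    exact this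

theorem cyclic_sq {C : Type*} [Group C] [Finite C] [IsCyclic C] (a b : C) (ha : a * a = 1)
    (hb : b * b = 1) (hb1 : b ≠ 1) : a = 1 ∨ a = b := by
  classical
  by_contra hcon
  push Not at hcon
  letI : Fintype C := Fintype.ofFinite C
  have h := IsCyclic.card_pow_eq_one_le (α := C) (n := 2) (by norm_num)
  have hsub : ({1, b, a} : Finset C) ⊆ Finset.univ.filter (fun x : C => x ^ 2 = 1) := by
    intro y hy
    simp only [Finset.mem_insert, Finset.mem_singleton] at hy
    simp only [Finset.mem_filter, Finset.mem_univ, true_and]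
    rcases hy with rfl | rfl | rfl
    · simp
    · rw [pow_two]; exact hb
    · rw [pow_two]; exact ha
  have hcard : ({1, b, a} : Finset C).card = 3 := by
    rw [Finset.card_insert_of_notMem, Finset.card_insert_of_notMem, Finset.card_singleton]
    · simp only [Finset.mem_singleton]
      exact fun h => hcon.2 h.symm
    · simp only [Finset.mem_insert, Finset.mem_singleton, not_or]
      exact ⟨hb1.symm, hcon.1.symm⟩
  have := Finset.card_le_card hsub
  omega

/-- The non-central case: `C_P(u)` has index 2 in `P` and `Ω₁(Z(C_P(u))) = U`. -/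
theorem omega_center_le [Finite G] (P U P0 : Subgroup G) [IsKleinFour U]
    (hUP : U ≤ P) (hUn : P ≤ Subgroup.normalizer (U : Set G))
    (hcyc : IsCyclic ↥(P ⊓ Subgroup.centralizer (P : Set G)))
    (u z x : G) (hu : u ∈ U) (hu1 : u ≠ 1) (hz : z ∈ U) (hz1 : z ≠ 1)
    (hzc : ∀ p ∈ P, p * z = z * p) (hx : x ∈ P) (hxu : x * u ≠ u * x)
    (hP0 : ∀ g, g ∈ P0 ↔ g ∈ P ∧ g * u = u * g) :
    P0.relIndex P = 2 ∧ U ≤ P0 ∧ (∀ p ∈ P0, ∀ g ∈ U, p * g = g * p) ∧
      (∀ e ∈ P0, (∀ p ∈ P0, p * e = e * p) → e * e = 1 → e ∈ U) := by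
  have hsq := klein_sq U
  have hcm := klein_comm U
  have huu := hsq u hu
  have hzz := hsq z hz
  have hzu : z ≠ u := by
    intro h
    exact hxu (h ▸ hzc x hx)
  have hcases := klein_cases U hu hz hu1 hz1 (Ne.symm hzu)
  have hnormU : ∀ y ∈ P, ∀ g ∈ U, y * g * y⁻¹ ∈ U := fun y hy g hg =>
    ((Subgroup.mem_normalizer_iff.mp (hUn hy)) g).mp hg
  have hconjz : ∀ y ∈ P, y * z * y⁻¹ = z := by
    intro y hy
    rw [hzc y hy]; group
  have hconj : ∀ y ∈ P, y * u ≠ u * y → y * u * y⁻¹ = u * z := by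
    intro y hy hyu
    rcases hcases _ (hnormU y hy u hu) with h | h | h | h
    · exfalso; apply hu1
      have : u = y⁻¹ * (y * u * y⁻¹) * y := by group
      rw [this, h]; group
    · exfalso; apply hyu
      calc y * u = (y * u * y⁻¹) * y := by group
        _ = u * y := by rw [h]
    · exfalso; apply hzu
      have h1 : y * u * y⁻¹ = y * z * y⁻¹ := by rw [h, hconjz y hy]
      have h2 : u = y⁻¹ * (y * u * y⁻¹) * y := by group
      rw [h2, h1]; group
    · exact h
  have hP0P : P0 ≤ P := fun g hg => ((hP0 g).mp hg).1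
  have hxP0 : x ∉ P0 := fun h => hxu ((hP0 x).mp h).2
  -- the Xor structure
  have hxor : ∀ b ∈ P, Xor (b * x ∈ P0) (b ∈ P0) := by
    intro b hb
    by_cases hb0 : b ∈ P0
    · right
      refine ⟨hb0, fun h => hxP0 ?_⟩
      have : x = b⁻¹ * (b * x) := by group
      rw [this]; exact P0.mul_mem (P0.inv_mem hb0) h
    · left
      refine ⟨?_, hb0⟩
      have hbu : b * u ≠ u * b := fun h => hb0 ((hP0 b).mpr ⟨hb, h⟩)
      rw [hP0]
      refine ⟨P.mul_mem hb hx, ?_⟩
      have h1 : b * x * u * (b * x)⁻¹ = u := by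
        calc b * x * u * (b * x)⁻¹ = b * (x * u * x⁻¹) * b⁻¹ := by group
          _ = b * (u * z) * b⁻¹ := by rw [hconj x hx hxu]
          _ = (b * u * b⁻¹) * (b * z * b⁻¹) := by group
          _ = (u * z) * z := by rw [hconj b hb hbu, hconjz b hb]
          _ = u * (z * z) := by group
          _ = u := by rw [hzz, mul_one]
      calc b * x * u = (b * x * u * (b * x)⁻¹) * (b * x) := by group
        _ = u * (b * x) := by rw [h1]
  have hidx : P0.relIndex P = 2 := Subgroup.relIndex_eq_two_iff.mpr ⟨x, hx, hxor⟩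
  have hUP0 : U ≤ P0 := fun y hy => (hP0 y).mpr ⟨hUP hy, hcm y hy u hu⟩
  have hP0U : ∀ p ∈ P0, ∀ g ∈ U, p * g = g * p := by
    intro p hp g hg
    have hpu := ((hP0 p).mp hp).2
    have hpz := hzc p (hP0P hp)
    rcases hcases g hg with h | h | h | h
    · rw [h]; group
    · rw [h]; exact hpu
    · rw [h]; exact hpz
    · rw [h]
      calc p * (u * z) = (p * u) * z := by group
        _ = (u * p) * z := by rw [hpu]
        _ = u * (p * z) := by group
        _ = u * (z * p) := by rw [hpz]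
        _ = u * z * p := by group
  refine ⟨hidx, hUP0, hP0U, ?_⟩
  -- `P` normalizes `P0`
  have hPnormP0 : ∀ y ∈ P, ∀ p ∈ P0, y * p * y⁻¹ ∈ P0 := by
    intro y hy p hp
    rw [hP0]
    refine ⟨P.mul_mem (P.mul_mem hy (hP0P hp)) (P.inv_mem hy), ?_⟩
    have hg : y⁻¹ * u * y ∈ U := by
      have := hnormU y⁻¹ (P.inv_mem hy) u hu
      simpa using this
    have h1 := hP0U p hp _ hg
    calc y * p * y⁻¹ * u = y * (p * (y⁻¹ * u * y)) * y⁻¹ := by group
      _ = y * ((y⁻¹ * u * y) * p) * y⁻¹ := by rw [h1]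
      _ = u * (y * p * y⁻¹) := by group
  have hxx : x * x ∈ P0 := by
    rcases hxor x hx with h | h
    · exact h.1
    · exact absurd h.1 hxP0
  -- E1
  have hE1 : ∀ e ∈ P0, (∀ p ∈ P0, p * e = e * p) → e * e = 1 → x * e = e * x → e = 1 ∨ e = z := by
    intro e he hec hee hxe
    have hall : ∀ y ∈ P, y * e = e * y := by
      intro y hy
      by_cases hy0 : y ∈ P0
      · exact hec y hy0
      · have hyx : y * x ∈ P0 := by
          rcases hxor y hy with h | h
          · exact h.1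
          · exact absurd h.1 hy0
        have h1 := hec _ hyx
        have h2 : y * e * x = e * y * x := by
          calc y * e * x = y * (e * x) := by group
            _ = y * (x * e) := by rw [hxe]
            _ = (y * x) * e := by group
            _ = e * (y * x) := h1
            _ = e * y * x := by group
        exact mul_right_cancel h2
    have hmemZ : ∀ g : G, g ∈ P → (∀ y ∈ P, y * g = g * y) →
        g ∈ P ⊓ Subgroup.centralizer (P : Set G) := by
      intro g hg hgc
      refine Subgroup.mem_inf.mpr ⟨hg, ?_⟩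
      rw [Subgroup.mem_centralizer_iff]
      intro y hy
      exact hgc y hy
    have heZ := hmemZ e (hP0P he) hall
    have hzZ := hmemZ z (hUP hz) hzc
    haveI := hcyc
    have h := cyclic_sq (C := ↥(P ⊓ Subgroup.centralizer (P : Set G))) ⟨e, heZ⟩ ⟨z, hzZ⟩
      (by apply Subtype.ext; simpa using hee) (by apply Subtype.ext; simpa using hzz)
      (by intro h; exact hz1 (congrArg Subtype.val h))
    rcases h with h | h
    · left; exact congrArg Subtype.val h
    · right; exact congrArg Subtype.val h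
  -- E
  intro e he hec hee
  obtain ⟨e1, he1_def⟩ : ∃ e1, e1 = x * e * x⁻¹ := ⟨_, rfl⟩
  have he1 : e1 ∈ P0 := he1_def ▸ hPnormP0 x hx e he
  have hxinvnorm : ∀ p ∈ P0, x⁻¹ * p * x ∈ P0 := by
    intro p hp
    have := hPnormP0 x⁻¹ (P.inv_mem hx) p hp
    simpa using this
  have he1c : ∀ p ∈ P0, p * e1 = e1 * p := by
    intro p hp
    have h1 := hec _ (hxinvnorm p hp)
    rw [he1_def]
    calc p * (x * e * x⁻¹) = x * ((x⁻¹ * p * x) * e) * x⁻¹ := by group
      _ = x * (e * (x⁻¹ * p * x)) * x⁻¹ := by rw [h1]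
      _ = x * e * x⁻¹ * p := by group
  have hee1 : e * e1 = e1 * e := (hec e1 he1).symm
  have he1e1 : e1 * e1 = 1 := by
    rw [he1_def]
    calc x * e * x⁻¹ * (x * e * x⁻¹) = x * (e * e) * x⁻¹ := by group
      _ = 1 := by rw [hee]; group
  have hxe1 : x * e1 * x⁻¹ = e := by
    have h1 := hec _ hxx
    rw [he1_def]
    calc x * (x * e * x⁻¹) * x⁻¹ = ((x * x) * e) * (x * x)⁻¹ := by group
      _ = (e * (x * x)) * (x * x)⁻¹ := by rw [h1]
      _ = e := by group
  -- f = e * e1
  have hf0 : e * e1 ∈ P0 := P0.mul_mem he he1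
  have hfc : ∀ p ∈ P0, p * (e * e1) = (e * e1) * p := by
    intro p hp
    calc p * (e * e1) = (p * e) * e1 := by group
      _ = (e * p) * e1 := by rw [hec p hp]
      _ = e * (p * e1) := by group
      _ = e * (e1 * p) := by rw [he1c p hp]
      _ = e * e1 * p := by group
  have hff : (e * e1) * (e * e1) = 1 := by
    calc (e * e1) * (e * e1) = e * (e1 * e) * e1 := by group
      _ = e * (e * e1) * e1 := by rw [hee1]
      _ = (e * e) * (e1 * e1) := by group
      _ = 1 := by rw [hee, he1e1, one_mul]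
  have hxf : x * (e * e1) = (e * e1) * x := by
    have h1 : x * (e * e1) * x⁻¹ = e * e1 := by
      calc x * (e * e1) * x⁻¹ = (x * e * x⁻¹) * (x * e1 * x⁻¹) := by group
        _ = e1 * e := by rw [← he1_def, hxe1]
        _ = e * e1 := hee1.symm
    calc x * (e * e1) = (x * (e * e1) * x⁻¹) * x := by group
      _ = (e * e1) * x := by rw [h1]
  have heinv : e⁻¹ = e := inv_eq_of_mul_eq_one_left hee
  rcases hE1 _ hf0 hfc hff hxf with h | h
  · -- e1 = e
    have h1 : e1 = e := by
      have : e1 = e⁻¹ * (e * e1) := by group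
      rw [this, h, mul_one, heinv]
    have hxe : x * e = e * x := by
      calc x * e = (x * e * x⁻¹) * x := by group
        _ = e * x := by rw [← he1_def, h1]
    rcases hE1 e he hec hee hxe with h' | h'
    · rw [h']; exact U.one_mem
    · rw [h']; exact hz
  · -- e1 = e * z
    have h1 : e1 = e * z := by
      have : e1 = e⁻¹ * (e * e1) := by group
      rw [this, h, heinv]
    have hu0 : u ∈ P0 := hUP0 hu
    have heu : e * u = u * e := (hec u hu0).symm
    have hez : e * z = z * e := (hzc e (hP0P he))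
    have heu0 : e * u ∈ P0 := P0.mul_mem he hu0
    have heuc : ∀ p ∈ P0, p * (e * u) = (e * u) * p := by
      intro p hp
      have hpu := ((hP0 p).mp hp).2
      calc p * (e * u) = (p * e) * u := by group
        _ = (e * p) * u := by rw [hec p hp]
        _ = e * (p * u) := by group
        _ = e * (u * p) := by rw [hpu]
        _ = e * u * p := by group
    have heueu : (e * u) * (e * u) = 1 := by
      calc (e * u) * (e * u) = e * (u * e) * u := by group
        _ = e * (e * u) * u := by rw [heu]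
        _ = (e * e) * (u * u) := by group
        _ = 1 := by rw [hee, huu, one_mul]
    have hxeu : x * (e * u) = (e * u) * x := by
      have h2 : x * (e * u) * x⁻¹ = e * u := by
        calc x * (e * u) * x⁻¹ = (x * e * x⁻¹) * (x * u * x⁻¹) := by group
          _ = (e * z) * (u * z) := by rw [← he1_def, h1, hconj x hx hxu]
          _ = e * (z * u) * z := by group
          _ = e * (u * z) * z := by rw [hcm z hz u hu]
          _ = e * u * (z * z) := by group
          _ = e * u := by rw [hzz, mul_one]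
      calc x * (e * u) = (x * (e * u) * x⁻¹) * x := by group
        _ = (e * u) * x := by rw [h2]
    have huinv : u⁻¹ = u := inv_eq_of_mul_eq_one_left huu
    have heq : e = (e * u) * u := by
      calc e = e * (u * u) := by rw [huu, mul_one]
        _ = (e * u) * u := by group
    rcases hE1 _ heu0 heuc heueu hxeu with h' | h'
    · rw [heq, h', one_mul]; exact hu
    · rw [heq, h']; exact U.mul_mem hz hu

/-- Key lemma: `U ≤ O_2(C_G(u))` for each nonidentity `u ∈ U`. -/
theorem four_le_core [Finite G] (h2 : IsCharacteristicTwoType G) (P : Sylow 2 G) (U : Subgroup G)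
    (hUP : U ≤ (P : Subgroup G)) (hUn : (P : Subgroup G) ≤ Subgroup.normalizer (U : Set G))
    [hU4 : IsKleinFour ↥U]
    (hUZ : ¬ IsCyclic ↥((P : Subgroup G) ⊓ Subgroup.centralizer ((P : Subgroup G) : Set G)) →
      U ≤ Subgroup.centralizer ((P : Subgroup G) : Set G))
    (u : G) (hu : u ∈ U) (hu1 : u ≠ 1) :
    ∃ Q : Subgroup G, IsPGroup 2 Q ∧ U ≤ Q ∧ ∀ k : G, k * u = u * k → ∀ q ∈ Q, k * q * k⁻¹ ∈ Q := by
  have hsq := klein_sq U
  have hcm := klein_comm U
  have huu := hsq u hu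
  obtain ⟨T, hT⟩ : ∃ T, T = Subgroup.zpowers u := ⟨_, rfl⟩
  have hT2 : IsPGroup 2 T := by
    intro ⟨g, hg⟩
    refine ⟨1, ?_⟩
    apply Subtype.ext
    rw [hT] at hg
    rcases mem_zpowers_of_sq u huu g hg with h | h
    · simp [h]
    · simp [h, pow_two, huu]
  have hT1 : T ≠ ⊥ := by
    intro h
    have : u ∈ T := hT ▸ Subgroup.mem_zpowers u
    rw [h, Subgroup.mem_bot] at this
    exact hu1 this
  obtain ⟨Q, hQN, hQ2, hQnorm, hQmax, hQcent⟩ := charTwo_interface h2 T hT2 hT1
  have hmemN : ∀ g, g ∈ Subgroup.normalizer (T : Set G) ↔ g * u = u * g := by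
    intro g; rw [hT]; exact mem_normalizer_zpowers_iff u huu hu1 g
  refine ⟨Q, hQ2, ?_, fun k hk q hq => hQnorm k ((hmemN k).mpr hk) q hq⟩
  have hUN : U ≤ Subgroup.normalizer (T : Set G) := fun y hy => (hmemN y).mpr (hcm y hy u hu)
  -- reduce to: `Q` normalizes `U`
  have key : Q ≤ Subgroup.normalizer (U : Set G) → U ≤ Q := by
    intro hQU'
    have hQU : ∀ q ∈ Q, ∀ y ∈ U, q * y * q⁻¹ ∈ U := fun q hq y hy =>
      ((Subgroup.mem_normalizer_iff.mp (hQU' hq)) y).mp hy
    by_cases hUQ : U ≤ Q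
    · exact hUQ
    have huQ : u ∈ Q := by
      have : T ≤ Q := hQmax T Subgroup.le_normalizer hT2
        (fun n hn m hm => ((Subgroup.mem_normalizer_iff.mp hn) m).mp hm)
      exact this (hT ▸ Subgroup.mem_zpowers u)
    obtain ⟨v, hv, hv1, hvu⟩ := klein_exists_other U u
    have hcases := klein_cases U hu hv hu1 hv1 (Ne.symm hvu)
    have hfill : v ∈ Q → U ≤ Q := by
      intro hvQ y hy
      rcases hcases y hy with h' | h' | h' | h'
      · rw [h']; exact Q.one_mem
      · rw [h']; exact huQ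
      · rw [h']; exact hvQ
      · rw [h']; exact Q.mul_mem huQ hvQ
    have hinter : ∀ g ∈ U, g ∈ Q → g = 1 ∨ g = u := by
      intro g hgU hgQ
      rcases hcases g hgU with h | h | h | h
      · left; exact h
      · right; exact h
      · exfalso; exact hUQ (hfill (h ▸ hgQ))
      · exfalso; apply hUQ; apply hfill
        have : v = u⁻¹ * g := by rw [h]; group
        rw [this]; exact Q.mul_mem (Q.inv_mem huQ) hgQ
    apply le_of_stability (Subgroup.normalizer (T : Set G)) Q U u hQN hQ2 hQnorm hQmax hQcent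
      (fun n hn => (hmemN n).mp hn) huu hUN
    intro y hy q hq
    have h1 : y * q * y⁻¹ * q⁻¹ ∈ Q := Q.mul_mem (hQnorm y (hUN hy) q hq) (Q.inv_mem hq)
    have h2 : y * q * y⁻¹ * q⁻¹ ∈ U := by
      have : y * q * y⁻¹ * q⁻¹ = y * (q * y⁻¹ * q⁻¹) := by group
      rw [this]; exact U.mul_mem hy (hQU q hq _ (U.inv_mem hy))
    rcases hinter _ h2 h1 with h | h
    · left
      calc y * q * y⁻¹ = (y * q * y⁻¹ * q⁻¹) * q := by group
        _ = q := by rw [h, one_mul]
    · right
      calc y * q * y⁻¹ = (y * q * y⁻¹ * q⁻¹) * q := by group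
        _ = u * q := by rw [h]
  apply key
  by_cases hcase : ∀ x ∈ (P : Subgroup G), x * u = u * x
  · -- `u` central in `P`
    have hPN : (P : Subgroup G) ≤ Subgroup.normalizer (T : Set G) := fun x hx =>
      (hmemN x).mpr (hcase x hx)
    have hPQ : (P : Subgroup G) ≤ Subgroup.normalizer (Q : Set G) :=
      le_normalizer_of_conj (fun a ha x hx => hQnorm a (hPN ha) x hx)
    have h2grp : IsPGroup 2 ↥(Q ⊔ (P : Subgroup G)) := hQ2.to_sup_of_normal_left' P.isPGroup' hPQ
    have heq := P.is_maximal' h2grp le_sup_right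
    have hQP : Q ≤ (P : Subgroup G) := by
      rw [← heq]; exact le_sup_left
    exact hQP.trans hUn
  · push Not at hcase
    obtain ⟨x, hx, hxu⟩ := hcase
    have hcyc : IsCyclic ↥((P : Subgroup G) ⊓ Subgroup.centralizer ((P : Subgroup G) : Set G)) := by
      by_contra hnc
      have h := hUZ hnc hu
      rw [Subgroup.mem_centralizer_iff] at h
      exact hxu (h x hx)
    -- the central involution `z`
    obtain ⟨z, hz, hz1, hzc⟩ : ∃ z ∈ U, z ≠ 1 ∧ ∀ p ∈ (P : Subgroup G), p * z = z * p := by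
      haveI : (U.subgroupOf (P : Subgroup G)).Normal :=
        (Subgroup.normal_subgroupOf_iff_le_normalizer hUP).mpr hUn
      have hne : U.subgroupOf (P : Subgroup G) ≠ ⊥ := by
        intro h
        have : (⟨u, hUP hu⟩ : (P : Subgroup G)) ∈ U.subgroupOf (P : Subgroup G) := by
          rw [Subgroup.mem_subgroupOf]; exact hu
        rw [h, Subgroup.mem_bot] at this
        exact hu1 (congrArg Subtype.val this)
      obtain ⟨z', hz'U, hz'Z, hz'1⟩ :=
        Cfsg.Agent.Lib.Lead.PGroup.exists_mem_center_of_normal (p := 2) P.isPGroup'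
          (U.subgroupOf (P : Subgroup G)) hne
      refine ⟨(z' : G), ?_, ?_, ?_⟩
      · rw [Subgroup.mem_subgroupOf] at hz'U; exact hz'U
      · intro h; apply hz'1; exact Subtype.ext h
      · intro p hp
        rw [Subgroup.mem_center_iff] at hz'Z
        have := hz'Z ⟨p, hp⟩
        exact congrArg Subtype.val this
    obtain ⟨P0, hP0_def⟩ : ∃ P0, P0 = (P : Subgroup G) ⊓ Subgroup.normalizer (T : Set G) := ⟨_, rfl⟩
    have hP0 : ∀ g, g ∈ P0 ↔ g ∈ (P : Subgroup G) ∧ g * u = u * g := by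
      intro g
      rw [hP0_def, Subgroup.mem_inf, hmemN]
    obtain ⟨hidx, hUP0, hP0U, hE⟩ :=
      omega_center_le (P : Subgroup G) U P0 hUP hUn hcyc u z x hu hu1 hz hz1 hzc hx hxu hP0
    have hP0P : P0 ≤ (P : Subgroup G) := hP0_def ▸ inf_le_left
    have hP0N : P0 ≤ Subgroup.normalizer (T : Set G) := hP0_def ▸ inf_le_right
    by_cases hQP0 : Q ≤ P0
    · exact (hQP0.trans hP0P).trans hUn
    -- `R = Q P0` is a bigger 2-group
    have hP0Q : P0 ≤ Subgroup.normalizer (Q : Set G) :=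
      le_normalizer_of_conj (fun a ha x hx => hQnorm a (hP0N ha) x hx)
    have hP02 : IsPGroup 2 ↥P0 := P.isPGroup'.to_le hP0P
    obtain ⟨R, hR_def⟩ : ∃ R, R = Q ⊔ P0 := ⟨_, rfl⟩
    have hR2 : IsPGroup 2 ↥R := hR_def ▸ hQ2.to_sup_of_normal_left' hP02 hP0Q
    have hP0R : P0 ≤ R := hR_def ▸ le_sup_right
    have hQR : Q ≤ R := hR_def ▸ le_sup_left
    have hRP0 : ¬ R ≤ P0 := fun h => hQP0 (hQR.trans h)
    -- cardinalities
    have hcardP : Nat.card ↥P0 * 2 = Nat.card ↥(P : Subgroup G) := by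
      have := Subgroup.relIndex_mul_relIndex (⊥ : Subgroup G) P0 (P : Subgroup G) bot_le hP0P
      rw [Subgroup.relIndex_bot_left, Subgroup.relIndex_bot_left, hidx] at this
      exact this
    have hcardR : Nat.card ↥P0 * P0.relIndex R = Nat.card ↥R := by
      have := Subgroup.relIndex_mul_relIndex (⊥ : Subgroup G) P0 R bot_le hP0R
      rw [Subgroup.relIndex_bot_left, Subgroup.relIndex_bot_left] at this
      exact this
    obtain ⟨P', hRP'⟩ := hR2.exists_le_sylow
    have hcardP' : Nat.card ↥(P' : Subgroup G) = Nat.card ↥(P : Subgroup G) := by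
      rw [Sylow.card_eq_multiplicity P', Sylow.card_eq_multiplicity P]
    have hdvd : Nat.card ↥R ∣ Nat.card ↥(P : Subgroup G) := by
      rw [← hcardP']; exact Subgroup.card_dvd_of_le hRP'
    have hidxR : P0.relIndex R = 2 := by
      rw [← hcardR, ← hcardP] at hdvd
      have hpos : 0 < Nat.card ↥P0 := Nat.card_pos
      have h2' : P0.relIndex R ∣ 2 := (Nat.mul_dvd_mul_iff_left hpos).mp hdvd
      rcases (Nat.dvd_prime Nat.prime_two).mp h2' with h | h
      · exact absurd (Subgroup.relIndex_eq_one.mp h) hRP0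
      · exact h
    have hnormal : (P0.subgroupOf R).Normal := Subgroup.normal_of_index_eq_two hidxR
    have hRnormP0 : R ≤ Subgroup.normalizer (P0 : Set G) :=
      (Subgroup.normal_subgroupOf_iff_le_normalizer hP0R).mp hnormal
    have hRU : R ≤ Subgroup.normalizer (U : Set G) := by
      apply le_normalizer_of_conj
      intro s hs g hg
      have hconjP0 : ∀ p ∈ P0, s * p * s⁻¹ ∈ P0 := fun p hp =>
        ((Subgroup.mem_normalizer_iff.mp (hRnormP0 hs)) p).mp hp
      have hconjP0' : ∀ p ∈ P0, s⁻¹ * p * s ∈ P0 := fun p hp => by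
        have := ((Subgroup.mem_normalizer_iff.mp (hRnormP0 (R.inv_mem hs))) p).mp hp
        simpa using this
      apply hE _ (hconjP0 g (hUP0 hg))
      · intro p hp
        have h1 := hP0U _ (hconjP0' p hp) g hg
        calc p * (s * g * s⁻¹) = s * ((s⁻¹ * p * s) * g) * s⁻¹ := by group
          _ = s * (g * (s⁻¹ * p * s)) * s⁻¹ := by rw [h1]
          _ = s * g * s⁻¹ * p := by group
      · calc s * g * s⁻¹ * (s * g * s⁻¹) = s * (g * g) * s⁻¹ := by group
          _ = 1 := by rw [hsq g hg]; group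
    exact hQR.trans hRU

/-- The main result: a normal four-subgroup of a Sylow 2-subgroup of a group of characteristic 2 type
centralizes every subgroup of odd order that it normalizes. -/
theorem main [Finite G] (h2 : IsCharacteristicTwoType G) (P : Sylow 2 G) (U : Subgroup G)
    (hUP : U ≤ (P : Subgroup G)) (hUn : (P : Subgroup G) ≤ Subgroup.normalizer (U : Set G))
    (hU4 : IsKleinFour ↥U)
    (hUZ : ¬ IsCyclic ↥((P : Subgroup G) ⊓ Subgroup.centralizer ((P : Subgroup G) : Set G)) →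
      U ≤ Subgroup.centralizer ((P : Subgroup G) : Set G))
    (K : Subgroup G) (hK : Odd (Nat.card K)) (hUK : U ≤ Subgroup.normalizer (K : Set G)) :
    U ≤ Subgroup.centralizer (K : Set G) := by
  have hsq := klein_sq U
  have hcm := klein_comm U
  have hnorm : ∀ y ∈ U, ∀ a ∈ K, y * a * y⁻¹ ∈ K := fun y hy a ha =>
    ((Subgroup.mem_normalizer_iff.mp (hUK hy)) a).mp ha
  -- Lemma B
  have hB : ∀ x ∈ U, x ≠ 1 → ∀ k ∈ K, k * x = x * k → ∀ y ∈ U, k * y = y * k := by
    intro x hx hx1 k hk hkx y hy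
    obtain ⟨Q, hQ2, hUQ, hQn⟩ := four_le_core h2 P U hUP hUn hUZ x hx hx1
    -- the commutator `k y⁻¹ k⁻¹ y` lies in `Q ⊓ K`
    have hyinv : y⁻¹ = y := inv_eq_of_mul_eq_one_left (hsq y hy)
    have h1 : k * y * k⁻¹ * y⁻¹ ∈ Q := Q.mul_mem (hQn k hkx y (hUQ hy)) (Q.inv_mem (hUQ hy))
    have h2' : k * y * k⁻¹ * y⁻¹ ∈ K := by
      have : k * y * k⁻¹ * y⁻¹ = k * (y * k⁻¹ * y⁻¹) := by group
      rw [this]; exact K.mul_mem hk (hnorm y hy _ (K.inv_mem hk))
    -- an element of a 2-group of odd order is trivial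
    have h3 : k * y * k⁻¹ * y⁻¹ = 1 := by
      obtain ⟨j, hj⟩ := hQ2 ⟨_, h1⟩
      have hj' : (k * y * k⁻¹ * y⁻¹) ^ 2 ^ j = 1 := by
        have := congrArg Subtype.val hj
        simpa using this
      have ho : orderOf (k * y * k⁻¹ * y⁻¹) ∣ 2 ^ j := orderOf_dvd_of_pow_eq_one hj'
      have ho2 : orderOf (k * y * k⁻¹ * y⁻¹) ∣ Nat.card K := by
        have h4 : orderOf (⟨_, h2'⟩ : K) ∣ Nat.card K := orderOf_dvd_natCard _
        rwa [Subgroup.orderOf_mk] at h4
      have hcop : Nat.Coprime (2 ^ j) (Nat.card K) :=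
        Nat.Coprime.pow_left j (Nat.coprime_two_left.mpr hK)
      have := Nat.eq_one_of_dvd_coprimes hcop ho ho2
      exact orderOf_eq_one_iff.mp this
    calc k * y = (k * y * k⁻¹ * y⁻¹) * (y * k) := by group
      _ = y * k := by rw [h3, one_mul]
  intro w hw
  rw [Subgroup.mem_centralizer_iff]
  intro k hk
  by_cases hw1 : w = 1
  · rw [hw1]; group
  obtain ⟨u, hu, hu1, huw⟩ := klein_exists_other U w
  -- `w = u * (u * w)`
  have huu := hsq u hu
  have hv : u * w ∈ U := U.mul_mem hu hw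
  have hv1 : u * w ≠ 1 := by
    intro h
    apply huw
    have hwinv : w⁻¹ = w := inv_eq_of_mul_eq_one_left (hsq w hw)
    calc u = (u * w) * w⁻¹ := by group
      _ = w := by rw [h, one_mul, hwinv]
  have h := commute_of_local U K hK hUK hcm hsq hB u (u * w) hu hv hu1 hv1 k hk
  have hw' : u * (u * w) = w := by
    calc u * (u * w) = (u * u) * w := by group
      _ = w := by rw [huu, one_mul]
  rw [hw'] at h
  exact h

end Cfsg.Agent.Lib.Lead.NFour
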