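import Mathlib
import Cfsg.Prelude.Def_Transfer
import Cfsg.Agent.H1.NilMax
import Cfsg.Agent.S0078
import Cfsg.Agent.H1.PResidual
import Cfsg.Agent.H1.Cores
import Cfsg.Agent.Lib.Helper4.Nilpotent
import Cfsg.Agent.Lib.Helper4.SylowPrime

/-! A finite group with a maximal subgroup that is nilpotent of class at most two is solvable
(Deskins–Janko). The proof follows `H1/NilMax` with the normal `p`-complements obtained from
`p`-normality and Grün's second theorem (lead). -/

set_option autoImplicit false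

namespace Cfsg.Agent.Lead.NilMaxTwo

open Cfsg Cfsg.Agent.H1

universe u

theorem comm_mem_center_of_class_two {M : Type*} [Group M] [Group.IsNilpotent M]
    (hcl : Group.nilpotencyClass M ≤ 2) (a b : M) : a * b * a⁻¹ * b⁻¹ ∈ Subgroup.center M := by
  have h1 : Subgroup.upperCentralSeries M 2 = ⊤ := by
    have h2 := Subgroup.upperCentralSeries_nilpotencyClass (G := M)
    have h3 := Subgroup.upperCentralSeries_mono M hcl
    rw [h2] at h3
    exact top_le_iff.mp h3
  have h3 : a ∈ Subgroup.upperCentralSeries M (1 + 1) := by rw [h1]; trivial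
  rw [Subgroup.mem_upperCentralSeries_succ_iff] at h3
  have h4 := h3 b
  rw [Subgroup.upperCentralSeries_one, commutatorElement_def] at h4
  exact h4

theorem le_normalizer_of_forall_conj_mem {G : Type*} [Group G] (K H : Subgroup G)
    (h : ∀ g ∈ K, ∀ x ∈ H, g * x * g⁻¹ ∈ H) : K ≤ Subgroup.normalizer (H : Set G) := by
  intro g hg
  rw [Subgroup.mem_normalizer_iff]
  intro x
  constructor
  · exact h g hg x
  · intro hx
    have h1 := h g⁻¹ (K.inv_mem hg) _ hx
    have e : g⁻¹ * (g * x * g⁻¹) * g⁻¹⁻¹ = x := by group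
    rwa [e] at h1

section main

variable {G : Type u} [Group G] [Finite G] (M : Subgroup G) (hmax : IsCoatom M)
  [hnil : Group.IsNilpotent ↥M] (hcl : Group.nilpotencyClass ↥M ≤ 2)
  (hcore : ∀ N : Subgroup G, N.Normal → N ≤ M → N = ⊥)
  {p : ℕ} [Fact p.Prime] (PM : Sylow p ↥M) (PG : Sylow p G)
  (hPG : (PG : Subgroup G) = (PM : Subgroup ↥M).map M.subtype)

include hmax hcore in
theorem normalizer_eq_of_le (A : Subgroup G) (hA : A ≠ ⊥) (hAM : A ≤ M)
    (hMA : M ≤ Subgroup.normalizer (A : Set G)) : Subgroup.normalizer (A : Set G) = M := by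
  rcases hmax.le_iff.mp hMA with h1 | h1
  · exfalso
    exact hA (hcore A (Subgroup.normalizer_eq_top_iff.mp h1) hAM)
  · exact h1

include hPG in
theorem mem_P_of_pow (x : G) (hxM : x ∈ M) (k : ℕ) (hx : x ^ p ^ k = 1) :
    x ∈ (PG : Subgroup G) := by
  have h1 : (⟨x, hxM⟩ : ↥M) ^ p ^ k = 1 := Subtype.ext (by simpa using hx)
  have h2 := Cfsg.Agent.Lib.Helper4.Nilpotent.mem_sylow_of_pow_eq_one PM ⟨x, hxM⟩ k h1
  rw [hPG]
  exact ⟨⟨x, hxM⟩, h2, rfl⟩

include hPG in
theorem P_le_M : (PG : Subgroup G) ≤ M := by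
  rw [hPG]; exact Subgroup.map_subtype_le _

include hPG in
theorem M_le_normalizer_P : M ≤ Subgroup.normalizer ((PG : Subgroup G) : Set G) := by
  haveI hPMn : (PM : Subgroup ↥M).Normal := inferInstance
  rw [hPG]; exact le_normalizer_map_subtype_of_normal M (PM : Subgroup ↥M)

include hcl hPG in
theorem comm_mem_Z (a b : G) (ha : a ∈ (PG : Subgroup G)) (hb : b ∈ (PG : Subgroup G)) :
    a * b * a⁻¹ * b⁻¹ ∈ (PG : Subgroup G) ⊓ Subgroup.centralizer ((PG : Subgroup G) : Set G) := by
  have haM := P_le_M M PM PG hPG ha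
  have hbM := P_le_M M PM PG hPG hb
  have h1 := comm_mem_center_of_class_two hcl (⟨a, haM⟩ : ↥M) ⟨b, hbM⟩
  rw [Subgroup.mem_inf]
  refine ⟨?_, ?_⟩
  · exact Subgroup.mul_mem _ (Subgroup.mul_mem _ (Subgroup.mul_mem _ ha hb) (Subgroup.inv_mem _ ha))
      (Subgroup.inv_mem _ hb)
  · rw [Subgroup.mem_centralizer_iff]
    intro x hx
    have hxM := P_le_M M PM PG hPG hx
    have h2 := Subgroup.mem_center_iff.mp h1 ⟨x, hxM⟩
    exact congrArg Subtype.val h2

include hPG in
theorem Z_ne_bot (hne : (PG : Subgroup G) ≠ ⊥) :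
    (PG : Subgroup G) ⊓ Subgroup.centralizer ((PG : Subgroup G) : Set G) ≠ ⊥ := by
  haveI : Nontrivial ↥(PG : Subgroup G) := (Subgroup.nontrivial_iff_ne_bot _).mpr hne
  haveI := IsPGroup.center_nontrivial (PG.isPGroup')
  obtain ⟨z, hz⟩ := exists_ne (1 : ↥(Subgroup.center ↥(PG : Subgroup G)))
  intro hbot
  have hmem : ((z : ↥(PG : Subgroup G)) : G) ∈
      (PG : Subgroup G) ⊓ Subgroup.centralizer ((PG : Subgroup G) : Set G) := by
    rw [Subgroup.mem_inf]
    refine ⟨(z : ↥(PG : Subgroup G)).2, ?_⟩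
    rw [Subgroup.mem_centralizer_iff]
    intro x hx
    have h2 := Subgroup.mem_center_iff.mp z.2 ⟨x, hx⟩
    exact congrArg Subtype.val h2
  rw [hbot, Subgroup.mem_bot] at hmem
  apply hz
  apply Subtype.ext
  apply Subtype.ext
  exact hmem

include hPG in
theorem M_le_normalizer_Z : M ≤ Subgroup.normalizer
    (((PG : Subgroup G) ⊓ Subgroup.centralizer ((PG : Subgroup G) : Set G) : Subgroup G) : Set G) := by
  apply le_normalizer_of_forall_conj_mem
  intro m hm z hz
  rw [Subgroup.mem_inf] at hz ⊢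
  have hmN := M_le_normalizer_P M PM PG hPG hm
  have hmN' := M_le_normalizer_P M PM PG hPG (M.inv_mem hm)
  refine ⟨(Subgroup.mem_normalizer_iff.mp hmN z).mp hz.1, ?_⟩
  rw [Subgroup.mem_centralizer_iff]
  intro x hx
  have hx' : m⁻¹ * x * m⁻¹⁻¹ ∈ (PG : Subgroup G) := (Subgroup.mem_normalizer_iff.mp hmN' x).mp hx
  have h1 := Subgroup.mem_centralizer_iff.mp hz.2 _ hx'
  calc x * (m * z * m⁻¹) = m * ((m⁻¹ * x * m⁻¹⁻¹) * z) * m⁻¹ := by group
    _ = m * (z * (m⁻¹ * x * m⁻¹⁻¹)) * m⁻¹ := by rw [h1]
    _ = m * z * m⁻¹ * x := by group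

include hmax hcl hcore hPG in
theorem sylow_eq_of_Z_le (hne : (PG : Subgroup G) ≠ ⊥) (Q : Sylow p G)
    (hZQ : (PG : Subgroup G) ⊓ Subgroup.centralizer ((PG : Subgroup G) : Set G) ≤ (Q : Subgroup G)) :
    (Q : Subgroup G) = (PG : Subgroup G) := by
  obtain ⟨Z, hZdef⟩ : ∃ Z : Subgroup G,
      Z = (PG : Subgroup G) ⊓ Subgroup.centralizer ((PG : Subgroup G) : Set G) := ⟨_, rfl⟩
  obtain ⟨Z', hZ'def⟩ : ∃ Z' : Subgroup G,
      Z' = (Q : Subgroup G) ⊓ Subgroup.centralizer ((Q : Subgroup G) : Set G) := ⟨_, rfl⟩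
  have hPM := P_le_M M PM PG hPG
  have hZne : Z ≠ ⊥ := by rw [hZdef]; exact Z_ne_bot M PM PG hPG hne
  have hZP : Z ≤ (PG : Subgroup G) := by rw [hZdef]; exact inf_le_left
  have hNZ : Subgroup.normalizer (Z : Set G) = M := by
    apply normalizer_eq_of_le M hmax hcore Z hZne (hZP.trans hPM)
    rw [hZdef]; exact M_le_normalizer_Z M PM PG hPG
  rw [← hZdef] at hZQ
  -- `Z' ≤ M`
  have hZ'M : Z' ≤ M := by
    rw [← hNZ]
    apply le_normalizer_of_forall_conj_mem
    intro g hg x hx
    rw [hZ'def, Subgroup.mem_inf] at hg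
    have h1 := Subgroup.mem_centralizer_iff.mp hg.2 x (hZQ hx)
    have e : g * x * g⁻¹ = x := by rw [← h1]; group
    rw [e]; exact hx
  have hpow : ∀ x ∈ (Q : Subgroup G), ∃ k : ℕ, x ^ p ^ k = 1 := by
    intro x hx
    obtain ⟨k, hk⟩ := Q.isPGroup' ⟨x, hx⟩
    exact ⟨k, by simpa using congrArg Subtype.val hk⟩
  have hZ'Q : Z' ≤ (Q : Subgroup G) := by rw [hZ'def]; exact inf_le_left
  have hZ'P : Z' ≤ (PG : Subgroup G) := by
    intro x hx
    obtain ⟨k, hk⟩ := hpow x (hZ'Q hx)
    exact mem_P_of_pow M PM PG hPG x (hZ'M hx) k hk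
  obtain ⟨D, hDdef⟩ : ∃ D : Subgroup G, D = (PG : Subgroup G) ⊓ (Q : Subgroup G) := ⟨_, rfl⟩
  have hZD : Z ≤ D := by rw [hDdef]; exact le_inf hZP hZQ
  have hZ'D : Z' ≤ D := by rw [hDdef]; exact le_inf hZ'P hZ'Q
  have hDP : D ≤ (PG : Subgroup G) := by rw [hDdef]; exact inf_le_left
  have hDQ : D ≤ (Q : Subgroup G) := by rw [hDdef]; exact inf_le_right
  have hDne : D ≠ ⊥ := by
    intro h
    apply hZne
    rw [eq_bot_iff, ← h]; exact hZD
  -- `P` normalizes `D`
  have hPD : (PG : Subgroup G) ≤ Subgroup.normalizer (D : Set G) := by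
    apply le_normalizer_of_forall_conj_mem
    intro x hx d hd
    have h1 : x * d * x⁻¹ * d⁻¹ ∈ Z := by
      rw [hZdef]; exact comm_mem_Z M hcl PM PG hPG x d hx (hDP hd)
    have e : x * d * x⁻¹ = (x * d * x⁻¹ * d⁻¹) * d := by group
    rw [e]
    exact D.mul_mem (hZD h1) hd
  -- `Q` normalizes `D`
  have hQD : (Q : Subgroup G) ≤ Subgroup.normalizer (D : Set G) := by
    obtain ⟨g, hg⟩ := MulAction.exists_smul_eq G PG Q
    have hmem : ∀ y : G, y ∈ (Q : Subgroup G) ↔ g⁻¹ * y * g ∈ (PG : Subgroup G) := by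
      intro y
      rw [← hg]
      exact Cfsg.Agent.Lib.Helper4.SylowPrime.mem_smul_sylow_iff PG g y
    apply le_normalizer_of_forall_conj_mem
    intro x hx d hd
    have ha := (hmem x).mp hx
    have hb := (hmem d).mp (hDQ hd)
    have hc := comm_mem_Z M hcl PM PG hPG _ _ ha hb
    rw [Subgroup.mem_inf] at hc
    have h1 : x * d * x⁻¹ * d⁻¹ ∈ Z' := by
      have e1 : x * d * x⁻¹ * d⁻¹ = g * ((g⁻¹ * x * g) * (g⁻¹ * d * g) * (g⁻¹ * x * g)⁻¹ *
          (g⁻¹ * d * g)⁻¹) * g⁻¹ := by group
      rw [hZ'def, Subgroup.mem_inf]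
      constructor
      · rw [hmem, e1]
        have e2 : g⁻¹ * (g * ((g⁻¹ * x * g) * (g⁻¹ * d * g) * (g⁻¹ * x * g)⁻¹ *
          (g⁻¹ * d * g)⁻¹) * g⁻¹) * g = (g⁻¹ * x * g) * (g⁻¹ * d * g) * (g⁻¹ * x * g)⁻¹ *
          (g⁻¹ * d * g)⁻¹ := by group
        rw [e2]; exact hc.1
      · rw [Subgroup.mem_centralizer_iff]
        intro y hy
        have hy' := (hmem y).mp hy
        have h2 := Subgroup.mem_centralizer_iff.mp hc.2 _ hy'
        rw [e1]
        calc y * (g * ((g⁻¹ * x * g) * (g⁻¹ * d * g) * (g⁻¹ * x * g)⁻¹ * (g⁻¹ * d * g)⁻¹) * g⁻¹)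
            = g * ((g⁻¹ * y * g) * ((g⁻¹ * x * g) * (g⁻¹ * d * g) * (g⁻¹ * x * g)⁻¹ *
                (g⁻¹ * d * g)⁻¹)) * g⁻¹ := by group
          _ = g * (((g⁻¹ * x * g) * (g⁻¹ * d * g) * (g⁻¹ * x * g)⁻¹ *
                (g⁻¹ * d * g)⁻¹) * (g⁻¹ * y * g)) * g⁻¹ := by rw [h2]
          _ = g * ((g⁻¹ * x * g) * (g⁻¹ * d * g) * (g⁻¹ * x * g)⁻¹ * (g⁻¹ * d * g)⁻¹) * g⁻¹ * y := by
              group
    have e : x * d * x⁻¹ = (x * d * x⁻¹ * d⁻¹) * d := by group
    rw [e]
    exact D.mul_mem (hZ'D h1) hd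
  -- `M` normalizes `D`
  have hMD : M ≤ Subgroup.normalizer (D : Set G) := by
    have htop : (Subgroup.normalizer (D : Set G)).subgroupOf M = ⊤ := by
      apply eq_top_of_forall_sylow_le
      intro q hq
      by_cases hqp : q = p
      · subst hqp
        refine ⟨PM, ?_⟩
        intro y hy
        rw [Subgroup.mem_subgroupOf]
        apply hPD
        rw [hPG]
        exact ⟨y, hy, rfl⟩
      · obtain ⟨QM⟩ : Nonempty (Sylow q ↥M) := inferInstance
        refine ⟨QM, ?_⟩
        intro y hy
        rw [Subgroup.mem_subgroupOf]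
        have hcomm : ∀ d ∈ D, (y : G) * d * (y : G)⁻¹ = d := by
          intro d hd
          have hdP := hDP hd
          rw [hPG] at hdP
          obtain ⟨d', hd', hdd⟩ := hdP
          obtain ⟨i, hi⟩ := (IsPGroup.iff_orderOf.mp QM.isPGroup') ⟨y, hy⟩
          obtain ⟨j, hj⟩ := (IsPGroup.iff_orderOf.mp PM.isPGroup') ⟨d', hd'⟩
          rw [Subgroup.orderOf_mk] at hi hj
          have h1 := Cfsg.Agent.Lib.Helper4.Nilpotent.commute_of_coprime_orderOf ↥M y d' (by
            rw [hi, hj]
            exact Nat.Coprime.pow _ _ ((Nat.coprime_primes hq.out Fact.out).mpr hqp))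
          have h2 : (y : G) * d = d * (y : G) := by
            rw [← hdd]; exact congrArg Subtype.val h1
          rw [h2]; group
        rw [Subgroup.mem_normalizer_iff]
        intro h
        constructor
        · intro hh
          rw [hcomm h hh]; exact hh
        · intro hh
          have h3 := hcomm _ hh
          have e : h = (y : G) * h * (y : G)⁻¹ := by
            have h4 : (y : G)⁻¹ * ((y : G) * ((y : G) * h * (y : G)⁻¹) * (y : G)⁻¹) * (y : G) =
                (y : G)⁻¹ * ((y : G) * h * (y : G)⁻¹) * (y : G) := by rw [h3]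
            have e1 : (y : G)⁻¹ * ((y : G) * ((y : G) * h * (y : G)⁻¹) * (y : G)⁻¹) * (y : G) =
                (y : G) * h * (y : G)⁻¹ := by group
            have e2 : (y : G)⁻¹ * ((y : G) * h * (y : G)⁻¹) * (y : G) = h := by group
            rw [e1, e2] at h4
            exact h4.symm
          rw [e]; exact hh
    intro m hm
    have h1 : (⟨m, hm⟩ : ↥M) ∈ (Subgroup.normalizer (D : Set G)).subgroupOf M := by
      rw [htop]; trivial
    exact Subgroup.mem_subgroupOf.mp h1
  have hND : Subgroup.normalizer (D : Set G) = M :=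
    normalizer_eq_of_le M hmax hcore D hDne (hDP.trans hPM) hMD
  have hQM : (Q : Subgroup G) ≤ M := by rw [← hND]; exact hQD
  have hQP : (Q : Subgroup G) ≤ (PG : Subgroup G) := by
    intro x hx
    obtain ⟨k, hk⟩ := hpow x hx
    exact mem_P_of_pow M PM PG hPG x (hQM hx) k hk
  exact (Q.is_maximal' PG.isPGroup' hQP).symm

include hmax hcl hcore hPG in
theorem exists_normal_complement (hne : (PG : Subgroup G) ≠ ⊥) :
    ∃ K : Subgroup G, K.Normal ∧ (Nat.card ↥K).Coprime p ∧ ∃ k : ℕ, K.index = p ^ k := by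
  have hp : p.Prime := Fact.out
  have hPM := P_le_M M PM PG hPG
  have hNZ : Subgroup.normalizer (((PG : Subgroup G) ⊓
      Subgroup.centralizer ((PG : Subgroup G) : Set G) : Subgroup G) : Set G) = M := by
    apply normalizer_eq_of_le M hmax hcore _ (Z_ne_bot M PM PG hPG hne) (inf_le_left.trans hPM)
    exact M_le_normalizer_Z M PM PG hPG
  have hgrun : (PG : Subgroup G) ⊓ Cfsg.pResidual p G =
      (PG : Subgroup G) ⊓ (Cfsg.pResidual p ↥M).map M.subtype := by
    apply Cfsg.Agent.S0078.result PG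
    · intro Q hQ
      have h1 := sylow_eq_of_Z_le M hmax hcl hcore PM PG hPG hne Q hQ
      have h2 : Q = PG := Sylow.ext h1
      rw [h2]
    · exact hNZ.le
  -- `P ∩ O^p(M) = 1`
  have hres : (PG : Subgroup G) ⊓ (Cfsg.pResidual p ↥M).map M.subtype = ⊥ := by
    obtain ⟨N, hN, hc, k, hk⟩ :=
      Cfsg.Agent.Lib.Lead.NormalPComplement.exists_normal_of_hasNormalPComplement
        (hasNormalPComplement_of_isNilpotent (G := ↥M) p)
    haveI := hN
    have hle : Cfsg.pResidual p ↥M ≤ N := by
      apply pResidual_le_of_isPGroup_quotient N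
      apply IsPGroup.of_card (n := k)
      rw [← Subgroup.index_eq_card, hk]
    rw [eq_bot_iff]
    intro y hy
    rw [Subgroup.mem_inf] at hy
    obtain ⟨y', hy', hyy⟩ := hy.2
    have h1 : orderOf y' ∣ Nat.card ↥N := by
      have h2 := orderOf_dvd_natCard (⟨y', hle hy'⟩ : ↥N)
      rwa [Subgroup.orderOf_mk] at h2
    obtain ⟨j, hj⟩ := (IsPGroup.iff_orderOf.mp PG.isPGroup') ⟨y, hy.1⟩
    rw [Subgroup.orderOf_mk] at hj
    have h3 : orderOf y = orderOf y' := by
      rw [← hyy]; exact Subgroup.orderOf_coe y'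
    rw [Subgroup.mem_bot, ← orderOf_eq_one_iff, hj]
    rcases Nat.eq_zero_or_pos j with h0 | hpos
    · rw [h0, pow_zero]
    · exfalso
      have h4 : p ∣ Nat.card ↥N := by
        apply dvd_trans _ h1
        rw [← h3, hj]
        exact dvd_pow_self p hpos.ne'
      exact (Nat.Prime.coprime_iff_not_dvd hp).mp hc.symm h4
  have hinf : Cfsg.pResidual p G ⊓ (PG : Subgroup G) = ⊥ := by
    rw [inf_comm, hgrun, hres]
  refine ⟨Cfsg.pResidual p G, inferInstance, ?_, ?_⟩
  · have hcomp : (Cfsg.pResidual p G).IsComplement' (PG : Subgroup G) := by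
      apply Subgroup.isComplement'_of_disjoint_and_mul_eq_univ (disjoint_iff.mpr hinf)
      rw [← Subgroup.normal_mul, pResidual_sup_sylow PG]
      rfl
    have h1 := hcomp.card_mul
    have h2 := (PG : Subgroup G).card_mul_index
    have h3 : Nat.card ↥(Cfsg.pResidual p G) = (PG : Subgroup G).index := by
      have hpos : 0 < Nat.card ↥(PG : Subgroup G) := Nat.card_pos
      apply Nat.eq_of_mul_eq_mul_left hpos
      rw [h2, mul_comm, h1]
    rw [h3, Nat.coprime_comm, Nat.Prime.coprime_iff_not_dvd hp]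
    exact PG.not_dvd_index
  · obtain ⟨k, hk⟩ := IsPGroup.iff_card.mp (isPGroup_quotient_pResidual (G := G) p)
    exact ⟨k, by rw [Subgroup.index_eq_card]; exact hk⟩

end main

/-- **Deskins–Janko**: a finite group with a maximal subgroup that is nilpotent of class at most
two is solvable -/
theorem isSolvable_of_nilpotent_maximal_class_two_aux :
    ∀ n : ℕ, ∀ (G : Type u) [Group G] [Finite G], Nat.card G = n → ∀ M : Subgroup G, IsCoatom M →
      ∀ hnil : Group.IsNilpotent ↥M, Group.nilpotencyClass ↥M ≤ 2 → Group.IsSolvable G := by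
  intro n
  induction n using Nat.strong_induction_on with
  | _ n ih =>
  intro G _ _ hn M hmax hnil hcl
  haveI := hnil
  by_cases hA : ∃ N : Subgroup G, N.Normal ∧ N ≠ ⊥ ∧ N ≤ M
  · -- pass to the quotient
    obtain ⟨N, hNn, hNb, hNM⟩ := hA
    haveI := hNn
    have hs := QuotientGroup.mk'_surjective N
    have hlt : Nat.card (G ⧸ N) < n := by
      rw [← hn]; exact Cfsg.Agent.Lib.Helper4.GT.card_quotient_lt N hNb
    have hcomap : (M.map (QuotientGroup.mk' N)).comap (QuotientGroup.mk' N) = M := by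
      rw [Subgroup.comap_map_eq, QuotientGroup.ker_mk']
      exact sup_eq_left.mpr hNM
    have hcoatom : IsCoatom (M.map (QuotientGroup.mk' N)) := by
      constructor
      · intro htop
        apply hmax.1
        rw [← hcomap, htop, Subgroup.comap_top]
      · intro L hL
        have h1 : M ≤ L.comap (QuotientGroup.mk' N) := by
          rw [← hcomap]; exact Subgroup.comap_mono hL.le
        have h2 : L.comap (QuotientGroup.mk' N) ≠ M := by
          intro h3
          apply hL.ne
          rw [← Subgroup.map_comap_eq_self_of_surjective hs L, h3]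
        have h4 : L.comap (QuotientGroup.mk' N) = ⊤ := hmax.2 _ (lt_of_le_of_ne h1 (Ne.symm h2))
        rw [← Subgroup.map_comap_eq_self_of_surjective hs L, h4, Subgroup.map_top_of_surjective _ hs]
    have hsurj : Function.Surjective ((QuotientGroup.mk' N).subgroupMap M) :=
      (QuotientGroup.mk' N).subgroupMap_surjective M
    have hnil' : Group.IsNilpotent ↥(M.map (QuotientGroup.mk' N)) :=
      Group.nilpotent_of_surjective _ hsurj
    have hcl' : Group.nilpotencyClass ↥(M.map (QuotientGroup.mk' N)) ≤ 2 :=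
      (Group.nilpotencyClass_le_of_surjective _ hsurj).trans hcl
    haveI : Group.IsSolvable (G ⧸ N) := ih _ hlt (G ⧸ N) rfl _ hcoatom hnil' hcl'
    haveI : Group.IsSolvable ↥N :=
      Group.isSolvable_of_isSolvable_injective (Subgroup.inclusion_injective hNM)
    apply Group.isSolvable_of_ker_le_range N.subtype (QuotientGroup.mk' N)
    rw [QuotientGroup.ker_mk', Subgroup.range_subtype]
  · -- the core of `M` is trivial
    have hcore : ∀ N : Subgroup G, N.Normal → N ≤ M → N = ⊥ := by
      intro N hN1 hN2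
      by_contra hN3
      exact hA ⟨N, hN1, hN3, hN2⟩
    by_cases hMb : M = ⊥
    · -- `G` is cyclic
      apply Group.isSolvable_of_comm
      intro a b
      by_cases ha : a = 1
      · rw [ha, one_mul, mul_one]
      · have h1 : (⊥ : Subgroup G) < Subgroup.zpowers a := by
          rw [bot_lt_iff_ne_bot]
          intro h2
          exact ha (Subgroup.zpowers_eq_bot.mp h2)
        have h3 : Subgroup.zpowers a = ⊤ := hmax.2 _ (hMb ▸ h1)
        have hb : b ∈ Subgroup.zpowers a := by rw [h3]; exact Subgroup.mem_top b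
        obtain ⟨k, rfl⟩ := hb
        exact (Commute.self_zpow a k).eq
    · -- normal `p`-complements for the primes dividing `|M|`
      have key : ∀ p ∈ (Nat.card ↥M).primeFactors, ∃ K : Subgroup G, K.Normal ∧
          (Nat.card ↥K).Coprime p ∧ ∃ k : ℕ, K.index = p ^ k := by
        intro p hp
        have hpp : p.Prime := Nat.prime_of_mem_primeFactors hp
        have hpd : p ∣ Nat.card ↥M := Nat.dvd_of_mem_primeFactors hp
        haveI : Fact p.Prime := ⟨hpp⟩
        have PM : Sylow p ↥M := default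
        haveI hPMn : (PM : Subgroup ↥M).Normal := inferInstance
        obtain ⟨Q, hQdef⟩ : ∃ Q : Subgroup G, Q = (PM : Subgroup ↥M).map M.subtype := ⟨_, rfl⟩
        have hQp : IsPGroup p ↥Q := by rw [hQdef]; exact PM.isPGroup'.map _
        have hQM : Q ≤ M := by rw [hQdef]; exact Subgroup.map_subtype_le _
        have hQne : Q ≠ ⊥ := by
          rw [hQdef]
          intro h1
          exact PM.ne_bot_of_dvd_card hpd
            ((Subgroup.map_eq_bot_iff_of_injective _ M.subtype_injective).mp h1)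
        have hMNQ : M ≤ Subgroup.normalizer (Q : Set G) := by
          rw [hQdef]; exact le_normalizer_map_subtype_of_normal M (PM : Subgroup ↥M)
        have hNQ : Subgroup.normalizer (Q : Set G) = M := by
          rcases hmax.le_iff.mp hMNQ with h1 | h1
          · exfalso
            exact hQne (hcore Q (Subgroup.normalizer_eq_top_iff.mp h1) hQM)
          · exact h1
        have hidx : ¬ p ∣ Q.index := by
          apply not_dvd_index_of_not_dvd_relIndex_normalizer Q hQp
          rw [hNQ, hQdef]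
          have h1 : ((PM : Subgroup ↥M).map M.subtype).relIndex M = (PM : Subgroup ↥M).index := by
            unfold Subgroup.relIndex Subgroup.subgroupOf
            rw [Subgroup.comap_map_eq_self_of_injective M.subtype_injective]
          rw [h1]
          exact PM.not_dvd_index
        obtain ⟨PG, hPG⟩ : ∃ PG : Sylow p G, (PG : Subgroup G) = Q :=
          ⟨hQp.toSylow hidx, IsPGroup.toSylow_coe _ _⟩
        exact exists_normal_complement M hmax hcl hcore PM PG (hPG.trans hQdef) (hPG ▸ hQne)
      choose Kf hKf using key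
      obtain ⟨K, hKdef⟩ : ∃ K : Subgroup G,
          K = ⨅ q : {q // q ∈ (Nat.card ↥M).primeFactors}, Kf q.1 q.2 := ⟨_, rfl⟩
      haveI hKn : K.Normal := by
        rw [hKdef]
        exact Subgroup.normal_iInf_normal (fun q => (hKf q.1 q.2).1)
      have hKle : ∀ q (hq : q ∈ (Nat.card ↥M).primeFactors), K ≤ Kf q hq := by
        intro q hq
        rw [hKdef]
        exact iInf_le (fun q : {q // q ∈ (Nat.card ↥M).primeFactors} => Kf q.1 q.2) ⟨q, hq⟩
      -- `K ∩ M = 1`
      have hKM : K ⊓ M = ⊥ := by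
        rw [eq_bot_iff]
        intro y hy
        rw [Subgroup.mem_inf] at hy
        rw [Subgroup.mem_bot]
        by_contra hy1
        have hord : orderOf y ≠ 1 := fun h => hy1 (orderOf_eq_one_iff.mp h)
        obtain ⟨q, hq, hqd⟩ := Nat.exists_prime_and_dvd hord
        have hyM : orderOf y ∣ Nat.card ↥M := by
          have h1 := orderOf_dvd_natCard (⟨y, hy.2⟩ : ↥M)
          rwa [Subgroup.orderOf_mk] at h1
        have hqM : q ∈ (Nat.card ↥M).primeFactors :=
          Nat.mem_primeFactors.mpr ⟨hq, hqd.trans hyM, Nat.card_pos.ne'⟩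
        have hyK : y ∈ Kf q hqM := hKle q hqM hy.1
        have hyK' : orderOf y ∣ Nat.card ↥(Kf q hqM) := by
          have h1 := orderOf_dvd_natCard (⟨y, hyK⟩ : ↥(Kf q hqM))
          rwa [Subgroup.orderOf_mk] at h1
        have hcop := (hKf q hqM).2.1
        exact (Nat.Prime.coprime_iff_not_dvd hq).mp hcop.symm (hqd.trans hyK')
      -- a central element of `M` of prime order
      haveI : Nontrivial ↥M := (Subgroup.nontrivial_iff_ne_bot M).mpr hMb
      have hZne := Group.IsNilpotent.center_ne_bot (G := ↥M)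
      obtain ⟨r, hr, hrd⟩ : ∃ r, r.Prime ∧ r ∣ Nat.card ↥(Subgroup.center ↥M) := by
        apply Nat.exists_prime_and_dvd
        intro h1
        exact hZne (Subgroup.card_eq_one.mp h1)
      haveI : Fact r.Prime := ⟨hr⟩
      obtain ⟨z, hz⟩ := exists_prime_orderOf_dvd_card' r hrd
      obtain ⟨x, hxdef⟩ : ∃ x : G, x = ((z : ↥M) : G) := ⟨_, rfl⟩
      have hxM : x ∈ M := by rw [hxdef]; exact (z : ↥M).2
      have hxr : x ^ r = 1 := by
        have h1 : z ^ r = 1 := by rw [← hz]; exact pow_orderOf_eq_one z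
        have h2 := congrArg (fun w : ↥(Subgroup.center ↥M) => ((w : ↥M) : G)) h1
        simpa [hxdef] using h2
      have hx1 : x ≠ 1 := by
        intro h1
        have h2 : z = 1 := by
          apply Subtype.ext
          apply Subtype.ext
          rw [← hxdef, h1]; rfl
        rw [h2, orderOf_one] at hz
        exact hr.one_lt.ne hz
      have hxc : ∀ m ∈ M, m * x = x * m := by
        intro m hm
        have h1 := Subgroup.mem_center_iff.mp z.2 ⟨m, hm⟩
        have h2 := congrArg Subtype.val h1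
        rw [hxdef]; exact h2
      -- `x` acts without fixed points on `K`
      have hfpf : ∀ k : ↥K, (MulAut.conjNormal x : MulAut ↥K) k = k → k = 1 := by
        intro k hk
        have hk' : x * (k : G) * x⁻¹ = k := by
          have h1 := congrArg Subtype.val hk
          rw [MulAut.conjNormal_apply] at h1
          exact h1
        obtain ⟨C, hCdef⟩ : ∃ C : Subgroup G, C = K ⊓ Subgroup.centralizer {x} := ⟨_, rfl⟩
        have hkC : (k : G) ∈ C := by
          rw [hCdef, Subgroup.mem_inf]
          refine ⟨k.2, ?_⟩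
          rw [Subgroup.mem_centralizer_iff]
          intro y hy
          rw [Set.mem_singleton_iff.mp hy]
          calc x * (k : G) = x * (k : G) * x⁻¹ * x := by group
            _ = (k : G) * x := by rw [hk']
        rcases hmax.le_iff.mp (le_sup_left : M ≤ M ⊔ C) with h1 | h1
        · -- `x` is central in `G`
          exfalso
          have hxcent : ∀ g : G, g * x = x * g := by
            intro g
            have hg : g ∈ M ⊔ C := by rw [h1]; exact Subgroup.mem_top g
            have hle : M ⊔ C ≤ Subgroup.centralizer {x} := by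
              apply sup_le
              · intro m hm
                rw [Subgroup.mem_centralizer_iff]
                intro y hy
                rw [Set.mem_singleton_iff.mp hy]
                exact (hxc m hm).symm
              · rw [hCdef]; exact inf_le_right
            have h2 := Subgroup.mem_centralizer_iff.mp (hle hg) x rfl
            exact h2.symm
          have hzn : (Subgroup.zpowers x).Normal := by
            constructor
            intro y hy g
            obtain ⟨j, rfl⟩ := hy
            have e : g * x ^ j * g⁻¹ = x ^ j := by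
              have hc : Commute g x := hxcent g
              have h3 : g * x ^ j = x ^ j * g := (hc.zpow_right j).eq
              rw [h3, mul_inv_cancel_right]
            rw [e]; exact Subgroup.zpow_mem_zpowers x j
          have h4 := hcore _ hzn (Subgroup.zpowers_le.mpr hxM)
          exact hx1 (Subgroup.zpowers_eq_bot.mp h4)
        · have hCM : C ≤ M := by rw [← h1]; exact le_sup_right
          have h5 : (k : G) ∈ K ⊓ M := Subgroup.mem_inf.mpr ⟨k.2, hCM hkC⟩
          rw [hKM, Subgroup.mem_bot] at h5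
          exact Subtype.ext h5
      have hα : (MulAut.conjNormal x : MulAut ↥K) ^ r = 1 := by
        rw [← map_pow, hxr, map_one]
      haveI hKnil : Group.IsNilpotent ↥K :=
        splits_isNilpotent hr _ (splits_of_fixedPointFree (MulAut.conjNormal x : MulAut ↥K) hα hfpf)
      -- `G ⧸ K` is solvable
      have hder : ∀ q (hq : q ∈ (Nat.card ↥M).primeFactors), ∃ m, derivedSeries G m ≤ Kf q hq := by
        intro q hq
        obtain ⟨hn', -, k, hk⟩ := hKf q hq
        haveI := hn'
        haveI : Fact q.Prime := ⟨Nat.prime_of_mem_primeFactors hq⟩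
        have hpg : IsPGroup q (G ⧸ Kf q hq) := by
          apply IsPGroup.of_card (n := k)
          rw [← Subgroup.index_eq_card, hk]
        haveI : Group.IsNilpotent (G ⧸ Kf q hq) := hpg.isNilpotent
        exact derivedSeries_le_of_isSolvable_quotient _ inferInstance
      choose mf hmf using hder
      obtain ⟨m₀, hm₀⟩ : ∃ m₀, ∀ q (hq : q ∈ (Nat.card ↥M).primeFactors), mf q hq ≤ m₀ := by
        refine ⟨((Nat.card ↥M).primeFactors.attach.sup (fun q => mf q.1 q.2)), ?_⟩
        intro q hq
        exact Finset.le_sup (f := fun q : {q // q ∈ (Nat.card ↥M).primeFactors} => mf q.1 q.2)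
          (Finset.mem_attach _ ⟨q, hq⟩)
      have hderK : derivedSeries G m₀ ≤ K := by
        rw [hKdef]
        apply le_iInf
        intro q
        exact (derivedSeries_antitone G (hm₀ q.1 q.2)).trans (hmf q.1 q.2)
      haveI : Group.IsSolvable (G ⧸ K) := isSolvable_quotient_of_derivedSeries_le K hderK
      apply Group.isSolvable_of_ker_le_range K.subtype (QuotientGroup.mk' K)
      rw [QuotientGroup.ker_mk', Subgroup.range_subtype]

theorem isSolvable_of_nilpotent_maximal_class_two {G : Type u} [Group G] [Finite G]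
    (M : Subgroup G) (hmax : IsCoatom M) (hnil : Group.IsNilpotent ↥M)
    (hcl : Group.nilpotencyClass ↥M ≤ 2) : Group.IsSolvable G :=
  isSolvable_of_nilpotent_maximal_class_two_aux (Nat.card G) G rfl M hmax hnil hcl

end Cfsg.Agent.Lead.NilMaxTwo
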