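import Cfsg.Agent.Lib.Lead.NilpSym2

/-!
# Nilpotent subgroups of alternating groups

Generic version of the induction of `NilpSym`, the odd-order bound, and the reduction
"a nilpotent subgroup of `A_n` extends to a nilpotent subgroup of `S_n` with an odd permutation,
or has odd order".
-/

set_option autoImplicit false

namespace Cfsg.Agent.NilpSym

open MulAction

/-- `sp p n = p ^ ν_p(n!)`. -/
def sp (p n : ℕ) : ℕ := p ^ (n.factorial.factorization p)

lemma sp_two (n : ℕ) : sp 2 n = s n := rfl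

section sp
variable (p : ℕ) [hp : Fact p.Prime]

lemma sp_pos (n : ℕ) : 0 < sp p n := by unfold sp; exact pow_pos hp.out.pos _

omit hp in
lemma sp_zero : sp p 0 = 1 := by simp [sp]
omit hp in
lemma sp_one : sp p 1 = 1 := by simp [sp]

lemma sp_le_of_dvd {a b : ℕ} (h : a ∣ b.factorial) (ha : a ≠ 0) :
    p ^ (a.factorization p) ≤ sp p b := by
  unfold sp
  apply Nat.pow_le_pow_right hp.out.pos
  exact (Nat.factorization_le_iff_dvd ha (Nat.factorial_ne_zero _)).mpr h p

lemma sp_mul_le (a b : ℕ) : sp p a * sp p b ≤ sp p (a + b) := by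
  have h := Nat.factorial_mul_factorial_dvd_factorial_add a b
  have h2 := sp_le_of_dvd p h (mul_ne_zero (Nat.factorial_ne_zero _) (Nat.factorial_ne_zero _))
  rw [Nat.factorization_mul (Nat.factorial_ne_zero _) (Nat.factorial_ne_zero _)] at h2
  simpa [sp, pow_add] using h2

lemma sp_mono {a b : ℕ} (h : a ≤ b) : sp p a ≤ sp p b := by
  have := sp_le_of_dvd p (Nat.factorial_dvd_factorial h) (Nat.factorial_ne_zero _)
  simpa [sp] using this

lemma sp_pow_le (j m : ℕ) (hm : 0 < m) : sp p j * sp p m ^ j ≤ sp p (j * m) := by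
  have h : m.factorial ^ j * j.factorial ∣ (j * m).factorial :=
    ⟨j.uniformBell m, by rw [← Nat.uniformBell_mul_eq j hm.ne']; ring⟩
  have h2 := sp_le_of_dvd p h (mul_ne_zero (pow_ne_zero _ (Nat.factorial_ne_zero _))
    (Nat.factorial_ne_zero _))
  rw [Nat.factorization_mul (pow_ne_zero _ (Nat.factorial_ne_zero _))
    (Nat.factorial_ne_zero _), Nat.factorization_pow] at h2
  simp only [Finsupp.coe_add, Finsupp.coe_smul, Pi.add_apply, Pi.smul_apply, smul_eq_mul] at h2
  rw [pow_add, pow_mul'] at h2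
  unfold sp
  rw [mul_comm]
  exact h2

lemma sp_self : p ≤ sp p p := by
  unfold sp
  have h : p ∣ p.factorial := Nat.dvd_factorial hp.out.pos le_rfl
  have : 1 ≤ p.factorial.factorization p :=
    (hp.out.dvd_iff_one_le_factorization (Nat.factorial_ne_zero _)).mp h
  calc p = p ^ 1 := (pow_one p).symm
    _ ≤ _ := Nat.pow_le_pow_right hp.out.pos this

lemma sp_prime_pow (k : ℕ) : sp p (p ^ k) = p ^ e p k := by
  unfold sp e
  rw [Nat.factorization_def _ hp.out]

end sp

/-- Generic bound predicate: `c ≤ r^j * f (n - q j)` for some `j`. -/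
def Bg (q r : ℕ) (f : ℕ → ℕ) (n c : ℕ) : Prop := ∃ j, q * j ≤ n ∧ c ≤ r ^ j * f (n - q * j)

section Bg
variable {q r : ℕ} {f : ℕ → ℕ} (hmul : ∀ a b, f a * f b ≤ f (a + b))
  (hmono : ∀ a b, a ≤ b → f a ≤ f b) (hpos : ∀ a, 0 < f a)

include hmul in
lemma Bg.mul {a b c d : ℕ} (h1 : Bg q r f a c) (h2 : Bg q r f b d) :
    Bg q r f (a + b) (c * d) := by
  obtain ⟨i, hi, hc⟩ := h1
  obtain ⟨j, hj, hd⟩ := h2
  refine ⟨i + j, by rw [mul_add]; omega, ?_⟩
  calc c * d ≤ (r ^ i * f (a - q * i)) * (r ^ j * f (b - q * j)) := Nat.mul_le_mul hc hd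
    _ = r ^ (i + j) * (f (a - q * i) * f (b - q * j)) := by ring
    _ ≤ r ^ (i + j) * f ((a - q * i) + (b - q * j)) := by gcongr; exact hmul _ _
    _ = r ^ (i + j) * f (a + b - q * (i + j)) := by congr 2; rw [mul_add]; omega

include hmono in
lemma Bg.mono {a n c : ℕ} (h1 : Bg q r f a c) (h : a ≤ n) : Bg q r f n c := by
  obtain ⟨i, hi, hc⟩ := h1
  refine ⟨i, by omega, hc.trans ?_⟩
  gcongr
  exact hmono _ _ (by omega)

lemma Bg.le {n c d : ℕ} (h1 : Bg q r f n c) (h : d ≤ c) : Bg q r f n d := by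
  obtain ⟨i, hi, hc⟩ := h1
  exact ⟨i, hi, h.trans hc⟩

include hpos in
lemma Bg.one (n : ℕ) : Bg q r f n 1 :=
  ⟨0, by omega, by simpa using Nat.one_le_iff_ne_zero.mpr (hpos n).ne'⟩

end Bg


/-- `t n = 3 ^ ν₃(n!)`. -/
abbrev t (n : ℕ) : ℕ := sp 3 n

lemma t_three : 3 ≤ t 3 := sp_self 3

lemma t_six : 9 ≤ t 6 := by
  have h := sp_pow_le 3 2 3 (by norm_num)
  have h3 := t_three
  have h2 := sp_pos 3 2
  have : 1 * 3 ^ 2 ≤ sp 3 2 * sp 3 3 ^ 2 :=
    Nat.mul_le_mul h2 (Nat.pow_le_pow_left h3 _)
  norm_num at this h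
  exact this.trans h

lemma t_eight : 9 ≤ t 8 := t_six.trans (sp_mono 3 (by norm_num))

lemma t_twentyfive : 59049 ≤ t 25 := by
  have h := sp_pow_le 3 8 3 (by norm_num)
  have h3 := t_three
  have h8 := t_eight
  have : 9 * 3 ^ 8 ≤ sp 3 8 * sp 3 3 ^ 8 := Nat.mul_le_mul h8 (Nat.pow_le_pow_left h3 _)
  have h25 : sp 3 (8 * 3) ≤ sp 3 25 := sp_mono 3 (by norm_num)
  norm_num at this h h25
  exact this.trans (h.trans h25)

lemma le_t (n : ℕ) (hn : 6 ≤ n) : n + 1 ≤ t n := by
  induction n using Nat.strong_induction_on with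
  | _ n ih =>
    rcases Nat.lt_or_ge n 9 with h | h
    · have h6 := t_six
      have := sp_mono 3 hn
      have : 9 ≤ t n := h6.trans this
      omega
    · have h1 := ih (n - 3) (by omega) (by omega)
      have h2 := sp_mul_le 3 (n - 3) 3
      rw [show n - 3 + 3 = n by omega] at h2
      have h3 := t_three
      have : (n - 3 + 1) * 3 ≤ sp 3 (n - 3) * sp 3 3 := Nat.mul_le_mul h1 h3
      have : (n - 3 + 1) * 3 ≤ t n := this.trans h2
      omega

lemma pow_e_le_t (p : ℕ) [hp : Fact p.Prime] (hp7 : 7 ≤ p) (k : ℕ) : p ^ e p k ≤ t (p ^ k) := by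
  induction k with
  | zero => simp [e_zero, sp_one]
  | succ k ih =>
    rw [e_succ', pow_succ, pow_mul', mul_comm, pow_succ']
    have h1 := le_t p (by omega)
    have h2 := sp_pow_le 3 p (p ^ k) (pow_pos hp.out.pos _)
    calc p * (p ^ e p k) ^ p ≤ sp 3 p * sp 3 (p ^ k) ^ p := by
          apply Nat.mul_le_mul (by unfold t at h1; omega)
          exact Nat.pow_le_pow_left ih _
      _ ≤ _ := h2

instance fact_five' : Fact (Nat.Prime 5) := ⟨Nat.prime_five⟩

lemma two_pow_e_five_le (k : ℕ) (hk : 2 ≤ k) : 2 * 5 ^ e 5 k ≤ t (5 ^ k) := by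
  induction k, hk using Nat.le_induction with
  | base =>
    have h1 : e 5 2 = 6 := by simp [e_succ', e_zero]
    rw [h1]
    have := t_twentyfive
    norm_num at *
    omega
  | succ k hk ih =>
    rw [e_succ', pow_succ, pow_mul']
    have h2 := sp_pow_le 3 5 (5 ^ k) (by positivity)
    have h5 : 1 ≤ sp 3 5 := sp_pos 3 5
    rw [pow_succ']
    set X := 5 ^ e 5 k
    set S := sp 3 (5 ^ k)
    have h4 : (2 * X) ^ 5 ≤ S ^ 5 := Nat.pow_le_pow_left ih _
    have h6 : (2 * X) ^ 5 = 32 * X ^ 5 := by ring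
    have h7 : 1 * S ^ 5 ≤ sp 3 5 * S ^ 5 := Nat.mul_le_mul_right _ h5
    have h8 : 2 * (X * X ^ 4 * 5) = 10 * X ^ 5 := by ring
    rw [h8]
    have h9 : t (5 ^ (k + 1)) = sp 3 (5 * 5 ^ k) := by rw [pow_succ']
    rw [h9]
    omega

/-- The odd bound predicate. -/
abbrev Bo (n c : ℕ) : Prop := Bg 5 5 t n c

lemma bo_prime_pow (p : ℕ) [hp : Fact p.Prime] (hodd : p ≠ 2) (k : ℕ) :
    Bo (p ^ k) (p ^ e p k) := by
  rcases Nat.lt_or_ge p 7 with h7 | h7
  · have hp' := hp.out
    have : p = 3 ∨ p = 5 := by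
      have h2 := hp'.two_le
      interval_cases p
      · exact absurd rfl hodd
      · left; rfl
      · exact absurd hp' (by norm_num)
      · right; rfl
      · exact absurd hp' (by norm_num)
    rcases this with rfl | rfl
    · refine ⟨0, by simp, ?_⟩
      simp only [pow_zero, one_mul, mul_zero, Nat.sub_zero]
      exact (sp_prime_pow 3 k).ge
    · rcases Nat.lt_or_ge k 2 with hk | hk
      · interval_cases k
        · refine ⟨0, by simp, ?_⟩
          simp [e_zero, sp_one]
        · refine ⟨1, by norm_num, ?_⟩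
          simp [e_succ', e_zero, sp_zero]
      · refine ⟨0, by simp, ?_⟩
        have := two_pow_e_five_le k hk
        simp only [pow_zero, one_mul, mul_zero, Nat.sub_zero]
        omega
  · exact ⟨0, by simp, by simpa using pow_e_le_t p h7 k⟩



/-- Generic version of `main`: a bound predicate `B` closed under the operations used in the
induction, valid on transitive `p`-groups for all primes `p` satisfying `Q`. -/
theorem main_gen (B : ℕ → ℕ → Prop) (Q : ℕ → Prop)
    (hone : ∀ n, B n 1)
    (hmul : ∀ a b c d, B a c → B b d → B (a + b) (c * d))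
    (hmono : ∀ a n c, B a c → a ≤ n → B n c)
    (hle : ∀ n c d, B n c → d ≤ c → B n d)
    (hpp : ∀ p [Fact p.Prime], Q p → ∀ k, B (p ^ k) (p ^ e p k)) :
    ∀ n : ℕ, ∀ (N : Type) [Group N] [Finite N], Group.IsNilpotent N →
    (∀ p, p.Prime → p ∣ Nat.card N → Q p) →
    ∀ (Ω : Type) [Finite Ω] [MulAction N Ω] [FaithfulSMul N Ω], Nat.card Ω = n →
    B n (Nat.card N) := by
  intro n
  induction n using Nat.strong_induction_on with
  | _ n ih =>
    intro N _ _ hN hQ Ω _ _ _ hΩ
    by_cases h1 : Nat.card N = 1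
    · rw [h1]; exact hone n
    have hne : Nonempty Ω := by
      by_contra hemp
      rw [not_nonempty_iff] at hemp
      apply h1
      have : Subsingleton N :=
        ⟨fun a b => FaithfulSMul.eq_of_smul_eq_smul (α := Ω) (fun x => isEmptyElim x)⟩
      exact Nat.card_unique
    obtain ⟨ω⟩ := hne
    by_cases htr : orbit N ω = Set.univ
    · -- transitive case
      have hpre : IsPretransitive N Ω := by
        refine ⟨fun x y => ?_⟩
        have hx : x ∈ orbit N ω := htr ▸ Set.mem_univ x
        have hy : y ∈ orbit N ω := htr ▸ Set.mem_univ y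
        obtain ⟨g, rfl⟩ := hx
        obtain ⟨h, rfl⟩ := hy
        exact ⟨h * g⁻¹, by simp [mul_smul]⟩
      obtain ⟨p, hp, hpdvd⟩ := Nat.exists_prime_and_dvd h1
      have : Fact p.Prime := ⟨hp⟩
      let A : Sylow p N := default
      have hAn : (A : Subgroup N).Normal :=
        Sylow.normal_of_normalizerCondition Group.normalizerCondition_of_isNilpotent A
      have hnN : n ∣ Nat.card N := by
        rw [← hΩ, ← MulAction.index_stabilizer_of_transitive N ω]
        exact Subgroup.index_dvd_card _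
      have hNfact : Nat.card N ∣ n.factorial := by
        have := Subgroup.card_dvd_of_injective (MulAction.toPermHom N Ω) MulAction.toPerm_injective
        rwa [Nat.card_perm, hΩ] at this
      by_cases hAtop : (A : Subgroup N) = ⊤
      · -- `N` is a `p`-group
        have hcardA : Nat.card N = Nat.card A := by
          have : Nat.card (A : Subgroup N) = Nat.card (⊤ : Subgroup N) := by rw [hAtop]
          rw [this, Subgroup.card_top]
        obtain ⟨a, ha⟩ := IsPGroup.iff_card.mp A.isPGroup'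
        rw [← hcardA] at ha
        have hQp : Q p := hQ p hp hpdvd
        rw [ha] at hnN hNfact
        obtain ⟨k, hk, hnk⟩ := (Nat.dvd_prime_pow hp).mp hnN
        have hle' : a ≤ padicValNat p n.factorial :=
          (padicValNat_dvd_iff_le (Nat.factorial_ne_zero n)).mp hNfact
        have : Nat.card N ≤ p ^ e p k := by
          rw [ha]; unfold e; rw [← hnk]; exact Nat.pow_le_pow_right hp.pos hle'
        rw [hnk]; exact hle _ _ _ (hpp p hQp k) this
      · -- not a `p`-group
        obtain ⟨B', hB⟩ := Subgroup.exists_right_complement'_of_coprime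
          (N := (A : Subgroup N)) (Sylow.card_coprime_index A)
        have hcardAB := hB.card_mul_card
        have hcop : Nat.Coprime (Nat.card A) (Nat.card B') := by
          have := Sylow.card_coprime_index A
          rwa [hB.symm.index_eq_card] at this
        have hcomm : ∀ a ∈ (A : Subgroup N), ∀ b ∈ B', a * b = b * a := by
          intro a ha b hb
          apply commute_of_coprime_orderOf N a b (isOfFinOrder_of_finite a) (isOfFinOrder_of_finite b)
          have h1 : orderOf a ∣ Nat.card A := by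
            have := orderOf_dvd_natCard (⟨a, ha⟩ : (A : Subgroup N))
            rwa [Subgroup.orderOf_mk] at this
          have h2 : orderOf b ∣ Nat.card B' := by
            have := orderOf_dvd_natCard (⟨b, hb⟩ : B')
            rwa [Subgroup.orderOf_mk] at this
          exact Nat.Coprime.coprime_dvd_left h1 (Nat.Coprime.coprime_dvd_right h2 hcop)
        have hAB : ∀ g : N, ∃ a ∈ (A : Subgroup N), ∃ b ∈ B', g = a * b := by
          intro g
          obtain ⟨⟨a, b⟩, hab⟩ := hB.2 g
          exact ⟨a.1, a.2, b.1, b.2, hab.symm⟩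
        have hcomm' : ∀ b ∈ B', ∀ a ∈ (A : Subgroup N), b * a = a * b :=
          fun b hb a ha => (hcomm a ha b hb).symm
        have hAB' : ∀ g : N, ∃ b ∈ B', ∃ a ∈ (A : Subgroup N), g = b * a := by
          intro g
          obtain ⟨a, ha, b, hb, rfl⟩ := hAB g
          exact ⟨b, hb, a, ha, hcomm a ha b hb⟩
        have hAbot : (A : Subgroup N) ≠ ⊥ := Sylow.ne_bot_of_dvd_card A hpdvd
        have hBbot : B' ≠ ⊥ := by
          intro hbot
          apply hAtop
          rw [hbot, Subgroup.card_bot, mul_one] at hcardAB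
          exact Subgroup.eq_top_of_card_eq _ hcardAB
        set a' := (orbit (A : Subgroup N) ω).ncard with ha'
        set b' := (orbit B' ω).ncard with hb'
        have ha2 : 2 ≤ a' := factor_two_le _ B' hcomm hAB ω hAbot
        have hb2 : 2 ≤ b' := factor_two_le B' _ hcomm' hAB' ω hBbot
        have han : a' ∣ n := hΩ ▸ factor_orbit_dvd _ B' hcomm hAB ω
        have hbn : b' ∣ n := hΩ ▸ factor_orbit_dvd B' _ hcomm' hAB' ω
        have haA : a' ∣ Nat.card A := orbit_ncard_dvd_card _ ω
        have hbB : b' ∣ Nat.card B' := orbit_ncard_dvd_card B' ω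
        have hcop' : Nat.Coprime a' b' :=
          Nat.Coprime.coprime_dvd_left haA (Nat.Coprime.coprime_dvd_right hbB hcop)
        have hnpos : 0 < n := by
          rw [← hΩ]
          have : Nonempty Ω := ⟨ω⟩
          exact Nat.card_pos
        have habn : a' * b' ≤ n := Nat.le_of_dvd hnpos (hcop'.mul_dvd_of_dvd_of_dvd han hbn)
        have hsum : a' + b' ≤ n := by nlinarith
        have := factor_faithful_inst _ B' hcomm hAB ω
        have := factor_faithful_inst B' _ hcomm' hAB' ω
        have hQA : ∀ p, p.Prime → p ∣ Nat.card (A : Subgroup N) → Q p :=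
          fun p hp hd => hQ p hp (hd.trans (Subgroup.card_subgroup_dvd_card _))
        have hQB : ∀ p, p.Prime → p ∣ Nat.card B' → Q p :=
          fun p hp hd => hQ p hp (hd.trans (Subgroup.card_subgroup_dvd_card _))
        have bA := ih a' (by omega) (A : Subgroup N) inferInstance hQA
          (orbit (A : Subgroup N) ω) (Nat.card_coe_set_eq _)
        have bB := ih b' (by omega) B' inferInstance hQB (orbit B' ω) (Nat.card_coe_set_eq _)
        have := hmono _ _ _ (hmul _ _ _ _ bA bB) hsum
        rwa [hcardAB] at this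
    · -- intransitive case
      set S := orbSub N ω with hS
      have hcard := card_complSub S
      rw [hΩ] at hcard
      have hS1 : 0 < Nat.card S := by
        have : Nonempty S := ⟨⟨ω, mem_orbit_self ω⟩⟩
        exact Nat.card_pos
      have hT1 : 0 < Nat.card (complSub S) := by
        obtain ⟨x, hx⟩ : ∃ x, x ∉ orbit N ω := by
          by_contra hcon
          push Not at hcon
          exact htr (Set.eq_univ_of_forall hcon)
        have : Nonempty (complSub S) := ⟨⟨x, hx⟩⟩
        exact Nat.card_pos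
      have hn1 : Group.IsNilpotent (toPermHom N S).range :=
        Group.nilpotent_of_surjective _ (MonoidHom.rangeRestrict_surjective _)
      have hn2 : Group.IsNilpotent (toPermHom N (complSub S)).range :=
        Group.nilpotent_of_surjective _ (MonoidHom.rangeRestrict_surjective _)
      have hQ1 : ∀ p, p.Prime → p ∣ Nat.card (toPermHom N S).range → Q p :=
        fun p hp hd => hQ p hp (hd.trans (Subgroup.card_range_dvd _))
      have hQ2 : ∀ p, p.Prime → p ∣ Nat.card (toPermHom N (complSub S)).range → Q p :=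
        fun p hp hd => hQ p hp (hd.trans (Subgroup.card_range_dvd _))
      have b1 := ih (Nat.card S) (by omega) (toPermHom N S).range hn1 hQ1 S rfl
      have b2 := ih (Nat.card (complSub S)) (by omega) (toPermHom N (complSub S)).range hn2 hQ2
        (complSub S) rfl
      have := hle _ _ _ (hmul _ _ _ _ b1 b2) (card_split S)
      rwa [hcard] at this



lemma sp_legendre (p : ℕ) [hp : Fact p.Prime] (n b : ℕ) (h : n < p ^ b) :
    sp p n = p ^ (∑ i ∈ Finset.Ico 1 b, n / p ^ i) := by
  unfold sp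
  rcases Nat.eq_zero_or_pos n with rfl | hn
  · simp
  rw [Nat.factorization_def _ hp.out, padicValNat_factorial]
  exact Nat.log_lt_of_lt_pow hn.ne' h

lemma t_sq_le (m : ℕ) : t m ^ 2 ≤ 3 ^ m := by
  unfold t sp
  rw [← pow_mul]
  apply Nat.pow_le_pow_right (by norm_num)
  rw [Nat.factorization_def _ Nat.prime_three]
  have := sub_one_mul_padicValNat_factorial (p := 3) m
  omega

lemma two_pow_le (n : ℕ) (hn : 0 < n) : 2 ^ n ≤ 2 * n * s n := by
  have : Fact (Nat.Prime 2) := ⟨Nat.prime_two⟩
  have h1 := sub_one_mul_padicValNat_factorial (p := 2) n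
  have h2 := Nat.digit_sum_le 2 n
  have h3 : (Nat.digits 2 n).sum ≤ (Nat.digits 2 n).length := by
    have : ∀ d ∈ Nat.digits 2 n, d ≤ 1 := fun d hd => by
      have := Nat.digits_lt_base (by norm_num : 1 < 2) hd
      omega
    have := List.sum_le_card_nsmul (Nat.digits 2 n) 1 this
    simpa using this
  rw [Nat.length_digits 2 n (by norm_num) hn.ne'] at h3
  have h4 : 2 ^ Nat.log 2 n ≤ n := Nat.pow_log_le_self 2 hn.ne'
  have h5 : n = padicValNat 2 n.factorial + (Nat.digits 2 n).sum := by omega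
  have h6 : s n = 2 ^ padicValNat 2 n.factorial := by
    unfold s; rw [Nat.factorization_def _ Nat.prime_two]
  rw [h6]
  calc 2 ^ n = 2 ^ (padicValNat 2 n.factorial + (Nat.digits 2 n).sum) := by rw [← h5]
    _ = 2 ^ (Nat.digits 2 n).sum * 2 ^ padicValNat 2 n.factorial := by rw [pow_add]; ring
    _ ≤ 2 ^ (Nat.log 2 n + 1) * 2 ^ padicValNat 2 n.factorial := by
        gcongr
        norm_num
    _ = 2 * 2 ^ Nat.log 2 n * 2 ^ padicValNat 2 n.factorial := by rw [pow_succ]; ring
    _ ≤ 2 * n * 2 ^ padicValNat 2 n.factorial := by gcongr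

lemma pow_ineq (n : ℕ) (hn : 35 ≤ n) : 16 * n ^ 2 * 3 ^ n ≤ 4 ^ n := by
  induction n, hn using Nat.le_induction with
  | base => norm_num
  | succ n hn ih =>
    have h1 : 3 * (n + 1) ^ 2 ≤ 4 * n ^ 2 := by nlinarith
    calc 16 * (n + 1) ^ 2 * 3 ^ (n + 1) = (3 * (n + 1) ^ 2) * (16 * 3 ^ n) := by ring
      _ ≤ (4 * n ^ 2) * (16 * 3 ^ n) := by gcongr
      _ = 4 * (16 * n ^ 2 * 3 ^ n) := by ring
      _ ≤ 4 * 4 ^ n := by gcongr
      _ = 4 ^ (n + 1) := by ring

/-- The large range of the final comparison. -/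
lemma final_large (n i : ℕ) (hn : 35 ≤ n) (hi : 5 * i ≤ n) :
    2 * (5 ^ i * t (n - 5 * i)) ≤ s n := by
  have h1 := t_sq_le (n - 5 * i)
  have h2 := two_pow_le n (by omega)
  have h3 := pow_ineq n hn
  have hn0 : 0 < n := by omega
  rw [← Nat.pow_le_pow_iff_left (n := 2) (by norm_num)]
  have h4 : (2 * (5 ^ i * t (n - 5 * i))) ^ 2 ≤ 4 * 3 ^ n := by
    calc (2 * (5 ^ i * t (n - 5 * i))) ^ 2 = 4 * 25 ^ i * t (n - 5 * i) ^ 2 := by
          rw [show (25 : ℕ) = 5 ^ 2 by norm_num, ← pow_mul]; ring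
      _ ≤ 4 * 243 ^ i * 3 ^ (n - 5 * i) := by
          gcongr
          norm_num
      _ = 4 * 3 ^ n := by
          rw [show (243 : ℕ) = 3 ^ 5 by norm_num, ← pow_mul, mul_assoc, ← pow_add]
          congr 2; omega
  have h5 : (4 : ℕ) ^ n = (2 ^ n) ^ 2 := by
    rw [show (4 : ℕ) = 2 ^ 2 by norm_num, ← pow_mul, ← pow_mul, mul_comm]
  have h6 : (2 ^ n) ^ 2 ≤ (2 * n * s n) ^ 2 := Nat.pow_le_pow_left h2 2
  have h7 : 16 * n ^ 2 * 3 ^ n ≤ 4 * n ^ 2 * s n ^ 2 := by
    calc 16 * n ^ 2 * 3 ^ n ≤ 4 ^ n := h3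
      _ = (2 ^ n) ^ 2 := h5
      _ ≤ (2 * n * s n) ^ 2 := h6
      _ = 4 * n ^ 2 * s n ^ 2 := by ring
  have h8 : 4 * 3 ^ n ≤ s n ^ 2 := by
    have hpos : 0 < 4 * n ^ 2 := by positivity
    have : 4 * n ^ 2 * (4 * 3 ^ n) ≤ 4 * n ^ 2 * s n ^ 2 := by
      calc 4 * n ^ 2 * (4 * 3 ^ n) = 16 * n ^ 2 * 3 ^ n := by ring
        _ ≤ _ := h7
    exact Nat.le_of_mul_le_mul_left this hpos
  exact h4.trans h8


set_option maxRecDepth 100000 in
lemma fin_check : ∀ n ∈ Finset.range 35, n ∉ ({0,1,3,5,6,7,9} : Finset ℕ) →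
    ∀ i ∈ Finset.range 8, 5 * i ≤ n →
    2 * (5 ^ i * 3 ^ (∑ j ∈ Finset.Ico 1 4, (n - 5 * i) / 3 ^ j)) ≤
      2 ^ (∑ j ∈ Finset.Ico 1 6, n / 2 ^ j) := by
  decide

/-- Final comparison for odd-order groups. -/
lemma final_cmp (n i : ℕ) (hn : n ∉ ({0,1,3,5,6,7,9} : Finset ℕ)) (hi : 5 * i ≤ n) :
    2 * (5 ^ i * t (n - 5 * i)) ≤ s n := by
  rcases Nat.lt_or_ge n 35 with h | h
  · have h1 := fin_check n (Finset.mem_range.mpr h) hn i (Finset.mem_range.mpr (by omega)) hi
    have : Fact (Nat.Prime 2) := ⟨Nat.prime_two⟩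
    have h2 : s n = 2 ^ (∑ j ∈ Finset.Ico 1 6, n / 2 ^ j) :=
      sp_legendre 2 n 6 (by norm_num; omega)
    have h3 : t (n - 5 * i) = 3 ^ (∑ j ∈ Finset.Ico 1 4, (n - 5 * i) / 3 ^ j) :=
      sp_legendre 3 (n - 5 * i) 4 (by norm_num; omega)
    rw [h2, h3]; exact h1
  · exact final_large n i h hi

lemma Bo.two_mul_le {n c : ℕ} (h : Bo n c) (hn : n ∉ ({0,1,3,5,6,7,9} : Finset ℕ)) :
    2 * c ≤ s n := by
  obtain ⟨i, hi, hc⟩ := h
  calc 2 * c ≤ 2 * (5 ^ i * t (n - 5 * i)) := by gcongr
    _ ≤ s n := final_cmp n i hn hi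

/-- Odd-order nilpotent permutation groups satisfy the odd bound. -/
theorem main_odd (n : ℕ) (N : Type) [Group N] [Finite N] (hN : Group.IsNilpotent N)
    (hodd : Odd (Nat.card N)) (Ω : Type) [Finite Ω] [MulAction N Ω] [FaithfulSMul N Ω]
    (hΩ : Nat.card Ω = n) : Bo n (Nat.card N) := by
  have hmul : ∀ a b, t a * t b ≤ t (a + b) := sp_mul_le 3
  have hmono : ∀ a b, a ≤ b → t a ≤ t b := fun a b h => sp_mono 3 h
  have hpos : ∀ a, 0 < t a := sp_pos 3
  refine main_gen Bo (fun p => p ≠ 2) (Bg.one hpos) (fun a b c d => Bg.mul hmul)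
    (fun a n c => Bg.mono hmono) (fun n c d => Bg.le) (fun p _ hp k => bo_prime_pow p hp k)
    n N hN ?_ Ω hΩ
  intro p hp hd h2
  subst h2
  exact (Nat.not_even_iff_odd.mpr hodd) (even_iff_two_dvd.mpr hd)


/-- E1: a nilpotent overgroup with an odd permutation doubles the order. -/
lemma two_mul_card_le_of_not_le_alt {α : Type*} [Fintype α] [DecidableEq α]
    (N' Ñ : Subgroup (Equiv.Perm α)) (h1 : N' ≤ Ñ) (h2 : N' ≤ alternatingGroup α)
    (h3 : ¬ Ñ ≤ alternatingGroup α) : 2 * Nat.card N' ≤ Nat.card Ñ := by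
  let φ : Ñ →* ℤˣ := (Equiv.Perm.sign).comp Ñ.subtype
  have hker : N'.subgroupOf Ñ ≤ φ.ker := by
    intro g hg
    rw [Subgroup.mem_subgroupOf] at hg
    rw [MonoidHom.mem_ker]
    exact Equiv.Perm.mem_alternatingGroup.mp (h2 hg)
  have hrange : φ.range = ⊤ := by
    rw [eq_top_iff]
    intro u _
    obtain ⟨g, hg, hga⟩ := Set.not_subset.mp h3
    have hs : Equiv.Perm.sign g = -1 := by
      rcases Int.units_eq_one_or (Equiv.Perm.sign g) with h | h
      · exact absurd (Equiv.Perm.mem_alternatingGroup.mpr h) hga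
      · exact h
    rcases Int.units_eq_one_or u with rfl | rfl
    · exact Subgroup.one_mem _
    · exact ⟨⟨g, hg⟩, hs⟩
  have hidx : φ.ker.index = 2 := by
    rw [Subgroup.index_ker, hrange, Subgroup.card_top]
    simp [Nat.card_eq_fintype_card]
  have hcm := Subgroup.card_mul_index φ.ker
  rw [hidx] at hcm
  have hle : Nat.card N' ≤ Nat.card φ.ker := by
    rw [← Nat.card_congr (Subgroup.subgroupOfEquivOfLe h1).toEquiv]
    exact Subgroup.card_le_of_le hker
  omega

/-- E2: the join of two elementwise commuting nilpotent subgroups is nilpotent. -/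
lemma isNilpotent_sup_of_commute {G : Type*} [Group G] (S D : Subgroup G)
    (hS : Group.IsNilpotent S) (hD : Group.IsNilpotent D)
    (hcomm : ∀ s ∈ S, ∀ d ∈ D, s * d = d * s) : Group.IsNilpotent (S ⊔ D : Subgroup G) := by
  have hc : ∀ (s : S) (d : D), Commute (S.subtype s) (D.subtype d) :=
    fun s d => hcomm s.1 s.2 d.1 d.2
  let f : S × D →* G := MonoidHom.noncommCoprod S.subtype D.subtype hc
  have hr : f.range = S ⊔ D := by
    change (MonoidHom.noncommCoprod S.subtype D.subtype hc).range = _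
    rw [MonoidHom.noncommCoprod_range, Subgroup.range_subtype, Subgroup.range_subtype]
  have : Group.IsNilpotent f.range :=
    Group.nilpotent_of_surjective f.rangeRestrict f.rangeRestrict_surjective
  rw [← hr]; exact this


/-- E3: an involution centralizing an odd-order permutation group `D` yields an odd involution
centralizing `D`. -/
lemma exists_odd_involution {α : Type*} [Fintype α] [DecidableEq α]
    (D : Subgroup (Equiv.Perm α)) (hD : Odd (Nat.card D)) (t : Equiv.Perm α)
    (ht2 : t * t = 1) (ht1 : t ≠ 1) (htD : ∀ d ∈ D, t * d = d * t) :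
    ∃ τ : Equiv.Perm α, (∀ d ∈ D, τ * d = d * τ) ∧ τ * τ = 1 ∧ Equiv.Perm.sign τ = -1 := by
  classical
  obtain ⟨x, hx⟩ : ∃ x, t x ≠ x := by
    by_contra hcon
    push Not at hcon
    exact ht1 (Equiv.Perm.ext hcon)
  have htt : ∀ y, t (t y) = y := fun y => by
    have := congrArg (fun σ : Equiv.Perm α => σ y) ht2
    simpa using this
  have htd : ∀ d ∈ D, ∀ y, t (d y) = d (t y) := fun d hd y => by
    have := congrArg (fun σ : Equiv.Perm α => σ y) (htD d hd)
    simpa using this
  set O : Set α := orbit D x with hO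
  have hOmem : ∀ y, y ∈ O ↔ ∃ d ∈ D, d x = y := by
    intro y
    constructor
    · rintro ⟨d, rfl⟩
      exact ⟨d.1, d.2, rfl⟩
    · rintro ⟨d, hd, rfl⟩
      exact ⟨⟨d, hd⟩, rfl⟩
  have hOinv : ∀ d ∈ D, ∀ y, y ∈ O → d y ∈ O := by
    intro d hd y hy
    obtain ⟨d', hd', rfl⟩ := (hOmem y).mp hy
    exact (hOmem _).mpr ⟨d * d', D.mul_mem hd hd', rfl⟩
  -- key: `t` moves `O` off itself
  have hK : ∀ y, y ∈ O → t y ∉ O := by
    intro y hy hty
    obtain ⟨d, hd, rfl⟩ := (hOmem y).mp hy
    obtain ⟨d', hd', hd'e⟩ := (hOmem _).mp hty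
    -- t x = d⁻¹ d' x
    set d'' := d⁻¹ * d' with hd''
    have hd''D : d'' ∈ D := D.mul_mem (D.inv_mem hd) hd'
    have h1 : t x = d'' x := by
      have : d (t x) = d' x := by rw [← htd d hd x, hd'e]
      have := congrArg (fun z => d⁻¹ z) this
      simpa [hd''] using this
    have h2 : (d'' * d'') x = x := by
      have := htt x
      rw [h1, htd d'' hd''D, h1] at this
      exact this
    have hodd : Odd (orderOf d'') := by
      have h3 : orderOf d'' ∣ Nat.card D := by
        have := orderOf_dvd_natCard (⟨d'', hd''D⟩ : D)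
        rwa [Subgroup.orderOf_mk] at this
      exact Odd.of_dvd_nat hD h3
    obtain ⟨j, hj⟩ := hodd
    have h4 : d'' = (d'' * d'') ^ (j + 1) := by
      rw [← pow_two, ← pow_mul, show 2 * (j + 1) = orderOf d'' + 1 by omega, pow_succ,
        pow_orderOf_eq_one, one_mul]
    have h5 : d'' x = x := by
      rw [h4]
      exact Equiv.Perm.pow_apply_eq_self_of_apply_eq_self h2 _
    exact hx (h1.trans h5)
  set U : Set α := O ∪ t '' O with hU
  have hUmem : ∀ y, y ∈ U ↔ (y ∈ O ∨ t y ∈ O) := by
    intro y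
    rw [hU, Set.mem_union]
    constructor
    · rintro (h | ⟨z, hz, rfl⟩)
      · exact Or.inl h
      · right; rw [htt]; exact hz
    · rintro (h | h)
      · exact Or.inl h
      · exact Or.inr ⟨t y, h, htt y⟩
  have hUt : ∀ y, y ∈ U → t y ∈ U := by
    intro y hy
    rcases (hUmem y).mp hy with h | h
    · exact (hUmem _).mpr (Or.inr (by rwa [htt]))
    · exact (hUmem _).mpr (Or.inl h)
  have hUne : ∀ y, y ∈ U → t y ≠ y := by
    intro y hy hty
    rcases (hUmem y).mp hy with h | h
    · exact hK y h (hty.symm ▸ h)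
    · exact hK (t y) h (by rw [htt]; exact hty ▸ h)
  have hUD : ∀ d ∈ D, ∀ y, y ∈ U → d y ∈ U := by
    intro d hd y hy
    rcases (hUmem y).mp hy with h | h
    · exact (hUmem _).mpr (Or.inl (hOinv d hd y h))
    · exact (hUmem _).mpr (Or.inr (by rw [htd d hd]; exact hOinv d hd _ h))
  let f : α → α := fun y => if y ∈ U then t y else y
  have hf : Function.Involutive f := by
    intro y
    by_cases hy : y ∈ U
    · simp only [f, hy, if_true, hUt y hy, htt]
    · simp only [f, hy, if_false]
  let τ : Equiv.Perm α := hf.toPerm f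
  have hτ : ∀ y, τ y = if y ∈ U then t y else y := fun y => rfl
  have hτ2 : τ * τ = 1 := by
    ext y
    simp only [Equiv.Perm.coe_mul, Function.comp_apply, Equiv.Perm.coe_one, id_eq]
    exact hf y
  refine ⟨τ, ?_, hτ2, ?_⟩
  · intro d hd
    ext y
    simp only [Equiv.Perm.coe_mul, Function.comp_apply]
    by_cases hy : y ∈ U
    · rw [hτ (d y), if_pos (hUD d hd y hy), hτ y, if_pos hy, htd d hd]
    · have hdy : d y ∉ U := by
        intro h
        apply hy
        have := hUD d⁻¹ (D.inv_mem hd) _ h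
        simpa using this
      rw [hτ (d y), if_neg hdy, hτ y, if_neg hy]
  · -- the sign
    have hτx : τ x ≠ x := by
      have hxU : x ∈ U := (hUmem x).mpr (Or.inl (mem_orbit_self x))
      rw [hτ x, if_pos hxU]; exact hx
    have hτ1 : τ ≠ 1 := fun h => hτx (by rw [h]; rfl)
    have hord : orderOf τ = 2 := orderOf_eq_prime (by rw [pow_two]; exact hτ2) hτ1
    obtain ⟨k, hk⟩ := Equiv.Perm.cycleType_prime_order (σ := τ) (by rw [hord]; exact Nat.prime_two)
    rw [hord] at hk
    have hsum := Equiv.Perm.sum_cycleType τ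
    rw [hk, Multiset.sum_replicate, smul_eq_mul] at hsum
    have hsupp : τ.support = U.toFinset := by
      ext y
      rw [Equiv.Perm.mem_support, Set.mem_toFinset, hτ y]
      by_cases hy : y ∈ U
      · simp [hy, hUne y hy]
      · simp [hy]
    have hcardU : U.toFinset.card = 2 * O.ncard := by
      rw [← Set.ncard_eq_toFinset_card', hU, Set.ncard_union_eq, 
        Set.ncard_image_of_injective _ t.injective]
      · ring
      · rw [Set.disjoint_left]
        rintro y hy ⟨z, hz, rfl⟩
        exact hK z hz hy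
    rw [hsupp, hcardU] at hsum
    have hOodd : Odd O.ncard := by
      have h3 : O.ncard ∣ Nat.card D := orbit_ncard_dvd_card D x
      exact Odd.of_dvd_nat hD h3
    have hk1 : k + 1 = O.ncard := by omega
    rw [Equiv.Perm.sign_of_cycleType, hk, Multiset.sum_replicate, Multiset.card_replicate,
      smul_eq_mul]
    have : Odd ((k + 1) * 2 + (k + 1)) := by
      rw [hk1]
      obtain ⟨j, hj⟩ := hOodd
      exact ⟨3 * j + 1, by omega⟩
    exact this.neg_one_pow


/-- Reduction: a nilpotent subgroup of `A_n` either extends to a nilpotent subgroup of `S_n`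
containing an odd permutation, or has odd order. -/
theorem alt_reduction {α : Type*} [Fintype α] [DecidableEq α] (N' : Subgroup (Equiv.Perm α))
    (hN : Group.IsNilpotent N') :
    (∃ Ñ : Subgroup (Equiv.Perm α), Group.IsNilpotent Ñ ∧ N' ≤ Ñ ∧ ¬ Ñ ≤ alternatingGroup α) ∨
      Odd (Nat.card N') := by
  have : Fact (Nat.Prime 2) := ⟨Nat.prime_two⟩
  let P2 : Sylow 2 N' := default
  have hP2n : (P2 : Subgroup N').Normal :=
    Sylow.normal_of_normalizerCondition Group.normalizerCondition_of_isNilpotent P2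
  have hidx : Odd (P2 : Subgroup N').index := by
    rw [← Nat.not_even_iff_odd, even_iff_two_dvd]
    exact Sylow.not_dvd_index P2
  by_cases hP : (P2 : Subgroup N') = ⊥
  · right
    have := Subgroup.card_mul_index (P2 : Subgroup N')
    rw [hP, Subgroup.card_bot, one_mul] at this
    rw [← this, ← hP]; exact hidx
  · left
    obtain ⟨D0, hD0⟩ := Subgroup.exists_right_complement'_of_coprime
      (N := (P2 : Subgroup N')) (Sylow.card_coprime_index P2)
    have hD0card : Nat.card D0 = (P2 : Subgroup N').index := hD0.symm.index_eq_card.symm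
    have hcop : Nat.Coprime (Nat.card P2) (Nat.card D0) := by
      rw [hD0card]; exact Sylow.card_coprime_index P2
    set T := (P2 : Subgroup N').map N'.subtype with hT
    set D := D0.map N'.subtype with hDdef
    have hDcard : Nat.card D = Nat.card D0 :=
      Subgroup.card_map_of_injective N'.subtype_injective
    have hDodd : Odd (Nat.card D) := by rw [hDcard, hD0card]; exact hidx
    have hcomm : ∀ a ∈ T, ∀ b ∈ D, a * b = b * a := by
      rintro _ ⟨a, ha, rfl⟩ _ ⟨b, hb, rfl⟩
      have h1 : orderOf a ∣ Nat.card P2 := by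
        have := orderOf_dvd_natCard (⟨a, ha⟩ : (P2 : Subgroup N'))
        rwa [Subgroup.orderOf_mk] at this
      have h2 : orderOf b ∣ Nat.card D0 := by
        have := orderOf_dvd_natCard (⟨b, hb⟩ : D0)
        rwa [Subgroup.orderOf_mk] at this
      have := commute_of_coprime_orderOf N' a b (isOfFinOrder_of_finite a)
        (isOfFinOrder_of_finite b)
        (Nat.Coprime.coprime_dvd_left h1 (Nat.Coprime.coprime_dvd_right h2 hcop))
      exact congrArg Subtype.val this
    have hTD : N' ≤ T ⊔ D := by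
      intro g hg
      obtain ⟨⟨a, b⟩, hab⟩ := hD0.2 ⟨g, hg⟩
      have : g = (a.1 : Equiv.Perm α) * (b.1 : Equiv.Perm α) := by
        have := congrArg Subtype.val hab
        simpa using this.symm
      rw [this]
      exact Subgroup.mul_mem _ (Subgroup.mem_sup_left ⟨a.1, a.2, rfl⟩)
        (Subgroup.mem_sup_right ⟨b.1, b.2, rfl⟩)
    set C := Subgroup.centralizer (D : Set (Equiv.Perm α)) with hC
    have hTC : T ≤ C := by
      intro a ha
      rw [hC, Subgroup.mem_centralizer_iff]
      intro b hb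
      exact (hcomm a ha b hb).symm
    have hTp : IsPGroup 2 T := P2.isPGroup'.map N'.subtype
    have hTCp : IsPGroup 2 (T.subgroupOf C) :=
      hTp.of_equiv (Subgroup.subgroupOfEquivOfLe hTC).symm
    obtain ⟨S0, hS0⟩ := hTCp.exists_le_sylow
    set S := (S0 : Subgroup C).map C.subtype with hS
    have hTS : T ≤ S := by
      intro a ha
      exact ⟨⟨a, hTC ha⟩, hS0 (Subgroup.mem_subgroupOf.mpr ha), rfl⟩
    have hSC : S ≤ C := Subgroup.map_subtype_le _
    have hSD : ∀ s ∈ S, ∀ d ∈ D, s * d = d * s := by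
      intro s hs d hd
      have := hSC hs
      rw [hC, Subgroup.mem_centralizer_iff] at this
      exact (this d hd).symm
    have hSnil : Group.IsNilpotent S := by
      have h1 : Group.IsNilpotent (S0 : Subgroup C) := S0.isPGroup'.isNilpotent
      exact Group.nilpotent_of_mulEquiv
        ((S0 : Subgroup C).equivMapOfInjective C.subtype C.subtype_injective)
    have hDnil : Group.IsNilpotent D :=
      Group.nilpotent_of_mulEquiv (D0.equivMapOfInjective N'.subtype N'.subtype_injective)
    refine ⟨S ⊔ D, isNilpotent_sup_of_commute S D hSnil hDnil hSD,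
      hTD.trans (sup_le_sup_right hTS D), ?_⟩
    intro hle
    have hSA : S ≤ alternatingGroup α := le_sup_left.trans hle
    -- an involution in `T`
    have h2dvd : 2 ∣ Nat.card (P2 : Subgroup N') := by
      obtain ⟨k, hk⟩ := IsPGroup.iff_card.mp P2.isPGroup'
      rcases Nat.eq_zero_or_pos k with rfl | hkpos
      · exfalso
        apply hP
        rw [pow_zero] at hk
        exact Subgroup.eq_bot_of_card_eq _ hk
      · rw [hk]; exact dvd_pow_self 2 hkpos.ne'
    obtain ⟨t0, ht0⟩ := exists_prime_orderOf_dvd_card' (G := (P2 : Subgroup N')) 2 h2dvd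
    set t : Equiv.Perm α := ((t0 : N') : Equiv.Perm α) with ht
    have hto : orderOf t = 2 := by
      rw [ht, Subgroup.orderOf_coe, Subgroup.orderOf_coe, ht0]
    have htT : t ∈ T := ⟨t0.1, t0.2, rfl⟩
    have ht2 : t * t = 1 := by rw [← pow_two, ← hto, pow_orderOf_eq_one]
    have ht1 : t ≠ 1 := by
      intro h
      rw [h, orderOf_one] at hto
      omega
    have htD : ∀ d ∈ D, t * d = d * t := fun d hd => hcomm t htT d hd
    obtain ⟨τ, hτD, hτ2, hτs⟩ := exists_odd_involution D hDodd t ht2 ht1 htD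
    have hτC : τ ∈ C := by
      rw [hC, Subgroup.mem_centralizer_iff]
      intro d hd
      exact (hτD d hd).symm
    set τC : C := ⟨τ, hτC⟩ with hτCdef
    have hτ1 : τ ≠ 1 := by
      intro h
      rw [h, map_one] at hτs
      exact absurd hτs (by decide)
    have hτCo : orderOf τC = 2 := by
      apply orderOf_eq_prime
      · apply Subtype.ext
        simp only [hτCdef, pow_two, Subgroup.coe_mul, Subgroup.coe_one]
        exact hτ2
      · intro h
        exact hτ1 (congrArg Subtype.val h)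
    have hzp : IsPGroup 2 (Subgroup.zpowers τC) := by
      apply IsPGroup.of_card (n := 1)
      rw [Nat.card_zpowers, hτCo, pow_one]
    obtain ⟨Q, hQ⟩ := hzp.exists_le_sylow
    obtain ⟨c, hc⟩ := MulAction.exists_smul_eq C S0 Q
    have hτQ : τC ∈ (Q : Subgroup C) := hQ (Subgroup.mem_zpowers τC)
    rw [← hc, Sylow.coe_subgroup_smul, Subgroup.mem_pointwise_smul_iff_inv_smul_mem] at hτQ
    simp only [MulAut.smul_def, MulAut.inv_apply, MulAut.conj_symm_apply] at hτQ
    have hmem : ((c⁻¹ * τC * c : C) : Equiv.Perm α) ∈ S := ⟨_, hτQ, rfl⟩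
    have hsign := Equiv.Perm.mem_alternatingGroup.mp (hSA hmem)
    simp only [Subgroup.coe_mul, Subgroup.coe_inv, map_mul, map_inv] at hsign
    have h5 : Equiv.Perm.sign τ = 1 := by
      have h6 : Equiv.Perm.sign ((τC : C) : Equiv.Perm α) = Equiv.Perm.sign τ := rfl
      rw [h6] at hsign
      rwa [mul_comm, ← mul_assoc, mul_inv_cancel, one_mul] at hsign
    rw [hτs] at h5
    exact absurd h5 (by decide)

end Cfsg.Agent.NilpSym
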