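import Cfsg.Agent.Lib.Lead.NilpAlt

/-!
# Nilpotent subgroups of `A_n`, `n ≡ 3 (mod 4)`: structure, model and conjugacy
-/

set_option autoImplicit false

namespace Cfsg.Agent.NilpSym

/-- Structure of a nilpotent subgroup of order `3 * 2^k` in `S_{m+3}` when `s (m-1) < 2^k`. -/
theorem max_structure_gen (m n : ℕ) (h : m + 3 = n) (k : ℕ) (hk : s (m - 1) < 2 ^ k)
    (N : Subgroup (Equiv.Perm (Fin n))) (hN : Group.IsNilpotent N)
    (hcard : Nat.card N = 3 * 2 ^ k) :
    ∃ (c : Equiv.Perm (Fin n)) (T : Subgroup (Equiv.Perm (Fin n))), c ∈ N ∧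
      c.cycleType = {3} ∧ T ≤ N ∧ Nat.card T = 2 ^ k ∧ (∀ t ∈ T, t * c = c * t) ∧
      N = T ⊔ Subgroup.zpowers c := by
  have : Fact (Nat.Prime 2) := ⟨Nat.prime_two⟩
  let T0 : Sylow 2 N := default
  have hT0 : Nat.card T0 = 2 ^ k := by
    rw [Sylow.card_eq_multiplicity, hcard, Nat.factorization_mul (by norm_num) (by positivity)]
    have h3 : (3 : ℕ).factorization 2 = 0 := Nat.factorization_eq_zero_of_not_dvd (by norm_num)
    simp [h3, Nat.Prime.factorization_self Nat.prime_two]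
  obtain ⟨c0, hc0⟩ := exists_prime_orderOf_dvd_card' (G := N) 3 (by rw [hcard]; exact Dvd.intro _ rfl)
  set c : Equiv.Perm (Fin n) := (c0 : Equiv.Perm (Fin n)) with hc
  have hoc : orderOf c = 3 := by rw [hc, Subgroup.orderOf_coe, hc0]
  have hcomm0 : ∀ t ∈ (T0 : Subgroup N), t * c0 = c0 * t := by
    intro t ht
    apply commute_of_coprime_orderOf N t c0 (isOfFinOrder_of_finite t) (isOfFinOrder_of_finite c0)
    rw [hc0]
    have h1 : orderOf t ∣ 2 ^ k := by
      have := orderOf_dvd_natCard (⟨t, ht⟩ : (T0 : Subgroup N))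
      rwa [Subgroup.orderOf_mk, hT0] at this
    exact Nat.Coprime.coprime_dvd_left h1 (Nat.Coprime.pow_left _ (by norm_num))
  set T := (T0 : Subgroup N).map N.subtype with hT
  have hTcard : Nat.card T = 2 ^ k := by
    rw [hT, Subgroup.card_map_of_injective N.subtype_injective, hT0]
  have hTN : T ≤ N := Subgroup.map_subtype_le _
  have hcomm : ∀ t ∈ T, t * c = c * t := by
    intro t ht
    obtain ⟨t0, ht0, rfl⟩ := ht
    have := hcomm0 t0 ht0
    exact congrArg Subtype.val this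
  have hcN : c ∈ N := c0.2
  have hsup : N = T ⊔ Subgroup.zpowers c := by
    symm
    apply Subgroup.eq_of_le_of_card_ge
    · exact sup_le hTN ((Subgroup.zpowers_le).mpr hcN)
    · rw [hcard]
      apply Nat.le_of_dvd Nat.card_pos
      apply Nat.Coprime.mul_dvd_of_dvd_of_dvd (Nat.Coprime.pow_right _ (by norm_num))
      · have := Subgroup.card_dvd_of_le (le_sup_right : Subgroup.zpowers c ≤ T ⊔ Subgroup.zpowers c)
        rwa [Nat.card_zpowers, hoc] at this
      · have := Subgroup.card_dvd_of_le (le_sup_left : T ≤ T ⊔ Subgroup.zpowers c)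
        rwa [hTcard] at this
  refine ⟨c, T, hcN, ?_, hTN, hTcard, hcomm, hsup⟩
  obtain ⟨j, hj⟩ := Equiv.Perm.cycleType_prime_order (σ := c) (by rw [hoc]; exact Nat.prime_three)
  rw [hoc] at hj
  have hTZ : T ≤ Subgroup.centralizer {c} := by
    intro t ht
    rw [Subgroup.mem_centralizer_iff]
    intro x hx
    rw [Set.mem_singleton_iff] at hx
    rw [hx, hcomm t ht]
  have hdvd := Subgroup.card_dvd_of_le hTZ
  rw [Equiv.Perm.nat_card_centralizer, hTcard, hj] at hdvd
  simp only [Multiset.sum_replicate, Multiset.prod_replicate, smul_eq_mul, Fintype.card_fin] at hdvd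
  have hfs : (Multiset.replicate (j + 1) 3).toFinset = {3} := by
    rw [Multiset.toFinset_replicate]; simp
  rw [hfs, Finset.prod_singleton, Multiset.count_replicate_self] at hdvd
  have hsum : (j + 1) * 3 ≤ n := by
    have h1 := Equiv.Perm.sum_cycleType c
    rw [hj, Multiset.sum_replicate, smul_eq_mul] at h1
    rw [h1]
    calc c.support.card ≤ Finset.univ.card := Finset.card_le_card (Finset.subset_univ _)
      _ = n := by simp
  have hdvd2 : 2 ^ k ∣ (n - (j + 1) * 3).factorial * (j + 1).factorial := by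
    have h1 : 2 ^ k ∣ 3 ^ (j + 1) * ((n - (j + 1) * 3).factorial * (j + 1).factorial) := by
      convert hdvd using 1; ring
    exact (Nat.Coprime.dvd_mul_left
      (Nat.Coprime.pow _ _ (by norm_num : Nat.Coprime 2 3))).mp h1
  have hdvd3 : 2 ^ k ∣ ((n - (j + 1) * 3) + (j + 1)).factorial :=
    hdvd2.trans (Nat.factorial_mul_factorial_dvd_factorial_add _ _)
  have hle := s_le_of_dvd hdvd3 (by positivity)
  rw [Nat.Prime.factorization_pow Nat.prime_two] at hle
  simp only [Finsupp.single_eq_same] at hle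
  rcases Nat.eq_zero_or_pos j with rfl | hjpos
  · rw [hj]; rfl
  · exfalso
    have h2 : s ((n - (j + 1) * 3) + (j + 1)) ≤ s (m - 1) := s_mono (by omega)
    omega


lemma sign_emb (m n : ℕ) (h : m + 3 = n) (σ : Equiv.Perm (Fin m)) (ρ : Equiv.Perm (Fin 3)) :
    Equiv.Perm.sign (emb m n h (σ, ρ)) = Equiv.Perm.sign σ * Equiv.Perm.sign ρ := by
  unfold emb
  simp only [MonoidHom.coe_comp, MulEquiv.coe_toMonoidHom, Function.comp_apply,
    Equiv.Perm.sumCongrHom_apply, Equiv.permCongrHom_coe, Equiv.Perm.sign_permCongr,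
    Equiv.Perm.sign_sumCongr]

lemma sign_c3hom (z : Multiplicative (ZMod 3)) : Equiv.Perm.sign (c3hom z) = 1 := by
  have h1 : z ^ 3 = 1 := by
    have := pow_card_eq_one' (G := Multiplicative (ZMod 3)) (x := z)
    simpa [Nat.card_eq_fintype_card] using this
  have h2 : (Equiv.Perm.sign (c3hom z)) ^ 3 = 1 := by
    rw [← map_pow, ← map_pow, h1, map_one, map_one]
  rcases Int.units_eq_one_or (Equiv.Perm.sign (c3hom z)) with h | h
  · exact h
  · rw [h] at h2
    exact absurd h2 (by decide)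

/-- The model subgroup of `A_n`. -/
theorem exists_model_alt (m n : ℕ) (h : m + 3 = n) (P : Sylow 2 (alternatingGroup (Fin m))) :
    ∃ M : Subgroup (alternatingGroup (Fin n)), Group.IsNilpotent M ∧
      Nat.card M = 3 * Nat.card P ∧
      Nonempty (M ≃* (↥(P : Subgroup (alternatingGroup (Fin m))) × Multiplicative (ZMod 3))) := by
  have : Fact (Nat.Prime 2) := ⟨Nat.prime_two⟩
  let ι : ↥(P : Subgroup (alternatingGroup (Fin m))) →* Equiv.Perm (Fin m) :=
    (alternatingGroup (Fin m)).subtype.comp (P : Subgroup (alternatingGroup (Fin m))).subtype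
  have hι : Function.Injective ι :=
    (alternatingGroup (Fin m)).subtype_injective.comp
      (P : Subgroup (alternatingGroup (Fin m))).subtype_injective
  let ψ : ↥(P : Subgroup (alternatingGroup (Fin m))) × Multiplicative (ZMod 3) →*
      Equiv.Perm (Fin n) := (emb m n h).comp (MonoidHom.prodMap ι c3hom)
  have hψinj : Function.Injective ψ := by
    refine (emb_injective m n h).comp ?_
    intro x y hxy
    have h1 := congrArg Prod.fst hxy
    have h2 := congrArg Prod.snd hxy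
    simp only [MonoidHom.prodMap, MonoidHom.coe_prod, MonoidHom.coe_comp] at h1 h2
    exact Prod.ext (hι h1) (c3hom_injective h2)
  have hmem : ∀ x, ψ x ∈ alternatingGroup (Fin n) := by
    intro x
    rw [Equiv.Perm.mem_alternatingGroup]
    change Equiv.Perm.sign (emb m n h (ι x.1, c3hom x.2)) = 1
    rw [sign_emb, sign_c3hom, mul_one]
    exact Equiv.Perm.mem_alternatingGroup.mp (x.1.1.2)
  let ψ' : ↥(P : Subgroup (alternatingGroup (Fin m))) × Multiplicative (ZMod 3) →*
      alternatingGroup (Fin n) := ψ.codRestrict (alternatingGroup (Fin n)) hmem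
  have hψ'inj : Function.Injective ψ' := by
    intro x y hxy
    apply hψinj
    exact congrArg Subtype.val hxy
  let e : (↥(P : Subgroup (alternatingGroup (Fin m))) × Multiplicative (ZMod 3)) ≃* ψ'.range :=
    MonoidHom.ofInjective hψ'inj
  have hnP : Group.IsNilpotent (P : Subgroup (alternatingGroup (Fin m))) :=
    P.isPGroup'.isNilpotent
  refine ⟨ψ'.range, Group.nilpotent_of_mulEquiv e, ?_, ⟨e.symm⟩⟩
  rw [← Nat.card_congr e.toEquiv, Nat.card_prod, mul_comm]
  congr 1
  simp [Nat.card_eq_fintype_card]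


/-- Every Sylow 2-subgroup of a subgroup `Z ≤ S_n` containing an odd involution contains an odd
permutation. -/
lemma sylow_has_odd {α : Type*} [Fintype α] [DecidableEq α] (Z : Subgroup (Equiv.Perm α))
    (τ : Equiv.Perm α) (hτZ : τ ∈ Z) (hτ2 : τ * τ = 1) (hτs : Equiv.Perm.sign τ = -1)
    (S : Sylow 2 Z) : ∃ u : Z, u ∈ (S : Subgroup Z) ∧ Equiv.Perm.sign (u : Equiv.Perm α) = -1 := by
  have : Fact (Nat.Prime 2) := ⟨Nat.prime_two⟩
  set τC : Z := ⟨τ, hτZ⟩ with hτCdef
  have hτ1 : τ ≠ 1 := by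
    intro h
    rw [h, map_one] at hτs
    exact absurd hτs (by decide)
  have hτCo : orderOf τC = 2 := by
    apply orderOf_eq_prime
    · apply Subtype.ext
      simp only [hτCdef, pow_two, Subgroup.coe_mul, Subgroup.coe_one]
      exact hτ2
    · intro h
      exact hτ1 (congrArg Subtype.val h)
  have hzp : IsPGroup 2 (Subgroup.zpowers τC) := by
    apply IsPGroup.of_card (n := 1)
    rw [Nat.card_zpowers, hτCo, pow_one]
  obtain ⟨Q, hQ⟩ := hzp.exists_le_sylow
  obtain ⟨c, hc⟩ := MulAction.exists_smul_eq Z S Q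
  have hτQ : τC ∈ (Q : Subgroup Z) := hQ (Subgroup.mem_zpowers τC)
  rw [← hc, Sylow.coe_subgroup_smul, Subgroup.mem_pointwise_smul_iff_inv_smul_mem] at hτQ
  simp only [MulAut.smul_def, MulAut.inv_apply, MulAut.conj_symm_apply] at hτQ
  refine ⟨_, hτQ, ?_⟩
  simp only [Subgroup.coe_mul, Subgroup.coe_inv, map_mul, map_inv]
  have h6 : Equiv.Perm.sign ((τC : Z) : Equiv.Perm α) = -1 := hτs
  rw [h6, mul_comm, ← mul_assoc, mul_inv_cancel, one_mul]

/-- A transposition commuting with a 3-cycle, in degree at least 5. -/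
lemma exists_odd_in_centralizer {n : ℕ} (c : Equiv.Perm (Fin n)) (hc : c.cycleType = {3})
    (hn : 5 ≤ n) : ∃ τ : Equiv.Perm (Fin n), τ ∈ Subgroup.centralizer {c} ∧ τ * τ = 1 ∧
      Equiv.Perm.sign τ = -1 := by
  have hsupp : c.support.card = 3 := by
    rw [← Equiv.Perm.sum_cycleType, hc]; rfl
  have hcompl : 1 < (Finset.univ \ c.support).card := by
    rw [Finset.card_sdiff_of_subset (Finset.subset_univ _), Finset.card_univ, Fintype.card_fin, hsupp]
    omega
  obtain ⟨a, ha, b, hb, hab⟩ := Finset.one_lt_card.mp hcompl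
  simp only [Finset.mem_sdiff, Finset.mem_univ, true_and, Equiv.Perm.mem_support, not_not] at ha hb
  refine ⟨Equiv.swap a b, ?_, Equiv.swap_mul_self a b, Equiv.Perm.sign_swap hab⟩
  rw [Subgroup.mem_centralizer_iff]
  intro x hx
  rw [Set.mem_singleton_iff] at hx
  subst hx
  have hdisj : Equiv.Perm.Disjoint (Equiv.swap a b) x := by
    intro y
    by_cases hya : y = a
    · right; rw [hya]; exact ha
    · by_cases hyb : y = b
      · right; rw [hyb]; exact hb
      · left; exact Equiv.swap_apply_of_ne_of_ne hya hyb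
  exact hdisj.commute.symm.eq


/-- Conjugacy in `A_n` of nilpotent subgroups of `A_n` of order `3 * 2^k`, `2 * 2^k = s m`. -/
theorem max_conj_alt (m n : ℕ) (h : m + 3 = n) (hm : 4 ∣ m) (hm4 : 4 ≤ m) (k : ℕ)
    (hk : s m = 2 * 2 ^ k)
    (N₁ N₂ : Subgroup (Equiv.Perm (Fin n))) (hN₁ : Group.IsNilpotent N₁)
    (hN₂ : Group.IsNilpotent N₂) (hA₁ : N₁ ≤ alternatingGroup (Fin n))
    (hA₂ : N₂ ≤ alternatingGroup (Fin n))
    (hc₁ : Nat.card N₁ = 3 * 2 ^ k) (hc₂ : Nat.card N₂ = 3 * 2 ^ k) :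
    ∃ g : Equiv.Perm (Fin n), Equiv.Perm.sign g = 1 ∧
      N₂ = N₁.map (MulAut.conj g).toMonoidHom := by
  have : Fact (Nat.Prime 2) := ⟨Nat.prime_two⟩
  have hk' : s (m - 1) < 2 ^ k := by
    have h1 := s_succ_ge 2 (m - 1) (by rw [show m - 1 + 1 = m by omega]; simpa using hm)
    rw [show m - 1 + 1 = m by omega, hk] at h1
    have := s_pos (m - 1)
    omega
  obtain ⟨c1, T1, hc1N, hct1, hT1N, hT1c, hcomm1, hsup1⟩ :=
    max_structure_gen m n h k hk' N₁ hN₁ hc₁
  obtain ⟨c2, T2, hc2N, hct2, hT2N, hT2c, hcomm2, hsup2⟩ :=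
    max_structure_gen m n h k hk' N₂ hN₂ hc₂
  have hconj : IsConj c1 c2 := Equiv.Perm.isConj_iff_cycleType_eq.mpr (by rw [hct1, hct2])
  obtain ⟨g, hg⟩ := isConj_iff.mp hconj
  set Z := Subgroup.centralizer ({c2} : Set (Equiv.Perm (Fin n))) with hZ
  have hZcard : Nat.card Z = m.factorial * 3 := by
    rw [hZ, Equiv.Perm.nat_card_centralizer, hct2]
    simp only [Multiset.sum_singleton, Multiset.prod_singleton, Fintype.card_fin,
      Multiset.toFinset_singleton, Finset.prod_singleton, Multiset.count_singleton_self,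
      Nat.factorial_one, mul_one]
    rw [← h]; simp
  have hfac : m.factorial.factorization 2 = k + 1 := by
    have h1 : (2 : ℕ) ^ (m.factorial.factorization 2) = 2 ^ (k + 1) := by
      rw [pow_succ, mul_comm]; exact hk
    exact Nat.pow_right_injective (le_refl 2) h1
  have hZfac : (Nat.card Z).factorization 2 = k + 1 := by
    rw [hZcard, Nat.factorization_mul (Nat.factorial_ne_zero _) (by norm_num)]
    have h3 : (3 : ℕ).factorization 2 = 0 := Nat.factorization_eq_zero_of_not_dvd (by norm_num)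
    simp [h3, hfac]
  set T1' := T1.map (MulAut.conj g).toMonoidHom with hT1'
  have hT1'Z : T1' ≤ Z := by
    rintro _ ⟨t, ht, rfl⟩
    rw [hZ, Subgroup.mem_centralizer_iff]
    intro x hx
    rw [Set.mem_singleton_iff] at hx
    subst hx
    have := hcomm1 t ht
    simp only [MulEquiv.coe_toMonoidHom, MulAut.conj_apply]
    rw [← hg]
    calc g * c1 * g⁻¹ * (g * t * g⁻¹) = g * (c1 * t) * g⁻¹ := by group
      _ = g * (t * c1) * g⁻¹ := by rw [this]
      _ = _ := by group
  have hT2Z : T2 ≤ Z := by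
    intro t ht
    rw [hZ, Subgroup.mem_centralizer_iff]
    intro x hx
    rw [Set.mem_singleton_iff] at hx
    rw [hx, hcomm2 t ht]
  have hT1'c : Nat.card T1' = 2 ^ k := by
    rw [hT1', Subgroup.card_map_of_injective (MulAut.conj g).injective, hT1c]
  have hT1'A : T1' ≤ alternatingGroup (Fin n) := by
    rintro _ ⟨t, ht, rfl⟩
    rw [Equiv.Perm.mem_alternatingGroup]
    simp only [MulEquiv.coe_toMonoidHom, MulAut.conj_apply, map_mul, map_inv]
    rw [mul_comm, ← mul_assoc, inv_mul_cancel, one_mul]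
    exact Equiv.Perm.mem_alternatingGroup.mp (hA₁ (hT1N ht))
  have hT2A : T2 ≤ alternatingGroup (Fin n) := hT2N.trans hA₂
  -- Sylow 2-subgroups of `Z` containing `T1'`, `T2`
  have hp1 : IsPGroup 2 (T1'.subgroupOf Z) := by
    apply IsPGroup.of_card (n := k)
    rw [Nat.card_congr (Subgroup.subgroupOfEquivOfLe hT1'Z).toEquiv, hT1'c]
  have hp2 : IsPGroup 2 (T2.subgroupOf Z) := by
    apply IsPGroup.of_card (n := k)
    rw [Nat.card_congr (Subgroup.subgroupOfEquivOfLe hT2Z).toEquiv, hT2c]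
  obtain ⟨S1, hS1⟩ := hp1.exists_le_sylow
  obtain ⟨S2, hS2⟩ := hp2.exists_le_sylow
  obtain ⟨τ, hτZ, hτ2, hτs⟩ := exists_odd_in_centralizer c2 hct2 (by omega)
  -- even elements of `S_i` lie in `T_i`
  have even_mem : ∀ (S : Sylow 2 Z) (T : Subgroup (Equiv.Perm (Fin n))) (hTZ : T ≤ Z),
      T.subgroupOf Z ≤ S → T ≤ alternatingGroup (Fin n) → Nat.card T = 2 ^ k →
      ∀ x : Z, x ∈ (S : Subgroup Z) → Equiv.Perm.sign (x : Equiv.Perm (Fin n)) = 1 →
        (x : Equiv.Perm (Fin n)) ∈ T := by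
    intro S T hTZ hTS hTA hTc x hxS hxs
    set S' := (S : Subgroup Z).map Z.subtype with hS'
    have hS'c : Nat.card S' = 2 ^ (k + 1) := by
      rw [hS', Subgroup.card_map_of_injective Z.subtype_injective, Sylow.card_eq_multiplicity,
        hZfac]
    have hTS' : T ≤ S' ⊓ alternatingGroup (Fin n) := by
      intro t ht
      exact ⟨⟨⟨t, hTZ ht⟩, hTS (Subgroup.mem_subgroupOf.mpr ht), rfl⟩, hTA ht⟩
    obtain ⟨u, huS, hus⟩ := sylow_has_odd Z τ hτZ hτ2 hτs S
    have hnot : ¬ S' ≤ alternatingGroup (Fin n) := by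
      intro hle
      have : (u : Equiv.Perm (Fin n)) ∈ S' := ⟨u, huS, rfl⟩
      have := Equiv.Perm.mem_alternatingGroup.mp (hle this)
      rw [hus] at this
      exact absurd this (by decide)
    have h2 := two_mul_card_le_of_not_le_alt (S' ⊓ alternatingGroup (Fin n)) S' inf_le_left
      inf_le_right hnot
    rw [hS'c, pow_succ] at h2
    have heq : T = S' ⊓ alternatingGroup (Fin n) :=
      Subgroup.eq_of_le_of_card_ge hTS' (by rw [hTc]; omega)
    rw [heq]
    exact ⟨⟨x, hxS, rfl⟩, Equiv.Perm.mem_alternatingGroup.mpr hxs⟩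
  obtain ⟨z, hz⟩ := MulAction.exists_smul_eq Z S1 S2
  -- choose `u ∈ S2` fixing the parity
  obtain ⟨u, huS, hus⟩ : ∃ u : Z, u ∈ (S2 : Subgroup Z) ∧
      Equiv.Perm.sign ((u : Equiv.Perm (Fin n)) * (z : Equiv.Perm (Fin n)) * g) = 1 := by
    rcases Int.units_eq_one_or (Equiv.Perm.sign ((z : Equiv.Perm (Fin n)) * g)) with h1 | h1
    · refine ⟨1, Subgroup.one_mem _, ?_⟩
      simpa using h1
    · obtain ⟨u, huS, hus⟩ := sylow_has_odd Z τ hτZ hτ2 hτs S2
      refine ⟨u, huS, ?_⟩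
      rw [mul_assoc, map_mul, hus, h1]; decide
  refine ⟨(u : Equiv.Perm (Fin n)) * (z : Equiv.Perm (Fin n)) * g, hus, ?_⟩
  have hcomZ : ∀ x : Z, (x : Equiv.Perm (Fin n)) * c2 = c2 * x := by
    intro x
    have h5 : (x : Equiv.Perm (Fin n)) ∈
        Subgroup.centralizer ({c2} : Set (Equiv.Perm (Fin n))) := x.2
    rw [Subgroup.mem_centralizer_iff] at h5
    exact (h5 c2 rfl).symm
  apply Subgroup.eq_of_le_of_card_ge
  · rw [hsup2]
    apply sup_le
    · intro t ht
      -- t' = u⁻¹ t u ∈ T2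
      have htS2 : (⟨t, hT2Z ht⟩ : Z) ∈ (S2 : Subgroup Z) :=
        hS2 (Subgroup.mem_subgroupOf.mpr ht)
      have ht'S2 : u⁻¹ * ⟨t, hT2Z ht⟩ * u ∈ (S2 : Subgroup Z) :=
        Subgroup.mul_mem _ (Subgroup.mul_mem _ (Subgroup.inv_mem _ huS) htS2) huS
      have hts : Equiv.Perm.sign t = 1 := Equiv.Perm.mem_alternatingGroup.mp (hT2A ht)
      -- move to S1 via z
      have h1 := ht'S2
      rw [← hz, Sylow.coe_subgroup_smul, Subgroup.mem_pointwise_smul_iff_inv_smul_mem] at h1
      simp only [MulAut.smul_def, MulAut.inv_apply, MulAut.conj_symm_apply] at h1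
      have hsgn : Equiv.Perm.sign
          ((z⁻¹ * (u⁻¹ * ⟨t, hT2Z ht⟩ * u) * z : Z) : Equiv.Perm (Fin n)) = 1 := by
        simp only [Subgroup.coe_mul, Subgroup.coe_inv, map_mul, map_inv, hts]
        simp
      have h2 := even_mem S1 T1' hT1'Z hS1 hT1'A hT1'c _ h1 hsgn
      obtain ⟨t1, ht1, ht1e⟩ := h2
      refine ⟨t1, hT1N ht1, ?_⟩
      simp only [MulEquiv.coe_toMonoidHom, MulAut.conj_apply, Subgroup.coe_mul,
        Subgroup.coe_inv] at ht1e ⊢
      calc (u : Equiv.Perm (Fin n)) * (z : Equiv.Perm (Fin n)) * g * t1 * ((u : Equiv.Perm (Fin n)) * (z : Equiv.Perm (Fin n)) * g)⁻¹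
          = (u : Equiv.Perm (Fin n)) * (z : Equiv.Perm (Fin n)) * (g * t1 * g⁻¹) *
              (z : Equiv.Perm (Fin n))⁻¹ * (u : Equiv.Perm (Fin n))⁻¹ := by group
        _ = (u : Equiv.Perm (Fin n)) * (z : Equiv.Perm (Fin n)) *
              ((z : Equiv.Perm (Fin n))⁻¹ * ((u : Equiv.Perm (Fin n))⁻¹ * t * u) * z) *
              (z : Equiv.Perm (Fin n))⁻¹ * (u : Equiv.Perm (Fin n))⁻¹ := by rw [ht1e]
        _ = t := by group
    · rw [Subgroup.zpowers_le]
      refine ⟨c1, hc1N, ?_⟩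
      simp only [MulEquiv.coe_toMonoidHom, MulAut.conj_apply]
      calc (u : Equiv.Perm (Fin n)) * (z : Equiv.Perm (Fin n)) * g * c1 * ((u : Equiv.Perm (Fin n)) * (z : Equiv.Perm (Fin n)) * g)⁻¹
          = (u : Equiv.Perm (Fin n)) * ((z : Equiv.Perm (Fin n)) * (g * c1 * g⁻¹) *
              (z : Equiv.Perm (Fin n))⁻¹) * (u : Equiv.Perm (Fin n))⁻¹ := by group
        _ = (u : Equiv.Perm (Fin n)) * ((z : Equiv.Perm (Fin n)) * c2 *
              (z : Equiv.Perm (Fin n))⁻¹) * (u : Equiv.Perm (Fin n))⁻¹ := by rw [hg]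
        _ = (u : Equiv.Perm (Fin n)) * c2 * (u : Equiv.Perm (Fin n))⁻¹ := by rw [hcomZ z]; group
        _ = c2 := by rw [hcomZ u]; group
  · rw [Subgroup.card_map_of_injective (MulAut.conj _).injective, hc₁, hc₂]

end Cfsg.Agent.NilpSym
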