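import Mathlib

/-!
# Nilpotent permutation groups of degree `n` have order at most `F n`

`s n = 2 ^ ν₂(n!)` is the order of a Sylow 2-subgroup of `S_n`.  We show that a nilpotent group
acting faithfully on `n` points has order at most `3^j * s (n - 3j)` for some `j` (`Bd n`), which
is at most `s n` when `n % 4 ≠ 3`.
-/

set_option autoImplicit false

namespace Cfsg.Agent.NilpSym

/-- `s n = |Sylow 2 of S_n| = 2 ^ ν₂(n!)`. -/
def s (n : ℕ) : ℕ := 2 ^ (n.factorial.factorization 2)

lemma s_pos (n : ℕ) : 0 < s n := by unfold s; positivity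

lemma s_zero : s 0 = 1 := by simp [s]
lemma s_one : s 1 = 1 := by simp [s]
lemma s_two : s 2 = 2 := by
  simp [s, Nat.factorial, Nat.Prime.factorization_self Nat.prime_two]

lemma s_le_of_dvd {a b : ℕ} (h : a ∣ b.factorial) (ha : a ≠ 0) :
    2 ^ (a.factorization 2) ≤ s b := by
  unfold s
  apply Nat.pow_le_pow_right (by norm_num)
  exact (Nat.factorization_le_iff_dvd ha (Nat.factorial_ne_zero _)).mpr h 2

lemma s_mul_le (a b : ℕ) : s a * s b ≤ s (a + b) := by
  have h := Nat.factorial_mul_factorial_dvd_factorial_add a b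
  have h2 := s_le_of_dvd h (mul_ne_zero (Nat.factorial_ne_zero _) (Nat.factorial_ne_zero _))
  rw [Nat.factorization_mul (Nat.factorial_ne_zero _) (Nat.factorial_ne_zero _)] at h2
  simpa [s, pow_add] using h2

lemma s_mono {a b : ℕ} (h : a ≤ b) : s a ≤ s b := by
  have := s_le_of_dvd (Nat.factorial_dvd_factorial h) (Nat.factorial_ne_zero _)
  simpa [s] using this

/-- `s j * s m ^ j ≤ s (j * m)`. -/
lemma s_pow_le (j m : ℕ) (hm : 0 < m) : s j * s m ^ j ≤ s (j * m) := by
  have h : m.factorial ^ j * j.factorial ∣ (j * m).factorial :=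
    ⟨j.uniformBell m, by rw [← Nat.uniformBell_mul_eq j hm.ne']; ring⟩
  have h2 := s_le_of_dvd h (mul_ne_zero (pow_ne_zero _ (Nat.factorial_ne_zero _))
    (Nat.factorial_ne_zero _))
  rw [Nat.factorization_mul (pow_ne_zero _ (Nat.factorial_ne_zero _))
    (Nat.factorial_ne_zero _), Nat.factorization_pow] at h2
  simp only [Finsupp.coe_add, Finsupp.coe_smul, Pi.add_apply, Pi.smul_apply, smul_eq_mul] at h2
  rw [pow_add, pow_mul', ] at h2
  unfold s
  rw [mul_comm]
  exact h2

lemma s_succ_ge (a n : ℕ) (h : 2 ^ a ∣ n + 1) : 2 ^ a * s n ≤ s (n + 1) := by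
  unfold s
  rw [← pow_add]
  apply Nat.pow_le_pow_right (by norm_num)
  rw [← Nat.Prime.pow_dvd_iff_le_factorization Nat.prime_two (Nat.factorial_ne_zero _)]
  rw [pow_add, Nat.factorial_succ]
  exact Nat.mul_dvd_mul h (Nat.ordProj_dvd _ _)

lemma s_three : 2 ≤ s 3 := by
  have := s_mono (show 2 ≤ 3 by norm_num)
  rwa [s_two] at this

lemma s_four : 8 ≤ s 4 := by
  have := s_pow_le 2 2 (by norm_num)
  rw [s_two] at this
  simpa using this

lemma s_six : 16 ≤ s 6 := by
  have := s_pow_le 3 2 (by norm_num)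
  rw [s_two] at this
  have h3 := s_three
  norm_num at this
  omega

lemma s_eight : 128 ≤ s 8 := by
  have := s_pow_le 2 4 (by norm_num)
  rw [s_two] at this
  have h4 := s_four
  have : 2 * 8 ^ 2 ≤ 2 * s 4 ^ 2 := by gcongr
  norm_num at *
  omega

lemma s_add_six (m : ℕ) : 9 * s m ≤ s (m + 6) := by
  have h1 := s_mul_le m 6
  have h2 := s_six
  have h3 := s_pos m
  nlinarith

/-- `3 * s m ≤ s (m+3)` when `m % 4 ≠ 0`. -/
lemma s_add_three (m : ℕ) (hm : m % 4 ≠ 0) : 3 * s m ≤ s (m + 3) := by
  have h1 := s_mono (show m ≤ m + 1 by omega)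
  have h2 := s_mono (show m + 1 ≤ m + 2 by omega)
  have h3 := s_mono (show m + 2 ≤ m + 3 by omega)
  have hp := s_pos m
  have key : (4 ∣ m + 1) ∨ (4 ∣ m + 1 + 1) ∨ (4 ∣ m + 2 + 1) := by omega
  rcases key with h | h | h
  · have := s_succ_ge 2 m (by simpa using h)
    omega
  · have := s_succ_ge 2 (m + 1) (by simpa using h)
    rw [show m + 1 + 1 = m + 2 by omega] at this
    omega
  · have := s_succ_ge 2 (m + 2) (by simpa using h)
    rw [show m + 2 + 1 = m + 3 by omega] at this
    omega

/-- The bound predicate: `c ≤ 3^j * s (n - 3j)` for some `j`. -/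
def Bd (n c : ℕ) : Prop := ∃ j, 3 * j ≤ n ∧ c ≤ 3 ^ j * s (n - 3 * j)

lemma Bd.mul {a b c d : ℕ} (h1 : Bd a c) (h2 : Bd b d) : Bd (a + b) (c * d) := by
  obtain ⟨i, hi, hc⟩ := h1
  obtain ⟨j, hj, hd⟩ := h2
  refine ⟨i + j, by omega, ?_⟩
  calc c * d ≤ (3 ^ i * s (a - 3 * i)) * (3 ^ j * s (b - 3 * j)) := Nat.mul_le_mul hc hd
    _ = 3 ^ (i + j) * (s (a - 3 * i) * s (b - 3 * j)) := by ring
    _ ≤ 3 ^ (i + j) * s ((a - 3 * i) + (b - 3 * j)) := by gcongr; exact s_mul_le _ _
    _ = 3 ^ (i + j) * s (a + b - 3 * (i + j)) := by congr 2; omega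

lemma Bd.mono {a n c : ℕ} (h1 : Bd a c) (h : a ≤ n) : Bd n c := by
  obtain ⟨i, hi, hc⟩ := h1
  refine ⟨i, by omega, hc.trans ?_⟩
  gcongr
  exact s_mono (by omega)

lemma Bd.le {n c d : ℕ} (h1 : Bd n c) (h : d ≤ c) : Bd n d := by
  obtain ⟨i, hi, hc⟩ := h1
  exact ⟨i, hi, h.trans hc⟩

lemma Bd.one (n : ℕ) : Bd n 1 := ⟨0, by omega, by simpa using Nat.one_le_iff_ne_zero.mpr (s_pos n).ne'⟩

/-- For `n % 4 ≠ 3` the bound is just `s n`. -/
lemma bd_le_s : ∀ (j n : ℕ), n % 4 ≠ 3 → 3 * j ≤ n → 3 ^ j * s (n - 3 * j) ≤ s n := by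
  intro j
  induction j using Nat.strong_induction_on with
  | _ j ih =>
    intro n hn hj
    match j, ih, hj with
    | 0, _, _ => simp
    | 1, _, hj =>
      have := s_add_three (n - 3) (by omega)
      rw [show n - 3 + 3 = n by omega] at this
      simpa using this
    | (j + 2), ih, hj =>
      have h1 := ih j (by omega) n hn (by omega)
      have h2 := s_add_six (n - 3 * (j + 2))
      rw [show n - 3 * (j + 2) + 6 = n - 3 * j by omega] at h2
      calc 3 ^ (j + 2) * s (n - 3 * (j + 2)) = 3 ^ j * (9 * s (n - 3 * (j + 2))) := by ring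
        _ ≤ 3 ^ j * s (n - 3 * j) := by gcongr
        _ ≤ s n := h1

lemma Bd.le_s {n c : ℕ} (h : Bd n c) (hn : n % 4 ≠ 3) : c ≤ s n := by
  obtain ⟨j, hj, hc⟩ := h
  exact hc.trans (bd_le_s j n hn hj)


/-- `e p k = ν_p((p^k)!)`. -/
def e (p k : ℕ) : ℕ := padicValNat p (p ^ k).factorial

lemma e_zero (p : ℕ) : e p 0 = 0 := by simp [e]

lemma e_succ (p k : ℕ) [hp : Fact p.Prime] : e p (k + 1) = e p k + p ^ k := by
  unfold e
  rw [pow_succ', padicValNat_factorial_mul]

lemma e_succ' (p k : ℕ) [hp : Fact p.Prime] : e p (k + 1) = p * e p k + 1 := by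
  induction k with
  | zero => simp [e_succ, e_zero]
  | succ k ih =>
    have h1 := e_succ p (k + 1)
    have h2 := e_succ p k
    rw [h1, ih]
    rw [ih] at h2
    have : p ^ (k + 1) = p * p ^ k := pow_succ' _ _
    rw [this]
    have h3 : p * e p k + 1 + p * p ^ k = p * (e p k + p ^ k) + 1 := by ring
    rw [h3, ← h2]

lemma le_s (n : ℕ) (hn : 4 ≤ n) : n + 1 ≤ s n := by
  induction n using Nat.strong_induction_on with
  | _ n ih =>
    rcases Nat.lt_or_ge n 6 with h | h
    · have h4 := s_four
      have := s_mono hn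
      omega
    · have h1 := ih (n - 2) (by omega) (by omega)
      have h2 := s_mul_le (n - 2) 2
      rw [s_two, show n - 2 + 2 = n by omega] at h2
      omega

lemma pow_e_le (p : ℕ) [hp : Fact p.Prime] (hp5 : 5 ≤ p) (k : ℕ) : p ^ e p k ≤ s (p ^ k) := by
  induction k with
  | zero => simp [e_zero, s_one]
  | succ k ih =>
    rw [e_succ', pow_succ, pow_mul', mul_comm, pow_succ']
    have h1 := le_s p (by omega)
    have h2 := s_pow_le p (p ^ k) (pow_pos hp.out.pos _)
    calc p * (p ^ e p k) ^ p ≤ s p * s (p ^ k) ^ p := by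
          apply Nat.mul_le_mul (by omega)
          exact Nat.pow_le_pow_left ih _
      _ ≤ _ := h2

lemma s_nine : 128 ≤ s 9 := s_eight.trans (s_mono (by norm_num))

lemma two_pow_e_three_le (k : ℕ) (hk : 3 ≤ k) : 2 * 3 ^ e 3 k ≤ s (3 ^ k) := by
  induction k, hk using Nat.le_induction with
  | base =>
    have h1 : e 3 3 = 13 := by
      simp [e_succ', e_zero]
    rw [h1]
    have h2 := s_pow_le 3 9 (by norm_num)
    have h3 := s_three
    have h9 := s_nine
    have : 2 * 128 ^ 3 ≤ s 3 * s 9 ^ 3 := by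
      apply Nat.mul_le_mul h3
      exact Nat.pow_le_pow_left h9 _
    norm_num at *
    omega
  | succ k hk ih =>
    rw [e_succ', pow_succ, pow_mul']
    have h2 := s_pow_le 3 (3 ^ k) (by positivity)
    have h3 := s_three
    rw [pow_succ']
    set X := 3 ^ e 3 k
    set S := s (3 ^ k)
    have h4 : (2 * X) ^ 3 ≤ S ^ 3 := Nat.pow_le_pow_left ih _
    have h5 : 2 * S ^ 3 ≤ s 3 * S ^ 3 := Nat.mul_le_mul_right _ h3
    have h6 : (2 * X) ^ 3 = 8 * X ^ 3 := by ring
    have h7 : 2 * (X * X ^ 2 * 3) = 6 * X ^ 3 := by ring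
    rw [h7]
    have h8 : 3 ^ (k + 1) = 3 * 3 ^ k := pow_succ' _ _
    rw [h8]
    omega

/-- The order of a Sylow `p`-subgroup of `S_{p^k}` satisfies the bound. -/
lemma bd_prime_pow (p : ℕ) [hp : Fact p.Prime] (k : ℕ) : Bd (p ^ k) (p ^ e p k) := by
  rcases Nat.lt_or_ge p 5 with h5 | h5
  · have hp' := hp.out
    have : p = 2 ∨ p = 3 := by
      have h2 := hp'.two_le
      interval_cases p
      · left; rfl
      · right; rfl
      · exact absurd hp' (by norm_num)
    rcases this with rfl | rfl
    · refine ⟨0, by simp, ?_⟩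
      simp only [e, s, pow_zero, one_mul, mul_zero, Nat.sub_zero]
      rw [Nat.factorization_def _ Nat.prime_two]
    · rcases Nat.lt_or_ge k 3 with hk | hk
      · interval_cases k
        · simpa [e_zero] using Bd.one 1
        · refine ⟨1, by norm_num, ?_⟩
          simp [e_succ', e_zero, s_zero]
        · refine ⟨0, by norm_num, ?_⟩
          have := s_nine
          simp [e_succ', e_zero]
          omega
      · refine ⟨0, by simp, ?_⟩
        have := two_pow_e_three_le k hk
        simp only [pow_zero, one_mul, mul_zero, Nat.sub_zero]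
        omega
  · exact ⟨0, by omega, by simpa using pow_e_le p h5 k⟩

/-- If `c = x y x⁻¹ y⁻¹` is central then `x^k y x^{-k} = c^k y`. -/
lemma conj_pow_of_central {G : Type*} [Group G] (x y c : G) (hc : c ∈ Subgroup.center G)
    (h : x * y * x⁻¹ = c * y) (k : ℕ) : x ^ k * y * (x ^ k)⁻¹ = c ^ k * y := by
  induction k with
  | zero => simp
  | succ k ih =>
    have hcomm : ∀ z : G, c * z = z * c := fun z => (Subgroup.mem_center_iff.mp hc z).symm
    calc x ^ (k + 1) * y * (x ^ (k + 1))⁻¹ = x * (x ^ k * y * (x ^ k)⁻¹) * x⁻¹ := by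
          rw [pow_succ']; group
      _ = x * (c ^ k * y) * x⁻¹ := by rw [ih]
      _ = c ^ k * (x * y * x⁻¹) := by
          have : x * c ^ k = c ^ k * x := by
            have := Subgroup.pow_mem _ hc k
            exact (Subgroup.mem_center_iff.mp this x)
          calc x * (c ^ k * y) * x⁻¹ = (x * c ^ k) * y * x⁻¹ := by group
            _ = c ^ k * x * y * x⁻¹ := by rw [this]
            _ = _ := by group
      _ = c ^ k * (c * y) := by rw [h]
      _ = c ^ (k + 1) * y := by rw [pow_succ]; group

/-- In a nilpotent group, elements of coprime finite orders commute. -/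
theorem commute_of_coprime_orderOf (G : Type*) [Group G] [hG : Group.IsNilpotent G] :
    ∀ x y : G, IsOfFinOrder x → IsOfFinOrder y → Nat.Coprime (orderOf x) (orderOf y) →
      x * y = y * x := by
  apply @Group.nilpotent_center_quotient_ind _ G _ _ <;> clear! G
  · intro G _ _ x y _ _ _; exact Subsingleton.elim _ _
  · intro G _ _ ih x y hx hy hxy
    have h1 := ih (QuotientGroup.mk x) (QuotientGroup.mk y)
      ((QuotientGroup.mk' (Subgroup.center G)).isOfFinOrder hx)
      ((QuotientGroup.mk' (Subgroup.center G)).isOfFinOrder hy)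
      (Nat.Coprime.coprime_dvd_left (orderOf_map_dvd (QuotientGroup.mk' (Subgroup.center G)) x)
        (Nat.Coprime.coprime_dvd_right (orderOf_map_dvd (QuotientGroup.mk' (Subgroup.center G)) y)
          hxy))
    set c := x * y * x⁻¹ * y⁻¹ with hc
    have hcZ : c ∈ Subgroup.center G := by
      rw [← QuotientGroup.eq_one_iff]
      simp only [hc, QuotientGroup.mk_mul, QuotientGroup.mk_inv]
      rw [h1]; group
    have e1 : x * y * x⁻¹ = c * y := by rw [hc]; group
    have e2 : y * x * y⁻¹ = c⁻¹ * x := by rw [hc]; group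
    have p1 := conj_pow_of_central x y c hcZ e1 (orderOf x)
    have p2 := conj_pow_of_central y x c⁻¹ (Subgroup.inv_mem _ hcZ) e2 (orderOf y)
    rw [pow_orderOf_eq_one] at p1 p2
    have q1 : c ^ orderOf x = 1 := by
      have : y = c ^ orderOf x * y := by simpa using p1
      exact (mul_eq_right.mp this.symm)
    have q2 : c ^ orderOf y = 1 := by
      have : x = c⁻¹ ^ orderOf y * x := by simpa using p2
      have := (mul_eq_right.mp this.symm)
      simpa using this
    have d1 := orderOf_dvd_of_pow_eq_one q1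
    have d2 := orderOf_dvd_of_pow_eq_one q2
    have : orderOf c = 1 := Nat.eq_one_of_dvd_coprimes hxy d1 d2
    have hc1 : c = 1 := orderOf_eq_one_iff.mp this
    rw [hc] at hc1
    calc x * y = (x * y * x⁻¹ * y⁻¹) * (y * x) := by group
      _ = y * x := by rw [hc1, one_mul]

open MulAction

section Factor

variable {N : Type*} [Group N] {Ω : Type*} [MulAction N Ω]
  (A B : Subgroup N) (hcomm : ∀ a ∈ A, ∀ b ∈ B, a * b = b * a)
  (hAB : ∀ g : N, ∃ a ∈ A, ∃ b ∈ B, g = a * b)

include hcomm hAB in
lemma factor_normal : A.Normal := by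
  refine ⟨fun a ha g => ?_⟩
  obtain ⟨a', ha', b, hb, rfl⟩ := hAB g
  have h1 : b * a * b⁻¹ = a := by
    rw [← hcomm a ha b hb]; group
  have : a' * b * a * (a' * b)⁻¹ = a' * (b * a * b⁻¹) * a'⁻¹ := by group
  rw [this, h1]
  exact A.mul_mem (A.mul_mem ha' ha) (A.inv_mem ha')

include hcomm hAB in
lemma factor_faithful [IsPretransitive N Ω] [FaithfulSMul N Ω] (ω : Ω) (a : N) (ha : a ∈ A)
    (h : ∀ x ∈ orbit A ω, a • x = x) : a = 1 := by
  apply FaithfulSMul.eq_of_smul_eq_smul (α := Ω)
  intro x
  obtain ⟨g, rfl⟩ := exists_smul_eq N ω x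
  obtain ⟨a', ha', b, hb, rfl⟩ := hAB g
  rw [one_smul]
  have h1 : a • (a' • ω) = a' • ω := h _ ⟨⟨a', ha'⟩, rfl⟩
  calc a • (a' * b) • ω = (a * (a' * b)) • ω := by rw [mul_smul a]
    _ = (b * (a * a')) • ω := by
        rw [← mul_assoc, hcomm (a * a') (A.mul_mem ha ha') b hb]
    _ = b • (a • (a' • ω)) := by rw [mul_smul, mul_smul]
    _ = b • (a' • ω) := by rw [h1]
    _ = (a' * b) • ω := by rw [← mul_smul, ← hcomm a' ha' b hb]

include hcomm hAB in
lemma factor_faithful_inst [IsPretransitive N Ω] [FaithfulSMul N Ω] (ω : Ω) :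
    FaithfulSMul A (orbit A ω) := by
  refine ⟨fun {a a'} h => ?_⟩
  have h1 : (a'⁻¹ * a : A) = 1 := by
    apply Subtype.ext
    apply factor_faithful A B hcomm hAB ω _ (a'⁻¹ * a).2
    intro x hx
    have := h ⟨x, hx⟩
    have h2 : a • x = a' • x := congrArg Subtype.val this
    change (a'⁻¹ * a) • x = x
    rw [mul_smul, h2, inv_smul_smul]
  exact (inv_mul_eq_one.mp h1).symm

include hcomm hAB in
lemma factor_orbit_dvd [IsPretransitive N Ω] [Finite Ω] (ω : Ω) :
    (orbit A ω).ncard ∣ Nat.card Ω := by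
  have := factor_normal A B hcomm hAB
  exact (IsBlock.orbit_of_normal (G := N) (N := A) ω).ncard_dvd_card (nonempty_orbit ω)

end Factor

section Split

variable {N : Type*} [Group N] {Ω : Type*} [MulAction N Ω]

/-- The complement of an invariant subset. -/
def complSub (S : SubMulAction N Ω) : SubMulAction N Ω where
  carrier := (S : Set Ω)ᶜ
  smul_mem' := by
    intro g x hx hmem
    apply hx
    have : g⁻¹ • (g • x) ∈ S := S.smul_mem g⁻¹ hmem
    rwa [inv_smul_smul] at this

lemma mem_complSub (S : SubMulAction N Ω) (x : Ω) : x ∈ complSub S ↔ x ∉ S := Iff.rfl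

/-- The orbit as an invariant subset. -/
def orbSub (N : Type*) [Group N] {Ω : Type*} [MulAction N Ω] (ω : Ω) : SubMulAction N Ω where
  carrier := orbit N ω
  smul_mem' := by
    intro g x hx
    obtain ⟨h, rfl⟩ := hx
    exact ⟨g * h, mul_smul _ _ _⟩

lemma mem_orbSub (ω x : Ω) : x ∈ orbSub N ω ↔ x ∈ orbit N ω := Iff.rfl

lemma card_split [FaithfulSMul N Ω] (S : SubMulAction N Ω) [Finite Ω] :
    Nat.card N ≤ Nat.card (toPermHom N S).range * Nat.card (toPermHom N (complSub S)).range := by
  rw [← Nat.card_prod]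
  let f : N → (toPermHom N S).range × (toPermHom N (complSub S)).range :=
    fun g => ((toPermHom N S).rangeRestrict g, (toPermHom N (complSub S)).rangeRestrict g)
  apply Nat.card_le_card_of_injective f
  intro g h hgh
  apply FaithfulSMul.eq_of_smul_eq_smul (α := Ω)
  intro x
  have h1 : toPermHom N S g = toPermHom N S h := by
    have := congrArg (fun z => (z.1 : Equiv.Perm S)) hgh
    exact this
  have h2 : toPermHom N (complSub S) g = toPermHom N (complSub S) h := by
    have := congrArg (fun z => (z.2 : Equiv.Perm (complSub S))) hgh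
    exact this
  by_cases hx : x ∈ S
  · have := congrArg (fun σ => ((σ ⟨x, hx⟩ : S) : Ω)) h1
    exact this
  · have := congrArg (fun σ => ((σ ⟨x, hx⟩ : complSub S) : Ω)) h2
    exact this

lemma card_complSub [Finite Ω] (S : SubMulAction N Ω) :
    Nat.card S + Nat.card (complSub S) = Nat.card Ω := by
  have h1 : Nat.card S = (S : Set Ω).ncard := rfl
  have h2 : Nat.card (complSub S) = ((S : Set Ω)ᶜ).ncard := rfl
  rw [h1, h2, Set.ncard_add_ncard_compl]

end Split


section Factor2

variable {N : Type*} [Group N] {Ω : Type*} [MulAction N Ω]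
  (A B : Subgroup N) (hcomm : ∀ a ∈ A, ∀ b ∈ B, a * b = b * a)
  (hAB : ∀ g : N, ∃ a ∈ A, ∃ b ∈ B, g = a * b)

include hcomm hAB in
lemma factor_two_le [IsPretransitive N Ω] [FaithfulSMul N Ω] [Finite Ω] (ω : Ω) (hA : A ≠ ⊥) :
    2 ≤ (orbit A ω).ncard := by
  by_contra hlt
  have h1 : (orbit A ω).ncard ≤ 1 := by omega
  apply hA
  rw [eq_bot_iff]
  intro a ha
  rw [Subgroup.mem_bot]
  apply factor_faithful A B hcomm hAB ω a ha
  intro x hx
  have hfin : (orbit A ω).Finite := Set.toFinite _
  have hsub := (Set.ncard_le_one hfin).mp h1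
  have hx' : a • x ∈ orbit A ω := by
    obtain ⟨h, rfl⟩ := hx
    exact ⟨⟨a, ha⟩ * h, mul_smul _ _ _⟩
  exact hsub _ hx' _ hx

lemma orbit_ncard_dvd_card [Finite N] (ω : Ω) : (orbit A ω).ncard ∣ Nat.card A := by
  rw [← MulAction.index_stabilizer]
  exact Subgroup.index_dvd_card _

end Factor2

/-- Main theorem: a finite nilpotent group acting faithfully on `n` points has order bounded
by `Bd n`. -/
theorem main : ∀ n : ℕ, ∀ (N : Type) [Group N] [Finite N], Group.IsNilpotent N →
    ∀ (Ω : Type) [Finite Ω] [MulAction N Ω] [FaithfulSMul N Ω], Nat.card Ω = n →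
    Bd n (Nat.card N) := by
  intro n
  induction n using Nat.strong_induction_on with
  | _ n ih =>
    intro N _ _ hN Ω _ _ _ hΩ
    by_cases h1 : Nat.card N = 1
    · rw [h1]; exact Bd.one n
    have hne : Nonempty Ω := by
      by_contra hemp
      rw [not_nonempty_iff] at hemp
      apply h1
      have : Subsingleton N :=
        ⟨fun a b => FaithfulSMul.eq_of_smul_eq_smul (α := Ω) (fun x => isEmptyElim x)⟩
      exact Nat.card_unique
    obtain ⟨ω⟩ := hne
    by_cases htr : orbit N ω = Set.univ
    · -- transitive case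
      have hpre : IsPretransitive N Ω := by
        refine ⟨fun x y => ?_⟩
        have hx : x ∈ orbit N ω := htr ▸ Set.mem_univ x
        have hy : y ∈ orbit N ω := htr ▸ Set.mem_univ y
        obtain ⟨g, rfl⟩ := hx
        obtain ⟨h, rfl⟩ := hy
        exact ⟨h * g⁻¹, by simp [mul_smul]⟩
      obtain ⟨p, hp, hpdvd⟩ := Nat.exists_prime_and_dvd h1
      have : Fact p.Prime := ⟨hp⟩
      let A : Sylow p N := default
      have hAn : (A : Subgroup N).Normal :=
        Sylow.normal_of_normalizerCondition Group.normalizerCondition_of_isNilpotent A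
      have hnN : n ∣ Nat.card N := by
        rw [← hΩ, ← MulAction.index_stabilizer_of_transitive N ω]
        exact Subgroup.index_dvd_card _
      have hNfact : Nat.card N ∣ n.factorial := by
        have := Subgroup.card_dvd_of_injective (MulAction.toPermHom N Ω) MulAction.toPerm_injective
        rwa [Nat.card_perm, hΩ] at this
      by_cases hAtop : (A : Subgroup N) = ⊤
      · -- `N` is a `p`-group
        have hcardA : Nat.card N = Nat.card A := by
          have : Nat.card (A : Subgroup N) = Nat.card (⊤ : Subgroup N) := by rw [hAtop]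
          rw [this, Subgroup.card_top]
        obtain ⟨a, ha⟩ := IsPGroup.iff_card.mp A.isPGroup'
        rw [← hcardA] at ha
        rw [ha] at hnN hNfact
        obtain ⟨k, hk, hnk⟩ := (Nat.dvd_prime_pow hp).mp hnN
        have hle : a ≤ padicValNat p n.factorial :=
          (padicValNat_dvd_iff_le (Nat.factorial_ne_zero n)).mp hNfact
        have : Nat.card N ≤ p ^ e p k := by
          rw [ha]; unfold e; rw [← hnk]; exact Nat.pow_le_pow_right hp.pos hle
        rw [hnk]; exact (bd_prime_pow p k).le this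
      · -- not a `p`-group
        obtain ⟨B, hB⟩ := Subgroup.exists_right_complement'_of_coprime
          (N := (A : Subgroup N)) (Sylow.card_coprime_index A)
        have hcardAB := hB.card_mul_card
        have hcop : Nat.Coprime (Nat.card A) (Nat.card B) := by
          have := Sylow.card_coprime_index A
          rwa [hB.symm.index_eq_card] at this
        have hcomm : ∀ a ∈ (A : Subgroup N), ∀ b ∈ B, a * b = b * a := by
          intro a ha b hb
          apply commute_of_coprime_orderOf N a b (isOfFinOrder_of_finite a) (isOfFinOrder_of_finite b)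
          have h1 : orderOf a ∣ Nat.card A := by
            have := orderOf_dvd_natCard (⟨a, ha⟩ : (A : Subgroup N))
            rwa [Subgroup.orderOf_mk] at this
          have h2 : orderOf b ∣ Nat.card B := by
            have := orderOf_dvd_natCard (⟨b, hb⟩ : B)
            rwa [Subgroup.orderOf_mk] at this
          exact Nat.Coprime.coprime_dvd_left h1 (Nat.Coprime.coprime_dvd_right h2 hcop)
        have hAB : ∀ g : N, ∃ a ∈ (A : Subgroup N), ∃ b ∈ B, g = a * b := by
          intro g
          obtain ⟨⟨a, b⟩, hab⟩ := hB.2 g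
          exact ⟨a.1, a.2, b.1, b.2, hab.symm⟩
        have hcomm' : ∀ b ∈ B, ∀ a ∈ (A : Subgroup N), b * a = a * b :=
          fun b hb a ha => (hcomm a ha b hb).symm
        have hAB' : ∀ g : N, ∃ b ∈ B, ∃ a ∈ (A : Subgroup N), g = b * a := by
          intro g
          obtain ⟨a, ha, b, hb, rfl⟩ := hAB g
          exact ⟨b, hb, a, ha, hcomm a ha b hb⟩
        have hAbot : (A : Subgroup N) ≠ ⊥ := Sylow.ne_bot_of_dvd_card A hpdvd
        have hBbot : B ≠ ⊥ := by
          intro hbot
          apply hAtop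
          rw [hbot, Subgroup.card_bot, mul_one] at hcardAB
          exact Subgroup.eq_top_of_card_eq _ hcardAB
        set a' := (orbit (A : Subgroup N) ω).ncard with ha'
        set b' := (orbit B ω).ncard with hb'
        have ha2 : 2 ≤ a' := factor_two_le _ B hcomm hAB ω hAbot
        have hb2 : 2 ≤ b' := factor_two_le B _ hcomm' hAB' ω hBbot
        have han : a' ∣ n := hΩ ▸ factor_orbit_dvd _ B hcomm hAB ω
        have hbn : b' ∣ n := hΩ ▸ factor_orbit_dvd B _ hcomm' hAB' ω
        have haA : a' ∣ Nat.card A := orbit_ncard_dvd_card _ ω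
        have hbB : b' ∣ Nat.card B := orbit_ncard_dvd_card B ω
        have hcop' : Nat.Coprime a' b' :=
          Nat.Coprime.coprime_dvd_left haA (Nat.Coprime.coprime_dvd_right hbB hcop)
        have hnpos : 0 < n := by
          rw [← hΩ]
          have : Nonempty Ω := ⟨ω⟩
          exact Nat.card_pos
        have habn : a' * b' ≤ n := Nat.le_of_dvd hnpos (hcop'.mul_dvd_of_dvd_of_dvd han hbn)
        have hsum : a' + b' ≤ n := by nlinarith
        have := factor_faithful_inst _ B hcomm hAB ω
        have := factor_faithful_inst B _ hcomm' hAB' ω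
        have bA := ih a' (by omega) (A : Subgroup N) inferInstance (orbit (A : Subgroup N) ω)
          (Nat.card_coe_set_eq _)
        have bB := ih b' (by omega) B inferInstance (orbit B ω) (Nat.card_coe_set_eq _)
        have := (bA.mul bB).mono hsum
        rwa [hcardAB] at this
    · -- intransitive case
      set S := orbSub N ω with hS
      have hcard := card_complSub S
      rw [hΩ] at hcard
      have hS1 : 0 < Nat.card S := by
        have : Nonempty S := ⟨⟨ω, mem_orbit_self ω⟩⟩
        exact Nat.card_pos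
      have hT1 : 0 < Nat.card (complSub S) := by
        obtain ⟨x, hx⟩ : ∃ x, x ∉ orbit N ω := by
          by_contra hcon
          push Not at hcon
          exact htr (Set.eq_univ_of_forall hcon)
        have : Nonempty (complSub S) := ⟨⟨x, hx⟩⟩
        exact Nat.card_pos
      have hn1 : Group.IsNilpotent (toPermHom N S).range :=
        Group.nilpotent_of_surjective _ (MonoidHom.rangeRestrict_surjective _)
      have hn2 : Group.IsNilpotent (toPermHom N (complSub S)).range :=
        Group.nilpotent_of_surjective _ (MonoidHom.rangeRestrict_surjective _)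
      have b1 := ih (Nat.card S) (by omega) (toPermHom N S).range hn1 S rfl
      have b2 := ih (Nat.card (complSub S)) (by omega) (toPermHom N (complSub S)).range hn2
        (complSub S) rfl
      have := (b1.mul b2).le (card_split S)
      rwa [hcard] at this

/-- The order of a Sylow 2-subgroup of `S_n`. -/
lemma card_sylow_two (n : ℕ) (P : Sylow 2 (Equiv.Perm (Fin n))) : Nat.card P = s n := by
  have : Fact (Nat.Prime 2) := ⟨Nat.prime_two⟩
  rw [Sylow.card_eq_multiplicity, Nat.card_perm, Nat.card_fin]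
  rfl

/-- A nilpotent subgroup of `S_n` has order bounded by `Bd n`. -/
theorem bd_subgroup (n : ℕ) (N : Subgroup (Equiv.Perm (Fin n))) (hN : Group.IsNilpotent N) :
    Bd n (Nat.card N) :=
  main n N hN (Fin n) (Nat.card_fin n)

end Cfsg.Agent.NilpSym
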