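import Cfsg.Agent.Lib.Lead.NilpSym

/-!
# Nilpotent subgroups of `S_n`, `n ≡ 3 (mod 4)`: bound `3 * s (n-3)`, model, conjugacy
-/

set_option autoImplicit false

namespace Cfsg.Agent.NilpSym

lemma s_succ (k : ℕ) : s (k + 1) = 2 ^ ((k + 1).factorization 2) * s k := by
  unfold s
  rw [Nat.factorial_succ, Nat.factorization_mul (by omega) (Nat.factorial_ne_zero _)]
  simp [pow_add]

lemma s_succ_odd (k : ℕ) (hk : ¬ 2 ∣ k + 1) : s (k + 1) = s k := by
  rw [s_succ, Nat.factorization_eq_zero_of_not_dvd hk]; simp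

/-- `s (m+3) = 2 * s m` when `4 ∣ m`. -/
lemma s_add_three_eq (m : ℕ) (hm : 4 ∣ m) : s (m + 3) = 2 * s m := by
  obtain ⟨q, rfl⟩ := hm
  have h1 : s (4 * q + 1) = s (4 * q) := s_succ_odd _ (by omega)
  have h3 : s (4 * q + 2 + 1) = s (4 * q + 2) := s_succ_odd _ (by omega)
  have h2 : s (4 * q + 1 + 1) = 2 * s (4 * q + 1) := by
    rw [s_succ]
    have : 4 * q + 1 + 1 = 2 * (2 * q + 1) := by ring
    rw [this, Nat.factorization_mul (by norm_num) (by omega)]
    have h5 : (2 * q + 1).factorization 2 = 0 :=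
      Nat.factorization_eq_zero_of_not_dvd (by omega)
    simp [Nat.Prime.factorization_self Nat.prime_two, h5]
  rw [show 4 * q + 3 = 4 * q + 2 + 1 by ring, h3, show 4 * q + 2 = 4 * q + 1 + 1 by ring, h2, h1]

/-- For `n = m + 3` with `4 ∣ m`, the bound `Bd` reads `3 * s m`. -/
lemma Bd.le_three_s {m c : ℕ} (h : Bd (m + 3) c) (hm : 4 ∣ m) : c ≤ 3 * s m := by
  obtain ⟨j, hj, hc⟩ := h
  rcases Nat.eq_zero_or_pos j with rfl | hjpos
  · have := s_add_three_eq m hm
    simp only [pow_zero, one_mul, mul_zero, Nat.sub_zero] at hc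
    omega
  · obtain ⟨i, rfl⟩ : ∃ i, j = i + 1 := ⟨j - 1, by omega⟩
    have h1 := bd_le_s i m (by omega) (by omega)
    have h2 : m + 3 - 3 * (i + 1) = m - 3 * i := by omega
    rw [h2, pow_succ] at hc
    calc c ≤ 3 ^ i * 3 * s (m - 3 * i) := hc
      _ = 3 * (3 ^ i * s (m - 3 * i)) := by ring
      _ ≤ 3 * s m := by gcongr

lemma s_pred_lt (m : ℕ) (hm : 4 ∣ m) (hpos : 0 < m) : s (m - 1) < s m := by
  have h := s_succ_ge 2 (m - 1) (by rw [show m - 1 + 1 = m by omega]; simpa using hm)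
  rw [show m - 1 + 1 = m by omega] at h
  have := s_pos (m - 1)
  omega


/-- The embedding `Perm (Fin m) × Perm (Fin 3) →* Perm (Fin n)` for `m + 3 = n`. -/
def emb (m n : ℕ) (h : m + 3 = n) :
    Equiv.Perm (Fin m) × Equiv.Perm (Fin 3) →* Equiv.Perm (Fin n) :=
  ((finSumFinEquiv.trans (finCongr h)).permCongrHom.toMonoidHom).comp
    (Equiv.Perm.sumCongrHom (Fin m) (Fin 3))

lemma emb_injective (m n : ℕ) (h : m + 3 = n) : Function.Injective (emb m n h) := by
  unfold emb
  exact ((finSumFinEquiv.trans (finCongr h)).permCongrHom.injective).comp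
    Equiv.Perm.sumCongrHom_injective

/-- The regular representation of `C₃` on three points. -/
def c3hom : Multiplicative (ZMod 3) →* Equiv.Perm (Fin 3) :=
  ((Multiplicative.toAdd : Multiplicative (ZMod 3) ≃ Fin 3).permCongrHom.toMonoidHom).comp
    (MulAction.toPermHom (Multiplicative (ZMod 3)) (Multiplicative (ZMod 3)))

lemma c3hom_injective : Function.Injective c3hom := by
  unfold c3hom
  exact ((Multiplicative.toAdd : Multiplicative (ZMod 3) ≃ Fin 3).permCongrHom.injective).comp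
    MulAction.toPerm_injective

/-- The model subgroup `P × C₃`. -/
def modelHom (m n : ℕ) (h : m + 3 = n) (P : Subgroup (Equiv.Perm (Fin m))) :
    P × Multiplicative (ZMod 3) →* Equiv.Perm (Fin n) :=
  (emb m n h).comp (MonoidHom.prodMap P.subtype c3hom)

lemma modelHom_injective (m n : ℕ) (h : m + 3 = n) (P : Subgroup (Equiv.Perm (Fin m))) :
    Function.Injective (modelHom m n h P) := by
  unfold modelHom
  refine (emb_injective m n h).comp ?_
  intro x y hxy
  have h1 := congrArg Prod.fst hxy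
  have h2 := congrArg Prod.snd hxy
  simp only [MonoidHom.prodMap, MonoidHom.coe_prod, MonoidHom.coe_comp] at h1 h2
  exact Prod.ext (Subtype.ext h1) (c3hom_injective h2)

theorem exists_model (m n : ℕ) (h : m + 3 = n) (P : Sylow 2 (Equiv.Perm (Fin m))) :
    ∃ M : Subgroup (Equiv.Perm (Fin n)), Group.IsNilpotent M ∧ Nat.card M = 3 * Nat.card P ∧
      Nonempty (M ≃* (↥(P : Subgroup (Equiv.Perm (Fin m))) × Multiplicative (ZMod 3))) := by
  have : Fact (Nat.Prime 2) := ⟨Nat.prime_two⟩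
  let φ := modelHom m n h (P : Subgroup (Equiv.Perm (Fin m)))
  have hinj := modelHom_injective m n h (P : Subgroup (Equiv.Perm (Fin m)))
  let e : (↥(P : Subgroup (Equiv.Perm (Fin m))) × Multiplicative (ZMod 3)) ≃* φ.range :=
    MonoidHom.ofInjective hinj
  have hnP : Group.IsNilpotent (P : Subgroup (Equiv.Perm (Fin m))) := P.isPGroup'.isNilpotent
  refine ⟨φ.range, Group.nilpotent_of_mulEquiv e, ?_, ⟨e.symm⟩⟩
  rw [← Nat.card_congr e.toEquiv, Nat.card_prod, mul_comm]
  congr 1
  simp [Nat.card_eq_fintype_card]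


lemma s_pred_lt' (m : ℕ) (hm : 4 ∣ m) (hpos : 0 < m) : s (m - 1) < s m := by
  have h := s_succ_ge 2 (m - 1) (by rw [show m - 1 + 1 = m by omega]; simpa using hm)
  rw [show m - 1 + 1 = m by omega] at h
  have := s_pos (m - 1)
  omega

lemma s_eq_pow (m : ℕ) : s m = 2 ^ (m.factorial.factorization 2) := rfl

/-- Structure of a nilpotent subgroup of maximal order `3 * s m` in `S_{m+3}`, `4 ∣ m`. -/
theorem max_structure (m n : ℕ) (h : m + 3 = n) (hm : 4 ∣ m)
    (N : Subgroup (Equiv.Perm (Fin n))) (hN : Group.IsNilpotent N)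
    (hcard : Nat.card N = 3 * s m) :
    ∃ (c : Equiv.Perm (Fin n)) (T : Subgroup (Equiv.Perm (Fin n))), c ∈ N ∧
      c.cycleType = {3} ∧ T ≤ N ∧ Nat.card T = s m ∧ (∀ t ∈ T, t * c = c * t) ∧
      N = T ⊔ Subgroup.zpowers c := by
  have : Fact (Nat.Prime 2) := ⟨Nat.prime_two⟩
  set k := m.factorial.factorization 2 with hk
  have hs : s m = 2 ^ k := rfl
  rw [hs] at hcard
  let T0 : Sylow 2 N := default
  have hT0 : Nat.card T0 = 2 ^ k := by
    rw [Sylow.card_eq_multiplicity, hcard, Nat.factorization_mul (by norm_num) (by positivity)]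
    have h3 : (3 : ℕ).factorization 2 = 0 := Nat.factorization_eq_zero_of_not_dvd (by norm_num)
    simp [h3, Nat.Prime.factorization_self Nat.prime_two]
  obtain ⟨c0, hc0⟩ := exists_prime_orderOf_dvd_card' (G := N) 3 (by rw [hcard]; exact Dvd.intro _ rfl)
  set c : Equiv.Perm (Fin n) := (c0 : Equiv.Perm (Fin n)) with hc
  have hoc : orderOf c = 3 := by rw [hc, Subgroup.orderOf_coe, hc0]
  have hcomm0 : ∀ t ∈ (T0 : Subgroup N), t * c0 = c0 * t := by
    intro t ht
    apply commute_of_coprime_orderOf N t c0 (isOfFinOrder_of_finite t) (isOfFinOrder_of_finite c0)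
    rw [hc0]
    have h1 : orderOf t ∣ 2 ^ k := by
      have := orderOf_dvd_natCard (⟨t, ht⟩ : (T0 : Subgroup N))
      rwa [Subgroup.orderOf_mk, hT0] at this
    exact Nat.Coprime.coprime_dvd_left h1 (Nat.Coprime.pow_left _ (by norm_num))
  set T := (T0 : Subgroup N).map N.subtype with hT
  have hTcard : Nat.card T = 2 ^ k := by
    rw [hT, Subgroup.card_map_of_injective N.subtype_injective, hT0]
  have hTN : T ≤ N := Subgroup.map_subtype_le _
  have hcomm : ∀ t ∈ T, t * c = c * t := by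
    intro t ht
    obtain ⟨t0, ht0, rfl⟩ := ht
    have := hcomm0 t0 ht0
    exact congrArg Subtype.val this
  have hcN : c ∈ N := c0.2
  have hsup : N = T ⊔ Subgroup.zpowers c := by
    symm
    apply Subgroup.eq_of_le_of_card_ge
    · exact sup_le hTN ((Subgroup.zpowers_le).mpr hcN)
    · rw [hcard]
      apply Nat.le_of_dvd Nat.card_pos
      apply Nat.Coprime.mul_dvd_of_dvd_of_dvd (Nat.Coprime.pow_right _ (by norm_num))
      · have := Subgroup.card_dvd_of_le (le_sup_right : Subgroup.zpowers c ≤ T ⊔ Subgroup.zpowers c)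
        rwa [Nat.card_zpowers, hoc] at this
      · have := Subgroup.card_dvd_of_le (le_sup_left : T ≤ T ⊔ Subgroup.zpowers c)
        rwa [hTcard] at this
  refine ⟨c, T, hcN, ?_, hTN, hTcard, hcomm, hsup⟩
  -- the cycle type
  obtain ⟨j, hj⟩ := Equiv.Perm.cycleType_prime_order (σ := c) (by rw [hoc]; exact Nat.prime_three)
  rw [hoc] at hj
  have hTZ : T ≤ Subgroup.centralizer {c} := by
    intro t ht
    rw [Subgroup.mem_centralizer_iff]
    intro x hx
    rw [Set.mem_singleton_iff] at hx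
    rw [hx, hcomm t ht]
  have hdvd := Subgroup.card_dvd_of_le hTZ
  rw [Equiv.Perm.nat_card_centralizer, hTcard, hj] at hdvd
  simp only [Multiset.sum_replicate, Multiset.prod_replicate, smul_eq_mul, Fintype.card_fin] at hdvd
  have hfs : (Multiset.replicate (j + 1) 3).toFinset = {3} := by
    rw [Multiset.toFinset_replicate]; simp
  rw [hfs, Finset.prod_singleton, Multiset.count_replicate_self] at hdvd
  have hsum : (j + 1) * 3 ≤ n := by
    have h1 := Equiv.Perm.sum_cycleType c
    rw [hj, Multiset.sum_replicate, smul_eq_mul] at h1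
    rw [h1]
    calc c.support.card ≤ Finset.univ.card := Finset.card_le_card (Finset.subset_univ _)
      _ = n := by simp
  have hdvd2 : 2 ^ k ∣ (n - (j + 1) * 3).factorial * (j + 1).factorial := by
    have h1 : 2 ^ k ∣ 3 ^ (j + 1) * ((n - (j + 1) * 3).factorial * (j + 1).factorial) := by
      convert hdvd using 1; ring
    exact (Nat.Coprime.dvd_mul_left
      (Nat.Coprime.pow _ _ (by norm_num : Nat.Coprime 2 3))).mp h1
  have hdvd3 : 2 ^ k ∣ ((n - (j + 1) * 3) + (j + 1)).factorial :=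
    hdvd2.trans (Nat.factorial_mul_factorial_dvd_factorial_add _ _)
  have hle := s_le_of_dvd hdvd3 (by positivity)
  rw [Nat.Prime.factorization_pow Nat.prime_two] at hle
  simp only [Finsupp.single_eq_same] at hle
  rcases Nat.eq_zero_or_pos j with rfl | hjpos
  · rw [hj]; rfl
  · exfalso
    have hmpos : 0 < m := by omega
    have h1 := s_pred_lt' m hm hmpos
    have h2 : s ((n - (j + 1) * 3) + (j + 1)) ≤ s (m - 1) := s_mono (by omega)
    rw [← hs] at hle
    omega


/-- Any two nilpotent subgroups of maximal order are conjugate. -/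
theorem max_conj (m n : ℕ) (h : m + 3 = n) (hm : 4 ∣ m)
    (N₁ N₂ : Subgroup (Equiv.Perm (Fin n))) (hN₁ : Group.IsNilpotent N₁)
    (hN₂ : Group.IsNilpotent N₂)
    (hc₁ : Nat.card N₁ = 3 * s m) (hc₂ : Nat.card N₂ = 3 * s m) :
    ∃ g : Equiv.Perm (Fin n), N₂ = N₁.map (MulAut.conj g).toMonoidHom := by
  have : Fact (Nat.Prime 2) := ⟨Nat.prime_two⟩
  obtain ⟨c1, T1, hc1N, hct1, hT1N, hT1c, hcomm1, hsup1⟩ := max_structure m n h hm N₁ hN₁ hc₁
  obtain ⟨c2, T2, hc2N, hct2, hT2N, hT2c, hcomm2, hsup2⟩ := max_structure m n h hm N₂ hN₂ hc₂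
  have hconj : IsConj c1 c2 := Equiv.Perm.isConj_iff_cycleType_eq.mpr (by rw [hct1, hct2])
  obtain ⟨g, hg⟩ := isConj_iff.mp hconj
  set Z := Subgroup.centralizer ({c2} : Set (Equiv.Perm (Fin n))) with hZ
  have hZcard : Nat.card Z = m.factorial * 3 := by
    rw [hZ, Equiv.Perm.nat_card_centralizer, hct2]
    simp only [Multiset.sum_singleton, Multiset.prod_singleton, Fintype.card_fin,
      Multiset.toFinset_singleton, Finset.prod_singleton, Multiset.count_singleton_self,
      Nat.factorial_one, mul_one]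
    rw [← h]; simp
  have hZfac : (Nat.card Z).factorization 2 = m.factorial.factorization 2 := by
    rw [hZcard, Nat.factorization_mul (Nat.factorial_ne_zero _) (by norm_num)]
    have h3 : (3 : ℕ).factorization 2 = 0 := Nat.factorization_eq_zero_of_not_dvd (by norm_num)
    simp [h3]
  set T1' := T1.map (MulAut.conj g).toMonoidHom with hT1'
  have hT1'Z : T1' ≤ Z := by
    rintro _ ⟨t, ht, rfl⟩
    rw [hZ, Subgroup.mem_centralizer_iff]
    intro x hx
    rw [Set.mem_singleton_iff] at hx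
    subst hx
    have := hcomm1 t ht
    simp only [MulEquiv.coe_toMonoidHom, MulAut.conj_apply]
    rw [← hg]
    calc g * c1 * g⁻¹ * (g * t * g⁻¹) = g * (c1 * t) * g⁻¹ := by group
      _ = g * (t * c1) * g⁻¹ := by rw [this]
      _ = _ := by group
  have hT2Z : T2 ≤ Z := by
    intro t ht
    rw [hZ, Subgroup.mem_centralizer_iff]
    intro x hx
    rw [Set.mem_singleton_iff] at hx
    rw [hx, hcomm2 t ht]
  have hT1'c : Nat.card T1' = s m := by
    rw [hT1', Subgroup.card_map_of_injective (MulAut.conj g).injective, hT1c]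
  have hS1 : Nat.card (T1'.subgroupOf Z) = 2 ^ (Nat.card Z).factorization 2 := by
    rw [Nat.card_congr (Subgroup.subgroupOfEquivOfLe hT1'Z).toEquiv, hT1'c, hZfac]; rfl
  have hS2 : Nat.card (T2.subgroupOf Z) = 2 ^ (Nat.card Z).factorization 2 := by
    rw [Nat.card_congr (Subgroup.subgroupOfEquivOfLe hT2Z).toEquiv, hT2c, hZfac]; rfl
  let S1 : Sylow 2 Z := Sylow.ofCard (T1'.subgroupOf Z) hS1
  let S2 : Sylow 2 Z := Sylow.ofCard (T2.subgroupOf Z) hS2
  obtain ⟨z, hz⟩ := MulAction.exists_smul_eq Z S1 S2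
  refine ⟨(z : Equiv.Perm (Fin n)) * g, ?_⟩
  apply Subgroup.eq_of_le_of_card_ge
  · rw [hsup2]
    apply sup_le
    · intro t ht
      have h1 : (⟨t, hT2Z ht⟩ : Z) ∈ (S2 : Subgroup Z) := by
        change _ ∈ T2.subgroupOf Z
        rw [Subgroup.mem_subgroupOf]; exact ht
      rw [← hz, Sylow.coe_subgroup_smul, Subgroup.mem_pointwise_smul_iff_inv_smul_mem] at h1
      change _ ∈ T1'.subgroupOf Z at h1
      rw [Subgroup.mem_subgroupOf] at h1
      simp only [MulAut.smul_def, MulAut.inv_apply, MulAut.conj_symm_apply,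
        Subgroup.coe_mul, Subgroup.coe_inv] at h1
      obtain ⟨t1, ht1, ht1e⟩ := h1
      refine ⟨t1, hT1N ht1, ?_⟩
      simp only [MulEquiv.coe_toMonoidHom, MulAut.conj_apply] at ht1e ⊢
      calc (z : Equiv.Perm (Fin n)) * g * t1 * ((z : Equiv.Perm (Fin n)) * g)⁻¹
          = z * (g * t1 * g⁻¹) * (z : Equiv.Perm (Fin n))⁻¹ := by group
        _ = z * ((z : Equiv.Perm (Fin n))⁻¹ * t * z) * (z : Equiv.Perm (Fin n))⁻¹ := by rw [ht1e]
        _ = t := by group
    · rw [Subgroup.zpowers_le]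
      refine ⟨c1, hc1N, ?_⟩
      simp only [MulEquiv.coe_toMonoidHom, MulAut.conj_apply]
      have hzc : (z : Equiv.Perm (Fin n)) * c2 = c2 * z := by
        have h5 : (z : Equiv.Perm (Fin n)) ∈
            Subgroup.centralizer ({c2} : Set (Equiv.Perm (Fin n))) := z.2
        rw [Subgroup.mem_centralizer_iff] at h5
        exact (h5 c2 rfl).symm
      calc (z : Equiv.Perm (Fin n)) * g * c1 * ((z : Equiv.Perm (Fin n)) * g)⁻¹
          = z * (g * c1 * g⁻¹) * (z : Equiv.Perm (Fin n))⁻¹ := by group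
        _ = z * c2 * (z : Equiv.Perm (Fin n))⁻¹ := by rw [hg]
        _ = c2 := by rw [hzc]; group
  · rw [Subgroup.card_map_of_injective (MulAut.conj _).injective, hc₁, hc₂]

end Cfsg.Agent.NilpSym
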