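import Mathlib
import Cfsg.Agent.Lib.Helper7.O5940
import Cfsg.Agent.Lib.Helper5.Ord2.Kit
import Cfsg.Agent.S1019

/-!
# No simple group of order `15960 = 2³·3·5·7·19`   (lead, for S4274)

`n₁₉ ∈ {20, 210}`.  `20`: `|N| = 798`, `7 ∣ |C|`, and an element of order `7` of `C(P₁₉)` would
fix `f ≡ 1 (19)`, `f ≡ 6 (7)`, `f < 20` cosets.  `210`: `|N| = 76`, `|C| = 38` (Burnside), `C` is
cyclic with a unique involution `z`; `f(z) ≡ 1 (19)`, `≡ 2 (4)`, `< 210`, so `f ∈ {58, 134}`.
By S1019 `f · |z^G| = 210 · a` with `a = |z^G ∩ N|`; `P` acts on `z^G ∩ N` by conjugation with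
the single fixed point `z`, so `a ≡ 1 (19)`, and `a ≤ 1 + |N ∖ C| = 39`: no solution.
-/

set_option autoImplicit false
set_option maxRecDepth 100000

namespace Cfsg.Agent.Lib.Lead.O15960

open MulAction Cfsg.Agent.Lib.Helper5.O5040 Cfsg.Agent.Lib.Helper4.Sylow
  Cfsg.Agent.Lib.Helper4.Simple Cfsg.Agent.Lib.Helper7.O5940

/-- Conjugation by an element of prime order `p` on an invariant finite set: the cardinality is
congruent mod `p` to the number of fixed elements. -/
theorem card_modEq_card_conj_fixed {G : Type*} [Group G] (p : ℕ) [hp : Fact p.Prime] (x : G)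
    (hx : x ^ p = 1) (S : Set G) [Finite S] (hS : ∀ g ∈ S, x * g * x⁻¹ ∈ S) :
    Nat.card S ≡ Nat.card {g : G // g ∈ S ∧ x * g * x⁻¹ = g} [MOD p] := by
  classical
  have : Fintype S := Fintype.ofFinite _
  let f : Function.End S := fun g => ⟨x * g.1 * x⁻¹, hS g.1 g.2⟩
  have hfk : ∀ (k : ℕ) (g : S), ((f ^ k) g).1 = x ^ k * g.1 * (x ^ k)⁻¹ := by
    intro k
    induction k with
    | zero =>
      intro g
      rw [pow_zero, pow_zero, one_mul, inv_one, mul_one]
      rfl
    | succ k ih =>
      intro g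
      rw [pow_succ]
      change ((f ^ k) (f g)).1 = _
      rw [ih]
      change x ^ k * (x * g.1 * x⁻¹) * (x ^ k)⁻¹ = _
      rw [pow_succ]
      group
  have hf : f ^ p ^ 1 = 1 := by
    funext g
    apply Subtype.ext
    rw [pow_one, hfk, hx, one_mul, inv_one, mul_one]
    rfl
  have hmod := Equiv.Perm.card_fixedPoints_modEq (f := f) (p := p) (n := 1) hf
  rw [Nat.card_eq_fintype_card]
  refine hmod.trans ?_
  rw [← Nat.card_eq_fintype_card]
  have e : Function.fixedPoints f ≃ {g : G // g ∈ S ∧ x * g * x⁻¹ = g} :=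
    { toFun := fun g => ⟨g.1.1, g.1.2, congrArg Subtype.val g.2⟩
      invFun := fun g => ⟨⟨g.1, g.2.1⟩, Subtype.ext g.2.2⟩
      left_inv := fun g => rfl
      right_inv := fun g => rfl }
  rw [Nat.card_congr e]

/-- In a group `C` of order `2 * p` containing commuting elements `z` of order `2` and `x` of odd
prime order `p`, `z` is the only involution. -/
theorem eq_of_orderOf_two {G : Type*} [Group G] (C : Subgroup G) (p : ℕ) (hp : p.Prime)
    (hp2 : p ≠ 2) (hC : Nat.card C = 2 * p) (z x : G) (hz : orderOf z = 2) (hx : orderOf x = p)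
    (hzC : z ∈ C) (hxC : x ∈ C) (hcomm : z * x = x * z) (u : G) (huC : u ∈ C)
    (hu : orderOf u = 2) : u = z := by
  have hodd : Odd p := hp.odd_of_ne_two hp2
  obtain ⟨m, hm⟩ := hodd
  have hcop : (orderOf z).Coprime (orderOf x) := by
    rw [hz, hx]
    exact (Nat.coprime_primes Nat.prime_two hp).2 (fun h => hp2 h.symm)
  have hy : orderOf (z * x) = 2 * p := by
    have := Commute.orderOf_mul_eq_mul_orderOf_of_coprime (show Commute z x from hcomm) hcop
    rw [this, hz, hx]
  have hyC : z * x ∈ C := C.mul_mem hzC hxC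
  have hfin : Finite C := Nat.finite_of_card_ne_zero (by rw [hC]; have := hp.pos; omega)
  have hle : Subgroup.zpowers (z * x) ≤ C := by
    rw [Subgroup.zpowers_le]; exact hyC
  have heq : Subgroup.zpowers (z * x) = C :=
    Subgroup.eq_of_le_of_card_ge hle (by rw [Nat.card_zpowers, hy, hC])
  have hu' : u ∈ Subgroup.zpowers (z * x) := by rw [heq]; exact huC
  obtain ⟨n, hn⟩ := Subgroup.mem_zpowers_iff.1 hu'
  have hzz : z ^ 2 = 1 := by rw [← hz]; exact pow_orderOf_eq_one z
  have huu : u ^ 2 = 1 := by rw [← hu]; exact pow_orderOf_eq_one u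
  have hxp : x ^ p = 1 := by rw [← hx]; exact pow_orderOf_eq_one x
  have hup : u ^ p = u := by
    rw [hm, pow_succ, pow_mul, huu, one_pow, one_mul]
  have hzp : z ^ p = z := by
    rw [hm, pow_succ, pow_mul, hzz, one_pow, one_mul]
  have hyp : (z * x) ^ p = z := by
    rw [(show Commute z x from hcomm).mul_pow, hzp, hxp, mul_one]
  have h1 : u = z ^ n := by
    calc u = u ^ p := hup.symm
      _ = ((z * x) ^ n) ^ p := by rw [hn]
      _ = ((z * x) ^ n) ^ (p : ℤ) := (zpow_natCast _ _).symm
      _ = (z * x) ^ (n * (p : ℤ)) := (zpow_mul _ _ _).symm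
      _ = (z * x) ^ ((p : ℤ) * n) := by rw [mul_comm]
      _ = ((z * x) ^ (p : ℤ)) ^ n := zpow_mul _ _ _
      _ = z ^ n := by rw [zpow_natCast, hyp]
  have hu1 : u ≠ 1 := by
    intro h; rw [h, orderOf_one] at hu; norm_num at hu
  rcases Int.emod_two_eq_zero_or_one n with h0 | h0
  · exfalso
    apply hu1
    have hn2 : n = 2 * (n / 2) := by omega
    rw [h1, hn2, zpow_mul, zpow_ofNat, hzz, one_zpow]
  · have hn2 : n = 2 * (n / 2) + 1 := by omega
    rw [h1, hn2, zpow_add, zpow_mul, zpow_ofNat, hzz, one_zpow, one_mul, zpow_one]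

variable {G : Type*} [Group G] [Finite G] [IsSimpleGroup G]

set_option maxHeartbeats 1000000 in
theorem no_simple_15960 (hn : Nat.card G = 15960) : False := by
  classical
  have : Fact (Nat.Prime 19) := ⟨by norm_num⟩
  have : Fact (Nat.Prime 7) := ⟨by norm_num⟩
  have : Fact (Nat.Prime 2) := ⟨Nat.prime_two⟩
  have hnp : ¬ (Nat.card G).Prime := by rw [hn]; norm_num
  obtain ⟨P⟩ : Nonempty (Sylow 19 G) := inferInstance
  have hP : Nat.card (P : Subgroup G) = 19 :=
    Cfsg.Agent.Lib.Helper5.OrdKit.card_sylow_prime 840 (by rw [hn]) (by norm_num) P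
  obtain ⟨k, hk840, hk19, hk1, hkN, hkidx⟩ :=
    Cfsg.Agent.Lib.Helper5.OrdKit.sylow_count 840 (by rw [hn]) (by norm_num) (by norm_num) P
  obtain ⟨d, hd, hNC⟩ := Cfsg.Agent.Lib.Helper5.OrdKit.card_normalizer_eq_mul P hP
  have hlt : 19 < Nat.card G := by rw [hn]; norm_num
  have hk : k = 20 ∨ k = 210 := by
    have hle : k ≤ 840 := Nat.le_of_dvd (by norm_num) hk840
    obtain ⟨j, rfl⟩ : ∃ j, k = 19 * j + 1 := ⟨k / 19, by omega⟩
    have hj : j ≤ 44 := by omega
    interval_cases j <;> omega
  have hd18 : d = 1 ∨ d = 2 ∨ d = 3 ∨ d = 6 ∨ d = 9 ∨ d = 18 := by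
    have hd' : d ∣ 18 := by simpa using hd
    have hle : d ≤ 18 := Nat.le_of_dvd (by norm_num) hd'
    interval_cases d <;> omega
  rw [hn] at hkN
  rcases hk with rfl | rfl
  · -- `n₁₉ = 20`
    have hN798 : Nat.card (Subgroup.normalizer ((P : Subgroup G) : Set G)) = 798 := by omega
    have h7C : 7 ∣ Nat.card (Subgroup.centralizer ((P : Subgroup G) : Set G)) := by
      rw [hN798] at hNC
      rcases hd18 with rfl | rfl | rfl | rfl | rfl | rfl <;> omega
    obtain ⟨f, hf1, hf2, hf3⟩ := Cfsg.Agent.Lib.Helper5.OrdKit.k3 P hP hlt 7 h7C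
    rw [hkidx] at hf2 hf3
    omega
  · -- `n₁₉ = 210`
    set N := Subgroup.normalizer ((P : Subgroup G) : Set G) with hNdef
    set C := Subgroup.centralizer ((P : Subgroup G) : Set G) with hCdef
    have hN76 : Nat.card N = 76 := by omega
    have hCN : C ≤ N := Subgroup.centralizer_le_normalizer _
    have hC38 : Nat.card C = 38 := by
      rw [hN76] at hNC
      have h19C : 19 ∣ Nat.card C := Cfsg.Agent.Lib.Helper5.OrdKit.dvd_card_centralizer P hP
      rcases hd18 with rfl | rfl | rfl | rfl | rfl | rfl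
      · exfalso
        exact Cfsg.Agent.Lib.Helper5.OrdKit.burnside P hP hlt
          (by rw [← hNdef, ← hCdef, hN76]; omega)
      · omega
      · omega
      · omega
      · omega
      · omega
    -- an involution `z` in `C`
    obtain ⟨z, hzC, hz2⟩ := exists_orderOf_of_dvd C 2 (by rw [hC38]; norm_num)
    have hzN : z ∈ N := hCN hzC
    have hzz : z * z = 1 := by rw [← pow_two, ← hz2]; exact pow_orderOf_eq_one z
    have hz1 : z ≠ 1 := by intro h; rw [h, orderOf_one] at hz2; norm_num at hz2
    -- a generator `x` of `P`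
    obtain ⟨x, hxP, hx19⟩ := exists_orderOf_of_dvd (P : Subgroup G) 19 (by rw [hP])
    have hx1 : x ≠ 1 := by intro h; rw [h, orderOf_one] at hx19; norm_num at hx19
    have hx19' : x ^ 19 = 1 := by rw [← hx19]; exact pow_orderOf_eq_one x
    have hxC : x ∈ C := Cfsg.Agent.Lib.Helper5.OrdKit.le_centralizer P hP hxP
    have hfx : Nat.card (fixedBy (G ⧸ N) x) = 1 :=
      card_fixedBy_eq_one_of_le 19 P hP N le_rfl x hxP hx1
    have hcomm : z * x = x * z := by
      rw [Subgroup.mem_centralizer_iff] at hzC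
      exact (hzC x hxP).symm
    have hf19 := card_fixedBy_modEq_one (X := G ⧸ N) 19 x z hx19' hcomm hfx
    have hG2 : 2 < Nat.card G := by rw [hn]; norm_num
    have hf4 := card_mod_four_eq (X := G ⧸ N) hG2 z hzz
    have hX : Nat.card (G ⧸ N) = 210 := by
      have h3 := N.card_mul_index
      rw [hN76, hn, Subgroup.index_eq_card] at h3
      omega
    have hfle := card_fixedBy_le (X := G ⧸ N) z
    have hNtop : N ≠ ⊤ := by
      intro h
      rw [h, Subgroup.card_top, hn] at hN76
      norm_num at hN76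
    have hfne : Nat.card (fixedBy (G ⧸ N) z) ≠ 210 := by
      intro h
      exact absurd (eq_one_of_card_fixedBy_eq N hNtop z (by rw [h, hX])) hz1
    have hf : Nat.card (fixedBy (G ⧸ N) z) = 58 ∨ Nat.card (fixedBy (G ⧸ N) z) = 134 := by
      rw [hX] at hf4 hfle
      unfold Nat.ModEq at hf19
      omega
    -- S1019
    have hS := Cfsg.Agent.S1019.result N z hzN
    have hidx : N.index = 210 := by rw [Subgroup.index_eq_card]; exact hX
    rw [hidx] at hS
    -- the set `A = z^G ∩ N`
    set A : Set G := {g : G | IsConj z g ∧ g ∈ N} with hA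
    have hAcard : Nat.card {g : G // IsConj z g ∧ g ∈ N} = Nat.card A := rfl
    have hxN : x ∈ N := hCN hxC
    have hAinv : ∀ g ∈ A, x * g * x⁻¹ ∈ A := by
      rintro g ⟨hg1, hg2⟩
      refine ⟨hg1.trans (isConj_iff.2 ⟨x, rfl⟩), ?_⟩
      exact N.mul_mem (N.mul_mem hxN hg2) (N.inv_mem hxN)
    have hAfin : Finite A := Set.toFinite A
    have hmod := card_modEq_card_conj_fixed 19 x hx19' A hAinv
    -- elements of `A` have order two
    have hAord : ∀ g ∈ A, orderOf g = 2 := by
      rintro g ⟨hg1, -⟩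
      obtain ⟨c, hc⟩ := isConj_iff.1 hg1
      rw [← hz2, ← hc]
      exact orderOf_injective (MulAut.conj c).toMonoidHom (MulAut.conj c).injective z
    -- the fixed elements: only `z`
    have hfixed : ∀ g : G, g ∈ A ∧ x * g * x⁻¹ = g → g = z := by
      rintro g ⟨hgA, hgx⟩
      have hgC : g ∈ C := by
        rw [hCdef]
        have hcx : g * x = x * g := by
          calc g * x = (x * g * x⁻¹) * x := by rw [hgx]
            _ = x * g := by group
        -- `g` commutes with the generator `x` of `P`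
        rw [Subgroup.mem_centralizer_iff]
        intro y hy
        have hy' : y ∈ Subgroup.zpowers x := by
          have hzp : Subgroup.zpowers x = (P : Subgroup G) := by
            apply Subgroup.eq_of_le_of_card_ge
            · rw [Subgroup.zpowers_le]; exact hxP
            · rw [Nat.card_zpowers, hx19, hP]
          rw [hzp]; exact hy
        obtain ⟨n, rfl⟩ := Subgroup.mem_zpowers_iff.1 hy'
        exact ((show Commute g x from hcx).zpow_right n).eq.symm
      exact eq_of_orderOf_two C 19 (by norm_num) (by norm_num) hC38 z x hz2 hx19 hzC hxC hcomm g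
        hgC (hAord g hgA)
    have hzA : z ∈ A := ⟨IsConj.refl z, hzN⟩
    have hfixcard : Nat.card {g : G // g ∈ A ∧ x * g * x⁻¹ = g} = 1 := by
      rw [Nat.card_eq_one_iff_unique]
      refine ⟨⟨fun a b => Subtype.ext ((hfixed a.1 a.2).trans (hfixed b.1 b.2).symm)⟩,
        ⟨⟨z, hzA, ?_⟩⟩⟩
      rw [← hcomm]; group
    rw [hfixcard] at hmod
    -- the bound `|A| ≤ 39`
    have hAle : Nat.card A ≤ 39 := by
      have hsub : A ⊆ {z} ∪ ((N : Set G) \ (C : Set G)) := by
        intro g hg
        by_cases hgC : g ∈ C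
        · left
          exact eq_of_orderOf_two C 19 (by norm_num) (by norm_num) hC38 z x hz2 hx19 hzC hxC hcomm
            g hgC (hAord g hg)
        · right
          exact ⟨hg.2, hgC⟩
      have h1 := Set.ncard_le_ncard hsub (Set.toFinite _)
      have h2 := Set.ncard_union_le ({z} : Set G) ((N : Set G) \ (C : Set G))
      have h3 : ((N : Set G) \ (C : Set G)).ncard = 76 - 38 := by
        rw [Set.ncard_sdiff (show (C : Set G) ⊆ (N : Set G) from hCN) (Set.toFinite _)]
        rw [← Nat.card_coe_set_eq, ← Nat.card_coe_set_eq]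
        change Nat.card N - Nat.card C = _
        rw [hN76, hC38]
      rw [Set.ncard_singleton, h3] at h2
      rw [Nat.card_coe_set_eq]
      omega
    rw [hAcard] at hS
    unfold Nat.ModEq at hmod
    generalize Nat.card A = a at hS hmod hAle
    generalize Nat.card {g : G // IsConj z g} = cl at hS
    rcases hf with hf | hf <;> rw [hf] at hS <;> omega

end Cfsg.Agent.Lib.Lead.O15960
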