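import Mathlib
import Cfsg.Agent.Lib.Helper7.O5940
import Cfsg.Agent.Lib.Helper5.Ord2.Kit

/-!
# No simple group of order `1980 = 2²·3²·5·11`   (lead, for S2490)

`n₁₁ ∈ {12, 45}`.  `12`: an element of order `3` of `C(P₁₁)` would fix `f ≡ 1 (11)`, `f ≡ 0 (3)`,
`f < 12` cosets.  `45`: `|N| = 44`, `|C| = 22` (Burnside), and the argument of helper7's `O5940`
applies verbatim: an involution `z ∈ C` fixes one coset of `N`, so `N` controls its fusion; a
Sylow `2`-subgroup `T ∋ z` lies in `N` and `z` is isolated in `T` (else `4 ∣ 22`), against `Z*`.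
-/

set_option autoImplicit false
set_option maxRecDepth 100000

namespace Cfsg.Agent.Lib.Lead.O1980

open MulAction Cfsg.Agent.Lib.Helper5.O5040 Cfsg.Agent.Lib.Helper4.Sylow
  Cfsg.Agent.Lib.Helper4.Simple Cfsg.Agent.Lib.Helper7.O5940

variable {G : Type*} [Group G] [Finite G] [IsSimpleGroup G]

theorem no_simple_1980 (hn : Nat.card G = 1980) : False := by
  classical
  have : Fact (Nat.Prime 11) := ⟨by norm_num⟩
  have : Fact (Nat.Prime 3) := ⟨by norm_num⟩
  have : Fact (Nat.Prime 2) := ⟨Nat.prime_two⟩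
  have hnp : ¬ (Nat.card G).Prime := by rw [hn]; norm_num
  obtain ⟨P⟩ : Nonempty (Sylow 11 G) := inferInstance
  have hP : Nat.card (P : Subgroup G) = 11 :=
    Cfsg.Agent.Lib.Helper5.OrdKit.card_sylow_prime 180 (by rw [hn]) (by norm_num) P
  obtain ⟨k, hk180, hk11, hk1, hkN, hkidx⟩ :=
    Cfsg.Agent.Lib.Helper5.OrdKit.sylow_count 180 (by rw [hn]) (by norm_num) (by norm_num) P
  obtain ⟨d, hd, hNC⟩ := Cfsg.Agent.Lib.Helper5.OrdKit.card_normalizer_eq_mul P hP
  have hlt : 11 < Nat.card G := by rw [hn]; norm_num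
  have hk : k = 12 ∨ k = 45 := by
    have hle : k ≤ 180 := Nat.le_of_dvd (by norm_num) hk180
    obtain ⟨j, rfl⟩ : ∃ j, k = 11 * j + 1 := ⟨k / 11, by omega⟩
    have hj : j ≤ 16 := by omega
    interval_cases j <;> omega
  have hd10 : d = 1 ∨ d = 2 ∨ d = 5 ∨ d = 10 := by
    have hd' : d ∣ 10 := by simpa using hd
    have hle : d ≤ 10 := Nat.le_of_dvd (by norm_num) hd'
    interval_cases d <;> omega
  rw [hn] at hkN
  rcases hk with rfl | rfl
  · -- `n₁₁ = 12`
    have hN165 : Nat.card (Subgroup.normalizer ((P : Subgroup G) : Set G)) = 165 := by omega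
    have h3C : 3 ∣ Nat.card (Subgroup.centralizer ((P : Subgroup G) : Set G)) := by
      rw [hN165] at hNC
      rcases hd10 with rfl | rfl | rfl | rfl <;> omega
    obtain ⟨f, hf1, hf2, hf3⟩ := Cfsg.Agent.Lib.Helper5.OrdKit.k3 P hP hlt 3 h3C
    rw [hkidx] at hf2 hf3
    omega
  · -- `n₁₁ = 45`
    set N := Subgroup.normalizer ((P : Subgroup G) : Set G) with hNdef
    set C := Subgroup.centralizer ((P : Subgroup G) : Set G) with hCdef
    have hN44 : Nat.card N = 44 := by omega
    have hCN : C ≤ N := Subgroup.centralizer_le_normalizer _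
    have hC22 : Nat.card C = 22 := by
      rw [hN44] at hNC
      rcases hd10 with rfl | rfl | rfl | rfl
      · exfalso
        exact Cfsg.Agent.Lib.Helper5.OrdKit.burnside P hP hlt (by rw [← hNdef, ← hCdef, hN44]; omega)
      · omega
      · omega
      · omega
    -- an involution `z` in `C`
    obtain ⟨z, hzC, hz2⟩ := exists_orderOf_of_dvd C 2 (by rw [hC22]; norm_num)
    have hzN : z ∈ N := hCN hzC
    have hzz : z * z = 1 := by rw [← pow_two, ← hz2]; exact pow_orderOf_eq_one z
    have hz1 : z ≠ 1 := by intro h; rw [h, orderOf_one] at hz2; norm_num at hz2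
    -- a generator `x` of `P`
    obtain ⟨x, hxP, hx11⟩ := exists_orderOf_of_dvd (P : Subgroup G) 11 (by rw [hP])
    have hx1 : x ≠ 1 := by intro h; rw [h, orderOf_one] at hx11; norm_num at hx11
    have hx11' : x ^ 11 = 1 := by rw [← hx11]; exact pow_orderOf_eq_one x
    have hfx : Nat.card (fixedBy (G ⧸ N) x) = 1 :=
      card_fixedBy_eq_one_of_le 11 P hP N le_rfl x hxP hx1
    have hcomm : z * x = x * z := by
      rw [Subgroup.mem_centralizer_iff] at hzC
      exact (hzC x hxP).symm
    have hf11 := card_fixedBy_modEq_one (X := G ⧸ N) 11 x z hx11' hcomm hfx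
    have hG2 : 2 < Nat.card G := by rw [hn]; norm_num
    have hf4 := card_mod_four_eq (X := G ⧸ N) hG2 z hzz
    have hX : Nat.card (G ⧸ N) = 45 := by
      have h3 := N.card_mul_index
      rw [hN44, hn, Subgroup.index_eq_card] at h3
      omega
    have hfle := card_fixedBy_le (X := G ⧸ N) z
    have hNtop : N ≠ ⊤ := by
      intro h
      rw [h, Subgroup.card_top, hn] at hN44
      norm_num at hN44
    have hf : Nat.card (fixedBy (G ⧸ N) z) = 1 := by
      rw [hX] at hf4 hfle
      unfold Nat.ModEq at hf11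
      have h3 : Nat.card (fixedBy (G ⧸ N) z) = 1 ∨ Nat.card (fixedBy (G ⧸ N) z) = 45 := by omega
      rcases h3 with h | h
      · exact h
      · exact absurd (eq_one_of_card_fixedBy_eq N hNtop z (by rw [h, hX])) hz1
    -- a Sylow `2`-subgroup containing `z`
    obtain ⟨T, hzT⟩ : ∃ T : Sylow 2 G, z ∈ (T : Subgroup G) := by
      have hPG2 : IsPGroup 2 (Subgroup.zpowers z) := by
        apply IsPGroup.of_card (n := 1)
        rw [Nat.card_zpowers, hz2]; norm_num
      obtain ⟨T, hT⟩ := hPG2.exists_le_sylow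
      exact ⟨T, hT (Subgroup.mem_zpowers z)⟩
    have hT4 : Nat.card (T : Subgroup G) = 4 := by
      have := card_sylow_of_card_eq (p := 2) (a := 2) (m := 495) (by rw [hn]; norm_num)
        (by norm_num) T
      simpa using this
    have hTc := IsPGroup.isMulCommutative_of_card_eq_prime_sq (p := 2) (G := (T : Subgroup G))
      (by rw [hT4]; norm_num)
    have hTN : (T : Subgroup G) ≤ N := by
      intro t ht
      apply mem_of_conj_mem_of_card_fixedBy_eq_one N z hzN hf t
      have h3 := hTc.is_comm.comm (⟨t, ht⟩ : (T : Subgroup G)) ⟨z, hzT⟩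
      have h4 : t * z = z * t := congrArg Subtype.val h3
      have h5 : t * z * t⁻¹ = z := by rw [h4]; group
      rw [h5]; exact hzN
    apply not_isolated' hnp (by rw [hn]; decide) T z hz2 hzT
    intro g hg
    have hgN : g ∈ N := mem_of_conj_mem_of_card_fixedBy_eq_one N z hzN hf g (hTN hg)
    have hz'C : g * z * g⁻¹ ∈ C := conj_mem_centralizer (P : Subgroup G) g z hgN hzC
    by_contra hne
    have hz'1 : g * z * g⁻¹ ≠ 1 := by
      intro h
      apply hz1
      have : z = g⁻¹ * (g * z * g⁻¹) * g := by group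
      rw [this, h]; group
    set D := (T : Subgroup G) ⊓ C with hD
    have hD3 : 3 ≤ Nat.card D := by
      have hsub : ({1, z, g * z * g⁻¹} : Set G) ⊆ (D : Set G) := by
        intro a ha
        simp only [Set.mem_insert_iff, Set.mem_singleton_iff] at ha
        rcases ha with rfl | rfl | rfl
        · exact D.one_mem
        · exact ⟨hzT, hzC⟩
        · exact ⟨hg, hz'C⟩
      have h3 : ({1, z, g * z * g⁻¹} : Set G).ncard = 3 :=
        Set.ncard_eq_three.2 ⟨1, z, g * z * g⁻¹, hz1.symm, hz'1.symm, fun h => hne h.symm, rfl⟩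
      have h4 := Set.ncard_le_ncard hsub (Set.toFinite _)
      rw [h3] at h4
      rwa [← Nat.card_coe_set_eq] at h4
    have hD4 : Nat.card D ∣ 4 := hT4 ▸ Subgroup.card_dvd_of_le (inf_le_left : D ≤ (T : Subgroup G))
    have hD22 : Nat.card D ∣ 22 := hC22 ▸ Subgroup.card_dvd_of_le (inf_le_right : D ≤ C)
    have hDle : Nat.card D ≤ 4 := Nat.le_of_dvd (by norm_num) hD4
    generalize Nat.card D = d' at hD3 hD4 hD22 hDle
    interval_cases d' <;> omega

end Cfsg.Agent.Lib.Lead.O1980
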