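import Mathlib
import Cfsg.Agent.Lib.Lead.O5040D

set_option autoImplicit false
set_option linter.unusedSectionVars false
set_option linter.unusedVariables false

namespace Cfsg.Agent.Lib.Lead.O5040

open MulAction Subgroup

variable {G : Type*} [Group G] [Finite G] [IsSimpleGroup G]

open Cfsg.Agent.Lib.Helper5.O5040

open Classical in
/-- the Sylow `7`-subgroups centralized by an involution `g` which centralizes at least one of
them: exactly eight -/
theorem card_cent_filter (hn : Nat.card G = 5040) [Fact (Nat.Prime 7)]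
    (h36 : Nat.card (Sylow 7 G) = 36) [Fintype (Sylow 7 G)]
    (g : G) (hg : g * g = 1) (hg1 : g ≠ 1) (Q0 : Sylow 7 G) (h0 : ∀ y ∈ Q0, g * y = y * g) :
    (Finset.univ.filter (fun Q : Sylow 7 G => ∀ y ∈ Q, g * y = y * g)).card = 8 := by
  have h8 := card_fix_eight hn h36 Q0 g hg hg1 h0
  have h8' := h8
  rw [card_fixedBy_eq_filter] at h8
  rw [← h8]
  congr 1
  ext Q
  simp only [Finset.mem_filter, Finset.mem_univ, true_and]
  constructor
  · intro h
    apply Sylow.smul_eq_iff_mem_normalizer.2
    apply Subgroup.centralizer_le_normalizer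
    rw [Subgroup.mem_centralizer_iff]
    intro y hy
    exact (h y hy).symm
  · intro hgQ
    by_contra hne
    push Not at hne
    obtain ⟨y0, hy0, hne0⟩ := hne
    have hQ := card_sylow7 hn Q
    have hinv := inverts Q hQ g hg hgQ y0 hy0 hne0
    have hle := card_fixedBy_le_of_inverts Q hQ (by norm_num) g hgQ hinv
    rw [h8', h36] at hle
    omega

/-- the centralizer of a Sylow `7`-subgroup has even order when `n₇ = 36` -/
theorem even_card_centralizer (hn : Nat.card G = 5040) [Fact (Nat.Prime 7)]
    (h36 : Nat.card (Sylow 7 G) = 36) (P : Sylow 7 G) :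
    Even (Nat.card (Subgroup.centralizer ((P : Subgroup G) : Set G))) := by
  obtain ⟨d, hd6, hNd⟩ := card_normalizer_eq hn P
  have hN := Cfsg.Agent.Lib.Helper4.Sylow.card_sylow_mul_card_normalizer P
  rw [h36, hn] at hN
  have hN' : Nat.card (Subgroup.normalizer ((P : Subgroup G) : Set G)) = 140 := by omega
  rw [hN'] at hNd
  have hd : d = 1 ∨ d = 2 ∨ d = 3 ∨ d = 6 := by
    have hle : d ≤ 6 := Nat.le_of_dvd (by norm_num) hd6
    interval_cases d <;> simp_all
  rw [Nat.even_iff]
  rcases hd with rfl | rfl | rfl | rfl <;> omega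

end Cfsg.Agent.Lib.Lead.O5040
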