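import Mathlib
import Cfsg.Agent.Lib.Lead.O5040E

set_option autoImplicit false
set_option linter.unusedSectionVars false
set_option linter.unusedVariables false

namespace Cfsg.Agent.Lib.Lead.O5040

open MulAction Subgroup

variable {G : Type*} [Group G] [Finite G] [IsSimpleGroup G]

open Cfsg.Agent.Lib.Helper5.O5040

/-- a simple group of order `5040` does not have `36` Sylow `7`-subgroups -/
theorem n7_ne_36 (hn : Nat.card G = 5040) : Nat.card (Sylow 7 G) ≠ 36 := by
  intro h36
  classical
  have h7 : Fact (Nat.Prime 7) := ⟨by norm_num⟩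
  have : Fintype G := Fintype.ofFinite G
  have : Fintype (Sylow 7 G) := Fintype.ofFinite _
  obtain ⟨P⟩ : Nonempty (Sylow 7 G) := inferInstance
  let T : Finset G := Finset.univ.filter (fun g => g * g = 1 ∧ g ≠ 1)
  let r : G → Sylow 7 G → Prop := fun g Q => ∀ y ∈ Q, g * y = y * g
  have hdc := Finset.sum_card_bipartiteAbove_eq_sum_card_bipartiteBelow (s := T)
    (t := (Finset.univ : Finset (Sylow 7 G))) r
  -- the left side is divisible by `8`
  have hL : 8 ∣ ∑ a ∈ T, ((Finset.univ : Finset (Sylow 7 G)).bipartiteAbove r a).card := by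
    apply Finset.dvd_sum
    intro g hgT
    simp only [T, Finset.mem_filter, Finset.mem_univ, true_and] at hgT
    by_cases hemp : ((Finset.univ : Finset (Sylow 7 G)).bipartiteAbove r g) = ∅
    · rw [hemp, Finset.card_empty]; exact dvd_zero 8
    · obtain ⟨Q0, hQ0⟩ := Finset.nonempty_iff_ne_empty.2 hemp
      rw [Finset.mem_bipartiteAbove] at hQ0
      have h8 : ((Finset.univ : Finset (Sylow 7 G)).bipartiteAbove r g).card = 8 := by
        have := card_cent_filter hn h36 g hgT.1 hgT.2 Q0 hQ0.2
        rw [← this]
        unfold Finset.bipartiteAbove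
        congr 1
        ext Q
        simp only [Finset.mem_filter, Finset.mem_univ, true_and, r]
      rw [h8]
  -- the right side is `36 * t` with `t` odd
  have hR : ∀ Q ∈ (Finset.univ : Finset (Sylow 7 G)), (T.bipartiteBelow r Q).card =
      (T.bipartiteBelow r P).card := by
    intro Q _
    obtain ⟨h, rfl⟩ := MulAction.exists_smul_eq G P Q
    have := card_invol_cent_smul P h
    unfold Finset.bipartiteBelow
    simp only [T, r, Finset.filter_filter]
    exact this
  rw [Finset.sum_congr rfl hR, Finset.sum_const, Finset.card_univ, ← Nat.card_eq_fintype_card,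
    h36, smul_eq_mul] at hdc
  have hodd : Odd (T.bipartiteBelow r P).card := by
    have := odd_card_invol (Subgroup.centralizer ((P : Subgroup G) : Set G))
      (even_card_centralizer hn h36 P)
    convert this using 2
    unfold Finset.bipartiteBelow
    simp only [T, r, Finset.filter_filter]
    ext g
    simp only [Finset.mem_filter, Finset.mem_univ, true_and, Subgroup.mem_centralizer_iff,
      SetLike.mem_coe]
    constructor
    · rintro ⟨⟨h1, h2⟩, h3⟩
      exact ⟨h1, h2, fun y hy => (h3 y hy).symm⟩
    · rintro ⟨h1, h2, h3⟩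
      exact ⟨⟨h1, h2⟩, fun y hy => (h3 y hy).symm⟩
  rw [hdc] at hL
  obtain ⟨m, hm⟩ := hodd
  rw [hm] at hL
  omega

end Cfsg.Agent.Lib.Lead.O5040
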