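import Mathlib
import Cfsg.Agent.Lib.Lead.O5040F
import Cfsg.Agent.Lib.Helper5.O5040G

/-!
# Order 5040: the full reduction to the Frobenius case `N(P₇) = 7:6`, `C(P₇) = P₇`

(author: lead)  Combines helper5's `reduction_of` with `n7_ne_36`.
-/

set_option autoImplicit false

namespace Cfsg.Agent.Lib.Lead.O5040

variable {G : Type*} [Group G] [Finite G] [IsSimpleGroup G]

/-- In a simple group of order `5040` every Sylow `7`-subgroup `P` has `|N(P)| = 42` and is
self-centralizing. -/
theorem reduction_all (hn : Nat.card G = 5040) [Fact (Nat.Prime 7)] (P : Sylow 7 G) :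
    Nat.card (Subgroup.normalizer ((P : Subgroup G) : Set G)) = 42 ∧
      ∀ x ∈ (P : Subgroup G), x ≠ 1 → ∀ g : G, g * x = x * g → g ∈ (P : Subgroup G) :=
  Cfsg.Agent.Lib.Helper5.O5040.reduction_of hn (n7_ne_36 hn) P

/-- existential form -/
theorem reduction (hn : Nat.card G = 5040) [Fact (Nat.Prime 7)] :
    ∃ P : Sylow 7 G, Nat.card (Subgroup.normalizer ((P : Subgroup G) : Set G)) = 42 ∧
      ∀ x ∈ (P : Subgroup G), x ≠ 1 → ∀ g : G, g * x = x * g → g ∈ (P : Subgroup G) := by
  obtain ⟨P⟩ : Nonempty (Sylow 7 G) := inferInstance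
  exact ⟨P, reduction_all hn P⟩

end Cfsg.Agent.Lib.Lead.O5040
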