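import Mathlib
import Cfsg.Agent.Lib.Lead.SylSq

/-!
# Counting the Sylow `p`-subgroups inside a subgroup; free actions

(author: lead)
-/

set_option autoImplicit false
set_option linter.unusedSectionVars false
set_option linter.unusedVariables false

namespace Cfsg.Agent.Lib.Lead.SylSq

open MulAction Subgroup

variable {G : Type*} [Group G] [Finite G] {p : ℕ} [hp : Fact p.Prime]

/-- orbit-stabilizer with `Nat.card` -/
theorem card_orbit_mul_card_stabilizer {A X : Type*} [Group A] [Finite A] [MulAction A X] (b : X) :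
    Nat.card (orbit A b) * Nat.card (stabilizer A b) = Nat.card A := by
  classical
  have : Fintype A := Fintype.ofFinite _
  have hfin : Finite (orbit A b) := by
    have : orbit A b = Set.range (fun g : A => g • b) := rfl
    rw [this]
    exact Set.finite_range _
  have : Fintype (orbit A b) := Fintype.ofFinite _
  have : Fintype (stabilizer A b) := Fintype.ofFinite _
  rw [Nat.card_eq_fintype_card, Nat.card_eq_fintype_card, Nat.card_eq_fintype_card]
  exact MulAction.card_orbit_mul_card_stabilizer_eq_card_group A b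

/-- the Sylow `p`-subgroups of `G` contained in `H ≥ P` form the `H`-orbit of `P` -/
theorem mem_orbit_iff_le (P : Sylow p G) (H : Subgroup G) (hPH : (P : Subgroup G) ≤ H)
    (Q : Sylow p G) : Q ∈ MulAction.orbit H P ↔ (Q : Subgroup G) ≤ H := by
  constructor
  · rintro ⟨h, rfl⟩
    intro z hz
    have hz' : z ∈ ((h : G) • P : Sylow p G) := hz
    rw [Cfsg.Agent.Lib.Helper4.SylowPrime.mem_smul_sylow_iff] at hz'
    have h1 := hPH hz'
    have : z = (h : G) * ((h : G)⁻¹ * z * (h : G)) * (h : G)⁻¹ := by group
    rw [this]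
    exact mul_mem (mul_mem h.2 h1) (inv_mem h.2)
  · intro hQH
    obtain ⟨h, hh⟩ := MulAction.exists_smul_eq H (P.subtype hPH) (Q.subtype hQH)
    rw [Sylow.smul_subtype] at hh
    have hh' : h • P = Q := Sylow.subtype_injective hh
    exact ⟨h, hh'⟩

/-- `#{Q ≤ H} · |H ∩ N(P)| = |H|` for `P ≤ H` -/
theorem card_le_mul_card_inf_normalizer (P : Sylow p G) (H : Subgroup G)
    (hPH : (P : Subgroup G) ≤ H) :
    Nat.card {Q : Sylow p G // (Q : Subgroup G) ≤ H} *
      Nat.card (H ⊓ Subgroup.normalizer ((P : Subgroup G) : Set G) : Subgroup G) = Nat.card H := by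
  have h1 := card_orbit_mul_card_stabilizer (A := H) P
  have h2 : Nat.card (MulAction.orbit H P) = Nat.card {Q : Sylow p G // (Q : Subgroup G) ≤ H} := by
    apply Nat.card_congr
    exact Equiv.subtypeEquivRight (fun Q => mem_orbit_iff_le P H hPH Q)
  have h3 : Nat.card (MulAction.stabilizer H P) =
      Nat.card (H ⊓ Subgroup.normalizer ((P : Subgroup G) : Set G) : Subgroup G) := by
    apply Nat.card_congr
    refine ⟨fun h => ⟨(h.1 : G), h.1.2, ?_⟩, fun g => ⟨⟨g.1, g.2.1⟩, ?_⟩, ?_, ?_⟩
    · have := h.2
      rw [MulAction.mem_stabilizer_iff] at this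
      have h4 : ((h.1 : G)) • P = P := this
      rw [Sylow.smul_eq_iff_mem_normalizer] at h4
      exact h4
    · rw [MulAction.mem_stabilizer_iff]
      show (g.1 : G) • P = P
      rw [Sylow.smul_eq_iff_mem_normalizer]
      exact g.2.2
    · intro h; rfl
    · intro g; rfl
  rw [← h2, ← h3]
  exact h1

/-- a free action of a finite group: the order of the group divides the number of points -/
theorem card_dvd_of_free {A X : Type*} [Group A] [Finite A] [MulAction A X] [Finite X]
    (h : ∀ (x : X) (g : A), g • x = x → g = 1) : Nat.card A ∣ Nat.card X := by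
  classical
  have : Fintype (orbitRel.Quotient A X) := Fintype.ofFinite _
  have e := selfEquivSigmaOrbits' A X
  rw [Nat.card_congr e, Nat.card_sigma]
  apply Finset.dvd_sum
  intro ω _
  have h1 := card_orbit_mul_card_stabilizer (A := A) ω.out
  have h2 : MulAction.stabilizer A ω.out = ⊥ := by
    rw [eq_bot_iff]
    intro g hg
    rw [Subgroup.mem_bot]
    exact h _ g (MulAction.mem_stabilizer_iff.1 hg)
  rw [h2, Subgroup.card_bot, mul_one] at h1
  have h3 : ω.orbit = MulAction.orbit A ω.out := by
    conv_lhs => rw [← ω.out_eq']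
    rfl
  rw [h3, h1]

end Cfsg.Agent.Lib.Lead.SylSq
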