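import Mathlib
import Cfsg.Agent.Lib.Lead.SylSq2
import Cfsg.Agent.Lib.Lead.O5040C
import Cfsg.Agent.Lib.Helper5.O5040D
import Cfsg.Agent.Lib.Helper4.Simple
import Cfsg.Agent.Lib.Helper4.Sylow

/-!
# No simple group of order `5400 = 2³·3³·5²`: basic facts

(author: lead)  `n₅ = 36`, `|N(P)| = 150`, proper subgroups have order at most `540`, and a
nontrivial element of a Sylow `5`-subgroup lies in `1` or `6` Sylow `5`-subgroups.
-/

set_option autoImplicit false
set_option linter.unusedSectionVars false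
set_option linter.unusedVariables false

namespace Cfsg.Agent.Lib.Lead.O5400

open MulAction Subgroup

variable {G : Type*} [Group G] [Finite G] [IsSimpleGroup G]

theorem card_sylow5 (hn : Nat.card G = 5400) [Fact (Nat.Prime 5)] (P : Sylow 5 G) :
    Nat.card (P : Subgroup G) = 25 := by
  have h : Nat.card G = 5 ^ 2 * 216 := by rw [hn]; norm_num
  simpa using Cfsg.Agent.Lib.Helper4.Sylow.card_sylow_of_card_eq h (by norm_num) P

theorem sylow5_arith (n : ℕ) (hdvd : n ∣ 216) (hmod : n % 5 = 1) :
    n = 1 ∨ n = 6 ∨ n = 36 ∨ n = 216 := by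
  have hle : n ≤ 216 := Nat.le_of_dvd (by norm_num) hdvd
  obtain ⟨j, rfl⟩ : ∃ j, n = 5 * j + 1 := ⟨n / 5, by omega⟩
  have hj : j ≤ 43 := by omega
  interval_cases j <;> omega

theorem comm_sylow5 (hn : Nat.card G = 5400) [Fact (Nat.Prime 5)] (P : Sylow 5 G) (x y : G)
    (hx : x ∈ P) (hy : y ∈ P) : x * y = y * x := by
  have hP := card_sylow5 hn P
  have hc := IsPGroup.isMulCommutative_of_card_eq_prime_sq (p := 5) (G := (P : Subgroup G))
    (by rw [hP]; norm_num)
  have h := hc.is_comm.comm (⟨x, hx⟩ : (P : Subgroup G)) ⟨y, hy⟩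
  exact congrArg Subtype.val h

/-- proper subgroups have index at least `10`, i.e. order at most `540` -/
theorem card_le_of_ne_top (hn : Nat.card G = 5400) (H : Subgroup G) (hH : H ≠ ⊤) :
    Nat.card H ≤ 540 := by
  have h1 := Cfsg.Agent.Lib.Helper4.Simple.two_mul_card_dvd_factorial_of_simple
    (by rw [hn]; norm_num) H hH
  rw [hn] at h1
  have h2 := H.card_mul_index
  rw [hn] at h2
  by_contra hcon
  push Not at hcon
  have h3 : H.index ≤ 9 := by
    by_contra h4
    push Not at h4
    nlinarith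
  have h0 : H.index ≠ 0 := Subgroup.index_ne_zero_of_finite
  revert h1
  generalize H.index = j at *
  interval_cases j <;> decide

theorem card_sylow_eq (hn : Nat.card G = 5400) [Fact (Nat.Prime 5)] :
    Nat.card (Sylow 5 G) = 36 := by
  obtain ⟨P⟩ : Nonempty (Sylow 5 G) := inferInstance
  have hP := card_sylow5 hn P
  have h3 := Cfsg.Agent.Lib.Helper4.Sylow.card_sylow_mul_card_normalizer P
  rw [hn] at h3
  have h4 : Nat.card (Sylow 5 G) ≡ 1 [MOD 5] := card_sylow_modEq_one 5 G
  unfold Nat.ModEq at h4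
  have hne1 : Nat.card (Sylow 5 G) ≠ 1 :=
    Cfsg.Agent.Lib.Helper4.Sylow.card_sylow_ne_one_of_simple P (by rw [hP]; norm_num)
      (by rw [hP, hn]; norm_num)
  have hG5 : Nat.card G = 5 ^ 2 * 216 := by rw [hn]; norm_num
  have hdvd : Nat.card (Sylow 5 G) ∣ 216 :=
    Cfsg.Agent.Lib.Helper4.Sylow.card_sylow_dvd_of_card_eq hG5 (by norm_num)
  have := sylow5_arith _ hdvd (by simpa using h4)
  rcases this with h | h | h | h
  · exact absurd h hne1
  · -- index 6
    exfalso
    rw [h] at h3
    have hN : Nat.card (Subgroup.normalizer ((P : Subgroup G) : Set G)) = 900 := by omega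
    have hne : Subgroup.normalizer ((P : Subgroup G) : Set G) ≠ ⊤ := by
      intro ht
      rw [ht, Subgroup.card_top, hn] at hN
      norm_num at hN
    have := card_le_of_ne_top hn _ hne
    omega
  · exact h
  · -- N(P) = P is abelian: Burnside
    exfalso
    rw [h] at h3
    have hN : Nat.card (Subgroup.normalizer ((P : Subgroup G) : Set G)) = 25 := by omega
    have hNP : Subgroup.normalizer ((P : Subgroup G) : Set G) = (P : Subgroup G) := by
      symm
      apply Subgroup.eq_of_le_of_card_ge Subgroup.le_normalizer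
      rw [hN, hP]
    apply Cfsg.Agent.Lib.Helper4.Simple.false_of_simple_of_normalizer_le_centralizer P
    · rw [hNP]
      intro x hx
      rw [Subgroup.mem_centralizer_iff]
      intro y hy
      exact comm_sylow5 hn P y x hy hx
    · rw [hP]; norm_num
    · rw [hP, hn]; norm_num

theorem card_normalizer (hn : Nat.card G = 5400) [Fact (Nat.Prime 5)] (P : Sylow 5 G) :
    Nat.card (Subgroup.normalizer ((P : Subgroup G) : Set G)) = 150 := by
  have h3 := Cfsg.Agent.Lib.Helper4.Sylow.card_sylow_mul_card_normalizer P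
  rw [hn, card_sylow_eq hn] at h3
  omega

/-- a Sylow `5`-subgroup containing `c` lies in the centralizer of `c`, and conversely -/
theorem fixedBy_iff_le_centralizer (hn : Nat.card G = 5400) [Fact (Nat.Prime 5)] (P : Sylow 5 G)
    (c : G) (hcP : c ∈ P) (Q : Sylow 5 G) :
    Q ∈ fixedBy (Sylow 5 G) c ↔ (Q : Subgroup G) ≤ Subgroup.centralizer ({c} : Set G) := by
  rw [mem_fixedBy]
  constructor
  · intro h
    have hcQ := (Cfsg.Agent.Lib.Lead.SylSq.smul_eq_iff_mem P Q c hcP).1 h
    intro y hy
    rw [Subgroup.mem_centralizer_iff]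
    intro z hz
    rw [Set.mem_singleton_iff] at hz
    rw [hz]
    exact comm_sylow5 hn Q c y hcQ hy
  · intro h
    rw [Sylow.smul_eq_iff_mem_normalizer]
    apply Subgroup.centralizer_le_normalizer
    rw [Subgroup.mem_centralizer_iff]
    intro y hy
    have := h hy
    rw [Subgroup.mem_centralizer_iff] at this
    exact (this c rfl).symm

/-- a nontrivial element of `P` lies in `1` or `6` Sylow `5`-subgroups -/
theorem card_fix_mem (hn : Nat.card G = 5400) [Fact (Nat.Prime 5)] (P : Sylow 5 G)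
    (c : G) (hcP : c ∈ P) (hc1 : c ≠ 1) :
    Nat.card (fixedBy (Sylow 5 G) c) = 1 ∨ Nat.card (fixedBy (Sylow 5 G) c) = 6 := by
  have h36 := card_sylow_eq (G := G) hn
  have hP := card_sylow5 hn P
  have h1 := Cfsg.Agent.Lib.Lead.SylSq.card_fixedBy_modEq_one P c
    (fun x hx => comm_sylow5 hn P c x hcP hx)
  have h2 := Cfsg.Agent.Lib.Helper5.O5040.card_fixedBy_le (X := Sylow 5 G) c
  rw [h36] at h2
  have h3 : Nat.card (fixedBy (Sylow 5 G) c) ≠ 36 := by
    intro h
    apply hc1
    apply Cfsg.Agent.Lib.Lead.O5040.eq_one_of_forall_smul_sylow (p := 5) (by rw [h36]; norm_num) c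
    intro R
    have huniv : fixedBy (Sylow 5 G) c = Set.univ := by
      apply Set.eq_of_subset_of_ncard_le (Set.subset_univ _)
      rw [Set.ncard_univ, h36, ← h, Nat.card_coe_set_eq]
    have : R ∈ fixedBy (Sylow 5 G) c := by rw [huniv]; trivial
    exact this
  -- the count divides 216
  have hPC : (P : Subgroup G) ≤ Subgroup.centralizer ({c} : Set G) :=
    (fixedBy_iff_le_centralizer hn P c hcP P).1
      (by rw [mem_fixedBy]; exact (Cfsg.Agent.Lib.Lead.SylSq.smul_eq_iff_mem P P c hcP).2 hcP)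
  have h4 := Cfsg.Agent.Lib.Lead.SylSq.card_le_mul_card_inf_normalizer P _ hPC
  have h5 : Nat.card {Q : Sylow 5 G // (Q : Subgroup G) ≤ Subgroup.centralizer ({c} : Set G)} =
      Nat.card (fixedBy (Sylow 5 G) c) := by
    apply Nat.card_congr
    exact Equiv.subtypeEquivRight (fun Q => (fixedBy_iff_le_centralizer hn P c hcP Q).symm)
  rw [h5] at h4
  have h6 : 25 ∣ Nat.card (Subgroup.centralizer ({c} : Set G) ⊓
      Subgroup.normalizer ((P : Subgroup G) : Set G) : Subgroup G) := by
    rw [← hP]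
    exact Subgroup.card_dvd_of_le (le_inf hPC Subgroup.le_normalizer)
  have h7 : Nat.card (Subgroup.centralizer ({c} : Set G)) ∣ 5400 := by
    rw [← hn]; exact Subgroup.card_subgroup_dvd_card _
  obtain ⟨k, hk⟩ := h6
  rw [hk] at h4
  have h8 : Nat.card (fixedBy (Sylow 5 G) c) ∣ 216 := by
    rw [← h4] at h7
    have : Nat.card (fixedBy (Sylow 5 G) c) * 25 ∣ 216 * 25 := by
      refine Dvd.dvd.trans ?_ h7
      exact ⟨k, by ring⟩
    exact Nat.dvd_of_mul_dvd_mul_right (by norm_num) this
  have := sylow5_arith _ h8 (by unfold Nat.ModEq at h1; simpa using h1)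
  omega

end Cfsg.Agent.Lib.Lead.O5400
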