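import Mathlib
import Cfsg.Agent.Lib.Lead.SylSq2

/-!
# Sylow `p`-subgroups of order `p²`: the Sylow subgroups meeting `P` trivially

(author: lead)
-/

set_option autoImplicit false
set_option linter.unusedSectionVars false
set_option linter.unusedVariables false

namespace Cfsg.Agent.Lib.Lead.SylSq

open MulAction Subgroup

variable {G : Type*} [Group G] [Finite G] {p : ℕ} [hp : Fact p.Prime]

/-- two distinct Sylow `p`-subgroups of order `p²` with a common nontrivial element meet in a
subgroup of order `p` -/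
theorem card_inf_eq_of_mem (P Q : Sylow p G) (hP : Nat.card (P : Subgroup G) = p ^ 2) (hne : P ≠ Q)
    (x : G) (hxP : x ∈ P) (hxQ : x ∈ Q) (hx1 : x ≠ 1) :
    Nat.card ((P : Subgroup G) ⊓ (Q : Subgroup G) : Subgroup G) = p := by
  have hdvd : Nat.card ((P : Subgroup G) ⊓ (Q : Subgroup G) : Subgroup G) ∣ p ^ 2 := by
    rw [← hP]
    exact Subgroup.card_dvd_of_le inf_le_left
  obtain ⟨k, hk, hk2⟩ := (Nat.dvd_prime_pow hp.out).1 hdvd
  have hk3 : k = 0 ∨ k = 1 ∨ k = 2 := by omega
  rcases hk3 with rfl | rfl | rfl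
  · exfalso
    rw [pow_zero, Subgroup.card_eq_one] at hk2
    have : x ∈ ((P : Subgroup G) ⊓ (Q : Subgroup G) : Subgroup G) := ⟨hxP, hxQ⟩
    rw [hk2, Subgroup.mem_bot] at this
    exact hx1 this
  · rw [hk2, pow_one]
  · exfalso
    apply hne
    have h1 : ((P : Subgroup G) ⊓ (Q : Subgroup G) : Subgroup G) = P := by
      apply Subgroup.eq_of_le_of_card_ge inf_le_left
      rw [hk2, hP]
    have h2 : (P : Subgroup G) ≤ Q := by
      rw [← h1]; exact inf_le_right
    exact Sylow.ext (P.3 Q.2 h2).symm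

/-- the Sylow `p`-subgroups meeting `P` trivially, as a `P`-set -/
def trivSub (P : Sylow p G) : SubMulAction (P : Subgroup G) (Sylow p G) where
  carrier := {Q | ∀ x : G, x ∈ P → x ∈ Q → x = 1}
  smul_mem' := by
    intro y Q hQ x hxP hxQ
    have hxQ' : x ∈ ((y : G) • Q : Sylow p G) := hxQ
    rw [Cfsg.Agent.Lib.Helper4.SylowPrime.mem_smul_sylow_iff] at hxQ'
    have h1 : (y : G)⁻¹ * x * (y : G) ∈ (P : Subgroup G) :=
      mul_mem (mul_mem (inv_mem y.2) hxP) y.2
    have h2 := hQ _ h1 hxQ'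
    have : x = (y : G) * ((y : G)⁻¹ * x * (y : G)) * (y : G)⁻¹ := by group
    rw [this, h2]; group

/-- the number of Sylow `p`-subgroups meeting `P` trivially is a multiple of `|P|` -/
theorem card_dvd_card_triv (P : Sylow p G) :
    Nat.card (P : Subgroup G) ∣
      Nat.card {Q : Sylow p G // ∀ x : G, x ∈ P → x ∈ Q → x = 1} := by
  have h1 : Nat.card (P : Subgroup G) ∣ Nat.card (trivSub P) := by
    have hfin : Finite (trivSub P) :=
      Finite.of_injective (fun s : trivSub P => (s : Sylow p G)) Subtype.val_injective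
    apply card_dvd_of_free
    rintro ⟨Q, hQ⟩ y hy
    have h2 : (y : G) • Q = Q := congrArg Subtype.val hy
    have h3 := (smul_eq_iff_mem P Q (y : G) y.2).1 h2
    exact Subtype.ext (hQ _ y.2 h3)
  exact h1

end Cfsg.Agent.Lib.Lead.SylSq
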