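import Mathlib
import Cfsg.Agent.Lib.Lead.SylSq3
import Cfsg.Agent.Lib.Lead.O5400A

/-!
# No simple group of order `5400`: exactly ten Sylow `5`-subgroups meet `P` nontrivially

(author: lead)
-/

set_option autoImplicit false
set_option linter.unusedSectionVars false
set_option linter.unusedVariables false

namespace Cfsg.Agent.Lib.Lead.O5400

open MulAction Subgroup

theorem card_filter_mem_ne_one {G : Type*} [Group G] [Fintype G] [DecidableEq G] (K : Subgroup G)
    [DecidablePred (· ∈ K)] :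
    (Finset.univ.filter (fun x : G => x ∈ K ∧ x ≠ 1)).card = Nat.card K - 1 := by
  have h1 : Finset.univ.filter (fun x : G => x ∈ K ∧ x ≠ 1) =
      (Finset.univ.filter (fun x : G => x ∈ K)).erase 1 := by
    ext x
    simp only [Finset.mem_filter, Finset.mem_univ, true_and, Finset.mem_erase]
    tauto
  rw [h1, Finset.card_erase_of_mem (by simp [K.one_mem])]
  congr 1
  rw [Nat.card_eq_fintype_card, Fintype.card_subtype]

variable {G : Type*} [Group G] [Finite G] [IsSimpleGroup G]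

open Classical in
/-- at most thirty Sylow `5`-subgroups other than `P` meet `P` nontrivially -/
theorem card_S_le (hn : Nat.card G = 5400) [Fact (Nat.Prime 5)] (P : Sylow 5 G)
    [Fintype (Sylow 5 G)] :
    (Finset.univ.filter (fun Q : Sylow 5 G => Q ≠ P ∧ ∃ x : G, x ∈ P ∧ x ∈ Q ∧ x ≠ 1)).card
      ≤ 30 := by
  set t : Finset (Sylow 5 G) :=
    Finset.univ.filter (fun Q : Sylow 5 G => Q ≠ P ∧ ∃ x : G, x ∈ P ∧ x ∈ Q ∧ x ≠ 1) with ht
  have hmem : ∀ Q : Sylow 5 G, Q ∈ t ↔ (Q ≠ P ∧ ∃ x : G, x ∈ P ∧ x ∈ Q ∧ x ≠ 1) := by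
    intro Q
    rw [ht, Finset.mem_filter]
    simp only [Finset.mem_univ, true_and]
  have : Fintype G := Fintype.ofFinite _
  have hP := card_sylow5 hn P
  set s : Finset G := Finset.univ.filter (fun x : G => x ∈ (P : Subgroup G) ∧ x ≠ 1) with hs
  have hsc : s.card = 24 := by
    rw [hs, card_filter_mem_ne_one, hP]
  have hn' : ∀ Q ∈ t, 4 ≤ (s.bipartiteBelow (fun (x : G) (Q : Sylow 5 G) => x ∈ Q) Q).card := by
    intro Q hQ
    obtain ⟨hQP, x, hxP, hxQ, hx1⟩ := (hmem Q).1 hQ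
    have hK := Cfsg.Agent.Lib.Lead.SylSq.card_inf_eq_of_mem P Q (by rw [hP]; norm_num)
      (fun h => hQP h.symm) x hxP hxQ hx1
    have h1 : s.bipartiteBelow (fun (x : G) (Q : Sylow 5 G) => x ∈ Q) Q =
        Finset.univ.filter (fun x : G => x ∈ ((P : Subgroup G) ⊓ (Q : Subgroup G) : Subgroup G)
          ∧ x ≠ 1) := by
      ext y
      simp only [Finset.bipartiteBelow, hs, Finset.mem_filter, Finset.mem_univ, true_and,
        Subgroup.mem_inf]
      constructor
      · rintro ⟨⟨h1, h2⟩, h3⟩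
        exact ⟨⟨h1, h3⟩, h2⟩
      · rintro ⟨⟨h1, h3⟩, h2⟩
        exact ⟨⟨h1, h2⟩, h3⟩
    rw [h1, card_filter_mem_ne_one, hK]
  have hm' : ∀ x ∈ s, (t.bipartiteAbove (fun (x : G) (Q : Sylow 5 G) => x ∈ Q) x).card ≤ 5 := by
    intro x hx
    rw [hs, Finset.mem_filter] at hx
    obtain ⟨-, hxP, hx1⟩ := hx
    have h1 : t.bipartiteAbove (fun (x : G) (Q : Sylow 5 G) => x ∈ Q) x ⊆
        (Finset.univ.filter (fun ω : Sylow 5 G => x • ω = ω)).erase P := by
      intro Q hQ
      obtain ⟨hQt, hxQ⟩ := Finset.mem_filter.1 hQ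
      obtain ⟨hQP, -⟩ := (hmem Q).1 hQt
      rw [Finset.mem_erase, Finset.mem_filter]
      exact ⟨hQP, Finset.mem_univ _,
        (Cfsg.Agent.Lib.Lead.SylSq.smul_eq_iff_mem P Q x hxP).2 hxQ⟩
    have h2 := Finset.card_le_card h1
    have hPmem : P ∈ Finset.univ.filter (fun ω : Sylow 5 G => x • ω = ω) := by
      rw [Finset.mem_filter]
      exact ⟨Finset.mem_univ _, (Cfsg.Agent.Lib.Lead.SylSq.smul_eq_iff_mem P P x hxP).2 hxP⟩
    rw [Finset.card_erase_of_mem hPmem] at h2
    have h3 := Cfsg.Agent.Lib.Lead.O5040.card_fixedBy_eq_filter (G := G) (p := 5) x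
    have h4 := card_fix_mem hn P x hxP hx1
    have h5 : (Finset.univ.filter (fun ω : Sylow 5 G => x • ω = ω)).card ≤ 6 := by
      have : (Finset.univ.filter (fun ω : Sylow 5 G => x • ω = ω)).card =
          Nat.card (fixedBy (Sylow 5 G) x) := by
        rw [h3]
      omega
    omega
  have key := Finset.card_nsmul_le_card_nsmul' (r := fun (x : G) (Q : Sylow 5 G) => x ∈ Q)
    (s := s) (t := t) (n := 4) (m := 5) hn' hm'
  rw [hsc] at key
  simp only [smul_eq_mul] at key
  omega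

open Classical in
/-- exactly ten Sylow `5`-subgroups other than `P` meet `P` nontrivially -/
theorem card_S_eq (hn : Nat.card G = 5400) [Fact (Nat.Prime 5)] (P : Sylow 5 G)
    [Fintype (Sylow 5 G)] :
    (Finset.univ.filter (fun Q : Sylow 5 G => Q ≠ P ∧ ∃ x : G, x ∈ P ∧ x ∈ Q ∧ x ≠ 1)).card
      = 10 := by
  have hle := card_S_le hn P
  have hP := card_sylow5 hn P
  have h36 : Fintype.card (Sylow 5 G) = 36 := by
    rw [← Nat.card_eq_fintype_card]; exact card_sylow_eq hn
  have hT := Cfsg.Agent.Lib.Lead.SylSq.card_dvd_card_triv P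
  rw [hP, Nat.card_eq_fintype_card, Fintype.card_subtype] at hT
  -- `P` has a nontrivial element
  obtain ⟨x0, hx0P, hx01⟩ : ∃ x : G, x ∈ P ∧ x ≠ 1 := by
    by_contra hcon
    push Not at hcon
    have : Nat.card (P : Subgroup G) = 1 := by
      rw [Subgroup.card_eq_one]
      ext y
      constructor
      · intro hy; rw [Subgroup.mem_bot]; exact hcon y hy
      · intro hy; rw [Subgroup.mem_bot] at hy; rw [hy]; exact Subgroup.one_mem _
    rw [hP] at this
    norm_num at this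
  have hpart := Finset.card_filter_add_card_filter_not
    (s := (Finset.univ.erase P : Finset (Sylow 5 G)))
    (fun Q : Sylow 5 G => ∃ x : G, x ∈ P ∧ x ∈ Q ∧ x ≠ 1)
  rw [Finset.card_erase_of_mem (Finset.mem_univ _), Finset.card_univ, h36] at hpart
  have h1 : (Finset.univ.erase P : Finset (Sylow 5 G)).filter
      (fun Q : Sylow 5 G => ∃ x : G, x ∈ P ∧ x ∈ Q ∧ x ≠ 1) =
      Finset.univ.filter (fun Q : Sylow 5 G => Q ≠ P ∧ ∃ x : G, x ∈ P ∧ x ∈ Q ∧ x ≠ 1) := by
    ext Q
    simp only [Finset.mem_filter, Finset.mem_erase, Finset.mem_univ, true_and, and_true]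
  have h2 : (Finset.univ.erase P : Finset (Sylow 5 G)).filter
      (fun Q : Sylow 5 G => ¬ ∃ x : G, x ∈ P ∧ x ∈ Q ∧ x ≠ 1) =
      Finset.univ.filter (fun Q : Sylow 5 G => ∀ x : G, x ∈ P → x ∈ Q → x = 1) := by
    ext Q
    simp only [Finset.mem_filter, Finset.mem_erase, Finset.mem_univ, true_and, and_true]
    constructor
    · rintro ⟨-, h⟩ x hxP hxQ
      by_contra hx1
      exact h ⟨x, hxP, hxQ, hx1⟩
    · intro h
      refine ⟨?_, ?_⟩
      · rintro rfl
        exact hx01 (h x0 hx0P hx0P)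
      · rintro ⟨x, hxP, hxQ, hx1⟩
        exact hx1 (h x hxP hxQ)
  rw [h1, h2] at hpart
  obtain ⟨k, hk⟩ := hT
  omega

end Cfsg.Agent.Lib.Lead.O5400
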