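import Mathlib
import Cfsg.Agent.Lib.Lead.O5400B

/-!
# No simple group of order `5400`: the two special lines of `P`

(author: lead)
-/

set_option autoImplicit false
set_option linter.unusedSectionVars false
set_option linter.unusedVariables false

namespace Cfsg.Agent.Lib.Lead.O5400

open MulAction Subgroup

variable {G : Type*} [Group G] [Finite G] [IsSimpleGroup G]

/-- an element in two distinct Sylow `5`-subgroups lies in exactly six of them -/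
theorem card_fix_six (hn : Nat.card G = 5400) [Fact (Nat.Prime 5)] (P Q : Sylow 5 G) (hne : Q ≠ P)
    (c : G) (hcP : c ∈ P) (hcQ : c ∈ Q) (hc1 : c ≠ 1) :
    Nat.card (fixedBy (Sylow 5 G) c) = 6 := by
  rcases card_fix_mem hn P c hcP hc1 with h | h
  · exfalso
    rw [Nat.card_eq_one_iff_unique] at h
    have hPf : P ∈ fixedBy (Sylow 5 G) c := by
      rw [mem_fixedBy]; exact (Cfsg.Agent.Lib.Lead.SylSq.smul_eq_iff_mem P P c hcP).2 hcP
    have hQf : Q ∈ fixedBy (Sylow 5 G) c := by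
      rw [mem_fixedBy]; exact (Cfsg.Agent.Lib.Lead.SylSq.smul_eq_iff_mem P Q c hcP).2 hcQ
    have := h.1.elim ⟨P, hPf⟩ ⟨Q, hQf⟩
    exact hne (congrArg Subtype.val this).symm
  · exact h

/-- two nontrivial elements of `P ⊓ Q` (for `Q ≠ P`) lie in the same subgroups -/
theorem mem_of_mem (hn : Nat.card G = 5400) [Fact (Nat.Prime 5)] (P Q : Sylow 5 G) (hne : Q ≠ P)
    (c d : G) (hcP : c ∈ P) (hcQ : c ∈ Q) (hc1 : c ≠ 1) (hdP : d ∈ P) (hdQ : d ∈ Q)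
    (H : Subgroup G) (hcH : c ∈ H) : d ∈ H := by
  have hK := Cfsg.Agent.Lib.Lead.SylSq.card_inf_eq_of_mem P Q (by rw [card_sylow5 hn P]; norm_num)
    (fun h => hne h.symm) c hcP hcQ hc1
  have hle := Cfsg.Agent.Lib.Lead.SylSq.le_of_mem_of_card_prime
    ((P : Subgroup G) ⊓ (Q : Subgroup G)) H hK c ⟨hcP, hcQ⟩ hc1 hcH
  exact hle ⟨hdP, hdQ⟩

/-- the two special lines: there are `Q₁ ≠ P`, `c₁ ∈ P ⊓ Q₁`, `c₂ ∈ P` such that every Sylow
`5`-subgroup other than `P` meeting `P` nontrivially contains `c₁` or `c₂` -/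
theorem two_lines (hn : Nat.card G = 5400) [Fact (Nat.Prime 5)] (P : Sylow 5 G) :
    ∃ (Q1 Q2 : Sylow 5 G) (c1 c2 : G), Q1 ≠ P ∧ c1 ∈ P ∧ c1 ∈ Q1 ∧ c1 ≠ 1 ∧
      Q2 ≠ P ∧ c2 ∈ P ∧ c2 ∈ Q2 ∧ c2 ≠ 1 ∧
      ∀ Q : Sylow 5 G, Q ≠ P → (∃ x : G, x ∈ P ∧ x ∈ Q ∧ x ≠ 1) → c1 ∈ Q ∨ c2 ∈ Q := by
  classical
  have : Fintype (Sylow 5 G) := Fintype.ofFinite _
  have hS := card_S_eq hn P
  set S := Finset.univ.filter
    (fun Q : Sylow 5 G => Q ≠ P ∧ ∃ x : G, x ∈ P ∧ x ∈ Q ∧ x ≠ 1) with hSdef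
  have hmemS : ∀ Q : Sylow 5 G, Q ∈ S ↔ (Q ≠ P ∧ ∃ x : G, x ∈ P ∧ x ∈ Q ∧ x ≠ 1) := by
    intro Q
    rw [hSdef, Finset.mem_filter]
    simp only [Finset.mem_univ, true_and]
  have hSne : S.Nonempty := by
    rw [← Finset.card_pos, hS]; norm_num
  obtain ⟨Q1, hQ1S⟩ := hSne
  obtain ⟨hQ1P, c1, hc1P, hc1Q1, hc1⟩ := (hmemS Q1).1 hQ1S
  -- the filter form of fixed point sets
  have hF : ∀ (B : Sylow 5 G) (hB : B ≠ P) (c : G), c ∈ P → c ∈ B → c ≠ 1 →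
      (Finset.univ.filter (fun ω : Sylow 5 G => c • ω = ω)).card = 6 := by
    intro B hB c hcP hcB hc1
    have h0 := Cfsg.Agent.Lib.Lead.O5040.card_fixedBy_eq_filter (G := G) (p := 5) c
    rw [card_fix_six hn P B hB c hcP hcB hc1] at h0
    convert h0.symm
  set F1 := Finset.univ.filter (fun ω : Sylow 5 G => c1 • ω = ω) with hF1
  have hF1c : F1.card = 6 := hF Q1 hQ1P c1 hc1P hc1Q1 hc1
  have hm1 : ∀ Q : Sylow 5 G, Q ∈ F1 ↔ c1 ∈ Q := by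
    intro Q
    rw [hF1, Finset.mem_filter]
    simp only [Finset.mem_univ, true_and]
    exact Cfsg.Agent.Lib.Lead.SylSq.smul_eq_iff_mem P Q c1 hc1P
  have hPF1 : P ∈ F1 := (hm1 P).2 hc1P
  have hF1S : F1.erase P ⊆ S := by
    intro Q hQ
    rw [Finset.mem_erase, hm1] at hQ
    exact (hmemS Q).2 ⟨hQ.1, c1, hc1P, hQ.2, hc1⟩
  -- a second line
  obtain ⟨Q2, hQ2S, hQ2F⟩ : ∃ Q2 ∈ S, Q2 ∉ F1.erase P := by
    by_contra hcon
    push Not at hcon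
    have h1 : S ⊆ F1.erase P := fun Q hQ => hcon Q hQ
    have h2 := Finset.card_le_card h1
    rw [Finset.card_erase_of_mem hPF1, hS, hF1c] at h2
    norm_num at h2
  obtain ⟨hQ2P, c2, hc2P, hc2Q2, hc2⟩ := (hmemS Q2).1 hQ2S
  have hc1Q2 : c1 ∉ Q2 := by
    intro h
    apply hQ2F
    rw [Finset.mem_erase, hm1]
    exact ⟨hQ2P, h⟩
  set F2 := Finset.univ.filter (fun ω : Sylow 5 G => c2 • ω = ω) with hF2
  have hF2c : F2.card = 6 := hF Q2 hQ2P c2 hc2P hc2Q2 hc2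
  have hm2 : ∀ Q : Sylow 5 G, Q ∈ F2 ↔ c2 ∈ Q := by
    intro Q
    rw [hF2, Finset.mem_filter]
    simp only [Finset.mem_univ, true_and]
    exact Cfsg.Agent.Lib.Lead.SylSq.smul_eq_iff_mem P Q c2 hc2P
  have hPF2 : P ∈ F2 := (hm2 P).2 hc2P
  have hA : F1 ∩ F2 ⊆ {P} := by
    intro Q hQ
    rw [Finset.mem_inter, hm1, hm2] at hQ
    rw [Finset.mem_singleton]
    by_contra hne
    exact hc1Q2 (mem_of_mem hn P Q hne c2 c1 hc2P hQ.2 hc2 hc1P hQ.1 Q2 hc2Q2)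
  have hsub : (F1 ∪ F2).erase P ⊆ S := by
    intro Q hQ
    rw [Finset.mem_erase, Finset.mem_union, hm1, hm2] at hQ
    rcases hQ.2 with h | h
    · exact (hmemS Q).2 ⟨hQ.1, c1, hc1P, h, hc1⟩
    · exact (hmemS Q).2 ⟨hQ.1, c2, hc2P, h, hc2⟩
  have hcard : S.card ≤ ((F1 ∪ F2).erase P).card := by
    rw [Finset.card_erase_of_mem (Finset.mem_union_left _ hPF1), hS]
    have h1 := Finset.card_union_add_card_inter F1 F2
    have h2 : (F1 ∩ F2).card ≤ 1 := by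
      have := Finset.card_le_card hA
      simpa using this
    omega
  have heq := Finset.eq_of_subset_of_card_le hsub hcard
  refine ⟨Q1, Q2, c1, c2, hQ1P, hc1P, hc1Q1, hc1, hQ2P, hc2P, hc2Q2, hc2, ?_⟩
  intro Q hQP hx
  have hQS : Q ∈ S := (hmemS Q).2 ⟨hQP, hx⟩
  rw [← heq, Finset.mem_erase, Finset.mem_union, hm1, hm2] at hQS
  exact hQS.2

end Cfsg.Agent.Lib.Lead.O5400
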