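import Mathlib
import Cfsg.Agent.Lib.Lead.O5400C
import Cfsg.Agent.Lib.Helper4.DegSeven

/-!
# No simple group of order `5400`: auxiliary group theory

(author: lead)  Index-two coverings, normalizers of subgroups of prime order, and groups of order
`450` (which have a unique subgroup of order `25`).
-/

set_option autoImplicit false
set_option linter.unusedSectionVars false
set_option linter.unusedVariables false

namespace Cfsg.Agent.Lib.Lead.O5400

open MulAction Subgroup

section general

variable {G : Type*} [Group G] [Finite G]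

/-- if any two elements of `A` outside `B` differ by an element of `B`, then `A ⊓ B` has index at
most two in `A` -/
theorem card_le_two_mul (A B : Subgroup G)
    (h : ∀ n ∈ A, ∀ m ∈ A, n ∉ B → m ∉ B → m⁻¹ * n ∈ B) :
    Nat.card A ≤ 2 * Nat.card (A ⊓ B : Subgroup G) := by
  classical
  by_cases hAB : A ≤ B
  · have : A ⊓ B = A := inf_eq_left.2 hAB
    rw [this]; omega
  · obtain ⟨m, hmA, hmB⟩ := SetLike.not_le_iff_exists.1 hAB
    let φ : A → (A ⊓ B : Subgroup G) × Bool := fun n =>
      if hn : (n : G) ∈ B then (⟨n, Subgroup.mem_inf.2 ⟨n.2, hn⟩⟩, true)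
      else (⟨m⁻¹ * n, Subgroup.mem_inf.2 ⟨A.mul_mem (A.inv_mem hmA) n.2,
        h n n.2 m hmA hn hmB⟩⟩, false)
    have hinj : Function.Injective φ := by
      intro x y hxy
      by_cases hx : (x : G) ∈ B <;> by_cases hy : (y : G) ∈ B
      · simp only [φ, hx, hy, dite_true] at hxy
        have := congrArg (fun z => (z.1 : G)) hxy
        exact Subtype.ext this
      · simp only [φ, hx, hy, dite_true, dite_false] at hxy
        have := congrArg Prod.snd hxy
        simp at this
      · simp only [φ, hx, hy, dite_true, dite_false] at hxy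
        have := congrArg Prod.snd hxy
        simp at this
      · simp only [φ, hx, hy, dite_false] at hxy
        have := congrArg (fun z => (z.1 : G)) hxy
        simp only at this
        exact Subtype.ext (mul_left_cancel this)
    have := Nat.card_le_card_of_injective φ hinj
    rw [Nat.card_prod, Nat.card_eq_fintype_card (α := Bool), Fintype.card_bool] at this
    omega

variable {p : ℕ} [hp : Fact p.Prime]

/-- an element conjugating a generator of a subgroup `D` of prime order into `D` normalizes `D` -/
theorem mem_normalizer_of_conj_mem (D : Subgroup G) (hD : Nat.card D = p) (c : G) (hc : c ∈ D)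
    (hc1 : c ≠ 1) (n : G) (h : n * c * n⁻¹ ∈ D) : n ∈ Subgroup.normalizer (D : Set G) := by
  have hle := Cfsg.Agent.Lib.Lead.SylSq.le_of_mem_of_card_prime D (Subgroup.zpowers c) hD c hc hc1
    (Subgroup.mem_zpowers c)
  apply Subgroup.mem_normalizer_fintype
  intro y hy
  obtain ⟨k, rfl⟩ := Subgroup.mem_zpowers_iff.1 (hle hy)
  have : n * c ^ k * n⁻¹ = (n * c * n⁻¹) ^ k := by rw [conj_zpow]
  rw [this]
  exact zpow_mem h k

end general

/-- a group of order `450` has at most one subgroup of order `25` -/
theorem eq_of_card_450 {H : Type*} [Group H] [Finite H] (h : Nat.card H = 450) (A B : Subgroup H)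
    (hA : Nat.card A = 25) (hB : Nat.card B = 25) : A = B := by
  have : Fact (Nat.Prime 5) := ⟨by norm_num⟩
  obtain ⟨K, hKn, hKi⟩ := Cfsg.Agent.Lib.Helper4.DegSeven.exists_normal_index_two (G := H) 225
    (by decide) (by rw [h])
  have hKc : Nat.card K = 225 := by
    have := K.card_mul_index
    rw [hKi, h] at this
    omega
  have hle : ∀ A : Subgroup H, Nat.card A = 25 → A ≤ K := by
    intro A hA
    rw [← Subgroup.relIndex_eq_one]
    have h1 : K.relIndex A ∣ 2 := by
      rw [← hKi]; exact Subgroup.relIndex_dvd_index_of_normal K A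
    have h2 : K.relIndex A ∣ 25 := by
      rw [← hA]
      exact Subgroup.relIndex_dvd_card K A
    have h3 : K.relIndex A ∣ Nat.gcd 2 25 := Nat.dvd_gcd h1 h2
    have h4 : Nat.gcd 2 25 = 1 := by norm_num
    rw [h4] at h3
    exact Nat.dvd_one.1 h3
  -- Sylow 5 of `K` is unique
  have hK5 : Nat.card K = 5 ^ 2 * 9 := by rw [hKc]; norm_num
  have hdvd : Nat.card (Sylow 5 K) ∣ 9 :=
    Cfsg.Agent.Lib.Helper4.Sylow.card_sylow_dvd_of_card_eq hK5 (by norm_num)
  have hmod : Nat.card (Sylow 5 K) ≡ 1 [MOD 5] := card_sylow_modEq_one 5 K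
  have hone : Nat.card (Sylow 5 K) = 1 := by
    have hle9 : Nat.card (Sylow 5 K) ≤ 9 := Nat.le_of_dvd (by norm_num) hdvd
    unfold Nat.ModEq at hmod
    have hpos : 0 < Nat.card (Sylow 5 K) := Nat.card_pos
    interval_cases (Nat.card (Sylow 5 K)) <;> omega
  have hsub : Subsingleton (Sylow 5 K) := (Nat.card_eq_one_iff_unique.1 hone).1
  have hcard : ∀ A : Subgroup H, Nat.card A = 25 →
      Nat.card (A.subgroupOf K) = 5 ^ (Nat.card K).factorization 5 := by
    intro A hA
    have h1 : Nat.card (A.subgroupOf K) = 25 := by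
      rw [← hA]
      exact Nat.card_congr (Subgroup.subgroupOfEquivOfLe (hle A hA)).toEquiv
    obtain ⟨Q⟩ : Nonempty (Sylow 5 K) := inferInstance
    have hQ1 := Cfsg.Agent.Lib.Helper4.Sylow.card_sylow_of_card_eq hK5 (by norm_num) Q
    rw [h1, ← Q.card_eq_multiplicity, hQ1]; norm_num
  have hAB : A.subgroupOf K = B.subgroupOf K := by
    have h1 := Sylow.coe_ofCard (A.subgroupOf K) (hcard A hA)
    have h2 := Sylow.coe_ofCard (B.subgroupOf K) (hcard B hB)
    rw [← h1, ← h2, hsub.elim (Sylow.ofCard (A.subgroupOf K) (hcard A hA))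
      (Sylow.ofCard (B.subgroupOf K) (hcard B hB))]
  have := congrArg (Subgroup.map K.subtype) hAB
  rwa [Subgroup.map_subgroupOf_eq_of_le (hle A hA),
    Subgroup.map_subgroupOf_eq_of_le (hle B hB)] at this

end Cfsg.Agent.Lib.Lead.O5400
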