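import Mathlib
import Cfsg.Agent.Lib.Lead.O5400D

/-!
# No simple group of order `5400`

(author: lead)  `N(P)` permutes the two special lines of `P`, so the normalizer `M` of a special
line `D₁` satisfies `|M ∩ N(P)| ≥ 75`; as `M` contains six Sylow `5`-subgroups, `|M| = 450`, but a
group of order `450` has a unique subgroup of order `25`.
-/

set_option autoImplicit false
set_option linter.unusedSectionVars false
set_option linter.unusedVariables false

namespace Cfsg.Agent.Lib.Lead.O5400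

open MulAction Subgroup

variable {G : Type*} [Group G] [Finite G] [IsSimpleGroup G]

theorem no_simple_5400 (hn : Nat.card G = 5400) : False := by
  classical
  have : Fact (Nat.Prime 5) := ⟨by norm_num⟩
  obtain ⟨P⟩ : Nonempty (Sylow 5 G) := inferInstance
  have hP := card_sylow5 hn P
  have hP2 : Nat.card (P : Subgroup G) = 5 ^ 2 := by rw [hP]; norm_num
  obtain ⟨Q1, Q2, c1, c2, hQ1P, hc1P, hc1Q1, hc1, hQ2P, hc2P, hc2Q2, hc2, hcov⟩ := two_lines hn P
  set D1 : Subgroup G := (P : Subgroup G) ⊓ (Q1 : Subgroup G) with hD1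
  set D2 : Subgroup G := (P : Subgroup G) ⊓ (Q2 : Subgroup G) with hD2
  have hD1c : Nat.card D1 = 5 :=
    Cfsg.Agent.Lib.Lead.SylSq.card_inf_eq_of_mem P Q1 hP2 (fun h => hQ1P h.symm) c1 hc1P hc1Q1 hc1
  have hD2c : Nat.card D2 = 5 :=
    Cfsg.Agent.Lib.Lead.SylSq.card_inf_eq_of_mem P Q2 hP2 (fun h => hQ2P h.symm) c2 hc2P hc2Q2 hc2
  have hc1D1 : c1 ∈ D1 := ⟨hc1P, hc1Q1⟩
  have hc2D2 : c2 ∈ D2 := ⟨hc2P, hc2Q2⟩
  set N : Subgroup G := Subgroup.normalizer ((P : Subgroup G) : Set G) with hN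
  set M : Subgroup G := Subgroup.normalizer (D1 : Set G) with hM
  have hNc : Nat.card N = 150 := card_normalizer hn P
  -- conjugates of `c1` under `N(P)` lie on one of the two lines
  have hkey : ∀ n ∈ N, n * c1 * n⁻¹ ∈ D1 ∨ n * c1 * n⁻¹ ∈ D2 := by
    intro n hnN
    have hc'P : n * c1 * n⁻¹ ∈ (P : Subgroup G) := (Subgroup.mem_normalizer_iff.1 hnN c1).1 hc1P
    have hc'1 : n * c1 * n⁻¹ ≠ 1 := by
      intro h
      apply hc1
      have : c1 = n⁻¹ * (n * c1 * n⁻¹) * n := by group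
      rw [this, h]; group
    have hc'Q' : n * c1 * n⁻¹ ∈ (n • Q1 : Sylow 5 G) := by
      rw [Cfsg.Agent.Lib.Helper4.SylowPrime.mem_smul_sylow_iff]
      have : n⁻¹ * (n * c1 * n⁻¹) * n = c1 := by group
      rw [this]; exact hc1Q1
    have hQ'P : (n • Q1 : Sylow 5 G) ≠ P := by
      intro h
      have hnP : n • P = P := Sylow.smul_eq_iff_mem_normalizer.2 hnN
      have h2 : n • Q1 = n • P := h.trans hnP.symm
      exact hQ1P (MulAction.injective n h2)
    rcases hcov (n • Q1) hQ'P ⟨n * c1 * n⁻¹, hc'P, hc'Q', hc'1⟩ with h | h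
    · left
      exact mem_of_mem hn P (n • Q1) hQ'P c1 (n * c1 * n⁻¹) hc1P h hc1 hc'P hc'Q' D1 hc1D1
    · right
      exact mem_of_mem hn P (n • Q1) hQ'P c2 (n * c1 * n⁻¹) hc2P h hc2 hc'P hc'Q' D2 hc2D2
  have hcover : ∀ n ∈ N, ∀ m ∈ N, n ∉ M → m ∉ M → m⁻¹ * n ∈ M := by
    intro n hnN m hmN hnM hmM
    have h1 : n * c1 * n⁻¹ ∈ D2 := (hkey n hnN).resolve_left
      (fun h => hnM (mem_normalizer_of_conj_mem (p := 5) D1 hD1c c1 hc1D1 hc1 n h))
    have h2 : m * c1 * m⁻¹ ∈ D2 := (hkey m hmN).resolve_left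
      (fun h => hmM (mem_normalizer_of_conj_mem (p := 5) D1 hD1c c1 hc1D1 hc1 m h))
    have h21 : m * c1 * m⁻¹ ≠ 1 := by
      intro h
      apply hc1
      have : c1 = m⁻¹ * (m * c1 * m⁻¹) * m := by group
      rw [this, h]; group
    have h3 : D2 ≤ D1.map (MulAut.conj m).toMonoidHom :=
      Cfsg.Agent.Lib.Lead.SylSq.le_of_mem_of_card_prime (p := 5) D2 _ hD2c (m * c1 * m⁻¹) h2 h21
        ⟨c1, hc1D1, by simp [MulAut.conj_apply]⟩
    obtain ⟨d, hdD1, hd⟩ := h3 h1
    have hd' : m * d * m⁻¹ = n * c1 * n⁻¹ := by simpa [MulAut.conj_apply] using hd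
    apply mem_normalizer_of_conj_mem (p := 5) D1 hD1c c1 hc1D1 hc1
    have : m⁻¹ * n * c1 * (m⁻¹ * n)⁻¹ = d := by
      calc m⁻¹ * n * c1 * (m⁻¹ * n)⁻¹ = m⁻¹ * (n * c1 * n⁻¹) * m := by group
        _ = m⁻¹ * (m * d * m⁻¹) * m := by rw [hd']
        _ = d := by group
    rw [this]; exact hdD1
  have h75 := card_le_two_mul N M hcover
  rw [hNc] at h75
  -- Sylow subgroups containing `c1` lie in `M`
  have hleM : ∀ Q : Sylow 5 G, c1 ∈ Q → (Q : Subgroup G) ≤ M := by
    intro Q hcQ y hy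
    apply mem_normalizer_of_conj_mem (p := 5) D1 hD1c c1 hc1D1 hc1
    have : y * c1 * y⁻¹ = c1 := by
      rw [comm_sylow5 hn Q y c1 hy hcQ, mul_inv_cancel_right]
    rw [this]; exact hc1D1
  have hPM : (P : Subgroup G) ≤ M := hleM P hc1P
  have hA := Cfsg.Agent.Lib.Lead.SylSq.card_le_mul_card_inf_normalizer P M hPM
  have h6 : 6 ≤ Nat.card {Q : Sylow 5 G // (Q : Subgroup G) ≤ M} := by
    rw [← card_fix_six hn P Q1 hQ1P c1 hc1P hc1Q1 hc1]
    apply Nat.card_le_card_of_injective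
      (fun Q : fixedBy (Sylow 5 G) c1 => (⟨Q.1, hleM Q.1
        ((Cfsg.Agent.Lib.Lead.SylSq.smul_eq_iff_mem P Q.1 c1 hc1P).1 Q.2)⟩ :
        {Q : Sylow 5 G // (Q : Subgroup G) ≤ M}))
    intro a b hab
    apply Subtype.ext
    exact congrArg (fun z : {Q : Sylow 5 G // (Q : Subgroup G) ≤ M} => z.1) hab
  have hMtop : M ≠ ⊤ := by
    intro h
    have hnorm : D1.Normal := Subgroup.normalizer_eq_top_iff.1 h
    rcases hnorm.eq_bot_or_eq_top with hb | ht
    · rw [hb, Subgroup.card_bot] at hD1c; norm_num at hD1c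
    · rw [ht, Subgroup.card_top, hn] at hD1c; norm_num at hD1c
  have hM540 := card_le_of_ne_top hn M hMtop
  have hMdvd : Nat.card M ∣ 5400 := by rw [← hn]; exact Subgroup.card_subgroup_dvd_card M
  have hbdvd : Nat.card (M ⊓ N : Subgroup G) ∣ 150 := by
    rw [← hNc]; exact Subgroup.card_dvd_of_le inf_le_right
  have hcomm : (N ⊓ M : Subgroup G) = M ⊓ N := inf_comm _ _
  rw [hcomm] at h75
  have hMc : Nat.card M = 450 := by
    generalize Nat.card {Q : Sylow 5 G // (Q : Subgroup G) ≤ M} = a at *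
    generalize Nat.card (M ⊓ N : Subgroup G) = b at *
    have hb150 : b ≤ 150 := Nat.le_of_dvd (by norm_num) hbdvd
    have hb : b = 75 ∨ b = 150 := by
      have hb75 : 75 ≤ b := by omega
      interval_cases b <;> omega
    rcases hb with rfl | rfl
    · have ha7 : a ≤ 7 := by nlinarith
      interval_cases a
      · exact hA.symm
      · exfalso; rw [← hA] at hMdvd; omega
    · exfalso; nlinarith
  -- a group of order 450 has a unique subgroup of order 25
  have hQ1M : (Q1 : Subgroup G) ≤ M := hleM Q1 hc1Q1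
  have hQ1 := card_sylow5 hn Q1
  have h1 : Nat.card ((P : Subgroup G).subgroupOf M) = 25 := by
    rw [← hP]; exact Nat.card_congr (Subgroup.subgroupOfEquivOfLe hPM).toEquiv
  have h2 : Nat.card ((Q1 : Subgroup G).subgroupOf M) = 25 := by
    rw [← hQ1]; exact Nat.card_congr (Subgroup.subgroupOfEquivOfLe hQ1M).toEquiv
  have h3 := eq_of_card_450 (H := M) hMc _ _ h1 h2
  have h4 := congrArg (Subgroup.map M.subtype) h3
  rw [Subgroup.map_subgroupOf_eq_of_le hPM, Subgroup.map_subgroupOf_eq_of_le hQ1M] at h4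
  exact hQ1P (Sylow.ext h4).symm

end Cfsg.Agent.Lib.Lead.O5400
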