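import Cfsg.Agent.Lib.Lead.ChevAutB1
import Cfsg.Agent.Lib.Lead.ChevAutB3
import Cfsg.Agent.Lib.Helper5.AutBN.OutIndex
import Mathlib

/-!
# Graph automorphisms exchanging the root lengths: the necessary condition (lead)
-/

set_option autoImplicit false

namespace Cfsg.Agent.ExcIso
open Cfsg Cfsg.Lie Cfsg.Agent.Lib.Helper5.Chev Cfsg.Agent.Lib.Helper8.Aut Cfsg.Agent.ChevAut
  Cfsg.Agent.Lib.Helper5.AutBN
open scoped Matrix

variable {F : Type*} [Field F] [Finite F]

theorem graphExp_eq (D : ChevalleyDatum) (c i j : ℕ) : D.graphExp c i j = 1 ∨ D.graphExp c i j = c := by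
  unfold ChevalleyDatum.graphExp
  split_ifs
  · exact Or.inr rfl
  · exact Or.inl rfl

/-- the additive bijection `t ↦ t ^ e` for `e = 1` or `e = p` -/
theorem exists_addEquiv_pow (p : ℕ) [Fact p.Prime] [CharP F p] (e : ℕ) (he : e = 1 ∨ e = p) :
    ∃ φ : F ≃+ F, ∀ t : F, φ t = t ^ e := by
  rcases he with rfl | rfl
  · exact ⟨AddEquiv.refl F, fun t => (pow_one t).symm⟩
  · have : PerfectRing F e := PerfectRing.ofFiniteOfIsReduced e F
    exact ⟨(frobeniusEquiv F e).toAddEquiv, fun t => frobeniusEquiv_apply F e t⟩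

/-- the functional equation satisfied by the exponents of a graph automorphism -/
theorem graphBody_pow_eq (D : ChevalleyDatum)
    (hD : D ∈ [chevG2, chevB2, chevD4, chevF4, chevE6, chevE7, chevE8])
    (p : ℕ) [Fact p.Prime] [CharP F p] (π : Equiv.Perm (Fin D.rank))
    (g : ↥(D.group F) ≃* ↥(D.group F)) (hg : GraphBody D π g) (i j : Fin D.rank) (t : F)
    (ht : t ≠ 0) :
    (t ^ (D.cartan i (D.simple j))) ^ (D.graphExp (ringChar F) j (π j))
      = (t ^ D.graphExp (ringChar F) i (π i)) ^ (D.cartan (π i) (D.simple (π j))) := by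
  have hchar : ringChar F = p := ringChar.eq F p
  have hex : ∀ k : Fin D.rank, ∃ φ : F ≃+ F, ∀ t : F, φ t = t ^ D.graphExp (ringChar F) k (π k) := by
    intro k
    apply exists_addEquiv_pow p
    rw [hchar]
    exact graphExp_eq D p k (π k)
  choose φ hφ using hex
  have hp : ∀ (i : Fin D.rank) (y : ↥(D.group F)) (t : F),
      ((y : GL D.Idx F) : Matrix D.Idx D.Idx F) = D.x F (D.simple i) t →
      ((g y : GL D.Idx F) : Matrix D.Idx D.Idx F) = D.x F (D.simple (π i)) (φ i t) := by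
    intro i y t hy
    rw [hφ]
    exact (hg y i t).1 hy
  have hm : ∀ (i : Fin D.rank) (y : ↥(D.group F)) (t : F),
      ((y : GL D.Idx F) : Matrix D.Idx D.Idx F) = D.x F (D.neg (D.simple i)) t →
      ((g y : GL D.Idx F) : Matrix D.Idx D.Idx F) = D.x F (D.neg (D.simple (π i))) (φ i t) := by
    intro i y t hy
    rw [hφ]
    exact (hg y i t).2 hy
  have hB1 := b1_of_root_form D hD g π φ φ hp hm
  have h := b3_of_b1 D hD g π φ φ hp hm hB1 i j t 1 ht
  rw [hφ, hφ, hφ, hφ, mul_one, one_pow, one_pow, div_one, mul_one] at h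
  exact h

end Cfsg.Agent.ExcIso
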