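import Mathlib
import Cfsg.Prelude.Def_LieExceptional
import Cfsg.Agent.Lib.S2544.Restrict
import Cfsg.Agent.Lib.helper3.Inflate2
import Cfsg.Agent.Lib.helper3.Irr12
import Cfsg.Agent.Lib.helper3.DefectZero

/-!
# Transport of Steinberg characters: generic lemmas (lead, for S2547)

* `steinberg_of_mulEquiv`: the property "there is an irreducible character of degree `|P|` vanishing
  on `P ∖ 1` for every Sylow `p`-subgroup `P`" passes along a group isomorphism;
* `BNPair.exists_mul_mem`: in a finite group with a (B,N)-pair, every coset of a normal subgroup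
  with abelian quotient meets `B`;
* `steinberg_of_degree`: an irreducible character of degree the full `p`-part of the group order
  has the Steinberg property (defect zero).
-/

set_option autoImplicit false

namespace Cfsg.Agent.POT

open Cfsg Cfsg.Agent.Lib.helper3 Cfsg.Agent.Lib.helper3.Irr

/-! ### defect zero -/

theorem steinberg_of_degree {G : Type*} [Group G] [Finite G] (p : ℕ) [hp : Fact p.Prime]
    {ψ : G → ℂ} (hψ : IsIrrCharacter G ψ)
    (hψ1 : ψ 1 = ((p ^ (Nat.card G).factorization p : ℕ) : ℂ)) :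
    ∀ P : Sylow p G, ψ 1 = Nat.card P ∧ ∀ x : G, x ∈ P → x ≠ 1 → ψ x = 0 := by
  classical
  have hpp : p.Prime := hp.out
  intro P
  refine ⟨?_, ?_⟩
  · rw [hψ1, P.card_eq_multiplicity]
  · intro x hxP hx1
    let _ : Fintype G := Fintype.ofFinite _
    obtain ⟨d, ρ, hirr, hρ⟩ := hψ
    have := hirr
    set a := (Nat.card G).factorization p with ha
    have hd : d = p ^ a := by
      have h1 : ρ.character 1 = (d : ℂ) := by
        rw [Representation.char_one]
        simp
      rw [hρ, hψ1] at h1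
      exact_mod_cast h1.symm
    have hn' : ¬ p ^ (a + 1) ∣ Nat.card G :=
      Nat.pow_succ_factorization_not_dvd Nat.card_pos.ne' hpp
    have hdeg : p ^ a ∣ Module.finrank ℂ (Fin d → ℂ) := by
      rw [Module.finrank_fin_fun, hd]
    have hx : p ∣ orderOf x := by
      obtain ⟨k, hk⟩ := (IsPGroup.iff_orderOf.1 P.isPGroup') ⟨x, hxP⟩
      rw [Subgroup.orderOf_mk] at hk
      rw [hk]
      apply dvd_pow_self
      intro hk0
      rw [hk0, pow_zero, orderOf_eq_one_iff] at hk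
      exact hx1 hk
    rw [← hρ]
    exact BrauerInd.character_eq_zero_of_defect_zero ρ p a hn' hdeg x hx

/-! ### transport along an isomorphism -/

theorem steinberg_of_mulEquiv {G H : Type*} [Group G] [Group H] [Finite H] (p : ℕ)
    [hp : Fact p.Prime] (e : G ≃* H)
    (h : ∃ χ : H → ℂ, IsIrrCharacter H χ ∧ ∀ P : Sylow p H,
      χ 1 = Nat.card P ∧ ∀ x : H, x ∈ P → x ≠ 1 → χ x = 0) :
    ∃ χ : G → ℂ, IsIrrCharacter G χ ∧ ∀ P : Sylow p G,
      χ 1 = Nat.card P ∧ ∀ x : G, x ∈ P → x ≠ 1 → χ x = 0 := by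
  obtain ⟨χ, hχ, hP⟩ := h
  have : Finite G := Finite.of_equiv H e.symm.toEquiv
  refine ⟨fun g => χ (e g), isIrrCharacter_comp_mulEquiv e hχ, ?_⟩
  apply steinberg_of_degree p (isIrrCharacter_comp_mulEquiv e hχ)
  obtain ⟨P0⟩ : Nonempty (Sylow p H) := inferInstance
  simp only [map_one]
  rw [(hP P0).1, P0.card_eq_multiplicity, Nat.card_congr e.toEquiv]

/-! ### (B,N)-pairs and abelian quotients -/

theorem BNPair.exists_conj_not_mem {G : Type*} [Group G] [Finite G] (P : Cfsg.BNPair G) (s : G)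
    (hs : s ∈ P.S) : ∃ b ∈ P.B, s * b * s⁻¹ ∉ P.B := by
  by_contra hcon
  push Not at hcon
  -- conjugation by `s` maps `B` into `B`, hence onto `B`
  have hss : s * s ∈ P.B := P.sq_mem s hs
  have hsurj : ∀ b' ∈ P.B, ∃ b ∈ P.B, s * b * s⁻¹ = b' := by
    let f : ↥P.B → ↥P.B := fun b => ⟨s * b.1 * s⁻¹, hcon b.1 b.2⟩
    have hf : Function.Injective f := by
      intro a b hab
      have := congrArg Subtype.val hab
      simp only [f] at this
      exact Subtype.ext (mul_left_cancel (mul_right_cancel this))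
    have hsur := Finite.surjective_of_injective hf
    intro b' hb'
    obtain ⟨b, hb⟩ := hsur ⟨b', hb'⟩
    exact ⟨b.1, b.2, congrArg Subtype.val hb⟩
  apply P.conj_ne s hs
  ext x
  constructor
  · rintro ⟨b, hb, rfl⟩
    have : s * b * s = (s * b * s⁻¹) * (s * s) := by group
    show s * b * s ∈ P.B
    rw [this]
    exact mul_mem (hcon b hb) hss
  · intro hx
    -- x = s b s with b = s⁻¹ x s⁻¹
    have hx' : x * (s * s)⁻¹ ∈ P.B := mul_mem hx (inv_mem hss)
    obtain ⟨b, hb, hbe⟩ := hsurj _ hx'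
    refine ⟨b, hb, ?_⟩
    show s * b * s = x
    have : s * b * s = (s * b * s⁻¹) * (s * s) := by group
    rw [this, hbe]
    group

/-- in a finite group with a (B,N)-pair every coset of a normal subgroup with abelian quotient
meets `B` -/
theorem BNPair.exists_mul_mem {G : Type*} [Group G] [Finite G] (P : Cfsg.BNPair G)
    (Ω : Subgroup G) [hΩ : Ω.Normal] (hab : ∀ x y : G, x * y * x⁻¹ * y⁻¹ ∈ Ω) (g : G) :
    ∃ b ∈ P.B, g * b ∈ Ω := by
  have hcomm := quotient_comm_of_commutator_mem Ω hab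
  -- the subgroup of the `g` with the property
  let M : Subgroup G :=
    { carrier := {g | ∃ b ∈ P.B, g * b ∈ Ω}
      one_mem' := ⟨1, one_mem _, by simp [one_mem]⟩
      mul_mem' := by
        rintro x y ⟨b, hb, hxb⟩ ⟨c, hc, hyc⟩
        refine ⟨c * b, mul_mem hc hb, ?_⟩
        -- x y c b = (x (y c) x⁻¹) (x b)
        have e : x * y * (c * b) = (x * (y * c) * x⁻¹) * (x * b) := by group
        rw [e]
        exact mul_mem (hΩ.conj_mem _ hyc x) hxb
      inv_mem' := by
        rintro x ⟨b, hb, hxb⟩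
        refine ⟨b⁻¹, inv_mem hb, ?_⟩
        have e : x⁻¹ * b⁻¹ = x⁻¹ * (x * b)⁻¹ * x⁻¹⁻¹ := by group
        rw [e]
        exact hΩ.conj_mem _ (inv_mem hxb) x⁻¹ }
  have hMB : P.B ≤ M := fun b hb => ⟨b⁻¹, inv_mem hb, by simp [one_mem]⟩
  have hMS : P.S ⊆ (M : Set G) := by
    intro s hs
    obtain ⟨b, hb, hnot⟩ := BNPair.exists_conj_not_mem P s hs
    have hsN : s⁻¹ ∈ P.N := inv_mem (P.subset hs)
    rcases P.mul_mem_union s hs s⁻¹ hsN b hb with h | h
    · exfalso
      rw [mul_inv_cancel, DoubleCoset.mem_doubleCoset] at h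
      obtain ⟨x, hx, y, hy, he⟩ := h
      apply hnot
      rw [he, mul_one]
      exact mul_mem hx hy
    · rw [DoubleCoset.mem_doubleCoset] at h
      obtain ⟨x, hx, y, hy, he⟩ := h
      -- in the abelian quotient: s = x y b⁻¹
      refine ⟨(x * y * b⁻¹)⁻¹, inv_mem (mul_mem (mul_mem hx hy) (inv_mem hb)), ?_⟩
      have h1 : ((s * b * s⁻¹ : G) : G ⧸ Ω) = ((x * s⁻¹ * y : G) : G ⧸ Ω) := by rw [he]
      simp only [QuotientGroup.mk_mul, QuotientGroup.mk_inv] at h1
      have h2 : ((s : G) : G ⧸ Ω) = ((x * y * b⁻¹ : G) : G ⧸ Ω) := by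
        simp only [QuotientGroup.mk_mul, QuotientGroup.mk_inv]
        have h3 : ((s : G) : G ⧸ Ω) * (b : G ⧸ Ω) * ((s : G) : G ⧸ Ω)⁻¹ = (b : G ⧸ Ω) := by
          rw [hcomm ((s : G) : G ⧸ Ω) (b : G ⧸ Ω), mul_inv_cancel_right]
        rw [h3] at h1
        have h4 : (x : G ⧸ Ω) * ((s : G) : G ⧸ Ω)⁻¹ * (y : G ⧸ Ω)
            = (x : G ⧸ Ω) * (y : G ⧸ Ω) * ((s : G) : G ⧸ Ω)⁻¹ := by
          rw [mul_assoc, hcomm (((s : G) : G ⧸ Ω)⁻¹) (y : G ⧸ Ω), ← mul_assoc]
        rw [h4] at h1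
        have h6 : (b : G ⧸ Ω) * ((s : G) : G ⧸ Ω) = (x : G ⧸ Ω) * (y : G ⧸ Ω) := by
          rw [h1, inv_mul_cancel_right]
        rw [← h6, hcomm (b : G ⧸ Ω) ((s : G) : G ⧸ Ω), mul_inv_cancel_right]
      have h5 := QuotientGroup.eq.1 h2.symm
      -- (x y b⁻¹)⁻¹ s ∈ Ω, conjugate to s (x y b⁻¹)⁻¹
      have e : s * (x * y * b⁻¹)⁻¹ = s * ((x * y * b⁻¹)⁻¹ * s) * s⁻¹ := by group
      rw [e]
      exact hΩ.conj_mem _ h5 s
  have hMN : P.N ≤ M := by
    rw [← P.closure_sup]
    apply sup_le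
    · rw [Subgroup.closure_le]
      exact hMS
    · exact inf_le_left.trans hMB
  have htop : M = ⊤ := by
    rw [eq_top_iff, ← P.sup_eq_top]
    exact sup_le hMB hMN
  have : g ∈ M := by rw [htop]; trivial
  exact this

end Cfsg.Agent.POT
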