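import Mathlib
import Cfsg.Agent.Lib.Lead.PSUTransportB

/-!
# Transport of the Steinberg character to `PΩ_{2m+1}(q)`: the base change (lead, for S2547)

The isometry group of `quadFormOdd m F` is isomorphic, by an explicit monomial base change, to
the orthogonal group `UH (2m+1) F id` of the antidiagonal symmetric form.
-/

set_option autoImplicit false

namespace Cfsg.Agent.POT

open Matrix Cfsg Cfsg.Agent.PSUT Cfsg.Agent.Lib.Helper8.Tw
open scoped MatrixGroups

variable {F : Type*} [Field F]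

/-! ### the quadratic form of the antidiagonal model -/

/-- the quadratic form `x ↦ Σ x_{rev i} x_i` -/
noncomputable def qR (N : ℕ) (x : Fin N → F) : F := revB N (RingHom.id F) x x

theorem qR_apply (N : ℕ) (x : Fin N → F) : qR N x = ∑ i, x (Fin.rev i) * x i := by
  unfold qR
  rw [revB_apply]
  rfl

theorem revB_id_comm (N : ℕ) (x y : Fin N → F) :
    revB N (RingHom.id F) x y = revB N (RingHom.id F) y x := by
  have h := (revB_isSymm N (RingHom.id F) (fun a => rfl)).eq x y
  simpa using h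

theorem two_mul_revB (N : ℕ) (x y : Fin N → F) :
    2 * revB N (RingHom.id F) x y = qR N (x + y) - qR N x - qR N y := by
  unfold qR
  rw [map_add, map_add, LinearMap.add_apply, LinearMap.add_apply, revB_id_comm N y x]
  ring

theorem mem_UH_id_iff_qR (h2 : (2 : F) ≠ 0) {N : ℕ} (g : GL (Fin N) F) :
    g ∈ UH N F (RingHom.id F) ↔
      ∀ x : Fin N → F, qR N ((g : Matrix (Fin N) (Fin N) F) *ᵥ x) = qR N x := by
  rw [mem_UH_iff_revB]
  constructor
  · intro h x
    exact h x x
  · intro h x y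
    apply mul_left_cancel₀ h2
    rw [two_mul_revB, two_mul_revB, ← Matrix.mulVec_add, h, h, h]

/-! ### the index bijection -/

/-- the position of a coordinate of `quadFormOdd` in the antidiagonal model -/
def idxFun (m : ℕ) : Unit ⊕ (Fin m ⊕ Fin m) → Fin (2 * m + 1)
  | .inl _ => ⟨m, by omega⟩
  | .inr (.inl i) => ⟨i, by omega⟩
  | .inr (.inr i) => ⟨2 * m - i, by omega⟩

theorem idxFun_injective (m : ℕ) : Function.Injective (idxFun m) := by
  intro a b hab
  have h := congrArg Fin.val hab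
  rcases a with a | a | a <;> rcases b with b | b | b <;> simp only [idxFun] at h
  · rfl
  · exfalso; have := b.2; omega
  · exfalso; have := b.2; omega
  · exfalso; have := a.2; omega
  · rw [Fin.ext h]
  · exfalso; have := a.2; have := b.2; omega
  · exfalso; have := a.2; omega
  · exfalso; have := a.2; have := b.2; omega
  · have h1 := a.2
    have h2 := b.2
    have : (a : ℕ) = b := by omega
    rw [Fin.ext this]

theorem idxFun_bijective (m : ℕ) : Function.Bijective (idxFun m) := by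
  rw [Fintype.bijective_iff_injective_and_card]
  refine ⟨idxFun_injective m, ?_⟩
  simp only [Fintype.card_sum, Fintype.card_fin, Fintype.card_unit]
  omega

/-- the index bijection -/
noncomputable def idxEquiv (m : ℕ) : Unit ⊕ (Fin m ⊕ Fin m) ≃ Fin (2 * m + 1) :=
  Equiv.ofBijective (idxFun m) (idxFun_bijective m)

theorem idxEquiv_apply (m : ℕ) (k : Unit ⊕ (Fin m ⊕ Fin m)) : idxEquiv m k = idxFun m k := rfl

theorem rev_idxFun_inl (m : ℕ) (u : Unit) : Fin.rev (idxFun m (.inl u)) = idxFun m (.inl u) := by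
  apply Fin.ext
  simp only [idxFun, Fin.val_rev]
  omega

theorem rev_idxFun_inr_inl (m : ℕ) (i : Fin m) :
    Fin.rev (idxFun m (.inr (.inl i))) = idxFun m (.inr (.inr i)) := by
  apply Fin.ext
  simp only [idxFun, Fin.val_rev]
  have := i.2
  omega

theorem rev_idxFun_inr_inr (m : ℕ) (i : Fin m) :
    Fin.rev (idxFun m (.inr (.inr i))) = idxFun m (.inr (.inl i)) := by
  rw [← rev_idxFun_inr_inl, Fin.rev_rev]

/-! ### the base change matrices -/

/-- the scaling -/
def cfun (m : ℕ) (F : Type*) [Field F] : Unit ⊕ (Fin m ⊕ Fin m) → F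
  | .inr (.inl _) => 2
  | _ => 1

theorem cfun_ne_zero (h2 : (2 : F) ≠ 0) (m : ℕ) (k : Unit ⊕ (Fin m ⊕ Fin m)) : cfun m F k ≠ 0 := by
  rcases k with k | k | k <;> simp [cfun, h2]

/-- the base change -/
def Pmat (m : ℕ) (F : Type*) [Field F] : Matrix (Unit ⊕ (Fin m ⊕ Fin m)) (Fin (2 * m + 1)) F :=
  fun k j => if idxFun m k = j then cfun m F k else 0

/-- its inverse -/
def Pinv (m : ℕ) (F : Type*) [Field F] : Matrix (Fin (2 * m + 1)) (Unit ⊕ (Fin m ⊕ Fin m)) F :=
  fun j k => if idxFun m k = j then (cfun m F k)⁻¹ else 0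

theorem Pmat_mulVec (m : ℕ) (x : Fin (2 * m + 1) → F) (k : Unit ⊕ (Fin m ⊕ Fin m)) :
    (Pmat m F *ᵥ x) k = cfun m F k * x (idxFun m k) := by
  rw [Matrix.mulVec, dotProduct, Finset.sum_eq_single (idxFun m k)]
  · rw [Pmat, if_pos rfl]
  · intro j _ hj
    rw [Pmat, if_neg (Ne.symm hj), zero_mul]
  · intro h
    exact absurd (Finset.mem_univ _) h

theorem Pmat_mul_Pinv (h2 : (2 : F) ≠ 0) (m : ℕ) : Pmat m F * Pinv m F = 1 := by
  ext k k'
  rw [Matrix.mul_apply, Finset.sum_eq_single (idxFun m k)]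
  · rw [Pmat, if_pos rfl, Pinv]
    by_cases hk : k = k'
    · subst hk
      rw [if_pos rfl, Matrix.one_apply_eq, mul_inv_cancel₀ (cfun_ne_zero h2 m k)]
    · rw [if_neg, mul_zero, Matrix.one_apply_ne hk]
      intro h
      exact hk (idxFun_injective m h).symm
  · intro j _ hj
    rw [Pmat, if_neg (Ne.symm hj), zero_mul]
  · intro h
    exact absurd (Finset.mem_univ _) h

theorem Pinv_mul_Pmat (h2 : (2 : F) ≠ 0) (m : ℕ) : Pinv m F * Pmat m F = 1 := by
  ext j j'
  obtain ⟨k, rfl⟩ := (idxFun_bijective m).2 j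
  rw [Matrix.mul_apply, Finset.sum_eq_single k]
  · rw [Pinv, if_pos rfl, Pmat]
    by_cases hj : idxFun m k = j'
    · subst hj
      rw [if_pos rfl, Matrix.one_apply_eq, inv_mul_cancel₀ (cfun_ne_zero h2 m k)]
    · rw [if_neg hj, mul_zero, Matrix.one_apply_ne hj]
  · intro k' _ hk'
    rw [Pinv, if_neg, zero_mul]
    intro h
    exact hk' (idxFun_injective m h)
  · intro h
    exact absurd (Finset.mem_univ _) h

/-- the base change carries `quadFormOdd` to the quadratic form of the antidiagonal model -/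
theorem quadFormOdd_Pmat (m : ℕ) (x : Fin (2 * m + 1) → F) :
    Cfsg.quadFormOdd m F (Pmat m F *ᵥ x) = qR (2 * m + 1) x := by
  rw [qR_apply, ← Equiv.sum_comp (idxEquiv m), Fintype.sum_sum_type, Fintype.sum_sum_type]
  simp only [idxEquiv_apply, rev_idxFun_inl, rev_idxFun_inr_inl, rev_idxFun_inr_inr,
    Finset.univ_unique, Finset.sum_singleton]
  unfold Cfsg.quadFormOdd
  simp only [Pmat_mulVec, cfun]
  rw [← Finset.sum_add_distrib]
  have : ∀ i : Fin m, 2 * x (idxFun m (.inr (.inl i))) * (1 * x (idxFun m (.inr (.inr i))))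
      = x (idxFun m (.inr (.inr i))) * x (idxFun m (.inr (.inl i)))
        + x (idxFun m (.inr (.inl i))) * x (idxFun m (.inr (.inr i))) := by
    intro i
    ring
  simp only [this]
  ring

/-! ### the isomorphism of the groups -/

/-- conjugation by the base change, on matrices -/
noncomputable def matConj (h2 : (2 : F) ≠ 0) (m : ℕ) :
    Matrix (Unit ⊕ (Fin m ⊕ Fin m)) (Unit ⊕ (Fin m ⊕ Fin m)) F ≃*
      Matrix (Fin (2 * m + 1)) (Fin (2 * m + 1)) F where
  toFun M := Pinv m F * M * Pmat m F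
  invFun M := Pmat m F * M * Pinv m F
  left_inv M := by
    show Pmat m F * (Pinv m F * M * Pmat m F) * Pinv m F = M
    rw [Matrix.mul_assoc (Pinv m F), ← Matrix.mul_assoc (Pmat m F), Pmat_mul_Pinv h2,
      Matrix.one_mul, Matrix.mul_assoc, Pmat_mul_Pinv h2, Matrix.mul_one]
  right_inv M := by
    show Pinv m F * (Pmat m F * M * Pinv m F) * Pmat m F = M
    rw [Matrix.mul_assoc (Pmat m F), ← Matrix.mul_assoc (Pinv m F), Pinv_mul_Pmat h2,
      Matrix.one_mul, Matrix.mul_assoc, Pinv_mul_Pmat h2, Matrix.mul_one]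
  map_mul' M M' := by
    show Pinv m F * (M * M') * Pmat m F = Pinv m F * M * Pmat m F * (Pinv m F * M' * Pmat m F)
    have : Pinv m F * M * Pmat m F * (Pinv m F * M' * Pmat m F)
        = Pinv m F * M * (Pmat m F * Pinv m F) * M' * Pmat m F := by
      simp only [Matrix.mul_assoc]
    rw [this, Pmat_mul_Pinv h2, Matrix.mul_one]
    simp only [Matrix.mul_assoc]

/-- conjugation by the base change, on the general linear groups -/
noncomputable def glConj (h2 : (2 : F) ≠ 0) (m : ℕ) :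
    GL (Unit ⊕ (Fin m ⊕ Fin m)) F ≃* GL (Fin (2 * m + 1)) F :=
  Units.mapEquiv (matConj h2 m)

theorem glConj_val (h2 : (2 : F) ≠ 0) (m : ℕ) (g : GL (Unit ⊕ (Fin m ⊕ Fin m)) F) :
    ((glConj h2 m g : GL (Fin (2 * m + 1)) F) : Matrix (Fin (2 * m + 1)) (Fin (2 * m + 1)) F)
      = Pinv m F * (g : Matrix (Unit ⊕ (Fin m ⊕ Fin m)) (Unit ⊕ (Fin m ⊕ Fin m)) F) * Pmat m F := rfl

theorem glConj_symm_val (h2 : (2 : F) ≠ 0) (m : ℕ) (g : GL (Fin (2 * m + 1)) F) :
    (((glConj h2 m).symm g : GL (Unit ⊕ (Fin m ⊕ Fin m)) F) : Matrix (Unit ⊕ (Fin m ⊕ Fin m)) (Unit ⊕ (Fin m ⊕ Fin m)) F)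
      = Pmat m F * (g : Matrix (Fin (2 * m + 1)) (Fin (2 * m + 1)) F) * Pinv m F := rfl

theorem mem_isometryGroup_iff {ι : Type} [Fintype ι] [DecidableEq ι] (Q : (ι → F) → F)
    (g : GL ι F) :
    g ∈ Cfsg.isometryGroup F Q ↔ ∀ u : ι → F, Q ((g : Matrix ι ι F) *ᵥ u) = Q u := by
  constructor
  · intro h u
    exact h u u
  · intro h u _
    exact h u

theorem map_isometryGroup (h2 : (2 : F) ≠ 0) (m : ℕ) :
    (Cfsg.isometryGroup F (Cfsg.quadFormOdd m F)).map (glConj h2 m).toMonoidHom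
      = UH (2 * m + 1) F (RingHom.id F) := by
  ext g
  rw [Subgroup.mem_map_equiv, mem_isometryGroup_iff, mem_UH_id_iff_qR h2, glConj_symm_val]
  constructor
  · intro h x
    have := h (Pmat m F *ᵥ x)
    rw [Matrix.mulVec_mulVec, Matrix.mul_assoc, Matrix.mul_assoc, Pinv_mul_Pmat h2, Matrix.mul_one,
      ← Matrix.mulVec_mulVec, quadFormOdd_Pmat, quadFormOdd_Pmat] at this
    exact this
  · intro h u
    have hu : u = Pmat m F *ᵥ (Pinv m F *ᵥ u) := by
      rw [Matrix.mulVec_mulVec, Pmat_mul_Pinv h2, Matrix.one_mulVec]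
    have := h (Pinv m F *ᵥ u)
    rw [← quadFormOdd_Pmat, ← quadFormOdd_Pmat, ← hu] at this
    rw [← this, Matrix.mulVec_mulVec, Matrix.mulVec_mulVec]

/-- the isometry group of `quadFormOdd` is the orthogonal group of the antidiagonal model -/
noncomputable def toUH (h2 : (2 : F) ≠ 0) (m : ℕ) :
    ↥(Cfsg.isometryGroup F (Cfsg.quadFormOdd m F)) ≃* ↥(UH (2 * m + 1) F (RingHom.id F)) :=
  ((glConj h2 m).subgroupMap (Cfsg.isometryGroup F (Cfsg.quadFormOdd m F))).trans
    (MulEquiv.subgroupCongr (map_isometryGroup h2 m))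

theorem toUH_val (h2 : (2 : F) ≠ 0) (m : ℕ) (g : ↥(Cfsg.isometryGroup F (Cfsg.quadFormOdd m F))) :
    (((toUH h2 m g : ↥(UH (2 * m + 1) F (RingHom.id F))) : GL (Fin (2 * m + 1)) F) :
      Matrix (Fin (2 * m + 1)) (Fin (2 * m + 1)) F)
      = Pinv m F * ((g : GL (Unit ⊕ (Fin m ⊕ Fin m)) F) : Matrix (Unit ⊕ (Fin m ⊕ Fin m)) (Unit ⊕ (Fin m ⊕ Fin m)) F) * Pmat m F := rfl

end Cfsg.Agent.POT
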