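import Mathlib
import Cfsg.Agent.Lib.Lead.POmegaOddTransportA
import Cfsg.Agent.Lib.Lead.POmegaOddTransportB
import Cfsg.Agent.Lib.Helper8.Tw.FixSt
import Cfsg.Agent.Lib.Helper8.Tw.UTwist
import Cfsg.Agent.Lib.Helper5.Orth.OmegaOrder
import Cfsg.Agent.Lib.Helper5.Orth.OmegaCenter
import Cfsg.Agent.H9.OrthK

/-!
# Transport of the Steinberg character to `PΩ_{2m+1}(q)`, `m ≥ 3` (lead, for S2547)
-/

set_option autoImplicit false

namespace Cfsg.Agent.POT

open Matrix Cfsg Cfsg.Agent.PSUT Cfsg.Agent.Lib.Helper8.Tw Cfsg.Agent.Lib.Helper5.GLBN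
open Cfsg.Agent.Lib.Helper8.SpBN
open Cfsg.Agent.Lib.helper3 Cfsg.Agent.Lib.helper3.Irr
open scoped MatrixGroups

variable {N : ℕ} {F : Type*} [Field F]

/-! ### the diagonal part of a fixed upper triangular matrix -/

theorem twist_dgOf_fixed [Finite F] (T : Twist N F) {b : GL (Fin N) F}
    (hb : b ∈ upperTriangularGL N F) (hfix : T.σ b = b) : T.σ (dgOf b hb) = dgOf b hb := by
  have hu : IsUni ((b * (dgOf b hb)⁻¹ : GL (Fin N) F) : Matrix (Fin N) (Fin N) F) :=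
    isUni_mul_dgOf_inv hb
  have hd := isMono_dgOf b hb
  have hσu := T.uni _ hu
  have hσd := T.mono _ _ hd
  rw [revC_one] at hσd
  have h1 : IsPat (rM (1 : Equiv.Perm (Fin N)))
      (((1 : GL (Fin N) F) : GL (Fin N) F) : Matrix (Fin N) (Fin N) F) := by
    rw [Units.val_one]; exact isPat_one _
  have e : T.σ (b * (dgOf b hb)⁻¹) * T.σ (dgOf b hb) * 1 = b * (dgOf b hb)⁻¹ * dgOf b hb * 1 := by
    rw [mul_one, mul_one, ← map_mul, inv_mul_cancel_right, hfix]
  exact (sharp_unique hσu hu hσd hd h1 h1 e).2.1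

theorem dgOf_mem_UH [Finite F] (φ : F →+* F) (hφ : ∀ x, φ (φ x) = x) {b : GL (Fin N) F}
    (hb : b ∈ upperTriangularGL N F) (hbU : b ∈ UH N F φ) : dgOf b hb ∈ UH N F φ :=
  twist_dgOf_fixed (uTwist φ hφ) hb hbU

/-! ### elements of `p`-power order and a quotient of order four -/

theorem mem_of_index_four {O : Type*} [Group O] (Ω : Subgroup O) [hΩ : Ω.Normal]
    (hidx : Ω.index = 4) (p k : ℕ) (hp : p.Prime) (hp2 : p ≠ 2) (u : O) (hu : u ^ p ^ k = 1) :
    u ∈ Ω := by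
  rw [← QuotientGroup.eq_one_iff]
  have h1 : ((u : O) : O ⧸ Ω) ^ p ^ k = 1 := by
    rw [← QuotientGroup.mk_pow, hu, QuotientGroup.mk_one]
  have h2 : ((u : O) : O ⧸ Ω) ^ 4 = 1 := by
    rw [← hidx, Subgroup.index_eq_card]
    exact pow_card_eq_one'
  have h3 : orderOf ((u : O) : O ⧸ Ω) ∣ Nat.gcd (p ^ k) 4 :=
    Nat.dvd_gcd (orderOf_dvd_of_pow_eq_one h1) (orderOf_dvd_of_pow_eq_one h2)
  have h4 : Nat.gcd (p ^ k) 4 = 1 := by
    have : Nat.Coprime p 2 := (Nat.coprime_primes hp Nat.prime_two).2 hp2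
    have h5 : Nat.Coprime (p ^ k) (2 ^ 2) := Nat.Coprime.pow k 2 this
    exact h5
  rw [h4, Nat.dvd_one, orderOf_eq_one_iff] at h3
  exact h3

/-! ### the main theorem -/

theorem factorization_of_mul_eq (p a b c : ℕ) (h : a * b = c) (hc : c ≠ 0) (hb : ¬ p ∣ b) :
    c.factorization p = a.factorization p := by
  subst h
  have ha : a ≠ 0 := fun h0 => hc (by rw [h0, zero_mul])
  have hb0 : b ≠ 0 := fun h0 => hc (by rw [h0, mul_zero])
  rw [Nat.factorization_mul ha hb0, Finsupp.add_apply,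
    Nat.factorization_eq_zero_of_not_dvd hb, add_zero]

/-- **Transport.** From a Steinberg character of the orthogonal group of the antidiagonal symmetric
form on `F^(2m+1)` (irreducible, of degree the `p`-part of the order, invariant under the scalars,
nonzero on the diagonal matrices) and a (B,N)-pair of that group with upper triangular `B`, to the
Steinberg character of `PΩ_{2m+1}(F)`, `m ≥ 3`. -/
theorem steinberg_pomega_odd_of_model [Fintype F] (p : ℕ) [hp : Fact p.Prime] [CharP F p]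
    (hodd : Odd (Fintype.card F)) (m : ℕ) (hm : 3 ≤ m)
    (H : ∃ χ : ↥(UH (2 * m + 1) F (RingHom.id F)) → ℂ,
      IsIrrCharacter ↥(UH (2 * m + 1) F (RingHom.id F)) χ ∧
      χ 1 = ((p ^ (Nat.card ↥(UH (2 * m + 1) F (RingHom.id F))).factorization p : ℕ) : ℂ) ∧
      (∀ (x c : ↥(UH (2 * m + 1) F (RingHom.id F))) (z : F),
        ((c : GL (Fin (2 * m + 1)) F) : Matrix (Fin (2 * m + 1)) (Fin (2 * m + 1)) F)
          = Matrix.diagonal (fun _ => z) → χ (x * c) = χ x) ∧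
      (∀ t : ↥(UH (2 * m + 1) F (RingHom.id F)),
        IsMono ((t : GL (Fin (2 * m + 1)) F) : Matrix (Fin (2 * m + 1)) (Fin (2 * m + 1)) F) 1 →
          χ t ≠ 0))
    (P : Cfsg.BNPair ↥(UH (2 * m + 1) F (RingHom.id F)))
    (hPB : ∀ b ∈ P.B, (b : GL (Fin (2 * m + 1)) F) ∈ upperTriangularGL (2 * m + 1) F) :
    ∃ χ : Cfsg.POmega F (Cfsg.quadFormOdd m F) → ℂ,
      IsIrrCharacter (Cfsg.POmega F (Cfsg.quadFormOdd m F)) χ ∧
      ∀ S : Sylow p (Cfsg.POmega F (Cfsg.quadFormOdd m F)),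
        χ 1 = Nat.card S ∧ ∀ x : Cfsg.POmega F (Cfsg.quadFormOdd m F), x ∈ S → x ≠ 1 → χ x = 0 := by
  classical
  have hpp : p.Prime := hp.out
  have h2 : (2 : F) ≠ 0 := Cfsg.Agent.Lib.Helper5.OrthSN.two_ne_zero_of_odd_card hodd
  have hp2 : p ≠ 2 := by
    intro h
    apply h2
    have := CharP.cast_eq_zero F p
    rw [h] at this
    exact_mod_cast this
  have hQ := Cfsg.Agent.H9.Orth.isNondeg_quadFormOdd (F := F) (m := m) h2
  have hcard : Fintype.card (Unit ⊕ (Fin m ⊕ Fin m)) = 2 * m + 1 := by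
    simp only [Fintype.card_sum, Fintype.card_fin, Fintype.card_unit]
    omega
  have hgen := Cfsg.Agent.H9.Orth.iso_le_RR hQ
    (Or.inl (Cfsg.Agent.Lib.Helper5.OrthSN.card_ne_two_of_odd_card hodd))
  have hidx : (Cfsg.Omega F (Cfsg.quadFormOdd m F)).index = 4 :=
    Cfsg.Agent.Lib.Helper5.OrthSN.omega_index_four hQ h2 (by rw [hcard]; omega) hgen
  obtain ⟨χ, hχ, hχ1, hχc, hχd⟩ := H
  set O : Subgroup (GL (Unit ⊕ (Fin m ⊕ Fin m)) F) :=
    Cfsg.isometryGroup F (Cfsg.quadFormOdd m F) with hO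
  set Ω : Subgroup ↥O := Cfsg.Omega F (Cfsg.quadFormOdd m F) with hΩdef
  let e : ↥O ≃* ↥(UH (2 * m + 1) F (RingHom.id F)) := toUH h2 m
  let _ : Fintype ↥O := Fintype.ofFinite _
  let _ : Fintype ↥Ω := Fintype.ofFinite _
  -- the character of the isometry group
  have hχO : IsIrrCharacter ↥O (fun h => χ (e h)) := isIrrCharacter_comp_mulEquiv e hχ
  -- commutators
  have habO : ∀ x y : ↥O, x * y * x⁻¹ * y⁻¹ ∈ Ω := fun x y =>
    Subgroup.commutator_mem_commutator (Subgroup.mem_top x) (Subgroup.mem_top y)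
  -- the image of `Ω` in the model
  set Ω' : Subgroup ↥(UH (2 * m + 1) F (RingHom.id F)) := Ω.map e.toMonoidHom with hΩ'
  have hΩ'n : Ω'.Normal := Subgroup.Normal.map inferInstance _ e.surjective
  have hmemΩ' : ∀ x : ↥(UH (2 * m + 1) F (RingHom.id F)), x ∈ Ω' ↔ e.symm x ∈ Ω := by
    intro x
    rw [hΩ', Subgroup.mem_map_equiv]
  have habG : ∀ x y : ↥(UH (2 * m + 1) F (RingHom.id F)), x * y * x⁻¹ * y⁻¹ ∈ Ω' := by
    intro x y
    rw [hmemΩ', map_mul, map_mul, map_mul, map_inv, map_inv]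
    exact habO _ _
  -- unitriangular elements lie in `Ω'`
  have huni : ∀ u : ↥(UH (2 * m + 1) F (RingHom.id F)),
      (u : GL (Fin (2 * m + 1)) F) ∈ UT (2 * m + 1) F → u ∈ Ω' := by
    intro u hu
    rw [hmemΩ']
    obtain ⟨k, hk⟩ := (isPGroup_UT (N := 2 * m + 1) (F := F) p) ⟨(u : GL (Fin (2 * m + 1)) F), hu⟩
    have hk' : u ^ p ^ k = 1 := by
      apply Subtype.ext
      have := congrArg Subtype.val hk
      simpa using this
    apply mem_of_index_four Ω hidx p k hpp hp2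
    rw [← map_pow, hk', map_one]
  -- every coset of `Ω` contains an element where the character does not vanish
  have hnv : ∀ g : ↥O, ∃ n ∈ Ω, χ (e (g * n)) ≠ 0 := by
    intro g
    obtain ⟨b, hb, hgb⟩ := BNPair.exists_mul_mem P Ω' habG (e g)
    have hbu := hPB b hb
    have hdU : dgOf (b : GL (Fin (2 * m + 1)) F) hbu ∈ UH (2 * m + 1) F (RingHom.id F) :=
      dgOf_mem_UH (RingHom.id F) (fun _ => rfl) hbu b.2
    set d : ↥(UH (2 * m + 1) F (RingHom.id F)) := ⟨dgOf (b : GL (Fin (2 * m + 1)) F) hbu, hdU⟩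
      with hd
    set u : ↥(UH (2 * m + 1) F (RingHom.id F)) := b * d⁻¹ with hu
    have huΩ : u ∈ Ω' := by
      apply huni
      rw [mem_UT_iff_isUni]
      exact isUni_mul_dgOf_inv hbu
    set ω : ↥(UH (2 * m + 1) F (RingHom.id F)) := e g * b with hω
    -- n' = u * (d * ω⁻¹ * d⁻¹)
    have hn' : u * (d * ω⁻¹ * d⁻¹) ∈ Ω' := mul_mem huΩ (hΩ'n.conj_mem _ (inv_mem hgb) d)
    have hprod : e g * (u * (d * ω⁻¹ * d⁻¹)) = d⁻¹ := by
      rw [hω, hu]
      group
    refine ⟨e.symm (u * (d * ω⁻¹ * d⁻¹)), (hmemΩ' _).1 hn', ?_⟩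
    rw [map_mul, MulEquiv.apply_symm_apply, hprod]
    apply hχd
    have h1 := (isMono_dgOf (b : GL (Fin (2 * m + 1)) F) hbu).inv
    rw [inv_one] at h1
    exact h1
  have hχΩ : IsIrrCharacter ↥Ω (fun n : ↥Ω => χ (e (n : ↥O))) :=
    Cfsg.Agent.S2544L.isIrrCharacter_restrict_of_nonvanishing Ω habO hχO hnv
  -- the centre
  have hcen : ∀ z : ↥Ω, z ∈ Subgroup.center ↥Ω → ∃ c : F,
      (((e (z : ↥O) : ↥(UH (2 * m + 1) F (RingHom.id F))) : GL (Fin (2 * m + 1)) F) :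
        Matrix (Fin (2 * m + 1)) (Fin (2 * m + 1)) F) = Matrix.diagonal (fun _ => c) := by
    intro z hz
    have h7 : 7 ≤ Fintype.card (Unit ⊕ (Fin m ⊕ Fin m)) := by rw [hcard]; omega
    rcases Cfsg.Agent.Lib.Helper5.OrthSN.center_omega_val hQ h7 z hz with h | h
    · refine ⟨1, ?_⟩
      show Pinv m F * (((z : ↥O) : GL (Unit ⊕ (Fin m ⊕ Fin m)) F) :
        Matrix (Unit ⊕ (Fin m ⊕ Fin m)) (Unit ⊕ (Fin m ⊕ Fin m)) F) * Pmat m F = _
      rw [h, Units.val_one, Matrix.mul_one, Pinv_mul_Pmat h2, Matrix.diagonal_one]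
    · refine ⟨-1, ?_⟩
      show Pinv m F * (((z : ↥O) : GL (Unit ⊕ (Fin m ⊕ Fin m)) F) :
        Matrix (Unit ⊕ (Fin m ⊕ Fin m)) (Unit ⊕ (Fin m ⊕ Fin m)) F) * Pmat m F = _
      rw [h, Units.val_neg, Units.val_one, Matrix.mul_neg, Matrix.mul_one, Matrix.neg_mul,
        Pinv_mul_Pmat h2]
      ext i j
      by_cases hij : i = j
      · subst hij; simp
      · simp [hij]
  obtain ⟨ψ, hψ, hinf⟩ := exists_eq_inflate hχΩ (Subgroup.center ↥Ω) (fun g z hz => by
    obtain ⟨c, hc⟩ := hcen z hz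
    simp only [Subgroup.coe_mul, map_mul]
    exact hχc _ _ c hc)
  -- the degree
  have hfac : (Nat.card ↥(UH (2 * m + 1) F (RingHom.id F))).factorization p
      = (Nat.card (Cfsg.POmega F (Cfsg.quadFormOdd m F))).factorization p := by
    have hp4 : ¬ p ∣ 4 := by
      intro h
      have h' : p ∣ 2 ^ 2 := h
      exact hp2 ((Nat.prime_dvd_prime_iff_eq hpp Nat.prime_two).1 (hpp.dvd_of_dvd_pow h'))
    have e1 : Nat.card ↥(UH (2 * m + 1) F (RingHom.id F)) = Nat.card ↥O :=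
      (Nat.card_congr e.toEquiv).symm
    have e2 : Nat.card ↥Ω * 4 = Nat.card ↥O := by
      rw [← hidx]
      exact Subgroup.card_mul_index Ω
    have e3 : Nat.card (Cfsg.POmega F (Cfsg.quadFormOdd m F)) * Nat.card ↥(Subgroup.center ↥Ω)
        = Nat.card ↥Ω := by
      have := Subgroup.card_mul_index (Subgroup.center ↥Ω)
      rw [Subgroup.index_eq_card, mul_comm] at this
      exact this
    have hcz : ¬ p ∣ Nat.card ↥(Subgroup.center ↥Ω) := by
      have hP2 : IsPGroup 2 ↥(Subgroup.center ↥Ω) := by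
        intro z
        refine ⟨1, ?_⟩
        have h7 : 7 ≤ Fintype.card (Unit ⊕ (Fin m ⊕ Fin m)) := by rw [hcard]; omega
        apply Subtype.ext
        apply Subtype.ext
        apply Subtype.ext
        rw [pow_one]
        simp only [Subgroup.coe_pow, Subgroup.coe_one]
        rcases Cfsg.Agent.Lib.Helper5.OrthSN.center_omega_val hQ h7 z.1 z.2 with h | h
        · rw [h, one_pow]
        · rw [h]
          simp
      obtain ⟨k, hk⟩ := IsPGroup.iff_card.1 hP2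
      rw [hk]
      intro h
      exact hp2 ((Nat.prime_dvd_prime_iff_eq hpp Nat.prime_two).1 (hpp.dvd_of_dvd_pow h))
    rw [e1, factorization_of_mul_eq p _ 4 _ e2 Nat.card_pos.ne' hp4,
      factorization_of_mul_eq p _ _ _ e3 Nat.card_pos.ne' hcz]
  have hψ1 : ψ 1
      = ((p ^ (Nat.card (Cfsg.POmega F (Cfsg.quadFormOdd m F))).factorization p : ℕ) : ℂ) := by
    have h1 := congrFun hinf 1
    rw [inflate_apply, QuotientGroup.mk_one] at h1
    rw [← h1]
    simp only [Subgroup.coe_one, map_one]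
    rw [hχ1, hfac]
  exact ⟨ψ, hψ, steinberg_of_degree p hψ hψ1⟩



end Cfsg.Agent.POT
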