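import Mathlib
import Cfsg.Agent.Lib.Lead.POmegaOddTransportA
import Cfsg.Agent.S0298
import Cfsg.Agent.S0301
import Cfsg.Agent.S2544
import Cfsg.Agent.S2545

/-!
# The Steinberg character of `PΩ_3(q)` and `PΩ_5(q)` through the exceptional isomorphisms
(lead, for S2547)
-/

set_option autoImplicit false

namespace Cfsg.Agent.POT

open Cfsg

variable {F : Type*} [Field F] [Fintype F]

theorem steinberg_pomega_odd_one (p : ℕ) [Fact p.Prime] [CharP F p]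
    (hodd : Odd (Fintype.card F)) :
    ∃ χ : Cfsg.POmega F (Cfsg.quadFormOdd 1 F) → ℂ,
      IsIrrCharacter (Cfsg.POmega F (Cfsg.quadFormOdd 1 F)) χ ∧
      ∀ S : Sylow p (Cfsg.POmega F (Cfsg.quadFormOdd 1 F)),
        χ 1 = Nat.card S ∧ ∀ x : Cfsg.POmega F (Cfsg.quadFormOdd 1 F), x ∈ S → x ≠ 1 → χ x = 0 := by
  obtain ⟨e⟩ := Cfsg.Agent.S0298.result (F := F) hodd
  exact steinberg_of_mulEquiv p e (Cfsg.Agent.S2544.result (F := F) p 2 (le_refl 2))

theorem steinberg_pomega_odd_two (p : ℕ) [Fact p.Prime] [CharP F p]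
    (hodd : Odd (Fintype.card F)) :
    ∃ χ : Cfsg.POmega F (Cfsg.quadFormOdd 2 F) → ℂ,
      IsIrrCharacter (Cfsg.POmega F (Cfsg.quadFormOdd 2 F)) χ ∧
      ∀ S : Sylow p (Cfsg.POmega F (Cfsg.quadFormOdd 2 F)),
        χ 1 = Nat.card S ∧ ∀ x : Cfsg.POmega F (Cfsg.quadFormOdd 2 F), x ∈ S → x ≠ 1 → χ x = 0 := by
  obtain ⟨e⟩ := Cfsg.Agent.S0301.result (F := F) hodd
  exact steinberg_of_mulEquiv p e (Cfsg.Agent.S2545.result (F := F) p 2 (by norm_num))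

end Cfsg.Agent.POT
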