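import Mathlib

/-!
# Rank semicontinuity for matrices with polynomial entries

For a matrix `A` over `K[X]` (`K` a field) write `A(t) = A.map (Polynomial.eval t)`.

* `exists_sandwich` : a matrix of rank `r` over a field has `P * A * Q = 1` (size `r`).
* `finite_rank_lt` : for fixed `t₀`, the set of `t` with `rank A(t) < rank A(t₀)` is finite.
* `rank_eq_of_complementary` : if `A * B = 0` and at two points `t₀, t₁` the ranks are
  complementary (`rank A(tᵢ) + rank B(tᵢ) = card n`), then `rank A(t₀) = rank A(t₁)` and
  `rank B(t₀) = rank B(t₁)` (`K` infinite).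
-/

open Polynomial Matrix

namespace Cfsg.Agent.Lib.Lead.PolyRank

variable {K : Type*} [Field K]

/-- Evaluation of a polynomial matrix at a point. -/
noncomputable def evalAt {m n : Type*} (A : Matrix m n K[X]) (t : K) : Matrix m n K :=
  A.map (Polynomial.eval t)

theorem evalAt_mul {m n k : Type*} [Fintype n] (A : Matrix m n K[X]) (B : Matrix n k K[X])
    (t : K) : evalAt (A * B) t = evalAt A t * evalAt B t := by
  unfold evalAt
  exact Matrix.map_mul (f := Polynomial.evalRingHom t)

theorem evalAt_map_C {m n : Type*} (P : Matrix m n K) (t : K) :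
    evalAt (P.map (C : K → K[X])) t = P := by
  ext i j; simp [evalAt]

/-- A matrix of rank `r` over a field can be cut down to the identity of size `r`. -/
theorem exists_sandwich {m n : Type*} [Fintype m] [Fintype n] [DecidableEq m] [DecidableEq n]
    (A : Matrix m n K) :
    ∃ (P : Matrix (Fin A.rank) m K) (Q : Matrix n (Fin A.rank) K), P * A * Q = 1 := by
  classical
  set r := A.rank with hr
  let f : (n → K) →ₗ[K] (m → K) := A.mulVecLin
  have hfin : Module.finrank K (LinearMap.range f) = r := rfl
  let e : (LinearMap.range f) ≃ₗ[K] (Fin r → K) :=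
    (Module.finBasisOfFinrankEq K _ hfin).equivFun
  obtain ⟨π, hπ⟩ := (LinearMap.range f).subtype.exists_leftInverse_of_injective
    (Submodule.ker_subtype _)
  obtain ⟨σ, hσ⟩ := f.rangeRestrict.exists_rightInverse_of_surjective
    (LinearMap.range_rangeRestrict f)
  let P' : (m → K) →ₗ[K] (Fin r → K) := e.toLinearMap ∘ₗ π
  let Q' : (Fin r → K) →ₗ[K] (n → K) := σ ∘ₗ e.symm.toLinearMap
  have hcomp : P' ∘ₗ f ∘ₗ Q' = LinearMap.id := by
    refine LinearMap.ext fun x => ?_
    have h1 : f (σ (e.symm x)) = ((e.symm x : LinearMap.range f) : m → K) := by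
      have := LinearMap.congr_fun hσ (e.symm x)
      simp only [LinearMap.comp_apply, LinearMap.id_apply] at this
      have h' : f (σ (e.symm x)) = ((f.rangeRestrict (σ (e.symm x)) : LinearMap.range f) : m → K) := rfl
      rw [h', this]
    have h2 : π ((e.symm x : LinearMap.range f) : m → K) = e.symm x := by
      have := LinearMap.congr_fun hπ (e.symm x)
      simpa using this
    simp only [LinearMap.comp_apply, P', Q', LinearEquiv.coe_coe, LinearMap.id_apply]
    rw [h1, h2, LinearEquiv.apply_symm_apply]
  refine ⟨LinearMap.toMatrix' P', LinearMap.toMatrix' Q', ?_⟩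
  have hA : A = LinearMap.toMatrix' f := by
    simp [f, ← Matrix.toLin'_apply']
  rw [hA, ← LinearMap.toMatrix'_comp, ← LinearMap.toMatrix'_comp, LinearMap.comp_assoc, hcomp,
    LinearMap.toMatrix'_id]

/-- Lower semicontinuity of the rank: only finitely many points have smaller rank than `t₀`. -/
theorem finite_rank_lt {m n : Type*} [Fintype m] [Fintype n] [DecidableEq m] [DecidableEq n]
    (A : Matrix m n K[X]) (t₀ : K) :
    {t : K | (evalAt A t).rank < (evalAt A t₀).rank}.Finite := by
  classical
  obtain ⟨P, Q, hPQ⟩ := exists_sandwich (evalAt A t₀)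
  generalize hr : (evalAt A t₀).rank = r at P Q hPQ ⊢
  let D : Matrix (Fin r) (Fin r) K[X] := P.map C * A * Q.map C
  have hD : ∀ t, evalAt D t = P * evalAt A t * Q := by
    intro t
    simp only [D, evalAt_mul, evalAt_map_C]
  have hdet : ∀ t, D.det.eval t = (evalAt D t).det := by
    intro t
    have := RingHom.map_det (Polynomial.evalRingHom t) D
    simpa [evalAt] using this
  have hne : D.det ≠ 0 := by
    intro h0
    have := hdet t₀
    rw [h0, hD, hPQ] at this
    simp at this
  refine (D.det.rootSet_finite K).subset (fun t ht => ?_)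
  change (evalAt A t).rank < r at ht
  rw [Polynomial.mem_rootSet_of_ne hne]
  by_contra hroot
  have hunit : IsUnit (evalAt D t) := by
    rw [Matrix.isUnit_iff_isUnit_det, isUnit_iff_ne_zero, ← hdet]
    simpa using hroot
  have hrk : (evalAt D t).rank = r := by
    rw [Matrix.rank_of_isUnit _ hunit, Fintype.card_fin]
  have hle : (evalAt D t).rank ≤ (evalAt A t).rank := by
    rw [hD]
    exact (Matrix.rank_mul_le_left _ _).trans (Matrix.rank_mul_le_right _ _)
  omega

/-- All but finitely many points have rank at least the rank at each of two given points. -/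
theorem exists_rank_ge {m n m' n' : Type*} [Fintype m] [Fintype n] [DecidableEq m] [DecidableEq n]
    [Fintype m'] [Fintype n'] [DecidableEq m'] [DecidableEq n'] [Infinite K]
    (A : Matrix m n K[X]) (B : Matrix m' n' K[X]) (t₀ t₁ : K) :
    ∃ t : K, (evalAt A t₀).rank ≤ (evalAt A t).rank ∧ (evalAt A t₁).rank ≤ (evalAt A t).rank ∧
      (evalAt B t₀).rank ≤ (evalAt B t).rank ∧ (evalAt B t₁).rank ≤ (evalAt B t).rank := by
  have hfin := ((finite_rank_lt A t₀).union (finite_rank_lt A t₁)).union
    ((finite_rank_lt B t₀).union (finite_rank_lt B t₁))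
  obtain ⟨t, ht⟩ := hfin.infinite_compl.nonempty
  simp only [Set.mem_compl_iff, Set.mem_union, Set.mem_ofPred_eq, not_or, not_lt] at ht
  exact ⟨t, ht.1.1, ht.1.2, ht.2.1, ht.2.2⟩

/-- **Rank rigidity along a polynomial family.** If `A * B = 0` as polynomial matrices and at the
two points `t₀, t₁` the ranks of `A(t)` and `B(t)` are complementary, then the ranks at `t₀` and
`t₁` coincide. -/
theorem rank_eq_of_complementary {m n k : Type*} [Fintype m] [Fintype n] [Fintype k]
    [DecidableEq m] [DecidableEq n] [DecidableEq k] [Infinite K]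
    (A : Matrix m n K[X]) (B : Matrix n k K[X]) (hAB : A * B = 0) (t₀ t₁ : K)
    (h₀ : (evalAt A t₀).rank + (evalAt B t₀).rank = Fintype.card n)
    (h₁ : (evalAt A t₁).rank + (evalAt B t₁).rank = Fintype.card n) :
    (evalAt A t₀).rank = (evalAt A t₁).rank ∧ (evalAt B t₀).rank = (evalAt B t₁).rank := by
  obtain ⟨t, hA0, hA1, hB0, hB1⟩ := exists_rank_ge A B t₀ t₁
  have hmul : evalAt A t * evalAt B t = 0 := by
    rw [← evalAt_mul, hAB]; ext i j; simp [evalAt]
  have hle := Matrix.rank_add_rank_le_card_of_mul_eq_zero hmul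
  omega

/-- Variant with the hypothesis `A(t) * B(t) = 0` only pointwise. -/
theorem rank_eq_of_complementary' {m n k : Type*} [Fintype m] [Fintype n] [Fintype k]
    [DecidableEq m] [DecidableEq n] [DecidableEq k] [Infinite K]
    (A : Matrix m n K[X]) (B : Matrix n k K[X]) (hAB : ∀ t, evalAt A t * evalAt B t = 0)
    (t₀ t₁ : K)
    (h₀ : (evalAt A t₀).rank + (evalAt B t₀).rank = Fintype.card n)
    (h₁ : (evalAt A t₁).rank + (evalAt B t₁).rank = Fintype.card n) :
    (evalAt A t₀).rank = (evalAt A t₁).rank ∧ (evalAt B t₀).rank = (evalAt B t₁).rank := by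
  obtain ⟨t, hA0, hA1, hB0, hB1⟩ := exists_rank_ge A B t₀ t₁
  have hle := Matrix.rank_add_rank_le_card_of_mul_eq_zero (hAB t)
  omega

end Cfsg.Agent.Lib.Lead.PolyRank
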