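import Mathlib

set_option autoImplicit false

/-!
# Arithmetic for the classification of primitive linear groups of degree two

If `g - 1 = ∑ nᵢ (aᵢ - 1)` with `g = nᵢ eᵢ aᵢ`, `nᵢ, aᵢ ≥ 2`, `eᵢ ∈ {1, 2}` then `g ∈ {12, 24, 60}`.
Here `bᵢ = aᵢ - 1`.
-/

namespace Cfsg.Agent.Lib.Lead.PrimDeg2

/-- The basic linear facts about one summand. -/
theorem arith_basic {g n e b : ℕ} (hb : 1 ≤ b) (he : e = 1 ∨ e = 2)
    (hg : g = n * e * (b + 1)) :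
    n ≤ n * b ∧ (e = 1 → g = n * b + n) ∧ (e = 2 → g = 2 * (n * b) + 2 * n) := by
  refine ⟨Nat.le_mul_of_pos_right n hb, ?_, ?_⟩
  · intro h
    rw [hg, h]
    ring
  · intro h
    rw [hg, h]
    ring

theorem arith_one {g n e b : ℕ} (hn : 2 ≤ n) (hb : 1 ≤ b) (he : e = 1 ∨ e = 2)
    (hg : g = n * e * (b + 1)) (hsum : g = 1 + n * b) : False := by
  obtain ⟨h1, h2, h3⟩ := arith_basic hb he hg
  rcases he with he | he
  · have := h2 he
    omega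
  · have := h3 he
    omega

/-- Two summands, with `e₁ = 1`, `e₂ = 2`. -/
theorem arith_two_aux {g n1 b1 n2 b2 : ℕ} (hn1 : 2 ≤ n1) (hb1 : 1 ≤ b1)
    (hn2 : 2 ≤ n2) (hb2 : 1 ≤ b2)
    (hg1 : g = n1 * 1 * (b1 + 1)) (hg2 : g = n2 * 2 * (b2 + 1))
    (hsum : g = 1 + (n1 * b1 + n2 * b2)) : g = 12 := by
  obtain ⟨h1, h2, -⟩ := arith_basic hb1 (Or.inl rfl) hg1
  obtain ⟨k1, -, k3⟩ := arith_basic hb2 (Or.inr rfl) hg2
  have e1 := h2 rfl
  have e2 := k3 rfl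
  -- `b1 ≤ 2`
  have hb1' : b1 ≤ 2 := by
    by_contra hcon
    have h3 : 3 ≤ b1 := by omega
    have : n1 * 3 ≤ n1 * b1 := Nat.mul_le_mul_left n1 h3
    omega
  have hb1'' : b1 = 1 ∨ b1 = 2 := by omega
  rcases hb1'' with rfl | rfl
  · omega
  · have hb2' : b2 ≤ 1 := by
      by_contra hcon
      have h3 : 2 ≤ b2 := by omega
      have : n2 * 2 ≤ n2 * b2 := Nat.mul_le_mul_left n2 h3
      omega
    have hb2'' : b2 = 1 := by omega
    subst hb2''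
    omega

theorem arith_two {g n1 e1 b1 n2 e2 b2 : ℕ} (hn1 : 2 ≤ n1) (hb1 : 1 ≤ b1)
    (he1 : e1 = 1 ∨ e1 = 2) (hn2 : 2 ≤ n2) (hb2 : 1 ≤ b2) (he2 : e2 = 1 ∨ e2 = 2)
    (hg1 : g = n1 * e1 * (b1 + 1)) (hg2 : g = n2 * e2 * (b2 + 1))
    (hsum : g = 1 + (n1 * b1 + n2 * b2)) : g = 12 := by
  obtain ⟨h1, h2, h3⟩ := arith_basic hb1 he1 hg1
  obtain ⟨k1, k2, k3⟩ := arith_basic hb2 he2 hg2
  rcases he1 with rfl | rfl
  · rcases he2 with rfl | rfl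
    · have := h2 rfl
      have := k2 rfl
      omega
    · exact arith_two_aux hn1 hb1 hn2 hb2 hg1 hg2 hsum
  · rcases he2 with rfl | rfl
    · exact arith_two_aux hn2 hb2 hn1 hb1 hg2 hg1 (by omega)
    · have := h3 rfl
      have := k3 rfl
      omega

/-- Three summands, all `e = 2`, `b₁ = 1`, `b₂ ≤ 2`. -/
theorem arith_three_aux1 {g n1 n2 b2 n3 b3 : ℕ} (hn1 : 2 ≤ n1)
    (hn2 : 2 ≤ n2) (hb2 : 1 ≤ b2) (hb2' : b2 ≤ 2) (hn3 : 2 ≤ n3) (hb3 : 1 ≤ b3)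
    (hg1 : g = 2 * (n1 * 1) + 2 * n1) (hg2 : g = 2 * (n2 * b2) + 2 * n2)
    (hg3 : g = 2 * (n3 * b3) + 2 * n3)
    (hsum : g = 1 + (n1 * 1 + n2 * b2 + n3 * b3)) : g = 12 ∨ g = 24 ∨ g = 60 := by
  have hb2'' : b2 = 1 ∨ b2 = 2 := by omega
  rcases hb2'' with rfl | rfl
  · omega
  · have hb3' : b3 ≤ 4 := by
      by_contra hcon
      have h5 : 5 ≤ b3 := by omega
      have : n3 * 5 ≤ n3 * b3 := Nat.mul_le_mul_left n3 h5
      omega
    interval_cases b3 <;> omega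

/-- Three summands, all `e = 2`, `b₁ = 1`. -/
theorem arith_three_aux2 {g n1 n2 b2 n3 b3 : ℕ} (hn1 : 2 ≤ n1)
    (hn2 : 2 ≤ n2) (hb2 : 1 ≤ b2) (hn3 : 2 ≤ n3) (hb3 : 1 ≤ b3)
    (hg1 : g = 2 * (n1 * 1) + 2 * n1) (hg2 : g = 2 * (n2 * b2) + 2 * n2)
    (hg3 : g = 2 * (n3 * b3) + 2 * n3)
    (hsum : g = 1 + (n1 * 1 + n2 * b2 + n3 * b3)) : g = 12 ∨ g = 24 ∨ g = 60 := by
  by_cases h2 : b2 ≤ 2
  · exact arith_three_aux1 hn1 hn2 hb2 h2 hn3 hb3 hg1 hg2 hg3 hsum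
  · by_cases h3 : b3 ≤ 2
    · exact arith_three_aux1 hn1 hn3 hb3 h3 hn2 hb2 hg1 hg3 hg2 (by omega)
    · exfalso
      have : n2 * 3 ≤ n2 * b2 := Nat.mul_le_mul_left n2 (by omega)
      have : n3 * 3 ≤ n3 * b3 := Nat.mul_le_mul_left n3 (by omega)
      omega

/-- Three summands, all `e = 2`. -/
theorem arith_three_aux3 {g n1 b1 n2 b2 n3 b3 : ℕ} (hn1 : 2 ≤ n1) (hb1 : 1 ≤ b1)
    (hn2 : 2 ≤ n2) (hb2 : 1 ≤ b2) (hn3 : 2 ≤ n3) (hb3 : 1 ≤ b3)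
    (hg1 : g = 2 * (n1 * b1) + 2 * n1) (hg2 : g = 2 * (n2 * b2) + 2 * n2)
    (hg3 : g = 2 * (n3 * b3) + 2 * n3)
    (hsum : g = 1 + (n1 * b1 + n2 * b2 + n3 * b3)) : g = 12 ∨ g = 24 ∨ g = 60 := by
  by_cases h1 : b1 = 1
  · subst h1
    exact arith_three_aux2 hn1 hn2 hb2 hn3 hb3 hg1 hg2 hg3 hsum
  · by_cases h2 : b2 = 1
    · subst h2
      exact arith_three_aux2 hn2 hn1 hb1 hn3 hb3 hg2 hg1 hg3 (by omega)
    · by_cases h3 : b3 = 1
      · subst h3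
        exact arith_three_aux2 hn3 hn1 hb1 hn2 hb2 hg3 hg1 hg2 (by omega)
      · exfalso
        have : n1 * 2 ≤ n1 * b1 := Nat.mul_le_mul_left n1 (by omega)
        have : n2 * 2 ≤ n2 * b2 := Nat.mul_le_mul_left n2 (by omega)
        have : n3 * 2 ≤ n3 * b3 := Nat.mul_le_mul_left n3 (by omega)
        omega

theorem arith_three {g n1 e1 b1 n2 e2 b2 n3 e3 b3 : ℕ} (hn1 : 2 ≤ n1) (hb1 : 1 ≤ b1)
    (he1 : e1 = 1 ∨ e1 = 2) (hn2 : 2 ≤ n2) (hb2 : 1 ≤ b2) (he2 : e2 = 1 ∨ e2 = 2)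
    (hn3 : 2 ≤ n3) (hb3 : 1 ≤ b3) (he3 : e3 = 1 ∨ e3 = 2)
    (hg1 : g = n1 * e1 * (b1 + 1)) (hg2 : g = n2 * e2 * (b2 + 1))
    (hg3 : g = n3 * e3 * (b3 + 1))
    (hsum : g = 1 + (n1 * b1 + n2 * b2 + n3 * b3)) : g = 12 ∨ g = 24 ∨ g = 60 := by
  obtain ⟨h1, h2, h3⟩ := arith_basic hb1 he1 hg1
  obtain ⟨k1, k2, k3⟩ := arith_basic hb2 he2 hg2
  obtain ⟨l1, l2, l3⟩ := arith_basic hb3 he3 hg3
  rcases he1 with he1 | he1
  · exfalso
    have := h2 he1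
    rcases he2 with he2 | he2
    · have := k2 he2
      omega
    · have := k3 he2
      rcases he3 with he3 | he3
      · have := l2 he3
        omega
      · have := l3 he3
        omega
  · have a1 := h3 he1
    rcases he2 with he2 | he2
    · exfalso
      have := k2 he2
      rcases he3 with he3 | he3
      · have := l2 he3
        omega
      · have := l3 he3
        omega
    · have a2 := k3 he2
      rcases he3 with he3 | he3
      · exfalso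
        have := l2 he3
        omega
      · have a3 := l3 he3
        exact arith_three_aux3 hn1 hb1 hn2 hb2 hn3 hb3 a1 a2 a3 hsum

/-- The arithmetic main lemma. -/
theorem arith_main {ι : Type*} (I : Finset ι) (n e b : ι → ℕ) (g : ℕ) (hI : I.Nonempty)
    (h : ∀ i ∈ I, 2 ≤ n i ∧ 1 ≤ b i ∧ (e i = 1 ∨ e i = 2) ∧ g = n i * e i * (b i + 1))
    (hsum : g = 1 + ∑ i ∈ I, n i * b i) : g = 12 ∨ g = 24 ∨ g = 60 := by
  classical
  -- each summand is at least `g / 4`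
  have h4 : ∀ i ∈ I, g ≤ 4 * (n i * b i) := by
    intro i hi
    obtain ⟨hn, hb, he, hg⟩ := h i hi
    obtain ⟨h1, h2, h3⟩ := arith_basic hb he hg
    rcases he with he | he
    · have := h2 he
      omega
    · have := h3 he
      omega
  have hcard : I.card ≤ 3 := by
    by_contra hcon
    have h4' : 4 ≤ I.card := by omega
    have h5 : I.card * g ≤ ∑ i ∈ I, 4 * (n i * b i) := by
      rw [← smul_eq_mul, ← Finset.sum_const]
      exact Finset.sum_le_sum h4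
    rw [← Finset.mul_sum] at h5
    have h6 : 4 * g ≤ I.card * g := Nat.mul_le_mul_right g h4'
    obtain ⟨i, hi⟩ := hI
    have := h4 i hi
    omega
  have hpos : 0 < I.card := Finset.card_pos.mpr hI
  have hc : I.card = 1 ∨ I.card = 2 ∨ I.card = 3 := by omega
  rcases hc with hc | hc | hc
  · exfalso
    obtain ⟨i, rfl⟩ := Finset.card_eq_one.mp hc
    obtain ⟨hn, hb, he, hg⟩ := h i (Finset.mem_singleton_self i)
    rw [Finset.sum_singleton] at hsum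
    exact arith_one hn hb he hg hsum
  · obtain ⟨i, j, hij, rfl⟩ := Finset.card_eq_two.mp hc
    obtain ⟨hn1, hb1, he1, hg1⟩ := h i (by simp)
    obtain ⟨hn2, hb2, he2, hg2⟩ := h j (by simp)
    rw [Finset.sum_pair hij] at hsum
    exact Or.inl (arith_two hn1 hb1 he1 hn2 hb2 he2 hg1 hg2 hsum)
  · obtain ⟨i, j, k, hij, hik, hjk, rfl⟩ := Finset.card_eq_three.mp hc
    obtain ⟨hn1, hb1, he1, hg1⟩ := h i (by simp)
    obtain ⟨hn2, hb2, he2, hg2⟩ := h j (by simp)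
    obtain ⟨hn3, hb3, he3, hg3⟩ := h k (by simp)
    have hs : ∑ x ∈ ({i, j, k} : Finset ι), n x * b x = n i * b i + n j * b j + n k * b k := by
      rw [Finset.sum_insert (by simp [hij, hik]), Finset.sum_pair hjk]
      ring
    rw [hs] at hsum
    exact arith_three hn1 hb1 he1 hn2 hb2 he2 hn3 hb3 he3 hg1 hg2 hg3 hsum

end Cfsg.Agent.Lib.Lead.PrimDeg2
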