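import Mathlib
import Cfsg.Agent.Lib.Lead.PrimDeg2A

set_option autoImplicit false
set_option linter.unusedSectionVars false
set_option linter.unusedVariables false

/-!
# Counting in a group whose noncentral centralizers are abelian, non-normal, and of index at
most two in their normalizers
-/

namespace Cfsg.Agent.Lib.Lead.PrimDeg2

open Subgroup

variable {G : Type*} [Group G]

/-- Centralizers of noncentral elements are abelian. -/
def CTc (G : Type*) [Group G] : Prop :=
  ∀ x : G, x ∉ center G → ∀ y z : G, Commute y x → Commute z x → Commute y z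

theorem conj_not_mem_center {x : G} (hx : x ∉ center G) (h : G) : h * x * h⁻¹ ∉ center G := by
  intro hc
  apply hx
  have h1 := (inferInstance : (center G).Normal).conj_mem _ hc h⁻¹
  have h2 : h⁻¹ * (h * x * h⁻¹) * h⁻¹⁻¹ = x := by group
  rwa [h2] at h1

theorem conj_conj (h k x : G) : k * (h * x * h⁻¹) * k⁻¹ = (k * h) * x * (k * h)⁻¹ := by group

theorem conj_inv_conj (h x : G) : h⁻¹ * (h * x * h⁻¹) * h⁻¹⁻¹ = x := by group

/-- The centralizer of an element. -/
def cen (x : G) : Subgroup G where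
  carrier := {y | Commute y x}
  one_mem' := Commute.one_left x
  mul_mem' := fun ha hb => Commute.mul_left ha hb
  inv_mem' := fun ha => Commute.inv_left ha

theorem mem_cen {x y : G} : y ∈ cen x ↔ Commute y x := Iff.rfl

/-- The normalizer of the centralizer of a noncentral element. -/
def nrm (H1 : CTc G) (x : G) (hx : x ∉ center G) : Subgroup G where
  carrier := {n | Commute (n * x * n⁻¹) x}
  one_mem' := by
    show Commute (1 * x * 1⁻¹) x
    simp
  mul_mem' := by
    intro n m hn hm
    show Commute (n * m * x * (n * m)⁻¹) x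
    have h1 : Commute (n * (m * x * m⁻¹) * n⁻¹) (n * x * n⁻¹) := (Commute.conj_iff n).mpr hm
    have h2 := H1 (n * x * n⁻¹) (conj_not_mem_center hx n) _ x h1 (Commute.symm hn)
    rwa [conj_conj] at h2
  inv_mem' := by
    intro n hn
    show Commute (n⁻¹ * x * n⁻¹⁻¹) x
    have h1 : Commute (n⁻¹ * (n * x * n⁻¹) * n⁻¹⁻¹) (n⁻¹ * x * n⁻¹⁻¹) :=
      (Commute.conj_iff n⁻¹).mpr hn
    rw [conj_inv_conj] at h1
    exact h1.symm

theorem mem_nrm (H1 : CTc G) {x : G} (hx : x ∉ center G) {n : G} :
    n ∈ nrm H1 x hx ↔ Commute (n * x * n⁻¹) x := Iff.rfl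

theorem center_le_cen (x : G) : center G ≤ cen x := by
  intro y hy
  rw [mem_cen]
  exact (Subgroup.mem_center_iff.mp hy x).symm

theorem cen_le_nrm (H1 : CTc G) {x : G} (hx : x ∉ center G) : cen x ≤ nrm H1 x hx := by
  intro y hy
  rw [mem_nrm]
  rw [mem_cen] at hy
  have : y * x * y⁻¹ = x := by rw [hy.eq, mul_inv_cancel_right]
  rw [this]

/-- The conjugacy relation between the centralizers of two elements. -/
def Rel (x y : G) : Prop := ∃ h : G, Commute (h * x * h⁻¹) y

theorem Rel.refl (x : G) : Rel x x := ⟨1, by simp⟩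

theorem Rel.symm {x y : G} (h : Rel x y) : Rel y x := by
  obtain ⟨h, hc⟩ := h
  refine ⟨h⁻¹, ?_⟩
  have h1 : Commute (h⁻¹ * y * h⁻¹⁻¹) (h⁻¹ * (h * x * h⁻¹) * h⁻¹⁻¹) :=
    (Commute.conj_iff h⁻¹).mpr hc.symm
  rwa [conj_inv_conj] at h1

theorem Rel.trans (H1 : CTc G) {x y z : G} (hy : y ∉ center G) (h1 : Rel x y) (h2 : Rel y z) :
    Rel x z := by
  obtain ⟨h, hc⟩ := h1
  obtain ⟨k, kc⟩ := h2
  refine ⟨k * h, ?_⟩
  have e1 : Commute (k * (h * x * h⁻¹) * k⁻¹) (k * y * k⁻¹) := (Commute.conj_iff k).mpr hc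
  have e2 := H1 (k * y * k⁻¹) (conj_not_mem_center hy k) _ z e1 kc.symm
  rwa [conj_conj] at e2

section Counting

variable [Fintype G]

theorem card_eq_filter (H : Subgroup G) [DecidablePred (fun g : G => g ∈ H)] :
    Nat.card H = (Finset.univ.filter (fun g : G => g ∈ H)).card := by
  classical
  rw [Nat.card_eq_fintype_card]
  exact Fintype.card_of_subtype _ (by simp)

open Classical in
/-- The noncentral elements. -/
noncomputable def nonc (G : Type*) [Group G] [Fintype G] : Finset G :=
  Finset.univ.filter (fun g : G => g ∉ center G)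

open Classical in
theorem mem_nonc {x : G} : x ∈ nonc G ↔ x ∉ center G := by
  simp [nonc]

open Classical in
/-- The class of a noncentral element. -/
noncomputable def cls (x : G) : Finset G := (nonc G).filter (fun y => Rel x y)

open Classical in
theorem mem_cls {x y : G} : y ∈ cls x ↔ y ∉ center G ∧ Rel x y := by
  simp [cls, mem_nonc]

open Classical in
theorem cls_eq_of_rel (H1 : CTc G) {x y : G} (hx : x ∉ center G) (hy : y ∉ center G)
    (h : Rel x y) : cls y = cls x := by
  ext z
  rw [mem_cls, mem_cls]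
  constructor
  · rintro ⟨hz, hr⟩
    exact ⟨hz, Rel.trans H1 hy h hr⟩
  · rintro ⟨hz, hr⟩
    exact ⟨hz, Rel.trans H1 hx h.symm hr⟩

open Classical in
theorem card_nonc_eq_sum (H1 : CTc G) :
    (nonc G).card = ∑ K ∈ (nonc G).image cls, K.card := by
  rw [Finset.card_eq_sum_card_image cls (nonc G)]
  apply Finset.sum_congr rfl
  intro K hK
  obtain ⟨x0, hx0, rfl⟩ := Finset.mem_image.mp hK
  rw [mem_nonc] at hx0
  congr 1
  ext x
  rw [Finset.mem_filter, mem_nonc, mem_cls]
  constructor
  · rintro ⟨hx, hcl⟩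
    have : x ∈ cls x := mem_cls.mpr ⟨hx, Rel.refl x⟩
    rw [hcl] at this
    exact mem_cls.mp this
  · rintro ⟨hx, hr⟩
    exact ⟨hx, cls_eq_of_rel H1 hx0 hx hr⟩

open Classical in
theorem card_nonc : (nonc G).card + Nat.card (center G) = Nat.card G := by
  rw [card_eq_filter, nonc, Nat.card_eq_fintype_card, ← Finset.card_univ (α := G)]
  rw [add_comm]
  convert Finset.card_filter_add_card_filter_not (s := Finset.univ) (fun g : G => g ∈ center G)

open Classical in
/-- Double counting: the size of a class. -/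
theorem card_cls_mul (H1 : CTc G) {x : G} (hx : x ∉ center G) :
    Nat.card G * (Nat.card (cen x) - Nat.card (center G)) =
      (cls x).card * Nat.card (nrm H1 x hx) := by
  rw [Nat.card_eq_fintype_card (α := G), ← Finset.card_univ (α := G)]
  apply Finset.card_mul_eq_card_mul (fun (h : G) (z : G) => Commute (h * x * h⁻¹) z)
  · intro h _
    -- the elements of the class commuting with `h x h⁻¹`
    have hset : Finset.bipartiteAbove (fun (h : G) (z : G) => Commute (h * x * h⁻¹) z) (cls x) h
        = (Finset.univ.filter (fun g : G => g ∈ cen (h * x * h⁻¹))) \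
          (Finset.univ.filter (fun g : G => g ∈ center G)) := by
      ext z
      simp only [Finset.bipartiteAbove, Finset.mem_filter, Finset.mem_sdiff, Finset.mem_univ,
        true_and, mem_cls, mem_cen]
      constructor
      · rintro ⟨⟨hz, _⟩, hc⟩
        exact ⟨hc.symm, hz⟩
      · rintro ⟨hc, hz⟩
        exact ⟨⟨hz, ⟨h, hc.symm⟩⟩, hc.symm⟩
    rw [hset, Finset.card_sdiff_of_subset, ← card_eq_filter, ← card_eq_filter]
    · congr 1
      -- conjugate subgroups have the same cardinality
      apply Nat.card_congr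
      refine ⟨fun y => ⟨h⁻¹ * y.1 * h⁻¹⁻¹, ?_⟩, fun y => ⟨h * y.1 * h⁻¹, ?_⟩, ?_, ?_⟩
      · have := y.2
        rw [mem_cen] at this ⊢
        have h1 : Commute (h⁻¹ * y.1 * h⁻¹⁻¹) (h⁻¹ * (h * x * h⁻¹) * h⁻¹⁻¹) :=
          (Commute.conj_iff h⁻¹).mpr this
        rwa [conj_inv_conj] at h1
      · have := y.2
        rw [mem_cen] at this ⊢
        exact (Commute.conj_iff h).mpr this
      · intro y
        apply Subtype.ext
        show h * (h⁻¹ * y.1 * h⁻¹⁻¹) * h⁻¹ = y.1
        group
      · intro y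
        apply Subtype.ext
        show h⁻¹ * (h * y.1 * h⁻¹) * h⁻¹⁻¹ = y.1
        group
    · intro z hz
      simp only [Finset.mem_filter, Finset.mem_univ, true_and] at hz ⊢
      exact center_le_cen _ hz
  · intro z hz
    obtain ⟨hzc, h0, hc0⟩ := mem_cls.mp hz
    have hset : Finset.bipartiteBelow (fun (h : G) (z : G) => Commute (h * x * h⁻¹) z)
        Finset.univ z = (Finset.univ.filter (fun g : G => g ∈ nrm H1 x hx)).map
          ⟨fun n => h0 * n, mul_right_injective h0⟩ := by
      ext h
      simp only [Finset.bipartiteBelow, Finset.mem_filter, Finset.mem_univ, true_and,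
        Finset.mem_map, Function.Embedding.coeFn_mk, mem_nrm]
      constructor
      · intro hc
        refine ⟨h0⁻¹ * h, ?_, by group⟩
        -- `h x h⁻¹` and `h0 x h0⁻¹` both commute with `z`
        have e1 : Commute (h * x * h⁻¹) (h0 * x * h0⁻¹) := H1 z hzc _ _ hc hc0
        have e2 : Commute (h0⁻¹ * (h * x * h⁻¹) * h0⁻¹⁻¹) (h0⁻¹ * (h0 * x * h0⁻¹) * h0⁻¹⁻¹) :=
          (Commute.conj_iff h0⁻¹).mpr e1
        rwa [conj_inv_conj, conj_conj] at e2
      · rintro ⟨n, hn, rfl⟩
        have e1 : Commute (h0 * (n * x * n⁻¹) * h0⁻¹) (h0 * x * h0⁻¹) :=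
          (Commute.conj_iff h0).mpr hn
        have e2 := H1 (h0 * x * h0⁻¹) (conj_not_mem_center hx h0) _ z e1 hc0.symm
        rwa [conj_conj] at e2
    rw [hset, Finset.card_map, ← card_eq_filter]

end Counting

end Cfsg.Agent.Lib.Lead.PrimDeg2
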