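import Mathlib
import Cfsg.Agent.Lib.Lead.PrimDeg2B

set_option autoImplicit false
set_option linter.unusedSectionVars false
set_option linter.unusedVariables false

/-!
# The index of the centre in a group with abelian, non-normal noncentral centralizers of index
at most two in their normalizers
-/

namespace Cfsg.Agent.Lib.Lead.PrimDeg2

open Subgroup

variable {G : Type*} [Group G] [Fintype G]

theorem card_nrm_le (H1 : CTc G)
    (H3 : ∀ x : G, x ∉ center G → ∀ n m : G, Commute (n * x * n⁻¹) x →
      Commute (m * x * m⁻¹) x → ¬ Commute n x → ¬ Commute m x → Commute (n * m) x)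
    {x : G} (hx : x ∉ center G) : Nat.card (nrm H1 x hx) ≤ 2 * Nat.card (cen x) := by
  classical
  by_cases hNC : ∀ m ∈ nrm H1 x hx, m ∈ cen x
  · have hle : nrm H1 x hx ≤ cen x := hNC
    have := Subgroup.card_le_of_le hle
    omega
  · push Not at hNC
    obtain ⟨n0, hn0, hn0c⟩ := hNC
    rw [card_eq_filter, card_eq_filter]
    have hsub : (Finset.univ.filter (fun g : G => g ∈ nrm H1 x hx)) ⊆
        (Finset.univ.filter (fun g : G => g ∈ cen x)) ∪
          (Finset.univ.filter (fun g : G => g ∈ cen x)).image (fun c => n0⁻¹ * c) := by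
      intro m hm
      simp only [Finset.mem_filter, Finset.mem_univ, true_and] at hm
      rw [Finset.mem_union]
      by_cases hmc : m ∈ cen x
      · left
        simp only [Finset.mem_filter, Finset.mem_univ, true_and]
        exact hmc
      · right
        rw [Finset.mem_image]
        refine ⟨n0 * m, ?_, by group⟩
        simp only [Finset.mem_filter, Finset.mem_univ, true_and]
        rw [mem_cen]
        exact H3 x hx n0 m hn0 hm hn0c hmc
    calc (Finset.univ.filter (fun g : G => g ∈ nrm H1 x hx)).card
        ≤ ((Finset.univ.filter (fun g : G => g ∈ cen x)) ∪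
          (Finset.univ.filter (fun g : G => g ∈ cen x)).image (fun c => n0⁻¹ * c)).card :=
          Finset.card_le_card hsub
      _ ≤ (Finset.univ.filter (fun g : G => g ∈ cen x)).card +
          ((Finset.univ.filter (fun g : G => g ∈ cen x)).image (fun c => n0⁻¹ * c)).card :=
          Finset.card_union_le _ _
      _ ≤ (Finset.univ.filter (fun g : G => g ∈ cen x)).card +
          (Finset.univ.filter (fun g : G => g ∈ cen x)).card :=
          Nat.add_le_add_left Finset.card_image_le _
      _ = 2 * (Finset.univ.filter (fun g : G => g ∈ cen x)).card := by ring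

theorem class_numbers (H1 : CTc G)
    (H2 : ∀ x : G, x ∉ center G → ∃ h : G, ¬ Commute (h * x * h⁻¹) x)
    (H3 : ∀ x : G, x ∉ center G → ∀ n m : G, Commute (n * x * n⁻¹) x →
      Commute (m * x * m⁻¹) x → ¬ Commute n x → ¬ Commute m x → Commute (n * m) x)
    {x : G} (hx : x ∉ center G) :
    ∃ n e b : ℕ, 2 ≤ n ∧ 1 ≤ b ∧ (e = 1 ∨ e = 2) ∧ (center G).index = n * e * (b + 1) ∧
      (cls x).card = Nat.card (center G) * (n * b) := by
  classical
  set z := Nat.card (center G) with hz
  have hzpos : 0 < z := Nat.card_pos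
  have hCpos : 0 < Nat.card (cen x) := Nat.card_pos
  have hNpos : 0 < Nat.card (nrm H1 x hx) := Nat.card_pos
  obtain ⟨a, ha⟩ : z ∣ Nat.card (cen x) := Subgroup.card_dvd_of_le (center_le_cen x)
  obtain ⟨e, he⟩ : Nat.card (cen x) ∣ Nat.card (nrm H1 x hx) :=
    Subgroup.card_dvd_of_le (cen_le_nrm H1 hx)
  obtain ⟨n, hn⟩ : Nat.card (nrm H1 x hx) ∣ Nat.card G := Subgroup.card_subgroup_dvd_card _
  -- `a ≥ 2`
  have hzC : z < Nat.card (cen x) := by
    by_contra hcon
    have hle : Nat.card (cen x) ≤ Nat.card (center G) := by omega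
    have heq := Subgroup.eq_of_le_of_card_ge (center_le_cen x) hle
    apply hx
    rw [heq, mem_cen]
  have ha2 : 2 ≤ a := by
    by_contra hcon
    have : a ≤ 1 := by omega
    have : z * a ≤ z * 1 := Nat.mul_le_mul_left z this
    omega
  -- `n ≥ 2`
  have hNG : Nat.card (nrm H1 x hx) ≠ Nat.card G := by
    intro heq
    have htop := Subgroup.eq_top_of_card_eq _ heq
    obtain ⟨h, hh⟩ := H2 x hx
    apply hh
    have : h ∈ nrm H1 x hx := by rw [htop]; exact Subgroup.mem_top h
    exact this
  have hn2 : 2 ≤ n := by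
    by_contra hcon
    have hn1 : n = 0 ∨ n = 1 := by omega
    rcases hn1 with rfl | rfl
    · have : 0 < Nat.card G := Nat.card_pos
      omega
    · apply hNG
      omega
  -- `e ∈ {1, 2}`
  have hle := card_nrm_le H1 H3 hx
  have he12 : e = 1 ∨ e = 2 := by
    have h0 : e ≠ 0 := by
      rintro rfl
      omega
    have h2 : e ≤ 2 := by
      by_contra hcon
      have : 3 ≤ e := by omega
      have : Nat.card (cen x) * 3 ≤ Nat.card (cen x) * e := Nat.mul_le_mul_left _ this
      omega
    omega
  obtain ⟨b, rfl⟩ : ∃ b, a = b + 1 := ⟨a - 1, by omega⟩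
  have hidx : (center G).index * z = Nat.card G := Subgroup.index_mul_card _
  refine ⟨n, e, b, hn2, by omega, he12, ?_, ?_⟩
  · have h1 : (center G).index * z = (n * e * (b + 1)) * z := by
      rw [hidx, hn, he, ha]
      ring
    exact Nat.eq_of_mul_eq_mul_right hzpos h1
  · have hcount := card_cls_mul H1 hx
    rw [hn] at hcount
    have h2 : Nat.card (cen x) - z = z * b := by
      rw [ha]
      have : z * (b + 1) = z * b + z := by ring
      omega
    rw [h2] at hcount
    have h3 : Nat.card (nrm H1 x hx) * (z * (n * b)) =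
        Nat.card (nrm H1 x hx) * (cls x).card := by
      rw [mul_comm _ (cls x).card, ← hcount]
      ring
    exact (Nat.eq_of_mul_eq_mul_left hNpos h3).symm

/-- The main group-theoretic counting theorem. -/
theorem index_center_of_CT (H1 : CTc G)
    (H2 : ∀ x : G, x ∉ center G → ∃ h : G, ¬ Commute (h * x * h⁻¹) x)
    (H3 : ∀ x : G, x ∉ center G → ∀ n m : G, Commute (n * x * n⁻¹) x →
      Commute (m * x * m⁻¹) x → ¬ Commute n x → ¬ Commute m x → Commute (n * m) x)
    (hne : ∃ x : G, x ∉ center G) :
    (center G).index = 12 ∨ (center G).index = 24 ∨ (center G).index = 60 := by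
  classical
  set z := Nat.card (center G) with hz
  have hzpos : 0 < z := Nat.card_pos
  have key : ∀ K ∈ (nonc G).image cls, ∃ n e b : ℕ, 2 ≤ n ∧ 1 ≤ b ∧ (e = 1 ∨ e = 2) ∧
      (center G).index = n * e * (b + 1) ∧ K.card = z * (n * b) := by
    intro K hK
    obtain ⟨x, hx, rfl⟩ := Finset.mem_image.mp hK
    exact class_numbers H1 H2 H3 (mem_nonc.mp hx)
  choose! n e b hk using key
  apply arith_main ((nonc G).image cls) n e b (center G).index
  · obtain ⟨x, hx⟩ := hne
    exact ⟨cls x, Finset.mem_image_of_mem _ (mem_nonc.mpr hx)⟩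
  · intro K hK
    obtain ⟨h1, h2, h3, h4, h5⟩ := hk K hK
    exact ⟨h1, h2, h3, h4⟩
  · have h1 := card_nonc (G := G)
    have h2 := card_nonc_eq_sum H1
    have h3 : ∑ K ∈ (nonc G).image cls, K.card = z * ∑ K ∈ (nonc G).image cls, n K * b K := by
      rw [Finset.mul_sum]
      apply Finset.sum_congr rfl
      intro K hK
      exact (hk K hK).2.2.2.2
    have hidx : (center G).index * z = Nat.card G := Subgroup.index_mul_card _
    rw [h2, h3, ← hidx] at h1
    have h4 : z * (1 + ∑ K ∈ (nonc G).image cls, n K * b K) = z * (center G).index := by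
      rw [mul_comm z (center G).index, ← h1]
      ring
    exact (Nat.eq_of_mul_eq_mul_left hzpos h4).symm

end Cfsg.Agent.Lib.Lead.PrimDeg2
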