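import Mathlib
import Cfsg.Prelude.Def_Characters
import Cfsg.Prelude.Def_Blocks
import Cfsg.Agent.Lib.helper3.NilpM3
import Cfsg.Agent.Lib.helper3.Central
import Cfsg.Agent.Lib.Lead.PrimDeg2C

set_option autoImplicit false
set_option linter.unusedSectionVars false
set_option linter.unusedVariables false
set_option linter.style.haveILetI false

/-!
# Primitive faithful characters of degree two: the linear algebra
-/

namespace Cfsg.Agent.Lib.Lead.PrimDeg2

open Cfsg Module Cfsg.Agent.Lib.helper3.IndFun Cfsg.Agent.Lib.helper3.CharBasic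
open Cfsg.Agent.Lib.helper3.Lin Cfsg.Agent.Lib.helper3.Irr

section LinAlg

variable {V : Type*} [AddCommGroup V] [Module ℂ V]
variable {I : Type*} [Fintype I] [DecidableEq I]

theorem coord_diag (v : Basis I ℂ V) (μ : I → ℂ) (X : Module.End ℂ V)
    (hX : ∀ i, X (v i) = μ i • v i) (w : V) (k : I) :
    v.coord k (X w) = μ k * v.coord k w := by
  have h : (v.coord k) ∘ₗ X = μ k • v.coord k := by
    apply v.ext
    intro j
    simp only [LinearMap.comp_apply, hX, map_smul, LinearMap.smul_apply, Basis.coord_apply,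
      Basis.repr_self, smul_eq_mul]
    by_cases hjk : j = k
    · subst hjk
      simp
    · simp [Finsupp.single_apply, hjk]
  have := LinearMap.congr_fun h w
  simpa using this

theorem diag_of_comm (v : Basis I ℂ V) (μ : I → ℂ) (hμ : Function.Injective μ)
    (X T : Module.End ℂ V) (hX : ∀ i, X (v i) = μ i • v i) (hT : ∀ w, T (X w) = X (T w))
    (i : I) : T (v i) = v.coord i (T (v i)) • v i := by
  have h0 : ∀ k, k ≠ i → v.coord k (T (v i)) = 0 := by
    intro k hk
    have h1 := coord_diag v μ X hX (T (v i)) k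
    rw [← hT, hX, map_smul, map_smul, smul_eq_mul] at h1
    have h2 : (μ i - μ k) * v.coord k (T (v i)) = 0 := by rw [sub_mul, h1, sub_self]
    rcases mul_eq_zero.mp h2 with h3 | h3
    · exact absurd (hμ (sub_eq_zero.mp h3)) (Ne.symm hk)
    · exact h3
  conv_lhs => rw [← v.sum_repr (T (v i))]
  rw [Finset.sum_eq_single i]
  · rfl
  · intro k _ hk
    have := h0 k hk
    rw [Basis.coord_apply] at this
    rw [this, zero_smul]
  · intro h
    exact absurd (Finset.mem_univ i) h

theorem comm_of_diag (v : Basis I ℂ V) (S T : Module.End ℂ V) (σ τ : I → ℂ)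
    (hS : ∀ i, S (v i) = σ i • v i) (hT : ∀ i, T (v i) = τ i • v i) : S * T = T * S := by
  apply v.ext
  intro i
  rw [Module.End.mul_apply, Module.End.mul_apply, hT, hS, map_smul, map_smul, hS, hT, smul_comm]

theorem comm_of_comm_diag (v : Basis I ℂ V) (μ : I → ℂ) (hμ : Function.Injective μ)
    (X S T : Module.End ℂ V) (hX : ∀ i, X (v i) = μ i • v i)
    (hS : ∀ w, S (X w) = X (S w)) (hT : ∀ w, T (X w) = X (T w)) : S * T = T * S :=
  comm_of_diag v S T _ _ (diag_of_comm v μ hμ X S hX hS) (diag_of_comm v μ hμ X T hX hT)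

theorem exists_eigen_data [FiniteDimensional ℂ V] (hV : finrank ℂ V = 2) (X : Module.End ℂ V)
    (m : ℕ) (hm : 0 < m) (hXm : X ^ m = 1) (hns : ∀ c : ℂ, X ≠ c • (1 : Module.End ℂ V)) :
    ∃ (J : Type) (_ : Fintype J) (_ : DecidableEq J) (v : Basis J ℂ V) (μ : J → ℂ),
      Function.Injective μ ∧ (∀ i, X (v i) = μ i • v i) ∧ Fintype.card J = 2 := by
  classical
  obtain ⟨J, hJ, v, μ, hf, -⟩ := exists_eigenbasis_of_pow_eq_one X m hm hXm
  have hcard : Fintype.card J = 2 := by rw [card_eq_finrank_of_basis v, hV]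
  refine ⟨J, hJ, inferInstance, v, μ, ?_, hf, hcard⟩
  intro a b hab
  by_contra hne
  have huniv : ({a, b} : Finset J) = Finset.univ :=
    Finset.eq_univ_of_card _ (by rw [Finset.card_pair hne, hcard])
  apply hns (μ a)
  apply v.ext
  intro i
  have hi : i ∈ ({a, b} : Finset J) := huniv ▸ Finset.mem_univ i
  rw [Finset.mem_insert, Finset.mem_singleton] at hi
  rcases hi with rfl | rfl
  · rw [hf]
    simp
  · rw [hf, hab]
    simp

theorem conj_diag_cases [FiniteDimensional ℂ V] (v : Basis I ℂ V) (μ : I → ℂ)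
    (hμ : Function.Injective μ)
    (hcard : Fintype.card I = 2) (X Y P Q : Module.End ℂ V) (hX : ∀ i, X (v i) = μ i • v i)
    (hPQ : P * Q = 1) (hQP : Q * P = 1) (hY : Y = P * X * Q) (hcomm : Y * X = X * Y) :
    Y = X ∨ Y = (∑ i, μ i) • (1 : Module.End ℂ V) - X := by
  have hYd : ∀ i, Y (v i) = v.coord i (Y (v i)) • v i := by
    apply diag_of_comm v μ hμ X Y hX
    intro w
    have := LinearMap.congr_fun hcomm w
    simpa using this
  set ν : I → ℂ := fun i => v.coord i (Y (v i)) with hν
  have hYd' : ∀ i, Y (v i) = ν i • v i := hYd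
  -- each `ν i` is an eigenvalue of `X`
  have hev : ∀ i, ∃ j, ν i = μ j := by
    intro i
    set w := Q (v i) with hw
    have hPw : P w = v i := by
      rw [hw, ← Module.End.mul_apply, hPQ, Module.End.one_apply]
    have hw0 : w ≠ 0 := by
      intro h0
      rw [h0, map_zero] at hPw
      exact v.ne_zero i hPw.symm
    have hXw : X w = ν i • w := by
      have h1 : X w = (Q * P) (X w) := by rw [hQP, Module.End.one_apply]
      rw [h1, Module.End.mul_apply, hw, ← map_smul, ← hYd' i, hY]
      rfl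
    have hk : ∃ k, v.coord k w ≠ 0 := by
      by_contra hcon
      push Not at hcon
      apply hw0
      apply v.ext_elem
      intro k
      have := hcon k
      rw [Basis.coord_apply] at this
      rw [this]
      simp
    obtain ⟨k, hk⟩ := hk
    refine ⟨k, ?_⟩
    have h2 := coord_diag v μ X hX w k
    rw [hXw, map_smul, smul_eq_mul] at h2
    exact mul_right_cancel₀ hk h2
  -- traces
  have htr : ∑ i, ν i = ∑ i, μ i := by
    rw [← trace_eq_sum_of_eigenbasis v ν Y hYd', ← trace_eq_sum_of_eigenbasis v μ X hX, hY,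
      LinearMap.trace_mul_cycle, hQP, one_mul]
  obtain ⟨a, b, hab, huniv⟩ := Finset.card_eq_two.mp (by rw [Finset.card_univ, hcard] :
    (Finset.univ : Finset I).card = 2)
  have hmem : ∀ i : I, i = a ∨ i = b := by
    intro i
    have hi : i ∈ (Finset.univ : Finset I) := Finset.mem_univ i
    rw [huniv, Finset.mem_insert, Finset.mem_singleton] at hi
    exact hi
  rw [huniv, Finset.sum_pair hab, Finset.sum_pair hab] at htr
  have hμab : μ a ≠ μ b := fun h => hab (hμ h)
  obtain ⟨ja, hja⟩ := hev a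
  obtain ⟨jb, hjb⟩ := hev b
  rcases hmem ja with rfl | rfl
  · rcases hmem jb with rfl | rfl
    · exfalso
      rw [hja, hjb] at htr
      exact hμab (add_left_cancel htr)
    · left
      apply v.ext
      intro i
      rcases hmem i with rfl | rfl
      · rw [hYd', hja, hX]
      · rw [hYd', hjb, hX]
  · rcases hmem jb with rfl | rfl
    · right
      rw [huniv, Finset.sum_pair hab]
      apply v.ext
      intro i
      rcases hmem i with rfl | rfl
      · rw [hYd', hja, LinearMap.sub_apply, LinearMap.smul_apply, Module.End.one_apply, hX,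
          add_smul, add_sub_cancel_left]
      · rw [hYd', hjb, LinearMap.sub_apply, LinearMap.smul_apply, Module.End.one_apply, hX,
          add_smul, add_sub_cancel_right]
    · exfalso
      rw [hja, hjb] at htr
      exact hμab (add_right_cancel htr).symm

end LinAlg

section Rep

variable {G : Type*} [Group G] [Fintype G] {V : Type*} [AddCommGroup V] [Module ℂ V]
  [FiniteDimensional ℂ V]

theorem rho_injective (ρ : Representation ℂ G V)
    (hfaith : ∀ g : G, ρ.character g = ρ.character 1 → g = 1) {a b : G} (h : ρ a = ρ b) :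
    a = b := by
  have h1 : ρ (a * b⁻¹) = LinearMap.id := by
    rw [map_mul, h, ← map_mul, mul_inv_cancel, map_one]
    rfl
  have h2 := (character_eq_finrank_iff ρ (a * b⁻¹)).mpr h1
  rw [← Representation.char_one ρ] at h2
  have h3 := hfaith _ h2
  exact mul_inv_eq_one.mp h3

theorem mem_center_of_scalar (ρ : Representation ℂ G V)
    (hfaith : ∀ g : G, ρ.character g = ρ.character 1 → g = 1) {x : G} {c : ℂ}
    (h : ρ x = c • (1 : Module.End ℂ V)) : x ∈ Subgroup.center G := by
  rw [Subgroup.mem_center_iff]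
  intro g
  apply rho_injective ρ hfaith
  rw [map_mul, map_mul, h, mul_smul_comm, smul_mul_assoc, mul_one, one_mul]

theorem not_scalar_of_not_mem_center (ρ : Representation ℂ G V)
    (hfaith : ∀ g : G, ρ.character g = ρ.character 1 → g = 1) {x : G}
    (hx : x ∉ Subgroup.center G) : ∀ c : ℂ, ρ x ≠ c • (1 : Module.End ℂ V) :=
  fun c h => hx (mem_center_of_scalar ρ hfaith h)

theorem rho_pow_orderOf (ρ : Representation ℂ G V) (x : G) : (ρ x) ^ orderOf x = 1 := by
  rw [← map_pow, pow_orderOf_eq_one, map_one]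

theorem comm_apply_of_commute (ρ : Representation ℂ G V) {x y : G} (h : Commute y x) (w : V) :
    ρ y (ρ x w) = ρ x (ρ y w) := by
  rw [← Module.End.mul_apply, ← Module.End.mul_apply, ← map_mul, ← map_mul, h.eq]

theorem ctc_of_rep (ρ : Representation ℂ G V) (hV : finrank ℂ V = 2)
    (hfaith : ∀ g : G, ρ.character g = ρ.character 1 → g = 1) : CTc G := by
  intro x hx y z hy hz
  obtain ⟨J, _, _, v, μ, hμ, hf, hcard⟩ := exists_eigen_data hV (ρ x) (orderOf x)
    (orderOf_pos x) (rho_pow_orderOf ρ x) (not_scalar_of_not_mem_center ρ hfaith hx)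
  have h1 := comm_of_comm_diag v μ hμ (ρ x) (ρ y) (ρ z) hf (comm_apply_of_commute ρ hy)
    (comm_apply_of_commute ρ hz)
  rw [← map_mul, ← map_mul] at h1
  exact rho_injective ρ hfaith h1

theorem h3_of_rep (ρ : Representation ℂ G V) (hV : finrank ℂ V = 2)
    (hfaith : ∀ g : G, ρ.character g = ρ.character 1 → g = 1) :
    ∀ x : G, x ∉ Subgroup.center G → ∀ n m : G, Commute (n * x * n⁻¹) x →
      Commute (m * x * m⁻¹) x → ¬ Commute n x → ¬ Commute m x → Commute (n * m) x := by
  intro x hx n m hn hm hnc hmc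
  obtain ⟨J, _, _, v, μ, hμ, hf, hcard⟩ := exists_eigen_data hV (ρ x) (orderOf x)
    (orderOf_pos x) (rho_pow_orderOf ρ x) (not_scalar_of_not_mem_center ρ hfaith hx)
  have hinv : ∀ k : G, ρ k * ρ k⁻¹ = 1 ∧ ρ k⁻¹ * ρ k = 1 := by
    intro k
    constructor
    · rw [← map_mul, mul_inv_cancel, map_one]
    · rw [← map_mul, inv_mul_cancel, map_one]
  have hcase : ∀ k : G, Commute (k * x * k⁻¹) x → ¬ Commute k x →
      ρ (k * x * k⁻¹) = (∑ i, μ i) • (1 : Module.End ℂ V) - ρ x := by
    intro k hk hkc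
    have h1 := conj_diag_cases v μ hμ hcard (ρ x) (ρ (k * x * k⁻¹)) (ρ k) (ρ k⁻¹) hf
      (hinv k).1 (hinv k).2 (by rw [map_mul, map_mul])
      (by rw [← map_mul, ← map_mul, hk.eq])
    rcases h1 with h1 | h1
    · exfalso
      apply hkc
      have h2 := rho_injective ρ hfaith h1
      show k * x = x * k
      calc k * x = (k * x * k⁻¹) * k := by group
        _ = x * k := by rw [h2]
    · exact h1
  have hYn := hcase n hn hnc
  have hYm := hcase m hm hmc
  have e1 : ρ (n * m * x * (n * m)⁻¹) = ρ n * ρ (m * x * m⁻¹) * ρ n⁻¹ := by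
    rw [← map_mul, ← map_mul]
    congr 1
    group
  have e2 : ρ (n * m * x * (n * m)⁻¹) = ρ x := by
    rw [e1, hYm, mul_sub, sub_mul, mul_smul_comm, smul_mul_assoc, mul_one, (hinv n).1,
      ← map_mul, ← map_mul, hYn, sub_sub_cancel]
  have e3 := rho_injective ρ hfaith e2
  show n * m * x = x * (n * m)
  calc n * m * x = (n * m * x * (n * m)⁻¹) * (n * m) := by group
    _ = x * (n * m) := by rw [e3]

end Rep

section Clifford

variable {G : Type*} [Group G] [Fintype G]

/-- An abelian normal subgroup is central, when `G` has a faithful primitive irreducible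
character. -/
theorem abelian_normal_le_center (χ : G → ℂ) (hχ : IsIrrCharacter G χ)
    (hfaith : ∀ g : G, χ g = χ 1 → g = 1)
    (hprim : ∀ H : Subgroup G, H ≠ ⊤ → ∀ θ : H → ℂ, IsCharacter H θ → χ ≠ indFun H θ)
    (A : Subgroup G) (hAn : A.Normal) (hAab : ∀ x ∈ A, ∀ y ∈ A, x * y = y * x) :
    A ≤ Subgroup.center G := by
  classical
  haveI := hAn
  letI : Fintype A := Fintype.ofFinite A
  have hχc := isCharacter_of_isIrrCharacter hχ
  have hres := isCharacter_restrict hχc A
  have hne0 : (fun a : A => χ a) ≠ 0 := by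
    intro h0
    have := congrFun h0 1
    exact apply_one_ne_zero hχ this
  obtain ⟨lam, hlam⟩ := exists_constituent hres hne0
  have hlam1 : (lam : A → ℂ) 1 = 1 :=
    apply_one_eq_one_of_comm (fun a b => Subtype.ext (hAab a a.2 b b.2)) lam.2
  set T := inertia A (lam : A → ℂ) with hTdef
  letI : Fintype T := Fintype.ofFinite T
  have hT : ∀ g : G, g ∈ T ↔ ∀ a : A,
      (lam : A → ℂ) ⟨g * a * g⁻¹, hAn.conj_mem a a.2 g⟩ = (lam : A → ℂ) a :=
    mem_inertia_iff A (lam : A → ℂ)
  have hAT : A ≤ T := le_inertia A (lam : A → ℂ)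
    (isClassFunction_of_isCharacter (isCharacter_of_isIrrCharacter lam.2))
  by_cases htop : T = ⊤
  · apply le_center_of_faithful_of_invariant A χ hχ hfaith (lam : A → ℂ) lam.2 hlam1 hlam
    intro g a
    exact (hT g).mp (htop ▸ Subgroup.mem_top g) a
  · exfalso
    obtain ⟨ψ, hψ, hψind, -⟩ :=
      clifford_corr_surjective A (lam : A → ℂ) lam.2 T hT hAT χ hχ hlam
    exact hprim T htop ψ (isCharacter_of_isIrrCharacter hψ) hψind.symm

theorem h2_of_prim (χ : G → ℂ) (hχ : IsIrrCharacter G χ)
    (hfaith : ∀ g : G, χ g = χ 1 → g = 1)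
    (hprim : ∀ H : Subgroup G, H ≠ ⊤ → ∀ θ : H → ℂ, IsCharacter H θ → χ ≠ indFun H θ)
    (H1 : CTc G) :
    ∀ x : G, x ∉ Subgroup.center G → ∃ h : G, ¬ Commute (h * x * h⁻¹) x := by
  intro x hx
  by_contra hall
  push Not at hall
  apply hx
  have hAn : (cen x).Normal := by
    constructor
    intro y hy g
    rw [mem_cen] at hy ⊢
    have h1 : Commute y (g⁻¹ * x * g⁻¹⁻¹) := H1 x hx y _ hy (hall g⁻¹)
    have h2 : Commute (g * y * g⁻¹) (g * (g⁻¹ * x * g⁻¹⁻¹) * g⁻¹) := (Commute.conj_iff g).mpr h1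
    have h3 : g * (g⁻¹ * x * g⁻¹⁻¹) * g⁻¹ = x := by group
    rwa [h3] at h2
  have hle := abelian_normal_le_center χ hχ hfaith hprim (cen x) hAn
    (fun y hy z hz => (H1 x hx y z hy hz).eq)
  exact hle (mem_cen.mpr (Commute.refl x))

/-- The main theorem: the centre has index `12`, `24` or `60`. -/
theorem index_center_of_primitive (χ : G → ℂ) (hχ : IsIrrCharacter G χ)
    (hfaith : ∀ g : G, χ g = χ 1 → g = 1) (h2 : Cfsg.charDegree χ = 2)
    (hprim : ∀ H : Subgroup G, H ≠ ⊤ → ∀ θ : H → ℂ, IsCharacter H θ → χ ≠ indFun H θ) :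
    (Subgroup.center G).index = 12 ∨ (Subgroup.center G).index = 24 ∨
      (Subgroup.center G).index = 60 := by
  classical
  obtain ⟨n, ρ, hirr, hρ⟩ := id hχ
  haveI := hirr
  have h1 : χ 1 = (n : ℂ) := by
    rw [← hρ, Representation.char_one]
    simp
  have hn : n = 2 := by
    have h3 : Cfsg.charDegree χ = n := by
      unfold Cfsg.charDegree
      rw [h1]
      simp
    omega
  subst hn
  have hV : finrank ℂ (Fin 2 → ℂ) = 2 := by simp
  have hfaith' : ∀ g : G, ρ.character g = ρ.character 1 → g = 1 := by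
    rw [hρ]
    exact hfaith
  have H1 : CTc G := ctc_of_rep ρ hV hfaith'
  have H3 := h3_of_rep ρ hV hfaith'
  have H2 := h2_of_prim χ hχ hfaith hprim H1
  apply index_center_of_CT H1 H2 H3
  by_contra hcon
  push Not at hcon
  have hab : ∀ a b : G, a * b = b * a := fun a b => (Subgroup.mem_center_iff.mp (hcon b) a)
  have := apply_one_eq_one_of_comm hab hχ
  rw [h1] at this
  norm_num at this

end Clifford

end Cfsg.Agent.Lib.Lead.PrimDeg2
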