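import Mathlib
import Cfsg.Agent.S0346
import Cfsg.Agent.S0727
import Cfsg.Agent.H9.PSL2MaxEven2
import Cfsg.Agent.Lib.Lead.PrimeDegC

/-!
# Permutation groups of prime degree `p` with `|N(P)| = 2p` (S4706): the group-theoretic ends

* `PrimeDegA/B/C`: `|P| = p`, `P` is generated by a full `p`-cycle, `C_G(P) = P`, `G` is transitive,
  `p ≥ 5` and `G` is simple when `P` is not normal (Frattini + Burnside transfer).
* here: a simple sharply 3-transitive group of prime degree `p` is `SL₂(2^a)` with `p = 2^a + 1`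
  (S0346 + S0727 + `PGL₂ ≃ PSL₂ ≃ SL₂` in characteristic two), and the reduction of S4706 to
  sharp 3-transitivity.
-/

set_option autoImplicit false
set_option linter.unusedSectionVars false
set_option linter.unusedVariables false

namespace Cfsg.Agent.Lib.Lead.PrimeDeg

open MulAction

section endgame

variable {α : Type*} [Fintype α] [DecidableEq α] {p : ℕ} [Fact p.Prime]

/-- three distinct points as an embedding of `Fin 3` -/
def emb3 (a b c : α) (hab : a ≠ b) (hbc : b ≠ c) (hac : a ≠ c) : Fin 3 ↪ α where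
  toFun := ![a, b, c]
  inj' := by
    intro i j h
    fin_cases i <;> fin_cases j <;> simp_all

theorem endgame (hp5 : 5 ≤ p) (hα : Fintype.card α = p) (G : Subgroup (Equiv.Perm α))
    (hsimple : IsSimpleGroup G) (h3 : IsMultiplyPretransitive G α 3)
    (hsharp : ∀ x : Fin 3 ↪ α, stabilizer G x = ⊥) :
    ∃ (a : ℕ) (F : Type) (_ : Field F) (_ : Fintype F), p = 2 ^ a + 1 ∧ Fintype.card F = 2 ^ a ∧
      Nonempty (G ≃* Matrix.SpecialLinearGroup (Fin 2) F) := by
  classical
  have hp : p.Prime := Fact.out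
  have h2 : IsMultiplyPretransitive G α 2 :=
    isMultiplyPretransitive_of_le (n := 3) (by norm_num)
      (by rw [Nat.card_eq_fintype_card, hα]; omega)
  -- four distinct points
  obtain ⟨a, b, c, d, hab, hac, had, hbc, hbd, hcd⟩ :
      ∃ a b c d : α, a ≠ b ∧ a ≠ c ∧ a ≠ d ∧ b ≠ c ∧ b ≠ d ∧ c ≠ d := by
    have h4 : 4 ≤ Fintype.card α := by rw [hα]; omega
    obtain ⟨f⟩ : Nonempty (Fin 4 ↪ α) := by
      apply Function.Embedding.nonempty_of_card_le
      simpa using h4
    refine ⟨f 0, f 1, f 2, f 3, ?_, ?_, ?_, ?_, ?_, ?_⟩ <;>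
      · intro h
        have := f.injective h
        revert this
        decide
  -- an element fixing two points
  obtain ⟨g, hg⟩ := (h3.exists_smul_eq (emb3 a b c hab hbc hac) (emb3 a b d hab hbd had))
  have hga : g • a = a := by
    have := congrArg (fun e : Fin 3 ↪ α => e 0) hg
    exact this
  have hgb : g • b = b := by
    have := congrArg (fun e : Fin 3 ↪ α => e 1) hg
    exact this
  have hgc : g • c = d := by
    have := congrArg (fun e : Fin 3 ↪ α => e 2) hg
    exact this
  have hg1 : g ≠ 1 := by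
    intro h
    rw [h, one_smul] at hgc
    exact hcd hgc
  have hZ : Cfsg.IsZassenhausGroup G α := by
    refine ⟨inferInstance, h2, ?_, ⟨g, hg1, a, b, hab, hga, hgb⟩, ?_⟩
    · intro k x y z hxy hyz hxz hkx hky hkz
      have hmem : k ∈ stabilizer G (emb3 x y z hxy hyz hxz) := by
        rw [mem_stabilizer_iff]
        ext i
        fin_cases i
        · exact hkx
        · exact hky
        · exact hkz
      rw [hsharp] at hmem
      exact hmem
    · intro N hN htr
      rcases hN.eq_bot_or_eq_top with h | h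
      · exfalso
        subst h
        obtain ⟨k, hk⟩ := htr.exists_smul_eq a b
        have : (k : G) = 1 := k.2
        have hk' : (k : G) • a = b := hk
        rw [this, one_smul] at hk'
        exact hab hk'
      · subst h
        refine ⟨a, ?_⟩
        intro hbot
        have hmem : (⟨g, Subgroup.mem_top g⟩ : (⊤ : Subgroup G)) ∈
            stabilizer (⊤ : Subgroup G) a := by
          rw [mem_stabilizer_iff]
          exact hga
        rw [hbot, Subgroup.mem_bot] at hmem
        exact hg1 (congrArg Subtype.val hmem)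
  have hpp := Cfsg.Agent.S0346.result hZ
  rw [hα] at hpp
  obtain ⟨r, k, hr, hk, hrk⟩ := (isPrimePow_nat_iff _).1 hpp
  have hodd : Odd p := hp.odd_of_ne_two (by omega)
  have heven : 2 ∣ p - 1 := by
    obtain ⟨m, hm⟩ := hodd
    omega
  have hr2 : r = 2 := by
    rw [← hrk] at heven
    have := (Nat.Prime.dvd_of_dvd_pow Nat.prime_two heven)
    exact ((Nat.prime_dvd_prime_iff_eq Nat.prime_two hr).1 this).symm
  subst hr2
  have hα' : Fintype.card α = 2 ^ k + 1 := by rw [hα]; omega
  obtain ⟨F, hF1, hF2, hFcard, ⟨e⟩⟩ := Cfsg.Agent.S0727.result (f := k) hk hα' G h3 hsharp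
  have h20 : (2 : F) = 0 := by
    have h1 : ((Fintype.card F : ℕ) : F) = 0 := Nat.cast_card_eq_zero F
    rw [hFcard] at h1
    push_cast at h1
    exact pow_eq_zero_iff (by omega) |>.1 h1
  obtain ⟨e2⟩ := Cfsg.Agent.H9.PSL2MaxEven.pgl_equiv (K := F) h20
  refine ⟨k, F, hF1, hF2, by omega, hFcard, ⟨?_⟩⟩
  exact (e.trans e2.symm).trans (Cfsg.Agent.H9.PSL2MaxEven.slEquiv h20).symm

end endgame


section reduction

variable {α : Type*} [Fintype α] [DecidableEq α] {p : ℕ} [Fact p.Prime]

/-- S4706 reduced to: if `G` is simple (and `p ≥ 5`) then `G` is sharply 3-transitive. -/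
theorem reduction (hp : 2 < p) (hα : Fintype.card α = p) (G : Subgroup (Equiv.Perm α))
    (P : Sylow p G)
    (hN : Nat.card (Subgroup.normalizer ((P : Subgroup G) : Set G)) = 2 * p)
    (hmain : IsSimpleGroup G → 5 ≤ p →
      IsMultiplyPretransitive G α 3 ∧ ∀ x : Fin 3 ↪ α, stabilizer G x = ⊥) :
    (P : Subgroup G).Normal ∨ ∃ (a : ℕ) (F : Type) (_ : Field F) (_ : Fintype F),
      p = 2 ^ a + 1 ∧ Fintype.card F = 2 ^ a ∧
      Nonempty (G ≃* Matrix.SpecialLinearGroup (Fin 2) F) := by
  by_cases h : (P : Subgroup G).Normal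
  · exact Or.inl h
  right
  have hs := simple_of_not_normal hp hα G P hN h
  have h5 := five_le_of_not_normal hp hα G P hN h
  obtain ⟨h3, hsharp⟩ := hmain hs h5
  exact endgame h5 hα G hs h3 hsharp

end reduction

end Cfsg.Agent.Lib.Lead.PrimeDeg
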