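import Mathlib

/-!
# Lifting `p`-subgroups through a central extension with finite kernel of order prime to `p` (lead)
-/

set_option autoImplicit false

namespace Cfsg.Agent.ProjLift

/-- an element of `p`-power order -/
def IsPElt {G : Type*} [Group G] (p : ℕ) (x : G) : Prop := ∃ k : ℕ, x ^ p ^ k = 1

theorem isPElt_one {G : Type*} [Group G] (p : ℕ) : IsPElt p (1 : G) := ⟨0, by simp⟩

theorem IsPElt.pow_of_le {G : Type*} [Group G] {p : ℕ} {x : G} {k l : ℕ} (h : x ^ p ^ k = 1)
    (hkl : k ≤ l) : x ^ p ^ l = 1 := by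
  obtain ⟨d, rfl⟩ := Nat.exists_eq_add_of_le hkl
  rw [pow_add, pow_mul, h, one_pow]

section

variable {E Δ : Type*} [Group E] [Group Δ] (π : E →* Δ)

/-- elements of `p`-power order over the same element are equal -/
theorem lift_unique (hc : π.ker ≤ Subgroup.center E) [Finite π.ker] (p : ℕ)
    (hcop : (Nat.card π.ker).Coprime p) (x₁ x₂ : E) (h : π x₁ = π x₂)
    (h1 : IsPElt p x₁) (h2 : IsPElt p x₂) : x₁ = x₂ := by
  obtain ⟨k₁, h1⟩ := h1
  obtain ⟨k₂, h2⟩ := h2
  have hz : x₁⁻¹ * x₂ ∈ π.ker := by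
    rw [MonoidHom.mem_ker, map_mul, map_inv, h, inv_mul_cancel]
  have hzc : x₁⁻¹ * x₂ ∈ Subgroup.center E := hc hz
  set z := x₁⁻¹ * x₂ with hzdef
  have hx2 : x₂ = x₁ * z := by rw [hzdef, mul_inv_cancel_left]
  have hcomm : Commute x₁ z := (Subgroup.mem_center_iff.1 hzc x₁)
  set k := max k₁ k₂
  have e1 : x₁ ^ p ^ k = 1 := IsPElt.pow_of_le h1 (le_max_left _ _)
  have e2 : x₂ ^ p ^ k = 1 := IsPElt.pow_of_le h2 (le_max_right _ _)
  have e3 : z ^ p ^ k = 1 := by
    rw [hx2, hcomm.mul_pow, e1, one_mul] at e2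
    exact e2
  have d1 : orderOf z ∣ p ^ k := orderOf_dvd_of_pow_eq_one e3
  have d2 : orderOf z ∣ Nat.card π.ker := by
    have : orderOf (⟨z, hz⟩ : π.ker) ∣ Nat.card π.ker := orderOf_dvd_natCard _
    rwa [Subgroup.orderOf_mk] at this
  have d3 : orderOf z ∣ 1 := by
    have hc' : (Nat.card π.ker).Coprime (p ^ k) := Nat.Coprime.pow_right k hcop
    have := Nat.dvd_gcd d2 d1
    rwa [hc'.gcd_eq_one] at this
  have hz1 : z = 1 := orderOf_eq_one_iff.1 (Nat.dvd_one.1 d3)
  rw [hx2, hz1, mul_one]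

/-- a finite `p`-subgroup lifts through a central extension with finite kernel of order prime
to `p` -/
theorem exists_section (hπ : Function.Surjective π) (hc : π.ker ≤ Subgroup.center E)
    [Finite π.ker] (p : ℕ) [hp : Fact p.Prime] (hcop : (Nat.card π.ker).Coprime p)
    (P : Subgroup Δ) [Finite P] (hP : IsPGroup p P) :
    ∃ σ : P →* E, (∀ x : P, π (σ x) = x) ∧ ∀ x : P, IsPElt p (σ x) := by
  classical
  -- the preimage is finite
  let f : P.comap π →* P := π.subgroupComap P
  have hf : Function.Surjective f := by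
    rintro ⟨x, hx⟩
    obtain ⟨e, rfl⟩ := hπ x
    exact ⟨⟨e, hx⟩, rfl⟩
  have hfin : Finite (P.comap π) := by
    let s : P → P.comap π := Function.surjInv hf
    have hs : ∀ x, f (s x) = x := Function.surjInv_eq hf
    let g : P.comap π → P × π.ker := fun e => (f e, ⟨(e : E) * ((s (f e) : P.comap π) : E)⁻¹, by
      rw [MonoidHom.mem_ker, map_mul, map_inv, mul_inv_eq_one]
      have := congrArg (Subtype.val) (hs (f e))
      exact this.symm⟩)
    apply Finite.of_injective g
    intro e e' h
    have h1 : f e = f e' := congrArg Prod.fst h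
    have h2 := congrArg (fun x => ((Prod.snd x : π.ker) : E)) h
    simp only [g] at h2
    rw [h1] at h2
    exact Subtype.ext (mul_right_cancel h2)
  let Q : Sylow p (P.comap π) := default
  have hQidx : ¬ p ∣ (Q : Subgroup (P.comap π)).index := Q.not_dvd_index
  have hmap : (Q : Subgroup (P.comap π)).map f = ⊤ := by
    have d1 : ((Q : Subgroup (P.comap π)).map f).index ∣ (Q : Subgroup (P.comap π)).index :=
      Subgroup.index_map_dvd _ hf
    have d2 : ((Q : Subgroup (P.comap π)).map f).index ∣ Nat.card P := Subgroup.index_dvd_card _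
    obtain ⟨a, ha⟩ := IsPGroup.iff_card.1 hP
    rw [ha] at d2
    obtain ⟨b, -, hb⟩ := (Nat.dvd_prime_pow hp.out).1 d2
    rw [← Subgroup.index_eq_one]
    rcases Nat.eq_zero_or_pos b with rfl | hbpos
    · rw [hb, pow_zero]
    · exfalso
      apply hQidx
      refine dvd_trans ?_ d1
      rw [hb]
      exact dvd_pow_self p hbpos.ne'
  have hQp : ∀ x : P.comap π, x ∈ (Q : Subgroup (P.comap π)) → IsPElt p (x : E) := by
    intro x hx
    obtain ⟨k, hk⟩ := Q.isPGroup' ⟨x, hx⟩
    refine ⟨k, ?_⟩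
    have := congrArg (fun y : (Q : Subgroup (P.comap π)) => ((y : P.comap π) : E)) hk
    simpa using this
  -- the restriction to `Q` is bijective
  let fQ : (Q : Subgroup (P.comap π)) →* P := f.comp (Q : Subgroup (P.comap π)).subtype
  have hinj : Function.Injective fQ := by
    rw [injective_iff_map_eq_one]
    intro x hx
    have h1 : π ((x : P.comap π) : E) = π 1 := by
      rw [map_one]
      exact congrArg Subtype.val hx
    have := lift_unique π hc p hcop _ _ h1 (hQp x x.2) (isPElt_one p)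
    exact Subtype.ext (Subtype.ext this)
  have hsurj : Function.Surjective fQ := by
    intro x
    have : x ∈ (Q : Subgroup (P.comap π)).map f := by rw [hmap]; exact Subgroup.mem_top x
    obtain ⟨y, hy, rfl⟩ := this
    exact ⟨⟨y, hy⟩, rfl⟩
  let e : (Q : Subgroup (P.comap π)) ≃* P := MulEquiv.ofBijective fQ ⟨hinj, hsurj⟩
  refine ⟨((P.comap π).subtype.comp (Q : Subgroup (P.comap π)).subtype).comp e.symm.toMonoidHom,
    ?_, ?_⟩
  · intro x
    have h1 : fQ (e.symm x) = x := e.apply_symm_apply x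
    exact congrArg Subtype.val h1
  · intro x
    exact hQp _ (e.symm x).2

end

end Cfsg.Agent.ProjLift
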