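import Cfsg.Agent.Lib.Lead.ProjLiftA
import Cfsg.Agent.Lib.Helper5.UC.Perfect
import Mathlib

/-!
# Finiteness of a perfect central extension of a finite group (lead)
-/

set_option autoImplicit false

namespace Cfsg.Agent.ProjLift

open scoped commutatorElement
open Cfsg.Agent.Lib.Helper5.UC

section

variable {E M : Type*} [Group E] [Group M]

/-- Schur: a perfect group which is central over a finite group is finite -/
theorem finite_of_perfect_central [Finite M] (Ψ : E →* M)
    (hc : ∀ z : E, Ψ z = 1 → ∀ e : E, z * e = e * z) (hperf : commutator E = ⊤) : Finite E := by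
  classical
  let s : M → E := fun m => if h : ∃ e, Ψ e = m then h.choose else 1
  have hs : ∀ e : E, Ψ (s (Ψ e)) = Ψ e := by
    intro e
    have h : ∃ e', Ψ e' = Ψ e := ⟨e, rfl⟩
    show Ψ (if h : ∃ e', Ψ e' = Ψ e then h.choose else 1) = Ψ e
    rw [dif_pos h]
    exact h.choose_spec
  have hfin : (commutatorSet E).Finite := by
    apply Set.Finite.subset (Set.finite_range fun x : M × M => ⁅s x.1, s x.2⁆)
    rintro g ⟨a, b, rfl⟩
    refine ⟨(Ψ a, Ψ b), ?_⟩
    exact comm_congr Ψ hc (hs a) (hs b)
  have : Finite (commutatorSet E) := hfin.to_subtype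
  have : Finite (commutator E) := inferInstance
  have : Finite (⊤ : Subgroup E) := by rw [← hperf]; infer_instance
  exact Finite.of_equiv _ Subgroup.topEquiv.toEquiv

/-- a finite subgroup without elements of order `p` has order prime to `p` -/
theorem coprime_card_of_no_torsion (p : ℕ) [hp : Fact p.Prime] (H : Subgroup E) [Finite H]
    (h : ∀ z ∈ H, z ^ p = 1 → z = 1) : (Nat.card H).Coprime p := by
  rw [Nat.coprime_comm, Nat.Prime.coprime_iff_not_dvd hp.out]
  intro hdvd
  obtain ⟨z, hz⟩ := exists_prime_orderOf_dvd_card' p hdvd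
  have h1 : (z : E) ^ p = 1 := by
    have : z ^ p = 1 := by rw [← hz]; exact pow_orderOf_eq_one z
    exact congrArg Subtype.val this
  have h2 : (z : E) = 1 := h z z.2 h1
  have h3 : z = 1 := Subtype.ext h2
  rw [h3, orderOf_one] at hz
  exact hp.out.one_lt.ne hz

end

end Cfsg.Agent.ProjLift
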