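import Cfsg.Agent.Lib.Lead.ProjLiftB
import Cfsg.Agent.Lib.Helper5.UC.Main
import Mathlib

/-!
# Sections of central extensions of the group presented by (R1), (R2) over a finite field, with
finite kernel of order prime to the characteristic (lead)
-/

set_option autoImplicit false

namespace Cfsg.Agent.ProjLift

open Cfsg.Lie Cfsg.Agent.Lib.Helper5.Chev Cfsg.Agent.Lib.Helper5.St Cfsg.Agent.Lib.Helper5.Tw
open Cfsg.Agent.Lib.Helper5.UC

section

variable {K : Type*} [Field K] {D : ChevalleyDatum} {Γ : Type*} [Group Γ] (R : RData K D Γ)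

theorem X_pow (r : ℕ) (hr : r < D.nroots) (t : K) (n : ℕ) : R.X r t ^ n = R.X r (n • t) := by
  induction n with
  | zero => rw [pow_zero, zero_smul, R.X_zero r hr]
  | succ n ih => rw [pow_succ, ih, R.add r hr, succ_nsmul]

theorem XS_finite [Finite K] (r : ℕ) (hr : r < D.nroots) : Finite (R.XS r) := by
  have h : ((R.XS r : Subgroup Γ) : Set Γ) = Set.range fun t : K => R.X r t := by
    ext g
    rw [SetLike.mem_coe, R.mem_XS_iff r hr, Set.mem_range]
    constructor
    · rintro ⟨t, rfl⟩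
      exact ⟨t, rfl⟩
    · rintro ⟨t, rfl⟩
      exact ⟨t, rfl⟩
  have : ((R.XS r : Subgroup Γ) : Set Γ).Finite := by
    rw [h]
    exact Set.finite_range _
  exact this.to_subtype

theorem XS_isPGroup (p : ℕ) [CharP K p] (r : ℕ) (hr : r < D.nroots) : IsPGroup p (R.XS r) := by
  rintro ⟨g, hg⟩
  obtain ⟨t, rfl⟩ := (R.mem_XS_iff r hr g).1 hg
  refine ⟨1, Subtype.ext ?_⟩
  show R.X r t ^ p ^ 1 = 1
  rw [pow_one, X_pow R r hr, nsmul_eq_mul, CharP.cast_eq_zero, zero_mul, R.X_zero r hr]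

theorem UL_finite [Finite K] : ∀ L : List ℕ, GoodL D L → Finite (R.UL L)
  | [], _ => by
    rw [R.UL_nil]
    infer_instance
  | r :: B, hg => by
    have h1 := XS_finite R r hg.1.1
    have h2 := UL_finite B hg.2
    have h : ((R.UL (r :: B) : Subgroup Γ) : Set Γ).Finite := by
      rw [R.UL_cons, Subgroup.coe_mul_of_left_le_normalizer_right _ _ (R.XS_le_normalizer_UL r B hg)]
      exact Set.Finite.mul (Set.toFinite _) (Set.toFinite _)
    exact h.to_subtype

theorem UL_isPGroup (p : ℕ) [CharP K p] : ∀ L : List ℕ, GoodL D L → IsPGroup p (R.UL L)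
  | [], _ => by
    rw [R.UL_nil]
    exact IsPGroup.of_bot
  | r :: B, hg => by
    rw [R.UL_cons]
    exact IsPGroup.to_sup_of_normal_right' (XS_isPGroup R p r hg.1.1) (UL_isPGroup p B hg.2)
      (R.XS_le_normalizer_UL r B hg)

theorem XS_le_UL (L : List ℕ) (r : ℕ) (hr : r ∈ L) : R.XS r ≤ R.UL L := by
  unfold RData.XS RData.UL
  apply Subgroup.closure_mono
  rintro g ⟨t, rfl⟩
  exact ⟨r, hr, t, rfl⟩

theorem wordG_hom {E : Type*} [Group E] (Y : ℕ → K → E) (L : List ℕ) (σ : R.UL L →* E)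
    (hσ : ∀ r (hr : r ∈ L) (t : K), σ ⟨R.X r t, R.X_mem_UL L r hr t⟩ = Y r t)
    (w : List (ℕ × K)) (hw : ∀ q ∈ w, q.1 ∈ L) :
    wordG Y w = σ ⟨wordG R.X w, R.wordG_mem_UL L w hw⟩ := by
  induction w with
  | nil =>
    have : (⟨wordG R.X [], R.wordG_mem_UL L [] hw⟩ : R.UL L) = 1 := Subtype.ext (wordG_nil R.X)
    rw [this, map_one]
    rfl
  | cons a w ih =>
    have hw' : ∀ q ∈ w, q.1 ∈ L := fun q hq => hw q (List.mem_cons_of_mem _ hq)
    have ha : a.1 ∈ L := hw a List.mem_cons_self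
    have : (⟨wordG R.X (a :: w), R.wordG_mem_UL L (a :: w) hw⟩ : R.UL L)
        = ⟨R.X a.1 a.2, R.X_mem_UL L a.1 ha a.2⟩ * ⟨wordG R.X w, R.wordG_mem_UL L w hw'⟩ :=
      Subtype.ext (wordG_cons _ a w)
    rw [this, map_mul, hσ a.1 ha a.2, ← ih hw', wordG_cons]

end

section

variable {K : Type*} [Field K] [Finite K] {D : ChevalleyDatum}
  (hD : D ∈ [chevG2, chevB2, chevD4, chevF4, chevE6, chevE7, chevE8])
  {E : Type*} [Group E] (π : E →* D.SteinbergCover K) (hπ : Function.Surjective π)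
  (hc : π.ker ≤ Subgroup.center E) [Finite π.ker] (p : ℕ) [hp : Fact p.Prime] [CharP K p]
  (hcop : (Nat.card π.ker).Coprime p)

include hπ hc hcop

/-- the lifts of the generators -/
theorem exists_Y : ∃ Y : ℕ → K → E, (∀ r < D.nroots, ∀ t : K, π (Y r t) = (coverRData (K := K) hD).X r t) ∧
    (∀ r < D.nroots, ∀ t : K, IsPElt p (Y r t)) := by
  classical
  have key : ∀ r < D.nroots, ∃ y : K → E, (∀ t : K, π (y t) = (coverRData (K := K) hD).X r t) ∧
      ∀ t : K, IsPElt p (y t) := by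
    intro r hr
    have := XS_finite (coverRData (K := K) hD) r hr
    obtain ⟨σ, h1, h2⟩ := exists_section π hπ hc p hcop _ (XS_isPGroup (coverRData (K := K) hD) p r hr)
    have hm : ∀ t : K, (coverRData (K := K) hD).X r t ∈ (coverRData (K := K) hD).XS r := fun t =>
      ((coverRData (K := K) hD).mem_XS_iff r hr _).2 ⟨t, rfl⟩
    exact ⟨fun t => σ ⟨_, hm t⟩, fun t => h1 ⟨_, hm t⟩, fun t => h2 ⟨_, hm t⟩⟩
  refine ⟨fun r => if h : r < D.nroots then (key r h).choose else fun _ => 1, ?_, ?_⟩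
  · intro r hr t
    simp only [dif_pos hr]
    exact (key r hr).choose_spec.1 t
  · intro r hr t
    simp only [dif_pos hr]
    exact (key r hr).choose_spec.2 t

/-- on a good list the lifts of the generators are the values of a homomorphism -/
theorem exists_hom_UL (Y : ℕ → K → E)
    (hY1 : ∀ r < D.nroots, ∀ t : K, π (Y r t) = (coverRData (K := K) hD).X r t)
    (hY2 : ∀ r < D.nroots, ∀ t : K, IsPElt p (Y r t)) (L : List ℕ) (hg : GoodL D L) :
    ∃ σ : (coverRData (K := K) hD).UL L →* E, ∀ r (hr : r ∈ L) (t : K),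
      σ ⟨(coverRData (K := K) hD).X r t, (coverRData (K := K) hD).X_mem_UL L r hr t⟩ = Y r t := by
  have := UL_finite (coverRData (K := K) hD) L hg
  obtain ⟨σ, h1, h2⟩ := exists_section π hπ hc p hcop _ (UL_isPGroup (coverRData (K := K) hD) p L hg)
  refine ⟨σ, fun r hr t => ?_⟩
  have hlt := RData.goodL_lt hg r hr
  apply lift_unique π hc p hcop _ _ _ (h2 _) (hY2 r hlt t)
  rw [h1, hY1 r hlt t]

include hD in
/-- the section -/
theorem exists_section_cover {T : FD} (hA : T.Agrees D)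
    (hgood : ∀ r < D.nroots, ∀ s < D.nroots, s ≠ r → s ≠ D.neg r →
      GoodL D (r :: s :: (D.commTerms r s).map fun c => c.1)) :
    ∃ τ : D.SteinbergCover K →* E, π.comp τ = MonoidHom.id (D.SteinbergCover K) := by
  obtain ⟨Y, hY1, hY2⟩ := exists_Y hD π hπ hc p hcop
  have h1 : ∀ r < D.nroots, Rel1 Y r := by
    intro r hr t u
    have hg : GoodL D [r] := ⟨⟨hr, fun s hs => absurd hs List.not_mem_nil⟩, trivial⟩
    obtain ⟨σ, hσ⟩ := exists_hom_UL hD π hπ hc p hcop Y hY1 hY2 [r] hg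
    have hr' : r ∈ [r] := List.mem_singleton.2 rfl
    rw [← hσ r hr' t, ← hσ r hr' u, ← hσ r hr' (t + u), ← map_mul]
    congr 1
    exact Subtype.ext ((coverRData (K := K) hD).add r hr t u)
  have h2 : ∀ r < D.nroots, ∀ s < D.nroots, s ≠ r → s ≠ D.neg r → Rel2 Y D r s := by
    intro r hr s hs hne hneg t u
    have hg := hgood r hr s hs hne hneg
    obtain ⟨σ, hσ⟩ := exists_hom_UL hD π hπ hc p hcop Y hY1 hY2 _ hg
    have hr' : r ∈ (r :: s :: (D.commTerms r s).map fun c => c.1) := List.mem_cons_self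
    have hs' : s ∈ (r :: s :: (D.commTerms r s).map fun c => c.1) :=
      List.mem_cons_of_mem _ List.mem_cons_self
    have hw : ∀ q ∈ D.commWord K r s t u, q.1 ∈ (r :: s :: (D.commTerms r s).map fun c => c.1) := by
      intro q hq
      obtain ⟨c, hc', e⟩ := RData.commWord_mem r s t u q hq
      rw [e]
      exact List.mem_cons_of_mem _ (List.mem_cons_of_mem _ (List.mem_map.2 ⟨c, hc', rfl⟩))
    rw [wordG_hom (coverRData (K := K) hD) Y _ σ hσ _ hw, ← hσ r hr' t, ← hσ s hs' u, ← map_mul, ← map_mul, ← map_mul]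
    congr 1
    exact Subtype.ext ((coverRData (K := K) hD).comm r hr s hs hne hneg t u)
  obtain ⟨τ, hτ⟩ := exists_hom_of_rel Y hA h1 h2
  refine ⟨τ, ?_⟩
  apply MonoidHom.eq_of_eqOn_dense (coverRData (K := K) hD).gen
  rintro g ⟨r, hr, t, rfl⟩
  show π (τ ((coverRData (K := K) hD).X r t)) = (coverRData (K := K) hD).X r t
  rw [coverRData_X, hτ r hr t, hY1 r hr t, coverRData_X]

end

end Cfsg.Agent.ProjLift
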