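import Cfsg.Agent.Lib.Lead.ProjLiftC
import Mathlib

/-!
# Every pair of non-opposite roots spans a good list (lead)
-/

set_option autoImplicit false
set_option maxRecDepth 100000

namespace Cfsg.Agent.ProjLift

open Cfsg.Lie Cfsg.Agent.Lib.Helper5.Chev Cfsg.Agent.Lib.Helper5.St Cfsg.Agent.Lib.Helper5.Tw

/-- the list of a pair of roots and of the roots of the terms of its commutator formula -/
def pairList (T : FD) (r s : ℕ) : List ℕ := r :: s :: (T.commTerms r s).map fun c => c.1

/-- boolean check that the lists of all pairs with first root in a range are good -/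
def pairsGoodb (T : FD) (lo len : ℕ) : Bool :=
  (List.range' lo len).all fun r => (List.range T.nroots).all fun s =>
    Nat.beq s r || Nat.beq s (T.neg r) || goodb T (pairList T r s)

/-- the property checked -/
def PairsGood (D : ChevalleyDatum) : Prop :=
  ∀ r < D.nroots, ∀ s < D.nroots, s ≠ r → s ≠ D.neg r →
    GoodL D (r :: s :: (D.commTerms r s).map fun c => c.1)

theorem pairsGood_spec {T : FD} {D : ChevalleyDatum} (hA : T.Agrees D) (lo len : ℕ)
    (h : pairsGoodb T lo len = true) (r : ℕ) (h1 : lo ≤ r) (h2 : r < lo + len)
    (hr : r < D.nroots) (s : ℕ) (hs : s < D.nroots) (hne : s ≠ r) (hneg : s ≠ D.neg r) :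
    GoodL D (r :: s :: (D.commTerms r s).map fun c => c.1) := by
  unfold pairsGoodb at h
  rw [List.all_eq_true] at h
  have := h r (by rw [List.mem_range'_1]; exact ⟨h1, h2⟩)
  rw [List.all_eq_true] at this
  have := this s (List.mem_range.2 (by rw [hA.nroots_eq]; exact hs))
  rw [Bool.or_eq_true, Bool.or_eq_true, FD.nbeq, FD.nbeq] at this
  rcases this with (h | h) | h
  · exact absurd h hne
  · rw [← FD.neg_eq' hA r hr] at h
    exact absurd h hneg
  · rw [FD.commTerms_eq hA r s hr hs]
    exact goodL_of_check hA _ h

theorem pairsGood_all {T : FD} {D : ChevalleyDatum} (hA : T.Agrees D) (step k : ℕ)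
    (hstep : 0 < step) (hn : D.nroots ≤ k * step)
    (h : ∀ q < k, pairsGoodb T (q * step) step = true) : PairsGood D := by
  intro r hr s hs hne hneg
  have hq : r / step < k := by
    rw [Nat.div_lt_iff_lt_mul hstep]
    omega
  have h1 : r / step * step ≤ r := Nat.div_mul_le_self r step
  have h2 : r < r / step * step + step := by
    have := Nat.lt_div_mul_add hstep (a := r)
    omega
  exact pairsGood_spec hA _ step (h _ hq) r h1 h2 hr s hs hne hneg

theorem g2c : pairsGoodb DataG2.fd 0 12 = true := by decide +kernel
theorem b2c : pairsGoodb DataB2.fd 0 8 = true := by decide +kernel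
theorem d4c : pairsGoodb DataD4.fd 0 24 = true := by decide +kernel
theorem f4c : pairsGoodb DataF4.fd 0 48 = true := by decide +kernel
theorem e6c0 : pairsGoodb DataE6.fd 0 36 = true := by decide +kernel
theorem e6c1 : pairsGoodb DataE6.fd 36 36 = true := by decide +kernel

theorem pairsGood_G2 : PairsGood chevG2 :=
  pairsGood_all DataG2.agrees 12 1 (by norm_num) (by decide) (by
    intro q hq
    interval_cases q
    exact g2c)

theorem pairsGood_B2 : PairsGood chevB2 :=
  pairsGood_all DataB2.agrees 8 1 (by norm_num) (by decide) (by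
    intro q hq
    interval_cases q
    exact b2c)

theorem pairsGood_D4 : PairsGood chevD4 :=
  pairsGood_all DataD4.agrees 24 1 (by norm_num) (by decide) (by
    intro q hq
    interval_cases q
    exact d4c)

theorem pairsGood_F4 : PairsGood chevF4 :=
  pairsGood_all DataF4.agrees 48 1 (by norm_num) (by decide) (by
    intro q hq
    interval_cases q
    exact f4c)

theorem pairsGood_E6 : PairsGood chevE6 :=
  pairsGood_all DataE6.agrees 36 2 (by norm_num) (by decide) (by
    intro q hq
    interval_cases q
    · exact e6c0
    · exact e6c1)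

end Cfsg.Agent.ProjLift
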