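import Cfsg.Agent.Lib.Lead.ProjLiftD
import Mathlib

/-!
# Every pair of non-opposite roots spans a good list, type `E₇` (lead)
-/

set_option autoImplicit false
set_option maxRecDepth 100000

namespace Cfsg.Agent.ProjLift

open Cfsg.Lie Cfsg.Agent.Lib.Helper5.Chev Cfsg.Agent.Lib.Helper5.St Cfsg.Agent.Lib.Helper5.Tw

theorem e7c0 : pairsGoodb DataE7.fd 0 42 = true := by decide +kernel
theorem e7c1 : pairsGoodb DataE7.fd 42 42 = true := by decide +kernel
theorem e7c2 : pairsGoodb DataE7.fd 84 42 = true := by decide +kernel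

theorem pairsGood_E7 : PairsGood chevE7 :=
  pairsGood_all DataE7.agrees 42 3 (by norm_num) (by decide) (by
    intro q hq
    interval_cases q
    · exact e7c0
    · exact e7c1
    · exact e7c2)

end Cfsg.Agent.ProjLift
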