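import Cfsg.Agent.Lib.Lead.ProjLiftD
import Mathlib

/-!
# Every pair of non-opposite roots spans a good list, type `E₈` (lead)
-/

set_option autoImplicit false
set_option maxRecDepth 100000

namespace Cfsg.Agent.ProjLift

open Cfsg.Lie Cfsg.Agent.Lib.Helper5.Chev Cfsg.Agent.Lib.Helper5.St Cfsg.Agent.Lib.Helper5.Tw

theorem e8c0 : pairsGoodb DataE8.fd 0 40 = true := by decide +kernel
theorem e8c1 : pairsGoodb DataE8.fd 40 40 = true := by decide +kernel
theorem e8c2 : pairsGoodb DataE8.fd 80 40 = true := by decide +kernel
theorem e8c3 : pairsGoodb DataE8.fd 120 40 = true := by decide +kernel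
theorem e8c4 : pairsGoodb DataE8.fd 160 40 = true := by decide +kernel
theorem e8c5 : pairsGoodb DataE8.fd 200 40 = true := by decide +kernel

theorem pairsGood_E8 : PairsGood chevE8 :=
  pairsGood_all DataE8.agrees 40 6 (by norm_num) (by decide) (by
    intro q hq
    interval_cases q
    · exact e8c0
    · exact e8c1
    · exact e8c2
    · exact e8c3
    · exact e8c4
    · exact e8c5)

end Cfsg.Agent.ProjLift
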