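import Cfsg.Agent.Lib.Lead.ProjLiftE7
import Cfsg.Agent.Lib.Lead.ProjLiftE8
import Cfsg.Agent.Lib.Helper5.StCov.Perfect
import Mathlib

/-!
# Projective representations in the natural characteristic lift to the group presented by
(R1), (R2) (lead)
-/

set_option autoImplicit false

namespace Cfsg.Agent.ProjLift

open Cfsg.Lie Cfsg.Agent.Lib.Helper5.Chev Cfsg.Agent.Lib.Helper5.St Cfsg.Agent.Lib.Helper5.Tw
open Cfsg.Agent.Lib.Helper5.UC
open scoped MatrixGroups

theorem pairsGood_known (D : ChevalleyDatum)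
    (hD : D ∈ [chevG2, chevB2, chevD4, chevF4, chevE6, chevE7, chevE8]) :
    ∃ T : FD, T.Agrees D ∧ PairsGood D := by
  simp only [List.mem_cons, List.not_mem_nil, or_false] at hD
  rcases hD with rfl | rfl | rfl | rfl | rfl | rfl | rfl
  · exact ⟨_, DataG2.agrees, pairsGood_G2⟩
  · exact ⟨_, DataB2.agrees, pairsGood_B2⟩
  · exact ⟨_, DataD4.agrees, pairsGood_D4⟩
  · exact ⟨_, DataF4.agrees, pairsGood_F4⟩
  · exact ⟨_, DataE6.agrees, pairsGood_E6⟩
  · exact ⟨_, DataE7.agrees, pairsGood_E7⟩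
  · exact ⟨_, DataE8.agrees, pairsGood_E8⟩

/-- a central element of `p`-power... of order dividing `p` in `GL_n(L)`, `char L = p`, is trivial -/
theorem center_GL_no_torsion {L : Type*} [Field L] (p : ℕ) [hp : Fact p.Prime] [CharP L p] {n : ℕ}
    (z : GL (Fin n) L) (hz : z ∈ Subgroup.center (GL (Fin n) L)) (h : z ^ p = 1) : z = 1 := by
  rcases Nat.eq_zero_or_pos n with rfl | hn
  · exact Subsingleton.elim _ _
  obtain ⟨c, hc⟩ := Matrix.GeneralLinearGroup.mem_center_iff_val_mem_range_scalar.1 hz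
  have h1 : (z : Matrix (Fin n) (Fin n) L) ^ p = 1 := by
    have := congrArg Units.val h
    rwa [Units.val_pow_eq_pow_val, Units.val_one] at this
  rw [← hc, ← map_pow] at h1
  have h2 : c ^ p = 1 := by
    have := congrFun (congrFun h1 ⟨0, hn⟩) ⟨0, hn⟩
    simpa [Matrix.scalar_apply] using this
  have h3 : (c - 1) ^ p = 0 := by
    rw [sub_pow_char, h2, one_pow, sub_self]
  have h4 : c = 1 := by
    have := pow_eq_zero_iff (Nat.Prime.ne_zero hp.out) |>.1 h3
    exact sub_eq_zero.1 this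
  apply Units.ext
  rw [← hc, h4, map_one, Units.val_one]

/-- the finite case -/
theorem proj_lift_finite {K : Type*} [Field K] [Finite K] (D : ChevalleyDatum)
    (hD : D ∈ [chevG2, chevB2, chevD4, chevF4, chevE6, chevE7, chevE8])
    (hK : D ∈ [chevB2, chevG2] → ∃ x : K, x ≠ 0 ∧ x ≠ 1)
    {G₁ : Type*} [Group G₁] (σ : D.SteinbergCover K →* G₁)
    {L : Type*} [Field L] (hL : ringChar L = ringChar K) {n : ℕ} (φ : G₁ →* GL (Fin n) L ⧸ Subgroup.center (GL (Fin n) L)) :
    ∃ ψ : D.SteinbergCover K →* GL (Fin n) L,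
      (QuotientGroup.mk' (Subgroup.center (GL (Fin n) L))).comp ψ = φ.comp σ := by
  classical
  obtain ⟨p, hchar⟩ := CharP.exists K
  have : Fact p.Prime := ⟨(CharP.char_is_prime_or_zero K p).resolve_right
    (CharP.char_ne_zero_of_finite K p)⟩
  have : CharP L p := by
    have h1 : ringChar K = p := ringChar.eq K p
    have h2 : ringChar L = p := hL.trans h1
    rw [← h2]
    exact ringChar.charP L
  obtain ⟨T, hA, hgood⟩ := pairsGood_known D hD
  have hperfΔ : commutator (D.SteinbergCover K) = ⊤ := Cfsg.Agent.Lib.Helper5.StCov.cover_perfect D hD hK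
  obtain ⟨T', Bs, gH, baseH, fuel, C⟩ := stCtx_known K D hD
  let π₁ := QuotientGroup.mk' (Subgroup.center (GL (Fin n) L))
  have hθc : ∀ z : D.SteinbergCover K, (coverRData (K := K) hD).θ z = 1 →
      ∀ m : D.SteinbergCover K, z * m = m * z := by
    intro z hz m
    exact (Subgroup.mem_center_iff.1
      ((coverRData (K := K) hD).ker_le_center C (MonoidHom.mem_ker.2 hz)) m).symm
  -- the pullback
  let P : Subgroup (GL (Fin n) L × D.SteinbergCover K) :=
    (π₁.comp (MonoidHom.fst (GL (Fin n) L) (D.SteinbergCover K))).eqLocus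
      ((φ.comp σ).comp (MonoidHom.snd (GL (Fin n) L) (D.SteinbergCover K)))
  have hP : ∀ x : ↥P, π₁ x.1.1 = φ (σ x.1.2) := fun x => x.2
  let ψ₀ : ↥P →* D.SteinbergCover K :=
    (MonoidHom.snd (GL (Fin n) L) (D.SteinbergCover K)).comp P.subtype
  have hψ₀ : ∀ x : ↥P, ψ₀ x = x.1.2 := fun x => rfl
  have hsurj₀ : Function.Surjective ψ₀ := by
    intro d
    obtain ⟨e, he⟩ := QuotientGroup.mk'_surjective (Subgroup.center (GL (Fin n) L)) (φ (σ d))
    exact ⟨⟨(e, d), he⟩, rfl⟩
  have hker₀ : ∀ z : ↥P, ψ₀ z = 1 → z.1.1 ∈ Subgroup.center (GL (Fin n) L) := by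
    intro z hz
    rw [hψ₀] at hz
    have h1 : π₁ z.1.1 = 1 := by rw [hP z, hz, map_one, map_one]
    exact (QuotientGroup.eq_one_iff _).1 h1
  have hcentral₀ : ∀ z : ↥P, ψ₀ z = 1 → ∀ x : ↥P, z * x = x * z := by
    intro z hz x
    have h1 := hker₀ z hz
    rw [hψ₀] at hz
    apply Subtype.ext
    apply Prod.ext
    · exact (Subgroup.mem_center_iff.1 h1 x.1.1).symm
    · show z.1.2 * x.1.2 = x.1.2 * z.1.2
      rw [hz, one_mul, mul_one]
  have hperfP' : commutator ↥(commutator ↥P) = ⊤ :=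
    commutator_perfect hperfΔ ψ₀ hsurj₀ hcentral₀
  let ψ : ↥(commutator ↥P) →* D.SteinbergCover K := ψ₀.comp (commutator ↥P).subtype
  have hψsurj : Function.Surjective ψ := by
    intro d
    obtain ⟨x, hx, e⟩ := commutator_surjective hperfΔ ψ₀ hsurj₀ d
    exact ⟨⟨x, hx⟩, e⟩
  have hψc : ∀ z : ↥(commutator ↥P), ψ z = 1 → ∀ x : ↥(commutator ↥P), z * x = x * z := by
    intro z hz x
    apply Subtype.ext
    exact hcentral₀ z.1 hz x.1
  have hΨc := central_comp_of_perfect hperfP' ψ (coverRData (K := K) hD).θ hψc hθc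
  have : Finite ↥(commutator ↥P) :=
    finite_of_perfect_central ((coverRData (K := K) hD).θ.comp ψ) hΨc hperfP'
  have hkc : ψ.ker ≤ Subgroup.center ↥(commutator ↥P) := by
    intro z hz
    rw [Subgroup.mem_center_iff]
    intro x
    exact (hψc z (MonoidHom.mem_ker.1 hz) x).symm
  have hcop : (Nat.card ψ.ker).Coprime p := by
    apply coprime_card_of_no_torsion
    intro z hz hzp
    have hz1 : ψ z = 1 := MonoidHom.mem_ker.1 hz
    have h1 := hker₀ z.1 hz1
    have h2 : z.1.1.1 ^ p = 1 := by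
      have := congrArg (fun y : ↥(commutator ↥P) => y.1.1.1) hzp
      simpa using this
    have h3 := center_GL_no_torsion p z.1.1.1 h1 h2
    apply Subtype.ext
    apply Subtype.ext
    apply Prod.ext
    · exact h3
    · exact hz1
  obtain ⟨τ₀, hτ₀⟩ := exists_section_cover hD ψ hψsurj hkc p hcop hA hgood
  refine ⟨(MonoidHom.fst (GL (Fin n) L) (D.SteinbergCover K)).comp
    (P.subtype.comp ((commutator ↥P).subtype.comp τ₀)), ?_⟩
  apply MonoidHom.ext
  intro d
  show π₁ (τ₀ d).1.1.1 = φ (σ d)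
  rw [hP (τ₀ d).1]
  have : ψ (τ₀ d) = d := DFunLike.congr_fun hτ₀ d
  have h2 : (τ₀ d).1.1.2 = d := this
  rw [h2]

/-- projective representations in the natural characteristic lift uniquely -/
theorem proj_lift {K : Type*} [Field K] (D : ChevalleyDatum)
    (hD : D ∈ [chevG2, chevB2, chevD4, chevF4, chevE6, chevE7, chevE8])
    (hK : D ∈ [chevB2, chevG2] → ∃ x : K, x ≠ 0 ∧ x ≠ 1)
    {G₁ : Type*} [Group G₁] (σ : D.SteinbergCover K →* G₁)
    {L : Type*} [Field L] (hL : ringChar L = ringChar K) {n : ℕ}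
    (φ : G₁ →* GL (Fin n) L ⧸ Subgroup.center (GL (Fin n) L)) :
    ∃! ψ : D.SteinbergCover K →* GL (Fin n) L,
      (QuotientGroup.mk' (Subgroup.center (GL (Fin n) L))).comp ψ = φ.comp σ := by
  have hc : (QuotientGroup.mk' (Subgroup.center (GL (Fin n) L))).ker
      ≤ Subgroup.center (GL (Fin n) L) := by
    rw [QuotientGroup.ker_mk']
  rcases finite_or_infinite K with hfin | hinf
  · obtain ⟨ψ, hψ⟩ := proj_lift_finite D hD hK σ hL φ
    refine ⟨ψ, hψ, fun ψ' hψ' => ?_⟩
    have hperfΔ : commutator (D.SteinbergCover K) = ⊤ :=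
      Cfsg.Agent.Lib.Helper5.StCov.cover_perfect D hD hK
    apply hom_eq_of_perfect hperfΔ ψ' ψ (QuotientGroup.mk' (Subgroup.center (GL (Fin n) L)))
    · intro z hz m
      have : z ∈ Subgroup.center (GL (Fin n) L) := hc (MonoidHom.mem_ker.2 hz)
      exact (Subgroup.mem_center_iff.1 this m).symm
    · exact hψ'.trans hψ.symm
  · obtain ⟨s, hs⟩ := Infinite.exists_subset_card_eq K 5
    have hK5 : ∃ s : Finset K, 4 < s.card := ⟨s, by rw [hs]; norm_num⟩
    exact cover_universal hK5 D hD (QuotientGroup.mk' (Subgroup.center (GL (Fin n) L)))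
      (QuotientGroup.mk'_surjective _) hc (φ.comp σ)

end Cfsg.Agent.ProjLift
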