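import Mathlib
import Cfsg.Agent.Lib.Helper7.NatSL1

set_option autoImplicit false

namespace Cfsg.Agent.QuadSL2

open Matrix Cfsg.Agent.Lib.Helper7

variable {F : Type*} [Field F]

/-- lower unitriangular element of `SL₂` -/
def lo (c : F) : SpecialLinearGroup (Fin 2) F := ⟨!![1, 0; c, 1], by simp [Matrix.det_fin_two]⟩

/-- the monomial element `[[0, s], [-1/s, 0]]` -/
def wt (s : Fˣ) : SpecialLinearGroup (Fin 2) F :=
  ⟨!![0, (s : F); -((s⁻¹ : Fˣ) : F), 0], by simp [Matrix.det_fin_two]⟩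

/-- the diagonal element `diag(s, 1/s)` -/
def dg (s : Fˣ) : SpecialLinearGroup (Fin 2) F :=
  ⟨!![(s : F), 0; 0, ((s⁻¹ : Fˣ) : F)], by simp [Matrix.det_fin_two]⟩

theorem sl_ext {A B : SpecialLinearGroup (Fin 2) F}
    (h00 : (A : Matrix (Fin 2) (Fin 2) F) 0 0 = (B : Matrix (Fin 2) (Fin 2) F) 0 0)
    (h01 : (A : Matrix (Fin 2) (Fin 2) F) 0 1 = (B : Matrix (Fin 2) (Fin 2) F) 0 1)
    (h10 : (A : Matrix (Fin 2) (Fin 2) F) 1 0 = (B : Matrix (Fin 2) (Fin 2) F) 1 0)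
    (h11 : (A : Matrix (Fin 2) (Fin 2) F) 1 1 = (B : Matrix (Fin 2) (Fin 2) F) 1 1) : A = B := by
  apply Subtype.ext
  ext i j
  fin_cases i <;> fin_cases j <;> assumption

@[simp] theorem uSL2_val (a : F) :
    ((uSL2 a : SpecialLinearGroup (Fin 2) F) : Matrix (Fin 2) (Fin 2) F) = !![1, a; 0, 1] := rfl
@[simp] theorem lo_val (c : F) :
    ((lo c : SpecialLinearGroup (Fin 2) F) : Matrix (Fin 2) (Fin 2) F) = !![1, 0; c, 1] := rfl
@[simp] theorem wt_val (s : Fˣ) :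
    ((wt s : SpecialLinearGroup (Fin 2) F) : Matrix (Fin 2) (Fin 2) F) =
      !![0, (s : F); -((s⁻¹ : Fˣ) : F), 0] := rfl
@[simp] theorem dg_val (s : Fˣ) :
    ((dg s : SpecialLinearGroup (Fin 2) F) : Matrix (Fin 2) (Fin 2) F) =
      !![(s : F), 0; 0, ((s⁻¹ : Fˣ) : F)] := rfl

theorem lo_zero : lo (0 : F) = 1 := by
  apply sl_ext <;> simp

theorem lo_add (a b : F) : lo (a + b) = lo a * lo b := by
  apply sl_ext <;> simp [Matrix.mul_apply, Fin.sum_univ_two, add_comm]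

theorem wt_eq_ulu (s : Fˣ) : wt s = uSL2 (s : F) * lo (-((s⁻¹ : Fˣ) : F)) * uSL2 (s : F) := by
  apply sl_ext <;> simp [Matrix.mul_apply, Fin.sum_univ_two]

theorem wt_eq_lul (s : Fˣ) :
    wt s = lo (-((s⁻¹ : Fˣ) : F)) * uSL2 (s : F) * lo (-((s⁻¹ : Fˣ) : F)) := by
  apply sl_ext <;> simp [Matrix.mul_apply, Fin.sum_univ_two]

theorem lo_mul_wt (c : F) (s : Fˣ) : lo c * wt s = wt s * uSL2 (-((s : F) ^ 2 * c)) := by
  have hs := s.ne_zero
  apply sl_ext <;> simp [Matrix.mul_apply, Fin.sum_univ_two]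
  field_simp

theorem uSL2_mul_wt (x : F) (s : Fˣ) :
    uSL2 x * wt s = wt s * lo (-(((s⁻¹ : Fˣ) : F) ^ 2 * x)) := by
  have hs := s.ne_zero
  apply sl_ext <;> simp [Matrix.mul_apply, Fin.sum_univ_two]
  field_simp

theorem wt_mul_wt_neg_one (s : Fˣ) : wt s * wt (-1) = dg s := by
  apply sl_ext <;> simp [Matrix.mul_apply, Fin.sum_univ_two]

theorem wt_one_mul_wt_neg_one : wt (1 : Fˣ) * wt (-1) = 1 := by
  apply sl_ext <;> simp [Matrix.mul_apply, Fin.sum_univ_two]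

theorem wt_neg_one_mul_wt_one : wt (-1 : Fˣ) * wt 1 = 1 := by
  apply sl_ext <;> simp [Matrix.mul_apply, Fin.sum_univ_two]

theorem dg_mul (s t : Fˣ) : dg (s * t) = dg s * dg t := by
  apply sl_ext <;> simp [Matrix.mul_apply, Fin.sum_univ_two, mul_comm]

theorem dg_one : dg (1 : Fˣ) = 1 := by
  apply sl_ext <;> simp

theorem dg_mul_uSL2 (s : Fˣ) (x : F) : dg s * uSL2 x = uSL2 ((s : F) ^ 2 * x) * dg s := by
  apply sl_ext <;> simp [Matrix.mul_apply, Fin.sum_univ_two]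
  field_simp

theorem dg_mul_lo (s : Fˣ) (c : F) :
    dg s * lo c = lo (((s⁻¹ : Fˣ) : F) ^ 2 * c) * dg s := by
  apply sl_ext <;> simp [Matrix.mul_apply, Fin.sum_univ_two]
  field_simp

theorem wt_one_mul_dg (s : Fˣ) : wt 1 * dg s = dg s⁻¹ * wt 1 := by
  apply sl_ext <;> simp [Matrix.mul_apply, Fin.sum_univ_two]

theorem wt_eq_dg_mul (s : Fˣ) : wt s = dg s * wt 1 := by
  apply sl_ext <;> simp [Matrix.mul_apply, Fin.sum_univ_two]

theorem wt_one_sq : wt (1 : Fˣ) * wt 1 = dg (-1) := by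
  apply sl_ext <;> simp [Matrix.mul_apply, Fin.sum_univ_two]

theorem lo_eq_conj (c : F) : lo c = wt 1 * uSL2 (-c) * wt (-1) := by
  apply sl_ext <;> simp [Matrix.mul_apply, Fin.sum_univ_two]

/-- `SL₂(F)` is generated by the upper and lower unitriangular elements. -/
theorem closure_u_lo :
    Subgroup.closure (Set.range (uSL2 (K := F)) ∪ Set.range (lo (F := F))) = ⊤ := by
  rw [eq_top_iff]
  intro g _
  set H := Subgroup.closure (Set.range (uSL2 (K := F)) ∪ Set.range (lo (F := F)))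
  have hu : ∀ x : F, uSL2 x ∈ H := fun x => Subgroup.subset_closure (Or.inl ⟨x, rfl⟩)
  have hl : ∀ x : F, lo x ∈ H := fun x => Subgroup.subset_closure (Or.inr ⟨x, rfl⟩)
  have key : ∀ g : SpecialLinearGroup (Fin 2) F, (g : Matrix (Fin 2) (Fin 2) F) 1 0 ≠ 0 → g ∈ H := by
    intro g hc
    have hdet := det_eq g
    set a := (g : Matrix (Fin 2) (Fin 2) F) 0 0
    set b := (g : Matrix (Fin 2) (Fin 2) F) 0 1
    set c := (g : Matrix (Fin 2) (Fin 2) F) 1 0
    set d := (g : Matrix (Fin 2) (Fin 2) F) 1 1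
    have : g = uSL2 ((a - 1) / c) * lo c * uSL2 ((d - 1) / c) := by
      apply sl_ext
      · simp [Matrix.mul_apply, Fin.sum_univ_two]; field_simp; ring
      · simp [Matrix.mul_apply, Fin.sum_univ_two]; field_simp; linear_combination (-1 : F) * hdet
      · simp [Matrix.mul_apply, Fin.sum_univ_two]; rfl
      · simp [Matrix.mul_apply, Fin.sum_univ_two]; field_simp; ring
    rw [this]
    exact H.mul_mem (H.mul_mem (hu _) (hl _)) (hu _)
  by_cases hc : (g : Matrix (Fin 2) (Fin 2) F) 1 0 = 0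
  · have hdet := det_eq g
    rw [hc, mul_zero, sub_zero] at hdet
    have ha : (g : Matrix (Fin 2) (Fin 2) F) 0 0 ≠ 0 := by
      intro h; rw [h, zero_mul] at hdet; exact zero_ne_one hdet
    have h1 : lo 1 * g ∈ H := by
      apply key
      simp [Matrix.mul_apply, Fin.sum_univ_two, hc, ha]
    have : g = lo (-1) * (lo 1 * g) := by
      rw [← mul_assoc, ← lo_add]; simp [lo_zero]
    rw [this]
    exact H.mul_mem (hl _) h1
  · exact key g hc

theorem closure_u_w :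
    Subgroup.closure (Set.range (uSL2 (K := F)) ∪ {wt (1 : Fˣ)}) = ⊤ := by
  rw [eq_top_iff, ← closure_u_lo, Subgroup.closure_le]
  set H := Subgroup.closure (Set.range (uSL2 (K := F)) ∪ {wt (1 : Fˣ)})
  have hu : ∀ x : F, uSL2 x ∈ H := fun x => Subgroup.subset_closure (Or.inl ⟨x, rfl⟩)
  have hw : wt (1 : Fˣ) ∈ H := Subgroup.subset_closure (Or.inr rfl)
  have hw' : wt (-1 : Fˣ) ∈ H := by
    have : wt (-1 : Fˣ) = (wt (1 : Fˣ))⁻¹ := by
      rw [eq_inv_iff_mul_eq_one]; exact wt_neg_one_mul_wt_one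
    rw [this]; exact H.inv_mem hw
  rintro g (⟨x, rfl⟩ | ⟨c, rfl⟩)
  · exact hu x
  · rw [lo_eq_conj]
    exact H.mul_mem (H.mul_mem hw (hu _)) hw'

end Cfsg.Agent.QuadSL2
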