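import Mathlib
import Cfsg.Agent.Lib.Lead.QuadSL2A

set_option autoImplicit false

namespace Cfsg.Agent.QuadSL2

open Matrix Cfsg.Agent.Lib.Helper7

variable {F : Type*} [Field F] {M : Type*} [AddCommGroup M]
  (R : SpecialLinearGroup (Fin 2) F →* AddMonoid.End M)

theorem R_mul (g h : SpecialLinearGroup (Fin 2) F) (m : M) : R (g * h) m = R g (R h m) := by
  rw [map_mul]; rfl

theorem R_one (m : M) : R 1 m = m := by
  rw [map_one]; rfl

theorem R_inv_apply (g : SpecialLinearGroup (Fin 2) F) (m : M) : R g⁻¹ (R g m) = m := by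
  rw [← R_mul, inv_mul_cancel, R_one]

theorem R_apply_inv (g : SpecialLinearGroup (Fin 2) F) (m : M) : R g (R g⁻¹ m) = m := by
  rw [← R_mul, mul_inv_cancel, R_one]

/-- the fixed points of the upper unitriangular subgroup -/
def M0 : AddSubgroup M where
  carrier := {m | ∀ x, R (uSL2 x) m = m}
  zero_mem' := fun x => map_zero _
  add_mem' := fun {a b} ha hb x => by rw [map_add, ha x, hb x]
  neg_mem' := fun {a} ha x => by rw [map_neg, ha x]

/-- the fixed points of the lower unitriangular subgroup -/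
def M0' : AddSubgroup M where
  carrier := {m | ∀ x, R (lo x) m = m}
  zero_mem' := fun x => map_zero _
  add_mem' := fun {a b} ha hb x => by rw [map_add, ha x, hb x]
  neg_mem' := fun {a} ha x => by rw [map_neg, ha x]

theorem mem_M0 {m : M} : m ∈ M0 R ↔ ∀ x, R (uSL2 x) m = m := Iff.rfl
theorem mem_M0' {m : M} : m ∈ M0' R ↔ ∀ x, R (lo x) m = m := Iff.rfl

/-- stability under the generators `u(x)`, `w(1)` gives stability under the whole group -/
theorem stable_of_gen (N : AddSubgroup M) (hu : ∀ x, ∀ m ∈ N, R (uSL2 x) m ∈ N)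
    (hw : ∀ m ∈ N, R (wt 1) m ∈ N) : ∀ g, ∀ m ∈ N, R g m ∈ N := by
  let H : Subgroup (SpecialLinearGroup (Fin 2) F) :=
    { carrier := {g | (∀ m ∈ N, R g m ∈ N) ∧ (∀ m ∈ N, R g⁻¹ m ∈ N)}
      one_mem' := by
        refine ⟨fun m hm => ?_, fun m hm => ?_⟩
        · rwa [R_one]
        · rwa [inv_one, R_one]
      mul_mem' := by
        rintro a b ⟨ha1, ha2⟩ ⟨hb1, hb2⟩
        refine ⟨fun m hm => ?_, fun m hm => ?_⟩
        · rw [R_mul]; exact ha1 _ (hb1 _ hm)
        · rw [_root_.mul_inv_rev, R_mul]; exact hb2 _ (ha2 _ hm)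
      inv_mem' := by
        rintro a ⟨ha1, ha2⟩
        refine ⟨ha2, ?_⟩
        rw [inv_inv]; exact ha1 }
  have hH : H = ⊤ := by
    rw [eq_top_iff, ← closure_u_w, Subgroup.closure_le]
    rintro g (⟨x, rfl⟩ | hg)
    · refine ⟨hu x, ?_⟩
      have : (uSL2 x)⁻¹ = uSL2 (-x) := by
        rw [inv_eq_iff_mul_eq_one, ← uSL2_add, add_neg_cancel, uSL2_zero]
      rw [this]; exact hu _
    · rw [Set.mem_singleton_iff] at hg
      subst hg
      refine ⟨hw, ?_⟩
      have : (wt (1 : Fˣ))⁻¹ = wt 1 * wt 1 * wt 1 := by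
        rw [inv_eq_iff_mul_eq_one]
        apply sl_ext <;> simp [Matrix.mul_apply, Fin.sum_univ_two]
      rw [this]
      intro m hm
      rw [R_mul, R_mul]
      exact hw _ (hw _ (hw _ hm))
  intro g
  have : g ∈ H := by rw [hH]; trivial
  exact this.1

/-- a vector fixed by all `u(x)` and all `lo c` is fixed by the whole group -/
theorem fixed_of_gen {m : M} (hu : ∀ x, R (uSL2 x) m = m) (hl : ∀ c, R (lo c) m = m) :
    ∀ g, R g m = m := by
  let H : Subgroup (SpecialLinearGroup (Fin 2) F) :=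
    { carrier := {g | R g m = m}
      one_mem' := R_one R m
      mul_mem' := by
        intro a b ha hb
        show R (a * b) m = m
        rw [R_mul, hb, ha]
      inv_mem' := by
        intro a ha
        show R a⁻¹ m = m
        conv_lhs => rw [← ha]
        exact R_inv_apply R a m }
  have hH : H = ⊤ := by
    rw [eq_top_iff, ← closure_u_lo, Subgroup.closure_le]
    rintro g (⟨x, rfl⟩ | ⟨x, rfl⟩)
    · exact hu x
    · exact hl x
  intro g
  have : g ∈ H := by rw [hH]; trivial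
  exact this

section irr

variable (hirr : ∀ N : AddSubgroup M, (∀ g, ∀ m ∈ N, R g m ∈ N) → N = ⊥ ∨ N = ⊤)
  (hnt : ∃ g m, R g m ≠ m)

include hirr hnt

theorem M0_inf_M0' : M0 R ⊓ M0' R = ⊥ := by
  let C : AddSubgroup M :=
    { carrier := {m | ∀ g, R g m = m}
      zero_mem' := fun g => map_zero _
      add_mem' := fun {a b} ha hb g => by rw [map_add, ha g, hb g]
      neg_mem' := fun {a} ha g => by rw [map_neg, ha g] }
  have hC : C = ⊥ := by
    rcases hirr C (fun g m hm => by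
      intro g'
      rw [hm g]; exact hm g') with h | h
    · exact h
    · exfalso
      obtain ⟨g, m, hgm⟩ := hnt
      have : m ∈ C := by rw [h]; trivial
      exact hgm (this g)
  rw [eq_bot_iff]
  rintro m ⟨h1, h2⟩
  rw [← hC]
  exact fixed_of_gen R h1 h2

theorem eq_zero_of_mem_both {m : M} (h1 : m ∈ M0 R) (h2 : m ∈ M0' R) : m = 0 := by
  have : m ∈ M0 R ⊓ M0' R := ⟨h1, h2⟩
  rw [M0_inf_M0' R hirr hnt] at this
  exact this

end irr

theorem wt_M0 {m : M} (hm : m ∈ M0 R) (s : Fˣ) : R (wt s) m ∈ M0' R := by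
  intro c
  rw [← R_mul, lo_mul_wt, R_mul, hm]

theorem wt_M0' {m : M} (hm : m ∈ M0' R) (s : Fˣ) : R (wt s) m ∈ M0 R := by
  intro x
  rw [← R_mul, uSL2_mul_wt, R_mul, hm]

theorem dg_M0 {m : M} (hm : m ∈ M0 R) (s : Fˣ) : R (dg s) m ∈ M0 R := by
  intro x
  have h := dg_mul_uSL2 s (((s⁻¹ : Fˣ) : F) ^ 2 * x)
  have h2 : (s : F) ^ 2 * (((s⁻¹ : Fˣ) : F) ^ 2 * x) = x := by
    have := s.ne_zero
    simp only [Units.val_inv_eq_inv_val]
    field_simp
  rw [h2] at h
  rw [← R_mul, ← h, R_mul, hm]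

theorem dg_M0' {m : M} (hm : m ∈ M0' R) (s : Fˣ) : R (dg s) m ∈ M0' R := by
  intro x
  have h := dg_mul_lo s ((s : F) ^ 2 * x)
  have h2 : ((s⁻¹ : Fˣ) : F) ^ 2 * ((s : F) ^ 2 * x) = x := by
    have := s.ne_zero
    simp only [Units.val_inv_eq_inv_val]
    field_simp
  rw [h2] at h
  rw [← R_mul, ← h, R_mul, hm]

section keys

variable (hinf : ∀ m : M, m ∈ M0 R → m ∈ M0' R → m = 0)

include hinf

/-- key lemma: on a vector of `M0'` moved by `u(s)` into `M0`, `w(s)` acts as `u(s) - 1` -/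
theorem key1 (s : Fˣ) {m' : M} (hm' : m' ∈ M0' R) (hx : R (uSL2 (s : F)) m' - m' ∈ M0 R) :
    R (wt s) m' = R (uSL2 (s : F)) m' - m' := by
  set x := R (uSL2 (s : F)) m' - m' with hxdef
  have h1 : R (uSL2 (s : F)) m' = m' + x := by rw [hxdef]; abel
  have hwx : R (wt s) x = R (uSL2 (s : F)) (R (lo (-((s⁻¹ : Fˣ) : F))) x) := by
    rw [wt_eq_ulu, R_mul, R_mul, hx]
  have hwm : R (wt s) m' = m' + x + R (wt s) x := by
    rw [hwx, wt_eq_ulu, R_mul, R_mul, h1, map_add, hm', map_add, h1]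
  have h2 : R (wt s) m' - x ∈ M0 R := (M0 R).sub_mem (wt_M0' R hm' s) hx
  have h3 : R (wt s) m' - x ∈ M0' R := by
    have : R (wt s) m' - x = m' + R (wt s) x := by rw [hwm]; abel
    rw [this]
    exact (M0' R).add_mem hm' (wt_M0 R hx s)
  have := hinf _ h2 h3
  exact sub_eq_zero.mp this

theorem key2 (s : Fˣ) {m : M} (hm : m ∈ M0 R)
    (hy : R (lo (-((s⁻¹ : Fˣ) : F))) m - m ∈ M0' R) :
    R (wt s) m = R (lo (-((s⁻¹ : Fˣ) : F))) m - m := by
  set y := R (lo (-((s⁻¹ : Fˣ) : F))) m - m with hydef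
  have h1 : R (lo (-((s⁻¹ : Fˣ) : F))) m = m + y := by rw [hydef]; abel
  have hwy : R (wt s) y = R (lo (-((s⁻¹ : Fˣ) : F))) (R (uSL2 (s : F)) y) := by
    rw [wt_eq_lul, R_mul, R_mul, hy]
  have hwm : R (wt s) m = m + y + R (wt s) y := by
    rw [hwy, wt_eq_lul, R_mul, R_mul, h1, map_add, hm, map_add, h1]
  have h2 : R (wt s) m - y ∈ M0' R := (M0' R).sub_mem (wt_M0 R hm s) hy
  have h3 : R (wt s) m - y ∈ M0 R := by
    have : R (wt s) m - y = m + R (wt s) y := by rw [hwm]; abel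
    rw [this]
    exact (M0 R).add_mem hm (wt_M0' R hy s)
  have := hinf _ h3 h2
  exact sub_eq_zero.mp this

end keys

end Cfsg.Agent.QuadSL2
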