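import Mathlib
import Cfsg.Agent.Lib.Lead.QuadSL2B

set_option autoImplicit false

namespace Cfsg.Agent.QuadSL2

open Matrix Cfsg.Agent.Lib.Helper7

variable {F : Type*} [Field F] {M : Type*} [AddCommGroup M]
  (R : SpecialLinearGroup (Fin 2) F →* AddMonoid.End M)

/-- `u(x) - 1` -/
def Nu (x : F) (m : M) : M := R (uSL2 x) m - m
/-- `lo(c) - 1` -/
def Nl (c : F) (m : M) : M := R (lo c) m - m

theorem Nu_zero (m : M) : Nu R 0 m = 0 := by
  unfold Nu; rw [uSL2_zero, R_one, sub_self]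

theorem Nu_apply_zero (x : F) : Nu R x (0 : M) = 0 := by
  unfold Nu; rw [map_zero, sub_self]

theorem Nl_apply_zero (x : F) : Nl R x (0 : M) = 0 := by
  unfold Nl; rw [map_zero, sub_self]

theorem Nl_apply_add (c : F) (a b : M) : Nl R c (a + b) = Nl R c a + Nl R c b := by
  unfold Nl; rw [map_add]; abel

theorem Nl_apply_neg (c : F) (a : M) : Nl R c (-a) = - Nl R c a := by
  unfold Nl; rw [map_neg]; abel

theorem Nu_of_mem {m : M} (hm : m ∈ M0 R) (x : F) : Nu R x m = 0 := by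
  unfold Nu; rw [hm x, sub_self]

theorem Nl_of_mem {m : M} (hm : m ∈ M0' R) (x : F) : Nl R x m = 0 := by
  unfold Nl; rw [hm x, sub_self]

section quad

variable (hirr : ∀ N : AddSubgroup M, (∀ g, ∀ m ∈ N, R g m ∈ N) → N = ⊥ ∨ N = ⊤)
  (hnt : ∃ g m, R g m ≠ m)
  (hq : ∀ x m, Nu R x m ∈ M0 R)

include hq in
theorem Nu_add (x y : F) (m : M) : Nu R (x + y) m = Nu R x m + Nu R y m := by
  have h := hq y m x
  unfold Nu at h ⊢
  rw [uSL2_add, R_mul]
  have h2 : R (uSL2 y) m = (R (uSL2 y) m - m) + m := by abel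
  rw [h2, map_add, h]
  abel

include hq in
theorem Nu_neg (x : F) (m : M) : Nu R (-x) m = - Nu R x m := by
  have := Nu_add R hq x (-x) m
  rw [add_neg_cancel, Nu_zero] at this
  exact (neg_eq_of_add_eq_zero_right this.symm).symm

include hq in
theorem hq' : ∀ c m, Nl R c m ∈ M0' R := by
  intro c m
  have h1 : Nl R c m = R (wt 1) (Nu R (-c) (R (wt (-1)) m)) := by
    unfold Nl Nu
    rw [map_sub, ← R_mul, ← R_mul, ← R_mul, ← lo_eq_conj, wt_one_mul_wt_neg_one, R_one]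
  rw [h1]
  exact wt_M0 R (hq _ _) 1

include hq in
theorem Nl_add (x y : F) (m : M) : Nl R (x + y) m = Nl R x m + Nl R y m := by
  have h := hq' R hq y m x
  unfold Nl at h ⊢
  rw [lo_add, R_mul]
  have h2 : R (lo y) m = (R (lo y) m - m) + m := by abel
  rw [h2, map_add, h]
  abel

theorem Nl_zero (m : M) : Nl R 0 m = 0 := by
  unfold Nl; rw [lo_zero, R_one, sub_self]

include hq in
theorem Nl_neg (x : F) (m : M) : Nl R (-x) m = - Nl R x m := by
  have := Nl_add R hq x (-x) m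
  rw [add_neg_cancel, Nl_zero] at this
  exact (neg_eq_of_add_eq_zero_right this.symm).symm

include hirr hnt hq

theorem wt_on_M0 (s : Fˣ) {z : M} (hz : z ∈ M0 R) :
    R (wt s) z = Nl R (-((s⁻¹ : Fˣ) : F)) z :=
  key2 R (fun m h1 h2 => eq_zero_of_mem_both R hirr hnt h1 h2) s hz (hq' R hq _ _)

theorem wt_on_M0' (s : Fˣ) {z : M} (hz : z ∈ M0' R) :
    R (wt s) z = Nu R (s : F) z :=
  key1 R (fun m h1 h2 => eq_zero_of_mem_both R hirr hnt h1 h2) s hz (hq _ _)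

theorem Nl_one_on_M0 {z : M} (hz : z ∈ M0 R) : Nl R 1 z = R (wt (-1)) z := by
  rw [wt_on_M0 R hirr hnt hq (-1) hz]
  congr 1
  simp

theorem Nu_Nl_one (s : Fˣ) {z : M} (hz : z ∈ M0 R) : Nu R (s : F) (Nl R 1 z) = R (dg s) z := by
  rw [Nl_one_on_M0 R hirr hnt hq hz, ← wt_on_M0' R hirr hnt hq s (wt_M0 R hz (-1)), ← R_mul,
    wt_mul_wt_neg_one]

omit hirr in
theorem M0_ne_bot : M0 R ≠ ⊥ := by
  intro h0
  have hu : ∀ x m, R (uSL2 x) m = m := by
    intro x m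
    have := hq x m
    rw [h0, AddSubgroup.mem_bot] at this
    unfold Nu at this
    exact sub_eq_zero.mp this
  have hl : ∀ c m, R (lo c) m = m := by
    intro c m
    rw [lo_eq_conj, R_mul, R_mul, hu, ← R_mul, wt_one_mul_wt_neg_one, R_one]
  obtain ⟨g, m, hgm⟩ := hnt
  exact hgm (fixed_of_gen R (fun x => hu x m) (fun c => hl c m) g)

/-- the candidate isomorphism from the natural module -/
def fmap (m₀ : M) (v : Fin 2 → F) : M :=
  Nu R (v 0) (Nl R 1 m₀) + Nl R 1 (Nu R (v 1) (Nl R 1 m₀))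

omit hirr hnt in
theorem fmap_add (m₀ : M) (v w : Fin 2 → F) :
    fmap R m₀ (v + w) = fmap R m₀ v + fmap R m₀ w := by
  unfold fmap
  rw [Pi.add_apply, Pi.add_apply, Nu_add R hq, Nu_add R hq, Nl_apply_add]
  abel

theorem Nu_m1 {m₀ : M} (hm₀ : m₀ ∈ M0 R) (y : Fˣ) : Nu R (y : F) (Nl R 1 m₀) = R (dg y) m₀ :=
  Nu_Nl_one R hirr hnt hq y hm₀

theorem fmap_u {m₀ : M} (hm₀ : m₀ ∈ M0 R) (s : F) (v : Fin 2 → F) :
    fmap R m₀ ((uSL2 s : SpecialLinearGroup (Fin 2) F).1.mulVec v) = R (uSL2 s) (fmap R m₀ v) := by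
  rw [uSL2_mulVec]
  unfold fmap
  simp only [Matrix.cons_val_zero, Matrix.cons_val_one]
  rw [map_add, hq (v 0) (Nl R 1 m₀) s, Nu_add R hq]
  set z := Nu R (v 1) (Nl R 1 m₀) with hz
  have hzM : z ∈ M0 R := hq _ _
  have h1 : R (uSL2 s) (Nl R 1 z) = Nl R 1 z + Nu R s (Nl R 1 z) := by
    unfold Nu; abel
  rw [h1]
  have h2 : Nu R s (Nl R 1 z) = Nu R (s * v 1) (Nl R 1 m₀) := by
    by_cases hs : s = 0
    · rw [hs, zero_mul, Nu_zero, Nu_zero]
    by_cases hv : v 1 = 0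
    · have hz0 : z = 0 := by rw [hz, hv, Nu_zero]
      rw [hz0, Nl_apply_zero, Nu_apply_zero, hv, mul_zero, Nu_zero]
    · have e1 := Nu_Nl_one R hirr hnt hq (Units.mk0 s hs) hzM
      have e2 := Nu_m1 R hirr hnt hq hm₀ (Units.mk0 (v 1) hv)
      have e3 := Nu_m1 R hirr hnt hq hm₀ (Units.mk0 s hs * Units.mk0 (v 1) hv)
      simp only [Units.val_mk0, Units.val_mul] at e1 e2 e3
      rw [e1, e3, hz, e2, dg_mul, R_mul]
  rw [h2]
  abel

theorem fmap_w {m₀ : M} (hm₀ : m₀ ∈ M0 R) (v : Fin 2 → F) :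
    fmap R m₀ ((wt (1 : Fˣ) : SpecialLinearGroup (Fin 2) F).1.mulVec v) = R (wt 1) (fmap R m₀ v) := by
  have hmv : (wt (1 : Fˣ) : SpecialLinearGroup (Fin 2) F).1.mulVec v = ![v 1, - v 0] := by
    ext i
    fin_cases i <;> simp [Matrix.mulVec, dotProduct, Fin.sum_univ_two]
  rw [hmv]
  unfold fmap
  simp only [Matrix.cons_val_zero, Matrix.cons_val_one]
  rw [map_add, Nu_neg R hq, Nl_apply_neg]
  have ha : Nu R (v 0) (Nl R 1 m₀) ∈ M0 R := hq _ _
  have hb : Nu R (v 1) (Nl R 1 m₀) ∈ M0 R := hq _ _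
  have h1 : R (wt 1) (Nu R (v 0) (Nl R 1 m₀)) = - Nl R 1 (Nu R (v 0) (Nl R 1 m₀)) := by
    rw [wt_on_M0 R hirr hnt hq 1 ha]
    have : (-((1⁻¹ : Fˣ) : F)) = -1 := by simp
    rw [this, Nl_neg R hq]
  have h2 : R (wt 1) (Nl R 1 (Nu R (v 1) (Nl R 1 m₀))) = Nu R (v 1) (Nl R 1 m₀) := by
    rw [Nl_one_on_M0 R hirr hnt hq hb, ← R_mul, wt_one_mul_wt_neg_one, R_one]
  rw [h1, h2]
  abel

theorem fmap_equivariant {m₀ : M} (hm₀ : m₀ ∈ M0 R) (g : SpecialLinearGroup (Fin 2) F)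
    (v : Fin 2 → F) : fmap R m₀ (g.1.mulVec v) = R g (fmap R m₀ v) := by
  let H : Subgroup (SpecialLinearGroup (Fin 2) F) :=
    { carrier := {g | ∀ v, fmap R m₀ (g.1.mulVec v) = R g (fmap R m₀ v)}
      one_mem' := by
        intro v
        show fmap R m₀ ((1 : SpecialLinearGroup (Fin 2) F).1.mulVec v) = _
        rw [R_one]
        simp
      mul_mem' := by
        intro a b ha hb v
        show fmap R m₀ ((a * b : SpecialLinearGroup (Fin 2) F).1.mulVec v) = _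
        have e : (a * b : SpecialLinearGroup (Fin 2) F).1.mulVec v = a.1.mulVec (b.1.mulVec v) := by
          rw [Matrix.mulVec_mulVec]; rfl
        rw [R_mul, ← hb, ← ha, e]
      inv_mem' := by
        intro a ha v
        show fmap R m₀ ((a⁻¹ : SpecialLinearGroup (Fin 2) F).1.mulVec v) = _
        have h1 := ha ((a⁻¹ : SpecialLinearGroup (Fin 2) F).1.mulVec v)
        have e : a.1 * (a⁻¹ : SpecialLinearGroup (Fin 2) F).1 = 1 :=
          congrArg Subtype.val (mul_inv_cancel a)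
        rw [Matrix.mulVec_mulVec, e, Matrix.one_mulVec] at h1
        rw [h1, R_inv_apply] }
  have hH : H = ⊤ := by
    rw [eq_top_iff, ← closure_u_w, Subgroup.closure_le]
    rintro g (⟨x, rfl⟩ | hg)
    · exact fun v => fmap_u R hirr hnt hq hm₀ x v
    · rw [Set.mem_singleton_iff] at hg
      subst hg
      exact fun v => fmap_w R hirr hnt hq hm₀ v
  have : g ∈ H := by rw [hH]; trivial
  exact this v

end quad

end Cfsg.Agent.QuadSL2
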