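import Mathlib
import Cfsg.Agent.Lib.Lead.QuadSL2C

set_option autoImplicit false

namespace Cfsg.Agent.QuadSL2

open Matrix Cfsg.Agent.Lib.Helper7

variable {F : Type*} [Field F] {M : Type*} [AddCommGroup M]
  (R : SpecialLinearGroup (Fin 2) F →* AddMonoid.End M)

theorem R_injective (g : SpecialLinearGroup (Fin 2) F) {m : M} (h : R g m = 0) : m = 0 := by
  have := R_inv_apply R g m
  rw [h, map_zero] at this
  exact this.symm

/-- Quadratic irreducible nontrivial modules for `SL₂(F)` are natural. -/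
theorem quad_main
    (hirr : ∀ N : AddSubgroup M, (∀ g, ∀ m ∈ N, R g m ∈ N) → N = ⊥ ∨ N = ⊤)
    (hnt : ∃ g m, R g m ≠ m)
    (hq : ∀ x m, Nu R x m ∈ M0 R) :
    ∃ f : (Fin 2 → F) ≃+ M, ∀ (g : SpecialLinearGroup (Fin 2) F) (v : Fin 2 → F),
      f (g.1.mulVec v) = R g (f v) := by
  have hne := M0_ne_bot R hnt hq
  obtain ⟨m₀, hm₀, hm₀0⟩ : ∃ m₀ ∈ M0 R, m₀ ≠ 0 := by
    by_contra hcon
    push Not at hcon
    apply hne
    rw [eq_bot_iff]
    intro m hm
    rw [AddSubgroup.mem_bot]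
    exact hcon m hm
  let f₀ : (Fin 2 → F) →+ M := AddMonoidHom.mk' (fmap R m₀) (fmap_add R hq m₀)
  have hf₀ : ∀ v, f₀ v = fmap R m₀ v := fun v => rfl
  have hinf : ∀ m : M, m ∈ M0 R → m ∈ M0' R → m = 0 :=
    fun m h1 h2 => eq_zero_of_mem_both R hirr hnt h1 h2
  have hNu_ne : ∀ y : F, Nu R y (Nl R 1 m₀) = 0 → y = 0 := by
    intro y hy
    by_contra hy0
    have := Nu_m1 R hirr hnt hq hm₀ (Units.mk0 y hy0)
    rw [Units.val_mk0, hy] at this
    exact hm₀0 (R_injective R _ this.symm)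
  have hinj : Function.Injective f₀ := by
    rw [injective_iff_map_eq_zero]
    intro v hv
    rw [hf₀] at hv
    unfold fmap at hv
    set a := Nu R (v 0) (Nl R 1 m₀) with ha
    set z := Nu R (v 1) (Nl R 1 m₀) with hz
    have haM : a ∈ M0 R := hq _ _
    have hzM : z ∈ M0 R := hq _ _
    have hbM : Nl R 1 z ∈ M0' R := hq' R hq _ _
    have hab : a = - Nl R 1 z := eq_neg_of_add_eq_zero_left hv
    have ha0 : a = 0 := hinf a haM (by rw [hab]; exact (M0' R).neg_mem hbM)
    have hb0 : Nl R 1 z = 0 := by rw [ha0] at hab; exact neg_eq_zero.mp hab.symm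
    have hz0 : z = 0 := by
      rw [Nl_one_on_M0 R hirr hnt hq hzM] at hb0
      exact R_injective R _ hb0
    have h0 : v 0 = 0 := hNu_ne _ ha0
    have h1 : v 1 = 0 := hNu_ne _ hz0
    ext i
    fin_cases i
    · exact h0
    · exact h1
  have hequi : ∀ (g : SpecialLinearGroup (Fin 2) F) (v : Fin 2 → F),
      f₀ (g.1.mulVec v) = R g (f₀ v) := fun g v => fmap_equivariant R hirr hnt hq hm₀ g v
  have hsurj : Function.Surjective f₀ := by
    rw [← AddMonoidHom.range_eq_top]
    rcases hirr f₀.range (by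
      rintro g m ⟨v, rfl⟩
      exact ⟨g.1.mulVec v, hequi g v⟩) with h | h
    · exfalso
      have hm : m₀ ∈ f₀.range := by
        refine ⟨![1, 0], ?_⟩
        rw [hf₀]
        unfold fmap
        simp only [Matrix.cons_val_zero, Matrix.cons_val_one]
        rw [Nu_zero, Nl_apply_zero, add_zero]
        have := Nu_m1 R hirr hnt hq hm₀ 1
        rw [Units.val_one, dg_one, R_one] at this
        exact this
      rw [h, AddSubgroup.mem_bot] at hm
      exact hm₀0 hm
    · exact h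
  exact ⟨AddEquiv.ofBijective f₀ ⟨hinj, hsurj⟩, hequi⟩

end Cfsg.Agent.QuadSL2
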