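import Mathlib
import Cfsg.Agent.Lib.Lead.QuadSL2D

set_option autoImplicit false

namespace Cfsg.Agent.QuadSL2

open Matrix Cfsg.Agent.Lib.Helper7

variable {F : Type*} [Field F] {M : Type*} [AddCommGroup M]
  (R : SpecialLinearGroup (Fin 2) F →* AddMonoid.End M)

theorem Nu_apply_add (x : F) (a b : M) : Nu R x (a + b) = Nu R x a + Nu R x b := by
  unfold Nu; rw [map_add]; abel

theorem uSL2_mul_dg (x : F) (t : Fˣ) :
    uSL2 x * dg t = dg t * uSL2 (((t⁻¹ : Fˣ) : F) ^ 2 * x) := by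
  rw [dg_mul_uSL2]
  congr 2
  have := t.ne_zero
  simp only [Units.val_inv_eq_inv_val]
  field_simp

theorem Nu_dg (x : F) (t : Fˣ) (m : M) :
    Nu R x (R (dg t) m) = R (dg t) (Nu R (((t⁻¹ : Fˣ) : F) ^ 2 * x) m) := by
  unfold Nu
  rw [map_sub, ← R_mul, ← R_mul, uSL2_mul_dg]

section card

variable (hinf : ∀ m : M, m ∈ M0 R → m ∈ M0' R → m = 0)
  (hdec : ∀ m : M, ∃ b, b ∈ M0' R ∧ m - b ∈ M0 R)

/-- the second layer inside `M0'` -/
def M1' : AddSubgroup M where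
  carrier := {m | m ∈ M0' R ∧ ∀ x, Nu R x m ∈ M0 R}
  zero_mem' := ⟨(M0' R).zero_mem, fun x => by rw [Nu_apply_zero]; exact (M0 R).zero_mem⟩
  add_mem' := fun {a b} ha hb =>
    ⟨(M0' R).add_mem ha.1 hb.1, fun x => by
      rw [Nu_apply_add]; exact (M0 R).add_mem (ha.2 x) (hb.2 x)⟩
  neg_mem' := fun {a} ha =>
    ⟨(M0' R).neg_mem ha.1, fun x => by
      have : Nu R x (-a) = - Nu R x a := by unfold Nu; rw [map_neg]; abel
      rw [this]; exact (M0 R).neg_mem (ha.2 x)⟩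

theorem dg_M1' {m : M} (hm : m ∈ M1' R) (t : Fˣ) : R (dg t) m ∈ M1' R := by
  refine ⟨dg_M0' R hm.1 t, fun x => ?_⟩
  rw [Nu_dg]
  exact dg_M0 R (hm.2 _) t

/-- the invariant subgroup `M1' + w M1'` -/
def NN : AddSubgroup M where
  carrier := {m | ∃ a ∈ M1' R, ∃ b ∈ M1' R, m = a + R (wt 1) b}
  zero_mem' := ⟨0, (M1' R).zero_mem, 0, (M1' R).zero_mem, by rw [map_zero, add_zero]⟩
  add_mem' := by
    rintro _ _ ⟨a, ha, b, hb, rfl⟩ ⟨a', ha', b', hb', rfl⟩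
    refine ⟨a + a', (M1' R).add_mem ha ha', b + b', (M1' R).add_mem hb hb', ?_⟩
    rw [map_add]; abel
  neg_mem' := by
    rintro _ ⟨a, ha, b, hb, rfl⟩
    refine ⟨-a, (M1' R).neg_mem ha, -b, (M1' R).neg_mem hb, ?_⟩
    rw [map_neg]; abel

include hinf in
theorem NN_stable : ∀ g, ∀ m ∈ NN R, R g m ∈ NN R := by
  apply stable_of_gen
  · rintro x _ ⟨a, ha, b, hb, rfl⟩
    have hwb : R (wt 1) b ∈ M0 R := wt_M0' R hb.1 1
    rw [map_add, hwb x]
    by_cases hx : x = 0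
    · rw [hx, uSL2_zero, R_one]
      exact ⟨a, ha, b, hb, rfl⟩
    · have h1 : R (uSL2 x) a = a + Nu R x a := by unfold Nu; abel
      have h2 : Nu R x a = R (wt 1) (R (dg (Units.mk0 x hx)⁻¹) a) := by
        have k := key1 R hinf (Units.mk0 x hx) ha.1 (ha.2 _)
        rw [Units.val_mk0] at k
        unfold Nu
        rw [← k, ← R_mul, wt_one_mul_dg, inv_inv, ← wt_eq_dg_mul]
      rw [h1, h2]
      refine ⟨a, ha, R (dg (Units.mk0 x hx)⁻¹) a + b, (M1' R).add_mem (dg_M1' R ha _) hb, ?_⟩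
      rw [map_add]; abel
  · rintro _ ⟨a, ha, b, hb, rfl⟩
    rw [map_add, ← R_mul, wt_one_sq]
    refine ⟨R (dg (-1)) b, dg_M1' R hb _, a, ha, ?_⟩
    abel

end card

end Cfsg.Agent.QuadSL2
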