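import Mathlib
import Cfsg.Agent.Lib.Lead.QuadSL2E

set_option autoImplicit false

namespace Cfsg.Agent.QuadSL2

open Matrix Cfsg.Agent.Lib.Helper7

variable {F : Type*} [Field F] {M : Type*} [AddCommGroup M]
  (R : SpecialLinearGroup (Fin 2) F →* AddMonoid.End M)

section proj

variable (hinf : ∀ m : M, m ∈ M0 R → m ∈ M0' R → m = 0)
  (hdec : ∀ m : M, ∃ b, b ∈ M0' R ∧ m - b ∈ M0 R)

/-- the projection onto `M0'` along `M0` -/
noncomputable def pr' (m : M) : M := Classical.choose (hdec m)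

theorem pr'_mem (m : M) : pr' R hdec m ∈ M0' R := (Classical.choose_spec (hdec m)).1

theorem sub_pr'_mem (m : M) : m - pr' R hdec m ∈ M0 R := (Classical.choose_spec (hdec m)).2

include hinf in
theorem pr'_unique {m b : M} (hb : b ∈ M0' R) (hmb : m - b ∈ M0 R) : pr' R hdec m = b := by
  have h1 : pr' R hdec m - b ∈ M0' R := (M0' R).sub_mem (pr'_mem R hdec m) hb
  have h2 : pr' R hdec m - b ∈ M0 R := by
    have : pr' R hdec m - b = (m - b) - (m - pr' R hdec m) := by abel
    rw [this]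
    exact (M0 R).sub_mem hmb (sub_pr'_mem R hdec m)
  exact sub_eq_zero.mp (hinf _ h2 h1)

/-- the action of the unipotent group on `M0' ≅ M / M0` -/
@[instance_reducible] noncomputable def actU : MulAction (Multiplicative F) (M0' R) where
  smul x b := ⟨pr' R hdec (R (uSL2 (Multiplicative.toAdd x)) b.1), pr'_mem R hdec _⟩
  one_smul b := by
    apply Subtype.ext
    show pr' R hdec (R (uSL2 (Multiplicative.toAdd (1 : Multiplicative F))) b.1) = b.1
    apply pr'_unique R hinf hdec b.2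
    rw [toAdd_one, uSL2_zero, R_one, sub_self]
    exact (M0 R).zero_mem
  mul_smul x y b := by
    apply Subtype.ext
    show pr' R hdec (R (uSL2 (Multiplicative.toAdd (x * y))) b.1) =
      pr' R hdec (R (uSL2 (Multiplicative.toAdd x))
        (pr' R hdec (R (uSL2 (Multiplicative.toAdd y)) b.1)))
    set b₁ := pr' R hdec (R (uSL2 (Multiplicative.toAdd y)) b.1) with hb₁
    set b₂ := pr' R hdec (R (uSL2 (Multiplicative.toAdd x)) b₁) with hb₂
    apply pr'_unique R hinf hdec (pr'_mem R hdec _)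
    have h1 : R (uSL2 (Multiplicative.toAdd y)) b.1 - b₁ ∈ M0 R := sub_pr'_mem R hdec _
    have h2 : R (uSL2 (Multiplicative.toAdd x)) b₁ - b₂ ∈ M0 R := sub_pr'_mem R hdec _
    rw [toAdd_mul, uSL2_add, R_mul]
    have h3 : R (uSL2 (Multiplicative.toAdd x)) (R (uSL2 (Multiplicative.toAdd y)) b.1) - b₂ =
        (R (uSL2 (Multiplicative.toAdd y)) b.1 - b₁) +
          (R (uSL2 (Multiplicative.toAdd x)) b₁ - b₂) := by
      have h4 : R (uSL2 (Multiplicative.toAdd y)) b.1 =
          (R (uSL2 (Multiplicative.toAdd y)) b.1 - b₁) + b₁ := by abel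
      conv_lhs => rw [h4, map_add, h1 (Multiplicative.toAdd x)]
      abel
    rw [h3]
    exact (M0 R).add_mem h1 h2

end proj

section fin

variable [Finite M] [Fintype F] {p : ℕ} [Fact p.Prime]

omit [Finite M] [Fintype F] in
theorem card_M0' : Nat.card (M0' R) = Nat.card (M0 R) := by
  symm
  apply Nat.card_congr
  exact
    { toFun := fun m => ⟨R (wt 1) m.1, wt_M0 R m.2 1⟩
      invFun := fun m => ⟨R (wt (-1)) m.1, wt_M0' R m.2 (-1)⟩
      left_inv := fun m => by
        apply Subtype.ext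
        show R (wt (-1)) (R (wt 1) m.1) = m.1
        rw [← R_mul, wt_neg_one_mul_wt_one, R_one]
      right_inv := fun m => by
        apply Subtype.ext
        show R (wt 1) (R (wt (-1)) m.1) = m.1
        rw [← R_mul, wt_one_mul_wt_neg_one, R_one] }

theorem quad_of_card
    (hirr : ∀ N : AddSubgroup M, (∀ g, ∀ m ∈ N, R g m ∈ N) → N = ⊥ ∨ N = ⊤)
    (hnt : ∃ g m, R g m ≠ m)
    (n : ℕ) (hF : Fintype.card F = p ^ n) (k : ℕ) (hM : Nat.card M = p ^ k)
    (hcard : Nat.card M ≤ Nat.card (M0 R) ^ 2) : ∀ x m, Nu R x m ∈ M0 R := by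
  have hinf : ∀ m : M, m ∈ M0 R → m ∈ M0' R → m = 0 :=
    fun m h1 h2 => eq_zero_of_mem_both R hirr hnt h1 h2
  -- decomposition
  let φ : (M0 R) × (M0' R) → M := fun ab => ab.1.1 + ab.2.1
  have hφinj : Function.Injective φ := by
    rintro ⟨⟨a, ha⟩, ⟨b, hb⟩⟩ ⟨⟨a', ha'⟩, ⟨b', hb'⟩⟩ h
    have h' : a + b = a' + b' := h
    have h1 : a - a' = b' - b := by
      have : a - a' = (a + b) - (a' + b) := by abel
      rw [this, h']; abel
    have h2 : a - a' = 0 := hinf _ ((M0 R).sub_mem ha ha') (by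
      rw [h1]; exact (M0' R).sub_mem hb' hb)
    have h3 : b' - b = 0 := by rw [← h1]; exact h2
    have e1 : a = a' := sub_eq_zero.mp h2
    have e2 : b' = b := sub_eq_zero.mp h3
    subst e1; subst e2; rfl
  have hφbij : Function.Bijective φ := by
    apply hφinj.bijective_of_nat_card_le
    rw [Nat.card_prod, card_M0']
    rw [sq] at hcard
    exact hcard
  have hdec : ∀ m : M, ∃ b, b ∈ M0' R ∧ m - b ∈ M0 R := by
    intro m
    obtain ⟨⟨⟨a, ha⟩, ⟨b, hb⟩⟩, hab⟩ := hφbij.2 m
    refine ⟨b, hb, ?_⟩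
    have : a + b = m := hab
    rw [← this]
    have : a + b - b = a := by abel
    rw [this]; exact ha
  -- M nontrivial, so M0' nontrivial
  have hMcard : 1 < Nat.card M := by
    obtain ⟨g, m, hgm⟩ := hnt
    rw [Finite.one_lt_card_iff_nontrivial]
    refine ⟨⟨R g m, m, hgm⟩⟩
  have hM0'card : 1 < Nat.card (M0' R) := by
    rw [card_M0']
    by_contra hcon
    push Not at hcon
    have : Nat.card (M0 R) ^ 2 ≤ 1 := by
      calc Nat.card (M0 R) ^ 2 ≤ 1 ^ 2 := Nat.pow_le_pow_left hcon 2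
        _ = 1 := one_pow 2
    omega
  have hpdvd : p ∣ Nat.card (M0' R) := by
    have hdvd : Nat.card (M0' R) ∣ p ^ k := by
      rw [← hM]; exact AddSubgroup.card_addSubgroup_dvd_card _
    obtain ⟨j, _, hj⟩ := (Nat.dvd_prime_pow (Fact.out : p.Prime)).mp hdvd
    rw [hj] at hM0'card ⊢
    have : j ≠ 0 := by
      rintro rfl
      simp at hM0'card
    exact dvd_pow_self p this
  -- the fixed point
  letI : MulAction (Multiplicative F) (M0' R) := actU R hinf hdec
  have hsmul : ∀ (x : Multiplicative F) (b : M0' R),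
      (x • b : M0' R) = ⟨pr' R hdec (R (uSL2 (Multiplicative.toAdd x)) b.1), pr'_mem R hdec _⟩ :=
    fun x b => rfl
  have hPG : IsPGroup p (Multiplicative F) := by
    apply IsPGroup.of_card (n := n)
    rw [← hF, ← Nat.card_eq_fintype_card]
    exact Nat.card_congr Multiplicative.toAdd
  have hfix0 : (0 : M0' R) ∈ MulAction.fixedPoints (Multiplicative F) (M0' R) := by
    intro x
    rw [hsmul]
    apply Subtype.ext
    show pr' R hdec (R (uSL2 (Multiplicative.toAdd x)) (0 : M)) = 0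
    rw [map_zero]
    apply pr'_unique R hinf hdec (M0' R).zero_mem
    rw [sub_self]; exact (M0 R).zero_mem
  obtain ⟨b₀, hb₀fix, hb₀ne⟩ :=
    hPG.exists_fixed_point_of_prime_dvd_card_of_fixed_point (M0' R) hpdvd hfix0
  have hb₀M1 : b₀.1 ∈ M1' R := by
    refine ⟨b₀.2, fun x => ?_⟩
    have h := hb₀fix (Multiplicative.ofAdd x)
    rw [hsmul] at h
    have h' : pr' R hdec (R (uSL2 x) b₀.1) = b₀.1 := congrArg Subtype.val h
    have := sub_pr'_mem R hdec (R (uSL2 x) b₀.1)
    rw [h'] at this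
    exact this
  have hb₀0 : b₀.1 ≠ 0 := by
    intro h
    apply hb₀ne
    apply Subtype.ext
    exact h.symm
  -- NN = ⊤
  have hNN : NN R = ⊤ := by
    rcases hirr (NN R) (NN_stable R hinf) with h | h
    · exfalso
      have : b₀.1 ∈ NN R := ⟨b₀.1, hb₀M1, 0, (M1' R).zero_mem, by rw [map_zero, add_zero]⟩
      rw [h, AddSubgroup.mem_bot] at this
      exact hb₀0 this
    · exact h
  have hM0'le : ∀ b ∈ M0' R, b ∈ M1' R := by
    intro b hb
    have : b ∈ NN R := by rw [hNN]; trivial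
    obtain ⟨a, ha, c, hc, hbac⟩ := this
    have hwc : R (wt 1) c ∈ M0 R := wt_M0' R hc.1 1
    have h1 : b - a = R (wt 1) c := by rw [hbac]; abel
    have h2 : b - a = 0 := hinf _ (by rw [h1]; exact hwc) ((M0' R).sub_mem hb ha.1)
    have : b = a := sub_eq_zero.mp h2
    rw [this]; exact ha
  intro x m
  obtain ⟨b, hb, hmb⟩ := hdec m
  have : m = (m - b) + b := by abel
  rw [this, Nu_apply_add, Nu_of_mem R hmb, zero_add]
  exact (hM0'le b hb).2 x

end fin

end Cfsg.Agent.QuadSL2
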