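import Cfsg.Agent.Lib.Helper5.Ree.Core
import Cfsg.Agent.Lib.Lead.ReeCube
import Mathlib

/-!
# The elements of odd order of `H¹` in the small Ree group (lead, for S1151)
-/

set_option autoImplicit false

namespace Cfsg.Agent.ReeL

open Cfsg.Lie Cfsg.Agent.Lib.Helper5.Chev Cfsg.Agent.Lib.Helper5.GA Cfsg.Agent.Lib.Helper5.Tw
open Cfsg.Agent.Lib.Helper5.Ree Cfsg.Agent.Lib.Helper5.Frob

section units

variable {K : Type*} [Field K] [Fintype K] {m : ℕ}

/-- `(q - 1) / 2` -/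
def halfq (m : ℕ) : ℕ := (3 ^ (2 * m + 1) - 1) / 2

theorem two_mul_halfq (m : ℕ) : 2 * halfq m = 3 ^ (2 * m + 1) - 1 := by
  unfold halfq
  have h : 3 ^ (2 * m + 1) % 2 = 1 := by
    rw [Nat.pow_mod]
    norm_num
  have h3 : 3 ^ 1 ≤ 3 ^ (2 * m + 1) := Nat.pow_le_pow_right (by norm_num) (by omega)
  omega

theorem odd_halfq (m : ℕ) : Odd (halfq m) := by
  have h4 : 3 ^ (2 * m + 1) % 4 = 3 := by
    induction m with
    | zero => rfl
    | succ k ih =>
      have : 3 ^ (2 * (k + 1) + 1) = 9 * 3 ^ (2 * k + 1) := by ring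
      omega
  have h2 := two_mul_halfq m
  rw [Nat.odd_iff]
  generalize 3 ^ (2 * m + 1) = q at h4 h2
  omega

theorem units_pow_card (hK : Fintype.card K = 3 ^ (2 * m + 1)) (μ : Kˣ) :
    μ ^ (2 * halfq m) = 1 := by
  classical
  rw [two_mul_halfq, ← hK, ← Fintype.card_units]
  exact pow_card_eq_one

theorem neg_one_ne_one (hK : Fintype.card K = 3 ^ (2 * m + 1)) : (-1 : Kˣ) ≠ 1 := by
  have : CharP K 3 := charP3 hK
  intro h
  have h1 : (-1 : K) = 1 := congrArg Units.val h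
  have h2 : (2 : K) = 0 := by
    have : (1 : K) + 1 = 0 := by
      nth_rewrite 1 [← h1]
      ring
    rw [← this]
    norm_num
  have h3 : (3 : K) = 0 := by
    have := CharP.cast_eq_zero K 3
    exact_mod_cast this
  have : (1 : K) = 0 := by
    have : (1 : K) = 3 - 2 := by norm_num
    rw [this, h2, h3, sub_zero]
  exact one_ne_zero this

theorem units_pow_half (hK : Fintype.card K = 3 ^ (2 * m + 1)) (μ : Kˣ) :
    μ ^ halfq m = 1 ∨ μ ^ halfq m = -1 := by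
  have h := units_pow_card hK μ
  rw [mul_comm, pow_mul] at h
  have h' : ((μ ^ halfq m : Kˣ) : K) ^ 2 = 1 := by
    rw [← Units.val_pow_eq_pow_val, h, Units.val_one]
  rcases sq_eq_one_iff.1 h' with h1 | h1
  · exact Or.inl (Units.ext h1)
  · exact Or.inr (Units.ext h1)

theorem odd_orderOf_iff (hK : Fintype.card K = 3 ^ (2 * m + 1)) (μ : Kˣ) :
    Odd (orderOf μ) ↔ μ ^ halfq m = 1 := by
  constructor
  · intro ho
    rw [← orderOf_dvd_iff_pow_eq_one]
    have h := orderOf_dvd_of_pow_eq_one (units_pow_card hK μ)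
    exact (Nat.Coprime.dvd_mul_left (Nat.Coprime.symm (Nat.coprime_two_left.2 ho))).1 h
  · intro h
    have := orderOf_dvd_of_pow_eq_one h
    exact Odd.of_dvd_nat (odd_halfq m) this

theorem odd_orderOf_neg_iff (hK : Fintype.card K = 3 ^ (2 * m + 1)) (μ : Kˣ) :
    Odd (orderOf (-μ)) ↔ ¬ Odd (orderOf μ) := by
  rw [odd_orderOf_iff hK, odd_orderOf_iff hK, neg_pow, (odd_halfq m).neg_one_pow]
  constructor
  · intro h h1
    rw [h1, mul_one] at h
    exact neg_one_ne_one hK h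
  · intro h
    rcases units_pow_half hK μ with h1 | h1
    · exact absurd h1 h
    · rw [h1]
      simp

/-- the number of the units of odd order -/
theorem card_units_odd (hK : Fintype.card K = 3 ^ (2 * m + 1)) :
    2 * Nat.card {μ : Kˣ // Odd (orderOf μ)} = 3 ^ (2 * m + 1) - 1 := by
  classical
  let e : {μ : Kˣ // Odd (orderOf μ)} ≃ {μ : Kˣ // ¬ Odd (orderOf μ)} :=
    { toFun := fun μ => ⟨-μ.1, fun h => ((odd_orderOf_neg_iff hK μ.1).1 h) μ.2⟩
      invFun := fun μ => ⟨-μ.1, (odd_orderOf_neg_iff hK μ.1).2 μ.2⟩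
      left_inv := fun μ => Subtype.ext (neg_neg _)
      right_inv := fun μ => Subtype.ext (neg_neg _) }
  have h1 : Fintype.card Kˣ = Fintype.card {μ : Kˣ // Odd (orderOf μ)}
      + Fintype.card {μ : Kˣ // ¬ Odd (orderOf μ)} := by
    rw [Fintype.card_subtype_compl]
    have := Fintype.card_subtype_le (fun μ : Kˣ => Odd (orderOf μ))
    omega
  rw [← Fintype.card_congr e, Fintype.card_units, hK] at h1
  rw [Nat.card_eq_fintype_card]
  omega

end units

section torus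

variable {K : Type*} [Field K] [Fintype K] [CharP K 3] {m : ℕ}

omit [Fintype K] in
/-- the values of the character of `tauT μ` -/
theorem chi_tauT (μ : Kˣ) (χ : ℕ → Kˣ)
    (h1 : ((tauT K m μ : GL chevG2.Idx K) : Matrix chevG2.Idx chevG2.Idx K) = chevG2.charDiag K χ)
    (r : Fin chevG2.nroots) :
    χ r.val = (Units.map (ph1 K m : K →* K) μ) ^ (cartanM chevG2 j0 r)
      * μ ^ (cartanM chevG2 j1 r) := by
  rw [tauT_apply, hU_apply, diagU_val] at h1
  unfold ChevalleyDatum.charDiag at h1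
  have h3 := Matrix.diagonal_injective h1
  have h4 := congrFun h3 (Sum.inr r)
  simp only [Sum.elim_inr] at h4
  apply Units.ext
  rw [← h4, zact_apply, prod_I2, Pi.mul_apply, Pi.mul_apply, Pi.mulSingle_eq_same,
    Pi.mulSingle_eq_same, Pi.mulSingle_eq_of_ne (by decide), Pi.mulSingle_eq_of_ne (by decide),
    one_mul, mul_one]

/-- `ph3 (ph3 μ) = μ ^ 3` -/
theorem ph3_ph3 (hK : Fintype.card K = 3 ^ (2 * m + 1)) (μ : Kˣ) :
    Units.map (ph3 K m : K →* K) (Units.map (ph3 K m : K →* K) μ) = μ ^ 3 := by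
  apply Units.ext
  show ph3 K m (ph3 K m (μ : K)) = ((μ ^ 3 : Kˣ) : K)
  rw [← ph1_pow3 (ph3 K m (μ : K)), ph1_ph3 hK, Units.val_pow_eq_pow_val]

omit [Fintype K] in
theorem ph1_cube (μ : Kˣ) :
    (Units.map (ph1 K m : K →* K) μ) ^ 3 = Units.map (ph3 K m : K →* K) μ := by
  apply Units.ext
  rw [Units.val_pow_eq_pow_val]
  exact ph1_pow3 _

/-- `χ(b) = 1` only for `μ = 1` -/
theorem mu_eq_one_of_chi6 (hK : Fintype.card K = 3 ^ (2 * m + 1)) (μ : Kˣ)
    (h : (Units.map (ph1 K m : K →* K) μ) ^ (-3 : ℤ) * μ ^ (2 : ℤ) = 1) : μ = 1 := by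
  have e1 : (Units.map (ph1 K m : K →* K) μ) ^ (-3 : ℤ)
      = (Units.map (ph3 K m : K →* K) μ)⁻¹ := by
    rw [zpow_neg, ← ph1_cube]
    rfl
  have e2 : μ ^ (2 : ℤ) = μ ^ 2 := rfl
  rw [e1, e2, inv_mul_eq_one] at h
  -- `ph3 μ = μ ^ 2`
  have h2 := congrArg (Units.map (ph3 K m : K →* K)) h
  rw [ph3_ph3 hK, map_pow, h] at h2
  -- `μ ^ 3 = μ ^ 4`
  have h3 : μ ^ 3 * 1 = μ ^ 3 * μ :=
    calc μ ^ 3 * 1 = μ ^ 3 := mul_one _
      _ = (μ ^ 2) ^ 2 := h2
      _ = μ ^ 3 * μ := by rw [← pow_mul, ← pow_succ]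
  exact (mul_left_cancel h3).symm

/-- `χ(3a + b) = 1` only for `μ ^ 2 = 1` -/
theorem mu_sq_eq_one_of_chi10 (hK : Fintype.card K = 3 ^ (2 * m + 1)) (μ : Kˣ)
    (h : (Units.map (ph1 K m : K →* K) μ) ^ (3 : ℤ) * μ ^ (-1 : ℤ) = 1) : μ ^ 2 = 1 := by
  have e1 : (Units.map (ph1 K m : K →* K) μ) ^ (3 : ℤ)
      = Units.map (ph3 K m : K →* K) μ := by
    rw [← ph1_cube]
    rfl
  rw [e1, zpow_neg_one, mul_inv_eq_one] at h
  -- `ph3 μ = μ`
  have h2 := congrArg (Units.map (ph3 K m : K →* K)) h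
  rw [ph3_ph3 hK, h] at h2
  -- `μ ^ 3 = μ`
  have h3 : μ * μ ^ 2 = μ * 1 :=
    calc μ * μ ^ 2 = μ ^ 3 := (pow_succ' μ 2).symm
      _ = μ := h2
      _ = μ * 1 := (mul_one _).symm
  exact mul_left_cancel h3

/-- a non-identity element of odd order of `H¹` centralises no non-identity element of `U¹` -/
theorem tauT_centralizer (hK : Fintype.card K = 3 ^ (2 * m + 1)) (μ : Kˣ) (hμ : μ ≠ 1)
    (hodd : Odd (orderOf μ)) (t u v : K)
    (hc : tauT K m μ * (hadd2 K).wordU ((posSide (hadd2 K)).rw m t u v) * (tauT K m μ)⁻¹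
      = (hadd2 K).wordU ((posSide (hadd2 K)).rw m t u v)) : t = 0 ∧ u = 0 ∧ v = 0 := by
  obtain ⟨χ, h1, h2⟩ := diag_conj_char chevG2 hD2 (tauT K m μ) (tauT_mem_diag μ)
  have x6 := chi_tauT μ χ h1 ⟨6, by decide⟩
  have x10 := chi_tauT μ χ h1 ⟨10, by decide⟩
  have x11 := chi_tauT μ χ h1 ⟨11, by decide⟩
  have c60 : cartanM chevG2 j0 ⟨6, by decide⟩ = -3 := by decide
  have c61 : cartanM chevG2 j1 ⟨6, by decide⟩ = 2 := by decide
  have c100 : cartanM chevG2 j0 ⟨10, by decide⟩ = 3 := by decide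
  have c101 : cartanM chevG2 j1 ⟨10, by decide⟩ = -1 := by decide
  have c110 : cartanM chevG2 j0 ⟨11, by decide⟩ = 0 := by decide
  have c111 : cartanM chevG2 j1 ⟨11, by decide⟩ = 1 := by decide
  rw [c60, c61] at x6
  rw [c100, c101] at x10
  rw [c110, c111, zpow_zero, one_mul, zpow_one] at x11
  have hw : ∀ p ∈ (posSide (hadd2 K)).rw m t u v, p.1 < chevG2.nroots := by
    intro p hp
    have h1 : p.1 ∈ ((posSide (hadd2 K)).rw m t u v).map Prod.fst :=
      List.mem_map_of_mem hp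
    have h2 : ((posSide (hadd2 K)).rw m t u v).map Prod.fst = [7, 6, 8, 9, 10, 11] := rfl
    rw [h2] at h1
    simp only [List.mem_cons, List.not_mem_nil, or_false] at h1
    have : chevG2.nroots = 12 := rfl
    omega
  rw [diag_conj_word _ χ h2 _ hw] at hc
  unfold Side.rw at hc
  have hc' : (hadd2 K).wordU ((posSide (hadd2 K)).w6 ((χ 7 : K) * ph1 K m t) ((χ 6 : K) * t)
      ((χ 8 : K) * (ph1 K m u + (posSide (hadd2 K)).e1 * (ph1 K m t * t)))
      ((χ 9 : K) * (ph1 K m v + (posSide (hadd2 K)).e2 * ((ph1 K m t) ^ 2 * t)))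
      ((χ 10 : K) * u) ((χ 11 : K) * v))
      = (hadd2 K).wordU ((posSide (hadd2 K)).w6 (ph1 K m t) t
        (ph1 K m u + (posSide (hadd2 K)).e1 * (ph1 K m t * t))
        (ph1 K m v + (posSide (hadd2 K)).e2 * ((ph1 K m t) ^ 2 * t)) u v) := hc
  obtain ⟨-, e6, -, -, e10, e11⟩ := w6_injective _ _ _ _ _ _ _ _ _ _ _ _ hc'
  have key : ∀ (c : Kˣ) (x : K), (c : K) * x = x → c ≠ 1 → x = 0 := by
    intro c x h hne
    by_contra hx
    apply hne
    apply Units.ext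
    have : ((c : K) - 1) * x = 0 := by rw [sub_mul, h, one_mul, sub_self]
    rcases mul_eq_zero.1 this with h' | h'
    · rw [Units.val_one]
      exact sub_eq_zero.1 h'
    · exact absurd h' hx
  refine ⟨key _ _ e6 ?_, key _ _ e10 ?_, key _ _ e11 ?_⟩
  · rw [x6]
    intro h
    exact hμ (mu_eq_one_of_chi6 hK μ h)
  · rw [x10]
    intro h
    have hsq := mu_sq_eq_one_of_chi10 hK μ h
    have hd : orderOf μ ∣ 2 := orderOf_dvd_of_pow_eq_one hsq
    have h1 : orderOf μ = 1 := by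
      have := Nat.le_of_dvd (by norm_num) hd
      rcases hodd with ⟨k, hk⟩
      omega
    exact hμ (orderOf_eq_one_iff.1 h1)
  · rw [x11]
    exact hμ

/-- the elements of `H¹` -/
theorem mem_diag_twisted_iff (hK : Fintype.card K = 3 ^ (2 * m + 1)) (h : GL chevG2.Idx K) :
    h ∈ chevG2.diagonalSubgroup K ⊓ twistedG2 K (3 ^ m) ↔ ∃ μ : Kˣ, tauT K m μ = h := by
  rw [diag_twisted_eq hK, diag_fixed_iff hK]
  rfl

/-- the number of elements of odd order of `H¹` -/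
theorem card_diag_twisted_odd (hK : Fintype.card K = 3 ^ (2 * m + 1)) :
    2 * Nat.card {h : ↥(chevG2.diagonalSubgroup K ⊓ twistedG2 K (3 ^ m)) // Odd (orderOf h)}
      = 3 ^ (2 * m + 1) - 1 := by
  rw [← card_units_odd (K := K) hK]
  congr 1
  symm
  have hord : ∀ μ : Kˣ, ∀ hm : tauT K m μ ∈ chevG2.diagonalSubgroup K ⊓ twistedG2 K (3 ^ m),
      orderOf (⟨tauT K m μ, hm⟩ : ↥(chevG2.diagonalSubgroup K ⊓ twistedG2 K (3 ^ m)))
        = orderOf μ := by
    intro μ hm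
    rw [← Subgroup.orderOf_coe]
    exact orderOf_injective (tauT K m) tauT_injective μ
  let f : {μ : Kˣ // Odd (orderOf μ)} →
      {h : ↥(chevG2.diagonalSubgroup K ⊓ twistedG2 K (3 ^ m)) // Odd (orderOf h)} := fun μ =>
    ⟨⟨tauT K m μ.1, (mem_diag_twisted_iff hK _).2 ⟨μ.1, rfl⟩⟩, by
      rw [hord]
      exact μ.2⟩
  have hbij : Function.Bijective f := by
    constructor
    · rintro ⟨a, ha⟩ ⟨b, hb⟩ h
      have h' : tauT K m a = tauT K m b := congrArg (fun x => ((x.1 : ↥(chevG2.diagonalSubgroup K ⊓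
        twistedG2 K (3 ^ m))) : GL chevG2.Idx K)) h
      exact Subtype.ext (tauT_injective h')
    · rintro ⟨⟨h, hh⟩, ho⟩
      obtain ⟨μ, rfl⟩ := (mem_diag_twisted_iff hK h).1 hh
      rw [hord] at ho
      exact ⟨⟨μ, ho⟩, rfl⟩
  exact Nat.card_congr (Equiv.ofBijective f hbij)

/-- a non-identity element of odd order of `H¹` centralises no non-identity element of `U¹` -/
theorem pos_inf_centralizer (hK : Fintype.card K = 3 ^ (2 * m + 1)) (h : GL chevG2.Idx K)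
    (hh : h ∈ chevG2.diagonalSubgroup K ⊓ twistedG2 K (3 ^ m)) (hne : h ≠ 1)
    (hodd : Odd (orderOf h)) :
    (chevG2.posUnipotent K ⊓ twistedG2 K (3 ^ m)) ⊓ Subgroup.centralizer {h} = ⊥ := by
  obtain ⟨μ, rfl⟩ := (mem_diag_twisted_iff hK h).1 hh
  have hμ : μ ≠ 1 := by
    rintro rfl
    exact hne (map_one _)
  rw [orderOf_injective (tauT K m) tauT_injective μ] at hodd
  rw [eq_bot_iff]
  intro x hxc
  obtain ⟨hx, hc⟩ := Subgroup.mem_inf.1 hxc
  rw [Subgroup.mem_bot]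
  obtain ⟨t, u, v, rfl⟩ := (pos_twisted_iff hK x).1 hx
  rw [Subgroup.mem_centralizer_iff] at hc
  have hc' := hc _ (Set.mem_singleton _)
  rw [← posSide_rw] at hc' ⊢
  obtain ⟨rfl, rfl, rfl⟩ := tauT_centralizer hK μ hμ hodd t u v (by
    rw [hc']
    group)
  exact (rw_eq_one_iff 0 0 0).2 ⟨rfl, rfl, rfl⟩

end torus

end Cfsg.Agent.ReeL
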