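import Cfsg.Agent.Lib.Helper5.Ree.Order
import Mathlib

/-!
# The Sylow 3-subgroups of the small Ree group are a TI set (lead, for S1155)
-/

set_option autoImplicit false

namespace Cfsg.Agent.ReeL

open Cfsg.Lie Cfsg.Agent.Lib.Helper5.Chev Cfsg.Agent.Lib.Helper5.GA Cfsg.Agent.Lib.Helper5.Tw
open Cfsg.Agent.Lib.Helper5.Ree

section

variable {K : Type*} [Field K] [Fintype K] [CharP K 3] {m : ℕ}

omit [Fintype K] [CharP K 3] in
theorem borel_le_normalizer_pos :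
    chevG2.borelSubgroup K ≤ Subgroup.normalizer (chevG2.posUnipotent K : Set (GL chevG2.Idx K)) := by
  unfold ChevalleyDatum.borelSubgroup
  exact sup_le Subgroup.le_normalizer (borel_semidirect_all chevG2 hD2).1

omit [Fintype K] [CharP K 3] in
theorem borel_conj_pos (b u : GL chevG2.Idx K) (hb : b ∈ chevG2.borelSubgroup K) :
    u ∈ chevG2.posUnipotent K ↔ b * u * b⁻¹ ∈ chevG2.posUnipotent K :=
  Subgroup.mem_normalizer_iff.1 (borel_le_normalizer_pos hb) u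

/-- an element of `U` with a conjugate by `g ∈ G¹ \ B` in `U` is trivial -/
theorem eq_one_of_conj_mem_pos (hK : Fintype.card K = 3 ^ (2 * m + 1)) (g y : GL chevG2.Idx K)
    (hg : g ∈ twistedG2 K (3 ^ m)) (hgB : g ∉ chevG2.borelSubgroup K)
    (hy : y ∈ chevG2.posUnipotent K) (hz : g⁻¹ * y * g ∈ chevG2.posUnipotent K) : y = 1 := by
  have hUB : chevG2.posUnipotent K ≤ chevG2.borelSubgroup K := le_sup_left
  have hHB : chevG2.diagonalSubgroup K ≤ chevG2.borelSubgroup K := le_sup_right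
  rcases twisted_cases hK g hg with ⟨u, hu, h, hh, e⟩ | ⟨u, hu, h, hh, u', hu', e⟩
  · exfalso
    apply hgB
    rw [e]
    exact Subgroup.mul_mem _ (hUB hu.1) (hHB hh.1)
  · set z := g⁻¹ * y * g with hzdef
    have hb : h * u' ∈ chevG2.borelSubgroup K := Subgroup.mul_mem _ (hHB hh.1) (hUB hu'.1)
    have hw : (h * u') * z * (h * u')⁻¹ ∈ chevG2.posUnipotent K := (borel_conj_pos _ _ hb).1 hz
    have hw1 : (h * u') * z * (h * u')⁻¹ = 1 := by
      apply n1_conj_not_borel hK _ hw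
      have e2 : n1 hK * ((h * u') * z * (h * u')⁻¹) * (n1 hK)⁻¹ = u⁻¹ * y * u := by
        rw [hzdef, e]
        group
      rw [e2]
      exact hUB (Subgroup.mul_mem _ (Subgroup.mul_mem _ (Subgroup.inv_mem _ hu.1) hy) hu.1)
    have hz1 : z = 1 := by
      have : z = (h * u')⁻¹ * ((h * u') * z * (h * u')⁻¹) * (h * u') := by group
      rw [this, hw1]
      group
    have : y = g * z * g⁻¹ := by
      rw [hzdef]
      group
    rw [this, hz1]
    group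

/-- `U¹` as a subgroup of the twisted group -/
def U1 (K : Type*) [Field K] (m : ℕ) : Subgroup ↥(twistedG2 K (3 ^ m)) :=
  (chevG2.posUnipotent K ⊓ twistedG2 K (3 ^ m)).subgroupOf (twistedG2 K (3 ^ m))

omit [Fintype K] [CharP K 3] in
theorem mem_U1 (x : ↥(twistedG2 K (3 ^ m))) :
    x ∈ U1 K m ↔ (x : GL chevG2.Idx K) ∈ chevG2.posUnipotent K := by
  unfold U1
  rw [Subgroup.mem_subgroupOf]
  exact ⟨fun h => h.1, fun h => ⟨h, x.2⟩⟩

theorem card_U1 (hK : Fintype.card K = 3 ^ (2 * m + 1)) :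
    Nat.card ↥(U1 K m) = (3 ^ (2 * m + 1)) ^ 3 := by
  unfold U1
  rw [Nat.card_congr (Subgroup.subgroupOfEquivOfLe inf_le_right).toEquiv]
  exact card_pos_twisted hK

/-- `U¹` is a Sylow 3-subgroup -/
theorem exists_sylow_U1 (hK : Fintype.card K = 3 ^ (2 * m + 1)) :
    ∃ P : Sylow 3 ↥(twistedG2 K (3 ^ m)), (P : Subgroup ↥(twistedG2 K (3 ^ m))) = U1 K m := by
  have : Fact (Nat.Prime 3) := ⟨Nat.prime_three⟩
  have hfin : Finite ↥(twistedG2 K (3 ^ m)) := by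
    apply Nat.finite_of_card_ne_zero
    rw [card_twisted hK]
    have h3 : 3 ^ 1 ≤ 3 ^ (2 * m + 1) := Nat.pow_le_pow_right (by norm_num) (by omega)
    have : 0 < 3 ^ (2 * m + 1) - 1 := by omega
    positivity
  have hp : IsPGroup 3 ↥(U1 K m) := by
    apply IsPGroup.of_card (n := 3 * (2 * m + 1))
    rw [card_U1 hK, ← pow_mul, mul_comm]
  obtain ⟨P, hP⟩ := hp.exists_le_sylow
  refine ⟨P, ?_⟩
  symm
  apply Subgroup.eq_of_le_of_card_ge hP
  -- the order of `P` divides `q ^ 3`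
  rw [card_U1 hK]
  apply Nat.le_of_dvd (by positivity)
  have hdvd : Nat.card ↥(P : Subgroup ↥(twistedG2 K (3 ^ m))) ∣ Nat.card ↥(twistedG2 K (3 ^ m)) :=
    Subgroup.card_subgroup_dvd_card _
  rw [card_twisted hK, mul_assoc] at hdvd
  apply Nat.Coprime.dvd_of_dvd_mul_right _ hdvd
  obtain ⟨n, hn⟩ := P.2.exists_card_eq
  rw [hn]
  apply Nat.Coprime.pow_left
  have e1 : 3 ^ (2 * m + 1) = 3 * 3 ^ (2 * m) := by ring
  have e2 : (3 ^ (2 * m + 1)) ^ 3 = 3 * (9 * (3 ^ (2 * m)) ^ 3) := by ring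
  have hpos : 0 < 3 ^ (2 * m) := by positivity
  apply Nat.Coprime.mul_right
  · rw [Nat.Prime.coprime_iff_not_dvd Nat.prime_three, e1]
    omega
  · rw [Nat.Prime.coprime_iff_not_dvd Nat.prime_three, e2]
    omega

end

end Cfsg.Agent.ReeL

namespace Cfsg.Agent.ReeL

open Cfsg.Lie Cfsg.Agent.Lib.Helper5.Chev Cfsg.Agent.Lib.Helper5.GA Cfsg.Agent.Lib.Helper5.Tw
open Cfsg.Agent.Lib.Helper5.Ree
open scoped Pointwise

section

variable {K : Type*} [Field K] [Fintype K] [CharP K 3] {m : ℕ}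

theorem finite_twisted (hK : Fintype.card K = 3 ^ (2 * m + 1)) :
    Finite ↥(twistedG2 K (3 ^ m)) := by
  apply Nat.finite_of_card_ne_zero
  rw [card_twisted hK]
  have h3 : 3 ^ 1 ≤ 3 ^ (2 * m + 1) := Nat.pow_le_pow_right (by norm_num) (by omega)
  have : 0 < 3 ^ (2 * m + 1) - 1 := by omega
  positivity

omit [Fintype K] [CharP K 3] in
theorem mem_conj_smul_U1 (g x : ↥(twistedG2 K (3 ^ m))) :
    x ∈ MulAut.conj g • U1 K m ↔
      (g : GL chevG2.Idx K)⁻¹ * (x : GL chevG2.Idx K) * (g : GL chevG2.Idx K)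
        ∈ chevG2.posUnipotent K := by
  rw [Subgroup.mem_pointwise_smul_iff_inv_smul_mem, MulAut.smul_def, MulAut.conj_inv_apply, mem_U1]
  rfl

/-- distinct Sylow 3-subgroups of the small Ree group meet trivially -/
theorem sylow_three_inf_eq_bot (hK : Fintype.card K = 3 ^ (2 * m + 1))
    (P Q : Sylow 3 ↥(twistedG2 K (3 ^ m))) (hPQ : P ≠ Q) :
    (P : Subgroup ↥(twistedG2 K (3 ^ m))) ⊓ (Q : Subgroup ↥(twistedG2 K (3 ^ m))) = ⊥ := by
  have : Fact (Nat.Prime 3) := ⟨Nat.prime_three⟩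
  have hfin := finite_twisted hK
  obtain ⟨P₀, hP₀⟩ := exists_sylow_U1 hK
  obtain ⟨g₁, rfl⟩ := MulAction.exists_smul_eq ↥(twistedG2 K (3 ^ m)) P₀ P
  obtain ⟨g₂, rfl⟩ := MulAction.exists_smul_eq ↥(twistedG2 K (3 ^ m)) P₀ Q
  rw [eq_bot_iff]
  intro x hx
  obtain ⟨hx1, hx2⟩ := Subgroup.mem_inf.1 hx
  rw [Subgroup.mem_bot]
  rw [Sylow.coe_subgroup_smul, hP₀, mem_conj_smul_U1] at hx1 hx2
  -- `g = g₁⁻¹ g₂` is not in `B`
  have hgB : (g₁ : GL chevG2.Idx K)⁻¹ * (g₂ : GL chevG2.Idx K) ∉ chevG2.borelSubgroup K := by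
    intro hB
    apply hPQ
    apply Sylow.ext
    ext y
    rw [Sylow.coe_subgroup_smul, Sylow.coe_subgroup_smul, hP₀, mem_conj_smul_U1, mem_conj_smul_U1]
    rw [borel_conj_pos _ _ (Subgroup.inv_mem _ hB)]
    have e : ((g₁ : GL chevG2.Idx K)⁻¹ * (g₂ : GL chevG2.Idx K))⁻¹ *
        ((g₁ : GL chevG2.Idx K)⁻¹ * (y : GL chevG2.Idx K) * (g₁ : GL chevG2.Idx K)) *
        ((g₁ : GL chevG2.Idx K)⁻¹ * (g₂ : GL chevG2.Idx K))⁻¹⁻¹
        = (g₂ : GL chevG2.Idx K)⁻¹ * (y : GL chevG2.Idx K) * (g₂ : GL chevG2.Idx K) := by group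
    rw [e]
  have h1 := eq_one_of_conj_mem_pos hK ((g₁ : GL chevG2.Idx K)⁻¹ * (g₂ : GL chevG2.Idx K))
    ((g₁ : GL chevG2.Idx K)⁻¹ * (x : GL chevG2.Idx K) * (g₁ : GL chevG2.Idx K))
    (Subgroup.mul_mem _ (Subgroup.inv_mem _ g₁.2) g₂.2) hgB hx1 (by
      have e : ((g₁ : GL chevG2.Idx K)⁻¹ * (g₂ : GL chevG2.Idx K))⁻¹ *
          ((g₁ : GL chevG2.Idx K)⁻¹ * (x : GL chevG2.Idx K) * (g₁ : GL chevG2.Idx K)) *
          ((g₁ : GL chevG2.Idx K)⁻¹ * (g₂ : GL chevG2.Idx K))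
          = (g₂ : GL chevG2.Idx K)⁻¹ * (x : GL chevG2.Idx K) * (g₂ : GL chevG2.Idx K) := by group
      rw [e]
      exact hx2)
  apply Subtype.ext
  have e : (x : GL chevG2.Idx K) = (g₁ : GL chevG2.Idx K) *
      ((g₁ : GL chevG2.Idx K)⁻¹ * (x : GL chevG2.Idx K) * (g₁ : GL chevG2.Idx K)) *
      (g₁ : GL chevG2.Idx K)⁻¹ := by group
  rw [e, h1]
  simp

end

end Cfsg.Agent.ReeL
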