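import Cfsg.Agent.Lib.Helper5.UC.Lifts
import Cfsg.Agent.Lib.Helper5.St.Unimod2
import Cfsg.Agent.Lib.Helper5.Chev.HCard
import Mathlib

/-!
# Embeddings of root systems and the induced homomorphisms of the groups presented by (R1), (R2)
(lead)
-/

set_option autoImplicit false

namespace Cfsg.Agent.RootEmb

open Cfsg.Lie Cfsg.Agent.Lib.Helper5.Chev Cfsg.Agent.Lib.Helper5.St Cfsg.Agent.Lib.Helper5.Tw
  Cfsg.Agent.Lib.Helper5.UC

/-- an embedding of the roots of `D₁` into the roots of `D₂` compatible with the structure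
constants, the negation and the fundamental roots -/
structure Emb (D₁ D₂ : ChevalleyDatum) (ι : ℕ → ℕ) : Prop where
  lt : ∀ r < D₁.nroots, ι r < D₂.nroots
  inj : ∀ r < D₁.nroots, ∀ s < D₁.nroots, ι r = ι s → r = s
  neg : ∀ r < D₁.nroots, D₂.neg (ι r) = ι (D₁.neg r)
  comm : ∀ r < D₁.nroots, ∀ s < D₁.nroots, s ≠ r → s ≠ D₁.neg r →
    D₂.commTerms (ι r) (ι s) = (D₁.commTerms r s).map fun c => (ι c.1, c.2)
  simple : ∀ i < D₁.rank, ι (D₁.simple i) = D₂.simple i
  rank_le : D₁.rank ≤ D₂.rank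

/-- the check of the structure constants for one pair -/
def commOK (D₁ D₂ : ChevalleyDatum) (ι : ℕ → ℕ) (r s : ℕ) : Bool :=
  decide (s = r) || decide (s = D₁.neg r) ||
    decide (D₂.commTerms (ι r) (ι s) = (D₁.commTerms r s).map fun c => (ι c.1, c.2))

theorem commOK_spec {D₁ D₂ : ChevalleyDatum} {ι : ℕ → ℕ} {r s : ℕ}
    (h : commOK D₁ D₂ ι r s = true) (hne : s ≠ r) (hneg : s ≠ D₁.neg r) :
    D₂.commTerms (ι r) (ι s) = (D₁.commTerms r s).map fun c => (ι c.1, c.2) := by
  unfold commOK at h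
  simp only [Bool.or_eq_true, decide_eq_true_eq] at h
  rcases h with (h | h) | h
  · exact absurd h hne
  · exact absurd h hneg
  · exact h

section hom

variable {K : Type*} [Field K] {D₁ D₂ : ChevalleyDatum} {ι : ℕ → ℕ}

theorem exists_embHom (hD₁ : D₁ ∈ [chevG2, chevB2, chevD4, chevF4, chevE6, chevE7, chevE8])
    (hD₂ : D₂ ∈ [chevG2, chevB2, chevD4, chevF4, chevE6, chevE7, chevE8]) (h : Emb D₁ D₂ ι) :
    ∃ τ : D₁.SteinbergCover K →* D₂.SteinbergCover K,
      ∀ r < D₁.nroots, ∀ t : K, τ (D₁.scGen K r t) = D₂.scGen K (ι r) t := by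
  obtain ⟨T, Bs, gH, baseH, fuel, C⟩ := stCtx_known K D₁ hD₁
  apply exists_hom_of_rel (Y := fun r t => D₂.scGen K (ι r) t) C.hA
  · intro r hr t u
    exact (coverRData (K := K) hD₂).add (ι r) (h.lt r hr) t u
  · intro r hr s hs hne hneg t u
    have h1 := (coverRData (K := K) hD₂).comm (ι r) (h.lt r hr) (ι s) (h.lt s hs)
      (fun e => hne (h.inj s hs r hr e))
      (fun e => hneg (h.inj s hs _ (neg_lt_all D₁ hD₁ r hr) (by rw [e, h.neg r hr]))) t u
    show D₂.scGen K (ι s) u * D₂.scGen K (ι r) t = _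
    have e : wordG (fun r t => D₂.scGen K (ι r) t) (D₁.commWord K r s t u)
        = wordG (coverRData (K := K) hD₂).X (D₂.commWord K (ι r) (ι s) t u) := by
      unfold wordG ChevalleyDatum.commWord
      rw [h.comm r hr s hs hne hneg, List.map_map, List.map_map, List.map_map]
      rfl
    rw [e]
    exact h1

/-- the homomorphism of the presented groups induced by an embedding of roots -/
noncomputable def embHom (K : Type*) [Field K]
    (hD₁ : D₁ ∈ [chevG2, chevB2, chevD4, chevF4, chevE6, chevE7, chevE8])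
    (hD₂ : D₂ ∈ [chevG2, chevB2, chevD4, chevF4, chevE6, chevE7, chevE8]) (h : Emb D₁ D₂ ι) :
    D₁.SteinbergCover K →* D₂.SteinbergCover K :=
  Classical.choose (exists_embHom (K := K) hD₁ hD₂ h)

theorem embHom_X (hD₁ : D₁ ∈ [chevG2, chevB2, chevD4, chevF4, chevE6, chevE7, chevE8])
    (hD₂ : D₂ ∈ [chevG2, chevB2, chevD4, chevF4, chevE6, chevE7, chevE8]) (h : Emb D₁ D₂ ι)
    (r : ℕ) (hr : r < D₁.nroots) (t : K) :
    embHom K hD₁ hD₂ h ((coverRData (K := K) hD₁).X r t) = (coverRData (K := K) hD₂).X (ι r) t :=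
  Classical.choose_spec (exists_embHom (K := K) hD₁ hD₂ h) r hr t

theorem embHom_nbar (hD₁ : D₁ ∈ [chevG2, chevB2, chevD4, chevF4, chevE6, chevE7, chevE8])
    (hD₂ : D₂ ∈ [chevG2, chevB2, chevD4, chevF4, chevE6, chevE7, chevE8]) (h : Emb D₁ D₂ ι)
    (r : ℕ) (hr : r < D₁.nroots) (t : K) :
    embHom K hD₁ hD₂ h ((coverRData (K := K) hD₁).nbar r t)
      = (coverRData (K := K) hD₂).nbar (ι r) t := by
  rw [RData.nbar_eq, RData.nbar_eq, map_mul, map_mul, embHom_X hD₁ hD₂ h r hr,
    embHom_X hD₁ hD₂ h _ (neg_lt_all D₁ hD₁ r hr), h.neg r hr]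

theorem embHom_hbar (hD₁ : D₁ ∈ [chevG2, chevB2, chevD4, chevF4, chevE6, chevE7, chevE8])
    (hD₂ : D₂ ∈ [chevG2, chevB2, chevD4, chevF4, chevE6, chevE7, chevE8]) (h : Emb D₁ D₂ ι)
    (i : ℕ) (hi : i < D₁.rank) (t : K) :
    embHom K hD₁ hD₂ h ((coverRData (K := K) hD₁).hbar i t)
      = (coverRData (K := K) hD₂).hbar i t := by
  unfold RData.hbar
  rw [map_mul, embHom_nbar hD₁ hD₂ h _ (simple_lt_all D₁ hD₁ i hi).1,
    embHom_nbar hD₁ hD₂ h _ (simple_lt_all D₁ hD₁ i hi).1, h.simple i hi]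

end hom

section torus

variable {K : Type*} [Field K] {D : ChevalleyDatum} {Γ : Type*} [Group Γ] (R : RData K D Γ)
  (hmul : ∀ i < D.rank, ∀ t₁ t₂ : K, t₁ ≠ 0 → t₂ ≠ 0 →
    R.hbar i t₁ * R.hbar i t₂ = R.hbar i (t₁ * t₂))
  (hcomm : Pairwise fun i j : Fin D.rank =>
      ∀ x y : Kˣ, Commute (R.hhom hmul i x) (R.hhom hmul j y))

/-- the homomorphism from the torus `(Kˣ)^rank` given by the `h̄_i` -/
noncomputable def torusHom : (Fin D.rank → Kˣ) →* Γ :=
  MonoidHom.noncommPiCoprod (R.hhom hmul) hcomm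

theorem torusHom_single (i : Fin D.rank) (x : Kˣ) :
    torusHom R hmul hcomm (Pi.mulSingle i x) = R.hbar i (x : K) := by
  unfold torusHom
  rw [MonoidHom.noncommPiCoprod_mulSingle]
  rfl

/-- the product of the weights, as a homomorphism from a torus of possibly smaller rank -/
def weightProd (K : Type*) [Field K] (D : ChevalleyDatum) (l : ℕ) :
    (Fin l → Kˣ) →* (D.Idx → Kˣ) :=
  ∏ k : Fin l, (weightHom K D k).comp (Pi.evalMonoidHom (fun _ => Kˣ) k)

theorem weightProd_single (l : ℕ) (i : Fin l) (x : Kˣ) :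
    weightProd K D l (Pi.mulSingle i x) = weightHom K D i x := by
  classical
  unfold weightProd
  rw [MonoidHom.finsetProd_apply, Finset.prod_eq_single i]
  · rw [MonoidHom.comp_apply]
    show weightHom K D i ((Pi.mulSingle i x : Fin l → Kˣ) i) = _
    rw [Pi.mulSingle_eq_same]
  · intro k _ hk
    rw [MonoidHom.comp_apply]
    show weightHom K D k ((Pi.mulSingle i x : Fin l → Kˣ) k) = 1
    rw [Pi.mulSingle_eq_of_ne hk, map_one]
  · intro hi
    exact absurd (Finset.mem_univ i) hi

theorem weightProd_inr (l : ℕ) (t : Fin l → Kˣ) (s : Fin D.nroots) :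
    weightProd K D l t (Sum.inr s) = ∏ k : Fin l, t k ^ D.cartan k s := by
  unfold weightProd
  rw [MonoidHom.finsetProd_apply, Finset.prod_apply]
  rfl

theorem weightProd_inl (l : ℕ) (t : Fin l → Kˣ) (j : Fin D.rank) :
    weightProd K D l t (Sum.inl j) = 1 := by
  unfold weightProd
  rw [MonoidHom.finsetProd_apply, Finset.prod_apply]
  apply Finset.prod_eq_one
  intro k _
  rfl

theorem theta_torus :
    R.θ.comp (torusHom R hmul hcomm) = (diagHom K D).comp (weightProd K D D.rank) := by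
  classical
  apply MonoidHom.pi_ext
  intro i x
  rw [MonoidHom.comp_apply, MonoidHom.comp_apply, torusHom_single, weightProd_single,
    R.theta_hbar i i.2 x]

theorem theta_torus_eq_one_iff (t : Fin D.rank → Kˣ) :
    R.θ (torusHom R hmul hcomm t) = 1 ↔ zact (cartanM D) t = 1 := by
  have h := DFunLike.congr_fun (theta_torus R hmul hcomm) t
  rw [MonoidHom.comp_apply, MonoidHom.comp_apply] at h
  rw [h]
  constructor
  · intro h1
    have h2 : weightProd K D D.rank t = 1 := diagHom_injective (h1.trans (map_one _).symm)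
    funext s
    have := congrFun h2 (Sum.inr s)
    rw [weightProd_inr] at this
    rw [zact_apply]
    exact this
  · intro h1
    have h2 : weightProd K D D.rank t = 1 := by
      funext x
      rcases x with j | s
      · exact weightProd_inl _ t j
      · rw [weightProd_inr]
        have := congrFun h1 s
        rw [zact_apply] at this
        exact this
    rw [h2, map_one]

theorem ker_le_torus_range {T : FD} {Bs : List ℕ} {gH : ℕ} {baseH : List ℕ} {fuel : ℕ}
    (C : StCtx K D T Bs gH baseH fuel) : R.θ.ker ≤ (torusHom R hmul hcomm).range := by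
  intro z hz
  have hzH := R.ker_le_H0 C hz
  have hrange : R.H0 ≤ (torusHom R hmul hcomm).range := by
    unfold torusHom
    rw [MonoidHom.noncommPiCoprod_range]
    unfold RData.H0
    rw [Subgroup.closure_le]
    rintro h ⟨i, hi, t, ht, rfl⟩
    have : R.hbar i t ∈ (R.hhom hmul ⟨i, hi⟩).range := ⟨Units.mk0 t ht, rfl⟩
    exact (le_iSup (fun i => (R.hhom hmul i).range) ⟨i, hi⟩) this
  exact hrange hzH

end torus

section inj

variable {K : Type*} [Field K] {D₁ D₂ : ChevalleyDatum} {ι : ℕ → ℕ}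

/-- the torus of the smaller group embeds when some roots of the bigger system have a
unimodular matrix of Cartan integers against the fundamental roots of the smaller one -/
theorem torus_injective (hD₁ : D₁ ∈ [chevG2, chevB2, chevD4, chevF4, chevE6, chevE7, chevE8])
    (hD₂ : D₂ ∈ [chevG2, chevB2, chevD4, chevF4, chevE6, chevE7, chevE8]) (h : Emb D₁ D₂ ι)
    (hmul : ∀ i < D₁.rank, ∀ t₁ t₂ : K, t₁ ≠ 0 → t₂ ≠ 0 →
      (coverRData (K := K) hD₁).hbar i t₁ * (coverRData (K := K) hD₁).hbar i t₂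
        = (coverRData (K := K) hD₁).hbar i (t₁ * t₂))
    (hcomm : Pairwise fun i j : Fin D₁.rank => ∀ x y : Kˣ,
      Commute ((coverRData (K := K) hD₁).hhom hmul i x) ((coverRData (K := K) hD₁).hhom hmul j y))
    (v : Fin D₁.rank → Fin D₂.nroots) (B : Fin D₁.rank → Fin D₁.rank → ℤ)
    (hAB : ∀ k m : Fin D₁.rank,
      ∑ j : Fin D₁.rank, D₂.cartan k (v j) * B j m = if k = m then 1 else 0) :
    Function.Injective (torusHom (coverRData (K := K) hD₁) hmul hcomm) := by
  classical
  have key : ((coverRData (K := K) hD₂).θ.comp (embHom K hD₁ hD₂ h)).comp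
      (torusHom (coverRData (K := K) hD₁) hmul hcomm)
        = (diagHom K D₂).comp (weightProd K D₂ D₁.rank) := by
    apply MonoidHom.pi_ext
    intro i x
    rw [MonoidHom.comp_apply, MonoidHom.comp_apply, MonoidHom.comp_apply, torusHom_single,
      weightProd_single, embHom_hbar hD₁ hD₂ h i i.2,
      (coverRData (K := K) hD₂).theta_hbar i (lt_of_lt_of_le i.2 h.rank_le) x]
  rw [injective_iff_map_eq_one]
  intro t ht
  have h1 := DFunLike.congr_fun key t
  rw [MonoidHom.comp_apply, MonoidHom.comp_apply, MonoidHom.comp_apply, ht, map_one, map_one]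
    at h1
  have h2 : weightProd K D₂ D₁.rank t = 1 := diagHom_injective (h1.symm.trans (map_one _).symm)
  have h3 : ∀ j : Fin D₁.rank, ∏ k : Fin D₁.rank, t k ^ (D₂.cartan k (v j)) = 1 := by
    intro j
    have := congrFun h2 (Sum.inr (v j))
    rw [weightProd_inr] at this
    exact this
  exact funext (unimod_trivial (fun k j : Fin D₁.rank => D₂.cartan k (v j)) B hAB t h3)

end inj

end Cfsg.Agent.RootEmb
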