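import Mathlib
import Cfsg.Agent.S0664
import Cfsg.Agent.Lib.Helper4.GTFus6
import Cfsg.Agent.Lib.Helper7.Qd4
import Cfsg.Agent.Lib.Lead.ZJFunctor

/-!
# Groups in which no subgroup maps onto `SL₂(p)`: `Z(J)` controls strong fusion
-/

set_option autoImplicit false
set_option linter.style.haveILetI false
set_option linter.unusedSectionVars false
set_option linter.unusedVariables false

namespace Cfsg.Agent.Lib.Lead.SLFreeLib

open Cfsg Cfsg.Agent.Lib.Helper7 Cfsg.Agent.Lib.Helper4.GTFus Cfsg.Agent.Lib.Helper4.GTSec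
  Cfsg.Agent.Lib.Helper4.GT2 Cfsg.Agent.S1959 Cfsg.Agent.Lib.Lead.ZJFunctor

universe u v

/-- no subgroup of `X` maps onto `SL₂(p)` -/
def SLFree (p : ℕ) (X : Type u) [Group X] : Prop :=
  ¬ ∃ (H : Subgroup X) (f : ↥H →* Matrix.SpecialLinearGroup (Fin 2) (ZMod p)), Function.Surjective f

section basic

variable {p : ℕ} {X : Type u} [Group X]

theorem SLFree.subgroup (h : SLFree p X) (L : Subgroup X) : SLFree p ↥L := by
  rintro ⟨H, f, hf⟩
  apply h
  let e := Subgroup.equivMapOfInjective H L.subtype L.subtype_injective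
  exact ⟨H.map L.subtype, f.comp e.symm.toMonoidHom, hf.comp e.symm.surjective⟩

theorem SLFree.quotient (h : SLFree p X) (M : Subgroup X) [M.Normal] : SLFree p (X ⧸ M) := by
  rintro ⟨H, f, hf⟩
  apply h
  refine ⟨H.comap (QuotientGroup.mk' M), f.comp ((QuotientGroup.mk' M).subgroupComap H), hf.comp ?_⟩
  exact MonoidHom.subgroupComap_surjective_of_surjective _ _ (QuotientGroup.mk'_surjective M)

theorem SLFree.not_qd [Fact p.Prime] (h : SLFree p X) :
    ¬ ∃ (K R : Subgroup X) (hR : (R.subgroupOf K).Normal),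
      Nonempty ((K ⧸ R.subgroupOf K) ≃* ↥(Cfsg.qd p)) := by
  rintro ⟨K, R, hR, ⟨e⟩⟩
  apply h
  let e' : (K ⧸ R.subgroupOf K) ≃* ↥(Cfsg.qdOver (ZMod p)) := e
  refine ⟨K, (blockHom (K := ZMod p)).comp (e'.toMonoidHom.comp (QuotientGroup.mk' _)), ?_⟩
  intro A
  obtain ⟨q, hq⟩ := e'.surjective (diagHom A)
  obtain ⟨k, rfl⟩ := QuotientGroup.mk'_surjective _ q
  refine ⟨k, ?_⟩
  show blockHom (e' (QuotientGroup.mk' _ k)) = A
  rw [hq, blockHom_diagHom]

/-- a surjection from a subgroup gives a section in the `K ⧸ R` form -/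
theorem exists_quotient_equiv {Y : Type v} [Group Y] (H : Subgroup X) (f : ↥H →* Y)
    (hf : Function.Surjective f) :
    ∃ (K : Subgroup X) (hK : (K.subgroupOf H).Normal), Nonempty ((↥H ⧸ K.subgroupOf H) ≃* Y) := by
  have h1 : (f.ker.map H.subtype).subgroupOf H = f.ker :=
    Subgroup.comap_map_eq_self_of_injective H.subtype_injective _
  have hR : ((f.ker.map H.subtype).subgroupOf H).Normal := by rw [h1]; infer_instance
  refine ⟨f.ker.map H.subtype, hR, ⟨?_⟩⟩
  exact (QuotientGroup.quotientMulEquivOfEq h1).trans (QuotientGroup.quotientKerEquivOfSurjective f hf)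

/-- the hypothesis in the subgroup form -/
theorem slfree_of_not_exists (N : Subgroup X)
    (h : ¬ ∃ (H K : Subgroup X) (hK : (K.subgroupOf H).Normal), H ≤ N ∧
      Nonempty ((H ⧸ K.subgroupOf H) ≃* Matrix.SpecialLinearGroup (Fin 2) (ZMod p))) :
    SLFree p ↥N := by
  rintro ⟨H₀, f, hf⟩
  apply h
  let e := Subgroup.equivMapOfInjective H₀ N.subtype N.subtype_injective
  obtain ⟨K, hK, hne⟩ := exists_quotient_equiv (H₀.map N.subtype) (f.comp e.symm.toMonoidHom)
    (hf.comp e.symm.surjective)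
  exact ⟨H₀.map N.subtype, K, hK, Subgroup.map_subtype_le _, hne⟩

end basic

section control

variable {p : ℕ} [Fact p.Prime]

theorem h𝓦_zjA : ∀ W ∈ ({zjA} : Set (∀ (Q : Type u) [Group Q], Subgroup Q)),
    Cfsg.IsCharPFunctor.{u} p W := by
  rintro _ rfl
  exact isCharPFunctor_zjA p

/-- in an `SL₂(p)`-free group `Z(J)` controls strong fusion -/
theorem family_of_SLFree (hp : p ≠ 2) (X : Type u) [Group X] [Finite X] (h : SLFree p X) :
    FamilyControlsStrongFusionIn p (Ind ({zjA} : Set (∀ (Q : Type u) [Group Q], Subgroup Q)) X) ⊤ := by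
  refine main_sections (h𝓦_zjA (p := p)) X (fun K R hR hc => ?_) X (isSec_self X)
  obtain ⟨T'⟩ : Nonempty (Sylow p (↥K ⧸ R.subgroupOf K)) := inferInstance
  have hfree : SLFree p (↥K ⧸ R.subgroupOf K) := (h.subgroup K).quotient _
  have hn := Cfsg.Agent.S0664.result hp hfree.not_qd hc T'
  refine family_of_ch T' (fun A g hA hgA => Ch.single _ ⟨zjA, rfl, rfl⟩ ?_ hA hgA)
  show g ∈ Subgroup.normalizer ((Cfsg.inducedFunctor zjA (T' : Subgroup (↥K ⧸ R.subgroupOf K)) :
    Subgroup (↥K ⧸ R.subgroupOf K)) : Set (↥K ⧸ R.subgroupOf K))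
  rw [induced_zjA, Subgroup.normalizer_eq_top_iff.mpr hn]
  exact Subgroup.mem_top g

end control

end Cfsg.Agent.Lib.Lead.SLFreeLib
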