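import Mathlib
import Cfsg.Prelude.Def_SolvableStructure

/-!
Hypothesis of S3033 (`q² ∤ |⟨x, x^g⟩|`), inheritance by subgroups and quotients, lifting of
elements of prime power order (author: lead).
-/

set_option autoImplicit false
set_option linter.unusedVariables false
set_option linter.unusedSectionVars false
set_option linter.style.longLine false

namespace Cfsg.Agent.Lead.SSHyp

universe u

/-- elements of prime power order lift along surjections of finite groups -/
theorem exists_lift_prime_pow {G H : Type*} [Group G] [Finite G] [Group H] (f : G →* H)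
    (hf : Function.Surjective f) {p : ℕ} (hp : p.Prime) (h : H) {a : ℕ} (hh : h ^ (p ^ a) = 1) :
    ∃ g : G, f g = h ∧ ∃ c : ℕ, orderOf g = p ^ c := by
  obtain ⟨y, rfl⟩ := hf h
  obtain ⟨e, m, hpm, hem⟩ := Nat.exists_eq_pow_mul_and_not_dvd (orderOf_pos y).ne' p hp.ne_one
  have hcop : Nat.Coprime m (p ^ a) :=
    (Nat.Coprime.pow_left a ((Nat.Prime.coprime_iff_not_dvd hp).mpr hpm)).symm
  obtain ⟨u, -, hu⟩ := Nat.exists_mul_mod_eq_of_coprime 1 hcop (pow_pos hp.pos a).ne'
  refine ⟨y ^ (m * u), ?_, ?_⟩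
  · rw [map_pow, pow_eq_pow_mod (m * u) hh, hu, ← pow_eq_pow_mod 1 hh, pow_one]
  · have h1 : (y ^ (m * u)) ^ (p ^ e) = 1 := by
      rw [← pow_mul, mul_comm, ← mul_assoc, ← hem, pow_mul, pow_orderOf_eq_one, one_pow]
    obtain ⟨c, -, hc⟩ := (Nat.dvd_prime_pow hp).mp (orderOf_dvd_of_pow_eq_one h1)
    exact ⟨c, hc⟩

/-- the hypothesis of S3033 -/
def Hyp (G : Type u) [Group G] : Prop :=
  ∀ (p q : ℕ), p.Prime → q.Prime → p ≠ q → ∀ (x g : G), (∃ a : ℕ, orderOf x = p ^ a) →
    (∃ b : ℕ, orderOf g = q ^ b) →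
      ¬ q ^ 2 ∣ Nat.card ↥(Subgroup.zpowers x ⊔ Subgroup.zpowers (g * x * g⁻¹))

theorem Hyp.subgroup {G : Type u} [Group G] (h : Hyp G) (H : Subgroup G) : Hyp ↥H := by
  intro p q hp hq hpq x g hx hg
  have h1 := h p q hp hq hpq (x : G) (g : G) (by rwa [Subgroup.orderOf_coe])
    (by rwa [Subgroup.orderOf_coe])
  have h2 : (Subgroup.zpowers x ⊔ Subgroup.zpowers (g * x * g⁻¹)).map H.subtype =
      Subgroup.zpowers (x : G) ⊔ Subgroup.zpowers ((g : G) * x * (g : G)⁻¹) := by
    rw [Subgroup.map_sup, MonoidHom.map_zpowers, MonoidHom.map_zpowers]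
    rfl
  rw [← h2, Subgroup.card_map_of_injective H.subtype_injective] at h1
  exact h1

theorem Hyp.quotient {G : Type u} [Group G] [Finite G] (h : Hyp G) (N : Subgroup G) [N.Normal] :
    Hyp (G ⧸ N) := by
  intro p q hp hq hpq x g hx hg
  obtain ⟨a, ha⟩ := hx
  obtain ⟨b, hb⟩ := hg
  obtain ⟨x', rfl, hx'⟩ := exists_lift_prime_pow (QuotientGroup.mk' N)
    (QuotientGroup.mk'_surjective N) hp x (a := a) (by rw [← ha, pow_orderOf_eq_one])
  obtain ⟨g', rfl, hg'⟩ := exists_lift_prime_pow (QuotientGroup.mk' N)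
    (QuotientGroup.mk'_surjective N) hq g (a := b) (by rw [← hb, pow_orderOf_eq_one])
  have h1 := h p q hp hq hpq x' g' hx' hg'
  intro hdvd
  apply h1
  have h2 : (Subgroup.zpowers x' ⊔ Subgroup.zpowers (g' * x' * g'⁻¹)).map (QuotientGroup.mk' N) =
      Subgroup.zpowers (QuotientGroup.mk' N x') ⊔
        Subgroup.zpowers (QuotientGroup.mk' N g' * QuotientGroup.mk' N x' *
          (QuotientGroup.mk' N g')⁻¹) := by
    rw [Subgroup.map_sup, MonoidHom.map_zpowers, MonoidHom.map_zpowers, map_mul, map_mul, map_inv]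
  rw [← h2] at hdvd
  exact hdvd.trans (Subgroup.card_map_dvd _ _)

end Cfsg.Agent.Lead.SSHyp
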