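import Mathlib

/-!
Abstract representation-theoretic core for S3033 (author: lead).

`ρ : G →* End (ZMod q) V` irreducible, every element whose action has prime-power order `r^a`
(`r ≠ q`) acts as `1 ⊕ μ` ("quasi-reflection" condition `QR`).  Then a normal subgroup `C₁`
generated modulo scalars by a single element `c` with `ρ c` of prime power order consists of
scalars.
-/

set_option autoImplicit false
set_option linter.unusedVariables false
set_option linter.unusedSectionVars false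
set_option linter.style.longLine false

namespace Cfsg.Agent.Lead.SSRep

open Module

/-- If `f` commutes with `g` and every vector of `range g` is an eigenvector of `f` then `f` is a
scalar on `range g`. -/
theorem scalar_on_range {K V : Type*} [Field K] [AddCommGroup V] [Module K V] (f g : V →ₗ[K] V)
    (hfg : ∀ v, f (g v) = g (f v)) (h : ∀ v, ∃ t : K, f (g v) = t • g v) :
    ∃ t : K, ∀ v, f (g v) = t • g v := by
  have hR : ∀ x ∈ LinearMap.range g, f x ∈ LinearMap.range g := by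
    rintro x ⟨v, rfl⟩
    exact ⟨f v, (hfg v).symm⟩
  have hf' : ∀ x : LinearMap.range g, ¬ LinearIndependent K ![x, (f.restrict hR) x] := by
    rintro ⟨x, v, rfl⟩
    obtain ⟨t, ht⟩ := h v
    rw [LinearIndependent.pair_iff]
    intro hcon
    have := hcon t (-1) (by
      apply Subtype.ext
      simp [LinearMap.restrict_apply, ht])
    exact one_ne_zero (neg_eq_zero.mp this.2)
  obtain ⟨t, ht⟩ := LinearMap.exists_eq_smul_id_of_forall_notLinearIndependent hf'
  refine ⟨t, fun v => ?_⟩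
  have := congrArg (fun φ => ((φ ⟨g v, v, rfl⟩ : LinearMap.range g) : V)) ht
  simpa [LinearMap.restrict_apply] using this

section

variable {q : ℕ} [hq : Fact q.Prime] {G V : Type*} [Group G] [AddCommGroup V] [Module (ZMod q) V]

/-- `φ` acts as `1 ⊕ μ`: `(φ - 1)(φ - μ) = 0`. -/
def Quad (φ : Module.End (ZMod q) V) (μ : ZMod q) : Prop := ∀ v, φ (v - φ v) = μ • (v - φ v)

theorem quad_of_qr (φ : Module.End (ZMod q) V)
    (h : ∀ v, ∃ t : ZMod q, φ (v - φ v) = t • (v - φ v)) : ∃ μ, Quad φ μ := by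
  obtain ⟨t, ht⟩ := scalar_on_range φ (1 - φ) (by intro v; simp) (by
    intro v
    obtain ⟨t, ht⟩ := h v
    exact ⟨t, by simpa using ht⟩)
  exact ⟨t, fun v => by simpa using ht v⟩

theorem Quad.sq {φ : Module.End (ZMod q) V} {μ : ZMod q} (h : Quad φ μ) (v : V) :
    φ (φ v) = (1 + μ) • φ v - μ • v := by
  have := h v
  rw [map_sub, smul_sub] at this
  have h2 : φ (φ v) = φ v - (μ • v - μ • φ v) := by rw [← this]; abel
  rw [h2, add_smul, one_smul]; abel

theorem pow_apply_eigen (φ : Module.End (ZMod q) V) {μ : ZMod q} {v : V} (h : φ v = μ • v) (j : ℕ) :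
    (φ ^ j) v = μ ^ j • v := by
  induction j with
  | zero => simp
  | succ j ih => rw [pow_succ', Module.End.mul_apply, ih, map_smul, h, smul_smul, pow_succ]

/-- unipotent of order prime to `q` is trivial -/
theorem eq_one_of_quad_one {φ : Module.End (ZMod q) V} (h : Quad φ 1) (n : ℕ) (hn : (n : ZMod q) ≠ 0)
    (hpow : φ ^ n = 1) : φ = 1 := by
  have hfix : ∀ v, φ (φ v - v) = φ v - v := by
    intro v
    have := h v
    rw [one_smul] at this
    have h2 : φ v - v = -(v - φ v) := by abel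
    rw [h2, map_neg, this]
  have hj : ∀ (j : ℕ) (v : V), (φ ^ j) v = v + (j : ZMod q) • (φ v - v) := by
    intro j
    induction j with
    | zero => intro v; simp
    | succ j ih =>
      intro v
      rw [pow_succ', Module.End.mul_apply, ih, map_add, map_smul, hfix]
      push_cast
      module
  apply LinearMap.ext
  intro v
  have := hj n v
  rw [hpow, Module.End.one_apply] at this
  have h3 : (n : ZMod q) • (φ v - v) = 0 := by
    have h4 : v + (n : ZMod q) • (φ v - v) = v + 0 := by rw [add_zero]; exact this.symm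
    exact add_left_cancel h4
  rcases smul_eq_zero.mp h3 with h5 | h5
  · exact absurd h5 hn
  · rw [Module.End.one_apply]; exact sub_eq_zero.mp h5

end

section

variable {q : ℕ} [hq : Fact q.Prime] {G V : Type*} [Group G] [AddCommGroup V] [Module (ZMod q) V]
  (ρ : G →* Module.End (ZMod q) V)

/-- the elements acting as scalars -/
def scalarSubgroup : Subgroup G where
  carrier := {g | ∃ t : ZMod q, ρ g = t • 1}
  one_mem' := ⟨1, by simp⟩
  mul_mem' := by
    rintro a b ⟨s, hs⟩ ⟨t, ht⟩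
    refine ⟨s * t, ?_⟩
    rw [map_mul, hs, ht, smul_mul_assoc, one_mul, smul_smul]
  inv_mem' := by
    rintro a ⟨s, hs⟩
    have hm := map_mul ρ a⁻¹ a
    rw [inv_mul_cancel, map_one, hs, mul_smul_comm, mul_one] at hm
    by_cases h0 : s = 0
    · refine ⟨0, ?_⟩
      rw [h0, zero_smul] at hm
      rw [zero_smul]
      calc ρ a⁻¹ = ρ a⁻¹ * 1 := (mul_one _).symm
        _ = 0 := by rw [hm, mul_zero]
    · refine ⟨s⁻¹, ?_⟩
      rw [hm, smul_smul, inv_mul_cancel₀ h0, one_smul]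

theorem mem_scalarSubgroup {g : G} : g ∈ scalarSubgroup ρ ↔ ∃ t : ZMod q, ρ g = t • 1 := Iff.rfl

instance scalarSubgroup_normal : (scalarSubgroup ρ).Normal := ⟨by
  rintro n ⟨t, ht⟩ g
  refine ⟨t, ?_⟩
  rw [map_mul, map_mul, ht, mul_smul_comm, mul_one, smul_mul_assoc, ← map_mul, mul_inv_cancel,
    map_one]⟩

theorem rho_inv_apply (g : G) (v : V) : ρ g⁻¹ (ρ g v) = v := by
  rw [← Module.End.mul_apply, ← map_mul, inv_mul_cancel, map_one, Module.End.one_apply]

theorem rho_apply_inv (g : G) (v : V) : ρ g (ρ g⁻¹ v) = v := by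
  rw [← Module.End.mul_apply, ← map_mul, mul_inv_cancel, map_one, Module.End.one_apply]

theorem rho_conj (g c : G) (v : V) : ρ c (ρ g v) = ρ g (ρ (g⁻¹ * c * g) v) := by
  rw [← Module.End.mul_apply, ← Module.End.mul_apply, ← map_mul, ← map_mul]
  congr 2; group

theorem rho_injective (g : G) {v : V} (h : ρ g v = 0) : v = 0 := by
  have := rho_inv_apply ρ g v
  rw [h, map_zero] at this
  exact this.symm

theorem case_q
    (hirr : ∀ U : Submodule (ZMod q) V, (∀ g, ∀ v ∈ U, ρ g v ∈ U) → U = ⊥ ∨ U = ⊤)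
    (C₁ : Subgroup G) (hC₁n : C₁.Normal) (c : G) (hc : c ∈ C₁) (hcB : ¬ ∃ t : ZMod q, ρ c = t • 1)
    (hC₁ : ∀ x ∈ C₁, ∃ (t : ZMod q) (j : ℕ), ρ x = t • ρ (c ^ j))
    (a : ℕ) (hca : ρ (c ^ (q ^ a)) = 1) : False := by
  have hfpow : (ρ c) ^ (q ^ a) = 1 := by rw [← map_pow]; exact hca
  have hnil : (ρ c - 1) ^ (q ^ a) = 0 := by
    have h1 : ((Polynomial.X - 1 : Polynomial (ZMod q))) ^ (q ^ a) = Polynomial.X ^ (q ^ a) - 1 := by
      rw [sub_pow_char_pow, one_pow]
    have h2 := congrArg (Polynomial.aeval (ρ c)) h1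
    simpa [hfpow] using h2
  have hfix : ∃ e : V, e ≠ 0 ∧ ρ c e = e := by
    by_contra hcon
    push Not at hcon
    have hcon' : ∀ e : V, ρ c e = e → e = 0 := fun e he => by_contra fun h0 => hcon e h0 he
    have hinj : ∀ (n : ℕ) (v : V), ((ρ c - 1) ^ n) v = 0 → v = 0 := by
      intro n
      induction n with
      | zero => intro v hv; simpa using hv
      | succ n ih =>
        intro v hv
        rw [pow_succ', Module.End.mul_apply, LinearMap.sub_apply, Module.End.one_apply,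
          sub_eq_zero] at hv
        exact ih v (hcon' _ hv)
    apply hcB
    refine ⟨1, ?_⟩
    apply LinearMap.ext
    intro v
    have : v = 0 := hinj (q ^ a) v (by rw [hnil]; rfl)
    rw [this]; simp
  obtain ⟨e₀, he₀, hfe₀⟩ := hfix
  have hE : ∀ v, v ∈ Module.End.eigenspace (ρ c) 1 ↔ ρ c v = v := by
    intro v; rw [Module.End.mem_eigenspace_iff, one_smul]
  have hEinv : ∀ g, ∀ v ∈ Module.End.eigenspace (ρ c) 1, ρ g v ∈ Module.End.eigenspace (ρ c) 1 := by
    intro g v hv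
    rw [hE] at hv ⊢
    have hx : g⁻¹ * c * g ∈ C₁ := by
      have := hC₁n.conj_mem c hc g⁻¹
      simpa using this
    obtain ⟨t, j, htj⟩ := hC₁ _ hx
    have hxpow : (ρ (g⁻¹ * c * g)) ^ (q ^ a) = 1 := by
      rw [← map_pow]
      have : (g⁻¹ * c * g) ^ (q ^ a) = g⁻¹ * c ^ (q ^ a) * g := by
        have := conj_pow (a := g⁻¹) (b := c) (i := q ^ a)
        simpa using this
      rw [this, map_mul, map_mul, hca, mul_one, ← map_mul, inv_mul_cancel, map_one]
    have hfj : ∀ v, ρ c v = v → ((ρ c) ^ j) v = v := by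
      intro v hv
      have := pow_apply_eigen (ρ c) (μ := 1) (by rw [one_smul]; exact hv) j
      simpa using this
    have hxe : ∀ v, ρ c v = v → ρ (g⁻¹ * c * g) v = t • v := by
      intro v hv
      rw [htj, LinearMap.smul_apply, map_pow, hfj v hv]
    have ht : t = 1 := by
      have h1 := pow_apply_eigen (ρ (g⁻¹ * c * g)) (hxe e₀ hfe₀) (q ^ a)
      rw [hxpow, Module.End.one_apply, ZMod.pow_card_pow] at h1
      have h2 : (t - 1) • e₀ = 0 := by rw [sub_smul, one_smul, ← h1, sub_self]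
      rcases smul_eq_zero.mp h2 with h3 | h3
      · exact sub_eq_zero.mp h3
      · exact absurd h3 he₀
    rw [rho_conj ρ g c v, hxe v hv, ht, one_smul]
  rcases hirr _ hEinv with h | h
  · have : e₀ ∈ Module.End.eigenspace (ρ c) 1 := (hE e₀).mpr hfe₀
    rw [h, Submodule.mem_bot] at this
    exact he₀ this
  · apply hcB
    refine ⟨1, ?_⟩
    apply LinearMap.ext
    intro v
    have : v ∈ Module.End.eigenspace (ρ c) 1 := by rw [h]; trivial
    rw [one_smul, Module.End.one_apply]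
    exact (hE v).mp this

end

section

variable {q : ℕ} [hq : Fact q.Prime] {G V : Type*} [Group G] [AddCommGroup V] [Module (ZMod q) V]
  (ρ : G →* Module.End (ZMod q) V)

/-- `m` sends `X` into `Y` -/
def Sends (m : G) (X Y : Submodule (ZMod q) V) : Prop := ∀ x ∈ X, ρ m x ∈ Y

theorem Sends.comp {m m' : G} {X Y Z : Submodule (ZMod q) V} (h : Sends ρ m X Y)
    (h' : Sends ρ m' Y Z) : Sends ρ (m' * m) X Z := by
  intro x hx
  rw [map_mul, Module.End.mul_apply]
  exact h' _ (h x hx)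

theorem case_ne [Finite G]
    (hirr : ∀ U : Submodule (ZMod q) V, (∀ g, ∀ v ∈ U, ρ g v ∈ U) → U = ⊥ ∨ U = ⊤)
    (hQR : ∀ g : G, ∀ r : ℕ, r.Prime → r ≠ q → ∀ a : ℕ, ρ (g ^ (r ^ a)) = 1 →
      ∀ v, ∃ t : ZMod q, ρ g (v - ρ g v) = t • (v - ρ g v))
    (C₁ : Subgroup G) (hC₁n : C₁.Normal) (c : G) (hc : c ∈ C₁) (hcB : ¬ ∃ t : ZMod q, ρ c = t • 1)
    (hC₁ : ∀ x ∈ C₁, ∃ (t : ZMod q) (j : ℕ), ρ x = t • ρ (c ^ j))
    (r : ℕ) (hr : r.Prime) (hrq : r ≠ q) (a : ℕ) (hca : ρ (c ^ (r ^ a)) = 1) : False := by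
  obtain ⟨k, hk⟩ := quad_of_qr (ρ c) (hQR c r hr hrq a hca)
  have hrF : ((r ^ a : ℕ) : ZMod q) ≠ 0 := by
    rw [Nat.cast_pow]
    apply pow_ne_zero
    intro h0
    rw [ZMod.natCast_eq_zero_iff] at h0
    exact hrq ((Nat.prime_dvd_prime_iff_eq hq.out hr).mp h0).symm
  have hfpow : (ρ c) ^ (r ^ a) = 1 := by rw [← map_pow]; exact hca
  have hk1 : k ≠ 1 := by
    rintro rfl
    apply hcB
    exact ⟨1, by rw [eq_one_of_quad_one hk (r ^ a) hrF hfpow, one_smul]⟩
  have hE1 : ∀ v, v ∈ Module.End.eigenspace (ρ c) 1 ↔ ρ c v = v := by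
    intro v; rw [Module.End.mem_eigenspace_iff, one_smul]
  have hEk : ∀ v, v ∈ Module.End.eigenspace (ρ c) k ↔ ρ c v = k • v := by
    intro v; rw [Module.End.mem_eigenspace_iff]
  generalize hE1def : Module.End.eigenspace (ρ c) 1 = E1 at hE1
  generalize hEkdef : Module.End.eigenspace (ρ c) k = Ek at hEk
  have hdisj : ∀ v, v ∈ E1 → v ∈ Ek → v = 0 := by
    intro v h1 hk'
    rw [hE1] at h1; rw [hEk] at hk'
    have : (k - 1) • v = 0 := by rw [sub_smul, one_smul, ← hk', h1, sub_self]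
    rcases smul_eq_zero.mp this with h | h
    · exact absurd (sub_eq_zero.mp h) hk1
    · exact h
  have hdec : ∀ v, ∃ a' ∈ E1, ∃ w ∈ Ek, v = a' + w := by
    intro v
    have h1k : (1 - k) ≠ 0 := sub_ne_zero.mpr (Ne.symm hk1)
    refine ⟨(1 - k)⁻¹ • (ρ c v - k • v), ?_, (1 - k)⁻¹ • (v - ρ c v), ?_, ?_⟩
    · rw [hE1, map_smul, map_sub, map_smul, hk.sq]
      congr 1
      rw [add_smul, one_smul]; abel
    · rw [hEk, map_smul, hk v, smul_comm]
    · rw [← smul_add]
      have : ρ c v - k • v + (v - ρ c v) = (1 - k) • v := by rw [sub_smul, one_smul]; abel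
      rw [this, smul_smul, inv_mul_cancel₀ h1k, one_smul]
  have hE1ne : ∃ e, e ∈ E1 ∧ e ≠ 0 := by
    by_contra hcon
    push Not at hcon
    apply hcB
    refine ⟨k, ?_⟩
    apply LinearMap.ext; intro v
    obtain ⟨a', ha', w, hw, rfl⟩ := hdec v
    have := hcon a' ha'
    subst this
    rw [zero_add, LinearMap.smul_apply, Module.End.one_apply]
    exact (hEk w).mp hw
  have hEkne : ∃ e, e ∈ Ek ∧ e ≠ 0 := by
    by_contra hcon
    push Not at hcon
    apply hcB
    refine ⟨1, ?_⟩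
    apply LinearMap.ext; intro v
    obtain ⟨a', ha', w, hw, rfl⟩ := hdec v
    have := hcon w hw
    subst this
    rw [add_zero, LinearMap.smul_apply, Module.End.one_apply, one_smul]
    exact (hE1 a').mp ha'
  obtain ⟨e1, he1, he1ne⟩ := hE1ne
  obtain ⟨ek, hek, hekne⟩ := hEkne
  have hk0 : k ≠ 0 := by
    rintro rfl
    have := (hEk ek).mp hek
    rw [zero_smul] at this
    exact hekne (rho_injective ρ c this)
  have hscal : ∀ x ∈ C₁, ∃ β γ : ZMod q, (∀ v ∈ E1, ρ x v = β • v) ∧ (∀ w ∈ Ek, ρ x w = γ • w) := by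
    intro x hx
    obtain ⟨t, j, htj⟩ := hC₁ x hx
    refine ⟨t, t * k ^ j, ?_, ?_⟩
    · intro v hv
      rw [htj, LinearMap.smul_apply, map_pow,
        pow_apply_eigen (ρ c) (μ := 1) (by rw [one_smul]; exact (hE1 v).mp hv), one_pow, one_smul]
    · intro w hw
      rw [htj, LinearMap.smul_apply, map_pow, pow_apply_eigen (ρ c) ((hEk w).mp hw), smul_smul]
  have hsub : ∀ D : Submodule (ZMod q) V, (∃ i : ZMod q, ∀ d ∈ D, ρ c d = i • d) →
      D ≤ E1 ∨ D ≤ Ek := by
    rintro D ⟨i, hi⟩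
    by_cases hD : ∀ d ∈ D, d = 0
    · left; intro d hd; rw [hD d hd]; exact E1.zero_mem
    · push Not at hD
      obtain ⟨d₀, hd₀, hd₀ne⟩ := hD
      have h1 := hk.sq d₀
      rw [hi d₀ hd₀, map_smul, hi d₀ hd₀, smul_smul, smul_smul, ← sub_smul] at h1
      have h2 : (i * i - ((1 + k) * i - k)) • d₀ = 0 := by rw [sub_smul, h1, sub_self]
      have h3 : (i - 1) * (i - k) = 0 := by
        rcases smul_eq_zero.mp h2 with h | h
        · rw [← h]; ring
        · exact absurd h hd₀ne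
      rcases mul_eq_zero.mp h3 with h | h
      · left; intro d hd; rw [hE1, hi d hd, sub_eq_zero.mp h, one_smul]
      · right; intro d hd; rw [hEk, hi d hd, sub_eq_zero.mp h]
  have hsends : ∀ (m : G) (X : Submodule (ZMod q) V),
      (∀ x ∈ C₁, ∃ β : ZMod q, ∀ v ∈ X, ρ x v = β • v) →
      Sends ρ m X E1 ∨ Sends ρ m X Ek := by
    intro m X hX
    have hx : m⁻¹ * c * m ∈ C₁ := by simpa using hC₁n.conj_mem c hc m⁻¹
    obtain ⟨β, hβ⟩ := hX _ hx
    have := hsub (X.map (ρ m)) ⟨β, by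
      rintro d ⟨x, hx', rfl⟩
      rw [rho_conj ρ m c x, hβ x hx', map_smul]⟩
    rcases this with h | h
    · left; intro x hx'; exact h (Submodule.mem_map_of_mem hx')
    · right; intro x hx'; exact h (Submodule.mem_map_of_mem hx')
  have hX1 : ∀ x ∈ C₁, ∃ β : ZMod q, ∀ v ∈ E1, ρ x v = β • v := fun x hx =>
    let ⟨β, γ, h1, h2⟩ := hscal x hx; ⟨β, h1⟩
  have hXk : ∀ x ∈ C₁, ∃ β : ZMod q, ∀ v ∈ Ek, ρ x v = β • v := fun x hx =>
    let ⟨β, γ, h1, h2⟩ := hscal x hx; ⟨γ, h2⟩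
  have hdich : ∀ m, (Sends ρ m E1 E1 ∧ Sends ρ m Ek Ek) ∨ (Sends ρ m E1 Ek ∧ Sends ρ m Ek E1) := by
    intro m
    have hall : ∀ Y : Submodule (ZMod q) V, Sends ρ m E1 Y → Sends ρ m Ek Y → ∀ v, v ∈ Y := by
      intro Y h1 h2 v
      obtain ⟨a', ha', w, hw, hv⟩ := hdec (ρ m⁻¹ v)
      have : v = ρ m a' + ρ m w := by rw [← map_add, ← hv, rho_apply_inv]
      rw [this]; exact Y.add_mem (h1 _ ha') (h2 _ hw)
    rcases hsends m E1 hX1 with h1 | h1 <;> rcases hsends m Ek hXk with h2 | h2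
    · exfalso
      exact hekne (hdisj ek (hall E1 h1 h2 ek) hek)
    · left; exact ⟨h1, h2⟩
    · right; exact ⟨h1, h2⟩
    · exfalso
      exact he1ne (hdisj e1 he1 (hall Ek h1 h2 e1))
  have hexcl : ∀ m, (Sends ρ m E1 E1 ∧ Sends ρ m Ek Ek) → (Sends ρ m E1 Ek ∧ Sends ρ m Ek E1) →
      False := by
    intro m h1 h2
    have := hdisj _ (h1.1 e1 he1) (h2.1 e1 he1)
    exact he1ne (rho_injective ρ m this)
  have hSS : ∀ m m', (Sends ρ m E1 Ek ∧ Sends ρ m Ek E1) → (Sends ρ m' E1 Ek ∧ Sends ρ m' Ek E1) →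
      (Sends ρ (m' * m) E1 E1 ∧ Sends ρ (m' * m) Ek Ek) :=
    fun m m' h h' => ⟨h.1.comp ρ h'.2, h.2.comp ρ h'.1⟩
  have hSF : ∀ m m', (Sends ρ m E1 E1 ∧ Sends ρ m Ek Ek) → (Sends ρ m' E1 Ek ∧ Sends ρ m' Ek E1) →
      (Sends ρ (m' * m) E1 Ek ∧ Sends ρ (m' * m) Ek E1) :=
    fun m m' h h' => ⟨h.1.comp ρ h'.1, h.2.comp ρ h'.2⟩
  have hFS : ∀ m m', (Sends ρ m E1 Ek ∧ Sends ρ m Ek E1) → (Sends ρ m' E1 E1 ∧ Sends ρ m' Ek Ek) →
      (Sends ρ (m' * m) E1 Ek ∧ Sends ρ (m' * m) Ek E1) :=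
    fun m m' h h' => ⟨h.1.comp ρ h'.2, h.2.comp ρ h'.1⟩
  have hF1 : Sends ρ 1 E1 E1 ∧ Sends ρ 1 Ek Ek :=
    ⟨fun x hx => by simpa using hx, fun x hx => by simpa using hx⟩
  have hFc : Sends ρ c E1 E1 ∧ Sends ρ c Ek Ek :=
    ⟨fun x hx => by rw [(hE1 x).mp hx]; exact hx,
      fun x hx => by rw [(hEk x).mp hx]; exact Ek.smul_mem _ hx⟩
  have hinv : ∀ m, (Sends ρ m E1 Ek ∧ Sends ρ m Ek E1) →
      (Sends ρ m⁻¹ E1 Ek ∧ Sends ρ m⁻¹ Ek E1) := by
    intro m hm
    rcases hdich m⁻¹ with h | h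
    · exfalso
      have := hFS m m⁻¹ hm h
      rw [inv_mul_cancel] at this
      exact hexcl 1 hF1 this
    · exact h
  have hpowT : ∀ m, (Sends ρ m E1 Ek ∧ Sends ρ m Ek E1) → ∀ j : ℕ,
      (Even j → (Sends ρ (m ^ j) E1 E1 ∧ Sends ρ (m ^ j) Ek Ek)) ∧
      (Odd j → (Sends ρ (m ^ j) E1 Ek ∧ Sends ρ (m ^ j) Ek E1)) := by
    intro m hm j
    induction j with
    | zero => exact ⟨fun _ => by rw [pow_zero]; exact hF1, fun h => absurd h (by decide)⟩
    | succ j ih =>
      constructor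
      · intro he
        have hodd : Odd j := by
          rcases Nat.even_or_odd j with h | h
          · exfalso; exact (Nat.even_add_one.mp he) h
          · exact h
        rw [pow_succ]
        exact hSS m (m ^ j) hm (ih.2 hodd)
      · intro ho
        have hev : Even j := by
          rcases Nat.even_or_odd j with h | h
          · exact h
          · exfalso
            have h1 : Even (j + 1) := by
              rw [Nat.even_add_one]; exact Nat.not_even_iff_odd.mpr h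
            exact (Nat.not_even_iff_odd.mpr ho) h1
        rw [pow_succ]
        exact hFS m (m ^ j) hm (ih.1 hev)
  have hexS : ∃ m, Sends ρ m E1 Ek ∧ Sends ρ m Ek E1 := by
    by_contra hcon
    push Not at hcon
    have hall : ∀ g, ∀ v ∈ E1, ρ g v ∈ E1 := fun g =>
      ((hdich g).resolve_right (fun h => hcon g h.1 h.2)).1
    rcases hirr E1 hall with h | h
    · have := he1; rw [h, Submodule.mem_bot] at this; exact he1ne this
    · have : ek ∈ E1 := by rw [h]; trivial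
      exact hekne (hdisj ek this hek)
  obtain ⟨m, hm⟩ := hexS
  have hconj : ∀ m, (Sends ρ m E1 Ek ∧ Sends ρ m Ek E1) →
      (∀ v ∈ E1, ρ (m * c * m⁻¹) v = k • v) ∧ (∀ w ∈ Ek, ρ (m * c * m⁻¹) w = w) := by
    intro m hm
    have hmi := hinv m hm
    constructor
    · intro v hv
      rw [map_mul, map_mul, Module.End.mul_apply, Module.End.mul_apply,
        (hEk _).mp (hmi.1 v hv), map_smul, rho_apply_inv]
    · intro w hw
      rw [map_mul, map_mul, Module.End.mul_apply, Module.End.mul_apply,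
        (hE1 _).mp (hmi.2 w hw), rho_apply_inv]
  have hkr : k ^ (r ^ a) = 1 := by
    have h1 := pow_apply_eigen (ρ c) ((hEk ek).mp hek) (r ^ a)
    rw [hfpow, Module.End.one_apply] at h1
    have h2 : (k ^ (r ^ a) - 1) • ek = 0 := by rw [sub_smul, one_smul, ← h1, sub_self]
    rcases smul_eq_zero.mp h2 with h | h
    · exact sub_eq_zero.mp h
    · exact absurd h hekne
  have hkneg : k = -1 := by
    obtain ⟨hc1, hck⟩ := hconj m hm
    have hz1 : ∀ v ∈ E1, ρ (c * c * (m * c * m⁻¹)) v = k • v := by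
      intro v hv
      rw [map_mul, map_mul, Module.End.mul_apply, Module.End.mul_apply, hc1 v hv, map_smul,
        map_smul, (hE1 v).mp hv, (hE1 v).mp hv]
    have hzk : ∀ w ∈ Ek, ρ (c * c * (m * c * m⁻¹)) w = (k * k) • w := by
      intro w hw
      rw [map_mul, map_mul, Module.End.mul_apply, Module.End.mul_apply, hck w hw,
        (hEk w).mp hw, map_smul, (hEk w).mp hw, smul_smul]
    have hzpow : ρ ((c * c * (m * c * m⁻¹)) ^ (r ^ a)) = 1 := by
      apply LinearMap.ext; intro v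
      obtain ⟨a', ha', w, hw, rfl⟩ := hdec v
      rw [map_pow, map_add, pow_apply_eigen _ (hz1 a' ha'), pow_apply_eigen _ (hzk w hw), hkr,
        mul_pow, hkr]
      simp
    obtain ⟨μ, hμ⟩ := quad_of_qr (ρ (c * c * (m * c * m⁻¹)))
      (hQR (c * c * (m * c * m⁻¹)) r hr hrq a hzpow)
    have h1 := hμ.sq e1
    rw [hz1 e1 he1, map_smul, hz1 e1 he1, smul_smul, smul_smul, ← sub_smul] at h1
    have h1' : (k - 1) * (k - μ) = 0 := by
      have h2 : (k * k - ((1 + μ) * k - μ)) • e1 = 0 := by rw [sub_smul, h1, sub_self]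
      rcases smul_eq_zero.mp h2 with h | h
      · rw [← h]; ring
      · exact absurd h he1ne
    have hμk : μ = k := by
      rcases mul_eq_zero.mp h1' with h | h
      · exact absurd (sub_eq_zero.mp h) hk1
      · exact (sub_eq_zero.mp h).symm
    have h3 := hμ.sq ek
    rw [hzk ek hek, map_smul, hzk ek hek, smul_smul, smul_smul, ← sub_smul, hμk] at h3
    have h3' : (k * k - 1) * (k * (k - 1)) = 0 := by
      have h4 : (k * k * (k * k) - ((1 + k) * (k * k) - k)) • ek = 0 := by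
        rw [sub_smul, h3, sub_self]
      rcases smul_eq_zero.mp h4 with h | h
      · rw [← h]; ring
      · exact absurd h hekne
    rcases mul_eq_zero.mp h3' with h | h
    · have : (k - 1) * (k + 1) = 0 := by rw [← h]; ring
      rcases mul_eq_zero.mp this with h5 | h5
      · exact absurd (sub_eq_zero.mp h5) hk1
      · exact eq_neg_of_add_eq_zero_left h5
    · rcases mul_eq_zero.mp h with h5 | h5
      · exact absurd h5 hk0
      · exact absurd (sub_eq_zero.mp h5) hk1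
  have h2F : (2 : ZMod q) ≠ 0 := by
    intro h
    apply hk1
    rw [hkneg]
    linear_combination (-1 : ZMod q) * h
  have h2q : (2 : ℕ) ≠ q := by
    intro h
    apply h2F
    have : ((2 : ℕ) : ZMod q) = 0 := (ZMod.natCast_eq_zero_iff 2 q).mpr (h ▸ dvd_refl _)
    exact_mod_cast this
  obtain ⟨e, s, hs, hes⟩ := Nat.exists_eq_two_pow_mul_odd (orderOf_pos m).ne'
  have hm'S := (hpowT m hm s).2 hs
  have hm'pow : ρ ((m ^ s) ^ (2 ^ e)) = 1 := by
    rw [← pow_mul, mul_comm, ← hes, pow_orderOf_eq_one, map_one]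
  obtain ⟨μ', hμ'⟩ := quad_of_qr (ρ (m ^ s)) (hQR (m ^ s) 2 Nat.prime_two h2q e hm'pow)
  have hSQ : ∀ (y : G) (μ : ZMod q), (Sends ρ y E1 Ek ∧ Sends ρ y Ek E1) → Quad (ρ y) μ →
      ∀ v, ρ y (ρ y v) = v := by
    intro y μ hy hμ
    have h1 := hμ.sq e1
    have hmem1 : (1 + μ) • ρ y e1 ∈ E1 := by
      have : (1 + μ) • ρ y e1 = ρ y (ρ y e1) + μ • e1 := by rw [h1]; abel
      rw [this]
      exact E1.add_mem (hy.2 _ (hy.1 _ he1)) (E1.smul_mem _ he1)
    have hmemk : (1 + μ) • ρ y e1 ∈ Ek := Ek.smul_mem _ (hy.1 _ he1)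
    have h0 := hdisj _ hmem1 hmemk
    have hμ1 : 1 + μ = 0 := by
      rcases smul_eq_zero.mp h0 with h | h
      · exact h
      · exact absurd (rho_injective ρ y h) he1ne
    intro v
    have h2 := hμ.sq v
    rw [hμ1, zero_smul, zero_sub] at h2
    have : μ = -1 := eq_neg_of_add_eq_zero_right hμ1
    rw [h2, this, neg_smul, one_smul, neg_neg]
  have hm'2 := hSQ (m ^ s) μ' hm'S hμ'
  have hyS := hSF c (m ^ s) hFc hm'S
  have hy2 : ∀ v, ρ (m ^ s * c) (ρ (m ^ s * c) v) = -v := by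
    intro v
    obtain ⟨a', ha', w, hw, rfl⟩ := hdec v
    have e1' : ρ (m ^ s * c) a' = ρ (m ^ s) a' := by
      rw [map_mul, Module.End.mul_apply, (hE1 a').mp ha']
    have ek' : ρ (m ^ s * c) w = -ρ (m ^ s) w := by
      rw [map_mul, Module.End.mul_apply, (hEk w).mp hw, hkneg, neg_smul, one_smul, map_neg]
    have e2 : ρ (m ^ s * c) (ρ (m ^ s) a') = -a' := by
      rw [map_mul, Module.End.mul_apply, (hEk _).mp (hm'S.1 a' ha'), hkneg, neg_smul, one_smul,
        map_neg, hm'2]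
    have e3 : ρ (m ^ s * c) (ρ (m ^ s) w) = w := by
      rw [map_mul, Module.End.mul_apply, (hE1 _).mp (hm'S.2 w hw), hm'2]
    rw [map_add, map_add, e1', ek', e2, map_neg, e3]; abel
  have hy4 : ρ ((m ^ s * c) ^ (2 ^ 2)) = 1 := by
    apply LinearMap.ext; intro v
    have : (m ^ s * c) ^ (2 ^ 2) = (m ^ s * c) * (m ^ s * c) * ((m ^ s * c) * (m ^ s * c)) := by
      rw [show (2 : ℕ) ^ 2 = 4 from rfl]
      simp only [pow_succ, pow_zero, one_mul, mul_assoc]
    rw [this, map_mul, map_mul, Module.End.mul_apply, Module.End.mul_apply, Module.End.mul_apply,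
      hy2, hy2]
    simp
  obtain ⟨μ'', hμ''⟩ := quad_of_qr (ρ (m ^ s * c)) (hQR (m ^ s * c) 2 Nat.prime_two h2q 2 hy4)
  have hy2' := hSQ (m ^ s * c) μ'' hyS hμ''
  have hneg : e1 = -e1 := by
    have h1 := hy2 e1
    rw [hy2' e1] at h1
    exact h1
  have h2e : (2 : ZMod q) • e1 = 0 := by
    rw [two_smul]
    nth_rewrite 1 [hneg]
    simp
  rcases smul_eq_zero.mp h2e with h | h
  · exact h2F h
  · exact he1ne h

end

section

variable {q : ℕ} [hq : Fact q.Prime] {G V : Type*} [Group G] [AddCommGroup V] [Module (ZMod q) V]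
  (ρ : G →* Module.End (ZMod q) V)

theorem rep_contra [Finite G]
    (hirr : ∀ U : Submodule (ZMod q) V, (∀ g, ∀ v ∈ U, ρ g v ∈ U) → U = ⊥ ∨ U = ⊤)
    (hQR : ∀ g : G, ∀ r : ℕ, r.Prime → r ≠ q → ∀ a : ℕ, ρ (g ^ (r ^ a)) = 1 →
      ∀ v, ∃ t : ZMod q, ρ g (v - ρ g v) = t • (v - ρ g v))
    (C₁ : Subgroup G) (hC₁n : C₁.Normal) (c : G) (hc : c ∈ C₁) (hcB : ¬ ∃ t : ZMod q, ρ c = t • 1)
    (hC₁ : ∀ x ∈ C₁, ∃ (t : ZMod q) (j : ℕ), ρ x = t • ρ (c ^ j))
    (r : ℕ) (hr : r.Prime) (a : ℕ) (hca : ρ (c ^ (r ^ a)) = 1) : False := by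
  by_cases hrq : r = q
  · subst hrq
    exact case_q ρ hirr C₁ hC₁n c hc hcB hC₁ a hca
  · exact case_ne ρ hirr hQR C₁ hC₁n c hc hcB hC₁ r hr hrq a hca

end

end Cfsg.Agent.Lead.SSRep
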