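import Mathlib
import Cfsg.Agent.Lib.Lead.SSRep
import Cfsg.Agent.Lib.Lead.SSHyp
import Cfsg.Agent.H1.Supersolvable
import Cfsg.Agent.H1.SupersolvableCLT

/-!
Under the hypothesis of S3033, an abelian minimal normal subgroup with supersolvable quotients
above it is cyclic (author: lead).
-/

set_option autoImplicit false
set_option linter.unusedVariables false
set_option linter.unusedSectionVars false
set_option linter.style.longLine false
set_option linter.style.haveILetI false

namespace Cfsg.Agent.Lead.SSMin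

open Cfsg Cfsg.Agent.Lead.SSRep Cfsg.Agent.Lead.SSHyp

universe u

section rep

variable {q : ℕ} [hq : Fact q.Prime] {G A : Type*} [Group G] [CommGroup A]
  [Module (ZMod q) (Additive A)]

/-- the linear representation attached to an action by automorphisms -/
noncomputable def repOf (φ : G →* MulAut A) : G →* Module.End (ZMod q) (Additive A) where
  toFun g := (MonoidHom.toAdditive (φ g).toMonoidHom).toZModLinearMap q
  map_one' := by
    apply LinearMap.ext; intro v
    show Additive.ofMul ((φ 1) v.toMul) = v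
    rw [map_one]; rfl
  map_mul' := by
    intro g h
    apply LinearMap.ext; intro v
    show Additive.ofMul ((φ (g * h)) v.toMul) = Additive.ofMul ((φ g) ((φ h) v.toMul))
    rw [map_mul]; rfl

theorem repOf_apply (φ : G →* MulAut A) (g : G) (a : A) :
    repOf (q := q) φ g (Additive.ofMul a) = Additive.ofMul (φ g a) := rfl

theorem zmod_smul_ofMul (t : ZMod q) (a : A) :
    t • Additive.ofMul a = Additive.ofMul (a ^ t.val) := by
  conv_lhs => rw [← ZMod.natCast_zmod_val t]
  rw [Nat.cast_smul_eq_nsmul (ZMod q) t.val (Additive.ofMul a)]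
  rfl

end rep

theorem min_normal_cyclic_aux {G : Type u} [Group G] [Finite G] (hH : Hyp G) (N : Subgroup G)
    [hN : N.Normal] (hNb : N ≠ ⊥) (hab : ∀ x ∈ N, ∀ y ∈ N, x * y = y * x) {q : ℕ}
    [hqF : Fact q.Prime] (hexp : ∀ x ∈ N, x ^ q = 1)
    (hmin : ∀ K : Subgroup G, K.Normal → K ≤ N → K = ⊥ ∨ K = N)
    (hquot : ∀ K : Subgroup G, [K.Normal] → N ≤ K → Cfsg.IsSupersolvable (G ⧸ K))
    {A : Type u} [CommGroup A] [Module (ZMod q) (Additive A)] (e : ↥N ≃* A) :
    IsCyclic N := by
  have hq : q.Prime := hqF.out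
  obtain ⟨ρ, hρ⟩ : ∃ ρ : G →* Module.End (ZMod q) (Additive A),
      ρ = repOf ((MulAut.congr e).toMonoidHom.comp (MulAut.conjNormal (H := N))) := ⟨_, rfl⟩
  have hρa : ∀ (g : G) (n : ↥N),
      ρ g (Additive.ofMul (e n)) = Additive.ofMul (e ⟨g * n * g⁻¹, hN.conj_mem n n.2 g⟩) := by
    intro g n
    rw [hρ]
    show Additive.ofMul (e ((MulAut.conjNormal g) (e.symm (e n)))) = _
    rw [e.symm_apply_apply]; rfl
  have hrep : ∀ v : Additive A, ∃ n : ↥N, Additive.ofMul (e n) = v := fun v =>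
    ⟨e.symm v.toMul, by rw [e.apply_symm_apply]; rfl⟩
  have hinj : ∀ n m : ↥N, Additive.ofMul (e n) = Additive.ofMul (e m) → n = m := fun n m h =>
    e.injective (Additive.ofMul.injective h)
  have hsm : ∀ (t : ZMod q) (n : ↥N),
      t • Additive.ofMul (e n) = Additive.ofMul (e (n ^ t.val)) := by
    intro t n
    rw [zmod_smul_ofMul, map_pow e n t.val]
  have hker : ∀ g : G, ρ g = 1 ↔ g ∈ Subgroup.centralizer (N : Set G) := by
    intro g
    constructor
    · intro h
      rw [Subgroup.mem_centralizer_iff]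
      intro n hn
      have h1 := congrArg (fun φ => φ (Additive.ofMul (e (⟨n, hn⟩ : ↥N)))) h
      simp only [Module.End.one_apply] at h1
      rw [hρa] at h1
      have h2 : g * n * g⁻¹ = n := congrArg Subtype.val (hinj _ _ h1)
      calc n * g = (g * n * g⁻¹) * g := by rw [h2]
        _ = g * n := by group
    · intro h
      apply LinearMap.ext; intro v
      obtain ⟨n, rfl⟩ := hrep v
      rw [hρa, Module.End.one_apply]
      congr 2
      apply Subtype.ext
      have := Subgroup.mem_centralizer_iff.mp h n n.2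
      show g * n * g⁻¹ = n
      rw [← this, mul_inv_cancel_right]
  have hirr : ∀ U : Submodule (ZMod q) (Additive A), (∀ g, ∀ v ∈ U, ρ g v ∈ U) →
      U = ⊥ ∨ U = ⊤ := by
    intro U hU
    let K : Subgroup G :=
      { carrier := {x | ∃ hx : x ∈ N, Additive.ofMul (e (⟨x, hx⟩ : ↥N)) ∈ U}
        one_mem' := ⟨N.one_mem, by
          have : Additive.ofMul (e (⟨1, N.one_mem⟩ : ↥N)) = 0 := by
            rw [show (⟨1, N.one_mem⟩ : ↥N) = 1 from rfl, map_one]; rfl
          rw [this]; exact U.zero_mem⟩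
        mul_mem' := by
          rintro a b ⟨ha, ha'⟩ ⟨hb, hb'⟩
          refine ⟨N.mul_mem ha hb, ?_⟩
          have : Additive.ofMul (e (⟨a * b, N.mul_mem ha hb⟩ : ↥N)) =
              Additive.ofMul (e (⟨a, ha⟩ : ↥N)) + Additive.ofMul (e (⟨b, hb⟩ : ↥N)) := by
            rw [show (⟨a * b, N.mul_mem ha hb⟩ : ↥N) = ⟨a, ha⟩ * ⟨b, hb⟩ from rfl, map_mul]; rfl
          rw [this]; exact U.add_mem ha' hb'
        inv_mem' := by
          rintro a ⟨ha, ha'⟩
          refine ⟨N.inv_mem ha, ?_⟩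
          have : Additive.ofMul (e (⟨a⁻¹, N.inv_mem ha⟩ : ↥N)) =
              -Additive.ofMul (e (⟨a, ha⟩ : ↥N)) := by
            rw [show (⟨a⁻¹, N.inv_mem ha⟩ : ↥N) = (⟨a, ha⟩ : ↥N)⁻¹ from rfl, map_inv]; rfl
          rw [this]; exact U.neg_mem ha' }
    have hKn : K.Normal := ⟨by
      rintro x ⟨hx, hx'⟩ g
      refine ⟨hN.conj_mem x hx g, ?_⟩
      have := hU g _ hx'
      rw [hρa] at this
      exact this⟩
    have hKN : K ≤ N := fun x hx => hx.1
    rcases hmin K hKn hKN with h | h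
    · left
      rw [eq_bot_iff]
      intro v hv
      obtain ⟨n, rfl⟩ := hrep v
      have : (n : G) ∈ K := ⟨n.2, hv⟩
      rw [h, Subgroup.mem_bot] at this
      have hn1 : n = 1 := Subtype.ext this
      rw [Submodule.mem_bot, hn1, map_one]; rfl
    · right
      rw [eq_top_iff]
      intro v _
      obtain ⟨n, rfl⟩ := hrep v
      have : (n : G) ∈ K := by rw [h]; exact n.2
      obtain ⟨_, h2⟩ := this
      exact h2
  have hNp : IsPGroup q N := fun x => ⟨1, by rw [pow_one]; exact Subtype.ext (hexp x x.2)⟩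
  have hQR : ∀ g : G, ∀ r : ℕ, r.Prime → r ≠ q → ∀ a : ℕ, ρ (g ^ (r ^ a)) = 1 →
      ∀ v, ∃ t : ZMod q, ρ g (v - ρ g v) = t • (v - ρ g v) := by
    intro g r hr hrq a hga v
    have hgC : g ^ (r ^ a) ∈ Subgroup.centralizer (N : Set G) := (hker _).mp hga
    obtain ⟨g', hg'g, c, hg'c⟩ := exists_lift_prime_pow
      (QuotientGroup.mk' (Subgroup.centralizer (N : Set G)))
      (QuotientGroup.mk'_surjective _) hr
      (QuotientGroup.mk' (Subgroup.centralizer (N : Set G)) g) (a := a)
      (by rw [← map_pow]; exact (QuotientGroup.eq_one_iff _).mpr hgC)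
    have hz : g⁻¹ * g' ∈ Subgroup.centralizer (N : Set G) := QuotientGroup.eq.mp hg'g.symm
    have hρg : ρ g' = ρ g := by
      have : ρ (g⁻¹ * g') = 1 := (hker _).mpr hz
      calc ρ g' = ρ (g * (g⁻¹ * g')) := by rw [mul_inv_cancel_left]
        _ = ρ g := by rw [map_mul, this, mul_one]
    rw [← hρg]
    obtain ⟨n, rfl⟩ := hrep v
    have hn_ord : ∃ b : ℕ, orderOf (n : G) = q ^ b := by
      have : orderOf (n : G) ∣ q := orderOf_dvd_of_pow_eq_one (hexp n n.2)
      rcases (Nat.dvd_prime hq).mp this with h | h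
      · exact ⟨0, by rw [h, pow_zero]⟩
      · exact ⟨1, by rw [h, pow_one]⟩
    have hnd := hH r q hr hq hrq g' (n : G) ⟨c, hg'c⟩ hn_ord
    obtain ⟨u, hu⟩ : ∃ u : G, u = n * g' * (n : G)⁻¹ * g'⁻¹ := ⟨_, rfl⟩
    obtain ⟨Hs, hHs⟩ : ∃ Hs : Subgroup G,
        Hs = Subgroup.zpowers g' ⊔ Subgroup.zpowers ((n : G) * g' * (n : G)⁻¹) := ⟨_, rfl⟩
    rw [← hHs] at hnd
    have hg'H : g' ∈ Hs := by rw [hHs]; exact Subgroup.mem_sup_left (Subgroup.mem_zpowers g')
    have huH : u ∈ Hs := by
      rw [hu]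
      refine Hs.mul_mem ?_ (Hs.inv_mem hg'H)
      rw [hHs]; exact Subgroup.mem_sup_right (Subgroup.mem_zpowers _)
    have huN : u ∈ N := by
      have : u = n * (g' * (n : G)⁻¹ * g'⁻¹) := by rw [hu]; group
      rw [this]; exact N.mul_mem n.2 (hN.conj_mem _ (N.inv_mem n.2) g')
    have hcu : g' * u * g'⁻¹ ∈ Subgroup.zpowers u := by
      by_cases hu1 : u = 1
      · rw [hu1]; simp
      · have hcuI : g' * u * g'⁻¹ ∈ Hs ⊓ N :=
          ⟨Hs.mul_mem (Hs.mul_mem hg'H huH) (Hs.inv_mem hg'H), hN.conj_mem u huN g'⟩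
        have hzle : Subgroup.zpowers u ≤ Hs ⊓ N := by
          rw [Subgroup.zpowers_le]; exact ⟨huH, huN⟩
        have hordu : orderOf u = q := by
          have : orderOf u ∣ q := orderOf_dvd_of_pow_eq_one (hexp u huN)
          rcases (Nat.dvd_prime hq).mp this with h | h
          · exact absurd (orderOf_eq_one_iff.mp h) hu1
          · exact h
        have hIp : IsPGroup q ↥(Hs ⊓ N) := hNp.to_le inf_le_right
        obtain ⟨j, hj⟩ := IsPGroup.iff_card.mp hIp
        have hjle : j ≤ 1 := by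
          by_contra hcon
          push Not at hcon
          apply hnd
          calc q ^ 2 ∣ q ^ j := pow_dvd_pow q hcon
            _ = Nat.card ↥(Hs ⊓ N) := hj.symm
            _ ∣ Nat.card ↥Hs := Subgroup.card_dvd_of_le inf_le_left
        have hcardle : Nat.card ↥(Hs ⊓ N) ≤ Nat.card ↥(Subgroup.zpowers u) := by
          rw [Nat.card_zpowers, hordu, hj]
          calc q ^ j ≤ q ^ 1 := Nat.pow_le_pow_right hq.pos hjle
            _ = q := pow_one q
        have := Subgroup.eq_of_le_of_card_ge hzle hcardle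
        rw [this]; exact hcuI
    obtain ⟨i, hi⟩ := Subgroup.mem_zpowers_iff.mp hcu
    have hv : Additive.ofMul (e n) - ρ g' (Additive.ofMul (e n)) =
        Additive.ofMul (e (⟨u, huN⟩ : ↥N)) := by
      rw [hρa, ← ofMul_div, ← map_div]
      congr 2
      apply Subtype.ext
      show (n : G) / (g' * n * g'⁻¹) = u
      rw [hu, div_eq_mul_inv]; group
    refine ⟨(i : ZMod q), ?_⟩
    rw [hv, hρa, Int.cast_smul_eq_zsmul, ← ofMul_zpow, ← map_zpow]
    congr 2
    apply Subtype.ext
    show g' * u * g'⁻¹ = (((⟨u, huN⟩ : ↥N) ^ i : ↥N) : G)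
    rw [Subgroup.coe_zpow]
    exact hi.symm
  have hNB : N ≤ scalarSubgroup ρ := by
    intro n hn
    refine ⟨1, ?_⟩
    rw [one_smul, hker, Subgroup.mem_centralizer_iff]
    intro m hm; exact hab m hm n hn
  by_cases hBtop : scalarSubgroup ρ = ⊤
  · obtain ⟨x0, hx01⟩ := (Subgroup.ne_bot_iff_exists_ne_one).mp hNb
    have hx0 : (x0 : G) ≠ 1 := fun h => hx01 (Subtype.ext h)
    have hZn : (Subgroup.zpowers (x0 : G)).Normal := ⟨by
      intro y hy g
      obtain ⟨j, rfl⟩ := Subgroup.mem_zpowers_iff.mp hy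
      obtain ⟨t, ht⟩ : g ∈ scalarSubgroup ρ := by rw [hBtop]; trivial
      have h1 := congrArg (fun φ => φ (Additive.ofMul (e x0))) ht
      simp only [LinearMap.smul_apply, Module.End.one_apply] at h1
      rw [hρa, hsm] at h1
      have h2 : g * x0 * g⁻¹ = (x0 : G) ^ t.val := by
        have := congrArg Subtype.val (hinj _ _ h1)
        simpa using this
      rw [← conj_zpow, h2]
      exact Subgroup.zpow_mem _ (Subgroup.pow_mem _ (Subgroup.mem_zpowers _) _) _⟩
    rcases hmin _ hZn (Subgroup.zpowers_le.mpr x0.2) with h | h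
    · exact absurd (Subgroup.zpowers_eq_bot.mp h) hx0
    · rw [← h]; infer_instance
  · exfalso
    have hQ := hquot (scalarSubgroup ρ) hNB
    have hreach := (Cfsg.Agent.H1.isSupersolvable_iff_reach).mp hQ
    rcases Cfsg.Agent.H1.exists_normal_prime_of_reach hreach with htop | ⟨Cb, hCbn, hCbp, -⟩
    · apply hBtop
      rw [eq_top_iff]
      intro g _
      have : (QuotientGroup.mk' (scalarSubgroup ρ) g) ∈ (⊤ : Subgroup (G ⧸ scalarSubgroup ρ)) :=
        trivial
      rw [htop, Subgroup.mem_bot] at this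
      exact (QuotientGroup.eq_one_iff g).mp this
    · haveI : Fact (Nat.card Cb).Prime := ⟨hCbp⟩
      haveI : Nontrivial Cb := Finite.one_lt_card_iff_nontrivial.mp hCbp.one_lt
      obtain ⟨cb, hcb1⟩ : ∃ cb : Cb, cb ≠ 1 := exists_ne 1
      have hgen : ∀ x : Cb, x ∈ Subgroup.zpowers cb := by
        intro x
        rw [zpowers_eq_top_of_prime_card (p := Nat.card Cb) rfl hcb1]; trivial
      have hcbpow : (cb : G ⧸ scalarSubgroup ρ) ^ ((Nat.card Cb) ^ 1) = 1 := by
        rw [pow_one]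
        have := pow_card_eq_one' (x := cb)
        exact congrArg Subtype.val this
      obtain ⟨c, hcmk, a, hca⟩ := exists_lift_prime_pow (QuotientGroup.mk' (scalarSubgroup ρ))
        (QuotientGroup.mk'_surjective _) hCbp (cb : G ⧸ scalarSubgroup ρ) hcbpow
      have hC₁n : (Cb.comap (QuotientGroup.mk' (scalarSubgroup ρ))).Normal := hCbn.comap _
      have hc : c ∈ Cb.comap (QuotientGroup.mk' (scalarSubgroup ρ)) := by
        rw [Subgroup.mem_comap, hcmk]; exact cb.2
      have hcB : ¬ ∃ t : ZMod q, ρ c = t • 1 := by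
        intro h
        have h0 : c ∈ scalarSubgroup ρ := h
        have h1 : QuotientGroup.mk' (scalarSubgroup ρ) c = 1 := (QuotientGroup.eq_one_iff c).mpr h0
        rw [hcmk] at h1
        exact hcb1 (Subtype.ext h1)
      have hC₁' : ∀ x ∈ Cb.comap (QuotientGroup.mk' (scalarSubgroup ρ)),
          ∃ (t : ZMod q) (j : ℕ), ρ x = t • ρ (c ^ j) := by
        intro x hx
        have hx' : (⟨QuotientGroup.mk' (scalarSubgroup ρ) x, hx⟩ : Cb) ∈ Subgroup.zpowers cb :=
          hgen _
        rw [← mem_powers_iff_mem_zpowers] at hx'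
        obtain ⟨j, hj⟩ := (Submonoid.mem_powers_iff _ _).mp hx'
        have h2 : QuotientGroup.mk' (scalarSubgroup ρ) (c ^ j) =
            QuotientGroup.mk' (scalarSubgroup ρ) x := by
          rw [map_pow, hcmk]
          have := congrArg Subtype.val hj
          simpa using this
        have h3 : (c ^ j)⁻¹ * x ∈ scalarSubgroup ρ := QuotientGroup.eq.mp h2
        obtain ⟨t, ht⟩ := h3
        refine ⟨t, j, ?_⟩
        calc ρ x = ρ (c ^ j * ((c ^ j)⁻¹ * x)) := by rw [mul_inv_cancel_left]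
          _ = t • ρ (c ^ j) := by rw [map_mul, ht, mul_smul_comm, mul_one]
      have hcpow : ρ (c ^ ((Nat.card Cb) ^ a)) = 1 := by
        rw [← hca, pow_orderOf_eq_one, map_one]
      exact rep_contra ρ hirr hQR _ hC₁n c hc hcB hC₁' (Nat.card Cb) hCbp a hcpow

theorem min_normal_cyclic {G : Type u} [Group G] [Finite G] (hH : Hyp G) (N : Subgroup G)
    [hN : N.Normal] (hNb : N ≠ ⊥) (hab : ∀ x ∈ N, ∀ y ∈ N, x * y = y * x) {q : ℕ} (hq : q.Prime)
    (hexp : ∀ x ∈ N, x ^ q = 1)
    (hmin : ∀ K : Subgroup G, K.Normal → K ≤ N → K = ⊥ ∨ K = N)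
    (hquot : ∀ K : Subgroup G, [K.Normal] → N ≤ K → Cfsg.IsSupersolvable (G ⧸ K)) :
    IsCyclic N := by
  haveI : Fact q.Prime := ⟨hq⟩
  letI iC : CommGroup ↥N :=
    { (inferInstance : Group ↥N) with mul_comm := fun a b => Subtype.ext (hab a a.2 b b.2) }
  letI iMod : Module (ZMod q) (Additive ↥N) := AddCommGroup.zmodModule (by
    intro x
    exact congrArg Additive.ofMul (Subtype.ext (hexp x.toMul x.toMul.2)))
  exact @min_normal_cyclic_aux G _ _ hH N hN hNb hab q _ hexp hmin hquot ↥N iC iMod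
    (MulEquiv.refl _)

end Cfsg.Agent.Lead.SSMin
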