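import Mathlib
import Cfsg.Agent.Lib.Lead.SharpTrans
import Cfsg.Agent.Lib.Helper4.Sylow
import Cfsg.Agent.Lib.Helper4.SylowPrime

set_option autoImplicit false
set_option linter.unusedVariables false
set_option linter.style.haveILetI false

/-! Jordan: degrees of sharply `k`-transitive groups for `k ≥ 5`, by descent to the
sharply 4-transitive case (`SharpTrans.core4`) and a Sylow 13 count excluding degree 13. -/

namespace Cfsg.Agent.Lead.SharpTransK

open MulAction

universe u v

section General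

variable {K : Type u} {Ω : Type v} [Group K] [MulAction K Ω]

lemma nonempty_emb [Finite Ω] (k : ℕ) (h : k ≤ Nat.card Ω) : Nonempty (Fin k ↪ Ω) := by
  classical
  haveI := Fintype.ofFinite Ω
  exact Function.Embedding.nonempty_of_card_le
    (by rw [Fintype.card_fin, ← Nat.card_eq_fintype_card]; exact h)

lemma stab_pretrans [Finite Ω] (n : ℕ) (h : IsMultiplyPretransitive K Ω (n + 1))
    (hn : n + 1 ≤ Nat.card Ω) (a : Ω) :
    IsMultiplyPretransitive (stabilizer K a) (SubMulAction.ofStabilizer K a) n := by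
  haveI := h
  haveI : IsPretransitive K Ω := by
    rw [← is_one_pretransitive_iff]
    exact isMultiplyPretransitive_of_le (n := n + 1) (by omega) hn
  exact SubMulAction.ofStabilizer.isMultiplyPretransitive.mp h

lemma stab_sharp (n : ℕ) (hsharp : ∀ x : Fin (n + 1) ↪ Ω, stabilizer K x = ⊥) (a : Ω)
    (x : Fin n ↪ SubMulAction.ofStabilizer K a) :
    stabilizer (stabilizer K a) x = ⊥ := by
  rw [eq_bot_iff]
  intro g hg
  rw [mem_stabilizer_iff] at hg
  rw [Subgroup.mem_bot]
  have h1 : (g : K) ∈ stabilizer K (SubMulAction.ofStabilizer.snoc x) := by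
    rw [mem_stabilizer_iff]
    ext i
    rw [Function.Embedding.smul_apply]
    refine Fin.lastCases ?_ (fun j => ?_) i
    · rw [SubMulAction.ofStabilizer.snoc_last]
      exact g.2
    · rw [SubMulAction.ofStabilizer.snoc_castSucc]
      exact congrArg (fun e => ((e j : SubMulAction.ofStabilizer K a) : Ω)) hg
  rw [hsharp] at h1
  exact Subtype.ext (Subgroup.mem_bot.mp h1)

lemma card_of_sharp' [Finite Ω] (k : ℕ) (h : IsMultiplyPretransitive K Ω k)
    (hsharp : ∀ x : Fin k ↪ Ω, stabilizer K x = ⊥) (hk : k ≤ Nat.card Ω) :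
    Nat.card K = (Nat.card Ω).descFactorial k := by
  classical
  haveI := Fintype.ofFinite Ω
  obtain ⟨x₀⟩ := nonempty_emb (Ω := Ω) k hk
  have h1 := MulAction.index_stabilizer K x₀
  rw [hsharp x₀, Subgroup.index_bot] at h1
  have horb : MulAction.orbit K x₀ = Set.univ := by
    apply Set.eq_univ_of_forall
    intro y
    obtain ⟨g, hg⟩ := exists_smul_eq K x₀ y
    exact ⟨g, hg⟩
  rw [h1, horb, Set.ncard_univ, Nat.card_eq_fintype_card,
    Fintype.card_embedding_eq, Fintype.card_fin, Nat.card_eq_fintype_card]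

end General

/-- There is no sharply 6-transitive group of degree 13. -/
theorem no13 {K : Type u} {Ω : Type v} [Group K] [MulAction K Ω] [Finite Ω]
    (h6 : IsMultiplyPretransitive K Ω 6)
    (hsharp : ∀ x : Fin 6 ↪ Ω, stabilizer K x = ⊥) (h13 : Nat.card Ω = 13) : False := by
  classical
  haveI : Fact (Nat.Prime 13) := ⟨by norm_num⟩
  have hK : Nat.card K = 13 * 95040 := by
    rw [card_of_sharp' 6 h6 hsharp (by omega), h13]
    rfl
  haveI : Finite K := Nat.finite_of_card_ne_zero (by rw [hK]; norm_num)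
  obtain ⟨P⟩ : Nonempty (Sylow 13 K) := inferInstance
  have hPcard : Nat.card (P : Subgroup K) = 13 := by
    have := Cfsg.Agent.Lib.Helper4.Sylow.card_sylow_of_card_eq (p := 13) (a := 1) (m := 95040)
      (by rw [hK, pow_one]) (by norm_num) P
    rwa [pow_one] at this
  obtain ⟨y, hyP, hy1⟩ : ∃ z ∈ (P : Subgroup K), z ≠ 1 := by
    haveI : Nontrivial (P : Subgroup K) := by
      rw [← Finite.one_lt_card_iff_nontrivial, hPcard]; omega
    exact Subgroup.exists_ne_one_of_nontrivial _
  have hPy : (P : Subgroup K) = Subgroup.zpowers y :=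
    Cfsg.Agent.Lib.Helper4.SylowPrime.sylow_eq_zpowers P hPcard y hy1 hyP
  have hyord : orderOf y = 13 := by rw [← Nat.card_zpowers, ← hPy, hPcard]
  obtain ⟨x₀⟩ := nonempty_emb (Ω := Ω) 6 (by omega)
  obtain ⟨ω₀, hω₀⟩ : ∃ ω : Ω, y • ω ≠ ω := by
    by_contra hcon
    push_neg at hcon
    have : y ∈ stabilizer K x₀ := by
      rw [mem_stabilizer_iff]; ext i; rw [Function.Embedding.smul_apply]; exact hcon _
    rw [hsharp, Subgroup.mem_bot] at this
    exact hy1 this
  have hper : MulAction.period y ω₀ = 13 := by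
    have h1 : MulAction.period y ω₀ ∣ 13 := by
      rw [← hyord]; exact MulAction.period_dvd_orderOf y ω₀
    rcases (Nat.dvd_prime (by norm_num)).1 h1 with h | h
    · exfalso; exact hω₀ (MulAction.period_eq_one_iff.1 h)
    · exact h
  have hinj : ∀ i j : ℕ, i ≤ j → j < 13 → y ^ i • ω₀ = y ^ j • ω₀ → i = j := by
    intro i j hij hj h
    obtain ⟨d, rfl⟩ := Nat.exists_eq_add_of_le hij
    rw [pow_add, mul_smul] at h
    have h2 : y ^ d • ω₀ = ω₀ := (smul_left_cancel _ h).symm
    rw [MulAction.pow_smul_eq_iff_period_dvd, hper] at h2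
    obtain ⟨t, rfl⟩ := h2
    omega
  let x : Fin 6 ↪ Ω := ⟨fun i => y ^ (i : ℕ) • ω₀, by
    intro i j h
    have hi := i.2
    have hj := j.2
    rcases le_total (i : ℕ) (j : ℕ) with hij | hij
    · exact Fin.ext (hinj _ _ hij (by omega) h)
    · exact Fin.ext (hinj _ _ hij (by omega) h.symm).symm⟩
  have hfix : ∀ h ∈ Subgroup.centralizer ((Subgroup.zpowers y : Subgroup K) : Set K),
      h • ω₀ = ω₀ → h = 1 := by
    intro h hh hω
    have hcomm : ∀ i : ℕ, h * y ^ i = y ^ i * h := by
      intro i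
      have := Subgroup.mem_centralizer_iff.1 hh (y ^ i)
        (Subgroup.pow_mem _ (Subgroup.mem_zpowers y) i)
      exact this.symm
    have : h ∈ stabilizer K x := by
      rw [mem_stabilizer_iff]; ext i
      rw [Function.Embedding.smul_apply]
      show h • (y ^ (i : ℕ) • ω₀) = y ^ (i : ℕ) • ω₀
      rw [← mul_smul, hcomm, mul_smul, hω]
    rw [hsharp, Subgroup.mem_bot] at this
    exact this
  have hCle : Nat.card (Subgroup.centralizer ((Subgroup.zpowers y : Subgroup K) : Set K)) ≤ 13 := by
    rw [← h13]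
    apply Nat.card_le_card_of_injective
      (fun g : Subgroup.centralizer ((Subgroup.zpowers y : Subgroup K) : Set K) => (g : K) • ω₀)
    intro g₁ g₂ h
    have h0 : (g₁ : K) • ω₀ = (g₂ : K) • ω₀ := h
    have h' : ((g₂⁻¹ * g₁ : Subgroup.centralizer ((Subgroup.zpowers y : Subgroup K) : Set K)) : K)
        • ω₀ = ω₀ := by
      rw [Subgroup.coe_mul, Subgroup.coe_inv, mul_smul, h0, inv_smul_smul]
    have h3 : g₂⁻¹ * g₁ = 1 := Subtype.ext (hfix _ (g₂⁻¹ * g₁).2 h')
    exact (inv_mul_eq_one.1 h3).symm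
  have hCdvd : 13 ∣ Nat.card (Subgroup.centralizer ((Subgroup.zpowers y : Subgroup K) : Set K)) := by
    have hle : Subgroup.zpowers y ≤
        Subgroup.centralizer ((Subgroup.zpowers y : Subgroup K) : Set K) := by
      rw [Subgroup.zpowers_le, Subgroup.mem_centralizer_iff]
      intro h hh
      obtain ⟨i, rfl⟩ := Subgroup.mem_zpowers_iff.1 hh
      exact ((Commute.refl y).zpow_left i).eq
    have := Subgroup.card_dvd_of_le hle
    rwa [Nat.card_zpowers, hyord] at this
  have hC : Nat.card (Subgroup.centralizer ((Subgroup.zpowers y : Subgroup K) : Set K)) = 13 := by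
    have hpos : 0 < Nat.card (Subgroup.centralizer ((Subgroup.zpowers y : Subgroup K) : Set K)) :=
      Nat.card_pos
    obtain ⟨t, ht⟩ := hCdvd
    rw [ht] at hCle hpos ⊢
    have : t = 1 := by omega
    rw [this]
  have hNdvd : Nat.card (Subgroup.normalizer ((Subgroup.zpowers y : Subgroup K) : Set K)) ∣ 156 := by
    have key := Subgroup.card_dvd_of_injective _
      (QuotientGroup.kerLift_injective (Subgroup.zpowers y).normalizerMonoidHom)
    rw [Subgroup.normalizerMonoidHom_ker, ← Subgroup.index, ← Subgroup.relIndex] at key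
    rw [IsCyclic.card_mulAut, Nat.card_zpowers, hyord] at key
    have h12 : Nat.totient 13 = 12 := Nat.totient_prime (by norm_num)
    rw [h12] at key
    have hCN := Subgroup.centralizer_le_normalizer ((Subgroup.zpowers y : Subgroup K) : Set K)
    have h1 := ((Subgroup.centralizer ((Subgroup.zpowers y : Subgroup K) : Set K)).subgroupOf
      (Subgroup.normalizer ((Subgroup.zpowers y : Subgroup K) : Set K))).card_mul_index
    rw [Nat.card_congr (Subgroup.subgroupOfEquivOfLe hCN).toEquiv, hC] at h1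
    rw [← h1]
    exact Nat.mul_dvd_mul_left 13 key
  rw [← hPy] at hNdvd
  have hcount := Cfsg.Agent.Lib.Helper4.Sylow.card_sylow_mul_card_normalizer P
  have hmod := card_sylow_modEq_one 13 K
  have h13dvd : 13 ∣ Nat.card (Subgroup.normalizer ((P : Subgroup K) : Set K)) := by
    have := Subgroup.card_dvd_of_le (Subgroup.le_normalizer (H := (P : Subgroup K)))
    rwa [hPcard] at this
  rw [hK] at hcount
  generalize Nat.card (Subgroup.normalizer ((P : Subgroup K) : Set K)) = c at *
  generalize Nat.card (Sylow 13 K) = s at *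
  obtain ⟨m, rfl⟩ := h13dvd
  have hm : m ∣ 12 := Nat.dvd_of_mul_dvd_mul_left (by norm_num : 0 < 13) hNdvd
  have hmle : m ≤ 12 := Nat.le_of_dvd (by norm_num) hm
  have hmod' : s % 13 = 1 := hmod
  interval_cases m <;> omega

/-- Sharply 5-transitive: degree in `{5, 6, 7, 12}`. -/
theorem sharp5 {K : Type u} {Ω : Type v} [Group K] [MulAction K Ω] [Finite Ω]
    (hcard : 5 ≤ Nat.card Ω) (h5 : IsMultiplyPretransitive K Ω 5)
    (hsharp : ∀ x : Fin 5 ↪ Ω, stabilizer K x = ⊥) :
    Nat.card Ω = 5 ∨ Nat.card Ω = 6 ∨ Nat.card Ω = 7 ∨ Nat.card Ω = 12 := by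
  obtain ⟨a⟩ : Nonempty Ω := by
    rw [← Finite.card_pos_iff]; omega
  have h1 := stab_pretrans 4 h5 hcard a
  have h2 := stab_sharp 4 hsharp a
  have hc := SubMulAction.nat_card_ofStabilizer_add_one_eq K a
  have hne := nonempty_emb (Ω := SubMulAction.ofStabilizer K a) 4 (by omega)
  have := (Cfsg.Agent.Lead.SharpTrans.core4 h1 h2 hne).2
  omega

/-- Sharply `k`-transitive, `k ≥ 6`: degree in `{k, k+1, k+2}`. -/
theorem sharp_large : ∀ k : ℕ, 6 ≤ k → ∀ (K : Type u) [Group K] (Ω : Type v) [MulAction K Ω]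
    [Finite Ω], k ≤ Nat.card Ω → IsMultiplyPretransitive K Ω k →
    (∀ x : Fin k ↪ Ω, stabilizer K x = ⊥) →
    Nat.card Ω = k ∨ Nat.card Ω = k + 1 ∨ Nat.card Ω = k + 2 := by
  intro k hk
  induction k, hk using Nat.le_induction with
  | base =>
    intro K _ Ω _ _ hcard h6 hsharp
    obtain ⟨a⟩ : Nonempty Ω := by
      rw [← Finite.card_pos_iff]; omega
    have h1 := stab_pretrans 5 h6 hcard a
    have h2 := stab_sharp 5 hsharp a
    have hc := SubMulAction.nat_card_ofStabilizer_add_one_eq K a
    have h5 := sharp5 (K := stabilizer K a) (Ω := SubMulAction.ofStabilizer K a) (by omega) h1 h2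
    have hn13 : Nat.card Ω ≠ 13 := fun h => no13 h6 hsharp h
    omega
  | succ k hk ih =>
    intro K _ Ω _ _ hcard hk1 hsharp
    obtain ⟨a⟩ : Nonempty Ω := by
      rw [← Finite.card_pos_iff]; omega
    have h1 := stab_pretrans k hk1 hcard a
    have h2 := stab_sharp k hsharp a
    have hc := SubMulAction.nat_card_ofStabilizer_add_one_eq K a
    have := ih (stabilizer K a) (SubMulAction.ofStabilizer K a) (by omega) h1 h2
    omega

end Cfsg.Agent.Lead.SharpTransK
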