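import Cfsg.Agent.S5595
import Cfsg.Agent.Lib.Lead.LargeESPair

/-!
# The setting `Q x = O₂(C_G(x))`, `Q z` extraspecial containing its centralizer

* `LES.toES` : the `ES` description of `↥Q` from `LES Q z`.
* `les_z`, `les_conj` : `LES (Q u) u` for every conjugate `u` of `z`.
-/

set_option autoImplicit false
open Cfsg
open scoped commutatorElement

namespace Cfsg.Agent.Lead.SingularQ

open Cfsg.Agent.Lead.ES2 Cfsg.Agent.Lead.LargeES Cfsg.Agent.Lib.Helper7

variable {G : Type*} [Group G]

theorem LES.toES {Q : Subgroup G} {z : G} (h : LES Q z) : ES (⟨z, h.zQ⟩ : ↥Q) where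
  ctx :=
    { ne := fun h1 => h.z1 (congrArg Subtype.val h1)
      sq := Subtype.ext h.zz
      cen := fun x => Subtype.ext (h.zc x x.2)
      comm := by
        intro x y
        rcases h.comm x x.2 y y.2 with h1 | h1
        · left; apply Subtype.ext; rw [commutatorElement_def]; exact h1
        · right; apply Subtype.ext; rw [commutatorElement_def]; exact h1
      sqr := by
        intro x
        rcases h.sq x x.2 with h1 | h1
        · left; exact Subtype.ext h1
        · right; exact Subtype.ext h1 }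
  cent := by
    intro w hw
    rcases h.cent w (fun a ha => congrArg Subtype.val (hw ⟨a, ha⟩)) with h1 | h1
    · left; exact Subtype.ext h1
    · right; exact Subtype.ext h1

theorem les_z [Finite G] (Q : G → Subgroup G)
    (hQ : ∀ x : G, Q x = (Cfsg.pCore 2 ↥(Subgroup.centralizer ({x} : Set G))).map
      (Subgroup.centralizer ({x} : Set G)).subtype)
    (z : G) (hz : orderOf z = 2) (hE : Cfsg.IsExtraspecial 2 ↥(Q z))
    (hC : Subgroup.centralizer ((Q z : Subgroup G) : Set G) ≤ Q z) : LES (Q z) z := by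
  classical
  have hz1 : z ≠ 1 := by intro h; rw [h, orderOf_one] at hz; omega
  have hQle : ∀ x a : G, a ∈ Q x → a * x = x * a := by
    intro x a ha
    rw [hQ x] at ha
    obtain ⟨a', -, rfl⟩ := ha
    exact (Subgroup.mem_centralizer_singleton_iff.mp a'.2)
  have hQnorm : ∀ x c : G, c * x = x * c → ∀ a ∈ Q x, c * a * c⁻¹ ∈ Q x := by
    intro x c hc a ha
    rw [hQ x] at ha ⊢
    obtain ⟨a', ha', rfl⟩ := ha
    have hcC : c ∈ Subgroup.centralizer ({x} : Set G) := Subgroup.mem_centralizer_singleton_iff.mpr hc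
    have := (pCore_normal 2 ↥(Subgroup.centralizer ({x} : Set G))).conj_mem a' ha' ⟨c, hcC⟩
    exact ⟨_, this, rfl⟩
  obtain ⟨z₀, hes, -⟩ := es_of_extraspecial hE
  have hzQ : z ∈ Q z := hC (Subgroup.mem_centralizer_iff.mpr (fun a ha => hQle z a ha))
  have hz₀ : (z₀ : G) = z := by
    rcases hes.cent ⟨z, hzQ⟩ (fun x => Subtype.ext (hQle z x x.2)) with h | h
    · exact absurd (congrArg Subtype.val h) hz1
    · exact (congrArg Subtype.val h).symm
  have := LES.of_ES hes (fun c hc => hC (Subgroup.mem_centralizer_iff.mpr hc))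
    (by rw [hz₀]; exact hQnorm z)
  rwa [hz₀] at this

theorem les_conj [Finite G] (Q : G → Subgroup G)
    (hQ : ∀ x : G, Q x = (Cfsg.pCore 2 ↥(Subgroup.centralizer ({x} : Set G))).map
      (Subgroup.centralizer ({x} : Set G)).subtype)
    (z : G) (hz : orderOf z = 2) (hE : Cfsg.IsExtraspecial 2 ↥(Q z))
    (hC : Subgroup.centralizer ((Q z : Subgroup G) : Set G) ≤ Q z) (u : G)
    (hu : ∃ g : G, g * z * g⁻¹ = u) : LES (Q u) u := by
  obtain ⟨g, rfl⟩ := hu
  rw [Cfsg.Agent.S5595.Q_conj Q hQ z g]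
  exact (les_z Q hQ z hz hE hC).conj g

end Cfsg.Agent.Lead.SingularQ
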