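import Mathlib

set_option autoImplicit false

/-!
# Bialternant (Jacobi–Trudi) identity, part A: complete homogeneous polynomials
-/

namespace Cfsg.Agent.Lib.Lead.SnOrth

open Finset

variable {n : ℕ}

/-- complete homogeneous symmetric polynomial of degree `a` in `n` variables -/
noncomputable def hsym (n a : ℕ) : MvPolynomial (Fin n) ℤ :=
  ∑ m ∈ Finset.finsuppAntidiag (Finset.univ : Finset (Fin n)) a, MvPolynomial.monomial m 1

/-- `h_{a-k}`, read as `0` when `a < k` -/
noncomputable def hz (n a k : ℕ) : MvPolynomial (Fin n) ℤ :=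
  if k ≤ a then hsym n (a - k) else 0

/-- the geometric series `∑ (x_l t)^k` -/
noncomputable def geo (l : Fin n) : PowerSeries (MvPolynomial (Fin n) ℤ) :=
  PowerSeries.mk fun k => (MvPolynomial.X l : MvPolynomial (Fin n) ℤ) ^ k

/-- `1 - x_l t` as a polynomial in `t` -/
noncomputable def lin (l : Fin n) : Polynomial (MvPolynomial (Fin n) ℤ) :=
  1 - Polynomial.C (MvPolynomial.X l) * Polynomial.X

theorem geo_mul_lin (l : Fin n) :
    geo l * ((lin l : Polynomial (MvPolynomial (Fin n) ℤ)) : PowerSeries (MvPolynomial (Fin n) ℤ))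
      = 1 := by
  ext k
  unfold lin geo
  rw [Polynomial.coe_sub, Polynomial.coe_one, Polynomial.coe_mul, Polynomial.coe_C,
    Polynomial.coe_X, mul_sub, mul_one, map_sub, ← mul_assoc, PowerSeries.coeff_mk]
  rcases k with _ | k
  · simp
  · rw [PowerSeries.coeff_succ_mul_X, PowerSeries.coeff_mul_C, PowerSeries.coeff_mk,
      PowerSeries.coeff_one]
    simp [pow_succ]

/-- the generating series of the `h_a` -/
noncomputable def Hser (n : ℕ) : PowerSeries (MvPolynomial (Fin n) ℤ) := ∏ l : Fin n, geo l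

theorem coeff_Hser (a : ℕ) : PowerSeries.coeff a (Hser n) = hsym n a := by
  classical
  unfold Hser hsym
  rw [PowerSeries.coeff_prod]
  apply Finset.sum_congr rfl
  intro m _
  rw [MvPolynomial.monomial_eq, map_one, one_mul, Finsupp.prod_fintype _ _ (fun _ => pow_zero _)]
  apply Finset.prod_congr rfl
  intro l _
  unfold geo
  rw [PowerSeries.coeff_mk]

/-- `∏_{l ≠ i} (1 - x_l t)` -/
noncomputable def Epoly (i : Fin n) : Polynomial (MvPolynomial (Fin n) ℤ) :=
  ∏ l ∈ Finset.univ.erase i, lin l

theorem natDegree_lin_le (l : Fin n) : (lin l).natDegree ≤ 1 := by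
  unfold lin
  refine (Polynomial.natDegree_sub_le _ _).trans ?_
  rw [Polynomial.natDegree_one]
  refine max_le (Nat.zero_le _) ?_
  exact (Polynomial.natDegree_C_mul_le _ _).trans Polynomial.natDegree_X_le

theorem natDegree_Epoly_lt (i : Fin n) : (Epoly i).natDegree < n := by
  unfold Epoly
  refine lt_of_le_of_lt (Polynomial.natDegree_prod_le _ _) ?_
  refine lt_of_le_of_lt (Finset.sum_le_sum fun l _ => natDegree_lin_le l) ?_
  rw [Finset.sum_const, smul_eq_mul, mul_one, Finset.card_erase_of_mem (Finset.mem_univ i),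
    Finset.card_univ, Fintype.card_fin]
  have : 0 < n := i.pos
  omega

theorem coeff_Epoly_eq_zero (i : Fin n) (k : ℕ) (hk : n ≤ k) : (Epoly i).coeff k = 0 :=
  Polynomial.coeff_eq_zero_of_natDegree_lt (lt_of_lt_of_le (natDegree_Epoly_lt i) hk)

theorem Epoly_mul_Hser (i : Fin n) :
    ((Epoly i : Polynomial (MvPolynomial (Fin n) ℤ)) : PowerSeries (MvPolynomial (Fin n) ℤ))
      * Hser n = geo i := by
  classical
  unfold Hser Epoly
  rw [← Finset.mul_prod_erase Finset.univ geo (Finset.mem_univ i)]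
  have h1 : ((∏ l ∈ Finset.univ.erase i, lin l : Polynomial (MvPolynomial (Fin n) ℤ)) :
      PowerSeries (MvPolynomial (Fin n) ℤ))
      = ∏ l ∈ Finset.univ.erase i, ((lin l : Polynomial (MvPolynomial (Fin n) ℤ)) :
          PowerSeries (MvPolynomial (Fin n) ℤ)) := by
    have := map_prod (Polynomial.coeToPowerSeries.ringHom (R := MvPolynomial (Fin n) ℤ))
      (fun l => lin l) (Finset.univ.erase i)
    simpa only [Polynomial.coeToPowerSeries.ringHom_apply] using this
  rw [h1, mul_comm, mul_assoc, ← Finset.prod_mul_distrib]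
  rw [Finset.prod_congr rfl (fun l _ => geo_mul_lin l), Finset.prod_const_one, mul_one]

/-- the key relation `x_i^a = ∑_k h_{a-k} c_{k,i}` -/
theorem X_pow_eq_sum (i : Fin n) (a : ℕ) :
    (MvPolynomial.X i : MvPolynomial (Fin n) ℤ) ^ a
      = ∑ k : Fin n, hz n a k.val * (Epoly i).coeff k.val := by
  have h := congrArg (PowerSeries.coeff a) (Epoly_mul_Hser i)
  rw [PowerSeries.coeff_mul, Finset.Nat.sum_antidiagonal_eq_sum_range_succ
    (fun p q => PowerSeries.coeff p ((Epoly i : Polynomial (MvPolynomial (Fin n) ℤ)) :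
      PowerSeries (MvPolynomial (Fin n) ℤ)) * PowerSeries.coeff q (Hser n))] at h
  unfold geo at h
  rw [PowerSeries.coeff_mk] at h
  rw [← h, Fin.sum_univ_eq_sum_range (fun k => hz n a k * (Epoly i).coeff k) n]
  have e1 : ∀ k ∈ Finset.range (a + 1),
      PowerSeries.coeff k ((Epoly i : Polynomial (MvPolynomial (Fin n) ℤ)) :
        PowerSeries (MvPolynomial (Fin n) ℤ)) * PowerSeries.coeff (a - k) (Hser n)
      = hz n a k * (Epoly i).coeff k := by
    intro k hk
    rw [Finset.mem_range] at hk
    rw [Polynomial.coeff_coe, coeff_Hser, mul_comm]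
    unfold hz
    rw [if_pos (by omega)]
  rw [Finset.sum_congr rfl e1]
  have s1 : ∑ k ∈ Finset.range (a + 1), hz n a k * (Epoly i).coeff k
      = ∑ k ∈ Finset.range (max (a + 1) n), hz n a k * (Epoly i).coeff k := by
    apply Finset.sum_subset
    · intro k hk
      rw [Finset.mem_range] at hk ⊢
      exact lt_of_lt_of_le hk (le_max_left _ _)
    · intro k _ hk
      rw [Finset.mem_range] at hk
      unfold hz
      rw [if_neg (by omega), zero_mul]
  have s2 : ∑ k ∈ Finset.range n, hz n a k * (Epoly i).coeff k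
      = ∑ k ∈ Finset.range (max (a + 1) n), hz n a k * (Epoly i).coeff k := by
    apply Finset.sum_subset
    · intro k hk
      rw [Finset.mem_range] at hk ⊢
      exact lt_of_lt_of_le hk (le_max_right _ _)
    · intro k _ hk
      rw [Finset.mem_range] at hk
      rw [coeff_Epoly_eq_zero i k (by omega), mul_zero]
  rw [s1, s2]

theorem hsym_zero : hsym n 0 = 1 := by
  unfold hsym
  rw [Finset.finsuppAntidiag_zero, Finset.sum_singleton]
  rfl

/-- `A_λ = (x_i^{λ_j})_{j,i}` -/
noncomputable def Amat (lam : Fin n → ℕ) : Matrix (Fin n) (Fin n) (MvPolynomial (Fin n) ℤ) :=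
  fun j i => MvPolynomial.X i ^ lam j

/-- `H_λ = (h_{λ_j - k})_{j,k}` -/
noncomputable def Hmat (lam : Fin n → ℕ) : Matrix (Fin n) (Fin n) (MvPolynomial (Fin n) ℤ) :=
  fun j k => hz n (lam j) k.val

/-- the matrix of coefficients of the `E_i` -/
noncomputable def Mmat (n : ℕ) : Matrix (Fin n) (Fin n) (MvPolynomial (Fin n) ℤ) :=
  fun k i => (Epoly i).coeff k.val

theorem Amat_eq (lam : Fin n → ℕ) : Amat lam = Hmat lam * Mmat n := by
  apply Matrix.ext
  intro j i
  rw [Matrix.mul_apply]
  exact X_pow_eq_sum i (lam j)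

theorem det_Hmat_delta : (Hmat (fun j : Fin n => j.val)).det = 1 := by
  rw [Matrix.det_of_isLowerTriangular]
  · apply Finset.prod_eq_one
    intro j _
    unfold Hmat hz
    rw [if_pos (le_refl _), Nat.sub_self, hsym_zero]
  · intro j k hjk
    have hjk' : j < k := hjk
    unfold Hmat hz
    have h1 : j.val < k.val := hjk'
    have h2 : ¬ (k.val ≤ (fun j : Fin n => j.val) j) := by
      simp only
      omega
    rw [if_neg h2]

/-- the bialternant identity -/
theorem det_Amat (lam : Fin n → ℕ) :
    (Amat lam).det = (Hmat lam).det * (Amat (fun j : Fin n => j.val)).det := by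
  rw [Amat_eq lam, Matrix.det_mul, Amat_eq (fun j : Fin n => j.val), Matrix.det_mul,
    det_Hmat_delta, one_mul]

end Cfsg.Agent.Lib.Lead.SnOrth
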