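import Mathlib
import Cfsg.Agent.Lib.Lead.SnOrthA

set_option autoImplicit false

/-!
# Bialternant identity, part B: coefficient extraction
-/

namespace Cfsg.Agent.Lib.Lead.SnOrth

open Finset

variable {n : ℕ}

/-- a function as a finitely supported function -/
noncomputable def fs (f : Fin n → ℕ) : Fin n →₀ ℕ := Finsupp.equivFunOnFinite.symm f

theorem fs_apply (f : Fin n → ℕ) (i : Fin n) : fs f i = f i := rfl

theorem fs_injective : Function.Injective (fs : (Fin n → ℕ) → (Fin n →₀ ℕ)) :=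
  Finsupp.equivFunOnFinite.symm.injective

theorem prod_X_pow (f : Fin n → ℕ) :
    ∏ i : Fin n, (MvPolynomial.X i : MvPolynomial (Fin n) ℤ) ^ f i
      = MvPolynomial.monomial (fs f) 1 := by
  rw [MvPolynomial.monomial_eq, map_one, one_mul, Finsupp.prod_fintype _ _ (fun _ => pow_zero _)]
  rfl

theorem det_Amat_expand (lam : Fin n → ℕ) :
    (Amat lam).det = ∑ σ : Equiv.Perm (Fin n),
      ((Equiv.Perm.sign σ : ℤ) : MvPolynomial (Fin n) ℤ)
        * MvPolynomial.monomial (fs (fun i => lam (σ i))) 1 := by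
  rw [Matrix.det_apply]
  apply Finset.sum_congr rfl
  intro σ _
  rw [← prod_X_pow]
  unfold Amat
  rw [Units.smul_def, zsmul_eq_mul]

theorem perm_eq_one_of_strictMono (σ : Equiv.Perm (Fin n)) (h : StrictMono σ) : σ = 1 := by
  ext i
  have h1 := h.id_le i
  have h2 := h.le_id i
  exact congrArg Fin.val (le_antisymm h2 h1)

theorem coeff_det_Amat (lam lam' : Fin n → ℕ) (h : StrictMono lam) (h' : StrictMono lam') :
    MvPolynomial.coeff (fs lam) (Amat lam').det = if lam = lam' then 1 else 0 := by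
  classical
  rw [det_Amat_expand, MvPolynomial.coeff_sum]
  have key : ∀ σ : Equiv.Perm (Fin n), σ ≠ 1 →
      MvPolynomial.coeff (fs lam) (((Equiv.Perm.sign σ : ℤ) : MvPolynomial (Fin n) ℤ)
        * MvPolynomial.monomial (fs (fun i => lam' (σ i))) 1) = 0 := by
    intro σ hσ
    have : ((Equiv.Perm.sign σ : ℤ) : MvPolynomial (Fin n) ℤ)
        = MvPolynomial.C ((Equiv.Perm.sign σ : ℤ)) := by simp
    rw [this, MvPolynomial.coeff_C_mul, MvPolynomial.coeff_monomial, if_neg, mul_zero]
    intro heq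
    apply hσ
    apply perm_eq_one_of_strictMono
    intro i j hij
    have h1 : lam' (σ i) = lam i := congrFun (fs_injective heq) i
    have h2 : lam' (σ j) = lam j := congrFun (fs_injective heq) j
    have h3 : lam' (σ i) < lam' (σ j) := by rw [h1, h2]; exact h hij
    exact h'.lt_iff_lt.mp h3
  rw [Finset.sum_eq_single (1 : Equiv.Perm (Fin n)) (fun σ _ hσ => key σ hσ)
    (fun h => absurd (Finset.mem_univ _) h)]
  simp only [Equiv.Perm.sign_one, Units.val_one, Int.cast_one, one_mul, Equiv.Perm.coe_one, id_eq]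
  rw [MvPolynomial.coeff_monomial]
  by_cases hl : lam = lam'
  · rw [if_pos hl, if_pos (by rw [hl])]
  · rw [if_neg hl, if_neg]
    intro heq
    exact hl (fs_injective heq).symm

/-- the number of `ℕ`-matrices with row sums `a` and column sums `b`, the columns being listed as
finitely supported functions -/
noncomputable def Tcount (a : Fin n →₀ ℕ) (b : Fin n → ℕ) : ℕ :=
  ((Fintype.piFinset fun j : Fin n =>
      Finset.finsuppAntidiag (Finset.univ : Finset (Fin n)) (b j)).filter
    fun p => ∑ j, p j = a).card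

theorem coeff_prod_hsym (a : Fin n →₀ ℕ) (b : Fin n → ℕ) :
    MvPolynomial.coeff a (∏ j : Fin n, hsym n (b j)) = (Tcount a b : ℤ) := by
  classical
  unfold hsym Tcount
  rw [Finset.prod_univ_sum, MvPolynomial.coeff_sum, Finset.card_filter]
  push_cast
  apply Finset.sum_congr rfl
  intro p _
  rw [← MvPolynomial.monomial_sum_one, MvPolynomial.coeff_monomial]

theorem det_Hmat_expand (lam : Fin n → ℕ) :
    (Hmat lam).det = ∑ σ : Equiv.Perm (Fin n),
      ((Equiv.Perm.sign σ : ℤ) : MvPolynomial (Fin n) ℤ)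
        * ∏ j : Fin n, hz n (lam j) (σ j).val := by
  rw [← Matrix.det_transpose, Matrix.det_apply]
  apply Finset.sum_congr rfl
  intro σ _
  rw [Units.smul_def, zsmul_eq_mul]
  rfl

theorem prod_hz (lam : Fin n → ℕ) (σ : Equiv.Perm (Fin n)) :
    ∏ j : Fin n, hz n (lam j) (σ j).val
      = if ∀ j, (σ j).val ≤ lam j then ∏ j : Fin n, hsym n (lam j - (σ j).val) else 0 := by
  by_cases h : ∀ j, (σ j).val ≤ lam j
  · rw [if_pos h]
    apply Finset.prod_congr rfl
    intro j _
    unfold hz
    rw [if_pos (h j)]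
  · rw [if_neg h]
    push Not at h
    obtain ⟨j, hj⟩ := h
    apply Finset.prod_eq_zero (Finset.mem_univ j)
    unfold hz
    rw [if_neg (by omega)]

theorem coeff_det_Hmat (a : Fin n →₀ ℕ) (lam : Fin n → ℕ) :
    MvPolynomial.coeff a (Hmat lam).det = ∑ σ : Equiv.Perm (Fin n),
      if ∀ j, (σ j).val ≤ lam j then
        (Equiv.Perm.sign σ : ℤ) * (Tcount a (fun j => lam j - (σ j).val) : ℤ) else 0 := by
  rw [det_Hmat_expand, MvPolynomial.coeff_sum]
  apply Finset.sum_congr rfl
  intro σ _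
  have : ((Equiv.Perm.sign σ : ℤ) : MvPolynomial (Fin n) ℤ)
      = MvPolynomial.C ((Equiv.Perm.sign σ : ℤ)) := by simp
  rw [this, MvPolynomial.coeff_C_mul, prod_hz]
  by_cases h : ∀ j, (σ j).val ≤ lam j
  · rw [if_pos h, if_pos h, coeff_prod_hsym]
  · rw [if_neg h, if_neg h, MvPolynomial.coeff_zero, mul_zero]

/-- the double alternating sum of table counts -/
theorem alternating_Tcount (lam lam' : Fin n → ℕ) (h : StrictMono lam) (h' : StrictMono lam') :
    ∑ κ : Equiv.Perm (Fin n), ∑ κ' : Equiv.Perm (Fin n),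
      (if (∀ i, (κ i).val ≤ lam i) ∧ (∀ j, (κ' j).val ≤ lam' j) then
        (Equiv.Perm.sign κ : ℤ) * (Equiv.Perm.sign κ' : ℤ) *
          (Tcount (fs fun i => lam i - (κ i).val) (fun j => lam' j - (κ' j).val) : ℤ)
      else 0) = if lam = lam' then 1 else 0 := by
  classical
  rw [← coeff_det_Amat lam lam' h h', det_Amat lam', mul_comm, det_Amat_expand,
    Finset.sum_mul, MvPolynomial.coeff_sum]
  apply Finset.sum_congr rfl
  intro κ _
  have hC : ((Equiv.Perm.sign κ : ℤ) : MvPolynomial (Fin n) ℤ)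
      = MvPolynomial.C ((Equiv.Perm.sign κ : ℤ)) := by simp
  rw [hC, mul_assoc, MvPolynomial.coeff_C_mul, MvPolynomial.coeff_monomial_mul', one_mul]
  by_cases hκ : ∀ i, (κ i).val ≤ lam i
  · have hle : fs (fun i => ((κ i).val : ℕ)) ≤ fs lam := by
      intro i
      exact hκ i
    have hsub : fs lam - fs (fun i => ((κ i).val : ℕ)) = fs fun i => lam i - (κ i).val := by
      ext i
      rfl
    rw [if_pos hle, hsub, coeff_det_Hmat, Finset.mul_sum]
    apply Finset.sum_congr rfl
    intro κ' _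
    by_cases hκ' : ∀ j, (κ' j).val ≤ lam' j
    · rw [if_pos hκ', if_pos ⟨hκ, hκ'⟩, mul_assoc]
    · rw [if_neg hκ', if_neg (fun hh => hκ' hh.2), mul_zero]
  · have hle : ¬ fs (fun i => ((κ i).val : ℕ)) ≤ fs lam := by
      intro hle
      exact hκ fun i => hle i
    rw [if_neg hle, mul_zero]
    apply Finset.sum_eq_zero
    intro κ' _
    rw [if_neg (fun hh => hκ hh.1)]

end Cfsg.Agent.Lib.Lead.SnOrth
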