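import Mathlib

set_option autoImplicit false

/-!
# Colourings of `Fin n` up to permutation
-/

namespace Cfsg.Agent.Lib.Lead.SnOrth

open Finset

variable {n : ℕ} {K : Type*} [DecidableEq K]

/-- the number of positions of colour `k` -/
def cnt (e : Fin n → K) (k : K) : ℕ := (Finset.univ.filter fun i => e i = k).card

theorem cnt_comp_perm (e : Fin n → K) (σ : Equiv.Perm (Fin n)) : cnt (e ∘ σ) = cnt e := by
  funext k
  unfold cnt
  apply Finset.card_equiv σ
  intro i
  simp

theorem card_fiber (e : Fin n → K) (k : K) : Fintype.card {i // e i = k} = cnt e k := by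
  unfold cnt
  rw [Fintype.card_subtype]

theorem exists_perm_of_cnt_eq (e e' : Fin n → K) (h : cnt e = cnt e') :
    ∃ σ : Equiv.Perm (Fin n), e' ∘ σ = e := by
  classical
  have hc : ∀ k, Fintype.card {i // e i = k} = Fintype.card {i // e' i = k} := by
    intro k
    rw [card_fiber, card_fiber, h]
  let φ : ∀ k, {i // e i = k} ≃ {i // e' i = k} := fun k => Fintype.equivOfCardEq (hc k)
  let σ : Equiv.Perm (Fin n) :=
    (Equiv.sigmaFiberEquiv e).symm.trans
      ((Equiv.sigmaCongrRight φ).trans (Equiv.sigmaFiberEquiv e'))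
  refine ⟨σ, ?_⟩
  funext i
  show e' (σ i) = e i
  have h1 : σ i = ((φ (e i)) ⟨i, rfl⟩ : Fin n) := rfl
  rw [h1]
  exact ((φ (e i)) ⟨i, rfl⟩).2

theorem exists_of_sum_eq [Fintype K] (M : K → ℕ) (h : ∑ k, M k = n) :
    ∃ e : Fin n → K, cnt e = M := by
  classical
  have hcard : Fintype.card (Σ k, Fin (M k)) = n := by
    rw [Fintype.card_sigma]
    simpa using h
  let φ : Fin n ≃ Σ k, Fin (M k) := (Fintype.equivFinOfCardEq hcard).symm
  refine ⟨fun i => (φ i).1, ?_⟩
  funext k
  unfold cnt
  have h1 : (Finset.univ.filter fun i : Fin n => (φ i).1 = k).card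
      = (Finset.univ.filter fun x : Σ k, Fin (M k) => x.1 = k).card := by
    apply Finset.card_equiv φ
    intro i
    simp
  rw [h1]
  have h2 : (Finset.univ.filter fun x : Σ k, Fin (M k) => x.1 = k)
      = (Finset.univ : Finset (Fin (M k))).map (Function.Embedding.sigmaMk k) := by
    ext ⟨k', x⟩
    simp only [Finset.mem_filter, Finset.mem_univ, true_and, Finset.mem_map,
      Function.Embedding.sigmaMk_apply]
    constructor
    · intro hk
      subst hk
      exact ⟨x, rfl⟩
    · rintro ⟨y, hy⟩
      exact (congrArg Sigma.fst hy).symm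
  rw [h2, Finset.card_map, Finset.card_univ, Fintype.card_fin]

end Cfsg.Agent.Lib.Lead.SnOrth
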