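import Mathlib
import Cfsg.Prelude.Def_LinearParabolics
import Cfsg.Agent.H2.ParabolicCount
import Cfsg.Agent.Lib.Lead.SnOrthB
import Cfsg.Agent.Lib.Lead.SnOrthC

set_option autoImplicit false
set_option linter.unusedSectionVars false
set_option linter.unusedVariables false

/-!
# Inner products of Young permutation characters count contingency tables
-/

namespace Cfsg.Agent.Lib.Lead.SnOrth

open Finset Cfsg

variable {n : ℕ}

/-- colourings of `Fin n`, as a set with an action of the symmetric group -/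
@[ext] structure Colr (n : ℕ) (K : Type*) where
  /-- the colouring -/
  f : Fin n → K

instance colrAction (K : Type*) : MulAction (Equiv.Perm (Fin n)) (Colr n K) where
  smul σ c := ⟨fun k => c.f (σ⁻¹ k)⟩
  one_smul c := by
    ext k
    rfl
  mul_smul σ τ c := by
    ext k
    show c.f ((σ * τ)⁻¹ k) = c.f (τ⁻¹ (σ⁻¹ k))
    rw [mul_inv_rev]
    rfl

theorem smul_f {K : Type*} (σ : Equiv.Perm (Fin n)) (c : Colr n K) (k : Fin n) :
    (σ • c).f k = c.f (σ⁻¹ k) := rfl

theorem smul_f_eq {K : Type*} (σ : Equiv.Perm (Fin n)) (c : Colr n K) :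
    (σ • c).f = c.f ∘ (σ⁻¹ : Equiv.Perm (Fin n)) := rfl

instance colrFinite (K : Type*) [Finite K] : Finite (Colr n K) :=
  Finite.of_injective (fun c => c.f) (fun c d h => Colr.ext h)

section margins

variable {A B : Type*} [DecidableEq A] [DecidableEq B] [Fintype A] [Fintype B]

theorem cnt_fst (e : Fin n → A × B) (a : A) :
    cnt (fun k => (e k).1) a = ∑ b, cnt e (a, b) := by
  unfold cnt
  rw [Finset.card_eq_sum_card_fiberwise (f := fun k => (e k).2) (t := Finset.univ)
    (fun _ _ => Finset.mem_univ _)]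
  apply Finset.sum_congr rfl
  intro b _
  rw [Finset.filter_filter]
  congr 1
  ext k
  simp only [Finset.mem_filter, Finset.mem_univ, true_and]
  constructor
  · rintro ⟨h1, h2⟩
    exact Prod.ext h1 h2
  · intro h
    rw [h]
    exact ⟨rfl, rfl⟩

theorem cnt_snd (e : Fin n → A × B) (b : B) :
    cnt (fun k => (e k).2) b = ∑ a, cnt e (a, b) := by
  unfold cnt
  rw [Finset.card_eq_sum_card_fiberwise (f := fun k => (e k).1) (t := Finset.univ)
    (fun _ _ => Finset.mem_univ _)]
  apply Finset.sum_congr rfl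
  intro a _
  rw [Finset.filter_filter]
  congr 1
  ext k
  simp only [Finset.mem_filter, Finset.mem_univ, true_and]
  constructor
  · rintro ⟨h1, h2⟩
    exact Prod.ext h2 h1
  · intro h
    rw [h]
    exact ⟨rfl, rfl⟩

end margins

section young

variable (α : Fin n → ℕ) (hα : ∑ i, α i = n)

/-- the standard colouring of type `α` -/
def stdCol : Colr n (Fin n) :=
  ⟨fun i => ⟨compLabel α i, Cfsg.Agent.H2.ParabolicCount.compLabel_lt α hα i⟩⟩

theorem cnt_stdCol : cnt (stdCol α hα).f = α := by
  funext a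
  unfold cnt stdCol
  rw [← Cfsg.Agent.H2.ParabolicCount.card_block α hα a.val a.isLt]
  congr 1
  ext i
  simp only [Finset.mem_filter, Finset.mem_univ, true_and]
  exact Fin.ext_iff

theorem youngSubgroup_eq_stabilizer :
    youngSubgroup α = MulAction.stabilizer (Equiv.Perm (Fin n)) (stdCol α hα) := by
  ext σ
  rw [MulAction.mem_stabilizer_iff]
  constructor
  · intro h
    ext k
    rw [smul_f]
    have := h (σ⁻¹ k)
    have e : σ (σ⁻¹ k) = k := by simp
    rw [e] at this
    exact this.symm
  · intro h i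
    have h1 := congrArg (fun c : Colr n (Fin n) => (c.f (σ i)).val) h
    simp only [smul_f] at h1
    have e : σ⁻¹ (σ i) = i := by simp
    rw [e] at h1
    exact h1.symm

theorem mem_orbit_stdCol_iff (c : Colr n (Fin n)) :
    c ∈ MulAction.orbit (Equiv.Perm (Fin n)) (stdCol α hα) ↔ cnt c.f = α := by
  constructor
  · rintro ⟨σ, rfl⟩
    rw [smul_f_eq, cnt_comp_perm, cnt_stdCol]
  · intro h
    obtain ⟨σ, hσ⟩ := exists_perm_of_cnt_eq c.f (stdCol α hα).f (by rw [h, cnt_stdCol])
    refine ⟨σ⁻¹, ?_⟩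
    ext k
    rw [smul_f, inv_inv, ← hσ]
    rfl

end young

section burnside

variable {G : Type*} [Group G]

theorem card_fixedBy_prod_mul' (X Y : Type*) [MulAction G X] [MulAction G Y] (g : G) :
    Nat.card (MulAction.fixedBy (X × Y) g)
      = Nat.card (MulAction.fixedBy X g) * Nat.card (MulAction.fixedBy Y g) := by
  rw [← Nat.card_prod]
  apply Nat.card_congr
  refine
    { toFun := fun p => (⟨p.1.1, ?_⟩, ⟨p.1.2, ?_⟩)
      invFun := fun q => ⟨(q.1.1, q.2.1), ?_⟩
      left_inv := fun p => rfl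
      right_inv := fun q => rfl }
  · have := p.2
    rw [MulAction.mem_fixedBy] at this ⊢
    exact congrArg Prod.fst this
  · have := p.2
    rw [MulAction.mem_fixedBy] at this ⊢
    exact congrArg Prod.snd this
  · rw [MulAction.mem_fixedBy]
    have h1 := q.1.2
    have h2 := q.2.2
    rw [MulAction.mem_fixedBy] at h1 h2
    exact Prod.ext h1 h2

theorem sum_fixedBy_mul' [Fintype G] (X Y : Type*) [MulAction G X] [MulAction G Y] [Finite X]
    [Finite Y] :
    ∑ g : G, Nat.card (MulAction.fixedBy X g) * Nat.card (MulAction.fixedBy Y g)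
      = Nat.card (Quotient (MulAction.orbitRel G (X × Y))) * Nat.card G := by
  classical
  let _ : Fintype X := Fintype.ofFinite X
  let _ : Fintype Y := Fintype.ofFinite Y
  let _ : Fintype (Quotient (MulAction.orbitRel G (X × Y))) := Fintype.ofFinite _
  let _ : ∀ g : G, Fintype (MulAction.fixedBy (X × Y) g) := fun g => Fintype.ofFinite _
  have h := MulAction.sum_card_fixedBy_eq_card_orbits_mul_card_group G (X × Y)
  rw [Nat.card_eq_fintype_card, Nat.card_eq_fintype_card, ← h]
  apply Finset.sum_congr rfl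
  intro g _
  rw [← card_fixedBy_prod_mul', Nat.card_eq_fintype_card]

end burnside

section table

/-- the pair of two colourings -/
def pairf (c d : Colr n (Fin n)) : Fin n → Fin n × Fin n := fun k => (c.f k, d.f k)

theorem pairf_smul (σ : Equiv.Perm (Fin n)) (c d : Colr n (Fin n)) :
    pairf (σ • c) (σ • d) = pairf c d ∘ (σ⁻¹ : Equiv.Perm (Fin n)) := rfl

/-- the table of a pair of colourings, listed by columns -/
noncomputable def tmap (c d : Colr n (Fin n)) : Fin n → (Fin n →₀ ℕ) :=
  fun j => fs fun i => cnt (pairf c d) (i, j)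

theorem tmap_smul (σ : Equiv.Perm (Fin n)) (c d : Colr n (Fin n)) :
    tmap (σ • c) (σ • d) = tmap c d := by
  unfold tmap
  rw [pairf_smul, cnt_comp_perm]

theorem tmap_mem (α β : Fin n → ℕ) (c d : Colr n (Fin n)) (hc : cnt c.f = α)
    (hd : cnt d.f = β) :
    tmap c d ∈ (Fintype.piFinset fun j : Fin n =>
      Finset.finsuppAntidiag (Finset.univ : Finset (Fin n)) (β j)).filter
        fun p => ∑ j, p j = fs α := by
  rw [Finset.mem_filter, Fintype.mem_piFinset]
  constructor
  · intro j
    rw [Finset.mem_finsuppAntidiag]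
    refine ⟨?_, Finset.subset_univ _⟩
    have := cnt_snd (pairf c d) j
    rw [← hd]
    exact this.symm
  · ext i
    rw [Finsupp.finsetSum_apply]
    have := cnt_fst (pairf c d) i
    rw [← hc]
    exact this.symm

theorem tmap_eq_imp (c d c' d' : Colr n (Fin n)) (h : tmap c d = tmap c' d') :
    ∃ σ : Equiv.Perm (Fin n), σ • c = c' ∧ σ • d = d' := by
  have h1 : cnt (pairf c' d') = cnt (pairf c d) := by
    funext ⟨i, j⟩
    have := congrFun h j
    unfold tmap at this
    exact (congrFun (fs_injective this) i).symm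
  obtain ⟨σ, hσ⟩ := exists_perm_of_cnt_eq (pairf c' d') (pairf c d) h1
  refine ⟨σ⁻¹, ?_, ?_⟩
  · ext k
    rw [smul_f, inv_inv]
    have := congrFun hσ k
    exact congrArg Fin.val (congrArg Prod.fst this)
  · ext k
    rw [smul_f, inv_inv]
    have := congrFun hσ k
    exact congrArg Fin.val (congrArg Prod.snd this)

theorem exists_tmap_eq (α β : Fin n → ℕ) (hβ : ∑ j, β j = n) (p : Fin n → (Fin n →₀ ℕ))
    (hp : p ∈ (Fintype.piFinset fun j : Fin n =>
      Finset.finsuppAntidiag (Finset.univ : Finset (Fin n)) (β j)).filter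
        fun p => ∑ j, p j = fs α) :
    ∃ c d : Colr n (Fin n), cnt c.f = α ∧ cnt d.f = β ∧ tmap c d = p := by
  rw [Finset.mem_filter, Fintype.mem_piFinset] at hp
  obtain ⟨hp1, hp2⟩ := hp
  have hcol : ∀ j, ∑ i, p j i = β j := by
    intro j
    have := hp1 j
    rw [Finset.mem_finsuppAntidiag] at this
    exact this.1
  have hrow : ∀ i, ∑ j, p j i = α i := by
    intro i
    have := DFunLike.congr_fun hp2 i
    rw [Finsupp.finsetSum_apply] at this
    exact this
  have hsum : ∑ x : Fin n × Fin n, p x.2 x.1 = n := by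
    rw [Fintype.sum_prod_type_right]
    rw [Finset.sum_congr rfl (fun j _ => hcol j), hβ]
  obtain ⟨e, he⟩ := exists_of_sum_eq (fun x : Fin n × Fin n => p x.2 x.1) hsum
  refine ⟨⟨fun k => (e k).1⟩, ⟨fun k => (e k).2⟩, ?_, ?_, ?_⟩
  · funext i
    show cnt (fun k => (e k).1) i = α i
    rw [cnt_fst, he, hrow]
  · funext j
    show cnt (fun k => (e k).2) j = β j
    rw [cnt_snd, he, hcol]
  · funext j
    ext i
    unfold tmap
    rw [fs_apply]
    have : pairf ⟨fun k => (e k).1⟩ ⟨fun k => (e k).2⟩ = e := rfl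
    rw [this, he]

end table

section inner

variable (α β : Fin n → ℕ) (hα : ∑ i, α i = n) (hβ : ∑ j, β j = n)

/-- the set of tables -/
noncomputable def tabs : Finset (Fin n → (Fin n →₀ ℕ)) :=
  (Fintype.piFinset fun j : Fin n =>
      Finset.finsuppAntidiag (Finset.univ : Finset (Fin n)) (β j)).filter
    fun p => ∑ j, p j = fs α

theorem Tcount_eq : Tcount (fs α) β = (tabs α β).card := rfl

/-- the coset space of the stabilizer of the standard colouring -/
abbrev Xq : Type := Equiv.Perm (Fin n) ⧸ MulAction.stabilizer (Equiv.Perm (Fin n)) (stdCol α hα)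

/-- the colouring attached to a coset -/
def iota : Xq α hα → Colr n (Fin n) :=
  MulAction.ofQuotientStabilizer (Equiv.Perm (Fin n)) (stdCol α hα)

theorem cnt_iota (q : Xq α hα) : cnt (iota α hα q).f = α :=
  (mem_orbit_stdCol_iff α hα _).mp (MulAction.ofQuotientStabilizer_mem_orbit _ _ q)

theorem iota_smul (σ : Equiv.Perm (Fin n)) (q : Xq α hα) :
    iota α hα (σ • q) = σ • iota α hα q :=
  MulAction.ofQuotientStabilizer_smul _ _ σ q

theorem iota_injective : Function.Injective (iota α hα) :=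
  MulAction.injective_ofQuotientStabilizer _ _

theorem iota_surj (c : Colr n (Fin n)) (hc : cnt c.f = α) : ∃ q : Xq α hα, iota α hα q = c := by
  obtain ⟨σ, hσ⟩ := (mem_orbit_stdCol_iff α hα c).mpr hc
  refine ⟨QuotientGroup.mk σ, ?_⟩
  unfold iota
  rw [MulAction.ofQuotientStabilizer_mk]
  exact hσ

/-- the table of a pair of cosets -/
noncomputable def theta (x : Xq α hα × Xq β hβ) : ↥(tabs α β) :=
  ⟨tmap (iota α hα x.1) (iota β hβ x.2),
    tmap_mem α β _ _ (cnt_iota α hα x.1) (cnt_iota β hβ x.2)⟩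

theorem theta_smul (σ : Equiv.Perm (Fin n)) (x : Xq α hα × Xq β hβ) :
    theta α β hα hβ (σ • x) = theta α β hα hβ x := by
  apply Subtype.ext
  show tmap (iota α hα (σ • x.1)) (iota β hβ (σ • x.2)) = tmap (iota α hα x.1) (iota β hβ x.2)
  rw [iota_smul, iota_smul, tmap_smul]

theorem card_orbits_eq_Tcount :
    Nat.card (Quotient (MulAction.orbitRel (Equiv.Perm (Fin n)) (Xq α hα × Xq β hβ)))
      = Tcount (fs α) β := by
  rw [Tcount_eq, ← Nat.card_eq_finsetCard]
  apply Nat.card_congr
  refine Equiv.ofBijective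
    (Quotient.lift (theta α β hα hβ) ?_) ⟨?_, ?_⟩
  · intro x y hxy
    obtain ⟨σ, rfl⟩ := (MulAction.orbitRel_apply.mp hxy)
    exact theta_smul α β hα hβ σ y
  · intro a b
    refine Quotient.inductionOn₂ a b ?_
    intro x y hxy
    simp only [Quotient.lift_mk] at hxy
    have h1 : tmap (iota α hα x.1) (iota β hβ x.2) = tmap (iota α hα y.1) (iota β hβ y.2) :=
      congrArg Subtype.val hxy
    obtain ⟨σ, hσ1, hσ2⟩ := tmap_eq_imp _ _ _ _ h1
    apply Quotient.sound
    apply MulAction.orbitRel_apply.mpr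
    refine ⟨σ⁻¹, ?_⟩
    rw [← iota_smul] at hσ1 hσ2
    have e1 := iota_injective α hα hσ1
    have e2 := iota_injective β hβ hσ2
    apply Prod.ext
    · show σ⁻¹ • y.1 = x.1
      rw [← e1, inv_smul_smul]
    · show σ⁻¹ • y.2 = x.2
      rw [← e2, inv_smul_smul]
  · intro p
    obtain ⟨c, d, hc, hd, hcd⟩ := exists_tmap_eq α β hβ p.1 p.2
    obtain ⟨q, hq⟩ := iota_surj α hα c hc
    obtain ⟨r, hr⟩ := iota_surj β hβ d hd
    refine ⟨Quotient.mk _ (q, r), ?_⟩
    apply Subtype.ext
    show tmap (iota α hα q) (iota β hβ r) = p.1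
    rw [hq, hr, hcd]

include hα hβ in
/-- the inner product of two Young permutation characters is a number of tables -/
theorem young_inner :
    (Nat.card (Equiv.Perm (Fin n)) : ℂ)⁻¹ * ∑ σ : Equiv.Perm (Fin n),
      fixedPointCharacter (youngSubgroup α) σ * fixedPointCharacter (youngSubgroup β) σ
      = (Tcount (fs α) β : ℂ) := by
  rw [youngSubgroup_eq_stabilizer α hα, youngSubgroup_eq_stabilizer β hβ]
  unfold fixedPointCharacter
  have h := sum_fixedBy_mul' (G := Equiv.Perm (Fin n)) (Xq α hα) (Xq β hβ)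
  rw [card_orbits_eq_Tcount] at h
  have h2 := congrArg (fun m : ℕ => (m : ℂ)) h
  simp only [Nat.cast_sum, Nat.cast_mul] at h2
  rw [h2]
  have hne : (Nat.card (Equiv.Perm (Fin n)) : ℂ) ≠ 0 := by
    exact_mod_cast Nat.card_pos.ne'
  field_simp

end inner

end Cfsg.Agent.Lib.Lead.SnOrth
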