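import Mathlib
import Cfsg.Prelude.Def_LinearParabolics
import Cfsg.Agent.Lib.Lead.SnOrthD

set_option autoImplicit false

/-!
# Orthonormality of the determinantal (Frobenius) class functions of the symmetric group
-/

namespace Cfsg.Agent.Lib.Lead.SnOrth

open Finset Cfsg

variable {n : ℕ}

theorem strictMono_add_val (ν : Fin n → ℕ) (hν : Monotone ν) :
    StrictMono fun i : Fin n => ν i + i.val := by
  intro i j hij
  have h1 : ν i ≤ ν j := hν hij.le
  have h2 : i.val < j.val := hij
  show ν i + i.val < ν j + j.val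
  omega

theorem sum_perm_val (κ : Equiv.Perm (Fin n)) : ∑ i : Fin n, (κ i).val = ∑ i : Fin n, i.val :=
  Equiv.sum_comp κ fun i : Fin n => i.val

theorem sum_shift (ν : Fin n → ℕ) (hs : ∑ i, ν i = n) (κ : Equiv.Perm (Fin n))
    (hκ : ∀ i, (κ i).val ≤ ν i + i.val) : ∑ i : Fin n, (ν i + i.val - (κ i).val) = n := by
  have h1 : ∑ i : Fin n, (ν i + i.val - (κ i).val) + ∑ i : Fin n, (κ i).val
      = ∑ i : Fin n, (ν i + i.val) := by
    rw [← Finset.sum_add_distrib]
    apply Finset.sum_congr rfl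
    intro i _
    exact Nat.sub_add_cancel (hκ i)
  rw [sum_perm_val, Finset.sum_add_distrib, hs] at h1
  omega

/-- **Orthonormality of the Frobenius determinantal class functions of `Sym(n)`.** -/
theorem sn_orthonormal (ν ν' : Fin n → ℕ) (hν : Monotone ν) (hs : ∑ i, ν i = n)
    (hν' : Monotone ν') (hs' : ∑ i, ν' i = n) :
    ∑ κ : Equiv.Perm (Fin n), ∑ κ' : Equiv.Perm (Fin n),
      (if (∀ i, (κ i).val ≤ ν i + i.val) ∧ (∀ i, (κ' i).val ≤ ν' i + i.val) then
        ((Equiv.Perm.sign κ : ℤ) : ℂ) * ((Equiv.Perm.sign κ' : ℤ) : ℂ) *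
          ((Nat.card (Equiv.Perm (Fin n)) : ℂ)⁻¹ * ∑ σ : Equiv.Perm (Fin n),
            fixedPointCharacter (youngSubgroup fun i => ν i + i.val - (κ i).val) σ *
            fixedPointCharacter (youngSubgroup fun i => ν' i + i.val - (κ' i).val) σ)
       else 0) = if ν = ν' then 1 else 0 := by
  have key := alternating_Tcount (fun i : Fin n => ν i + i.val) (fun i : Fin n => ν' i + i.val)
    (strictMono_add_val ν hν) (strictMono_add_val ν' hν')
  have hiff : ((fun i : Fin n => ν i + i.val) = fun i : Fin n => ν' i + i.val) ↔ ν = ν' := by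
    constructor
    · intro h
      funext i
      have : ν i + i.val = ν' i + i.val := congrFun h i
      omega
    · intro h
      rw [h]
  have key2 := congrArg (fun z : ℤ => (z : ℂ)) key
  simp only [Int.cast_sum, Int.cast_ite, Int.cast_mul, Int.cast_zero, Int.cast_one,
    Int.cast_natCast] at key2
  rw [if_congr hiff rfl rfl] at key2
  rw [← key2]
  apply Finset.sum_congr rfl
  intro κ _
  apply Finset.sum_congr rfl
  intro κ' _
  by_cases h : (∀ i, (κ i).val ≤ ν i + i.val) ∧ (∀ i, (κ' i).val ≤ ν' i + i.val)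
  · rw [if_pos h, if_pos h]
    rw [young_inner _ _ (sum_shift ν hs κ h.1) (sum_shift ν' hs' κ' h.2)]
  · rw [if_neg h, if_neg h]

end Cfsg.Agent.Lib.Lead.SnOrth
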