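import Mathlib
import Cfsg.Prelude.Def_LinearParabolics
import Cfsg.Prelude.Def_Characters
import Cfsg.Agent.Lib.Lead.SnOrthE
import Cfsg.Agent.Lib.helper3.TwoTrans
import Cfsg.Agent.Lib.helper3.GenChar
import Cfsg.Agent.Lib.helper3.NormOne
import Cfsg.Agent.H2.UnipotentDegree

set_option autoImplicit false
set_option linter.unusedSectionVars false

/-!
# The unipotent class functions of `GL_n(q)` are orthonormal, given the comparison of flag
characters with the symmetric group for arbitrary compositions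
-/

namespace Cfsg.Agent.Lib.Lead.SnOrth

open Finset Cfsg Cfsg.Agent.Lib.helper3
open scoped ComplexConjugate MatrixGroups

variable {F : Type*} [Field F] [Fintype F] {n : ℕ} [Fintype (GL (Fin n) F)]

/-- The comparison of `GL_n(q)` with the symmetric group, for arbitrary compositions of `n`. -/
def FlagComparison (n : ℕ) (F : Type*) [Field F] [Fintype (GL (Fin n) F)] : Prop :=
  ∀ α β : Fin n → ℕ, ∑ i, α i = n → ∑ i, β i = n →
    (Nat.card (GL (Fin n) F) : ℂ)⁻¹ * ∑ g : GL (Fin n) F,
        fixedPointCharacter (parabolicGL n F α) g * fixedPointCharacter (parabolicGL n F β) g =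
      (Nat.card (Equiv.Perm (Fin n)) : ℂ)⁻¹ * ∑ σ : Equiv.Perm (Fin n),
        fixedPointCharacter (youngSubgroup α) σ * fixedPointCharacter (youngSubgroup β) σ

theorem conj_unipotent (ν : Fin n → ℕ) (g : GL (Fin n) F) :
    conj (unipotentCharacterGL n F ν g) = unipotentCharacterGL n F ν g := by
  unfold unipotentCharacterGL fixedPointCharacter
  rw [map_sum]
  apply Finset.sum_congr rfl
  intro κ _
  split_ifs
  · rw [map_mul, map_intCast, map_natCast]
  · rw [map_zero]

theorem classInner_unipotent (hgen : FlagComparison n F) (ν ν' : Fin n → ℕ)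
    (hν : Monotone ν) (hs : ∑ i, ν i = n) (hν' : Monotone ν') (hs' : ∑ i, ν' i = n) :
    classInner (unipotentCharacterGL n F ν) (unipotentCharacterGL n F ν')
      = if ν = ν' then 1 else 0 := by
  classical
  rw [← sn_orthonormal ν ν' hν hs hν' hs']
  unfold classInner
  have e1 : ∀ g : GL (Fin n) F,
      unipotentCharacterGL n F ν g * conj (unipotentCharacterGL n F ν' g)
        = ∑ κ : Equiv.Perm (Fin n), ∑ κ' : Equiv.Perm (Fin n),
          if (∀ i, (κ i).val ≤ ν i + i.val) ∧ (∀ i, (κ' i).val ≤ ν' i + i.val) then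
            ((Equiv.Perm.sign κ : ℤ) : ℂ) * ((Equiv.Perm.sign κ' : ℤ) : ℂ) *
              (fixedPointCharacter (parabolicGL n F fun i => ν i + i.val - (κ i).val) g *
               fixedPointCharacter (parabolicGL n F fun i => ν' i + i.val - (κ' i).val) g)
          else 0 := by
    intro g
    rw [conj_unipotent]
    unfold unipotentCharacterGL
    rw [Finset.sum_mul_sum]
    apply Finset.sum_congr rfl
    intro κ _
    apply Finset.sum_congr rfl
    intro κ' _
    by_cases h1 : ∀ i, (κ i).val ≤ ν i + i.val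
    · by_cases h2 : ∀ i, (κ' i).val ≤ ν' i + i.val
      · rw [if_pos h1, if_pos h2, if_pos ⟨h1, h2⟩]
        ring
      · have hc : ¬ ((∀ i, (κ i).val ≤ ν i + i.val) ∧ (∀ i, (κ' i).val ≤ ν' i + i.val)) :=
          fun h => h2 h.2
        rw [if_neg h2, if_neg hc, mul_zero]
    · have hc : ¬ ((∀ i, (κ i).val ≤ ν i + i.val) ∧ (∀ i, (κ' i).val ≤ ν' i + i.val)) :=
        fun h => h1 h.1
      rw [if_neg h1, if_neg hc, zero_mul]
  rw [Finset.sum_congr rfl (fun g _ => e1 g), Finset.sum_comm, Finset.mul_sum]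
  apply Finset.sum_congr rfl
  intro κ _
  rw [Finset.sum_comm, Finset.mul_sum]
  apply Finset.sum_congr rfl
  intro κ' _
  by_cases h : (∀ i, (κ i).val ≤ ν i + i.val) ∧ (∀ i, (κ' i).val ≤ ν' i + i.val)
  · simp only [if_pos h]
    rw [← hgen _ _ (sum_shift ν hs κ h.1) (sum_shift ν' hs' κ' h.2), ← Finset.mul_sum]
    ring
  · simp only [if_neg h]
    rw [Finset.sum_const_zero, mul_zero]

/-- the `q`-integer -/
def Qn (q r : ℕ) : ℕ := ∑ l ∈ Finset.range r, q ^ l

theorem Qn_lt (q : ℕ) (hq : 1 ≤ q) {a b : ℕ} (hab : a < b) : Qn q a < Qn q b := by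
  unfold Qn
  rw [← Finset.sum_range_add_sum_Ico _ hab.le]
  have h1 : q ^ a ≤ ∑ l ∈ Finset.Ico a b, q ^ l :=
    Finset.single_le_sum (f := fun l => q ^ l) (fun _ _ => Nat.zero_le _)
      (Finset.mem_Ico.mpr ⟨le_refl a, hab⟩)
  have h2 : 0 < q ^ a := pow_pos hq a
  omega

theorem Qn_succ_pos (q j : ℕ) : 0 < Qn q (j + 1) := by
  unfold Qn
  rw [Finset.sum_range_succ']
  simp

theorem unipotent_isGeneralizedCharacter (ν : Fin n → ℕ) :
    IsGeneralizedCharacter (GL (Fin n) F) (unipotentCharacterGL n F ν) := by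
  classical
  have : unipotentCharacterGL n F ν = ∑ κ : Equiv.Perm (Fin n),
      if ∀ i : Fin n, (κ i).val ≤ ν i + i.val then
        (((Equiv.Perm.sign κ : ℤ) : ℤ) : ℂ) • (fun g : GL (Fin n) F =>
          (Nat.card (MulAction.fixedBy
            (GL (Fin n) F ⧸ parabolicGL n F fun i => ν i + i.val - (κ i).val) g) : ℂ))
      else 0 := by
    funext g
    rw [Finset.sum_apply]
    unfold unipotentCharacterGL fixedPointCharacter
    apply Finset.sum_congr rfl
    intro κ _
    split_ifs
    · simp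
    · rfl
  rw [this]
  apply GenChar.sum
  intro κ _
  split_ifs
  · apply GenChar.smul_intCast
    apply GenChar.of_isCharacter
    exact PermChar.isCharacter_permChar _
  · exact GenChar.zero

theorem unipotent_irr (hgen : FlagComparison n F) (ν : Fin n → ℕ)
    (hν : Monotone ν) (hs : ∑ i, ν i = n) :
    IsIrrCharacter (GL (Fin n) F) (unipotentCharacterGL n F ν) := by
  classical
  have hnorm := classInner_unipotent hgen ν ν hν hs hν hs
  rw [if_pos rfl] at hnorm
  obtain ⟨a, ha | ha⟩ := Irr.exists_irr_of_norm_one (unipotent_isGeneralizedCharacter ν) hnorm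
  · rw [ha]; exact a.2
  · exfalso
    obtain ⟨m, ρ, -, hρ⟩ := a.2
    have h1 : (a : GL (Fin n) F → ℂ) 1 = (m : ℂ) := by
      rw [← hρ, Representation.char_one]
      simp
    have hq1 : 1 ≤ Fintype.card F := Fintype.card_pos
    have h2 := Cfsg.Agent.H2.UnipotentDegree.main (F := F) (q := Fintype.card F) rfl ν hs
    rw [ha, Pi.neg_apply, h1] at h2
    -- the right-hand side is a positive natural number
    set q := Fintype.card F with hq
    have hR : (∏ j ∈ Finset.range n, ((∑ l ∈ Finset.range (j + 1), q ^ l : ℕ) : ℂ)) *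
        ∏ i : Fin n, ∏ j ∈ Finset.univ.filter (fun j : Fin n => i < j),
          (((∑ l ∈ Finset.range (ν j + j.val), q ^ l : ℕ) : ℂ) -
            ((∑ l ∈ Finset.range (ν i + i.val), q ^ l : ℕ) : ℂ))
        = (((∏ j ∈ Finset.range n, Qn q (j + 1)) *
            ∏ i : Fin n, ∏ j ∈ Finset.univ.filter (fun j : Fin n => i < j),
              (Qn q (ν j + j.val) - Qn q (ν i + i.val)) : ℕ) : ℂ) := by
      rw [Nat.cast_mul, Nat.cast_prod, Nat.cast_prod]
      congr 1
      apply Finset.prod_congr rfl
      intro i _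
      rw [Nat.cast_prod]
      apply Finset.prod_congr rfl
      intro j hj
      rw [Finset.mem_filter] at hj
      have hlt : Qn q (ν i + i.val) < Qn q (ν j + j.val) :=
        Qn_lt q hq1 (strictMono_add_val ν hν hj.2)
      rw [Nat.cast_sub hlt.le]
      rfl
    have hL : -(m : ℂ) * (q : ℂ) ^ (n * (n - 1) * (n - 2) / 6) *
        ∏ i : Fin n, ∏ j ∈ Finset.range (ν i + i.val),
          ((∑ l ∈ Finset.range (j + 1), q ^ l : ℕ) : ℂ)
        = -((m * q ^ (n * (n - 1) * (n - 2) / 6) *
            ∏ i : Fin n, ∏ j ∈ Finset.range (ν i + i.val), Qn q (j + 1) : ℕ) : ℂ) := by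
      push_cast
      unfold Qn
      push_cast
      ring
    rw [hR, hL] at h2
    have hRpos : 0 < (∏ j ∈ Finset.range n, Qn q (j + 1)) *
        ∏ i : Fin n, ∏ j ∈ Finset.univ.filter (fun j : Fin n => i < j),
          (Qn q (ν j + j.val) - Qn q (ν i + i.val)) := by
      apply Nat.mul_pos
      · exact Finset.prod_pos fun j _ => Qn_succ_pos q j
      · apply Finset.prod_pos
        intro i _
        apply Finset.prod_pos
        intro j hj
        rw [Finset.mem_filter] at hj
        have hlt : Qn q (ν i + i.val) < Qn q (ν j + j.val) :=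
          Qn_lt q hq1 (strictMono_add_val ν hν hj.2)
        omega
    have h3 : ((m * q ^ (n * (n - 1) * (n - 2) / 6) *
            (∏ i : Fin n, ∏ j ∈ Finset.range (ν i + i.val), Qn q (j + 1)) +
          (∏ j ∈ Finset.range n, Qn q (j + 1)) *
            ∏ i : Fin n, ∏ j ∈ Finset.univ.filter (fun j : Fin n => i < j),
              (Qn q (ν j + j.val) - Qn q (ν i + i.val)) : ℕ) : ℂ) = 0 := by
      rw [Nat.cast_add, ← h2]
      ring
    have h4 := Nat.cast_eq_zero.1 h3
    omega

theorem unipotent_injective (hgen : FlagComparison n F) (ν ν' : Fin n → ℕ)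
    (hν : Monotone ν) (hs : ∑ i, ν i = n) (hν' : Monotone ν') (hs' : ∑ i, ν' i = n)
    (h : unipotentCharacterGL n F ν = unipotentCharacterGL n F ν') : ν = ν' := by
  have h1 := classInner_unipotent hgen ν ν hν hs hν hs
  have h2 := classInner_unipotent hgen ν ν' hν hs hν' hs'
  rw [if_pos rfl] at h1
  rw [← h, h1] at h2
  by_contra hne
  rw [if_neg hne] at h2
  exact one_ne_zero h2

end Cfsg.Agent.Lib.Lead.SnOrth
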