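import Cfsg.Agent.Lib.Lead.FoldG2
import Cfsg.Prelude.Def_ChevB2
import Mathlib

/-!
# `Sp₄(F)` acting on `sp₄(F)`: the data and the integer checks (lead)
-/

set_option autoImplicit false

namespace Cfsg.Agent.Sp4B2

open Cfsg.Lie Cfsg.Agent.Fold
open scoped Matrix

/-- the index set of the natural module -/
abbrev N4 : Type := Fin 2 ⊕ Fin 2

def enc4 : N4 → ℕ
  | Sum.inl i => i.val
  | Sum.inr i => 2 + i.val

def XL : List (List (List ℤ)) :=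
  [[[1, 0, 0, 0], [0, -1, 0, 0], [0, 0, -1, 0], [0, 0, 0, 1]],
   [[0, 0, 0, 0], [0, 1, 0, 0], [0, 0, 0, 0], [0, 0, 0, -1]],
   [[0, 0, 0, 0], [0, 0, 0, 0], [-1, 0, 0, 0], [0, 0, 0, 0]],
   [[0, 0, 0, 0], [0, 0, 0, 0], [0, -1, 0, 0], [-1, 0, 0, 0]],
   [[0, 0, 0, 0], [1, 0, 0, 0], [0, 0, 0, -1], [0, 0, 0, 0]],
   [[0, 0, 0, 0], [0, 0, 0, 0], [0, 0, 0, 0], [0, 1, 0, 0]],
   [[0, 0, 0, 0], [0, 0, 0, 1], [0, 0, 0, 0], [0, 0, 0, 0]],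
   [[0, 1, 0, 0], [0, 0, 0, 0], [0, 0, 0, 0], [0, 0, -1, 0]],
   [[0, 0, 0, -1], [0, 0, -1, 0], [0, 0, 0, 0], [0, 0, 0, 0]],
   [[0, 0, -1, 0], [0, 0, 0, 0], [0, 0, 0, 0], [0, 0, 0, 0]]]

def CL : List (List (List ℤ)) :=
  [[[1, 0, 0, 0], [0, 0, 0, 0], [0, 0, 0, 0], [0, 0, 0, 0]],
   [[1, 0, 0, 0], [0, 1, 0, 0], [0, 0, 0, 0], [0, 0, 0, 0]],
   [[0, 0, 0, 0], [0, 0, 0, 0], [-1, 0, 0, 0], [0, 0, 0, 0]],
   [[0, 0, 0, 0], [0, 0, 0, 0], [0, -1, 0, 0], [0, 0, 0, 0]],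
   [[0, 0, 0, 0], [1, 0, 0, 0], [0, 0, 0, 0], [0, 0, 0, 0]],
   [[0, 0, 0, 0], [0, 0, 0, 0], [0, 0, 0, 0], [0, 1, 0, 0]],
   [[0, 0, 0, 0], [0, 0, 0, 1], [0, 0, 0, 0], [0, 0, 0, 0]],
   [[0, 1, 0, 0], [0, 0, 0, 0], [0, 0, 0, 0], [0, 0, 0, 0]],
   [[0, 0, 0, -1], [0, 0, 0, 0], [0, 0, 0, 0], [0, 0, 0, 0]],
   [[0, 0, -1, 0], [0, 0, 0, 0], [0, 0, 0, 0], [0, 0, 0, 0]]]

/-- the Chevalley basis of `sp₄(ℤ)` matching the tables of `chevB2` -/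
def Xz (j : chevB2.Idx) : Matrix N4 N4 ℤ :=
  Matrix.of fun k l => ((XL.getD (enc chevB2 j) []).getD (enc4 k) []).getD (enc4 l) 0

/-- the coefficients of the coordinate functionals -/
def Cz (i : chevB2.Idx) : Matrix N4 N4 ℤ :=
  Matrix.of fun k l => ((CL.getD (enc chevB2 i) []).getD (enc4 k) []).getD (enc4 l) 0

/-- the `i`-th coordinate of an integer matrix -/
def cz (i : chevB2.Idx) (M : Matrix N4 N4 ℤ) : ℤ := ∑ k, ∑ l, Cz i k l * M k l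

theorem hsp : ∀ j : chevB2.Idx,
    Xz j * Matrix.J (Fin 2) ℤ + Matrix.J (Fin 2) ℤ * (Xz j)ᵀ = 0 := by decide +kernel

theorem hdual : ∀ i j : chevB2.Idx, cz i (Xz j) = if i = j then 1 else 0 := by decide +kernel

theorem hsq : ∀ r : Fin chevB2.nroots, Xz (Sum.inr r) * Xz (Sum.inr r) = 0 := by decide +kernel

set_option maxRecDepth 100000 in
theorem hroot : ∀ (r : Fin chevB2.nroots) (i j : chevB2.Idx),
    eqD (sumAt i (xCol chevB2 r j))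
      [cz i (Xz j), cz i (Xz (Sum.inr r) * Xz j - Xz j * Xz (Sum.inr r)),
        -cz i (Xz (Sum.inr r) * Xz j * Xz (Sum.inr r))] = true := by decide +kernel

theorem hh0 : Xz (Sum.inl ⟨0, by decide⟩) =
    Xz (Sum.inr ⟨5, by decide⟩) * Xz (Sum.inr ⟨2, by decide⟩)
      - Xz (Sum.inr ⟨2, by decide⟩) * Xz (Sum.inr ⟨5, by decide⟩) := by decide +kernel

theorem hh1 : Xz (Sum.inl ⟨1, by decide⟩) =
    Xz (Sum.inr ⟨4, by decide⟩) * Xz (Sum.inr ⟨3, by decide⟩)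
      - Xz (Sum.inr ⟨3, by decide⟩) * Xz (Sum.inr ⟨4, by decide⟩) := by decide +kernel

end Cfsg.Agent.Sp4B2
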