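import Cfsg.Agent.Lib.Lead.Sp4A

/-!
# `Sp₄(F)` acting on `sp₄(F)`: the coordinates (lead)
-/

set_option autoImplicit false

namespace Cfsg.Agent.Sp4B2

open Cfsg.Lie Cfsg.Agent.Fold
open scoped Matrix

variable {F : Type*} [Field F]

/-- the basis matrices over `F` -/
def XF (j : chevB2.Idx) : Matrix N4 N4 F := (Int.castRingHom F).mapMatrix (Xz j)

theorem mapMatrix_apply' (M : Matrix N4 N4 ℤ) (k l : N4) :
    (Int.castRingHom F).mapMatrix M k l = (M k l : F) := rfl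

/-- the coordinates over `F` -/
def cF (i : chevB2.Idx) (M : Matrix N4 N4 F) : F := ∑ k, ∑ l, (Cz i k l : F) * M k l

theorem cF_map (i : chevB2.Idx) (M : Matrix N4 N4 ℤ) :
    cF i ((Int.castRingHom F).mapMatrix M) = (cz i M : F) := by
  unfold cF cz
  simp only [mapMatrix_apply']
  push_cast
  rfl

theorem cF_add (i : chevB2.Idx) (M N : Matrix N4 N4 F) : cF i (M + N) = cF i M + cF i N := by
  unfold cF
  simp only [Matrix.add_apply, mul_add, Finset.sum_add_distrib]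

theorem cF_smul (i : chevB2.Idx) (c : F) (M : Matrix N4 N4 F) : cF i (c • M) = c * cF i M := by
  unfold cF
  simp only [Matrix.smul_apply, smul_eq_mul, Finset.mul_sum]
  apply Finset.sum_congr rfl
  intro k _
  apply Finset.sum_congr rfl
  intro l _
  ring

theorem cF_neg (i : chevB2.Idx) (M : Matrix N4 N4 F) : cF i (-M) = -cF i M := by
  have := cF_smul i (-1 : F) M
  simpa using this

theorem cF_sub (i : chevB2.Idx) (M N : Matrix N4 N4 F) : cF i (M - N) = cF i M - cF i N := by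
  rw [sub_eq_add_neg, cF_add, cF_neg, sub_eq_add_neg]

theorem cF_sum {ι : Type*} (s : Finset ι) (i : chevB2.Idx) (f : ι → Matrix N4 N4 F) :
    cF i (∑ j ∈ s, f j) = ∑ j ∈ s, cF i (f j) := by
  classical
  induction s using Finset.induction_on with
  | empty => simp [cF]
  | insert a s ha ih => rw [Finset.sum_insert ha, Finset.sum_insert ha, cF_add, ih]

theorem cF_XF (i j : chevB2.Idx) : cF i (XF j : Matrix N4 N4 F) = if i = j then 1 else 0 := by
  unfold XF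
  rw [cF_map, hdual]
  split_ifs <;> simp

/-- the explicit coordinates -/
theorem cF_explicit (Y : Matrix N4 N4 F) :
    cF (Sum.inl ⟨0, by decide⟩) Y = Y (Sum.inl 0) (Sum.inl 0) ∧
    cF (Sum.inl ⟨1, by decide⟩) Y = Y (Sum.inl 0) (Sum.inl 0) + Y (Sum.inl 1) (Sum.inl 1) ∧
    cF (Sum.inr ⟨0, by decide⟩) Y = -Y (Sum.inr 0) (Sum.inl 0) ∧
    cF (Sum.inr ⟨1, by decide⟩) Y = -Y (Sum.inr 0) (Sum.inl 1) ∧
    cF (Sum.inr ⟨2, by decide⟩) Y = Y (Sum.inl 1) (Sum.inl 0) ∧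
    cF (Sum.inr ⟨3, by decide⟩) Y = Y (Sum.inr 1) (Sum.inl 1) ∧
    cF (Sum.inr ⟨4, by decide⟩) Y = Y (Sum.inl 1) (Sum.inr 1) ∧
    cF (Sum.inr ⟨5, by decide⟩) Y = Y (Sum.inl 0) (Sum.inl 1) ∧
    cF (Sum.inr ⟨6, by decide⟩) Y = -Y (Sum.inl 0) (Sum.inr 1) ∧
    cF (Sum.inr ⟨7, by decide⟩) Y = -Y (Sum.inl 0) (Sum.inr 0) := by
  refine ⟨?_, ?_, ?_, ?_, ?_, ?_, ?_, ?_, ?_, ?_⟩ <;>
  · simp [cF, Cz, CL, enc, enc4, chevB2, Fintype.sum_sum_type, Fin.sum_univ_two]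


/-- the symplectic Lie algebra -/
def sp4 (F : Type*) [Field F] : Submodule F (Matrix N4 N4 F) where
  carrier := {Y | Y * Matrix.J (Fin 2) F + Matrix.J (Fin 2) F * Yᵀ = 0}
  add_mem' := by
    intro a b ha hb
    simp only [Set.mem_ofPred_eq] at *
    rw [Matrix.add_mul, Matrix.transpose_add, Matrix.mul_add]
    calc _ = (a * Matrix.J (Fin 2) F + Matrix.J (Fin 2) F * aᵀ)
          + (b * Matrix.J (Fin 2) F + Matrix.J (Fin 2) F * bᵀ) := by abel
      _ = 0 := by rw [ha, hb, add_zero]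
  zero_mem' := by simp
  smul_mem' := by
    intro c a ha
    simp only [Set.mem_ofPred_eq] at *
    rw [Matrix.smul_mul, Matrix.transpose_smul, Matrix.mul_smul, ← smul_add, ha, smul_zero]

theorem mem_sp4 (Y : Matrix N4 N4 F) :
    Y ∈ sp4 F ↔ Y * Matrix.J (Fin 2) F + Matrix.J (Fin 2) F * Yᵀ = 0 := Iff.rfl

theorem XF_mem (j : chevB2.Idx) : (XF j : Matrix N4 N4 F) ∈ sp4 F := by
  rw [mem_sp4]
  have h := congrArg (Int.castRingHom F).mapMatrix (hsp j)
  rw [map_add, map_mul, map_mul, map_zero] at h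
  have hJ : (Int.castRingHom F).mapMatrix (Matrix.J (Fin 2) ℤ) = Matrix.J (Fin 2) F :=
    Matrix.map_J (Fin 2) (Int.castRingHom F)
  have hT : (Int.castRingHom F).mapMatrix (Xz j)ᵀ = ((Int.castRingHom F).mapMatrix (Xz j))ᵀ := by
    ext k l
    rfl
  rw [hJ, hT] at h
  exact h

/-- the entries of an element of `sp₄` -/
theorem sp4_entries {Y : Matrix N4 N4 F} (hY : Y ∈ sp4 F) :
    Y (Sum.inl 1) (Sum.inr 0) = Y (Sum.inl 0) (Sum.inr 1) ∧
    Y (Sum.inr 1) (Sum.inl 0) = Y (Sum.inr 0) (Sum.inl 1) ∧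
    Y (Sum.inr 0) (Sum.inr 0) = -Y (Sum.inl 0) (Sum.inl 0) ∧
    Y (Sum.inr 0) (Sum.inr 1) = -Y (Sum.inl 1) (Sum.inl 0) ∧
    Y (Sum.inr 1) (Sum.inr 0) = -Y (Sum.inl 0) (Sum.inl 1) ∧
    Y (Sum.inr 1) (Sum.inr 1) = -Y (Sum.inl 1) (Sum.inl 1) := by
  rw [mem_sp4] at hY
  have e := fun k l => congrFun (congrFun hY k) l
  have e1 := e (Sum.inl 1) (Sum.inl 0)
  have e2 := e (Sum.inr 1) (Sum.inr 0)
  have e3 := e (Sum.inr 0) (Sum.inl 0)
  have e4 := e (Sum.inr 0) (Sum.inl 1)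
  have e5 := e (Sum.inr 1) (Sum.inl 0)
  have e6 := e (Sum.inr 1) (Sum.inl 1)
  simp [Matrix.mul_apply, Matrix.J, Fintype.sum_sum_type, Matrix.one_apply]
    at e1 e2 e3 e4 e5 e6
  refine ⟨?_, ?_, ?_, ?_, ?_, ?_⟩
  · linear_combination e1
  · linear_combination (-1 : F) * e2
  · linear_combination e3
  · linear_combination e4
  · linear_combination e5
  · linear_combination e6


/-- an element of `sp₄` all of whose coordinates vanish is zero -/
theorem eq_zero_of_coords {Y : Matrix N4 N4 F} (hY : Y ∈ sp4 F) (hc : ∀ i, cF i Y = 0) : Y = 0 := by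
  obtain ⟨c0, c1, c2, c3, c4, c5, c6, c7, c8, c9⟩ := cF_explicit Y
  obtain ⟨r1, r2, r3, r4, r5, r6⟩ := sp4_entries hY
  rw [hc] at c0 c1 c2 c3 c4 c5 c6 c7 c8 c9
  have a00 : Y (Sum.inl 0) (Sum.inl 0) = 0 := c0.symm
  have a11 : Y (Sum.inl 1) (Sum.inl 1) = 0 := by linear_combination c0 - c1
  have a10 : Y (Sum.inl 1) (Sum.inl 0) = 0 := c4.symm
  have a01 : Y (Sum.inl 0) (Sum.inl 1) = 0 := c7.symm
  have b00 : Y (Sum.inl 0) (Sum.inr 0) = 0 := by linear_combination c9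
  have b01 : Y (Sum.inl 0) (Sum.inr 1) = 0 := by linear_combination c8
  have b11 : Y (Sum.inl 1) (Sum.inr 1) = 0 := c6.symm
  have d00 : Y (Sum.inr 0) (Sum.inl 0) = 0 := by linear_combination c2
  have d01 : Y (Sum.inr 0) (Sum.inl 1) = 0 := by linear_combination c3
  have d11 : Y (Sum.inr 1) (Sum.inl 1) = 0 := c5.symm
  have b10 : Y (Sum.inl 1) (Sum.inr 0) = 0 := by rw [r1, b01]
  have d10 : Y (Sum.inr 1) (Sum.inl 0) = 0 := by rw [r2, d01]
  have e00 : Y (Sum.inr 0) (Sum.inr 0) = 0 := by rw [r3, a00, neg_zero]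
  have e01 : Y (Sum.inr 0) (Sum.inr 1) = 0 := by rw [r4, a10, neg_zero]
  have e10 : Y (Sum.inr 1) (Sum.inr 0) = 0 := by rw [r5, a01, neg_zero]
  have e11 : Y (Sum.inr 1) (Sum.inr 1) = 0 := by rw [r6, a11, neg_zero]
  ext k l
  rw [Matrix.zero_apply]
  rcases k with k | k <;> rcases l with l | l <;> fin_cases k <;> fin_cases l
  all_goals first
    | exact a00 | exact a01 | exact a10 | exact a11 | exact b00 | exact b01 | exact b10
    | exact b11 | exact d00 | exact d01 | exact d10 | exact d11 | exact e00 | exact e01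
    | exact e10 | exact e11

/-- the decomposition of an element of `sp₄` on the basis -/
theorem sum_coords {Y : Matrix N4 N4 F} (hY : Y ∈ sp4 F) : ∑ j, cF j Y • (XF j : Matrix N4 N4 F) = Y := by
  have h1 : (Y - ∑ j, cF j Y • (XF j : Matrix N4 N4 F)) ∈ sp4 F :=
    (sp4 F).sub_mem hY ((sp4 F).sum_mem fun j _ => (sp4 F).smul_mem _ (XF_mem j))
  have h2 : ∀ i, cF i (Y - ∑ j, cF j Y • (XF j : Matrix N4 N4 F)) = 0 := by
    intro i
    rw [cF_sub, cF_sum]
    simp only [cF_smul, cF_XF]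
    simp
  have := eq_zero_of_coords h1 h2
  exact (sub_eq_zero.1 this).symm

end Cfsg.Agent.Sp4B2
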