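import Cfsg.Agent.Lib.Lead.Sp4B

/-!
# `Sp₄(F)` acting on `sp₄(F)`: the representation and the root elements (lead)
-/

set_option autoImplicit false

namespace Cfsg.Agent.Sp4B2

open Cfsg.Lie Cfsg.Agent.Fold
open scoped Matrix

variable {F : Type*} [Field F]

local notation "Sp4" => Matrix.symplecticGroup (Fin 2) F
local notation "J4" => Matrix.J (Fin 2) F

theorem val_mul_inv (A : Sp4) : A.val * (A⁻¹).val = 1 := by
  have : (A * A⁻¹).val = 1 := by rw [mul_inv_cancel]; rfl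
  exact this

theorem val_inv_mul (A : Sp4) : (A⁻¹).val * A.val = 1 := by
  have : (A⁻¹ * A).val = 1 := by rw [inv_mul_cancel]; rfl
  exact this

/-- conjugation by a symplectic matrix preserves `sp₄` -/
theorem conj_mem (A : Sp4) {Y : Matrix N4 N4 F} (hY : Y ∈ sp4 F) :
    A.val * Y * (A⁻¹).val ∈ sp4 F := by
  rw [mem_sp4] at hY ⊢
  have hA : A.val * J4 * A.valᵀ = J4 := A.2
  have hB : (A⁻¹).val * J4 * (A⁻¹).valᵀ = J4 := (A⁻¹).2
  have hAB := val_mul_inv A
  have hBA := val_inv_mul A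
  have hBAt : (A⁻¹).valᵀ * A.valᵀ = 1 := by rw [← Matrix.transpose_mul, hAB, Matrix.transpose_one]
  -- `B J = J Aᵀ`
  have e1 : (A⁻¹).val * J4 = J4 * A.valᵀ := by
    calc (A⁻¹).val * J4 = (A⁻¹).val * J4 * ((A⁻¹).valᵀ * A.valᵀ) := by rw [hBAt, Matrix.mul_one]
      _ = ((A⁻¹).val * J4 * (A⁻¹).valᵀ) * A.valᵀ := by simp only [Matrix.mul_assoc]
      _ = J4 * A.valᵀ := by rw [hB]
  -- `J Bᵀ = A J`
  have e2 : J4 * (A⁻¹).valᵀ = A.val * J4 := by
    calc J4 * (A⁻¹).valᵀ = (A.val * (A⁻¹).val) * (J4 * (A⁻¹).valᵀ) := by rw [hAB, Matrix.one_mul]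
      _ = A.val * ((A⁻¹).val * J4 * (A⁻¹).valᵀ) := by simp only [Matrix.mul_assoc]
      _ = A.val * J4 := by rw [hB]
  calc A.val * Y * (A⁻¹).val * J4 + J4 * (A.val * Y * (A⁻¹).val)ᵀ
      = A.val * Y * ((A⁻¹).val * J4) + (J4 * (A⁻¹).valᵀ) * Yᵀ * A.valᵀ := by
        simp only [Matrix.transpose_mul, Matrix.mul_assoc]
    _ = A.val * (Y * J4 + J4 * Yᵀ) * A.valᵀ := by
        rw [e1, e2]
        simp only [Matrix.mul_add, Matrix.add_mul, Matrix.mul_assoc]
    _ = 0 := by rw [hY, Matrix.mul_zero, Matrix.zero_mul]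

/-- the matrix of the conjugation on the basis -/
def rhoM (A : Sp4) : Matrix chevB2.Idx chevB2.Idx F :=
  Matrix.of fun i j => cF i (A.val * XF j * (A⁻¹).val)

theorem conj_XF (A : Sp4) (j : chevB2.Idx) :
    A.val * XF j * (A⁻¹).val = ∑ k, rhoM A k j • (XF k : Matrix N4 N4 F) :=
  (sum_coords (conj_mem A (XF_mem j))).symm

theorem rhoM_one : rhoM (1 : Sp4) = 1 := by
  ext i j
  simp only [rhoM, Matrix.of_apply, inv_one]
  rw [show ((1 : Sp4).val) = 1 from rfl, Matrix.one_mul, Matrix.mul_one, cF_XF, Matrix.one_apply]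

theorem rhoM_mul (A B : Sp4) : rhoM (A * B) = rhoM A * rhoM B := by
  ext i j
  have h1 : (A * B).val * XF j * ((A * B)⁻¹).val
      = A.val * (B.val * XF j * (B⁻¹).val) * (A⁻¹).val := by
    rw [mul_inv_rev]
    show A.val * B.val * XF j * ((B⁻¹).val * (A⁻¹).val) = _
    simp only [Matrix.mul_assoc]
  have h2 : A.val * (B.val * XF j * (B⁻¹).val) * (A⁻¹).val
      = ∑ k, rhoM B k j • (A.val * XF k * (A⁻¹).val) := by
    rw [conj_XF B j, Matrix.mul_sum, Matrix.sum_mul]
    apply Finset.sum_congr rfl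
    intro k _
    rw [Matrix.mul_smul, Matrix.smul_mul]
  simp only [rhoM, Matrix.of_apply, Matrix.mul_apply] at *
  rw [h1, h2, cF_sum]
  apply Finset.sum_congr rfl
  intro k _
  rw [cF_smul, mul_comm]

/-- the representation as a homomorphism to the general linear group -/
def rho : Sp4 →* GL chevB2.Idx F :=
  MonoidHom.toHomUnits
    { toFun := rhoM
      map_one' := rhoM_one
      map_mul' := rhoM_mul }

theorem rho_val (A : Sp4) : (rho A).val = rhoM A := rfl


/-! ### the root elements -/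

theorem XF_sq (r : Fin chevB2.nroots) :
    (XF (Sum.inr r) : Matrix N4 N4 F) * XF (Sum.inr r) = 0 := by
  unfold XF
  rw [← map_mul, hsq, map_zero]

theorem rootMat_mem (r : Fin chevB2.nroots) (t : F) :
    (1 + t • (XF (Sum.inr r) : Matrix N4 N4 F)) ∈ Sp4 := by
  rw [SymplecticGroup.mem_iff]
  have h := (mem_sp4 _).1 (XF_mem (F := F) (Sum.inr r))
  set X : Matrix N4 N4 F := XF (Sum.inr r) with hX
  have h1 : J4 * Xᵀ = -(X * J4) := by
    rw [eq_neg_iff_add_eq_zero, add_comm]; exact h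
  have h2 : X * X = 0 := XF_sq r
  rw [Matrix.transpose_add, Matrix.transpose_one, Matrix.transpose_smul]
  calc (1 + t • X) * J4 * (1 + t • Xᵀ)
      = J4 + t • (X * J4 + J4 * Xᵀ) + (t * t) • (X * (J4 * Xᵀ)) := by
        simp only [Matrix.add_mul, Matrix.mul_add, Matrix.one_mul, Matrix.mul_one, Matrix.smul_mul,
          Matrix.mul_smul, smul_add, smul_smul, Matrix.mul_assoc]
        abel
    _ = J4 := by
        rw [h, h1, Matrix.mul_neg, ← Matrix.mul_assoc, h2]
        simp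

/-- the root element of `Sp₄` -/
def rootSp (r : Fin chevB2.nroots) (t : F) : Sp4 := ⟨1 + t • XF (Sum.inr r), rootMat_mem r t⟩

theorem rootSp_val (r : Fin chevB2.nroots) (t : F) :
    (rootSp r t).val = 1 + t • (XF (Sum.inr r) : Matrix N4 N4 F) := rfl

theorem rootSp_mul_neg (r : Fin chevB2.nroots) (t : F) : rootSp r t * rootSp r (-t) = 1 := by
  apply Subtype.ext
  show (1 + t • (XF (Sum.inr r) : Matrix N4 N4 F)) * (1 + (-t) • XF (Sum.inr r)) = 1
  rw [Matrix.add_mul, Matrix.mul_add, Matrix.mul_add, Matrix.one_mul, Matrix.one_mul,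
    Matrix.mul_one, Matrix.smul_mul, Matrix.mul_smul, XF_sq, smul_zero, smul_zero, add_zero,
    neg_smul]
  abel

theorem rootSp_inv (r : Fin chevB2.nroots) (t : F) : (rootSp r t)⁻¹ = rootSp r (-t) :=
  inv_eq_of_mul_eq_one_right (rootSp_mul_neg r t)

/-- the image of a root element is the root element of the Chevalley group -/
theorem rhoM_rootSp (r : Fin chevB2.nroots) (t : F) : rhoM (rootSp r t) = chevB2.xMat F r t := by
  ext i j
  rw [colsOK_xMat chevB2 t r i j]
  unfold evalV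
  rw [evalD_eq_of_eqD t _ _ (hroot r i j)]
  simp only [rhoM, Matrix.of_apply, rootSp_inv, rootSp_val]
  set X : Matrix N4 N4 F := XF (Sum.inr r) with hX
  set Y : Matrix N4 N4 F := XF j with hY
  have e : (1 + t • X) * Y * (1 + (-t) • X)
      = Y + t • (X * Y - Y * X) + (t * t) • (-(X * Y * X)) := by
    simp only [Matrix.add_mul, Matrix.mul_add, Matrix.one_mul, Matrix.mul_one, Matrix.smul_mul,
      Matrix.mul_smul, smul_add, smul_smul, smul_sub, smul_neg, neg_smul, Matrix.mul_assoc,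
      Matrix.mul_neg]
    abel_nf
  rw [e, cF_add, cF_add, cF_smul, cF_smul, cF_neg]
  have m1 : X * Y - Y * X = (Int.castRingHom F).mapMatrix (Xz (Sum.inr r) * Xz j - Xz j * Xz (Sum.inr r)) := by
    rw [map_sub, map_mul, map_mul]; rfl
  have m2 : X * Y * X = (Int.castRingHom F).mapMatrix (Xz (Sum.inr r) * Xz j * Xz (Sum.inr r)) := by
    rw [map_mul, map_mul]; rfl
  rw [m1, m2, hY]
  unfold XF
  rw [cF_map, cF_map, cF_map]
  simp only [evalD_cons, evalD_nil]
  push_cast
  ring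

end Cfsg.Agent.Sp4B2
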