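import Cfsg.Agent.Lib.Lead.Sp4C
import Cfsg.Agent.S0245
import Cfsg.Agent.S0246
import Cfsg.Agent.S1060

/-!
# `PSp₄(F) ≅ B₂(F)` for a finite field `F` (lead)
-/

set_option autoImplicit false

namespace Cfsg.Agent.Sp4B2

open Cfsg.Lie Cfsg.Agent.Fold
open scoped Matrix

variable {F : Type*} [Field F]

local notation "Sp4" => Matrix.symplecticGroup (Fin 2) F

def xe (j : chevB2.Idx) (k l : N4) : ℤ := Xz j k l
theorem XF_apply (j : chevB2.Idx) (k l : N4) : (XF j : Matrix N4 N4 F) k l = (xe j k l : F) := rfl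
theorem x7 : ∀ k l : N4, xe (Sum.inr ⟨7, by decide⟩) k l = if k = Sum.inl 0 ∧ l = Sum.inr 0 then (-1 : ℤ) else 0 := by decide
theorem x0 : ∀ k l : N4, xe (Sum.inr ⟨0, by decide⟩) k l = if k = Sum.inr 0 ∧ l = Sum.inl 0 then (-1 : ℤ) else 0 := by decide
theorem x4 : ∀ k l : N4, xe (Sum.inr ⟨4, by decide⟩) k l = if k = Sum.inl 1 ∧ l = Sum.inr 1 then (1 : ℤ) else 0 := by decide
theorem x3 : ∀ k l : N4, xe (Sum.inr ⟨3, by decide⟩) k l = if k = Sum.inr 1 ∧ l = Sum.inl 1 then (1 : ℤ) else 0 := by decide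
theorem x5 : ∀ k l : N4, xe (Sum.inr ⟨5, by decide⟩) k l = if k = Sum.inl 0 ∧ l = Sum.inl 1 then (1 : ℤ) else if k = Sum.inr 1 ∧ l = Sum.inr 0 then -1 else 0 := by decide

/-- a matrix commuting with the basis of `sp₄` is a scalar -/
theorem scalar_of_comm (A : Matrix N4 N4 F)
    (h : ∀ j : chevB2.Idx, A * (XF j : Matrix N4 N4 F) = XF j * A) :
    A = A (Sum.inl 0) (Sum.inl 0) • (1 : Matrix N4 N4 F) := by
  have e7 := fun k l => congrFun (congrFun (h (Sum.inr ⟨7, by decide⟩)) k) l
  have e0 := fun k l => congrFun (congrFun (h (Sum.inr ⟨0, by decide⟩)) k) l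
  have e4 := fun k l => congrFun (congrFun (h (Sum.inr ⟨4, by decide⟩)) k) l
  have e3 := fun k l => congrFun (congrFun (h (Sum.inr ⟨3, by decide⟩)) k) l
  have e5 := fun k l => congrFun (congrFun (h (Sum.inr ⟨5, by decide⟩)) k) l
  simp only [Matrix.mul_apply, Fintype.sum_sum_type, Fin.sum_univ_two, XF_apply, x7, x0, x4, x3, x5]
    at e7 e0 e4 e3 e5
  have a10 := e7 (Sum.inl 1) (Sum.inr 0)
  have a20 := e7 (Sum.inr 0) (Sum.inr 0)
  have a30 := e7 (Sum.inr 1) (Sum.inr 0)
  have d02 := e7 (Sum.inl 0) (Sum.inr 0)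
  have a02 := e0 (Sum.inl 0) (Sum.inl 0)
  have a12 := e0 (Sum.inl 1) (Sum.inl 0)
  have a32 := e0 (Sum.inr 1) (Sum.inl 0)
  have a01 := e4 (Sum.inl 0) (Sum.inr 1)
  have a21 := e4 (Sum.inr 0) (Sum.inr 1)
  have a31 := e4 (Sum.inr 1) (Sum.inr 1)
  have d13 := e4 (Sum.inl 1) (Sum.inr 1)
  have a03 := e3 (Sum.inl 0) (Sum.inl 1)
  have a13 := e3 (Sum.inl 1) (Sum.inl 1)
  have a23 := e3 (Sum.inr 0) (Sum.inl 1)
  have d01 := e5 (Sum.inl 0) (Sum.inl 1)
  simp at a10 a20 a30 d02 a02 a12 a32 a01 a21 a31 d13 a03 a13 a23 d01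
  ext k l
  rw [Matrix.smul_apply, Matrix.one_apply, smul_eq_mul]
  rcases k with k | k <;> rcases l with l | l <;> fin_cases k <;> fin_cases l <;> simp
  all_goals first
    | exact a10 | exact a20 | exact a30 | exact a02 | exact a12 | exact a32 | exact a01
    | exact a21 | exact a31 | exact a03 | exact a13 | exact a23 | exact d01.symm | exact d02.symm
    | (rw [← d13]; exact d01.symm)


/-! ### the kernel -/

theorem rhoM_eq_one_iff (A : Sp4) :
    rhoM A = 1 ↔ ∀ j : chevB2.Idx, A.val * (XF j : Matrix N4 N4 F) = XF j * A.val := by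
  constructor
  · intro h j
    have h1 := conj_XF A j
    rw [h] at h1
    have h2 : ∑ k, (1 : Matrix chevB2.Idx chevB2.Idx F) k j • (XF k : Matrix N4 N4 F) = XF j := by
      simp [Matrix.one_apply]
    rw [h2] at h1
    calc A.val * XF j = A.val * XF j * ((A⁻¹).val * A.val) := by
          rw [val_inv_mul, Matrix.mul_one]
      _ = (A.val * XF j * (A⁻¹).val) * A.val := by simp only [Matrix.mul_assoc]
      _ = XF j * A.val := by rw [h1]
  · intro h
    ext i j
    simp only [rhoM, Matrix.of_apply]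
    rw [h j, Matrix.mul_assoc, val_mul_inv, Matrix.mul_one, cF_XF, Matrix.one_apply]

theorem ker_rho : (rho (F := F)).ker = Subgroup.center Sp4 := by
  ext A
  rw [MonoidHom.mem_ker, Subgroup.mem_center_iff]
  constructor
  · intro h
    have h1 : rhoM A = 1 := by
      have := congrArg Units.val h
      rwa [rho_val] at this
    have hs := scalar_of_comm A.val ((rhoM_eq_one_iff A).1 h1)
    intro B
    apply Subtype.ext
    show B.val * A.val = A.val * B.val
    rw [hs, Matrix.mul_smul, Matrix.smul_mul, Matrix.mul_one, Matrix.one_mul]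
  · intro h
    apply Units.ext
    rw [rho_val]
    show rhoM A = 1
    rw [rhoM_eq_one_iff]
    -- `A` commutes with the root vectors
    have hr : ∀ r : Fin chevB2.nroots,
        A.val * (XF (Sum.inr r) : Matrix N4 N4 F) = XF (Sum.inr r) * A.val := by
      intro r
      have := congrArg Subtype.val (h (rootSp r 1))
      have e : (rootSp r (1 : F)).val * A.val = A.val * (rootSp r (1 : F)).val := this
      rw [rootSp_val, one_smul, Matrix.add_mul, Matrix.mul_add, Matrix.one_mul, Matrix.mul_one] at e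
      exact (add_left_cancel e).symm
    have hcomm : ∀ X Y : Matrix N4 N4 F, A.val * X = X * A.val → A.val * Y = Y * A.val →
        A.val * (X * Y - Y * X) = (X * Y - Y * X) * A.val := by
      intro X Y hX hY
      have e1 : A.val * (X * Y) = X * Y * A.val := by
        rw [← Matrix.mul_assoc, hX, Matrix.mul_assoc, hY, Matrix.mul_assoc]
      have e2 : A.val * (Y * X) = Y * X * A.val := by
        rw [← Matrix.mul_assoc, hY, Matrix.mul_assoc, hX, Matrix.mul_assoc]
      rw [Matrix.mul_sub, Matrix.sub_mul, e1, e2]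
    intro j
    rcases j with i | r
    · have h0 : (XF (Sum.inl ⟨0, by decide⟩) : Matrix N4 N4 F) =
          XF (Sum.inr ⟨5, by decide⟩) * XF (Sum.inr ⟨2, by decide⟩)
            - XF (Sum.inr ⟨2, by decide⟩) * XF (Sum.inr ⟨5, by decide⟩) := by
        unfold XF
        rw [hh0, map_sub, map_mul, map_mul]
      have h1 : (XF (Sum.inl ⟨1, by decide⟩) : Matrix N4 N4 F) =
          XF (Sum.inr ⟨4, by decide⟩) * XF (Sum.inr ⟨3, by decide⟩)
            - XF (Sum.inr ⟨3, by decide⟩) * XF (Sum.inr ⟨4, by decide⟩) := by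
        unfold XF
        rw [hh1, map_sub, map_mul, map_mul]
      have hi : i = ⟨0, by decide⟩ ∨ i = ⟨1, by decide⟩ := by
        rcases i with ⟨v, hv⟩
        have hv' : v < 2 := hv
        simp only [Fin.mk.injEq]
        omega
      rcases hi with rfl | rfl
      · rw [h0]; exact hcomm _ _ (hr _) (hr _)
      · rw [h1]; exact hcomm _ _ (hr _) (hr _)
    · exact hr r

/-! ### the isomorphism -/

theorem group_le_range : chevB2.group F ≤ (rho (F := F)).range := by
  unfold ChevalleyDatum.group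
  rw [Subgroup.closure_le]
  rintro g ⟨r, t, hg⟩
  refine ⟨rootSp r t, ?_⟩
  apply Units.ext
  rw [rho_val, rhoM_rootSp, hg]

theorem range_rho [Fintype F] : (rho (F := F)).range = chevB2.group F := by
  classical
  have hfin : Finite Sp4 := by
    apply Nat.finite_of_card_ne_zero
    rw [Cfsg.Agent.S0245.result (F := F) rfl 2]
    have hq : 2 ≤ Fintype.card F := Fintype.one_lt_card
    have h1 : 0 < Fintype.card F ^ (2 * (0 + 1)) - 1 := by
      have : 2 ^ 2 ≤ Fintype.card F ^ 2 := Nat.pow_le_pow_left hq 2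
      simp only [zero_add, mul_one]; omega
    have h2 : 0 < Fintype.card F ^ (2 * (1 + 1)) - 1 := by
      have : 2 ^ 4 ≤ Fintype.card F ^ 4 := Nat.pow_le_pow_left hq 4
      norm_num; omega
    simp only [Finset.prod_range_succ, Finset.prod_range_zero, one_mul]
    positivity
  symm
  apply Subgroup.eq_of_le_of_card_ge group_le_range
  -- the orders
  have hc1 : Nat.card Sp4 = Nat.card (Sp4 ⧸ (rho (F := F)).ker) * Nat.card (rho (F := F)).ker :=
    Subgroup.card_eq_card_quotient_mul_card_subgroup _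
  have hc2 : Nat.card (rho (F := F)).range = Nat.card (Sp4 ⧸ (rho (F := F)).ker) :=
    (Nat.card_congr (QuotientGroup.quotientKerEquivRange (rho (F := F))).toEquiv).symm
  have hz : Nat.card (rho (F := F)).ker = Nat.gcd 2 (Fintype.card F - 1) := by
    rw [ker_rho]
    exact Cfsg.Agent.S0246.result (F := F) rfl 2 (by norm_num)
  have hsp : Nat.card Sp4 = Fintype.card F ^ 4 * ((Fintype.card F ^ 2 - 1) * (Fintype.card F ^ 4 - 1)) := by
    rw [Cfsg.Agent.S0245.result (F := F) rfl 2]
    simp [Finset.prod_range_succ]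
  have hb := Cfsg.Agent.S1060.result (F := F) (q := Fintype.card F) rfl
  have hg : 0 < Nat.gcd 2 (Fintype.card F - 1) := Nat.gcd_pos_of_pos_left _ (by norm_num)
  rw [hc2]
  apply le_of_eq
  apply Nat.eq_of_mul_eq_mul_right hg
  rw [← hz, ← hc1, hsp, hz, mul_comm (Nat.card _), hb]
  ring

/-- `PSp₄(F) ≅ B₂(F)` for every finite field `F` -/
theorem psp4_equiv_B2 [Fintype F] : Nonempty (Cfsg.PSp 2 F ≃* ↥(chevB2.group F)) := by
  have e1 : Cfsg.PSp 2 F ≃* Sp4 ⧸ (rho (F := F)).ker :=
    QuotientGroup.quotientMulEquivOfEq (ker_rho (F := F)).symm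
  have e2 := QuotientGroup.quotientKerEquivRange (rho (F := F))
  have e3 : ↥(rho (F := F)).range ≃* ↥(chevB2.group F) := MulEquiv.subgroupCongr range_rho
  exact ⟨(e1.trans e2).trans e3⟩

end Cfsg.Agent.Sp4B2
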