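import Cfsg.Agent.Lib.Helper5.St.Main3
import Cfsg.Agent.Lib.Helper5.Chev.HCardAll
import Mathlib

/-!
# Embeddings of root tables and the centre of Steinberg's presented group (lead)

An injection of the root indices of a datum `D` into those of a datum `D'` that is compatible with
negation, with the terms of the commutator formula and with the fundamental roots induces a
homomorphism of the presented groups.  When the rectangular matrix of the Cartan integers of the
fundamental roots of `D` on the fundamental roots of `D'` has an integral right inverse, the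
product map `(Kˣ)^l → Ḡ(D)` of the `h̄_i` is injective, and the centre of `Ḡ(D)` has the order of
the kernel of the Cartan matrix acting on `(Kˣ)^l`.
-/

set_option autoImplicit false

namespace Cfsg.Agent.StEmb

open Cfsg.Lie Cfsg.Agent.Lib.Helper5.Chev Cfsg.Agent.Lib.Helper5.Tw Cfsg.Agent.Lib.Helper5.St
open scoped Matrix

/-- an embedding of root tables -/
structure Emb (D D' : ChevalleyDatum) (ι : ℕ → ℕ) : Prop where
  lt : ∀ r < D.nroots, ι r < D'.nroots
  neg_lt : ∀ r < D.nroots, D.neg r < D.nroots
  neg : ∀ r < D.nroots, D'.neg (ι r) = ι (D.neg r)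
  inj : ∀ r < D.nroots, ∀ s < D.nroots, ι s = ι r → s = r
  terms : ∀ r < D.nroots, ∀ s < D.nroots,
    D'.commTerms (ι r) (ι s) = (D.commTerms r s).map fun c => (ι c.1, c.2)
  terms_lt : ∀ r < D.nroots, ∀ s < D.nroots, ∀ c ∈ D.commTerms r s, c.1 < D.nroots
  rank_le : D.rank ≤ D'.rank
  simple : ∀ i < D.rank, ι (D.simple i) = D'.simple i

variable {K : Type*} [Field K] {D D' : ChevalleyDatum} {ι : ℕ → ℕ}

/-- the images of the generators -/
def embGen (K : Type*) [Field K] (D D' : ChevalleyDatum) (ι : ℕ → ℕ) :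
    Fin D.nroots × K → D'.SteinbergGroup K := fun p => D'.stGen K (ι p.1.val) p.2

theorem lift_stX (r : ℕ) (hr : r < D.nroots) (t : K) :
    FreeGroup.lift (embGen K D D' ι) (D.stX r t) = D'.stGen K (ι r) t := by
  unfold ChevalleyDatum.stX
  rw [dif_pos hr, FreeGroup.lift_apply_of]
  rfl

theorem stWord_cons (D : ChevalleyDatum) (a : ℕ × K) (w : List (ℕ × K)) :
    D.stWord (a :: w) = D.stX a.1 a.2 * D.stWord w := by
  unfold ChevalleyDatum.stWord
  rw [List.map_cons, List.prod_cons]

theorem lift_stWord (w : List (ℕ × K)) (hw : ∀ p ∈ w, p.1 < D.nroots) :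
    FreeGroup.lift (embGen K D D' ι) (D.stWord w)
      = PresentedGroup.mk (D'.steinbergRels K) (D'.stWord (w.map fun p => (ι p.1, p.2))) := by
  induction w with
  | nil =>
    show FreeGroup.lift (embGen K D D' ι) 1 = PresentedGroup.mk (D'.steinbergRels K) 1
    rw [map_one, map_one]
  | cons a w ih =>
    rw [stWord_cons, List.map_cons, stWord_cons, map_mul, map_mul,
      lift_stX a.1 (hw a List.mem_cons_self), ih (fun p hp => hw p (List.mem_cons_of_mem _ hp))]
    rfl

theorem commWord_map (E : Emb D D' ι) (r s : ℕ) (hr : r < D.nroots) (hs : s < D.nroots) (t u : K) :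
    (D.commWord K r s t u).map (fun p => (ι p.1, p.2)) = D'.commWord K (ι r) (ι s) t u := by
  unfold ChevalleyDatum.commWord
  rw [E.terms r hr s hs, List.map_map, List.map_map]
  rfl

theorem hWord_map (E : Emb D D' ι) (r : ℕ) (hr : r < D.nroots) (t : K) :
    (D.hWord r t).map (fun p => (ι p.1, p.2)) = D'.hWord (ι r) t := by
  unfold ChevalleyDatum.hWord ChevalleyDatum.nWord
  rw [E.neg r hr]
  rfl

theorem hWord_lt (E : Emb D D' ι) (r : ℕ) (hr : r < D.nroots) (t : K) :
    ∀ p ∈ D.hWord r t, p.1 < D.nroots := by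
  intro p hp
  unfold ChevalleyDatum.hWord ChevalleyDatum.nWord at hp
  simp only [List.cons_append, List.nil_append, List.mem_cons, List.not_mem_nil, or_false] at hp
  rcases hp with rfl | rfl | rfl | rfl | rfl | rfl
  · exact hr
  · exact E.neg_lt r hr
  · exact hr
  · exact hr
  · exact E.neg_lt r hr
  · exact hr

theorem lift_stH (E : Emb D D' ι) (r : ℕ) (hr : r < D.nroots) (t : K) :
    FreeGroup.lift (embGen K D D' ι) (D.stH r t)
      = PresentedGroup.mk (D'.steinbergRels K) (D'.stH (ι r) t) := by
  unfold ChevalleyDatum.stH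
  rw [lift_stWord _ (hWord_lt E r hr t), hWord_map E r hr]

/-- the relators of `D` hold in the presented group of `D'` -/
theorem lift_rels (E : Emb D D' ι)
    (hD' : D' ∈ [chevG2, chevB2, chevD4, chevF4, chevE6, chevE7, chevE8]) :
    ∀ g ∈ D.steinbergRels K, FreeGroup.lift (embGen K D D' ι) g = 1 := by
  have R' := steinbergRData (K := K) hD'
  intro g hg
  rw [steinbergRels_eq] at hg
  rcases hg with (⟨r, t₁, t₂, hr, rfl⟩ | ⟨r, s, t, u, hr, hs, h1, h2, rfl⟩) | ⟨r, t₁, t₂, hr, h1, h2, rfl⟩
  · rw [map_mul, map_mul, map_inv, lift_stX r hr, lift_stX r hr, lift_stX r hr, mul_inv_eq_one]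
    exact (steinbergRData (K := K) hD').add (ι r) (E.lt r hr) t₁ t₂
  · simp only [map_mul, map_inv]
    rw [lift_stX r hr, lift_stX s hs, lift_stWord _ (fun p hp => by
      obtain ⟨c, hc, e⟩ := RData.commWord_mem r s t u p hp
      rw [e]
      exact E.terms_lt r hr s hs c hc), commWord_map E r s hr hs, mk_stWord]
    have h := (steinbergRData (K := K) hD').comm (ι r) (E.lt r hr) (ι s) (E.lt s hs)
      (fun e => h1 (E.inj r hr s hs e))
      (fun e => h2 (by
        rw [E.neg r hr] at e
        exact E.inj _ (E.neg_lt r hr) s hs e)) t u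
    rw [mul_inv_eq_one, mul_assoc, mul_assoc, inv_mul_eq_iff_eq_mul, inv_mul_eq_iff_eq_mul,
      ← mul_assoc]
    exact h
  · rw [map_mul, map_mul, map_inv, lift_stH E r hr, lift_stH E r hr, lift_stH E r hr,
      ← map_inv, ← map_mul, ← map_mul]
    apply PresentedGroup.one_of_mem
    rw [steinbergRels_eq]
    exact Or.inr ⟨ι r, t₁, t₂, E.lt r hr, h1, h2, rfl⟩

/-- the homomorphism of the presented groups -/
noncomputable def embHom (E : Emb D D' ι)
    (hD' : D' ∈ [chevG2, chevB2, chevD4, chevF4, chevE6, chevE7, chevE8]) :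
    D.SteinbergGroup K →* D'.SteinbergGroup K :=
  PresentedGroup.toGroup (f := embGen K D D' ι) (lift_rels E hD')

theorem embHom_mk (E : Emb D D' ι)
    (hD' : D' ∈ [chevG2, chevB2, chevD4, chevF4, chevE6, chevE7, chevE8])
    (g : FreeGroup (Fin D.nroots × K)) :
    embHom E hD' (PresentedGroup.mk (D.steinbergRels K) g) = FreeGroup.lift (embGen K D D' ι) g :=
  rfl

theorem embHom_hbar (E : Emb D D' ι)
    (hD : D ∈ [chevG2, chevB2, chevD4, chevF4, chevE6, chevE7, chevE8])
    (hD' : D' ∈ [chevG2, chevB2, chevD4, chevF4, chevE6, chevE7, chevE8])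
    (i : ℕ) (hi : i < D.rank) (t : K) :
    embHom E hD' ((steinbergRData (K := K) hD).hbar i t) = (steinbergRData (K := K) hD').hbar i t := by
  obtain ⟨hp, -⟩ := simple_lt_all D hD i hi
  rw [steinberg_hbar, steinberg_hbar, embHom_mk, lift_stH E _ hp, E.simple i hi]

/-- a family with trivial monomials for the columns of a matrix with an integral right inverse is
trivial -/
theorem rect_trivial {l l' : ℕ} {M : Type*} [CommGroup M] (A : Fin l → Fin l' → ℤ)
    (B : Fin l' → Fin l → ℤ)
    (hAB : ∀ k m, ∑ j, A k j * B j m = if k = m then 1 else 0) (t : Fin l → M)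
    (h : ∀ j, ∏ k, t k ^ A k j = 1) (m : Fin l) : t m = 1 := by
  have h0 : t m = ∏ k, t k ^ (∑ j, A k j * B j m) := by
    rw [Finset.prod_eq_single m]
    · rw [hAB, if_pos rfl, zpow_one]
    · intro k _ hk
      rw [hAB, if_neg hk, zpow_zero]
    · intro hm
      exact absurd (Finset.mem_univ m) hm
  rw [h0]
  calc ∏ k, t k ^ (∑ j, A k j * B j m) = ∏ k, ∏ j, (t k ^ A k j) ^ B j m := by
        apply Finset.prod_congr rfl
        intro k _
        rw [zpow_finset_sum']
        apply Finset.prod_congr rfl
        intro j _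
        rw [zpow_mul]
    _ = ∏ j, ∏ k, (t k ^ A k j) ^ B j m := Finset.prod_comm
    _ = ∏ j, (∏ k, t k ^ A k j) ^ B j m := by
        apply Finset.prod_congr rfl
        intro j _
        rw [Finset.prod_zpow]
    _ = 1 := by
        apply Finset.prod_eq_one
        intro j _
        rw [h j, one_zpow]

end Cfsg.Agent.StEmb
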