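import Cfsg.Agent.Lib.Lead.StEmb2
import Mathlib

/-!
# Boolean checks for an embedding of root tables (lead)
-/

set_option autoImplicit false

namespace Cfsg.Agent.StEmb

open Cfsg.Lie Cfsg.Agent.Lib.Helper5.Chev Cfsg.Agent.Lib.Helper5.Tw Cfsg.Agent.Lib.Helper5.St

/-- the image of a root index under a list -/
def io (L : List ℕ) (r : ℕ) : ℕ := L.getD r 0

/-- boolean check of the compatibility of the terms of the commutator formula, rows
`lo ≤ r < lo + len` -/
def embTermsb (T T' : FD) (L : List ℕ) (lo len : ℕ) : Bool :=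
  (List.range' lo len).all fun r => forceNat (io L r) fun r' =>
    (List.range T.nroots).all fun s => forceNat (io L s) fun s' =>
      decide (T'.commTerms r' s' = (T.commTerms r s).map fun c => (io L c.1, c.2))

theorem embTerms_spec (T T' : FD) (L : List ℕ) (lo len : ℕ) (h : embTermsb T T' L lo len = true)
    (r : ℕ) (h1 : lo ≤ r) (h2 : r < lo + len) (s : ℕ) (hs : s < T.nroots) :
    T'.commTerms (io L r) (io L s) = (T.commTerms r s).map fun c => (io L c.1, c.2) := by
  unfold embTermsb at h
  rw [List.all_eq_true] at h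
  have := h r (by rw [List.mem_range'_1]; exact ⟨h1, h2⟩)
  rw [forceNat_eq, List.all_eq_true] at this
  have := this s (List.mem_range.2 hs)
  rw [forceNat_eq, decide_eq_true_eq] at this
  exact this

theorem embTerms_all (T T' : FD) (L : List ℕ) (step k : ℕ) (hstep : 0 < step)
    (hn : T.nroots ≤ k * step) (h : ∀ q < k, embTermsb T T' L (q * step) step = true) :
    ∀ r < T.nroots, ∀ s < T.nroots,
      T'.commTerms (io L r) (io L s) = (T.commTerms r s).map fun c => (io L c.1, c.2) := by
  intro r hr s hs
  have hq : r / step < k := by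
    rw [Nat.div_lt_iff_lt_mul hstep]
    omega
  have h1 : r / step * step ≤ r := Nat.div_mul_le_self r step
  have h2 : r < r / step * step + step := by
    have := Nat.lt_div_mul_add hstep (a := r)
    omega
  exact embTerms_spec T T' L _ step (h _ hq) r h1 h2 s hs

/-- boolean check of the other properties -/
def embb (T T' : FD) (L : List ℕ) : Bool :=
  Nat.ble T.rank T'.rank && Nat.beq L.length T.nroots && decide L.Nodup &&
  ((List.range T.nroots).all fun r => forceNat (io L r) fun r' =>
    Nat.blt r' T'.nroots && Nat.beq (T'.neg r') (io L (T.neg r))) &&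
  ((List.range T.rank).all fun i => Nat.beq (io L (T.simple i)) (T'.simple i))

theorem emb_of_checks {T T' : FD} {D D' : ChevalleyDatum} (hA : T.Agrees D) (hA' : T'.Agrees D')
    (L : List ℕ) (h : embb T T' L = true)
    (hterms : ∀ r < T.nroots, ∀ s < T.nroots,
      T'.commTerms (io L r) (io L s) = (T.commTerms r s).map fun c => (io L c.1, c.2)) :
    Emb D D' (io L) := by
  unfold embb at h
  simp only [Bool.and_eq_true, Nat.ble_eq, FD.nbeq, decide_eq_true_eq, List.all_eq_true,
    List.mem_range, forceNat_eq, Nat.blt_eq] at h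
  obtain ⟨⟨⟨⟨h1, h2⟩, h3⟩, h4⟩, h5⟩ := h
  have hn : T.nroots = D.nroots := hA.nroots_eq
  have hn' : T'.nroots = D'.nroots := hA'.nroots_eq
  have hlt : ∀ r < D.nroots, io L r < D'.nroots := fun r hr => by
    rw [← hn']
    exact (h4 r (by rw [hn]; exact hr)).1
  have hrank : D.rank ≤ D'.rank := by
    rw [← hA.rank_eq, ← hA'.rank_eq]
    exact h1
  refine ⟨hlt, ?_, ?_, ?_, ?_, ?_, hrank, ?_⟩
  · intro r hr
    rw [FD.neg_eq' hA r hr]
    exact hA.neg_lt r hr
  · intro r hr
    rw [FD.neg_eq' hA' _ (hlt r hr), FD.neg_eq' hA r hr]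
    exact (h4 r (by rw [hn]; exact hr)).2
  · intro r hr s hs e
    have hr' : r < L.length := by rw [h2, hn]; exact hr
    have hs' : s < L.length := by rw [h2, hn]; exact hs
    unfold io at e
    rw [List.getD_eq_getElem _ _ hr', List.getD_eq_getElem _ _ hs'] at e
    exact (List.Nodup.getElem_inj_iff h3).1 e
  · intro r hr s hs
    rw [FD.commTerms_eq hA' _ _ (hlt r hr) (hlt s hs), FD.commTerms_eq hA r s hr hs]
    exact hterms r (by rw [hn]; exact hr) s (by rw [hn]; exact hs)
  · intro r hr s hs c hc
    rw [FD.commTerms_eq hA r s hr hs] at hc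
    exact FD.commTerms_lt hA r s hr hs c hc
  · intro i hi
    rw [FD.simple_eq' hA i hi, FD.simple_eq' hA' i (lt_of_lt_of_le hi hrank)]
    exact h5 i (by rw [hA.rank_eq]; exact hi)

end Cfsg.Agent.StEmb
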