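import Cfsg.Agent.Lib.Lead.StEmbCk
import Mathlib

/-!
# The root table of `E₆` inside that of `E₇`, and the centre of the presented group of type `E₆`
(lead)
-/

set_option autoImplicit false
set_option maxRecDepth 100000

namespace Cfsg.Agent.StEmb.E6

open Cfsg.Lie Cfsg.Agent.Lib.Helper5.Chev Cfsg.Agent.Lib.Helper5.Tw Cfsg.Agent.Lib.Helper5.St
open Cfsg.Agent.StEmb

/-- the indices in `E₇` of the roots of `E₆` -/
def L : List ℕ := [6, 10, 13, 15, 16, 19, 21, 22, 24, 25, 26, 28, 29, 30, 31, 32, 35, 37, 38, 40, 41, 42, 44, 45, 46, 47, 49, 50, 51, 52, 54, 55, 56, 58, 59, 61, 64, 66, 67, 69, 70, 71, 73, 74, 75, 76, 78, 79, 80, 81, 83, 84, 85, 87, 88, 90, 93, 94, 95, 96, 97, 99, 100, 101, 103, 104, 106, 109, 110, 112, 115, 119]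

theorem t0 : embTermsb DataE6.fd DataE7.fd L 0 24 = true := by decide +kernel
theorem t1 : embTermsb DataE6.fd DataE7.fd L 24 24 = true := by decide +kernel
theorem t2 : embTermsb DataE6.fd DataE7.fd L 48 24 = true := by decide +kernel
theorem hb : embb DataE6.fd DataE7.fd L = true := by decide +kernel

theorem emb : Emb chevE6 chevE7 (io L) :=
  emb_of_checks DataE6.agrees DataE7.agrees L hb
    (embTerms_all DataE6.fd DataE7.fd L 24 3 (by norm_num) (by decide)
      (by
        intro q hq
        interval_cases q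
        · exact t0
        · exact t1
        · exact t2))

/-- a right inverse of the rectangular Cartan matrix -/
def BL : List (List ℤ) := [[-4, -5, -5, -4, -4, -6], [-7, -7, -8, -6, -6, -9], [-9, -10, -10, -8, -8, -12], [-14, -15, -16, -12, -12, -18], [-12, -13, -14, -11, -10, -15], [-10, -11, -12, -10, -9, -12], [-8, -9, -10, -9, -8, -10]]

def B : Fin chevE7.rank → Fin chevE6.rank → ℤ := fun j m => (BL.getD j.val []).getD m.val 0

theorem hB : ∀ k m : Fin chevE6.rank,
    ∑ j : Fin chevE7.rank, chevE7.cartan k (chevE7.simple j) * B j m = if k = m then 1 else 0 := by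
  decide +kernel

theorem memE6 : chevE6 ∈ [chevG2, chevB2, chevD4, chevF4, chevE6, chevE7, chevE8] := by simp
theorem memE7 : chevE7 ∈ [chevG2, chevB2, chevD4, chevF4, chevE6, chevE7, chevE8] := by simp

/-- the centre of the presented group of type `E₆` has order `gcd(3, q - 1)` -/
theorem card_center {K : Type*} [Field K] [Fintype K] :
    Nat.card (Subgroup.center (chevE6.SteinbergGroup K)) = Nat.gcd 3 (Fintype.card K - 1) := by
  classical
  rw [card_center_of_emb emb memE6 memE7 B hB,
    ker_cartanM_eq HcE6.Mt HcE6.hC (fun j hj => (simple_lt_all chevE6 memE6 j hj).1),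
    card_ker_zact_of_snf (G := Kˣ) (cartanA chevE6) HcE6.P HcE6.P' HcE6.Q HcE6.Q' HcE6.d HcE6.hP
      HcE6.hP2 HcE6.hQ HcE6.hS]
  have hcard : Nat.card Kˣ = Fintype.card K - 1 := by
    rw [Nat.card_eq_fintype_card, Fintype.card_units]
  rw [hcard]
  show ∏ i : Fin 6, (Fintype.card K - 1).gcd (HcE6.d i) = _
  simp [Fin.prod_univ_succ, HcE6.d, HcE6.dL, Nat.gcd_comm]

end Cfsg.Agent.StEmb.E6
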