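import Cfsg.Agent.Lib.Lead.StEmbCk
import Mathlib

/-!
# The root table of `E₇` inside that of `E₈`, and the centre of the presented group of type `E₇`
(lead)
-/

set_option autoImplicit false
set_option maxRecDepth 100000

namespace Cfsg.Agent.StEmb.E7

open Cfsg.Lie Cfsg.Agent.Lib.Helper5.Chev Cfsg.Agent.Lib.Helper5.Tw Cfsg.Agent.Lib.Helper5.St
open Cfsg.Agent.StEmb

/-- the indices in `E₈` of the roots of `E₇` -/
def L : List ℕ := [13, 20, 25, 29, 32, 34, 35, 39, 42, 44, 45, 48, 50, 51, 53, 54, 55, 58, 60, 61, 63, 64, 65, 67, 68, 69, 70, 72, 73, 74, 75, 76, 77, 80, 82, 83, 85, 86, 87, 89, 90, 91, 92, 94, 95, 96, 97, 98, 100, 101, 102, 103, 104, 106, 107, 108, 109, 111, 112, 113, 115, 116, 118, 121, 123, 124, 126, 127, 128, 130, 131, 132, 133, 135, 136, 137, 138, 139, 141, 142, 143, 144, 145, 147, 148, 149, 150, 152, 153, 154, 156, 157, 159, 162, 163, 164, 165, 166, 167, 169, 170, 171, 172, 174, 175, 176, 178, 179, 181, 184, 185, 186, 188, 189, 191, 194, 195, 197, 200, 204, 205, 207, 210, 214, 219, 226]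

theorem t0 : embTermsb DataE7.fd DataE8.fd L 0 21 = true := by decide +kernel
theorem t1 : embTermsb DataE7.fd DataE8.fd L 21 21 = true := by decide +kernel
theorem t2 : embTermsb DataE7.fd DataE8.fd L 42 21 = true := by decide +kernel
theorem t3 : embTermsb DataE7.fd DataE8.fd L 63 21 = true := by decide +kernel
theorem t4 : embTermsb DataE7.fd DataE8.fd L 84 21 = true := by decide +kernel
theorem t5 : embTermsb DataE7.fd DataE8.fd L 105 21 = true := by decide +kernel
theorem hb : embb DataE7.fd DataE8.fd L = true := by decide +kernel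

theorem emb : Emb chevE7 chevE8 (io L) :=
  emb_of_checks DataE7.agrees DataE8.agrees L hb
    (embTerms_all DataE7.fd DataE8.fd L 21 6 (by norm_num) (by decide)
      (by
        intro q hq
        interval_cases q
        · exact t0
        · exact t1
        · exact t2
        · exact t3
        · exact t4
        · exact t5))

/-- a right inverse of the rectangular Cartan matrix -/
def BL : List (List ℤ) := [[-8, -7, -7, -6, -6, -8, -8], [-13, -10, -11, -9, -9, -12, -12], [-17, -14, -14, -12, -12, -16, -16], [-26, -21, -22, -18, -18, -24, -24], [-22, -18, -19, -16, -15, -20, -20], [-18, -15, -16, -14, -13, -16, -16], [-14, -12, -13, -12, -11, -13, -12], [-10, -9, -10, -10, -9, -10, -9]]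

def B : Fin chevE8.rank → Fin chevE7.rank → ℤ := fun j m => (BL.getD j.val []).getD m.val 0

theorem hB : ∀ k m : Fin chevE7.rank,
    ∑ j : Fin chevE8.rank, chevE8.cartan k (chevE8.simple j) * B j m = if k = m then 1 else 0 := by
  decide +kernel

theorem memE7 : chevE7 ∈ [chevG2, chevB2, chevD4, chevF4, chevE6, chevE7, chevE8] := by simp
theorem memE8 : chevE8 ∈ [chevG2, chevB2, chevD4, chevF4, chevE6, chevE7, chevE8] := by simp

/-- the centre of the presented group of type `E₇` has order `gcd(2, q - 1)` -/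
theorem card_center {K : Type*} [Field K] [Fintype K] :
    Nat.card (Subgroup.center (chevE7.SteinbergGroup K)) = Nat.gcd 2 (Fintype.card K - 1) := by
  classical
  rw [card_center_of_emb emb memE7 memE8 B hB,
    ker_cartanM_eq HcE7.Mt HcE7.hC (fun j hj => (simple_lt_all chevE7 memE7 j hj).1),
    card_ker_zact_of_snf (G := Kˣ) (cartanA chevE7) HcE7.P HcE7.P' HcE7.Q HcE7.Q' HcE7.d HcE7.hP
      HcE7.hP2 HcE7.hQ HcE7.hS]
  have hcard : Nat.card Kˣ = Fintype.card K - 1 := by
    rw [Nat.card_eq_fintype_card, Fintype.card_units]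
  rw [hcard]
  show ∏ i : Fin 7, (Fintype.card K - 1).gcd (HcE7.d i) = _
  simp [Fin.prod_univ_succ, HcE7.d, HcE7.dL, Nat.gcd_comm]

end Cfsg.Agent.StEmb.E7
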