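import Mathlib

set_option autoImplicit false
set_option linter.style.haveILetI false
set_option linter.unusedVariables false

/-! Subgroups of index `n` in the symmetric group of degree `n ≠ 6` are point stabilizers. -/

namespace Cfsg.Agent.Lead.SymIndex

open Equiv Equiv.Perm

section Rel
variable {Ω : Type*} [DecidableEq Ω] (H : Subgroup (Perm Ω))

/-- equal, or swapped by an element of `H`. -/
def R (x y : Ω) : Prop := x = y ∨ swap x y ∈ H

lemma R_refl (x : Ω) : R H x x := Or.inl rfl

lemma R_symm {x y : Ω} (h : R H x y) : R H y x := by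
  rcases h with h | h
  · exact Or.inl h.symm
  · exact Or.inr (by rwa [swap_comm])

lemma R_trans {x y z : Ω} (h1 : R H x y) (h2 : R H y z) : R H x z := by
  rcases h1 with rfl | h1
  · exact h2
  rcases h2 with rfl | h2
  · exact Or.inr h1
  by_cases hxz : x = z
  · exact Or.inl hxz
  by_cases hxy : x = y
  · subst hxy; exact Or.inr h2
  right
  have h3 : swap y z * swap x y * swap y z ∈ H := H.mul_mem (H.mul_mem h2 h1) h2
  rw [Equiv.swap_mul_swap_mul_swap hxy hxz, swap_comm] at h3
  exact h3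

lemma R_smul {x y : Ω} (h : R H x y) {g : Perm Ω} (hg : g ∈ H) : R H (g x) (g y) := by
  rcases h with rfl | h
  · exact Or.inl rfl
  right
  rw [Equiv.swap_apply_apply]
  exact H.mul_mem (H.mul_mem hg h) (H.inv_mem hg)

variable [Fintype Ω]

lemma le_stabilizer_of_few (hn : 4 ≤ Fintype.card Ω) (hH : H ≠ ⊤)
    (M : Finset (Perm Ω)) (hM : ∀ a b : Ω, a ≠ b → swap a b ∉ H → swap a b ∈ M)
    (hMc : M.card + 1 ≤ Fintype.card Ω)
    (a b : Ω) (hab : a ≠ b) (habH : swap a b ∈ H) :
    ∃ z : Ω, H ≤ MulAction.stabilizer (Perm Ω) z := by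
  classical
  let C : Finset Ω := Finset.univ.filter (fun y => R H a y)
  have memC : ∀ y, y ∈ C ↔ R H a y := fun y => by simp [C]
  have haC : a ∈ C := (memC a).2 (R_refl H a)
  have hbC : b ∈ C := (memC b).2 (Or.inr habH)
  have key : ∀ y ∈ C, ∀ w, w ∉ C → swap y w ∉ H := by
    intro y hy w hw hyw
    exact hw ((memC w).2 (R_trans H ((memC y).1 hy) (Or.inr hyw)))
  have hinj : (C ×ˢ Cᶜ).card ≤ M.card := by
    apply Finset.card_le_card_of_injOn (fun p => swap p.1 p.2)
    · intro p hp
      rw [Finset.mem_coe, Finset.mem_product, Finset.mem_compl] at hp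
      have hne : p.1 ≠ p.2 := fun h => hp.2 (h ▸ hp.1)
      exact hM _ _ hne (key _ hp.1 _ hp.2)
    · intro p hp q hq hpq
      rw [Finset.mem_coe, Finset.mem_product, Finset.mem_compl] at hp hq
      simp only at hpq
      have h1 : (swap p.1 p.2) p.1 = (swap q.1 q.2) p.1 := by rw [hpq]
      rw [swap_apply_left, swap_apply_def] at h1
      have hne : p.1 ≠ p.2 := fun h => hp.2 (h ▸ hp.1)
      split_ifs at h1 with h2 h3
      · ext
        · exact h2
        · exact h1
      · exact absurd (h3 ▸ hp.1) hq.2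
      · exact absurd h1.symm hne
  rw [Finset.card_product] at hinj
  have hcd : C.card + Cᶜ.card = Fintype.card Ω := Finset.card_add_card_compl C
  have hc2 : 2 ≤ C.card := by
    have : 1 < C.card := Finset.one_lt_card.2 ⟨a, haC, b, hbC, hab⟩
    omega
  have hd : Cᶜ.card ≤ 1 := by
    by_contra hd
    push_neg at hd
    obtain ⟨c', hc'⟩ := Nat.exists_eq_add_of_le hc2
    obtain ⟨d', hd'⟩ := Nat.exists_eq_add_of_le (show 2 ≤ Cᶜ.card by omega)
    rw [hc', hd'] at hinj hcd
    nlinarith [Nat.zero_le (c' * d')]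
  have hall_of_mem : ∀ x y, x ∈ C → y ∈ C → R H x y := fun x y hx hy =>
    R_trans H (R_symm H ((memC x).1 hx)) ((memC y).1 hy)
  rcases Nat.le_one_iff_eq_zero_or_eq_one.1 hd with h0 | h1
  · exfalso
    apply hH
    rw [Finset.card_eq_zero, Finset.compl_eq_empty_iff] at h0
    rw [eq_top_iff, ← Equiv.Perm.closure_isSwap, Subgroup.closure_le]
    rintro σ ⟨x, y, hxy, rfl⟩
    rcases hall_of_mem x y (h0 ▸ Finset.mem_univ x) (h0 ▸ Finset.mem_univ y) with h | h
    · exact absurd h hxy
    · exact h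
  · obtain ⟨z, hz⟩ := Finset.card_eq_one.1 h1
    have hzC : z ∉ C := by
      have : z ∈ Cᶜ := by rw [hz]; exact Finset.mem_singleton_self z
      exact Finset.mem_compl.1 this
    have hall : ∀ y, y ≠ z → y ∈ C := by
      intro y hy
      by_contra hyC
      have : y ∈ Cᶜ := Finset.mem_compl.2 hyC
      rw [hz, Finset.mem_singleton] at this
      exact hy this
    refine ⟨z, ?_⟩
    intro h hh
    rw [MulAction.mem_stabilizer_iff, Equiv.Perm.smul_def]
    by_contra hne
    -- choose a' in {a, b} different from h z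
    obtain ⟨a', ha'C, ha'⟩ : ∃ a' ∈ C, a' ≠ h z := by
      by_cases h1 : a = h z
      · exact ⟨b, hbC, fun h2 => hab (h1.trans h2.symm)⟩
      · exact ⟨a, haC, h1⟩
    have h1 : h⁻¹ a' ≠ z := by
      intro h2
      apply ha'
      rw [← h2]
      simp
    have h2 : R H a' (h z) := hall_of_mem _ _ ha'C (hall _ hne)
    have h3 : R H (h⁻¹ a') (h⁻¹ (h z)) := R_smul H h2 (H.inv_mem hh)
    have e5 : h⁻¹ (h z) = z := by simp
    rw [e5] at h3
    have h4 : R H a (h⁻¹ a') := (memC _).1 (hall _ h1)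
    exact hzC ((memC z).2 (R_trans H h4 h3))

end Rel

section Num

open Nat

/-- `Q k' j` : `j! 2^(k'+1) (k'+1)! < 2 (2k'+j)!` -/
def Q (k' j : ℕ) : Prop := j ! * 2 ^ (k' + 1) * (k' + 1)! < 2 * (2 * k' + j)!

lemma Q_succ (k' j : ℕ) (h : Q k' j) : Q k' (j + 1) := by
  unfold Q at *
  have e1 : (2 * k' + (j + 1))! = (2 * k' + j + 1) * (2 * k' + j)! := by
    rw [← Nat.add_assoc, Nat.factorial_succ]
  rw [e1, Nat.factorial_succ]
  have h5 : j + 1 ≤ 2 * k' + j + 1 := by omega
  calc (j + 1) * j ! * 2 ^ (k' + 1) * (k' + 1)!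
      = (j + 1) * (j ! * 2 ^ (k' + 1) * (k' + 1)!) := by ring
    _ < (j + 1) * (2 * (2 * k' + j)!) := Nat.mul_lt_mul_of_pos_left h (by omega)
    _ ≤ (2 * k' + j + 1) * (2 * (2 * k' + j)!) := Nat.mul_le_mul_right _ h5
    _ = 2 * ((2 * k' + j + 1) * (2 * k' + j)!) := by ring

lemma Q_of_le (k' j0 j : ℕ) (h : Q k' j0) (hj : j0 ≤ j) : Q k' j := by
  induction j, hj using Nat.le_induction with
  | base => exact h
  | succ j hj ih => exact Q_succ k' j ih

lemma Q_base (m : ℕ) : Q (m + 3) 0 := by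
  induction m with
  | zero => unfold Q; decide
  | succ m ih =>
    unfold Q at *
    simp only [Nat.factorial_zero, one_mul, add_zero] at *
    have e1 : (2 * (m + 1 + 3))! = (2 * (m + 3) + 2) * ((2 * (m + 3) + 1) * (2 * (m + 3))!) := by
      have : 2 * (m + 1 + 3) = 2 * (m + 3) + 1 + 1 := by ring
      rw [this, Nat.factorial_succ, Nat.factorial_succ]
    have e2 : (m + 1 + 3 + 1)! = (m + 3 + 1 + 1) * (m + 3 + 1)! := by
      have : m + 1 + 3 + 1 = (m + 3 + 1) + 1 := by ring
      rw [this, Nat.factorial_succ]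
    rw [e1, e2]
    have e3 : 2 ^ (m + 1 + 3 + 1) = 2 * 2 ^ (m + 3 + 1) := by ring
    rw [e3]
    have h5 : 2 * (m + 3 + 1 + 1) ≤ (2 * (m + 3) + 2) * (2 * (m + 3) + 1) := by nlinarith
    calc 2 * 2 ^ (m + 3 + 1) * ((m + 3 + 1 + 1) * (m + 3 + 1)!)
        = (2 * (m + 3 + 1 + 1)) * (2 ^ (m + 3 + 1) * (m + 3 + 1)!) := by ring
      _ < (2 * (m + 3 + 1 + 1)) * (2 * (2 * (m + 3))!) :=
          Nat.mul_lt_mul_of_pos_left ih (by omega)
      _ ≤ ((2 * (m + 3) + 2) * (2 * (m + 3) + 1)) * (2 * (2 * (m + 3))!) :=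
          Nat.mul_le_mul_right _ h5
      _ = 2 * ((2 * (m + 3) + 2) * ((2 * (m + 3) + 1) * (2 * (m + 3))!)) := by ring

lemma num_lemma (n k : ℕ) (hn : 4 ≤ n) (h6 : n ≠ 6) (hk : 1 ≤ k) (h2k : 2 * k ≤ n)
    (h : (n - 2 * k)! * 2 ^ k * k ! = (n - 2)! * 2) : k = 1 := by
  obtain ⟨k', rfl⟩ : ∃ k', k = k' + 1 := ⟨k - 1, by omega⟩
  obtain ⟨j, rfl⟩ : ∃ j, n = 2 * (k' + 1) + j := ⟨n - 2 * (k' + 1), by omega⟩
  have e1 : 2 * (k' + 1) + j - 2 * (k' + 1) = j := by omega
  have e2 : 2 * (k' + 1) + j - 2 = 2 * k' + j := by omega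
  rw [e1, e2] at h
  have hQ : ¬ Q k' j := by
    unfold Q
    rw [h]
    omega
  rcases Nat.lt_or_ge k' 1 with h0 | h1
  · omega
  exfalso
  rcases Nat.lt_or_ge k' 2 with h0 | h2
  · have hk1 : k' = 1 := by omega
    subst hk1
    rcases Nat.eq_zero_or_pos j with rfl | hj
    · revert h; decide
    · exact hQ (Q_of_le 1 1 j (by unfold Q; decide) hj)
  rcases Nat.lt_or_ge k' 3 with h0 | h3
  · have hk2 : k' = 2 := by omega
    subst hk2
    rcases Nat.eq_zero_or_pos j with rfl | hj
    · exact h6 rfl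
    · exact hQ (Q_of_le 2 1 j (by unfold Q; decide) hj)
  · obtain ⟨m, rfl⟩ : ∃ m, k' = m + 3 := ⟨k' - 3, by omega⟩
    exact hQ (Q_of_le (m + 3) 0 j (Q_base m) (Nat.zero_le j))

end Num

section Main

variable {Ω : Type*} [Fintype Ω] [DecidableEq Ω]

lemma swap_of_moves {X : Type*} [DecidableEq X] (σ : Perm X) (hσ : σ.IsSwap) (x : X)
    (hx : σ x ≠ x) : σ = swap x (σ x) := by
  obtain ⟨a, b, hab, rfl⟩ := hσ
  rw [swap_apply_def] at hx ⊢
  split_ifs at hx ⊢ with h1 h2
  · rw [h1]
  · rw [h2, swap_comm]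
  · exact absurd rfl hx

lemma index_stabilizer_eq (x : Ω) :
    (MulAction.stabilizer (Perm Ω) x).index = Fintype.card Ω := by
  rw [MulAction.index_stabilizer_of_transitive, Nat.card_eq_fintype_card]

lemma eq_of_le_of_index_eq {G : Type*} [Group G] [Finite G] (H K : Subgroup G) (h : H ≤ K)
    (hi : H.index = K.index) : H = K := by
  apply le_antisymm h
  have h1 := Subgroup.relIndex_mul_index h
  rw [hi] at h1
  have h2 : K.index ≠ 0 := Subgroup.index_ne_zero_of_finite
  have h3 : H.relIndex K = 1 := by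
    have : H.relIndex K * K.index = 1 * K.index := by rw [h1, one_mul]
    exact Nat.eq_of_mul_eq_mul_right (Nat.pos_of_ne_zero h2) this
  exact Subgroup.relIndex_eq_one.1 h3

open Classical in
lemma card_swaps : (Finset.univ.filter (fun t : Perm Ω => t.IsSwap)).card
    = (Fintype.card Ω).choose 2 := by
  by_cases h2 : 2 ≤ Fintype.card Ω
  · have := Equiv.Perm.card_of_cycleType_singleton (α := Ω) (n := 2) le_rfl h2
    simp only [Nat.add_one_sub_one, Nat.factorial_one, one_mul] at this
    calc _ = (Finset.univ.filter (fun g : Perm Ω => g.cycleType = {2})).card := by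
          apply congrArg Finset.card
          ext t
          simp only [Finset.mem_filter, Finset.mem_univ, true_and]
          exact isSwap_iff_cycleType
      _ = _ := this
  · push_neg at h2
    rw [Nat.choose_eq_zero_of_lt h2, Finset.card_eq_zero, Finset.filter_eq_empty_iff]
    rintro t - ⟨a, b, hab, rfl⟩
    have : 1 < Fintype.card Ω := Fintype.one_lt_card_iff.2 ⟨a, b, hab⟩
    omega

theorem fixed_of_swaps {X : Type*} [Fintype X] [DecidableEq X] (hn : 4 ≤ Fintype.card Ω)
    (hX : Fintype.card X = Fintype.card Ω)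
    (H : Subgroup (Perm Ω)) (hHtop : H ≠ ⊤) (ψ : Perm Ω →* Perm X)
    (hinj : Function.Injective ψ)
    (x₀ : X) (hstab : ∀ g : Perm Ω, g ∈ H ↔ ψ g x₀ = x₀)
    (hswap : ∀ t : Perm Ω, t.IsSwap → (ψ t).IsSwap) :
    ∃ x : Ω, H ≤ MulAction.stabilizer (Perm Ω) x := by
  classical
  -- the set of swaps outside H
  let M : Finset (Perm Ω) := Finset.univ.filter (fun t : Perm Ω => t.IsSwap ∧ t ∉ H)
  have hMcard : M.card ≤ (Finset.univ.erase x₀).card := by
    apply Finset.card_le_card_of_injOn (fun t => ψ t x₀)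
    · intro t ht
      rw [Finset.mem_coe, Finset.mem_filter] at ht
      rw [Finset.mem_coe, Finset.mem_erase]
      exact ⟨fun h => ht.2.2 ((hstab t).2 h), Finset.mem_univ _⟩
    · intro t ht t' ht' htt'
      rw [Finset.mem_coe, Finset.mem_filter] at ht ht'
      simp only at htt'
      apply hinj
      rw [swap_of_moves (ψ t) (hswap t ht.2.1) x₀ (fun h => ht.2.2 ((hstab t).2 h)),
        swap_of_moves (ψ t') (hswap t' ht'.2.1) x₀ (fun h => ht'.2.2 ((hstab t').2 h)), htt']
  rw [Finset.card_erase_of_mem (Finset.mem_univ _), Finset.card_univ, hX] at hMcard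
  -- a swap in H
  have hex : ∃ t : Perm Ω, t.IsSwap ∧ t ∈ H := by
    by_contra hno
    push_neg at hno
    have hsub : (Finset.univ.filter (fun t : Perm Ω => t.IsSwap)) ⊆ M := by
      intro t ht
      rw [Finset.mem_filter] at ht ⊢
      exact ⟨ht.1, ht.2, hno t ht.2⟩
    have h1 := Finset.card_le_card hsub
    rw [card_swaps, Nat.choose_two_right] at h1
    have h2 : 4 * (Fintype.card Ω - 1) ≤ Fintype.card Ω * (Fintype.card Ω - 1) :=
      Nat.mul_le_mul_right _ hn
    omega
  obtain ⟨t, ⟨a, b, hab, rfl⟩, htH⟩ := hex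
  refine le_stabilizer_of_few H hn hHtop M ?_ (by omega) a b hab htH
  intro a b hab hnot
  rw [Finset.mem_filter]
  exact ⟨Finset.mem_univ _, ⟨a, b, hab, rfl⟩, hnot⟩

theorem exists_fixed (hn : 4 ≤ Fintype.card Ω) (h6 : Fintype.card Ω ≠ 6)
    (H : Subgroup (Perm Ω)) (hH : H.index = Fintype.card Ω) (hcore : H.normalCore = ⊥) :
    ∃ x : Ω, H ≤ MulAction.stabilizer (Perm Ω) x := by
  classical
  let X := Perm Ω ⧸ H
  haveI : Fintype X := Fintype.ofFinite X
  have hX : Fintype.card X = Fintype.card Ω := by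
    rw [← Nat.card_eq_fintype_card]; exact hH
  let ψ : Perm Ω →* Perm X := MulAction.toPermHom (Perm Ω) X
  have hker : ψ.ker = ⊥ := by rw [← hcore]; exact (Subgroup.normalCore_eq_ker H).symm
  have hinj : Function.Injective ψ := (MonoidHom.ker_eq_bot_iff ψ).1 hker
  have hbij : Function.Bijective ψ := by
    rw [Fintype.bijective_iff_injective_and_card]
    exact ⟨hinj, by rw [Fintype.card_perm, Fintype.card_perm, hX]⟩
  let x₀ : X := ((1 : Perm Ω) : Perm Ω ⧸ H)
  have hstab : ∀ g : Perm Ω, g ∈ H ↔ ψ g x₀ = x₀ := by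
    intro g
    show g ∈ H ↔ g • x₀ = x₀
    rw [← MulAction.mem_stabilizer_iff, MulAction.stabilizer_quotient]
  -- swaps go to swaps
  have hswap : ∀ t : Perm Ω, t.IsSwap → (ψ t).IsSwap := by
    intro t ht
    have hord : orderOf (ψ t) = 2 := by rw [orderOf_injective ψ hinj]; exact ht.orderOf
    obtain ⟨k, hk⟩ := cycleType_prime_order (σ := ψ t) (by rw [hord]; exact Nat.prime_two)
    rw [hord] at hk
    have hmap : Subgroup.centralizer {ψ t} = (Subgroup.centralizer {t}).map ψ := by
      ext y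
      rw [Subgroup.mem_map, Subgroup.mem_centralizer_singleton_iff]
      constructor
      · intro hy
        obtain ⟨g, rfl⟩ := hbij.2 y
        refine ⟨g, ?_, rfl⟩
        rw [Subgroup.mem_centralizer_singleton_iff]
        apply hinj
        rw [map_mul, map_mul]
        exact hy
      · rintro ⟨g, hg, rfl⟩
        rw [Subgroup.mem_centralizer_singleton_iff] at hg
        rw [← map_mul, ← map_mul, hg]
    have hc : Nat.card (Subgroup.centralizer {ψ t}) = Nat.card (Subgroup.centralizer {t}) := by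
      rw [hmap]; exact Subgroup.card_map_of_injective hinj
    rw [nat_card_centralizer, nat_card_centralizer, hk, isSwap_iff_cycleType.mp ht] at hc
    have e1 : (Multiset.replicate (k + 1) 2).toFinset = {2} := by
      rw [Multiset.toFinset_replicate, if_neg (by omega)]
    rw [Multiset.sum_replicate, Multiset.prod_replicate, e1, Finset.prod_singleton,
      Multiset.count_replicate_self, hX] at hc
    simp only [Multiset.sum_singleton, Multiset.prod_singleton, Multiset.toFinset_singleton,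
      Finset.prod_singleton, Multiset.count_singleton_self, Nat.factorial_one, mul_one,
      smul_eq_mul] at hc
    have hsum : (k + 1) * 2 ≤ Fintype.card Ω := by
      have := sum_cycleType_le (ψ t)
      rw [hk, Multiset.sum_replicate, smul_eq_mul, hX] at this
      exact this
    have hk1 : k + 1 = 1 := by
      apply num_lemma (Fintype.card Ω) (k + 1) hn h6 (by omega) (by omega)
      rw [mul_comm 2 (k + 1)]
      exact hc
    rw [isSwap_iff_cycleType, hk, hk1]
    rfl
  have hHtop : H ≠ ⊤ := by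
    intro h
    rw [h, Subgroup.index_top] at hH
    omega
  exact fixed_of_swaps hn hX H hHtop ψ hinj x₀ hstab hswap

lemma small_prime (p : ℕ) (hp : p.Prime) (hcard : Fintype.card Ω = p + 1)
    (H : Subgroup (Perm Ω)) (hH : H.index = p + 1) (hidx : (p - 1).factorial ≤ 2) :
    ∃ x : Ω, H ≤ MulAction.stabilizer (Perm Ω) x := by
  classical
  haveI : Fact p.Prime := ⟨hp⟩
  have hp2 : 2 ≤ p := hp.two_le
  have hcH : Nat.card H = p.factorial := by
    have h1 := Subgroup.card_mul_index H
    rw [hH, Nat.card_eq_fintype_card (α := Perm Ω), Fintype.card_perm, hcard,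
      Nat.factorial_succ, mul_comm] at h1
    exact Nat.eq_of_mul_eq_mul_left (by omega) h1
  have hdvd : p ∣ Nat.card H := by rw [hcH]; exact Nat.dvd_factorial hp.pos le_rfl
  obtain ⟨c, hc⟩ := exists_prime_orderOf_dvd_card' p hdvd
  have hc' : orderOf (c : Perm Ω) = p := by rw [Subgroup.orderOf_coe]; exact hc
  obtain ⟨k, hk⟩ := cycleType_prime_order (σ := (c : Perm Ω)) (by rw [hc']; exact hp)
  rw [hc'] at hk
  have hsum := sum_cycleType_le (c : Perm Ω)
  rw [hk, Multiset.sum_replicate, smul_eq_mul, hcard] at hsum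
  have hk0 : k = 0 := by
    by_contra hk0
    have : 2 * p ≤ (k + 1) * p := Nat.mul_le_mul_right _ (by omega)
    omega
  subst hk0
  have hsupp : (c : Perm Ω).support.card = p := by
    rw [← sum_cycleType, hk]; simp
  have hcompl : ((c : Perm Ω).support)ᶜ.card = 1 := by
    rw [Finset.card_compl, hsupp, hcard]; omega
  obtain ⟨z, hz⟩ := Finset.card_eq_one.1 hcompl
  have hzs : z ∉ (c : Perm Ω).support := by
    have : z ∈ ((c : Perm Ω).support)ᶜ := by rw [hz]; exact Finset.mem_singleton_self z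
    exact Finset.mem_compl.1 this
  -- normality of ⟨c⟩ in H
  let Z : Subgroup H := Subgroup.zpowers c
  have hZc : Nat.card Z = p := by rw [Nat.card_zpowers]; exact hc
  have hZi : Z.index = (p - 1).factorial := by
    have h1 := Subgroup.card_mul_index Z
    rw [hZc, hcH] at h1
    obtain ⟨q, rfl⟩ : ∃ q, p = q + 1 := ⟨p - 1, by omega⟩
    rw [Nat.factorial_succ] at h1
    simp only [Nat.add_sub_cancel]
    exact Nat.eq_of_mul_eq_mul_left (by omega) h1
  have hZn : Z.Normal := by
    have h0 : Z.index ≠ 0 := Subgroup.index_ne_zero_of_finite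
    have h12 : Z.index = 1 ∨ Z.index = 2 := by omega
    rcases h12 with h1 | h2
    · rw [Subgroup.index_eq_one.1 h1]; infer_instance
    · exact Subgroup.normal_of_index_eq_two h2
  refine ⟨z, ?_⟩
  intro h hh
  rw [MulAction.mem_stabilizer_iff, Equiv.Perm.smul_def]
  have hconj : (⟨h, hh⟩ : H) * c * (⟨h, hh⟩ : H)⁻¹ ∈ Z :=
    hZn.conj_mem c (Subgroup.mem_zpowers c) _
  obtain ⟨i, hi⟩ := Subgroup.mem_zpowers_iff.1 hconj
  have hi' : (c : Perm Ω) ^ i = h * (c : Perm Ω) * h⁻¹ := by
    have := congrArg (Subtype.val) hi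
    simpa using this
  have hsub : ((c : Perm Ω).support).map h.toEmbedding ⊆ (c : Perm Ω).support := by
    rw [← support_conj, ← hi']
    exact support_zpow_le _ _
  have heq : ((c : Perm Ω).support).map h.toEmbedding = (c : Perm Ω).support :=
    Finset.eq_of_subset_of_card_le hsub (by rw [Finset.card_map])
  have h3 : h z ∉ (c : Perm Ω).support := by
    intro h4
    rw [← heq, Finset.mem_map] at h4
    obtain ⟨y, hy, hyz⟩ := h4
    have : y = z := h.injective hyz
    exact hzs (this ▸ hy)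
  have h5 : h z ∈ ((c : Perm Ω).support)ᶜ := Finset.mem_compl.2 h3
  rw [hz, Finset.mem_singleton] at h5
  exact h5

theorem main (h6 : Fintype.card Ω ≠ 6)
    (H : Subgroup (Equiv.Perm Ω)) (hH : H.index = Fintype.card Ω) :
    ∃ x : Ω, H = MulAction.stabilizer (Equiv.Perm Ω) x := by
  classical
  have hfin : ∀ x : Ω, H ≤ MulAction.stabilizer (Equiv.Perm Ω) x →
      H = MulAction.stabilizer (Equiv.Perm Ω) x :=
    fun x hx => eq_of_le_of_index_eq _ _ hx (by rw [hH, index_stabilizer_eq])
  suffices h : ∃ x : Ω, H ≤ MulAction.stabilizer (Equiv.Perm Ω) x by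
    obtain ⟨x, hx⟩ := h
    exact ⟨x, hfin x hx⟩
  by_cases hn : 5 ≤ Fintype.card Ω
  · have hcore : H.normalCore = ⊥ := by
      by_contra hne
      haveI : Nontrivial H.normalCore := (Subgroup.nontrivial_iff_ne_bot _).2 hne
      have h1 : alternatingGroup Ω ≤ H.normalCore :=
        Equiv.Perm.alternatingGroup_le_of_normal
          (by rw [Nat.card_eq_fintype_card]; exact hn) this
      have h2 : alternatingGroup Ω ≤ H := h1.trans (Subgroup.normalCore_le H)
      have h3 := Subgroup.index_dvd_of_le h2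
      haveI : Nontrivial Ω := Fintype.one_lt_card_iff_nontrivial.1 (by omega)
      rw [alternatingGroup.index_eq_two, hH] at h3
      have := Nat.le_of_dvd (by norm_num) h3
      omega
    exact exists_fixed (by omega) h6 H hH hcore
  · push_neg at hn
    have h0 : H.index ≠ 0 := Subgroup.index_ne_zero_of_finite
    have hpos : 0 < Fintype.card Ω := by omega
    haveI : Nonempty Ω := Fintype.card_pos_iff.1 hpos
    obtain ⟨x₁⟩ := ‹Nonempty Ω›
    have hcases : Fintype.card Ω = 1 ∨ Fintype.card Ω = 2 ∨ Fintype.card Ω = 3 ∨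
        Fintype.card Ω = 4 := by omega
    rcases hcases with h1 | h2 | h3 | h4
    · haveI : Subsingleton Ω := Fintype.card_le_one_iff_subsingleton.1 (by omega)
      refine ⟨x₁, fun g _ => ?_⟩
      rw [MulAction.mem_stabilizer_iff]
      exact Subsingleton.elim _ _
    · have hc := Subgroup.card_mul_index H
      rw [hH, Nat.card_eq_fintype_card (α := Perm Ω), Fintype.card_perm, h2] at hc
      have hc1 : Nat.card H = 1 := by
        simp only [Nat.factorial] at hc
        omega
      rw [Subgroup.card_eq_one] at hc1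
      exact ⟨x₁, hc1 ▸ bot_le⟩
    · exact small_prime 2 Nat.prime_two h3 H (by rw [hH, h3]) (by decide)
    · exact small_prime 3 Nat.prime_three h4 H (by rw [hH, h4]) (by decide)

end Main

end Cfsg.Agent.Lead.SymIndex
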