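import Cfsg.Agent.Lib.Lead.SymIndex
import Mathlib

set_option autoImplicit false
set_option linter.style.haveILetI false
set_option linter.unusedVariables false

/-! The two classes of index-6 subgroups of the symmetric group of degree 6. -/

namespace Cfsg.Agent.Lead.SymIndex

open Equiv Equiv.Perm

section Inner

variable {Ω : Type*} [Fintype Ω] [DecidableEq Ω]

lemma eq_of_stabilizer_le (hn : 3 ≤ Fintype.card Ω) (a b : Ω)
    (h : MulAction.stabilizer (Perm Ω) a ≤ MulAction.stabilizer (Perm Ω) b) : a = b := by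
  by_contra hab
  obtain ⟨c, hc⟩ : ∃ c, c ≠ a ∧ c ≠ b := by
    by_contra hno
    push_neg at hno
    have hsub : (Finset.univ : Finset Ω) ⊆ {a, b} := by
      intro c _
      by_cases hca : c = a
      · simp [hca]
      · simp [hno c hca]
    have h1 := Finset.card_le_card hsub
    rw [Finset.card_univ] at h1
    have h2 : ({a, b} : Finset Ω).card ≤ 2 := Finset.card_le_two
    omega
  have h1 : swap b c ∈ MulAction.stabilizer (Perm Ω) a := by
    rw [MulAction.mem_stabilizer_iff, Equiv.Perm.smul_def]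
    exact swap_apply_of_ne_of_ne hab hc.1.symm
  have h2 := h h1
  rw [MulAction.mem_stabilizer_iff, Equiv.Perm.smul_def, swap_apply_left] at h2
  exact hc.2 h2

theorem inner_of_swaps (hn : 4 ≤ Fintype.card Ω) (δ : Perm Ω ≃* Perm Ω)
    (hδ : ∀ t : Perm Ω, t.IsSwap → (δ t).IsSwap) :
    ∃ τ : Perm Ω, ∀ g, δ g = τ⁻¹ * g * τ := by
  classical
  have key : ∀ y : Ω, ∃ z : Ω, ∀ g : Perm Ω, δ g y = y ↔ g z = z := by
    intro y
    let Hy : Subgroup (Perm Ω) := (MulAction.stabilizer (Perm Ω) y).comap δ.toMonoidHom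
    have hmem : ∀ g, g ∈ Hy ↔ δ.toMonoidHom g y = y := fun g => by
      show δ.toMonoidHom g ∈ MulAction.stabilizer (Perm Ω) y ↔ _
      rw [MulAction.mem_stabilizer_iff, Equiv.Perm.smul_def]
    have hidx : Hy.index = Fintype.card Ω := by
      rw [Subgroup.index_comap_of_surjective _ δ.surjective, index_stabilizer_eq]
    have htop : Hy ≠ ⊤ := by
      intro h
      rw [h, Subgroup.index_top] at hidx
      omega
    obtain ⟨z, hz⟩ := fixed_of_swaps hn rfl Hy htop δ.toMonoidHom δ.injective y hmem hδ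
    have heq := eq_of_le_of_index_eq _ _ hz (by rw [hidx, index_stabilizer_eq])
    refine ⟨z, fun g => ?_⟩
    have := hmem g
    rw [heq, MulAction.mem_stabilizer_iff, Equiv.Perm.smul_def] at this
    exact this.symm
  choose τ hτ using key
  have hequiv : ∀ (g : Perm Ω) (y : Ω), τ (δ g y) = g (τ y) := by
    intro g y
    apply eq_of_stabilizer_le (by omega)
    intro k hk
    rw [MulAction.mem_stabilizer_iff, Equiv.Perm.smul_def] at hk ⊢
    have h1 : δ k (δ g y) = δ g y := (hτ (δ g y) k).2 hk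
    have h2 : δ (g⁻¹ * k * g) y = y := by
      rw [map_mul, map_mul, map_inv, Perm.mul_apply, Perm.mul_apply, h1]
      simp
    have h3 := (hτ y (g⁻¹ * k * g)).1 h2
    rw [Perm.mul_apply, Perm.mul_apply] at h3
    have h4 := congrArg g h3
    simpa using h4
  have hinj : Function.Injective τ := by
    intro y y' hyy
    apply eq_of_stabilizer_le (by omega)
    intro k hk
    rw [MulAction.mem_stabilizer_iff, Equiv.Perm.smul_def] at hk ⊢
    obtain ⟨g, rfl⟩ := δ.surjective k
    have h1 := (hτ y g).1 hk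
    rw [hyy] at h1
    exact (hτ y' g).2 h1
  have hbij : Function.Bijective τ := Finite.injective_iff_bijective.1 hinj
  refine ⟨Equiv.ofBijective τ hbij, fun g => ?_⟩
  ext y
  rw [Perm.mul_apply, Perm.mul_apply]
  have h1 : (Equiv.ofBijective τ hbij) y = τ y := rfl
  rw [h1, ← hequiv g y]
  have h2 : τ (δ g y) = (Equiv.ofBijective τ hbij) (δ g y) := rfl
  rw [h2]
  simp

end Inner

section Six

variable {Ω : Type*} [Fintype Ω] [DecidableEq Ω]

lemma card_centralizer_mulEquiv {G G' : Type*} [Group G] [Group G'] (e : G ≃* G') (t : G) :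
    Nat.card (Subgroup.centralizer {e t}) = Nat.card (Subgroup.centralizer {t}) := by
  have hmap : Subgroup.centralizer {e t} = (Subgroup.centralizer {t}).map e.toMonoidHom := by
    ext y
    rw [Subgroup.mem_map, Subgroup.mem_centralizer_singleton_iff]
    constructor
    · intro hy
      obtain ⟨g, rfl⟩ := e.surjective y
      refine ⟨g, ?_, rfl⟩
      rw [Subgroup.mem_centralizer_singleton_iff]
      apply e.injective
      rw [map_mul, map_mul]
      exact hy
    · rintro ⟨g, hg, rfl⟩
      rw [Subgroup.mem_centralizer_singleton_iff] at hg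
      show e g * e t = e t * e g
      rw [← map_mul, ← map_mul, hg]
  rw [hmap]
  exact Subgroup.card_map_of_injective e.injective

lemma swap_or_triple (h6 : Fintype.card Ω = 6) (α : Perm Ω ≃* Perm Ω) (t : Perm Ω)
    (ht : t.IsSwap) : (α t).IsSwap ∨ (α t).cycleType = {2, 2, 2} := by
  have hord : orderOf (α t) = 2 := by rw [MulEquiv.orderOf_eq]; exact ht.orderOf
  obtain ⟨k, hk⟩ := cycleType_prime_order (σ := α t) (by rw [hord]; exact Nat.prime_two)
  rw [hord] at hk
  have hc := card_centralizer_mulEquiv α t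
  rw [nat_card_centralizer, nat_card_centralizer, hk, isSwap_iff_cycleType.mp ht] at hc
  have e1 : (Multiset.replicate (k + 1) 2).toFinset = {2} := by
    rw [Multiset.toFinset_replicate, if_neg (by omega)]
  rw [Multiset.sum_replicate, Multiset.prod_replicate, e1, Finset.prod_singleton,
    Multiset.count_replicate_self, h6] at hc
  simp only [Multiset.sum_singleton, Multiset.prod_singleton, Multiset.toFinset_singleton,
    Finset.prod_singleton, Multiset.count_singleton_self, Nat.factorial_one, mul_one,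
    smul_eq_mul] at hc
  have hsum : (k + 1) * 2 ≤ 6 := by
    have := sum_cycleType_le (α t)
    rw [hk, Multiset.sum_replicate, smul_eq_mul, h6] at this
    exact this
  have hk3 : k ≤ 2 := by omega
  interval_cases k
  · left
    rw [isSwap_iff_cycleType, hk]
    rfl
  · exfalso
    revert hc
    decide
  · right
    rw [hk]
    rfl

lemma swap_conj (t t' : Perm Ω) (ht : t.IsSwap) (ht' : t'.IsSwap) :
    ∃ c : Perm Ω, c * t * c⁻¹ = t' := by
  have : IsConj t t' := by
    rw [isConj_iff_cycleType_eq, isSwap_iff_cycleType.mp ht, isSwap_iff_cycleType.mp ht']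
  exact isConj_iff.1 this

lemma cycleType_map_conj (α : Perm Ω ≃* Perm Ω) (c t : Perm Ω) :
    (α (c * t * c⁻¹)).cycleType = (α t).cycleType := by
  rw [map_mul, map_mul, map_inv, cycleType_conj]

/-- an automorphism sending swaps to triple transpositions. -/
def Exotic (α : Perm Ω ≃* Perm Ω) : Prop :=
  ∀ t : Perm Ω, t.IsSwap → (α t).cycleType = {2, 2, 2}

lemma dichotomy (h6 : Fintype.card Ω = 6) (α : Perm Ω ≃* Perm Ω) :
    (∀ t : Perm Ω, t.IsSwap → (α t).IsSwap) ∨ Exotic α := by
  obtain ⟨a, b, hab⟩ := Fintype.one_lt_card_iff.1 (show 1 < Fintype.card Ω by omega)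
  have ht₀ : (swap a b).IsSwap := ⟨a, b, hab, rfl⟩
  rcases swap_or_triple h6 α (swap a b) ht₀ with h | h
  · left
    intro t ht
    obtain ⟨c, rfl⟩ := swap_conj (swap a b) t ht₀ ht
    rw [isSwap_iff_cycleType, cycleType_map_conj]
    exact isSwap_iff_cycleType.1 h
  · right
    intro t ht
    obtain ⟨c, rfl⟩ := swap_conj (swap a b) t ht₀ ht
    rw [cycleType_map_conj]
    exact h

lemma exotic_surj (h6 : Fintype.card Ω = 6) (α : Perm Ω ≃* Perm Ω) (hα : Exotic α)
    (u : Perm Ω) (hu : u.cycleType = {2, 2, 2}) : ∃ s : Perm Ω, s.IsSwap ∧ α s = u := by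
  obtain ⟨a, b, hab⟩ := Fintype.one_lt_card_iff.1 (show 1 < Fintype.card Ω by omega)
  have ht₀ : (swap a b).IsSwap := ⟨a, b, hab, rfl⟩
  have h0 := hα _ ht₀
  have hconj : IsConj (α (swap a b)) u := by
    rw [isConj_iff_cycleType_eq, h0, hu]
  obtain ⟨c, hc⟩ := isConj_iff.1 hconj
  obtain ⟨d, rfl⟩ := α.surjective c
  refine ⟨d * swap a b * d⁻¹, ?_, ?_⟩
  · rw [isSwap_iff_cycleType, cycleType_conj]
    exact isSwap_iff_cycleType.1 ht₀
  · rw [map_mul, map_mul, map_inv]
    exact hc

lemma core_eq_bot (hn : 5 ≤ Fintype.card Ω) (H : Subgroup (Perm Ω))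
    (hH : H.index = Fintype.card Ω) : H.normalCore = ⊥ := by
  by_contra hne
  haveI : Nontrivial H.normalCore := (Subgroup.nontrivial_iff_ne_bot _).2 hne
  have h1 : alternatingGroup Ω ≤ H.normalCore :=
    Equiv.Perm.alternatingGroup_le_of_normal
      (by rw [Nat.card_eq_fintype_card]; exact hn) this
  have h2 : alternatingGroup Ω ≤ H := h1.trans (Subgroup.normalCore_le H)
  have h3 := Subgroup.index_dvd_of_le h2
  haveI : Nontrivial Ω := Fintype.one_lt_card_iff_nontrivial.1 (by omega)
  rw [alternatingGroup.index_eq_two, hH] at h3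
  have := Nat.le_of_dvd (by norm_num) h3
  omega

theorem exists_aut (hn : 5 ≤ Fintype.card Ω) (H : Subgroup (Perm Ω))
    (hH : H.index = Fintype.card Ω) :
    ∃ (α : Perm Ω ≃* Perm Ω) (x : Ω), ∀ g : Perm Ω, g ∈ H ↔ α g x = x := by
  classical
  have hcore := core_eq_bot hn H hH
  let X := Perm Ω ⧸ H
  haveI : Fintype X := Fintype.ofFinite X
  have hX : Fintype.card X = Fintype.card Ω := by
    rw [← Nat.card_eq_fintype_card]; exact hH
  let ψ : Perm Ω →* Perm X := MulAction.toPermHom (Perm Ω) X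
  have hker : ψ.ker = ⊥ := by rw [← hcore]; exact (Subgroup.normalCore_eq_ker H).symm
  have hinj : Function.Injective ψ := (MonoidHom.ker_eq_bot_iff ψ).1 hker
  have hbij : Function.Bijective ψ := by
    rw [Fintype.bijective_iff_injective_and_card]
    exact ⟨hinj, by rw [Fintype.card_perm, Fintype.card_perm, hX]⟩
  let x₀ : X := ((1 : Perm Ω) : Perm Ω ⧸ H)
  have hstab : ∀ g : Perm Ω, g ∈ H ↔ ψ g x₀ = x₀ := by
    intro g
    show g ∈ H ↔ g • x₀ = x₀
    rw [← MulAction.mem_stabilizer_iff, MulAction.stabilizer_quotient]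
  let e : X ≃ Ω := Fintype.equivOfCardEq hX
  refine ⟨(MulEquiv.ofBijective ψ hbij).trans e.permCongrHom, e x₀, fun g => ?_⟩
  rw [hstab g]
  show ψ g x₀ = x₀ ↔ e.permCongr (ψ g) (e x₀) = e x₀
  rw [Equiv.permCongr_apply, Equiv.symm_apply_apply]
  exact ⟨fun h => by rw [h], fun h => e.injective h⟩

theorem six_classify (h6 : Fintype.card Ω = 6) (H₂ : Subgroup (Perm Ω)) (hH₂ : H₂.index = 6)
    (hH₂t : ∀ x : Ω, ¬ H₂ ≤ MulAction.stabilizer (Perm Ω) x) (x₁ : Ω)
    (H : Subgroup (Perm Ω)) (hH : H.index = 6) :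
    ∃ g : Perm Ω, (MulAction.stabilizer (Perm Ω) x₁).map (MulAut.conj g).toMonoidHom = H ∨
      H₂.map (MulAut.conj g).toMonoidHom = H := by
  classical
  have hHtop : ∀ K : Subgroup (Perm Ω), K.index = 6 → K ≠ ⊤ := by
    intro K hK h
    rw [h, Subgroup.index_top] at hK
    omega
  obtain ⟨α, x, hα⟩ := exists_aut (by omega) H (by rw [hH, h6])
  obtain ⟨α₂, x₂, hα₂⟩ := exists_aut (by omega) H₂ (by rw [hH₂, h6])
  have hα₂ex : Exotic α₂ := by
    rcases dichotomy h6 α₂ with h | h
    · exfalso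
      obtain ⟨z, hz⟩ := fixed_of_swaps (by omega) rfl H₂ (hHtop H₂ hH₂) α₂.toMonoidHom
        α₂.injective x₂ hα₂ h
      exact hH₂t z hz
    · exact h
  rcases dichotomy h6 α with h | hαex
  · -- H is a point stabilizer
    obtain ⟨z, hz⟩ := fixed_of_swaps (by omega) rfl H (hHtop H hH) α.toMonoidHom
      α.injective x hα h
    have heq := eq_of_le_of_index_eq _ _ hz (by rw [hH, index_stabilizer_eq, h6])
    refine ⟨swap x₁ z, Or.inl ?_⟩
    rw [heq, ← MulAction.stabilizer_smul_eq_stabilizer_map_conj, Equiv.Perm.smul_def,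
      swap_apply_left]
  · -- both exotic
    have hγ : ∀ t : Perm Ω, t.IsSwap → ((α₂.trans α.symm) t).IsSwap := by
      intro t ht
      obtain ⟨s, hs, hsu⟩ := exotic_surj h6 α hαex (α₂ t) (hα₂ex t ht)
      show (α.symm (α₂ t)).IsSwap
      rw [← hsu, MulEquiv.symm_apply_apply]
      exact hs
    obtain ⟨τ, hτ⟩ := inner_of_swaps (by omega) (α₂.trans α.symm) hγ
    have hτ' : ∀ g, α.symm (α₂ g) = τ⁻¹ * g * τ := hτ
    -- x₂ = c x
    let c : Perm Ω := swap x x₂
    have hc : c x = x₂ := swap_apply_left x x₂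
    let d : Perm Ω := α.symm c
    have hd : α d = c := MulEquiv.apply_symm_apply α c
    -- membership in H₂
    have hmem : ∀ g : Perm Ω, g ∈ H₂ ↔ (τ * d)⁻¹ * g * (τ * d) ∈ H := by
      intro g
      rw [hα₂ g, hα]
      have e1 : α ((τ * d)⁻¹ * g * (τ * d)) = c⁻¹ * α₂ g * c := by
        have : (τ * d)⁻¹ * g * (τ * d) = d⁻¹ * (τ⁻¹ * g * τ) * d := by group
        rw [this, ← hτ' g, map_mul, map_mul, map_inv, hd, MulEquiv.apply_symm_apply]
      rw [e1, ← hc, Perm.mul_apply, Perm.mul_apply]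
      constructor
      · intro h1
        rw [h1]
        simp
      · intro h1
        have := congrArg c h1
        simpa using this
    refine ⟨(τ * d)⁻¹, Or.inr ?_⟩
    ext k
    rw [Subgroup.mem_map_equiv, MulAut.conj_symm_apply, hmem]
    have : (τ * d)⁻¹ * ((τ * d)⁻¹⁻¹ * k * (τ * d)⁻¹) * (τ * d) = k := by group
    rw [this]

theorem exists_exotic (h6 : Fintype.card Ω = 6) :
    ∃ H₂ : Subgroup (Perm Ω), H₂.index = 6 ∧
      ∀ x : Ω, ¬ H₂ ≤ MulAction.stabilizer (Perm Ω) x := by
  classical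
  haveI : Fact (Nat.Prime 5) := ⟨by norm_num⟩
  let S := Perm (Fin 5)
  let Y := Sylow 5 S
  haveI : Fintype Y := Fintype.ofFinite Y
  have hS : Nat.card S = 120 := by
    rw [Nat.card_eq_fintype_card, Fintype.card_perm, Fintype.card_fin]
    rfl
  have hA : Nat.card (alternatingGroup (Fin 5)) = 60 := by
    have := two_mul_nat_card_alternatingGroup (α := Fin 5)
    rw [hS] at this
    omega
  have hnorm : ∀ N : Subgroup S, N.Normal → N ≠ ⊥ → 60 ≤ Nat.card N := by
    intro N hN hne
    haveI := hN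
    haveI : Nontrivial N := (Subgroup.nontrivial_iff_ne_bot _).2 hne
    have h1 : alternatingGroup (Fin 5) ≤ N :=
      Equiv.Perm.alternatingGroup_le_of_normal (by simp) this
    calc 60 = Nat.card (alternatingGroup (Fin 5)) := hA.symm
      _ ≤ Nat.card N := Subgroup.card_le_of_le h1
  obtain ⟨P⟩ : Nonempty Y := inferInstance
  have hPc : Nat.card P = 5 := by
    rw [Sylow.card_eq_multiplicity, hS]
    have : (120 : ℕ).factorization 5 = 1 := by
      rw [show (120 : ℕ) = 5 ^ 1 * 24 by norm_num,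
        Nat.factorization_mul (by norm_num) (by norm_num)]
      simp [Nat.Prime.factorization_self (show Nat.Prime 5 by norm_num),
        Nat.factorization_eq_zero_of_not_dvd (show ¬ 5 ∣ 24 by norm_num)]
    rw [this, pow_one]
  have hPne : (P : Subgroup S) ≠ ⊥ := by
    intro h
    rw [h, Subgroup.card_bot] at hPc
    omega
  have hPi : (P : Subgroup S).index = 24 := by
    have := Subgroup.card_mul_index (P : Subgroup S)
    rw [hPc, hS] at this
    omega
  have hY : Nat.card Y = 6 := by
    have hdvd : Nat.card Y ∣ 24 := hPi ▸ Sylow.card_dvd_index P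
    have hmod : Nat.card Y % 5 = 1 := card_sylow_modEq_one 5 S
    have hle : Nat.card Y ≤ 24 := Nat.le_of_dvd (by norm_num) hdvd
    have h16 : Nat.card Y = 1 ∨ Nat.card Y = 6 := by
      generalize Nat.card Y = n at *
      interval_cases n <;> omega
    rcases h16 with h1 | h6'
    · exfalso
      haveI : Subsingleton Y := (Nat.card_eq_one_iff_unique.1 h1).1
      have hn : (P : Subgroup S).Normal := Sylow.normal_of_subsingleton P
      have := hnorm _ hn hPne
      omega
    · exact h6'
  have hYf : Fintype.card Y = 6 := by rw [← Nat.card_eq_fintype_card]; exact hY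
  let ρ : S →* Perm Y := MulAction.toPermHom S Y
  have hρinj : Function.Injective ρ := by
    rw [← MonoidHom.ker_eq_bot_iff]
    by_contra hne
    have h1 := hnorm ρ.ker inferInstance hne
    have h2 : ρ.ker ≤ Subgroup.normalizer (P : Set S) := by
      intro g hg
      rw [← Sylow.stabilizer_eq_normalizer, MulAction.mem_stabilizer_iff]
      have : ρ g = 1 := hg
      have h3 : ρ g P = P := by rw [this]; rfl
      exact h3
    have h3 := Subgroup.card_le_of_le h2
    have h4 : (Subgroup.normalizer (P : Set S)).index = 6 := by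
      rw [← Sylow.card_eq_index_normalizer, hY]
    have h5 := Subgroup.card_mul_index (Subgroup.normalizer (P : Set S))
    rw [h4, hS] at h5
    omega
  let e : Y ≃ Ω := Fintype.equivOfCardEq (hYf.trans h6.symm)
  let ρ' : S →* Perm Ω := e.permCongrHom.toMonoidHom.comp ρ
  have hρ'inj : Function.Injective ρ' := fun a b hab => hρinj (e.permCongrHom.injective hab)
  have hρ'app : ∀ (g : S) (Q : Y), ρ' g (e Q) = e (g • Q) := by
    intro g Q
    show e.permCongr (ρ g) (e Q) = e (g • Q)
    rw [Equiv.permCongr_apply, Equiv.symm_apply_apply]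
    rfl
  refine ⟨ρ'.range, ?_, ?_⟩
  · have h1 : Nat.card ρ'.range = 120 := by
      rw [← hS]
      exact Nat.card_congr (MonoidHom.ofInjective hρ'inj).toEquiv.symm
    have h2 := Subgroup.card_mul_index ρ'.range
    rw [h1, Nat.card_eq_fintype_card (α := Perm Ω), Fintype.card_perm, h6] at h2
    have : (6 : ℕ).factorial = 720 := rfl
    omega
  · intro x hle
    -- Q := e.symm x is fixed by all of S
    let Q : Y := e.symm x
    have hfix : ∀ g : S, g • Q = Q := by
      intro g
      have h1 : ρ' g ∈ MulAction.stabilizer (Perm Ω) x := hle ⟨g, rfl⟩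
      rw [MulAction.mem_stabilizer_iff, Equiv.Perm.smul_def] at h1
      have h2 := hρ'app g Q
      rw [show e Q = x from e.apply_symm_apply x, h1] at h2
      have h3 : e.symm x = g • Q := by rw [h2, Equiv.symm_apply_apply]
      exact h3.symm
    obtain ⟨Q', hQ'⟩ : ∃ Q' : Y, Q' ≠ Q := by
      by_contra hno
      push_neg at hno
      have : Fintype.card Y ≤ 1 := Fintype.card_le_one_iff.2 (fun a b => (hno a).trans (hno b).symm)
      omega
    obtain ⟨g, hg⟩ := MulAction.exists_smul_eq S Q Q'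
    exact hQ' (hg ▸ hfix g)

theorem six_main (h6 : Fintype.card Ω = 6) :
    ∃ H₁ H₂ : Subgroup (Equiv.Perm Ω), H₁.index = 6 ∧ H₂.index = 6 ∧
      (¬ ∃ g : Equiv.Perm Ω, Subgroup.map (MulAut.conj g).toMonoidHom H₁ = H₂) ∧
      ∀ H : Subgroup (Equiv.Perm Ω), H.index = 6 →
        ∃ g : Equiv.Perm Ω, Subgroup.map (MulAut.conj g).toMonoidHom H₁ = H ∨
          Subgroup.map (MulAut.conj g).toMonoidHom H₂ = H := by
  classical
  obtain ⟨H₂, hH₂, hH₂t⟩ := exists_exotic h6
  haveI : Nonempty Ω := Fintype.card_pos_iff.1 (by omega)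
  obtain ⟨x₁⟩ := ‹Nonempty Ω›
  refine ⟨MulAction.stabilizer (Perm Ω) x₁, H₂, ?_, hH₂, ?_, ?_⟩
  · rw [index_stabilizer_eq, h6]
  · rintro ⟨g, hg⟩
    rw [← MulAction.stabilizer_smul_eq_stabilizer_map_conj] at hg
    exact hH₂t (g • x₁) (le_of_eq hg.symm)
  · intro H hH
    exact six_classify h6 H₂ hH₂ hH₂t x₁ H hH

end Six

end Cfsg.Agent.Lead.SymIndex
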