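import Mathlib
import Cfsg.Agent.Lib.Lead.SymIndex6

set_option autoImplicit false
set_option linter.unusedVariables false

/-! Counting the subgroups of index 6 of the symmetric group of degree 6. -/

namespace Cfsg.Agent.Lead.SymIndex

open Equiv Equiv.Perm

variable {Ω : Type*} [Fintype Ω] [DecidableEq Ω]

/-- a point stabilizer of the symmetric group is the symmetric group on the other points -/
noncomputable def stabEquiv (x : Ω) :
    MulAction.stabilizer (Perm Ω) x ≃* Perm {y : Ω // y ≠ x} := by
  have hinj : Function.Injective (Perm.ofSubtype (p := fun y : Ω => y ≠ x)) :=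
    Perm.ofSubtype_injective
  have hrange : (Perm.ofSubtype (p := fun y : Ω => y ≠ x)).range =
      MulAction.stabilizer (Perm Ω) x := by
    ext g
    rw [MonoidHom.mem_range, MulAction.mem_stabilizer_iff, Perm.smul_def]
    constructor
    · rintro ⟨f, rfl⟩
      exact Perm.ofSubtype_apply_of_not_mem f (by simp)
    · intro hg
      have h₁ : ∀ y : Ω, g y ≠ x ↔ y ≠ x := by
        intro y
        constructor
        · intro h hy
          apply h
          rw [hy, hg]
        · intro h hy
          apply h
          apply g.injective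
          rw [hy, hg]
      refine ⟨g.subtypePerm h₁, Perm.ofSubtype_subtypePerm h₁ ?_⟩
      intro y hy hyx
      apply hy
      rw [hyx, hg]
  exact ((MonoidHom.ofInjective hinj).trans (MulEquiv.subgroupCongr hrange)).symm

/-- the normalizer-type property of a subgroup of index `n` obtained from an automorphism. -/
lemma mem_of_conj_eq (hn : 3 ≤ Fintype.card Ω) (H : Subgroup (Perm Ω))
    (α : Perm Ω ≃* Perm Ω) (x : Ω) (hα : ∀ g : Perm Ω, g ∈ H ↔ α g x = x)
    (n : Perm Ω) (hn' : ∀ g : Perm Ω, g ∈ H ↔ n * g * n⁻¹ ∈ H) : n ∈ H := by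
  rw [hα]
  have h1 : MulAction.stabilizer (Perm Ω) ((α n)⁻¹ x) ≤ MulAction.stabilizer (Perm Ω) x := by
    intro h hh
    rw [MulAction.mem_stabilizer_iff, Perm.smul_def] at hh ⊢
    obtain ⟨g, rfl⟩ := α.surjective h
    rw [← hα, hn', hα, map_mul, map_mul, map_inv, Perm.mul_apply, Perm.mul_apply, hh]
    simp
  have := eq_of_stabilizer_le hn _ _ h1
  calc α n x = α n ((α n)⁻¹ x) := by rw [this]
    _ = x := by simp

end Cfsg.Agent.Lead.SymIndex
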