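import Mathlib
import Cfsg.Agent.Lib.Lead.NFour

/-!
Abstract facts about a finite 2-group of symplectic type and exponent dividing 4 (author: lead):
nilpotency class at most 2, commutators are central of square 1, at most one central involution.
-/

set_option autoImplicit false
open scoped commutatorElement

namespace Cfsg.Agent.Lib.Lead.SympAbs

variable {T : Type*} [Group T]

theorem pow_four_mul (h4 : ∀ t : T, t ^ 4 = 1) (w x : T) : w * (w * (w * (w * x))) = x := by
  have h : w * (w * (w * w)) = 1 := by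
    have := h4 w
    simpa [pow_succ, mul_assoc] using this
  calc w * (w * (w * (w * x))) = (w * (w * (w * w))) * x := by simp only [mul_assoc]
    _ = x := by rw [h, one_mul]

/-- Lemma X when `a`, `b` both centralize the commutator. -/
theorem lemX_cc (h4 : ∀ t : T, t ^ 4 = 1) (a b w : T) (hw : w = a * b * a⁻¹ * b⁻¹)
    (ha : a * w = w * a) (hb : b * w = w * b) : w * w = 1 := by
  have e1 : a * b = w * (b * a) := by rw [hw]; group
  have e1' : ∀ x, a * (b * x) = w * (b * (a * x)) := fun x => by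
    rw [← mul_assoc, e1]; simp only [mul_assoc]
  have e2' : ∀ x, a * (w * x) = w * (a * x) := fun x => by
    rw [← mul_assoc, ha, mul_assoc]
  have e3' : ∀ x, b * (w * x) = w * (b * x) := fun x => by
    rw [← mul_assoc, hb, mul_assoc]
  have pa := pow_four_mul h4 a
  have pb := pow_four_mul h4 b
  have pw := pow_four_mul h4 w
  have hab := pow_four_mul h4 (a * b) 1
  simp only [mul_assoc, mul_one] at hab
  simp only [e1', e1, e2', e3'] at hab
  have pa1 : a * (a * (a * a)) = 1 := by simpa using pa 1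
  rw [pa1, pb, pw, pw, mul_one] at hab
  exact hab

/-- Lemma X when `a` centralizes and `b` inverts the commutator. -/
theorem lemX_ci (h4 : ∀ t : T, t ^ 4 = 1) (a b w : T) (hw : w = a * b * a⁻¹ * b⁻¹)
    (ha : a * w = w * a) (hb : b * w * b⁻¹ = w⁻¹) : w * w = 1 := by
  have pa := pow_four_mul h4 a
  have pb := pow_four_mul h4 b
  have pw := pow_four_mul h4 w
  have hwinv : w⁻¹ = w * (w * w) := by
    have := pw w⁻¹
    rw [mul_inv_cancel, mul_one] at this
    exact this.symm
  have hb0 : b * w = w * (w * (w * b)) := by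
    have : b * w = (b * w * b⁻¹) * b := by group
    rw [this, hb, hwinv]; simp only [mul_assoc]
  have e1 : a * b = w * (b * a) := by rw [hw]; group
  have e1' : ∀ x, a * (b * x) = w * (b * (a * x)) := fun x => by
    rw [← mul_assoc, e1]; simp only [mul_assoc]
  have e2' : ∀ x, a * (w * x) = w * (a * x) := fun x => by
    rw [← mul_assoc, ha, mul_assoc]
  have e3' : ∀ x, b * (w * x) = w * (w * (w * (b * x))) := fun x => by
    rw [← mul_assoc, hb0]; simp only [mul_assoc]
  have hab := pow_four_mul h4 (a * b) 1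
  simp only [mul_assoc, mul_one] at hab
  simp only [e1', e1, e2', e3', pw] at hab
  have pa1 : a * (a * (a * a)) = 1 := by simpa using pa 1
  rw [pa1, pb, mul_one] at hab
  exact hab

/-- Lemma X: in a group of exponent dividing 4, a commutator `w = [a,b]` that is centralized or
inverted by each of `a` and `b` has square 1. -/
theorem lemX (h4 : ∀ t : T, t ^ 4 = 1) (a b w : T) (hw : w = a * b * a⁻¹ * b⁻¹)
    (ha : a * w * a⁻¹ = w ∨ a * w * a⁻¹ = w⁻¹) (hb : b * w * b⁻¹ = w ∨ b * w * b⁻¹ = w⁻¹) :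
    w * w = 1 := by
  have cent : ∀ c : T, c * w * c⁻¹ = w → c * w = w * c := fun c h => by
    calc c * w = (c * w * c⁻¹) * c := by group
      _ = w * c := by rw [h]
  rcases ha with ha | ha <;> rcases hb with hb | hb
  · exact lemX_cc h4 a b w hw (cent a ha) (cent b hb)
  · exact lemX_ci h4 a b w hw (cent a ha) hb
  · -- swap roles
    have hw' : w⁻¹ = b * a * b⁻¹ * a⁻¹ := by rw [hw]; group
    have h1 : b * w⁻¹ = w⁻¹ * b := by
      have := cent b hb
      calc b * w⁻¹ = w⁻¹ * (w * b) * w⁻¹ := by group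
        _ = w⁻¹ * (b * w) * w⁻¹ := by rw [this]
        _ = w⁻¹ * b := by group
    have h2 : a * w⁻¹ * a⁻¹ = w⁻¹⁻¹ := by
      calc a * w⁻¹ * a⁻¹ = (a * w * a⁻¹)⁻¹ := by group
        _ = w⁻¹⁻¹ := by rw [ha]
    have := lemX_ci h4 b a w⁻¹ hw' h1 h2
    calc w * w = (w⁻¹ * w⁻¹)⁻¹ := by rw [mul_inv_rev, inv_inv]
      _ = 1 := by rw [this, inv_one]
  · -- replace `a` by `a * b`
    have hw' : w = (a * b) * b * (a * b)⁻¹ * b⁻¹ := by rw [hw]; group
    have h1 : (a * b) * w * (a * b)⁻¹ = w := by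
      calc (a * b) * w * (a * b)⁻¹ = a * (b * w * b⁻¹) * a⁻¹ := by group
        _ = a * w⁻¹ * a⁻¹ := by rw [hb]
        _ = (a * w * a⁻¹)⁻¹ := by group
        _ = w := by rw [ha, inv_inv]
    exact lemX_ci h4 (a * b) b w hw' (cent _ h1) hb

/-- Conjugation on a cyclic normal subgroup is a power map. -/
theorem conj_eq_zpow (L : Subgroup T) [hL : L.Normal] [IsCyclic L] (t w : T) (hw : w ∈ L) :
    ∃ m : ℤ, t * w * t⁻¹ = w ^ m := by
  obtain ⟨c, hc⟩ := IsCyclic.exists_generator (α := L)
  have hcL : t * (c : T) * t⁻¹ ∈ L := hL.conj_mem _ c.2 t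
  obtain ⟨j, hj⟩ := Subgroup.mem_zpowers_iff.mp (hc ⟨_, hcL⟩)
  obtain ⟨i, hi⟩ := Subgroup.mem_zpowers_iff.mp (hc ⟨w, hw⟩)
  have hj' : (c : T) ^ j = t * c * t⁻¹ := by
    have := congrArg Subtype.val hj
    simpa using this
  have hi' : (c : T) ^ i = w := by
    have := congrArg Subtype.val hi
    simpa using this
  refine ⟨j, ?_⟩
  rw [← hi', ← conj_zpow, ← hj', ← zpow_mul, ← zpow_mul, mul_comm]

theorem eq_one_of_conj_eq_one (t w : T) (h : t * w * t⁻¹ = 1) : w = 1 := by
  calc w = t⁻¹ * (t * w * t⁻¹) * t := by group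
    _ = 1 := by rw [h]; group

/-- In a group of exponent dividing 4, conjugation fixes or inverts each element of a cyclic normal
subgroup. -/
theorem conj_mem_pair (h4 : ∀ t : T, t ^ 4 = 1) (L : Subgroup T) [L.Normal] [IsCyclic L]
    (t w : T) (hw : w ∈ L) : t * w * t⁻¹ = w ∨ t * w * t⁻¹ = w⁻¹ := by
  obtain ⟨m, hm⟩ := conj_eq_zpow L t w hw
  have h4w : w ^ (4 : ℤ) = 1 := by exact_mod_cast h4 w
  have hmod : w ^ m = w ^ (m % 4) := by
    conv_lhs => rw [← Int.emod_add_mul_ediv m 4]
    rw [zpow_add, zpow_mul, h4w, one_zpow, mul_one]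
  have hr : m % 4 = 0 ∨ m % 4 = 1 ∨ m % 4 = 2 ∨ m % 4 = 3 := by omega
  rcases hr with h | h | h | h
  · rw [hmod, h, zpow_zero] at hm
    have : w = 1 := eq_one_of_conj_eq_one t w hm
    left; rw [this]; group
  · left; rw [hm, hmod, h, zpow_one]
  · rw [hmod, h] at hm
    have hsq : (t * w * t⁻¹) * (t * w * t⁻¹) = 1 := by
      rw [hm, ← zpow_add]; exact h4w
    have hw2 : w * w = 1 := by
      calc w * w = t⁻¹ * ((t * w * t⁻¹) * (t * w * t⁻¹)) * t := by group
        _ = 1 := by rw [hsq]; group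
    have h1 : t * w * t⁻¹ = 1 := by rw [hm, zpow_two]; exact hw2
    have : w = 1 := eq_one_of_conj_eq_one t w h1
    left; rw [this]; group
  · right
    rw [hm, hmod, h]
    have : w ^ (3 : ℤ) * w = 1 := by
      have h3 : w ^ (3 : ℤ) * w = w ^ (4 : ℤ) := by
        conv_lhs => rw [← zpow_one w, ← zpow_mul, ← zpow_add]
        norm_num
      rw [h3, h4w]
    exact eq_inv_of_mul_eq_one_left this

theorem isMulCommutative_of_commutator_eq_bot (K : Subgroup T) (h : ⁅K, K⁆ = ⊥) :
    IsMulCommutative K := by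
  rw [Subgroup.commutator_eq_bot_iff_le_centralizer] at h
  refine ⟨⟨fun a b => Subtype.ext ?_⟩⟩
  exact ((Subgroup.mem_centralizer_iff.mp (h a.2)) b b.2).symm

/-- A finite nilpotent group of exponent dividing 4 all of whose characteristic abelian subgroups
are cyclic has class at most 2. -/
theorem lcs_two [Finite T] (hnil : Group.IsNilpotent T) (h4 : ∀ t : T, t ^ 4 = 1)
    (cyc : ∀ A : Subgroup T, A.Characteristic → IsMulCommutative A → IsCyclic A) :
    ⁅⁅(⊤ : Subgroup T), (⊤ : Subgroup T)⁆, (⊤ : Subgroup T)⁆ = ⊥ := by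
  classical
  have hex := Subgroup.nilpotent_iff_lowerCentralSeries.mp hnil
  have hanti := Subgroup.lowerCentralSeries_antitone (⊤ : Subgroup T)
  obtain ⟨n, hn⟩ : ∃ n, n = Nat.find hex := ⟨_, rfl⟩
  have hn0 : (⊤ : Subgroup T).lowerCentralSeries n = ⊥ := by rw [hn]; exact Nat.find_spec hex
  by_cases hle : n ≤ 2
  · have := hanti hle
    rw [hn0] at this
    exact le_bot_iff.mp this
  · exfalso
    obtain ⟨m, hm⟩ : ∃ m, n = m + 3 := ⟨n - 3, by omega⟩
    have hmin : (⊤ : Subgroup T).lowerCentralSeries (m + 2) ≠ ⊥ :=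
      Nat.find_min hex (by omega)
    rw [hm] at hn0
    obtain ⟨K, hK⟩ : ∃ K, K = (⊤ : Subgroup T).lowerCentralSeries (m + 1) := ⟨_, rfl⟩
    have hK1 : ⁅K, (⊤ : Subgroup T)⁆ = (⊤ : Subgroup T).lowerCentralSeries (m + 2) := by rw [hK]; rfl
    have hK2 : ⁅⁅K, (⊤ : Subgroup T)⁆, (⊤ : Subgroup T)⁆ = ⊥ := by rw [hK1]; exact hn0
    have hKchar : K.Characteristic := by rw [hK]; infer_instance
    have hKle : K ≤ ⁅(⊤ : Subgroup T), (⊤ : Subgroup T)⁆ := by
      rw [hK]; exact hanti (show 1 ≤ m + 1 by omega)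
    have hKab : ⁅K, K⁆ = ⊥ := by
      have h1 : ⁅⁅(⊤ : Subgroup T), (⊤ : Subgroup T)⁆, K⁆ = ⊥ := by
        apply Subgroup.commutator_commutator_eq_bot_of_rotate
        · rw [Subgroup.commutator_comm ⊤ K]; exact hK2
        · exact hK2
      exact le_bot_iff.mp (h1 ▸ Subgroup.commutator_mono hKle le_rfl)
    have : IsMulCommutative K := isMulCommutative_of_commutator_eq_bot K hKab
    have : IsCyclic K := cyc K hKchar inferInstance
    have : K.Normal := inferInstance
    have hcomm : ∀ x ∈ K, ∀ y ∈ K, x * y = y * x := by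
      intro x hx y hy
      rw [Subgroup.commutator_eq_bot_iff_le_centralizer] at hKab
      exact ((Subgroup.mem_centralizer_iff.mp (hKab hx)) y hy).symm
    have hgen : ∀ p ∈ (⊤ : Subgroup T).lowerCentralSeries m, ∀ q : T, ⁅p, q⁆ * ⁅p, q⁆ = 1 := by
      intro p hp q
      have hwK : ⁅p, q⁆ ∈ K := by
        rw [hK]; exact Subgroup.commutator_mem_commutator hp (Subgroup.mem_top q)
      exact lemX h4 p q ⁅p, q⁆ (commutatorElement_def p q) (conj_mem_pair h4 K p _ hwK)
        (conj_mem_pair h4 K q _ hwK)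
    have hclK : Subgroup.closure {g | ∃ p ∈ (⊤ : Subgroup T).lowerCentralSeries m,
        ∃ q ∈ (⊤ : Subgroup T), ⁅p, q⁆ = g} = K := by rw [hK]; rfl
    have hsq' : ∀ x, x ∈ Subgroup.closure {g | ∃ p ∈ (⊤ : Subgroup T).lowerCentralSeries m,
        ∃ q ∈ (⊤ : Subgroup T), ⁅p, q⁆ = g} → x * x = 1 := by
      intro x hx'
      induction hx' using Subgroup.closure_induction with
      | mem x hx => obtain ⟨p, hp, q, -, rfl⟩ := hx; exact hgen p hp q
      | one => simp
      | mul x y hx hy hx2 hy2 =>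
        have hxK : x ∈ K := hclK ▸ hx
        have hyK : y ∈ K := hclK ▸ hy
        calc x * y * (x * y) = x * (y * x) * y := by group
          _ = x * (x * y) * y := by rw [hcomm y hyK x hxK]
          _ = (x * x) * (y * y) := by group
          _ = 1 := by rw [hx2, hy2, one_mul]
      | inv x hx hx2 =>
        calc x⁻¹ * x⁻¹ = (x * x)⁻¹ := by group
          _ = 1 := by rw [hx2, inv_one]
    have hsq : ∀ x ∈ K, x * x = 1 := fun x hx => hsq' x (hclK ▸ hx)
    have hbot : (⊤ : Subgroup T).lowerCentralSeries (m + 2) = ⊥ := by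
      rw [← hK1, eq_bot_iff, Subgroup.commutator_le]
      intro x hx t _
      rw [Subgroup.mem_bot]
      have hxinv : x⁻¹ = x := inv_eq_of_mul_eq_one_left (hsq x hx)
      have hconj : t * x * t⁻¹ = x := by
        rcases conj_mem_pair h4 K t x hx with h | h
        · exact h
        · rw [h, hxinv]
      rw [commutatorElement_def]
      calc x * t * x⁻¹ * t⁻¹ = x * (t * x * t⁻¹)⁻¹ := by group
        _ = 1 := by rw [hconj, mul_inv_cancel]
    exact hmin hbot

/-- Commutators are central. -/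
theorem comm_central [Finite T] (hnil : Group.IsNilpotent T) (h4 : ∀ t : T, t ^ 4 = 1)
    (cyc : ∀ A : Subgroup T, A.Characteristic → IsMulCommutative A → IsCyclic A) (x y t : T) :
    t * (x * y * x⁻¹ * y⁻¹) = (x * y * x⁻¹ * y⁻¹) * t := by
  have h := lcs_two hnil h4 cyc
  rw [Subgroup.commutator_eq_bot_iff_le_centralizer] at h
  have hm : ⁅x, y⁆ ∈ ⁅(⊤ : Subgroup T), (⊤ : Subgroup T)⁆ :=
    Subgroup.commutator_mem_commutator (Subgroup.mem_top x) (Subgroup.mem_top y)
  have := (Subgroup.mem_centralizer_iff.mp (h hm)) t (Subgroup.mem_top t)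
  rw [commutatorElement_def] at this
  exact this

/-- Commutators have square 1. -/
theorem comm_sq [Finite T] (hnil : Group.IsNilpotent T) (h4 : ∀ t : T, t ^ 4 = 1)
    (cyc : ∀ A : Subgroup T, A.Characteristic → IsMulCommutative A → IsCyclic A) (x y : T) :
    (x * y * x⁻¹ * y⁻¹) * (x * y * x⁻¹ * y⁻¹) = 1 :=
  lemX_cc h4 x y _ rfl (comm_central hnil h4 cyc x y x) (comm_central hnil h4 cyc x y y)

/-- Squares are central. -/
theorem sq_central [Finite T] (hnil : Group.IsNilpotent T) (h4 : ∀ t : T, t ^ 4 = 1)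
    (cyc : ∀ A : Subgroup T, A.Characteristic → IsMulCommutative A → IsCyclic A) (x t : T) :
    t * (x * x) = (x * x) * t := by
  obtain ⟨c, hc⟩ : ∃ c, c = x * t * x⁻¹ * t⁻¹ := ⟨_, rfl⟩
  have hcen : ∀ s : T, s * c = c * s := fun s => by rw [hc]; exact comm_central hnil h4 cyc x t s
  have hcc : c * c = 1 := by rw [hc]; exact comm_sq hnil h4 cyc x t
  have e1 : x * t = c * t * x := by rw [hc]; group
  symm
  calc (x * x) * t = x * (x * t) := by group
    _ = x * (c * t * x) := by rw [e1]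
    _ = (x * c) * t * x := by group
    _ = (c * x) * t * x := by rw [hcen x]
    _ = c * (x * t) * x := by group
    _ = c * (c * t * x) * x := by rw [e1]
    _ = (c * c) * t * x * x := by group
    _ = t * (x * x) := by rw [hcc]; group

/-- At most one central involution. -/
theorem central_inv [Finite T]
    (cyc : ∀ A : Subgroup T, A.Characteristic → IsMulCommutative A → IsCyclic A) (a b : T)
    (ha : ∀ t : T, t * a = a * t) (hb : ∀ t : T, t * b = b * t) (haa : a * a = 1)
    (hbb : b * b = 1) (hb1 : b ≠ 1) : a = 1 ∨ a = b := by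
  have : IsCyclic (Subgroup.center T) := cyc _ inferInstance inferInstance
  have haZ : a ∈ Subgroup.center T := Subgroup.mem_center_iff.mpr ha
  have hbZ : b ∈ Subgroup.center T := Subgroup.mem_center_iff.mpr hb
  have := Cfsg.Agent.Lib.Lead.NFour.cyclic_sq (C := Subgroup.center T) ⟨a, haZ⟩ ⟨b, hbZ⟩
    (Subtype.ext haa) (Subtype.ext hbb) (fun h => hb1 (congrArg Subtype.val h))
  rcases this with h | h
  · left; exact congrArg Subtype.val h
  · right; exact congrArg Subtype.val h

end Cfsg.Agent.Lib.Lead.SympAbs
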