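import Mathlib
import Cfsg.Agent.Lib.Lead.SympA

/-!
# `p`-groups of symplectic type and class two (lead)

Let `P` be a non-abelian finite `p`-group with `Φ(P) ≤ Z(P)`, all commutators powers of a central
element `c` of order `p`, and every characteristic abelian subgroup cyclic.  Then `P = E Z(P)` with
`E` extraspecial (`exists_extraspecial`).
-/

set_option autoImplicit false
open Cfsg
open scoped commutatorElement Pointwise

namespace Cfsg.Agent.Lead.Symp

universe u

theorem char_mem {G : Type*} [Group G] {A : Subgroup G} (hA : A.Characteristic) (φ : G ≃* G)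
    {x : G} (hx : x ∈ A) : φ x ∈ A := by
  have h := hA.fixed φ
  rw [← h] at hx
  exact hx

section hyp

variable {P : Type u} [Group P]

/-- the hypotheses on `P` -/
structure Hyp (p : ℕ) (c : P) : Prop where
  pg : IsPGroup p P
  cl : Cl2 p c
  pow : ∀ x : P, x ^ p ∈ Subgroup.center P
  char : ∀ A : Subgroup P, A.Characteristic → (∀ a ∈ A, ∀ b ∈ A, a * b = b * a) → IsCyclic A
  na : ¬ ∀ x y : P, x * y = y * x

variable [Finite P] {p : ℕ} [hp : Fact p.Prime] {c : P}

theorem Hyp.c_mem_center (H : Hyp p c) : c ∈ Subgroup.center P := by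
  rw [Subgroup.mem_center_iff]
  exact H.cl.cen

theorem Hyp.center_cyclic (H : Hyp p c) : IsCyclic (Subgroup.center P) :=
  H.char _ inferInstance (fun a ha b _ => (Subgroup.mem_center_iff.mp ha b).symm)

theorem Hyp.omega (H : Hyp p c) {w : P} (hw : w ∈ Subgroup.center P) (hwp : w ^ p = 1) :
    w ∈ Subgroup.zpowers c :=
  mem_zpowers_of_pow_eq_one hp.out.pos (Subgroup.center P) H.center_cyclic H.c_mem_center hw
    (orderOf_z H.cl) hwp

theorem Hyp.zpowers_le_center (H : Hyp p c) : Subgroup.zpowers c ≤ Subgroup.center P := by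
  rw [Subgroup.zpowers_le]; exact H.c_mem_center

/-- the subgroup `K` of elements which are `p`-th roots of `⟨c⟩` up to the centre -/
def Hyp.K (H : Hyp p c) : Subgroup P where
  carrier := {x | ∃ z ∈ Subgroup.center P, (x * z) ^ p ∈ Subgroup.zpowers c}
  one_mem' := ⟨1, one_mem _, by simp⟩
  mul_mem' := by
    rintro x y ⟨z, hz, hxz⟩ ⟨z', hz', hyz⟩
    refine ⟨z * z', mul_mem hz hz', ?_⟩
    have h1 : x * y * (z * z') = (x * z) * (y * z') := by
      have := Subgroup.mem_center_iff.mp hz y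
      calc x * y * (z * z') = x * (y * z) * z' := by simp only [mul_assoc]
        _ = x * (z * y) * z' := by rw [this]
        _ = (x * z) * (y * z') := by simp only [mul_assoc]
    obtain ⟨w, hw, hw'⟩ := mul_pow_mem H.cl (x * z) (y * z') p
    rw [h1, hw']
    exact mul_mem (mul_mem hxz hyz) hw
  inv_mem' := by
    rintro x ⟨z, hz, hxz⟩
    refine ⟨z⁻¹, inv_mem hz, ?_⟩
    have h1 : x⁻¹ * z⁻¹ = (x * z)⁻¹ := by
      rw [mul_inv_rev]
      exact (Subgroup.mem_center_iff.mp (inv_mem hz)) x⁻¹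
    rw [h1, inv_pow]
    exact inv_mem hxz

theorem Hyp.mem_K (H : Hyp p c) {x : P} :
    x ∈ H.K ↔ ∃ z ∈ Subgroup.center P, (x * z) ^ p ∈ Subgroup.zpowers c := Iff.rfl

theorem Hyp.center_le_K (H : Hyp p c) : Subgroup.center P ≤ H.K := by
  intro z hz
  exact ⟨z⁻¹, inv_mem hz, by simp⟩

theorem Hyp.K_char (H : Hyp p c) : H.K.Characteristic := by
  rw [Subgroup.characteristic_iff_le_comap]
  intro φ x hx
  obtain ⟨z, hz, hxz⟩ := hx
  rw [Subgroup.mem_comap]
  refine ⟨φ z, char_mem inferInstance φ hz, ?_⟩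
  have h1 : (φ.toMonoidHom x * φ z) ^ p = φ ((x * z) ^ p) := by
    rw [map_pow, map_mul]; rfl
  rw [h1]
  apply H.omega
  · exact char_mem inferInstance φ (H.pow _)
  · rw [← map_pow, zpowers_pow_p H.cl hxz, map_one]

/-- a generator of the centre -/
theorem Hyp.exists_gen (H : Hyp p c) : ∃ g ∈ Subgroup.center P, ∀ w ∈ Subgroup.center P,
    ∃ k : ℤ, w = g ^ k := by
  haveI := H.center_cyclic
  obtain ⟨g, hg⟩ := IsCyclic.exists_generator (α := Subgroup.center P)
  refine ⟨g.1, g.2, fun w hw => ?_⟩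
  obtain ⟨k, hk⟩ := Subgroup.mem_zpowers_iff.mp (hg ⟨w, hw⟩)
  refine ⟨k, ?_⟩
  have := congrArg Subtype.val hk
  simpa using this.symm

theorem central_mul_pow {x z : P} (hz : z ∈ Subgroup.center P) (n : ℕ) :
    (x * z) ^ n = x ^ n * z ^ n :=
  (show Commute x z from (Subgroup.mem_center_iff.mp hz x)).mul_pow n

/-- `K` has index at most `p` -/
theorem Hyp.card_le (H : Hyp p c) (hK : H.K ≠ ⊤) : Nat.card P ≤ p * Nat.card H.K := by
  classical
  obtain ⟨g, hgZ, hgen⟩ := H.exists_gen
  have hgk : ∀ k : ℤ, g ^ k ∈ Subgroup.center P := fun k => Subgroup.zpow_mem _ hgZ k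
  obtain ⟨x₀, hx₀⟩ : ∃ x₀ : P, x₀ ∉ H.K := by
    by_contra h
    push Not at h
    exact hK ((Subgroup.eq_top_iff' _).mpr h)
  obtain ⟨a, ha⟩ := hgen _ (H.pow x₀)
  have hpa : ¬ (p : ℤ) ∣ a := by
    rintro ⟨a', rfl⟩
    apply hx₀
    refine ⟨g ^ (-a'), hgk _, ?_⟩
    rw [central_mul_pow (hgk _), ha, ← zpow_natCast (g ^ (-a')), ← zpow_mul, ← zpow_add]
    have : (p : ℤ) * a' + -a' * (p : ℤ) = 0 := by ring
    rw [this, zpow_zero]
    exact one_mem _
  have hcop : IsCoprime a (p : ℤ) := by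
    rw [isCoprime_comm]
    exact (Int.prime_iff_natAbs_prime.mpr (by simpa using hp.out)).coprime_iff_not_dvd.mpr hpa
  obtain ⟨u, v, huv⟩ := hcop
  have hpp : (0 : ℤ) < p := by exact_mod_cast hp.out.pos
  have key : ∀ y : P, ∃ j : ℕ, j < p ∧ y * x₀ ^ j ∈ H.K := by
    intro y
    obtain ⟨b, hb⟩ := hgen _ (H.pow y)
    -- `j ≡ -b u (mod p)`
    let j₀ : ℤ := (-b * u) % p
    have hj0 : 0 ≤ j₀ := Int.emod_nonneg _ hpp.ne'
    have hjp : j₀ < p := Int.emod_lt_of_pos _ hpp
    have hdvd : (p : ℤ) ∣ b + j₀ * a := by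
      have h1 : (p : ℤ) ∣ (-b * u) - j₀ :=
        Int.dvd_self_sub_of_emod_eq (rfl : (-b * u) % (p : ℤ) = j₀)
      obtain ⟨q, hq⟩ := h1
      refine ⟨b * v - q * a, ?_⟩
      have h2 : j₀ = -b * u - p * q := by linarith
      rw [h2]
      have h3 : b = b * (u * a + v * p) := by rw [huv, mul_one]
      nlinarith [h3]
    obtain ⟨m, hm⟩ := hdvd
    refine ⟨j₀.toNat, by omega, ?_⟩
    refine ⟨g ^ (-m), hgk _, ?_⟩
    obtain ⟨w, hw, hw'⟩ := mul_pow_mem H.cl y (x₀ ^ j₀.toNat) p
    have hx0j : (x₀ ^ j₀.toNat) ^ p = g ^ (a * j₀) := by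
      rw [← pow_mul, mul_comm, pow_mul, ha, ← zpow_natCast (g ^ a), ← zpow_mul,
        Int.toNat_of_nonneg hj0]
    rw [central_mul_pow (hgk _), hw', hb, hx0j, ← zpow_natCast (g ^ (-m)), ← zpow_mul]
    have hcomm : g ^ b * g ^ (a * j₀) * w * g ^ (-m * (p : ℤ)) =
        (g ^ b * g ^ (a * j₀) * g ^ (-m * (p : ℤ))) * w := by
      have := Subgroup.mem_center_iff.mp (hgk (-m * (p : ℤ))) w
      simp only [mul_assoc]
      rw [this]
    rw [hcomm, ← zpow_add, ← zpow_add]
    have : b + a * j₀ + -m * (p : ℤ) = 0 := by linarith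
    rw [this, zpow_zero, one_mul]
    exact hw
  choose j hj hjK using key
  let f : P → Fin p × H.K := fun y => (⟨j y, hj y⟩, ⟨y * x₀ ^ j y, hjK y⟩)
  have hf : Function.Injective f := by
    intro y y' h
    have h1 : j y = j y' := by
      have := congrArg (fun t => (t.1 : ℕ)) h
      simpa [f] using this
    have h2 : y * x₀ ^ j y = y' * x₀ ^ j y' := by
      have := congrArg (fun t => (t.2 : P)) h
      simpa [f] using this
    rw [h1] at h2
    exact mul_right_cancel h2
  have := Nat.card_le_card_of_injective f hf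
  rwa [Nat.card_prod, Nat.card_fin] at this

/-- the centre of `K`, inside `P` -/
def Hyp.ZK (H : Hyp p c) : Subgroup P := H.K ⊓ Subgroup.centralizer (H.K : Set P)

theorem Hyp.ZK_char (H : Hyp p c) : H.ZK.Characteristic := by
  haveI := H.K_char
  have h2 : (Subgroup.centralizer (H.K : Set P)).Characteristic := inferInstance
  rw [Subgroup.characteristic_iff_le_comap]
  intro φ x hx
  rw [Subgroup.mem_comap]
  exact ⟨char_mem H.K_char φ hx.1, char_mem h2 φ hx.2⟩

theorem Hyp.ZK_comm (H : Hyp p c) : ∀ a ∈ H.ZK, ∀ b ∈ H.ZK, a * b = b * a := by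
  intro a ha b hb
  exact (Subgroup.mem_centralizer_iff.mp hb.2 a ha.1)

theorem Hyp.center_le_ZK (H : Hyp p c) : Subgroup.center P ≤ H.ZK := by
  intro z hz
  refine Subgroup.mem_inf.mpr ⟨H.center_le_K hz, ?_⟩
  rw [Subgroup.mem_centralizer_iff]
  intro g _
  exact Subgroup.mem_center_iff.mp hz g

theorem Hyp.ZK_eq (H : Hyp p c) (hK : H.K ≠ ⊤) : H.ZK = Subgroup.center P := by
  apply le_antisymm _ H.center_le_ZK
  have hcyc : IsCyclic H.ZK := H.char _ H.ZK_char H.ZK_comm
  have hpg : IsPGroup p H.ZK := H.pg.to_subgroup _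
  -- the centre has order at least `p ^ 2`
  have hZbig : p * p ≤ Nat.card (Subgroup.center P) := by
    obtain ⟨k, hk⟩ := (IsPGroup.iff_card).mp (H.pg.to_subgroup (Subgroup.center P))
    have hne : Subgroup.zpowers c ≠ Subgroup.center P := by
      intro h
      apply hK
      rw [Subgroup.eq_top_iff']
      intro x
      refine ⟨1, one_mem _, ?_⟩
      rw [mul_one, h]
      exact H.pow x
    have hlt : Nat.card (Subgroup.zpowers c) < Nat.card (Subgroup.center P) := by
      by_contra hge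
      push Not at hge
      exact hne (Subgroup.eq_of_le_of_card_ge H.zpowers_le_center hge)
    rw [Nat.card_zpowers, orderOf_z H.cl, hk] at hlt
    rw [hk]
    have hk2 : 2 ≤ k := by
      by_contra hk1
      have : k ≤ 1 := by omega
      have h2 : p ^ k ≤ p ^ 1 := Nat.pow_le_pow_right hp.out.pos this
      rw [pow_one] at h2
      omega
    calc p * p = p ^ 2 := (sq p).symm
      _ ≤ p ^ k := Nat.pow_le_pow_right hp.out.pos hk2
  intro e he
  obtain ⟨z, hz, hez⟩ := he.1
  have htZK : e * z ∈ H.ZK := mul_mem he (H.center_le_ZK hz)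
  have ht2 : (e * z) ^ (p * p) = 1 := by
    rw [pow_mul, zpowers_pow_p H.cl hez]
  have htle : Subgroup.zpowers (e * z) ≤ H.ZK := by
    rw [Subgroup.zpowers_le]; exact htZK
  have htZ : e * z ∈ Subgroup.center P := by
    rcases le_or_le_of_le_cyclic hpg hcyc htle H.center_le_ZK with h | h
    · exact h (Subgroup.mem_zpowers _)
    · have h1 : Nat.card (Subgroup.zpowers (e * z)) ≤ p * p := by
        rw [Nat.card_zpowers]
        exact Nat.le_of_dvd (Nat.mul_pos hp.out.pos hp.out.pos) (orderOf_dvd_of_pow_eq_one ht2)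
      have h2 := Subgroup.eq_of_le_of_card_ge h (h1.trans hZbig)
      rw [h2]
      exact Subgroup.mem_zpowers _
  have : e = (e * z) * z⁻¹ := by group
  rw [this]
  exact mul_mem htZ (inv_mem hz)

theorem Hyp.cl_K (H : Hyp p c) :
    Cl2 p (⟨c, H.center_le_K H.c_mem_center⟩ : H.K) := by
  refine ⟨fun h => H.cl.ne (by simpa using congrArg Subtype.val h),
    Subtype.ext (by simpa using H.cl.zp), fun a => Subtype.ext (H.cl.cen a), fun a b => ?_⟩
  obtain ⟨k, hk⟩ := H.cl.comm (a : P) b
  refine ⟨k, Subtype.ext ?_⟩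
  simpa [commutatorElement_def] using hk

theorem card_center_subgroup (K : Subgroup P) :
    Nat.card (Subgroup.center K) = Nat.card (K ⊓ Subgroup.centralizer (K : Set P) : Subgroup P) := by
  have h : (Subgroup.center K).map K.subtype = K ⊓ Subgroup.centralizer (K : Set P) := by
    ext w
    constructor
    · rintro ⟨w', hw', rfl⟩
      rw [SetLike.mem_coe, Subgroup.mem_center_iff] at hw'
      refine Subgroup.mem_inf.mpr ⟨w'.2, ?_⟩
      rw [Subgroup.mem_centralizer_iff]
      intro g hg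
      have := hw' ⟨g, hg⟩
      simpa using congrArg Subtype.val this
    · intro hw
      obtain ⟨hwK, hwc⟩ := Subgroup.mem_inf.mp hw
      refine ⟨⟨w, hwK⟩, ?_, rfl⟩
      rw [SetLike.mem_coe, Subgroup.mem_center_iff]
      intro g
      exact Subtype.ext (Subgroup.mem_centralizer_iff.mp hwc g g.2)
  rw [← h]
  exact (Subgroup.card_map_of_injective (Subgroup.subtype_injective _)).symm

theorem Hyp.K_eq_top (H : Hyp p c) : H.K = ⊤ := by
  by_contra hK
  obtain ⟨n, hn⟩ := sq_index (p := p) _ P c H.cl le_rfl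
  obtain ⟨m, hm⟩ := sq_index (p := p) _ H.K _ H.cl_K le_rfl
  rw [card_center_subgroup H.K] at hm
  have hZK : Nat.card (H.K ⊓ Subgroup.centralizer (H.K : Set P) : Subgroup P) =
      Nat.card (Subgroup.center P) := by
    have := H.ZK_eq hK
    unfold Hyp.ZK at this
    rw [this]
  rw [hZK] at hm
  have hle := H.card_le hK
  have hZpos : 0 < Nat.card (Subgroup.center P) := Nat.card_pos
  rw [hn, hm] at hle
  have h1 : p ^ (2 * n) ≤ p ^ (2 * m + 1) := by
    have h2 : p ^ (2 * n) * Nat.card (Subgroup.center P) ≤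
        p ^ (2 * m + 1) * Nat.card (Subgroup.center P) := by
      calc p ^ (2 * n) * Nat.card (Subgroup.center P)
          ≤ p * (p ^ (2 * m) * Nat.card (Subgroup.center P)) := hle
        _ = p ^ (2 * m + 1) * Nat.card (Subgroup.center P) := by ring
    exact Nat.le_of_mul_le_mul_right h2 hZpos
  have h3 : 2 * n ≤ 2 * m + 1 := (Nat.pow_le_pow_iff_right hp.out.one_lt).mp h1
  have h4 : n ≤ m := by omega
  have h5 : Nat.card P ≤ Nat.card H.K := by
    rw [hn, hm]
    exact Nat.mul_le_mul_right _ (Nat.pow_le_pow_right hp.out.pos (by omega))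
  exact hK (Subgroup.eq_top_of_le_card _ h5)

/-- the family of candidate subgroups -/
def Hyp.Fam (_H : Hyp p c) (E : Subgroup P) : Prop :=
  c ∈ E ∧ (∀ e ∈ E, e ∈ Subgroup.center P → e ∈ Subgroup.zpowers c) ∧
    ∀ e ∈ E, e ^ p ∈ Subgroup.zpowers c

theorem Hyp.fam_normal (H : Hyp p c) {E : Subgroup P} (hE : H.Fam E) : E.Normal := by
  refine ⟨fun n hn g => ?_⟩
  have h1 : g * n * g⁻¹ = ⁅g, n⁆ * n := by simp [commutatorElement_def]
  rw [h1]
  refine mul_mem ?_ hn
  have : Subgroup.zpowers c ≤ E := by rw [Subgroup.zpowers_le]; exact hE.1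
  exact this (comm_mem H.cl g n)

theorem Hyp.exists_E (H : Hyp p c) : ∃ E : Subgroup P, H.Fam E ∧
    ∀ x : P, ∃ e ∈ E, ∃ z ∈ Subgroup.center P, x = e * z := by
  have h0 : H.Fam (Subgroup.zpowers c) := by
    refine ⟨Subgroup.mem_zpowers c, fun e he _ => he, fun e he => ?_⟩
    rw [zpowers_pow_p H.cl he]; exact one_mem _
  obtain ⟨E, -, hEmax⟩ := Finite.exists_le_maximal (p := fun E : Subgroup P => H.Fam E) h0
  have hE : H.Fam E := hEmax.1
  haveI hEn : E.Normal := H.fam_normal hE
  have hcE : Subgroup.zpowers c ≤ E := by rw [Subgroup.zpowers_le]; exact hE.1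
  refine ⟨E, hE, ?_⟩
  -- it suffices to show `E ⊔ Z = ⊤`
  have hsup : ∀ x : P, x ∈ E ⊔ Subgroup.center P := by
    intro x
    by_contra hx
    have hxK : x ∈ H.K := by rw [H.K_eq_top]; exact Subgroup.mem_top x
    obtain ⟨z, hz, hxz⟩ := hxK
    have ht : x * z ∉ E ⊔ Subgroup.center P := by
      intro h
      apply hx
      have : x = (x * z) * z⁻¹ := by group
      rw [this]
      exact mul_mem h (Subgroup.mem_sup_right (inv_mem hz))
    -- the larger subgroup
    have hmem : ∀ y ∈ E ⊔ Subgroup.zpowers (x * z), ∃ e ∈ E, ∃ k : ℤ, y = e * (x * z) ^ k := by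
      intro y hy
      have h1 : y ∈ (↑(E ⊔ Subgroup.zpowers (x * z)) : Set P) := hy
      rw [Subgroup.normal_mul] at h1
      obtain ⟨e, he, w, hw, rfl⟩ := Set.mem_mul.mp h1
      obtain ⟨k, rfl⟩ := Subgroup.mem_zpowers_iff.mp hw
      exact ⟨e, he, k, rfl⟩
    have htk : ∀ k : ℤ, ((x * z) ^ k) ^ p ∈ Subgroup.zpowers c := by
      intro k
      rw [← zpow_natCast, ← zpow_mul, mul_comm, zpow_mul, zpow_natCast]
      exact Subgroup.zpow_mem _ hxz k
    have hF1 : H.Fam (E ⊔ Subgroup.zpowers (x * z)) := by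
      refine ⟨Subgroup.mem_sup_left hE.1, ?_, ?_⟩
      · intro y hy hyZ
        obtain ⟨e, he, k, rfl⟩ := hmem y hy
        by_cases hpk : (p : ℤ) ∣ k
        · obtain ⟨k', rfl⟩ := hpk
          have h2 : (x * z) ^ ((p : ℤ) * k') ∈ E := by
            rw [zpow_mul, zpow_natCast]
            exact hcE (Subgroup.zpow_mem _ hxz k')
          exact hE.2.1 _ (mul_mem he h2) hyZ
        · exfalso
          apply ht
          have hcop : IsCoprime k (p : ℤ) := by
            rw [isCoprime_comm]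
            exact (Int.prime_iff_natAbs_prime.mpr (by simpa using hp.out)).coprime_iff_not_dvd.mpr
              hpk
          obtain ⟨u, v, huv⟩ := hcop
          have h3 : (x * z) ^ k ∈ E ⊔ Subgroup.center P := by
            have : (x * z) ^ k = e⁻¹ * (e * (x * z) ^ k) := by group
            rw [this]
            exact mul_mem (Subgroup.mem_sup_left (inv_mem he)) (Subgroup.mem_sup_right hyZ)
          have h4 : (x * z) ^ (p : ℤ) ∈ E ⊔ Subgroup.center P := by
            rw [zpow_natCast]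
            exact Subgroup.mem_sup_left (hcE hxz)
          have h5 : x * z = ((x * z) ^ k) ^ u * ((x * z) ^ (p : ℤ)) ^ v := by
            rw [← zpow_mul, ← zpow_mul, ← zpow_add]
            have : k * u + (p : ℤ) * v = 1 := by linarith
            rw [this, zpow_one]
          rw [h5]
          exact mul_mem (Subgroup.zpow_mem _ h3 u) (Subgroup.zpow_mem _ h4 v)
      · intro y hy
        obtain ⟨e, he, k, rfl⟩ := hmem y hy
        obtain ⟨w, hw, hw'⟩ := mul_pow_mem H.cl e ((x * z) ^ k) p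
        rw [hw']
        exact mul_mem (mul_mem (hE.2.2 e he) (htk k)) hw
    have h6 : E ⊔ Subgroup.zpowers (x * z) ≤ E := hEmax.2 hF1 le_sup_left
    apply ht
    exact Subgroup.mem_sup_left (h6 (Subgroup.mem_sup_right (Subgroup.mem_zpowers _)))
  intro x
  have h1 : x ∈ (↑(E ⊔ Subgroup.center P) : Set P) := hsup x
  rw [Subgroup.normal_mul] at h1
  obtain ⟨e, he, z, hz, rfl⟩ := Set.mem_mul.mp h1
  exact ⟨e, he, z, hz, rfl⟩

/-- the main structure theorem in class two -/
theorem exists_extraspecial (H : Hyp p c) : ∃ E : Subgroup P, IsExtraspecial p E ∧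
    (∀ x : P, ∃ e ∈ E, ∃ z ∈ Subgroup.center P, x = e * z) ∧ c ∈ E ∧
    (∀ e ∈ E, e ∈ Subgroup.center P → e ∈ Subgroup.zpowers c) ∧
    ∀ e ∈ E, e ^ p ∈ Subgroup.zpowers c := by
  obtain ⟨E, hE, hdec⟩ := H.exists_E
  refine ⟨E, ?_, hdec, hE.1, hE.2.1, hE.2.2⟩
  have hcl : Cl2 p (⟨c, hE.1⟩ : E) := by
    refine ⟨fun h => H.cl.ne (by simpa using congrArg Subtype.val h),
      Subtype.ext (by simpa using H.cl.zp), fun a => Subtype.ext (H.cl.cen a), fun a b => ?_⟩
    obtain ⟨k, hk⟩ := H.cl.comm (a : P) b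
    refine ⟨k, Subtype.ext ?_⟩
    simpa [commutatorElement_def] using hk
  have hval : ∀ (w : E), (w : P) ∈ Subgroup.zpowers c → w ∈ Subgroup.zpowers (⟨c, hE.1⟩ : E) := by
    intro w hw
    obtain ⟨k, hk⟩ := Subgroup.mem_zpowers_iff.mp hw
    rw [Subgroup.mem_zpowers_iff]
    exact ⟨k, Subtype.ext (by simpa using hk)⟩
  apply isExtraspecial_of_cl2 (H.pg.to_subgroup E) hcl
  · intro x
    exact hval _ (by simpa using hE.2.2 x x.2)
  · intro w hw
    apply hval
    apply hE.2.1 _ w.2
    rw [Subgroup.mem_center_iff] at hw ⊢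
    intro g
    obtain ⟨e, he, z, hz, rfl⟩ := hdec g
    have h1 : e * (w : P) = w * e := by
      have := hw ⟨e, he⟩
      simpa using congrArg Subtype.val this
    have h2 : z * (w : P) = w * z := (Subgroup.mem_center_iff.mp hz w).symm
    calc e * z * (w : P) = e * (z * w) := mul_assoc _ _ _
      _ = e * (w * z) := by rw [h2]
      _ = (e * w) * z := (mul_assoc _ _ _).symm
      _ = (w * e) * z := by rw [h1]
      _ = w * (e * z) := mul_assoc _ _ _
  · intro hab
    apply H.na
    intro x y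
    obtain ⟨e, he, z, hz, rfl⟩ := hdec x
    obtain ⟨e', he', z', hz', rfl⟩ := hdec y
    have h1 : e * e' = e' * e := by
      have := hab ⟨e, he⟩ ⟨e', he'⟩
      simpa using congrArg Subtype.val this
    have hz1 := Subgroup.mem_center_iff.mp hz
    have hz2 := Subgroup.mem_center_iff.mp hz'
    calc e * z * (e' * z') = e * (z * e') * z' := by simp only [mul_assoc]
      _ = e * (e' * z) * z' := by rw [hz1 e']
      _ = (e * e') * (z * z') := by simp only [mul_assoc]
      _ = (e' * e) * (z' * z) := by rw [h1, hz2 z]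
      _ = e' * (e * z') * z := by simp only [mul_assoc]
      _ = e' * (z' * e) * z := by rw [hz2 e]
      _ = e' * z' * (e * z) := by simp only [mul_assoc]

end hyp

end Cfsg.Agent.Lead.Symp
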