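import Mathlib
import Cfsg.Agent.Lib.Lead.SympB
import Cfsg.Agent.H1.PGroup
import Cfsg.Agent.H2.AutFrattini
import Cfsg.Agent.Lib.Lead.PGroup

/-!
# P. Hall's theorem on `p`-groups of symplectic type: the extraspecial factor (lead)

Let `G` be a finite `p`-group all of whose characteristic abelian subgroups are cyclic and `C` a
non-abelian critical subgroup.  Then there is a normal extraspecial subgroup `E ≤ C` with
`C = E Z(C)` and `G = E C_G(E)` (`exists_dec`).
-/

set_option autoImplicit false
open Cfsg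
open scoped commutatorElement Pointwise

namespace Cfsg.Agent.Lead.Symp

universe u

section transfer

variable {A B : Type*} [Group A] [Group B]

theorem frattini_map_equiv (e : A ≃* B) : (frattini A).map e.toMonoidHom = frattini B := by
  apply le_antisymm
  · rw [Subgroup.map_le_iff_le_comap]
    exact frattini_le_comap_frattini_of_surjective e.surjective
  · have h := frattini_le_comap_frattini_of_surjective (φ := e.symm.toMonoidHom) e.symm.surjective
    intro x hx
    refine ⟨e.symm x, h hx, ?_⟩
    simp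

theorem center_map_equiv (e : A ≃* B) :
    (Subgroup.center A).map e.toMonoidHom = Subgroup.center B := by
  ext x
  constructor
  · rintro ⟨a, ha, rfl⟩
    rw [SetLike.mem_coe] at ha
    rw [Subgroup.mem_center_iff] at ha ⊢
    intro g
    obtain ⟨g', rfl⟩ := e.surjective g
    show e g' * e a = e a * e g'
    rw [← map_mul, ← map_mul, ha g']
  · intro hx
    rw [Subgroup.mem_center_iff] at hx
    refine ⟨e.symm x, ?_, by simp⟩
    rw [SetLike.mem_coe, Subgroup.mem_center_iff]
    intro g
    apply e.injective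
    rw [map_mul, map_mul, MulEquiv.apply_symm_apply]
    exact hx (e g)

theorem commutator_map_equiv (e : A ≃* B) :
    (commutator A).map e.toMonoidHom = commutator B := by
  rw [commutator_def, commutator_def, Subgroup.map_commutator,
    Subgroup.map_top_of_surjective _ e.surjective]

theorem isExtraspecial_congr {p : ℕ} (e : A ≃* B) (h : IsExtraspecial p A) :
    IsExtraspecial p B := by
  obtain ⟨⟨h1, h2, h3⟩, h4⟩ := h
  refine ⟨⟨h1.of_equiv e, ?_, ?_⟩, ?_⟩
  · rw [← frattini_map_equiv e, ← center_map_equiv e, h2]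
  · rw [← commutator_map_equiv e, ← center_map_equiv e, h3]
  · rw [← center_map_equiv e, Subgroup.card_map_of_injective e.injective, h4]

end transfer

section charmap

variable {G : Type*} [Group G]

/-- a characteristic subgroup of a characteristic subgroup is characteristic -/
theorem char_map_subtype (C : Subgroup G) (hC : C.Characteristic) (A : Subgroup C)
    (hA : A.Characteristic) : (A.map C.subtype).Characteristic := by
  rw [Subgroup.characteristic_iff_le_comap]
  intro φ x hx
  obtain ⟨a, ha, rfl⟩ := hx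
  rw [Subgroup.mem_comap]
  let φ' : C ≃* C :=
    { toFun := fun y => ⟨φ y, char_mem hC φ y.2⟩
      invFun := fun y => ⟨φ.symm y, char_mem hC φ.symm y.2⟩
      left_inv := fun y => Subtype.ext (by simp)
      right_inv := fun y => Subtype.ext (by simp)
      map_mul' := fun y y' => Subtype.ext (by simp) }
  have h1 : φ' a ∈ A := char_mem hA φ' ha
  exact ⟨φ' a, h1, rfl⟩

theorem isMulCommutative_of_comm (A : Subgroup G) (h : ∀ a ∈ A, ∀ b ∈ A, a * b = b * a) :
    IsMulCommutative A :=
  ⟨⟨fun a b => Subtype.ext (h a a.2 b b.2)⟩⟩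

end charmap

section main

variable {G : Type u} [Group G]

/-- the decomposition data -/
structure Dec (p : ℕ) (C E : Subgroup G) (c : G) : Prop where
  normal : E.Normal
  es : IsExtraspecial p E
  le : E ≤ C
  cE : c ∈ E
  cZ : c ∈ Subgroup.center G
  co : orderOf c = p
  powE : ∀ e ∈ E, e ^ p ∈ Subgroup.zpowers c
  dec : ∀ x ∈ C, ∃ e ∈ E, ∃ z ∈ Subgroup.centralizer (C : Set G), x = e * z
  cenE : ∀ e ∈ E, e ∈ Subgroup.centralizer (C : Set G) → e ∈ Subgroup.zpowers c
  comm : ∀ x ∈ C, ∀ y ∈ C, ⁅x, y⁆ ∈ Subgroup.zpowers c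
  omega : ∀ z ∈ Subgroup.centralizer (C : Set G), z ^ p = 1 → z ∈ Subgroup.zpowers c
  prod : ∀ g : G, ∃ e ∈ E, ∃ r ∈ Subgroup.centralizer (E : Set G), g = e * r

variable [Finite G] {p : ℕ} [hp : Fact p.Prime]

theorem exists_dec (hG : IsPGroup p G)
    (hsymp : ∀ A : Subgroup G, A.Characteristic → IsMulCommutative A → IsCyclic A)
    (C : Subgroup G) (hCchar : C.Characteristic)
    (hΦ : (frattini C).map C.subtype ≤ Subgroup.centralizer (C : Set G))
    (hcomm : ⁅C, (⊤ : Subgroup G)⁆ ≤ C ⊓ Subgroup.centralizer (C : Set G))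
    (hcc : Subgroup.centralizer (C : Set G) ≤ C)
    (hna : ¬ ∀ x ∈ C, ∀ y ∈ C, x * y = y * x) :
    ∃ (E : Subgroup G) (c : G), Dec p C E c := by
  classical
  have hZchar : (Subgroup.centralizer (C : Set G)).Characteristic := by
    haveI := hCchar
    infer_instance
  haveI hZn : (Subgroup.centralizer (C : Set G)).Normal := by
    haveI := hZchar
    infer_instance
  have hZcomm : ∀ a ∈ Subgroup.centralizer (C : Set G), ∀ b ∈ Subgroup.centralizer (C : Set G),
      a * b = b * a := by
    intro a ha b hb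
    exact (Subgroup.mem_centralizer_iff.mp ha b (hcc hb)).symm
  have hZcyc : IsCyclic (Subgroup.centralizer (C : Set G)) :=
    hsymp _ hZchar (isMulCommutative_of_comm _ hZcomm)
  have F1 : ∀ x ∈ C, ∀ g : G, ⁅x, g⁆ ∈ Subgroup.centralizer (C : Set G) := by
    intro x hx g
    have := hcomm (Subgroup.commutator_mem_commutator hx (Subgroup.mem_top g))
    exact (Subgroup.mem_inf.mp this).2
  have F2 : ∀ x ∈ C, x ^ p ∈ Subgroup.centralizer (C : Set G) := by
    intro x hx
    apply hΦ
    exact ⟨⟨x, hx⟩ ^ p, Cfsg.Agent.H1.pow_p_mem_frattini (hG.to_subgroup C) ⟨x, hx⟩, rfl⟩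
  -- the centre of `C` is not trivial
  have hZne : Subgroup.centralizer (C : Set G) ≠ ⊥ := by
    intro h
    apply hna
    intro x hx y hy
    have h1 := F1 x hx y
    rw [h, Subgroup.mem_bot] at h1
    exact commutatorElement_eq_one_iff_mul_comm.mp h1
  obtain ⟨z0, hz0Z, hz0c, hz0ne⟩ :=
    Cfsg.Agent.Lib.Lead.PGroup.exists_mem_center_of_normal hG (Subgroup.centralizer (C : Set G)) hZne
  -- an element of order `p` in `Z(C) ∩ Z(G)`
  obtain ⟨c, hcZ, hcc', hco⟩ : ∃ c : G, c ∈ Subgroup.centralizer (C : Set G) ∧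
      c ∈ Subgroup.center G ∧ orderOf c = p := by
    let A : Subgroup G := Subgroup.centralizer (C : Set G) ⊓ Subgroup.center G
    obtain ⟨k, hk⟩ := (IsPGroup.iff_card).mp (hG.to_subgroup A)
    have hk0 : k ≠ 0 := by
      intro h
      rw [h, pow_zero] at hk
      have hA : A = ⊥ := Subgroup.card_eq_one.mp hk
      have : z0 ∈ A := Subgroup.mem_inf.mpr ⟨hz0Z, hz0c⟩
      rw [hA, Subgroup.mem_bot] at this
      exact hz0ne this
    have hdvd : p ∣ Nat.card A := by rw [hk]; exact dvd_pow_self p hk0
    obtain ⟨c', hc'⟩ := exists_prime_orderOf_dvd_card' p hdvd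
    refine ⟨c'.1, (Subgroup.mem_inf.mp c'.2).1, (Subgroup.mem_inf.mp c'.2).2, ?_⟩
    rw [Subgroup.orderOf_coe]; exact hc'
  have hc1 : c ≠ 1 := by
    intro h
    rw [h, orderOf_one] at hco
    exact hp.out.one_lt.ne hco
  have hcp : c ^ p = 1 := by rw [← hco]; exact pow_orderOf_eq_one c
  have hccen : ∀ g : G, g * c = c * g := Subgroup.mem_center_iff.mp hcc'
  have hcC : c ∈ C := hcc hcZ
  have homega : ∀ z ∈ Subgroup.centralizer (C : Set G), z ^ p = 1 → z ∈ Subgroup.zpowers c :=
    fun z hz hzp => mem_zpowers_of_pow_eq_one hp.out.pos _ hZcyc hcZ hz hco hzp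
  -- membership in the centre of `C`
  have hcenC : ∀ w : C, (w : G) ∈ Subgroup.centralizer (C : Set G) → w ∈ Subgroup.center C := by
    intro w hw
    rw [Subgroup.mem_center_iff]
    intro g
    exact Subtype.ext (Subgroup.mem_centralizer_iff.mp hw g g.2)
  have hcenC' : ∀ w : C, w ∈ Subgroup.center C → (w : G) ∈ Subgroup.centralizer (C : Set G) := by
    intro w hw
    rw [Subgroup.mem_center_iff] at hw
    rw [Subgroup.mem_centralizer_iff]
    intro g hg
    have := hw ⟨g, hg⟩
    simpa using congrArg Subtype.val this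
  have hval : ∀ w : C, (w : G) ∈ Subgroup.zpowers c → w ∈ Subgroup.zpowers (⟨c, hcC⟩ : C) := by
    intro w hw
    obtain ⟨k, hk⟩ := Subgroup.mem_zpowers_iff.mp hw
    rw [Subgroup.mem_zpowers_iff]
    exact ⟨k, Subtype.ext (by simpa using hk)⟩
  have hval' : ∀ w : C, w ∈ Subgroup.zpowers (⟨c, hcC⟩ : C) → (w : G) ∈ Subgroup.zpowers c := by
    intro w hw
    obtain ⟨k, hk⟩ := Subgroup.mem_zpowers_iff.mp hw
    rw [Subgroup.mem_zpowers_iff]
    refine ⟨k, ?_⟩
    have := congrArg Subtype.val hk
    simpa using this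
  -- commutators in `C`
  have hcommC : ∀ x y : C, (⁅x, y⁆ : C) ∈ Subgroup.zpowers (⟨c, hcC⟩ : C) := by
    intro x y
    have h1 : (⁅x, y⁆ : C) ∈ Subgroup.center C := by
      apply hcenC
      have := F1 x x.2 y
      simpa [commutatorElement_def] using this
    have h2 : x ^ p ∈ Subgroup.center C := hcenC _ (by simpa using F2 x x.2)
    have h3 : (⁅x, y⁆ : C) ^ p = 1 := by
      rw [← Cfsg.Agent.H1.commutator_pow_of_central x y h1 p, commutatorElement_eq_one_iff_mul_comm]
      exact (Subgroup.mem_center_iff.mp h2 y).symm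
    apply hval
    apply homega _ (hcenC' _ h1)
    have := congrArg Subtype.val h3
    simpa using this
  -- the hypotheses for `C`
  have H : Hyp (P := C) p ⟨c, hcC⟩ := by
    refine ⟨hG.to_subgroup C, ⟨?_, ?_, ?_, ?_⟩, ?_, ?_, ?_⟩
    · intro h
      exact hc1 (by simpa using congrArg Subtype.val h)
    · exact Subtype.ext (by simpa using hcp)
    · intro x
      exact Subtype.ext (hccen x)
    · intro x y
      exact Subgroup.mem_zpowers_iff.mp (hcommC x y) |>.imp fun k hk => hk.symm
    · intro x
      exact hcenC _ (by simpa using F2 x x.2)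
    · intro A hA hAc
      have h1 := char_map_subtype C hCchar A hA
      have h2 : IsMulCommutative (A.map C.subtype) := by
        apply isMulCommutative_of_comm
        rintro _ ⟨a, ha, rfl⟩ _ ⟨b, hb, rfl⟩
        have := hAc a ha b hb
        simpa using congrArg Subtype.val this
      haveI h3 : IsCyclic (A.map C.subtype) := hsymp _ h1 h2
      let e : A ≃* A.map C.subtype := A.equivMapOfInjective C.subtype (Subgroup.subtype_injective C)
      exact isCyclic_of_surjective e.symm e.symm.surjective
    · intro h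
      apply hna
      intro x hx y hy
      have := h ⟨x, hx⟩ ⟨y, hy⟩
      simpa using congrArg Subtype.val this
  obtain ⟨E0, hE0es, hE0dec, hcE0, hE0cen, hE0pow⟩ := exists_extraspecial H
  -- the subgroup `E` of `G`
  have hEmem : ∀ e ∈ E0.map C.subtype, ∃ e0 : C, e0 ∈ E0 ∧ (e0 : G) = e := by
    rintro e ⟨e0, he0, rfl⟩
    exact ⟨e0, he0, rfl⟩
  have hEle : E0.map C.subtype ≤ C := by
    rintro e ⟨e0, -, rfl⟩
    exact e0.2
  have hcE : c ∈ E0.map C.subtype := ⟨⟨c, hcC⟩, hcE0, rfl⟩
  have hzcE : Subgroup.zpowers c ≤ E0.map C.subtype := by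
    rw [Subgroup.zpowers_le]; exact hcE
  have hpowE : ∀ e ∈ E0.map C.subtype, e ^ p ∈ Subgroup.zpowers c := by
    intro e he
    obtain ⟨e0, he0, rfl⟩ := hEmem e he
    have := hval' _ (hE0pow e0 he0)
    simpa using this
  have hzc_cen : ∀ w ∈ Subgroup.zpowers c, ∀ g : G, g * w = w * g := by
    intro w hw g
    obtain ⟨k, rfl⟩ := Subgroup.mem_zpowers_iff.mp hw
    exact ((show Commute g c from hccen g).zpow_right k).eq
  -- commutators of `E` with `G`
  have hcommEG : ∀ n ∈ E0.map C.subtype, ∀ g : G, ⁅g, n⁆ ∈ Subgroup.zpowers c := by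
    intro n hn g
    have hnC : n ∈ C := hEle hn
    have hzZ : ⁅g, n⁆ ∈ Subgroup.centralizer (C : Set G) := by
      rw [← commutatorElement_inv]
      exact inv_mem (F1 n hnC g)
    apply homega _ hzZ
    have h1 : g * n * g⁻¹ = ⁅g, n⁆ * n := by simp [commutatorElement_def]
    have h2 : (g * n * g⁻¹) ^ p = n ^ p := by
      rw [conj_pow]
      have := hzc_cen _ (hpowE n hn) g
      rw [this, mul_inv_cancel_right]
    have h3 : Commute ⁅g, n⁆ n := (Subgroup.mem_centralizer_iff.mp hzZ n hnC).symm
    rw [h1, h3.mul_pow] at h2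
    exact mul_right_cancel (h2.trans (one_mul _).symm)
  have hEn : (E0.map C.subtype).Normal := by
    refine ⟨fun n hn g => ?_⟩
    have h1 : g * n * g⁻¹ = ⁅g, n⁆ * n := by simp [commutatorElement_def]
    rw [h1]
    exact mul_mem (hzcE (hcommEG n hn g)) hn
  have hEes : IsExtraspecial p (E0.map C.subtype) :=
    isExtraspecial_congr (E0.equivMapOfInjective C.subtype (Subgroup.subtype_injective C)) hE0es
  refine ⟨E0.map C.subtype, c, hEn, hEes, hEle, hcE, hcc', hco, hpowE, ?_, ?_, ?_, homega, ?_⟩
  · intro x hx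
    obtain ⟨e0, he0, z0', hz0', hx'⟩ := hE0dec ⟨x, hx⟩
    refine ⟨e0, ⟨e0, he0, rfl⟩, z0', hcenC' _ hz0', ?_⟩
    have := congrArg Subtype.val hx'
    simpa using this
  · intro e he heZ
    obtain ⟨e0, he0, rfl⟩ := hEmem e he
    exact hval' _ (hE0cen e0 he0 (hcenC _ heZ))
  · intro x hx y hy
    have := hval' _ (hcommC ⟨x, hx⟩ ⟨y, hy⟩)
    simpa [commutatorElement_def] using this
  · -- `G = E C_G(E)`
    haveI := hEn
    set E : Subgroup G := E0.map C.subtype with hEdef
    obtain ⟨n, hn⟩ := (IsPGroup.iff_card).mp (hG.to_subgroup E)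
    have hfr : frattini E = Subgroup.center E := hEes.1.2.1
    have hcardZ : Nat.card (Subgroup.center E) = p := hEes.2
    have hn1 : 1 ≤ n := by
      by_contra h
      have h0 : n = 0 := by omega
      rw [h0, pow_zero] at hn
      have h1 : Nat.card (Subgroup.center E) ∣ Nat.card E := Subgroup.card_subgroup_dvd_card _
      rw [hcardZ, hn, Nat.dvd_one] at h1
      exact hp.out.one_lt.ne' h1
    have hidx : (frattini E).index = p ^ (n - 1) := by
      have h1 := Subgroup.card_mul_index (frattini E)
      rw [hfr, hcardZ, hn] at h1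
      have h2 : p ^ n = p * p ^ (n - 1) := by rw [← pow_succ']; congr 1; omega
      rw [h2] at h1
      rw [hfr]
      exact Nat.eq_of_mul_eq_mul_left hp.out.pos h1
    let f : G →* MulAut E := MulAut.conjNormal
    have hA : ∀ α ∈ f.range, ∀ x : E, α x * x⁻¹ ∈ frattini E := by
      rintro _ ⟨g, rfl⟩ x
      rw [hfr, Subgroup.mem_center_iff]
      intro y
      apply Subtype.ext
      have h1 : ((f g x * x⁻¹ : E) : G) = ⁅g, (x : G)⁆ := by
        simp [f, MulAut.conjNormal_apply, commutatorElement_def]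
      have h2 := hzc_cen _ (hcommEG x x.2 g) (y : G)
      show (y : G) * ((f g x * x⁻¹ : E) : G) = ((f g x * x⁻¹ : E) : G) * (y : G)
      rw [h1]
      exact h2
    have hdvd := Cfsg.Agent.H2.AutFrat.card_dvd_of_trivial_on_frattini_quotient (p := p) hn hidx
      f.range hA
    have hsub : n - (n - 1) = 1 := by omega
    rw [hsub, mul_one] at hdvd
    -- the inner automorphisms
    let f' : E →* MulAut E := MulAut.conj
    have hker : f'.ker = Subgroup.center E := by
      ext x
      rw [MonoidHom.mem_ker, Subgroup.mem_center_iff]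
      constructor
      · intro h y
        have := DFunLike.congr_fun h y
        simp only [f', MulAut.conj_apply, MulAut.one_apply] at this
        calc y * x = (x * y * x⁻¹) * x := by rw [this]
          _ = x * y := by group
      · intro h
        ext y
        simp only [f', MulAut.conj_apply, MulAut.one_apply]
        rw [← h y, mul_inv_cancel_right]
    have hcardr : Nat.card f'.range = p ^ (n - 1) := by
      have h1 := Subgroup.card_eq_card_quotient_mul_card_subgroup f'.ker
      rw [Nat.card_congr (QuotientGroup.quotientKerEquivRange f').toEquiv, hker, hcardZ, hn] at h1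
      have h2 : p ^ n = p ^ (n - 1) * p := by rw [← pow_succ]; congr 1; omega
      rw [h2] at h1
      exact (Nat.eq_of_mul_eq_mul_right hp.out.pos h1).symm
    have hle : f'.range ≤ f.range := by
      rintro _ ⟨x, rfl⟩
      exact ⟨(x : G), MulAut.conjNormal_val⟩
    have heq : f'.range = f.range := by
      apply Subgroup.eq_of_le_of_card_ge hle
      rw [hcardr]
      exact Nat.le_of_dvd (pow_pos hp.out.pos _) hdvd
    intro g
    have hg : f g ∈ f'.range := by rw [heq]; exact ⟨g, rfl⟩
    obtain ⟨x, hx⟩ := hg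
    refine ⟨(x : G), x.2, (x : G)⁻¹ * g, ?_, by group⟩
    rw [Subgroup.mem_centralizer_iff]
    intro y hy
    have h1 : f g ⟨y, hy⟩ = f' x ⟨y, hy⟩ := by rw [hx]
    have h2 := congrArg Subtype.val h1
    simp only [f, f', MulAut.conjNormal_apply, MulAut.conj_apply, Subgroup.coe_mul,
      Subgroup.coe_inv] at h2
    -- `g y g⁻¹ = x y x⁻¹`
    calc y * ((x : G)⁻¹ * g) = (x : G)⁻¹ * ((x : G) * y * (x : G)⁻¹) * g := by group
      _ = (x : G)⁻¹ * (g * y * g⁻¹) * g := by rw [h2]
      _ = (x : G)⁻¹ * g * y := by group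

end main

end Cfsg.Agent.Lead.Symp
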