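import Mathlib
import Cfsg.Agent.Lib.Lead.NFour

/-!
The interface `Core z Q` (`Q = F*(C_G(z))` a 2-group of symplectic type and exponent dividing 4),
and the theorem: if a conjugate `u ≠ z` of `z` lies in `Q`, then `z` lies in the corresponding
`Q_u`, and `⟨Q, Q_u⟩` induces `S₃` on the four-group `⟨z, u⟩` (author: lead).
-/

set_option autoImplicit false

namespace Cfsg.Agent.Lib.Lead.SympCore

variable {G : Type*} [Group G]

/-- The properties of `Q = F*(C_G(z))` that the argument uses. -/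
structure Core (z : G) (Q : Subgroup G) : Prop where
  zz : z * z = 1
  z1 : z ≠ 1
  zQ : z ∈ Q
  cent : ∀ q ∈ Q, q * z = z * q
  two : IsPGroup 2 Q
  norm : ∀ c : G, c * z = z * c → ∀ q ∈ Q, c * q * c⁻¹ ∈ Q
  selfc : ∀ c : G, c * z = z * c → (∀ q ∈ Q, c * q = q * c) → c ∈ Q
  max : ∀ M : Subgroup G, (∀ m ∈ M, m * z = z * m) → IsPGroup 2 M →
    (∀ c : G, c * z = z * c → ∀ m ∈ M, c * m * c⁻¹ ∈ M) → M ≤ Q
  comm : ∀ x ∈ Q, ∀ y ∈ Q, x * y * x⁻¹ * y⁻¹ = 1 ∨ x * y * x⁻¹ * y⁻¹ = z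
  sq : ∀ x ∈ Q, x * x = 1 ∨ x * x = z
  cinv : ∀ ι ∈ Q, (∀ q ∈ Q, ι * q = q * ι) → ι * ι = 1 → ι = 1 ∨ ι = z

/-- Transport along an automorphism. -/
theorem Core.map {z : G} {Q : Subgroup G} (h : Core z Q) (φ : G ≃* G) :
    Core (φ z) (Q.map φ.toMonoidHom) := by
  have hmem : ∀ x : G, x ∈ Q.map φ.toMonoidHom ↔ φ.symm x ∈ Q := by
    intro x
    constructor
    · rintro ⟨q, hq, rfl⟩
      simpa using hq
    · intro hx
      exact ⟨φ.symm x, hx, by simp⟩
  have hcz : ∀ c : G, c * φ z = φ z * c → φ.symm c * z = z * φ.symm c := by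
    intro c hc
    have := congrArg φ.symm hc
    simpa using this
  refine ⟨?_, ?_, ?_, ?_, ?_, ?_, ?_, ?_, ?_, ?_, ?_⟩
  · rw [← map_mul, h.zz, map_one]
  · intro h1
    apply h.z1
    have := congrArg φ.symm h1
    simpa using this
  · exact Subgroup.mem_map_of_mem _ h.zQ
  · rintro _ ⟨q, hq, rfl⟩
    change φ q * φ z = φ z * φ q
    rw [← map_mul, ← map_mul, h.cent q hq]
  · exact h.two.map _
  · intro c hc x hx
    rw [hmem] at hx ⊢
    have := h.norm (φ.symm c) (hcz c hc) _ hx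
    simpa using this
  · intro c hc hcq
    rw [hmem]
    apply h.selfc _ (hcz c hc)
    intro q hq
    have := hcq (φ q) (Subgroup.mem_map_of_mem _ hq)
    have := congrArg φ.symm this
    simpa using this
  · intro M hMz hM2 hMn
    have hle : M.map φ.symm.toMonoidHom ≤ Q := by
      apply h.max
      · rintro _ ⟨m, hm, rfl⟩
        change φ.symm m * z = z * φ.symm m
        exact hcz m (hMz m hm)
      · exact hM2.map _
      · rintro c hc _ ⟨m, hm, rfl⟩
        have hc' : φ c * φ z = φ z * φ c := by rw [← map_mul, ← map_mul, hc]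
        have := hMn (φ c) hc' m hm
        refine ⟨φ c * m * (φ c)⁻¹, this, ?_⟩
        change φ.symm (φ c * m * (φ c)⁻¹) = c * φ.symm m * c⁻¹
        simp
    intro m hm
    rw [hmem]
    exact hle ⟨m, hm, rfl⟩
  · intro x hx y hy
    rw [hmem] at hx hy
    rcases h.comm _ hx _ hy with h1 | h1
    · left
      have := congrArg φ h1
      simpa using this
    · right
      have := congrArg φ h1
      simpa using this
  · intro x hx
    rw [hmem] at hx
    rcases h.sq _ hx with h1 | h1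
    · left
      have := congrArg φ h1
      simpa using this
    · right
      have := congrArg φ h1
      simpa using this
  · intro ι hι hcen hsq
    rw [hmem] at hι
    have h1 : ∀ q ∈ Q, φ.symm ι * q = q * φ.symm ι := by
      intro q hq
      have := hcen (φ q) (Subgroup.mem_map_of_mem _ hq)
      have := congrArg φ.symm this
      simpa using this
    have h2 : φ.symm ι * φ.symm ι = 1 := by rw [← map_mul, hsq, map_one]
    rcases h.cinv _ hι h1 h2 with h3 | h3
    · left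
      have := congrArg φ h3
      simpa using this
    · right
      have := congrArg φ h3
      simpa using this

/-- Commuting iff trivial commutator. -/
theorem comm_iff (x y : G) : x * y = y * x ↔ x * y * x⁻¹ * y⁻¹ = 1 := by
  constructor
  · intro hxy; rw [hxy]; group
  · intro hxy
    calc x * y = (x * y * x⁻¹ * y⁻¹) * (y * x) := by group
      _ = y * x := by rw [hxy, one_mul]

theorem commute_inv_iff (x y : G) : x⁻¹ * y = y * x⁻¹ ↔ x * y = y * x := by
  constructor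
  · intro h1
    calc x * y = x * (y * x⁻¹) * x := by group
      _ = x * (x⁻¹ * y) * x := by rw [h1]
      _ = y * x := by group
  · intro h1
    calc x⁻¹ * y = x⁻¹ * (y * x) * x⁻¹ := by group
      _ = x⁻¹ * (x * y) * x⁻¹ := by rw [h1]
      _ = y * x⁻¹ := by group

theorem commute_conj_iff (a x r : G) :
    (a * x * a⁻¹) * r = r * (a * x * a⁻¹) ↔ x * (a⁻¹ * r * a) = (a⁻¹ * r * a) * x := by
  constructor
  · intro h1
    calc x * (a⁻¹ * r * a) = a⁻¹ * ((a * x * a⁻¹) * r) * a := by group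
      _ = a⁻¹ * (r * (a * x * a⁻¹)) * a := by rw [h1]
      _ = (a⁻¹ * r * a) * x := by group
  · intro h1
    calc (a * x * a⁻¹) * r = a * (x * (a⁻¹ * r * a)) * a⁻¹ := by group
      _ = a * ((a⁻¹ * r * a) * x) * a⁻¹ := by rw [h1]
      _ = r * (a * x * a⁻¹) := by group

namespace Core

variable {z : G} {Q : Subgroup G}

theorem zinv (h : Core z Q) : z⁻¹ = z := inv_eq_of_mul_eq_one_left h.zz

theorem conj_cases (h : Core z Q) {x y : G} (hx : x ∈ Q) (hy : y ∈ Q) :
    x * y * x⁻¹ = y ∨ x * y * x⁻¹ = z * y := by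
  rcases h.comm x hx y hy with h1 | h1
  · left
    calc x * y * x⁻¹ = (x * y * x⁻¹ * y⁻¹) * y := by group
      _ = y := by rw [h1, one_mul]
  · right
    calc x * y * x⁻¹ = (x * y * x⁻¹ * y⁻¹) * y := by group
      _ = z * y := by rw [h1]

theorem conj_z (h : Core z Q) {x : G} (hx : x ∈ Q) : x * z * x⁻¹ = z := by
  rw [h.cent x hx]; group

/-- Bimultiplicativity of the commutator on `Q`. -/
theorem cm_mul (h : Core z Q) {x x' y : G} (hx : x ∈ Q) (hx' : x' ∈ Q) (hy : y ∈ Q) :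
    (x * x') * y * (x * x')⁻¹ * y⁻¹ = (x * y * x⁻¹ * y⁻¹) * (x' * y * x'⁻¹ * y⁻¹) := by
  have e : (x * x') * y * (x * x')⁻¹ * y⁻¹ =
      x * (x' * y * x'⁻¹ * y⁻¹) * x⁻¹ * (x * y * x⁻¹ * y⁻¹) := by group
  rw [e]
  rcases h.comm x' hx' y hy with h1 | h1
  · rw [h1]; group
  · rw [h1, h.conj_z hx]
    rcases h.comm x hx y hy with h2 | h2
    · rw [h2]; group
    · rw [h2]

theorem commute_mul_iff (h : Core z Q) {x x' y : G} (hx : x ∈ Q) (hx' : x' ∈ Q) (hy : y ∈ Q) :
    (x * x') * y = y * (x * x') ↔ (x * y = y * x ↔ x' * y = y * x') := by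
  rw [comm_iff, comm_iff x y, comm_iff x' y, h.cm_mul hx hx' hy]
  rcases h.comm x hx y hy with h1 | h1 <;> rcases h.comm x' hx' y hy with h2 | h2 <;>
    rw [h1, h2]
  · simp
  · simp [h.z1]
  · simp [h.z1]
  · simp [h.zz, h.z1]

theorem commute_mul_iff_right (h : Core z Q) {x y y' : G} (hx : x ∈ Q) (hy : y ∈ Q)
    (hy' : y' ∈ Q) :
    x * (y * y') = (y * y') * x ↔ (x * y = y * x ↔ x * y' = y' * x) := by
  have key := h.commute_mul_iff hy hy' hx
  constructor
  · intro h1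
    have h2 := key.mp h1.symm
    exact ⟨fun a => (h2.mp a.symm).symm, fun a => (h2.mpr a.symm).symm⟩
  · intro h1
    exact (key.mpr ⟨fun a => (h1.mp a.symm).symm, fun a => (h1.mpr a.symm).symm⟩).symm

/-- A noncentral involution of `Q` is swapped with its product with `z`. -/
theorem exists_swap (h : Core z Q) {u : G} (hu : u ∈ Q) (huu : u * u = 1) (hu1 : u ≠ 1)
    (huz : u ≠ z) : ∃ q ∈ Q, q * u * q⁻¹ = z * u := by
  by_contra hcon
  push Not at hcon
  have hcen : ∀ q ∈ Q, u * q = q * u := by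
    intro q hq
    rcases h.conj_cases hq hu with h1 | h1
    · calc u * q = (q * u * q⁻¹) * q := by rw [h1]
        _ = q * u := by group
    · exact absurd h1 (hcon q hq)
  rcases h.cinv u hu hcen huu with h1 | h1
  · exact hu1 h1
  · exact huz h1

/-- The centralizer in `Q` of `u` has index at most 2. -/
theorem index_two (h : Core z Q) {u q q' : G} (hu : u ∈ Q) (hq : q ∈ Q) (hq' : q' ∈ Q)
    (h1 : q * u ≠ u * q) (h2 : q' * u ≠ u * q') : (q⁻¹ * q') * u = u * (q⁻¹ * q') := by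
  rw [h.commute_mul_iff (Q.inv_mem hq) hq' hu, commute_inv_iff]
  exact ⟨fun a => absurd a h1, fun a => absurd a h2⟩

/-- An element of `Q` centralizing `C_Q(u)` is central in `Q`, or becomes central after
multiplying by `u`. -/
theorem central_or (h : Core z Q) {u ι : G} (hu : u ∈ Q) (hι : ι ∈ Q)
    (hc : ∀ a ∈ Q, a * u = u * a → ι * a = a * ι) :
    (∀ q ∈ Q, ι * q = q * ι) ∨ (∀ q ∈ Q, (ι * u) * q = q * (ι * u)) := by
  by_cases hcen : ∀ q ∈ Q, ι * q = q * ι
  · exact Or.inl hcen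
  · right
    push Not at hcen
    obtain ⟨q, hq, hqι⟩ := hcen
    have hqu : q * u ≠ u * q := fun a => hqι (hc q hq a)
    intro q' hq'
    rw [h.commute_mul_iff hι hu hq']
    by_cases hq'u : q' * u = u * q'
    · exact ⟨fun _ => hq'u.symm, fun _ => hc q' hq' hq'u⟩
    · have h3 := h.index_two hu hq hq' hqu hq'u
      have h4 : ι * (q⁻¹ * q') = (q⁻¹ * q') * ι := hc _ (Q.mul_mem (Q.inv_mem hq) hq') h3
      have h5 : q' = q * (q⁻¹ * q') := by group
      have h6 : ¬ (ι * q' = q' * ι) := by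
        rw [h5, h.commute_mul_iff_right hι hq (Q.mul_mem (Q.inv_mem hq) hq')]
        intro h7
        exact hqι (h7.mpr h4)
      exact ⟨fun a => absurd a h6, fun a => absurd a.symm hq'u⟩

/-- The stability argument: an element of `C_G(z)` acting on `Q` as a stability automorphism lies
in `Q`. -/
theorem mem_of_stab (h : Core z Q) (c : G) (hc : c * z = z * c)
    (hst : ∀ q ∈ Q, c * q * c⁻¹ = q ∨ c * q * c⁻¹ = z * q) : c ∈ Q := by
  obtain ⟨N, hNdef⟩ : ∃ N : Subgroup G, N = Subgroup.centralizer ({z} : Set G) := ⟨_, rfl⟩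
  have hN : ∀ n, n ∈ N ↔ n * z = z * n := by
    intro n
    rw [hNdef, Subgroup.mem_centralizer_iff]
    constructor
    · intro hn; exact (hn z rfl).symm
    · intro hn x hx; rw [Set.mem_singleton_iff.mp hx]; exact hn.symm
  have hUN : Subgroup.closure {c} ≤ N := by
    rw [Subgroup.closure_le]
    intro x hx
    rw [Set.mem_singleton_iff.mp hx]
    exact (hN c).mpr hc
  have hcomm : ∀ y ∈ Subgroup.closure {c}, ∀ q ∈ Q,
      y * q * y⁻¹ = q ∨ y * q * y⁻¹ = z * q := by
    intro y hy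
    induction hy using Subgroup.closure_induction with
    | mem x hx => rw [Set.mem_singleton_iff.mp hx]; exact hst
    | one => intro q _; left; group
    | mul x y hx hy ihx ihy =>
      intro q hq
      have hxz : x * z = z * x := (hN x).mp (hUN hx)
      have e : x * y * q * (x * y)⁻¹ = x * (y * q * y⁻¹) * x⁻¹ := by group
      rw [e]
      rcases ihy q hq with h1 | h1
      · rw [h1]; exact ihx q hq
      · rw [h1]
        have e2 : x * (z * q) * x⁻¹ = z * (x * q * x⁻¹) := by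
          calc x * (z * q) * x⁻¹ = (x * z) * q * x⁻¹ := by group
            _ = (z * x) * q * x⁻¹ := by rw [hxz]
            _ = z * (x * q * x⁻¹) := by group
        rw [e2]
        rcases ihx q hq with h2 | h2
        · right; rw [h2]
        · left; rw [h2, ← mul_assoc, h.zz, one_mul]
    | inv x hx ihx =>
      intro q hq
      have hxinvz : x⁻¹ * z = z * x⁻¹ := (hN x⁻¹).mp (N.inv_mem (hUN hx))
      have hq' : x⁻¹ * q * x⁻¹⁻¹ ∈ Q := h.norm x⁻¹ hxinvz q hq
      have e : x * (x⁻¹ * q * x⁻¹⁻¹) * x⁻¹ = q := by group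
      rcases ihx _ hq' with h1 | h1
      · left
        rw [e] at h1; exact h1.symm
      · right
        rw [e] at h1
        calc x⁻¹ * q * x⁻¹⁻¹ = z * (z * (x⁻¹ * q * x⁻¹⁻¹)) := by
              rw [← mul_assoc, h.zz, one_mul]
          _ = z * q := by rw [← h1]
  have hUle := Cfsg.Agent.Lib.Lead.NFour.le_of_stability N Q (Subgroup.closure {c}) z
    (fun q hq => (hN q).mpr (h.cent q hq)) h.two
    (fun n hn q hq => h.norm n ((hN n).mp hn) q hq)
    (fun M hMN hM2 hMn => h.max M (fun m hm => (hN m).mp (hMN hm)) hM2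
      (fun c hc m hm => hMn c ((hN c).mpr hc) m hm))
    (fun g hg hgq => h.selfc g ((hN g).mp hg) hgq)
    (fun n hn => (hN n).mp hn) h.zz hUN hcomm
  exact hUle (Subgroup.subset_closure rfl)

/-- The degenerate case `|Q| = 8`: an involutory automorphism of `Q` induced by an element `t`
of `C_G(z)` that never multiplies an element by `z` is trivial. -/
theorem deg_aut (h : Core z Q) {u : G} (hu : u ∈ Q) (huu : u * u = 1) (hu1 : u ≠ 1) (huz : u ≠ z)
    (E1 : ∀ a ∈ Q, a * u = u * a → a * a = 1)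
    (E2 : ∀ a ∈ Q, ∀ a' ∈ Q, a * u = u * a → a' * u = u * a' → a * a' = a' * a)
    (t : G) (htt : t * t = 1) (htz : t * z = z * t) (h3 : ∀ q ∈ Q, t * q * t ≠ z * q) :
    ∀ q ∈ Q, t * q = q * t := by
  have htinv : t⁻¹ = t := inv_eq_of_mul_eq_one_left htt
  have huinv : u⁻¹ = u := inv_eq_of_mul_eq_one_left huu
  have htQ : ∀ q ∈ Q, t * q * t ∈ Q := by
    intro q hq
    have := h.norm t htz q hq
    rwa [htinv] at this
  have huzc : u * z = z * u := h.cent u hu
  obtain ⟨q₀, hq₀, hq₀u⟩ := h.exists_swap hu huu hu1 huz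
  have hzu_ne : z * u ≠ u := by
    intro a
    apply h.z1
    calc z = (z * u) * u⁻¹ := by group
      _ = u * u⁻¹ := by rw [a]
      _ = 1 := by group
  have hswap_ne : ∀ q : G, q * u * q⁻¹ = z * u → q * u ≠ u * q := by
    intro q hq a
    apply hzu_ne
    rw [← hq, a]; group
  have hq₀n : q₀ * u ≠ u * q₀ := hswap_ne q₀ hq₀u
  have S1 : ∀ a ∈ Q, a * u = u * a → q₀ * a = a * q₀ → a = 1 ∨ a = z := by
    intro a ha hau haq
    have hcen : ∀ q ∈ Q, a * q = q * a := by
      intro q hq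
      by_cases hqu : q * u = u * q
      · exact E2 a ha q hq hau hqu
      · have h4 := h.index_two hu hq₀ hq hq₀n hqu
        have h5 : q = q₀ * (q₀⁻¹ * q) := by group
        have hm : q₀⁻¹ * q ∈ Q := Q.mul_mem (Q.inv_mem hq₀) hq
        rw [h5, h.commute_mul_iff_right ha hq₀ hm]
        exact ⟨fun _ => E2 a ha _ hm hau h4, fun _ => haq.symm⟩
    exact h.cinv a ha hcen (E1 a ha hau)
  have S2 : ∀ a ∈ Q, a * u = u * a → a = 1 ∨ a = z ∨ a = u ∨ a = z * u := by
    intro a ha hau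
    by_cases haq : q₀ * a = a * q₀
    · rcases S1 a ha hau haq with h4 | h4
      · exact Or.inl h4
      · exact Or.inr (Or.inl h4)
    · have hau_mem : a * u ∈ Q := Q.mul_mem ha hu
      have h4 : q₀ * (a * u) = (a * u) * q₀ := by
        rw [h.commute_mul_iff_right hq₀ ha hu]
        exact ⟨fun b => absurd b haq, fun b => absurd b hq₀n⟩
      have h5 : (a * u) * u = u * (a * u) := by
        calc (a * u) * u = (u * a) * u := by rw [hau]
          _ = u * (a * u) := by group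
      rcases S1 (a * u) hau_mem h5 h4 with h6 | h6
      · right; right; left
        calc a = (a * u) * u⁻¹ := by group
          _ = u⁻¹ := by rw [h6, one_mul]
          _ = u := huinv
      · right; right; right
        calc a = (a * u) * u⁻¹ := by group
          _ = z * u⁻¹ := by rw [h6]
          _ = z * u := by rw [huinv]
  obtain ⟨q₁, hq₁, hq₁u, hq₁sq⟩ : ∃ q₁ ∈ Q, q₁ * u * q₁⁻¹ = z * u ∧ q₁ * q₁ = z := by
    rcases h.sq q₀ hq₀ with h4 | h4
    · refine ⟨q₀ * u, Q.mul_mem hq₀ hu, ?_, ?_⟩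
      · calc q₀ * u * u * (q₀ * u)⁻¹ = q₀ * u * q₀⁻¹ := by group
          _ = z * u := hq₀u
      · calc q₀ * u * (q₀ * u) = (q₀ * u * q₀⁻¹) * (q₀ * q₀) * u := by group
          _ = z * u * 1 * u := by rw [hq₀u, h4]
          _ = z * (u * u) := by group
          _ = z := by rw [huu, mul_one]
    · exact ⟨q₀, hq₀, hq₀u, h4⟩
  have hq₁n : q₁ * u ≠ u * q₁ := hswap_ne q₁ hq₁u
  have S4 : ∀ q ∈ Q, (q = 1 ∨ q = z ∨ q = u ∨ q = z * u) ∨
      (q = q₁ ∨ q = q₁ * z ∨ q = q₁ * u ∨ q = q₁ * (z * u)) := by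
    intro q hq
    by_cases hqu : q * u = u * q
    · exact Or.inl (S2 q hq hqu)
    · right
      have h4 := h.index_two hu hq₁ hq hq₁n hqu
      have hm : q₁⁻¹ * q ∈ Q := Q.mul_mem (Q.inv_mem hq₁) hq
      have h5 : q = q₁ * (q₁⁻¹ * q) := by group
      rcases S2 _ hm h4 with h6 | h6 | h6 | h6
      · left; rw [h5, h6, mul_one]
      · right; left; rw [h5, h6]
      · right; right; left; rw [h5, h6]
      · right; right; right; rw [h5, h6]
  -- squares
  have hq₁z : q₁ * z = z * q₁ := h.cent q₁ hq₁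
  have sq_zu : (z * u) * (z * u) = 1 := by
    calc (z * u) * (z * u) = z * (u * z) * u := by group
      _ = z * (z * u) * u := by rw [huzc]
      _ = (z * z) * (u * u) := by group
      _ = 1 := by rw [h.zz, huu, one_mul]
  have sq_q₁z : (q₁ * z) * (q₁ * z) = z := by
    calc (q₁ * z) * (q₁ * z) = q₁ * (z * q₁) * z := by group
      _ = q₁ * (q₁ * z) * z := by rw [hq₁z]
      _ = (q₁ * q₁) * (z * z) := by group
      _ = z := by rw [hq₁sq, h.zz, mul_one]
  have sq_q₁u : (q₁ * u) * (q₁ * u) = 1 := by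
    calc (q₁ * u) * (q₁ * u) = (q₁ * u * q₁⁻¹) * (q₁ * q₁) * u := by group
      _ = (z * u) * z * u := by rw [hq₁u, hq₁sq]
      _ = z * (u * z) * u := by group
      _ = z * (z * u) * u := by rw [huzc]
      _ = (z * z) * (u * u) := by group
      _ = 1 := by rw [h.zz, huu, one_mul]
  have conj_zu : q₁ * (z * u) * q₁⁻¹ = u := by
    calc q₁ * (z * u) * q₁⁻¹ = (q₁ * z) * q₁⁻¹ * (q₁ * u * q₁⁻¹) := by group
      _ = (z * q₁) * q₁⁻¹ * (z * u) := by rw [hq₁z, hq₁u]
      _ = (z * z) * u := by group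
      _ = u := by rw [h.zz, one_mul]
  have sq_q₁zu : (q₁ * (z * u)) * (q₁ * (z * u)) = 1 := by
    calc (q₁ * (z * u)) * (q₁ * (z * u)) = (q₁ * (z * u) * q₁⁻¹) * (q₁ * q₁) * (z * u) := by group
      _ = u * z * (z * u) := by rw [conj_zu, hq₁sq]
      _ = u * (z * z) * u := by group
      _ = 1 := by rw [h.zz, mul_one, huu]
  have z_ne : (1 : G) ≠ z := fun a => h.z1 a.symm
  -- the automorphism
  have τmul : ∀ x y : G, t * (x * y) * t = (t * x * t) * (t * y * t) := by
    intro x y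
    calc t * (x * y) * t = t * x * 1 * y * t := by group
      _ = t * x * (t * t) * y * t := by rw [htt]
      _ = (t * x * t) * (t * y * t) := by group
  have τz : t * z * t = z := by
    rw [htz, mul_assoc, htt, mul_one]
  have τinj : ∀ x y : G, t * x * t = y → x = t * y * t := by
    intro x y hxy
    calc x = (t * t) * x * (t * t) := by rw [htt]; group
      _ = t * (t * x * t) * t := by group
      _ = t * y * t := by rw [hxy]
  -- `q₁` is fixed
  have τq₁ : t * q₁ * t = q₁ := by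
    have hs : t * q₁ * t ∈ Q := htQ q₁ hq₁
    have hss : (t * q₁ * t) * (t * q₁ * t) = z := by
      rw [← τmul, hq₁sq, τz]
    rcases S4 _ hs with (h4 | h4 | h4 | h4) | (h4 | h4 | h4 | h4)
    · rw [h4, one_mul] at hss; exact absurd hss z_ne
    · rw [h4, h.zz] at hss; exact absurd hss z_ne
    · rw [h4, huu] at hss; exact absurd hss z_ne
    · rw [h4, sq_zu] at hss; exact absurd hss z_ne
    · exact h4
    · rw [hq₁z] at h4; exact absurd h4 (h3 q₁ hq₁)
    · rw [h4, sq_q₁u] at hss; exact absurd hss z_ne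
    · rw [h4, sq_q₁zu] at hss; exact absurd hss z_ne
  -- `u` is fixed
  have τu : t * u * t = u := by
    have hs : t * u * t ∈ Q := htQ u hu
    have hss : (t * u * t) * (t * u * t) = 1 := by
      rw [← τmul, huu, mul_one, htt]
    have hback : u = t * (t * u * t) * t := τinj u _ rfl
    rcases S4 _ hs with (h4 | h4 | h4 | h4) | (h4 | h4 | h4 | h4)
    · exfalso; apply hu1; rw [hback, h4, mul_one, htt]
    · exfalso; apply huz; rw [hback, h4, τz]
    · exact h4
    · exact absurd h4 (h3 u hu)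
    · rw [h4, hq₁sq] at hss; exact absurd hss.symm z_ne
    · rw [h4, sq_q₁z] at hss; exact absurd hss.symm z_ne
    · exfalso
      apply hzu_ne
      have : t * (q₁ * u) * t = z * u := by
        rw [τmul, τq₁, h4]
        calc q₁ * (q₁ * u) = (q₁ * q₁) * u := by group
          _ = z * u := by rw [hq₁sq]
      rw [← this, ← h4, ← hback]
    · exfalso
      apply hzu_ne
      have : t * (q₁ * (z * u)) * t = z * u := by
        rw [τmul, τmul z u, τq₁, τz, h4]
        calc q₁ * (z * (q₁ * (z * u))) = q₁ * (z * q₁) * (z * u) := by group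
          _ = q₁ * (q₁ * z) * (z * u) := by rw [hq₁z]
          _ = (q₁ * q₁) * (z * z) * u := by group
          _ = z * u := by rw [hq₁sq, h.zz, mul_one]
      rw [← this, ← h4, ← hback]
  -- everything is fixed
  have hfix : ∀ q ∈ Q, t * q * t = q := by
    intro q hq
    rcases S4 q hq with (h4 | h4 | h4 | h4) | (h4 | h4 | h4 | h4) <;> rw [h4]
    · rw [mul_one, htt]
    · exact τz
    · exact τu
    · rw [τmul, τz, τu]
    · exact τq₁
    · rw [τmul, τq₁, τz]
    · rw [τmul, τq₁, τu]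
    · rw [τmul, τmul z u, τq₁, τz, τu]
  intro q hq
  calc t * q = (t * q * t) * t⁻¹ := by group
    _ = q * t := by rw [hfix q hq, htinv]

end Core

/-- The configuration: `u ≠ z` is a conjugate of `z` lying in `Q`, and `Qu` is the corresponding
conjugate of `Q`. -/
structure Pair (z u : G) (Q Qu : Subgroup G) : Prop where
  hz : Core z Q
  hu : Core u Qu
  uQ : u ∈ Q
  ne : u ≠ z
  ex : ∃ n : G, n * z * n⁻¹ = u
  conj : ∀ n : G, n * z * n⁻¹ = u → ∀ q ∈ Q, n * q * n⁻¹ ∈ Qu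
  conj' : ∀ n : G, n * z * n⁻¹ = u → ∀ x ∈ Qu, n⁻¹ * x * n ∈ Q

namespace Pair

variable {z u : G} {Q Qu : Subgroup G}

/-- The main step: `z ∈ Qu`. -/
theorem z_mem (P : Pair z u Q Qu) : z ∈ Qu := by
  by_contra hzQu
  have hz := P.hz
  have hu := P.hu
  have huQ := P.uQ
  have huu : u * u = 1 := hu.zz
  have hu1 : u ≠ 1 := hu.z1
  have huz : u * z = z * u := hz.cent u huQ
  have hzu : z * u = u * z := huz.symm
  have hzinv : z⁻¹ = z := hz.zinv
  have huinv : u⁻¹ = u := hu.zinv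
  have hσ : ∀ x ∈ Qu, z * x * z ∈ Qu := by
    intro x hx
    have := hu.norm z hzu x hx
    rwa [hzinv] at this
  obtain ⟨q₀, hq₀, hq₀u⟩ := hz.exists_swap huQ huu hu1 P.ne
  -- (3a)
  have h3a : ∀ x ∈ Qu, z * x * z ≠ u * x := by
    intro x hx hcon
    apply hzQu
    have hxu : x * u = u * x := hu.cent x hx
    have h1 : x * z * x⁻¹ = z * u := by
      calc x * z * x⁻¹ = (z * z) * x * z * x⁻¹ := by rw [hz.zz, one_mul]
        _ = z * (z * x * z) * x⁻¹ := by group
        _ = z * (u * x) * x⁻¹ := by rw [hcon]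
        _ = z * u := by group
    have hn : (q₀ * x) * z * (q₀ * x)⁻¹ = u := by
      calc (q₀ * x) * z * (q₀ * x)⁻¹ = q₀ * (x * z * x⁻¹) * q₀⁻¹ := by group
        _ = q₀ * (z * u) * q₀⁻¹ := by rw [h1]
        _ = (q₀ * z * q₀⁻¹) * (q₀ * u * q₀⁻¹) := by group
        _ = z * (z * u) := by rw [hz.conj_z hq₀, hq₀u]
        _ = u := by rw [← mul_assoc, hz.zz, one_mul]
    have hmem := P.conj (q₀ * x) hn (z * u) (Q.mul_mem hz.zQ huQ)
    have h2 : (q₀ * x) * (z * u) * (q₀ * x)⁻¹ = z := by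
      calc (q₀ * x) * (z * u) * (q₀ * x)⁻¹
          = q₀ * ((x * z * x⁻¹) * (x * u * x⁻¹)) * q₀⁻¹ := by group
        _ = q₀ * ((z * u) * u) * q₀⁻¹ := by rw [h1, hxu]; group
        _ = q₀ * z * q₀⁻¹ := by rw [mul_assoc z u u, huu, mul_one]
        _ = z := hz.conj_z hq₀
    rw [h2] at hmem
    exact hmem
  -- (3b)
  have h3b : ∀ x ∈ Qu, x⁻¹ * (z * x * z) ∈ Qu ∧
      (x⁻¹ * (z * x * z)) * z = z * (x⁻¹ * (z * x * z)) := by
    intro x hx
    obtain ⟨d, hd⟩ : ∃ d, d = x⁻¹ * (z * x * z) := ⟨_, rfl⟩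
    rw [← hd]
    have hdQ : d ∈ Qu := by rw [hd]; exact Qu.mul_mem (Qu.inv_mem hx) (hσ x hx)
    refine ⟨hdQ, ?_⟩
    have hinv : z * d * z = d⁻¹ := by
      rw [hd]
      calc z * (x⁻¹ * (z * x * z)) * z = z * x⁻¹ * z * x * (z * z) := by group
        _ = z * x⁻¹ * z * x := by rw [hz.zz, mul_one]
        _ = z⁻¹ * x⁻¹ * z⁻¹ * x := by rw [hzinv]
        _ = (x⁻¹ * (z * x * z))⁻¹ := by group
    rcases hu.sq d hdQ with h1 | h1
    · have h2 : d⁻¹ = d := inv_eq_of_mul_eq_one_left h1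
      rw [h2] at hinv
      calc d * z = (z * z) * d * z := by rw [hz.zz, one_mul]
        _ = z * (z * d * z) := by group
        _ = z * d := by rw [hinv]
    · exfalso
      apply h3a d hdQ
      rw [hinv]
      exact inv_eq_of_mul_eq_one_left (by rw [mul_assoc, h1, huu])
  -- (I)
  have hI : ∀ ι ∈ Q, ι ∈ Qu → ι = 1 ∨ ι = u := by
    intro ι hιQ hιQu
    have hZ : ∀ ζ ∈ Q, ζ ∈ Qu → (∀ q ∈ Q, ζ * q = q * ζ) → ζ = 1 := by
      intro ζ h1 h2 h3
      have hsq : ζ * ζ = 1 := by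
        rcases hz.sq ζ h1 with h4 | h4
        · exact h4
        · exfalso; apply hzQu; rw [← h4]; exact Qu.mul_mem h2 h2
      rcases hz.cinv ζ h1 h3 hsq with h4 | h4
      · exact h4
      · exfalso; apply hzQu; rw [← h4]; exact h2
    have hcA : ∀ a ∈ Q, a * u = u * a → ι * a = a * ι := by
      intro a ha hau
      have hm : ι * a * ι⁻¹ * a⁻¹ ∈ Qu := by
        have h1 : a * ι⁻¹ * a⁻¹ ∈ Qu := hu.norm a hau _ (Qu.inv_mem hιQu)
        have e : ι * a * ι⁻¹ * a⁻¹ = ι * (a * ι⁻¹ * a⁻¹) := by group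
        rw [e]; exact Qu.mul_mem hιQu h1
      rcases hz.comm ι hιQ a ha with h1 | h1
      · exact (comm_iff ι a).mpr h1
      · exfalso; apply hzQu; rw [← h1]; exact hm
    rcases hz.central_or huQ hιQ hcA with h1 | h1
    · left; exact hZ ι hιQ hιQu h1
    · right
      have := hZ (ι * u) (Q.mul_mem hιQ huQ) (Qu.mul_mem hιQu hu.zQ) h1
      calc ι = (ι * u) * u⁻¹ := by group
        _ = u := by rw [this, one_mul, huinv]
  -- (AR)
  have hAR : ∀ a ∈ Q, a * u = u * a → ∀ r ∈ Qu, r * z = z * r →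
      a * r * a⁻¹ = r ∨ a * r * a⁻¹ = u * r := by
    intro a ha hau r hr hrz
    have h1 : a * r * a⁻¹ * r⁻¹ ∈ Qu := Qu.mul_mem (hu.norm a hau r hr) (Qu.inv_mem hr)
    have h2 : a * r * a⁻¹ * r⁻¹ ∈ Q := by
      have e : a * r * a⁻¹ * r⁻¹ = a * (r * a⁻¹ * r⁻¹) := by group
      rw [e]; exact Q.mul_mem ha (hz.norm r hrz _ (Q.inv_mem ha))
    rcases hI _ h2 h1 with h3 | h3
    · left
      calc a * r * a⁻¹ = (a * r * a⁻¹ * r⁻¹) * r := by group
        _ = r := by rw [h3, one_mul]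
    · right
      calc a * r * a⁻¹ = (a * r * a⁻¹ * r⁻¹) * r := by group
        _ = u * r := by rw [h3]
  -- Claim A
  have hA : ∀ a ∈ Q, a * u = u * a → ∀ x ∈ Qu, ∀ r ∈ Qu, r * z = z * r →
      (a * x * a⁻¹ * x⁻¹) * r = r * (a * x * a⁻¹ * x⁻¹) := by
    intro a ha hau x hx r hr hrz
    have hax : a * x * a⁻¹ ∈ Qu := hu.norm a hau x hx
    rw [hu.commute_mul_iff hax (Qu.inv_mem hx) hr, commute_inv_iff, commute_conj_iff]
    have hainv : a⁻¹ * u = u * a⁻¹ := (commute_inv_iff a u).mpr hau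
    rcases hAR a⁻¹ (Q.inv_mem ha) hainv r hr hrz with h1 | h1
    · rw [inv_inv] at h1; rw [h1]
    · rw [inv_inv] at h1; rw [h1]
      rw [hu.commute_mul_iff_right hx hu.zQ hr]
      have hxu : x * u = u * x := hu.cent x hx
      exact ⟨fun h2 => h2.mp hxu, fun h2 => ⟨fun _ => h2, fun _ => hxu⟩⟩
  -- Claim B
  have hB : ∀ y ∈ Qu, (∀ r ∈ Qu, r * z = z * r → y * r = r * y) → y * z = z * y := by
    intro y hy hyR
    obtain ⟨w, hw⟩ : ∃ w, w = z * y * z := ⟨_, rfl⟩
    have hwQ : w ∈ Qu := by rw [hw]; exact hσ y hy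
    obtain ⟨e, he⟩ : ∃ e, e = y * w⁻¹ := ⟨_, rfl⟩
    have heQ : e ∈ Qu := by rw [he]; exact Qu.mul_mem hy (Qu.inv_mem hwQ)
    have hecen : ∀ x ∈ Qu, e * x = x * e := by
      intro x hx
      rw [he, hu.commute_mul_iff hy (Qu.inv_mem hwQ) hx, commute_inv_iff]
      obtain ⟨hdQ, hdz⟩ := h3b x hx
      have hyd := hyR _ hdQ hdz
      have h1 : w * x = x * w ↔ y * (z * x * z) = (z * x * z) * y := by
        rw [hw]
        have := commute_conj_iff z y x
        rw [hzinv] at this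
        exact this
      have h2 : z * x * z = x * (x⁻¹ * (z * x * z)) := by group
      rw [h1, h2, hu.commute_mul_iff_right hy hx hdQ]
      exact ⟨fun a => ⟨fun _ => hyd, fun _ => a⟩, fun a => a.mpr hyd⟩
    have hinv : z * e * z = e⁻¹ := by
      rw [he, hw]
      calc z * (y * (z * y * z)⁻¹) * z = z * y * z⁻¹ * y⁻¹ := by group
        _ = z * y * z * y⁻¹ := by rw [hzinv]
        _ = (y * (z * y * z)⁻¹)⁻¹ := by group
    have he1 : e = 1 := by
      rcases hu.sq e heQ with h1 | h1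
      · rcases hu.cinv e heQ hecen h1 with h2 | h2
        · exact h2
        · exfalso
          apply h3a y hy
          rw [← hw]
          calc w = (y * w⁻¹)⁻¹ * y := by group
            _ = u * y := by rw [← he, h2, huinv]
      · exfalso
        apply h3a e heQ
        rw [hinv]
        exact inv_eq_of_mul_eq_one_left (by rw [mul_assoc, h1, huu])
    have hyw : y = w := by
      calc y = (y * w⁻¹) * w := by group
        _ = w := by rw [← he, he1, one_mul]
    have h5 : y = z * y * z := hyw.trans hw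
    calc y * z = (z * y * z) * z := by rw [← h5]
      _ = z * y * (z * z) := by group
      _ = z * y := by rw [hz.zz, mul_one]
  -- the elements `a x a⁻¹ x⁻¹`
  have hY : ∀ a ∈ Q, a * u = u * a → ∀ x ∈ Qu,
      (a * x * a⁻¹ * x⁻¹) ∈ Qu ∧ (a * x * a⁻¹ * x⁻¹) * z = z * (a * x * a⁻¹ * x⁻¹) ∧
      ∀ r ∈ Qu, r * z = z * r → (a * x * a⁻¹ * x⁻¹) * r = r * (a * x * a⁻¹ * x⁻¹) := by
    intro a ha hau x hx
    have h1 : a * x * a⁻¹ * x⁻¹ ∈ Qu := Qu.mul_mem (hu.norm a hau x hx) (Qu.inv_mem hx)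
    have h2 := hA a ha hau x hx
    exact ⟨h1, hB _ h1 h2, h2⟩
  have huup : ∀ p : G, u * (u * p) = p := fun p => by rw [← mul_assoc, huu, one_mul]
  -- squares of `C_Q(u)` are trivial
  have hsqA : ∀ a ∈ Q, a * u = u * a → a * a = 1 := by
    intro a ha hau
    have hmem : a * a ∈ Qu := by
      apply hu.mem_of_stab (a * a)
      · calc a * a * u = a * (a * u) := by group
          _ = a * (u * a) := by rw [hau]
          _ = (a * u) * a := by group
          _ = u * a * a := by rw [hau]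
          _ = u * (a * a) := by group
      · intro x hx
        obtain ⟨hyQ, hyz, hyR⟩ := hY a ha hau x hx
        obtain ⟨y, hy⟩ : ∃ y, y = a * x * a⁻¹ * x⁻¹ := ⟨_, rfl⟩
        rw [← hy] at hyQ hyz hyR
        have hax : a * x * a⁻¹ = y * x := by rw [hy]; group
        have e : a * a * x * (a * a)⁻¹ = (a * y * a⁻¹) * (y * x) := by
          calc a * a * x * (a * a)⁻¹ = a * (a * x * a⁻¹) * a⁻¹ := by group
            _ = a * (y * x) * a⁻¹ := by rw [hax]
            _ = (a * y * a⁻¹) * (a * x * a⁻¹) := by group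
            _ = (a * y * a⁻¹) * (y * x) := by rw [hax]
        rw [e]
        rcases hAR a ha hau y hyQ hyz with h1 | h1 <;> rcases hu.sq y hyQ with h2 | h2
        · left; rw [h1, ← mul_assoc, h2, one_mul]
        · right; rw [h1, ← mul_assoc, h2]
        · right; rw [h1]
          calc u * y * (y * x) = u * ((y * y) * x) := by group
            _ = u * x := by rw [h2, one_mul]
        · left; rw [h1]
          calc u * y * (y * x) = u * ((y * y) * x) := by group
            _ = x := by rw [h2, huup]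
    rcases hz.sq a ha with h1 | h1
    · exact h1
    · exfalso; apply hzQu; rw [← h1]; exact hmem
  -- `C_Q(u)` is abelian
  have hcommA : ∀ a ∈ Q, ∀ a' ∈ Q, a * u = u * a → a' * u = u * a' → a * a' = a' * a := by
    intro a ha a' ha' hau ha'u
    obtain ⟨N, hNdef⟩ : ∃ N : Subgroup G, N = Subgroup.centralizer ({u} : Set G) := ⟨_, rfl⟩
    have hN : ∀ n, n ∈ N ↔ n * u = u * n := by
      intro n
      rw [hNdef, Subgroup.mem_centralizer_iff]
      constructor
      · intro hn; exact (hn u rfl).symm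
      · intro hn x hx; rw [Set.mem_singleton_iff.mp hx]; exact hn.symm
    have haN : a ∈ N := (hN a).mpr hau
    have ha'N : a' ∈ N := (hN a').mpr ha'u
    obtain ⟨k, hk⟩ : ∃ k, k = a * a' * a⁻¹ * a'⁻¹ := ⟨_, rfl⟩
    have hku : k * u = u * k := by
      rw [← hN, hk]
      exact N.mul_mem (N.mul_mem (N.mul_mem haN ha'N) (N.inv_mem haN)) (N.inv_mem ha'N)
    have hmem : k ∈ Qu := by
      apply hu.mem_of_stab k hku
      intro x hx
      obtain ⟨x₁, hx₁⟩ : ∃ x₁, x₁ = (a' * a)⁻¹ * x * (a' * a) := ⟨_, rfl⟩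
      have hx₁Q : x₁ ∈ Qu := by
        rw [hx₁]
        have h1 : (a' * a)⁻¹ * u = u * (a' * a)⁻¹ :=
          (hN _).mp (N.inv_mem (N.mul_mem ha'N haN))
        have := hu.norm (a' * a)⁻¹ h1 x hx
        rwa [inv_inv] at this
      have hxx₁ : x = (a' * a) * x₁ * (a' * a)⁻¹ := by rw [hx₁]; group
      have hkx : k * x * k⁻¹ = (a * a') * x₁ * (a * a')⁻¹ := by rw [hk, hxx₁]; group
      obtain ⟨hyQ, hyz, hyR⟩ := hY a ha hau x₁ hx₁Q
      obtain ⟨hy'Q, hy'z, hy'R⟩ := hY a' ha' ha'u x₁ hx₁Q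
      obtain ⟨y, hy⟩ : ∃ y, y = a * x₁ * a⁻¹ * x₁⁻¹ := ⟨_, rfl⟩
      obtain ⟨y', hy'⟩ : ∃ y', y' = a' * x₁ * a'⁻¹ * x₁⁻¹ := ⟨_, rfl⟩
      rw [← hy] at hyQ hyz hyR
      rw [← hy'] at hy'Q hy'z hy'R
      have hax : a * x₁ * a⁻¹ = y * x₁ := by rw [hy]; group
      have ha'x : a' * x₁ * a'⁻¹ = y' * x₁ := by rw [hy']; group
      have hyy' : y * y' = y' * y := hyR y' hy'Q hy'z
      obtain ⟨p, hp⟩ : ∃ p, p = y * y' * x₁ := ⟨_, rfl⟩
      have e1 : (a * a') * x₁ * (a * a')⁻¹ = (a * y' * a⁻¹) * (y * x₁) := by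
        calc (a * a') * x₁ * (a * a')⁻¹ = a * (a' * x₁ * a'⁻¹) * a⁻¹ := by group
          _ = a * (y' * x₁) * a⁻¹ := by rw [ha'x]
          _ = (a * y' * a⁻¹) * (a * x₁ * a⁻¹) := by group
          _ = (a * y' * a⁻¹) * (y * x₁) := by rw [hax]
      have e2 : x = (a' * y * a'⁻¹) * (y' * x₁) := by
        calc x = (a' * a) * x₁ * (a' * a)⁻¹ := hxx₁
          _ = a' * (a * x₁ * a⁻¹) * a'⁻¹ := by group
          _ = a' * (y * x₁) * a'⁻¹ := by rw [hax]
          _ = (a' * y * a'⁻¹) * (a' * x₁ * a'⁻¹) := by group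
          _ = (a' * y * a'⁻¹) * (y' * x₁) := by rw [ha'x]
      have hL : k * x * k⁻¹ = p ∨ k * x * k⁻¹ = u * p := by
        rw [hkx, e1, hp]
        rcases hAR a ha hau y' hy'Q hy'z with h1 | h1
        · left; rw [h1]
          calc y' * (y * x₁) = (y' * y) * x₁ := by group
            _ = y * y' * x₁ := by rw [hyy']
        · right; rw [h1]
          calc u * y' * (y * x₁) = u * ((y' * y) * x₁) := by group
            _ = u * (y * y' * x₁) := by rw [hyy']
      have hX : x = p ∨ x = u * p := by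
        rw [hp]
        rcases hAR a' ha' ha'u y hyQ hyz with h1 | h1
        · left; rw [h1] at e2; rw [e2]; group
        · right; rw [h1] at e2; rw [e2]; group
      rcases hL with h1 | h1 <;> rcases hX with h2 | h2
      · left; rw [h1, h2]
      · right; rw [h1, h2, huup]
      · right; rw [h1, h2]
      · left; rw [h1, h2]
    rcases hz.comm a ha a' ha' with h1 | h1
    · exact (comm_iff a a').mpr h1
    · exfalso; apply hzQu; rw [← h1, ← hk]; exact hmem
  -- the degenerate case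
  obtain ⟨n, hn⟩ := P.ex
  obtain ⟨t, ht⟩ : ∃ t, t = n⁻¹ * z * n := ⟨_, rfl⟩
  have hzn : z = n * t * n⁻¹ := by rw [ht]; group
  have hzn' : n⁻¹ * u * n = z := by rw [← hn]; group
  have htt : t * t = 1 := by
    rw [ht]
    calc n⁻¹ * z * n * (n⁻¹ * z * n) = n⁻¹ * (z * z) * n := by group
      _ = 1 := by rw [hz.zz]; group
  have htz : t * z = z * t := by
    have hc : (n⁻¹ * z * n) * (n⁻¹ * u * n) = (n⁻¹ * u * n) * (n⁻¹ * z * n) := by
      calc (n⁻¹ * z * n) * (n⁻¹ * u * n) = n⁻¹ * (z * u) * n := by group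
        _ = n⁻¹ * (u * z) * n := by rw [hzu]
        _ = (n⁻¹ * u * n) * (n⁻¹ * z * n) := by group
    rw [hzn'] at hc
    rw [ht]; exact hc
  have h3t : ∀ q ∈ Q, t * q * t ≠ z * q := by
    intro q hq hcon
    have hx : n * q * n⁻¹ ∈ Qu := P.conj n hn q hq
    apply h3a _ hx
    calc z * (n * q * n⁻¹) * z = (n * t * n⁻¹) * (n * q * n⁻¹) * (n * t * n⁻¹) := by rw [← hzn]
      _ = n * (t * q * t) * n⁻¹ := by group
      _ = n * (z * q) * n⁻¹ := by rw [hcon]
      _ = (n * z * n⁻¹) * (n * q * n⁻¹) := by group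
      _ = u * (n * q * n⁻¹) := by rw [hn]
  have hcent := hz.deg_aut huQ huu hu1 P.ne hsqA hcommA t htt htz h3t
  apply hzQu
  apply hu.selfc z hzu
  intro x hx
  have hq : n⁻¹ * x * n ∈ Q := P.conj' n hn x hx
  have h1 := hcent _ hq
  calc z * x = (n * t * n⁻¹) * x := by rw [← hzn]
    _ = n * (t * (n⁻¹ * x * n)) * n⁻¹ := by group
    _ = n * ((n⁻¹ * x * n) * t) * n⁻¹ := by rw [h1]
    _ = x * (n * t * n⁻¹) := by group
    _ = x * z := by rw [← hzn]

theorem closure_cases (P : Pair z u Q Qu) :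
    ∀ w ∈ Subgroup.closure ({z, u} : Set G), w = 1 ∨ w = z ∨ w = u ∨ w = z * u := by
  have hzz : z * z = 1 := P.hz.zz
  have huu : u * u = 1 := P.hu.zz
  have huz : u * z = z * u := P.hz.cent u P.uQ
  have hzinv : z⁻¹ = z := P.hz.zinv
  have huinv : u⁻¹ = u := P.hu.zinv
  have keyz : ∀ y : G, (y = 1 ∨ y = z ∨ y = u ∨ y = z * u) →
      (z * y = 1 ∨ z * y = z ∨ z * y = u ∨ z * y = z * u) := by
    intro y hy
    rcases hy with h | h | h | h <;> rw [h]
    · right; left; rw [mul_one]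
    · left; exact hzz
    · right; right; right; rfl
    · right; right; left; rw [← mul_assoc, hzz, one_mul]
  have keyu : ∀ y : G, (y = 1 ∨ y = z ∨ y = u ∨ y = z * u) →
      (u * y = 1 ∨ u * y = z ∨ u * y = u ∨ u * y = z * u) := by
    intro y hy
    rcases hy with h | h | h | h <;> rw [h]
    · right; right; left; rw [mul_one]
    · right; right; right; exact huz
    · left; exact huu
    · right; left; rw [← mul_assoc, huz, mul_assoc, huu, mul_one]
  intro w hw
  induction hw using Subgroup.closure_induction_left with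
  | one => left; rfl
  | mul_left x hx y hy ih =>
    have hx' : x = z ∨ x = u := by simpa using hx
    rcases hx' with h | h
    · rw [h]; exact keyz y ih
    · rw [h]; exact keyu y ih
  | inv_mul_cancel x hx y hy ih =>
    have hx' : x = z ∨ x = u := by simpa using hx
    rcases hx' with h | h
    · rw [h, hzinv]; exact keyz y ih
    · rw [h, huinv]; exact keyu y ih

/-- The main theorem for the configuration. -/
theorem main (P : Pair z u Q Qu) :
    z ∈ Qu ∧ ∀ u' ∈ Subgroup.closure ({z, u} : Set G), ∀ v' ∈ Subgroup.closure ({z, u} : Set G),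
      u' ≠ 1 → v' ≠ 1 → u' ≠ v' → ∃ x ∈ Q ⊔ Qu, x * z * x⁻¹ = u' ∧ x * u * x⁻¹ = v' := by
  have hzQu := P.z_mem
  refine ⟨hzQu, ?_⟩
  have hz := P.hz
  have hu := P.hu
  have hzz : z * z = 1 := hz.zz
  have huu : u * u = 1 := hu.zz
  have huz : u * z = z * u := hz.cent u P.uQ
  obtain ⟨q₀, hq₀, hq₀u⟩ := hz.exists_swap P.uQ huu hu.z1 P.ne
  obtain ⟨x₀, hx₀, hx₀z⟩ := hu.exists_swap hzQu hzz hz.z1 (Ne.symm P.ne)
  have hq₀z : q₀ * z * q₀⁻¹ = z := hz.conj_z hq₀
  have hx₀u : x₀ * u * x₀⁻¹ = u := hu.conj_z hx₀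
  have hx₀z' : x₀ * z * x₀⁻¹ = z * u := by rw [hx₀z, huz]
  have hq₀Q : q₀ ∈ Q ⊔ Qu := Subgroup.mem_sup_left hq₀
  have hx₀Q : x₀ ∈ Q ⊔ Qu := Subgroup.mem_sup_right hx₀
  have hq₀zu : q₀ * (z * u) * q₀⁻¹ = u := by
    calc q₀ * (z * u) * q₀⁻¹ = (q₀ * z * q₀⁻¹) * (q₀ * u * q₀⁻¹) := by group
      _ = z * (z * u) := by rw [hq₀z, hq₀u]
      _ = u := by rw [← mul_assoc, hzz, one_mul]
  have hx₀zu : x₀ * (z * u) * x₀⁻¹ = z := by
    calc x₀ * (z * u) * x₀⁻¹ = (x₀ * z * x₀⁻¹) * (x₀ * u * x₀⁻¹) := by group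
      _ = (z * u) * u := by rw [hx₀z', hx₀u]
      _ = z := by rw [mul_assoc, huu, mul_one]
  intro u' hu' v' hv' hu'1 hv'1 hne
  rcases P.closure_cases u' hu' with h1 | h1 | h1 | h1 <;>
    rcases P.closure_cases v' hv' with h2 | h2 | h2 | h2
  · exact absurd h1 hu'1
  · exact absurd h1 hu'1
  · exact absurd h1 hu'1
  · exact absurd h1 hu'1
  · exact absurd h2 hv'1
  · exact absurd (h1.trans h2.symm) hne
  · -- (z, u)
    refine ⟨1, Subgroup.one_mem _, ?_, ?_⟩
    · rw [h1]; group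
    · rw [h2]; group
  · -- (z, zu)
    exact ⟨q₀, hq₀Q, by rw [h1]; exact hq₀z, by rw [h2]; exact hq₀u⟩
  · exact absurd h2 hv'1
  · -- (u, z)
    refine ⟨q₀ * x₀ * q₀, Subgroup.mul_mem _ (Subgroup.mul_mem _ hq₀Q hx₀Q) hq₀Q, ?_, ?_⟩
    · rw [h1]
      calc q₀ * x₀ * q₀ * z * (q₀ * x₀ * q₀)⁻¹
          = q₀ * (x₀ * (q₀ * z * q₀⁻¹) * x₀⁻¹) * q₀⁻¹ := by group
        _ = u := by rw [hq₀z, hx₀z', hq₀zu]
    · rw [h2]
      calc q₀ * x₀ * q₀ * u * (q₀ * x₀ * q₀)⁻¹
          = q₀ * (x₀ * (q₀ * u * q₀⁻¹) * x₀⁻¹) * q₀⁻¹ := by group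
        _ = z := by rw [hq₀u, hx₀zu, hq₀z]
  · exact absurd (h1.trans h2.symm) hne
  · -- (u, zu)
    refine ⟨q₀ * x₀, Subgroup.mul_mem _ hq₀Q hx₀Q, ?_, ?_⟩
    · rw [h1]
      calc q₀ * x₀ * z * (q₀ * x₀)⁻¹ = q₀ * (x₀ * z * x₀⁻¹) * q₀⁻¹ := by group
        _ = u := by rw [hx₀z', hq₀zu]
    · rw [h2]
      calc q₀ * x₀ * u * (q₀ * x₀)⁻¹ = q₀ * (x₀ * u * x₀⁻¹) * q₀⁻¹ := by group
        _ = z * u := by rw [hx₀u, hq₀u]
  · exact absurd h2 hv'1
  · -- (zu, z)
    refine ⟨x₀ * q₀, Subgroup.mul_mem _ hx₀Q hq₀Q, ?_, ?_⟩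
    · rw [h1]
      calc x₀ * q₀ * z * (x₀ * q₀)⁻¹ = x₀ * (q₀ * z * q₀⁻¹) * x₀⁻¹ := by group
        _ = z * u := by rw [hq₀z, hx₀z']
    · rw [h2]
      calc x₀ * q₀ * u * (x₀ * q₀)⁻¹ = x₀ * (q₀ * u * q₀⁻¹) * x₀⁻¹ := by group
        _ = z := by rw [hq₀u, hx₀zu]
  · -- (zu, u)
    exact ⟨x₀, hx₀Q, by rw [h1]; exact hx₀z', by rw [h2]; exact hx₀u⟩
  · exact absurd (h1.trans h2.symm) hne

end Pair

end Cfsg.Agent.Lib.Lead.SympCore
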