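import Mathlib

/-!
Families of pairwise trivially intersecting abelian subgroups of a finite 2-group, closed under
conjugation, whose members contain elements of order 4: any two members commute (author: lead).
-/

set_option autoImplicit false

namespace Cfsg.Agent.Lib.Lead.TIFam

variable {X : Type*} [Group X]

/-- The conjugate subgroup `h C h⁻¹`. -/
abbrev cj (h : X) (C : Subgroup X) : Subgroup X := C.map (MulAut.conj h).toMonoidHom

theorem mem_cj {h : X} {C : Subgroup X} {y : X} : y ∈ cj h C ↔ h⁻¹ * y * h ∈ C := by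
  rw [cj, Subgroup.mem_map_equiv, MulAut.conj_symm_apply]

theorem conj_mem_cj {h : X} {C : Subgroup X} {y : X} (hy : y ∈ C) : h * y * h⁻¹ ∈ cj h C := by
  rw [mem_cj]
  have : h⁻¹ * (h * y * h⁻¹) * h = y := by group
  rw [this]; exact hy

/-- A TI-family in `P`. -/
structure Fam (P : Subgroup X) (𝒞 : Set (Subgroup X)) : Prop where
  le : ∀ C ∈ 𝒞, C ≤ P
  conj : ∀ C ∈ 𝒞, ∀ h ∈ P, cj h C ∈ 𝒞
  comm : ∀ C ∈ 𝒞, ∀ x ∈ C, ∀ y ∈ C, x * y = y * x
  four : ∀ C ∈ 𝒞, ∃ x ∈ C, x ^ 4 = 1 ∧ x ^ 2 ≠ 1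
  ti : ∀ C ∈ 𝒞, ∀ C' ∈ 𝒞, C = C' ∨ ∀ x ∈ C, x ∈ C' → x = 1

/-- If `x ≠ 1` lies in `C` and commutes with `y ∈ P`, then `y` normalizes `C`. -/
theorem cj_eq_of_commute {P : Subgroup X} {𝒞 : Set (Subgroup X)} (hF : Fam P 𝒞) {C : Subgroup X}
    (hC : C ∈ 𝒞) {x y : X} (hx : x ∈ C) (hx1 : x ≠ 1) (hy : y ∈ P) (hxy : x * y = y * x) :
    cj y C = C := by
  rcases hF.ti C hC (cj y C) (hF.conj C hC y hy) with h | h
  · exact h.symm
  · exfalso
    apply hx1
    apply h x hx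
    rw [mem_cj]
    have : y⁻¹ * x * y = x := by
      calc y⁻¹ * x * y = y⁻¹ * (x * y) := by group
        _ = y⁻¹ * (y * x) := by rw [hxy]
        _ = x := by group
    rw [this]; exact hx

theorem conj_mem_of_cj_eq {y : X} {C : Subgroup X} (h : cj y C = C) {x : X} (hx : x ∈ C) :
    y * x * y⁻¹ ∈ C := by
  have := conj_mem_cj (h := y) hx
  rw [h] at this
  exact this

theorem conj_inv_mem_of_cj_eq {y : X} {C : Subgroup X} (h : cj y C = C) {x : X} (hx : x ∈ C) :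
    y⁻¹ * x * y ∈ C := by
  rw [← h] at hx
  exact mem_cj.mp hx

/-- Lemma N: if `C` normalizes `C'` then they commute. -/
theorem commute_of_normalizes {P : Subgroup X} (hP : IsPGroup 2 P) {𝒞 : Set (Subgroup X)}
    (hF : Fam P 𝒞) {C C' : Subgroup X} (hC : C ∈ 𝒞) (hC' : C' ∈ 𝒞)
    (hnorm : ∀ x ∈ C, ∀ y ∈ C', x * y * x⁻¹ ∈ C') : ∀ x ∈ C, ∀ y ∈ C', x * y = y * x := by
  rcases hF.ti C hC C' hC' with heq | hti
  · intro x hx y hy
    exact hF.comm C hC x hx y (heq ▸ hy)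
  -- Step 1
  have step1 : ∀ x ∈ C, x ≠ 1 → ∀ y ∈ C', x * y = y * x → ∀ x' ∈ C, x' * y = y * x' := by
    intro x hx hx1 y hy hxy x' hx'
    have hcj := cj_eq_of_commute hF hC hx hx1 (hF.le C' hC' hy) hxy
    have h1 : x' * y * x'⁻¹ * y⁻¹ ∈ C' := C'.mul_mem (hnorm x' hx' y hy) (C'.inv_mem hy)
    have h2 : x' * y * x'⁻¹ * y⁻¹ ∈ C := by
      have : x' * y * x'⁻¹ * y⁻¹ = x' * (y * x'⁻¹ * y⁻¹) := by group
      rw [this]
      exact C.mul_mem hx' (conj_mem_of_cj_eq hcj (C.inv_mem hx'))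
    have h3 := hti _ h2 h1
    calc x' * y = (x' * y * x'⁻¹ * y⁻¹) * (y * x') := by group
      _ = y * x' := by rw [h3, one_mul]
  obtain ⟨x0, hx0, hx04, hx02⟩ := hF.four C hC
  have hx0sq : x0 ^ 2 ∈ C := C.pow_mem hx0 2
  -- α = conjugation by x0 on C'
  have hα : ∀ y ∈ C', x0 * y * x0⁻¹ ∈ C' := hnorm x0 hx0
  -- elements of C' commuting with x0^2 commute with all of C
  have fix2 : ∀ y ∈ C', x0 ^ 2 * y = y * x0 ^ 2 → ∀ x' ∈ C, x' * y = y * x' :=
    fun y hy h => step1 _ hx0sq hx02 y hy h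
  have hα2 : ∀ y : X, x0 ^ 2 * y * (x0 ^ 2)⁻¹ = x0 * (x0 * y * x0⁻¹) * x0⁻¹ := by
    intro y; rw [pow_two]; group
  have hα4 : ∀ y : X, x0 * (x0 * (x0 * (x0 * y * x0⁻¹) * x0⁻¹) * x0⁻¹) * x0⁻¹ = y := by
    intro y
    have : x0 * (x0 * (x0 * (x0 * y * x0⁻¹) * x0⁻¹) * x0⁻¹) * x0⁻¹ = x0 ^ 4 * y * (x0 ^ 4)⁻¹ := by
      rw [show (4 : ℕ) = 2 + 2 by rfl, pow_add, pow_two]; group
    rw [this, hx04]; group
  have commC' := hF.comm C' hC'
  -- key: every y ∈ C' with y^(2^k) = 1 is fixed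
  have key : ∀ k : ℕ, ∀ y ∈ C', y ^ 2 ^ k = 1 → x0 * y = y * x0 := by
    intro k
    induction k with
    | zero =>
      intro y _ hy1
      rw [pow_zero, pow_one] at hy1
      rw [hy1]; group
    | succ k ih =>
      intro y hy hyk
      rcases Nat.eq_zero_or_pos k with hk0 | hkpos
      · -- involution case
        subst hk0
        have hy2 : y * y = 1 := by
          have : y ^ 2 ^ (0 + 1) = y * y := by norm_num [pow_two]
          rw [← this]; exact hyk
        obtain ⟨y1, hy1_def⟩ : ∃ y1, y1 = x0 * y * x0⁻¹ := ⟨_, rfl⟩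
        obtain ⟨y2, hy2_def⟩ : ∃ y2, y2 = x0 * y1 * x0⁻¹ := ⟨_, rfl⟩
        obtain ⟨y3, hy3_def⟩ : ∃ y3, y3 = x0 * y2 * x0⁻¹ := ⟨_, rfl⟩
        have hy1 : y1 ∈ C' := hy1_def ▸ hα y hy
        have hy2' : y2 ∈ C' := hy2_def ▸ hα y1 hy1
        have hy3 : y3 ∈ C' := hy3_def ▸ hα y2 hy2'
        have hy4 : x0 * y3 * x0⁻¹ = y := by
          rw [hy3_def, hy2_def, hy1_def]; exact hα4 y
        have hy1sq : y1 * y1 = 1 := by
          rw [hy1_def]
          calc x0 * y * x0⁻¹ * (x0 * y * x0⁻¹) = x0 * (y * y) * x0⁻¹ := by group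
            _ = 1 := by rw [hy2]; group
        have hy2sq : y2 * y2 = 1 := by
          rw [hy2_def]
          calc x0 * y1 * x0⁻¹ * (x0 * y1 * x0⁻¹) = x0 * (y1 * y1) * x0⁻¹ := by group
            _ = 1 := by rw [hy1sq]; group
        -- u = y * y2 is fixed by α²
        have hu : y * y2 ∈ C' := C'.mul_mem hy hy2'
        have hu_fix2 : x0 ^ 2 * (y * y2) = (y * y2) * x0 ^ 2 := by
          have h1 : x0 ^ 2 * (y * y2) * (x0 ^ 2)⁻¹ = y * y2 := by
            rw [hα2]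
            calc x0 * (x0 * (y * y2) * x0⁻¹) * x0⁻¹
                = (x0 * (x0 * y * x0⁻¹) * x0⁻¹) * (x0 * (x0 * y2 * x0⁻¹) * x0⁻¹) := by group
              _ = y2 * y := by rw [← hy1_def, ← hy2_def, ← hy3_def, hy4]
              _ = y * y2 := commC' y2 hy2' y hy
          calc x0 ^ 2 * (y * y2) = (x0 ^ 2 * (y * y2) * (x0 ^ 2)⁻¹) * x0 ^ 2 := by group
            _ = (y * y2) * x0 ^ 2 := by rw [h1]
        have hu_fix : x0 * (y * y2) = (y * y2) * x0 := fix2 _ hu hu_fix2 x0 hx0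
        -- v = y * y1
        have hv : y * y1 ∈ C' := C'.mul_mem hy hy1
        have hαv : x0 * (y * y1) * x0⁻¹ = (y * y1) * (y * y2) := by
          calc x0 * (y * y1) * x0⁻¹ = (x0 * y * x0⁻¹) * (x0 * y1 * x0⁻¹) := by group
            _ = y1 * y2 := by rw [← hy1_def, ← hy2_def]
            _ = (y * y) * (y1 * y2) := by rw [hy2, one_mul]
            _ = y * (y * y1) * y2 := by group
            _ = y * (y1 * y) * y2 := by rw [commC' y hy y1 hy1]
            _ = (y * y1) * (y * y2) := by group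
        have huu : (y * y2) * (y * y2) = 1 := by
          calc (y * y2) * (y * y2) = y * (y2 * y) * y2 := by group
            _ = y * (y * y2) * y2 := by rw [commC' y2 hy2' y hy]
            _ = (y * y) * (y2 * y2) := by group
            _ = 1 := by rw [hy2, hy2sq, one_mul]
        have hv_fix2 : x0 ^ 2 * (y * y1) = (y * y1) * x0 ^ 2 := by
          have h1 : x0 ^ 2 * (y * y1) * (x0 ^ 2)⁻¹ = y * y1 := by
            rw [hα2, hαv]
            calc x0 * ((y * y1) * (y * y2)) * x0⁻¹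
                = (x0 * (y * y1) * x0⁻¹) * (x0 * (y * y2) * x0⁻¹) := by group
              _ = ((y * y1) * (y * y2)) * (y * y2) := by
                  rw [hαv]
                  congr 1
                  calc x0 * (y * y2) * x0⁻¹ = (x0 * (y * y2)) * x0⁻¹ := by group
                    _ = ((y * y2) * x0) * x0⁻¹ := by rw [hu_fix]
                    _ = y * y2 := by group
              _ = (y * y1) * ((y * y2) * (y * y2)) := by group
              _ = y * y1 := by rw [huu, mul_one]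
          calc x0 ^ 2 * (y * y1) = (x0 ^ 2 * (y * y1) * (x0 ^ 2)⁻¹) * x0 ^ 2 := by group
            _ = (y * y1) * x0 ^ 2 := by rw [h1]
        have hv_fix : x0 * (y * y1) = (y * y1) * x0 := fix2 _ hv hv_fix2 x0 hx0
        have hu1 : y * y2 = 1 := by
          have h1 : x0 * (y * y1) * x0⁻¹ = y * y1 := by
            calc x0 * (y * y1) * x0⁻¹ = (x0 * (y * y1)) * x0⁻¹ := by group
              _ = ((y * y1) * x0) * x0⁻¹ := by rw [hv_fix]
              _ = y * y1 := by group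
          rw [hαv] at h1
          exact mul_left_cancel (a := y * y1) (by rw [h1, mul_one])
        -- so y2 = y, i.e. y commutes with x0^2
        have hy2y : y2 = y := by
          have : y2 = (y * y) * y2 := by rw [hy2, one_mul]
          rw [this, mul_assoc, hu1, mul_one]
        have hy_fix2 : x0 ^ 2 * y = y * x0 ^ 2 := by
          have h1 : x0 ^ 2 * y * (x0 ^ 2)⁻¹ = y := by
            rw [hα2, ← hy1_def, ← hy2_def, hy2y]
          calc x0 ^ 2 * y = (x0 ^ 2 * y * (x0 ^ 2)⁻¹) * x0 ^ 2 := by group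
            _ = y * x0 ^ 2 := by rw [h1]
        exact fix2 y hy hy_fix2 x0 hx0
      · -- k ≥ 1
        have hysq : y ^ 2 ∈ C' := C'.pow_mem hy 2
        have h1 : (y ^ 2) ^ 2 ^ k = 1 := by
          rw [← pow_mul, ← pow_succ']; exact hyk
        have hfix_sq : x0 * y ^ 2 = y ^ 2 * x0 := ih _ hysq h1
        obtain ⟨w, hw_def⟩ : ∃ w, w = y⁻¹ * (x0 * y * x0⁻¹) := ⟨_, rfl⟩
        have hw : w ∈ C' := hw_def ▸ C'.mul_mem (C'.inv_mem hy) (hα y hy)
        have hww : w ^ 2 = 1 := by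
          have hc := commC' y⁻¹ (C'.inv_mem hy) _ (hα y hy)
          rw [hw_def, pow_two]
          calc y⁻¹ * (x0 * y * x0⁻¹) * (y⁻¹ * (x0 * y * x0⁻¹))
              = y⁻¹ * ((x0 * y * x0⁻¹) * y⁻¹) * (x0 * y * x0⁻¹) := by group
            _ = y⁻¹ * (y⁻¹ * (x0 * y * x0⁻¹)) * (x0 * y * x0⁻¹) := by rw [← hc]
            _ = (y ^ 2)⁻¹ * ((x0 * y ^ 2) * x0⁻¹) := by rw [pow_two]; group
            _ = (y ^ 2)⁻¹ * ((y ^ 2 * x0) * x0⁻¹) := by rw [hfix_sq]
            _ = 1 := by group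
        have hwk : w ^ 2 ^ k = 1 := by
          obtain ⟨k', rfl⟩ : ∃ k', k = k' + 1 := ⟨k - 1, by omega⟩
          rw [pow_succ', pow_mul, hww, one_pow]
        have hw_fix : x0 * w = w * x0 := ih w hw hwk
        have hy_fix2 : x0 ^ 2 * y = y * x0 ^ 2 := by
          have hyw : x0 * y * x0⁻¹ = y * w := by rw [hw_def]; group
          have h1 : x0 ^ 2 * y * (x0 ^ 2)⁻¹ = y := by
            rw [hα2, hyw]
            calc x0 * (y * w) * x0⁻¹ = (x0 * y * x0⁻¹) * ((x0 * w) * x0⁻¹) := by group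
              _ = (y * w) * ((w * x0) * x0⁻¹) := by rw [hyw, hw_fix]
              _ = y * (w * w) := by group
              _ = y := by rw [← pow_two, hww, mul_one]
          calc x0 ^ 2 * y = (x0 ^ 2 * y * (x0 ^ 2)⁻¹) * x0 ^ 2 := by group
            _ = y * x0 ^ 2 := by rw [h1]
        exact fix2 y hy hy_fix2 x0 hx0
  have hx01 : x0 ≠ 1 := by
    intro h; apply hx02; rw [h, one_pow]
  intro x hx y hy
  obtain ⟨k, hk⟩ := hP ⟨y, hF.le C' hC' hy⟩
  have hk' : y ^ 2 ^ k = 1 := by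
    have := congrArg Subtype.val hk
    simpa using this
  exact step1 x0 hx0 hx01 y hy (key k y hy hk') x hx

/-- A proper subgroup of a finite 2-group lies in a proper subgroup normalized by the whole group. -/
theorem exists_normal_proper [Finite X] {P A : Subgroup X} (hP : IsPGroup 2 P) (hAP : A ≤ P)
    (hne : A ≠ P) :
    ∃ M : Subgroup X, A ≤ M ∧ M ≤ P ∧ M ≠ P ∧ ∀ h ∈ P, ∀ m ∈ M, h * m * h⁻¹ ∈ M := by
  haveI : Fact (Nat.Prime 2) := ⟨Nat.prime_two⟩
  have hA' : A.subgroupOf P ≠ ⊤ := by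
    intro h
    rw [Subgroup.subgroupOf_eq_top] at h
    exact hne (le_antisymm hAP h)
  rcases eq_top_or_exists_le_coatom (A.subgroupOf P) with h' | ⟨M', hM', hAM'⟩
  · exact absurd h' hA'
  haveI : Group.IsNilpotent ↥P := hP.isNilpotent
  have hnormal : M'.Normal :=
    Subgroup.NormalizerCondition.normal_of_coatom M' Group.normalizerCondition_of_isNilpotent hM'
  refine ⟨M'.map P.subtype, ?_, Subgroup.map_subtype_le M', ?_, ?_⟩
  · intro a ha
    exact ⟨⟨a, hAP ha⟩, hAM' (by rw [Subgroup.mem_subgroupOf]; exact ha), rfl⟩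
  · intro h
    apply hM'.1
    rw [eq_top_iff]
    intro x _
    have hx : (x : X) ∈ M'.map P.subtype := by rw [h]; exact x.2
    obtain ⟨x', hx', hxx'⟩ := hx
    have : x' = x := Subtype.ext hxx'
    rw [← this]; exact hx'
  · rintro h hh m ⟨m', hm', rfl⟩
    exact ⟨⟨h, hh⟩ * m' * ⟨h, hh⟩⁻¹, hnormal.conj_mem m' hm' ⟨h, hh⟩, by simp⟩

theorem card_lt_of_ne [Finite X] {M P : Subgroup X} (hMP : M ≤ P) (hne : M ≠ P) :
    Nat.card M < Nat.card P := by
  by_contra h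
  push Not at h
  apply hne
  apply le_antisymm hMP
  intro x hx
  by_contra hxM
  have hlt : (M : Set X) ⊂ (P : Set X) := by
    refine ⟨hMP, fun hsub => hxM (hsub hx)⟩
  have := Set.ncard_lt_ncard hlt (Set.toFinite _)
  rw [← Nat.card_coe_set_eq, ← Nat.card_coe_set_eq] at this
  exact absurd h (not_le.mpr this)

/-- Restricting a family to a subgroup. -/
theorem Fam.restrict {P : Subgroup X} {𝒞 : Set (Subgroup X)} (hF : Fam P 𝒞) {M : Subgroup X}
    (hMP : M ≤ P) : Fam M {C | C ∈ 𝒞 ∧ C ≤ M} where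
  le := fun _ hC => hC.2
  conj := by
    rintro C ⟨hC, hCM⟩ h hh
    refine ⟨hF.conj C hC h (hMP hh), ?_⟩
    intro y hy
    rw [mem_cj] at hy
    have : y = h * (h⁻¹ * y * h) * h⁻¹ := by group
    rw [this]
    exact M.mul_mem (M.mul_mem hh (hCM hy)) (M.inv_mem hh)
  comm := fun C hC => hF.comm C hC.1
  four := fun C hC => hF.four C hC.1
  ti := fun C hC C' hC' => hF.ti C hC.1 C' hC'.1

/-- The main lemma: any two members of a TI-family in a finite 2-group commute. -/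
theorem fam_commute [Finite X] : ∀ (n : ℕ) (P : Subgroup X) (𝒞 : Set (Subgroup X)),
    Nat.card P ≤ n → IsPGroup 2 P → Fam P 𝒞 →
    ∀ C ∈ 𝒞, ∀ C' ∈ 𝒞, ∀ x ∈ C, ∀ y ∈ C', x * y = y * x := by
  intro n
  induction n with
  | zero =>
    intro P 𝒞 hcard
    have : 0 < Nat.card P := Nat.card_pos
    omega
  | succ n ih =>
    intro P 𝒞 hcard hP hF A hA A1 hA1
    -- commuting inside proper subgroups
    have hsub : ∀ M : Subgroup X, M ≤ P → M ≠ P → ∀ C ∈ 𝒞, ∀ C' ∈ 𝒞, C ≤ M → C' ≤ M →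
        ∀ x ∈ C, ∀ y ∈ C', x * y = y * x := by
      intro M hMP hne C hC C' hC' hCM hC'M
      have hlt := card_lt_of_ne hMP hne
      exact ih M _ (by omega) (hP.to_le hMP) (hF.restrict hMP) C ⟨hC, hCM⟩ C' ⟨hC', hC'M⟩
    -- the normal closure of a member is abelian
    have hclosure : ∀ C ∈ 𝒞, C ≠ P → ∀ h ∈ P, ∀ h' ∈ P, ∀ x ∈ cj h C, ∀ y ∈ cj h' C,
        x * y = y * x := by
      intro C hC hCP h hh h' hh' x hx y hy
      obtain ⟨M, hCM, hMP, hMne, hMnorm⟩ := exists_normal_proper hP (hF.le C hC) hCP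
      have hsubM : ∀ g ∈ P, cj g C ≤ M := by
        intro g hg z hz
        rw [mem_cj] at hz
        have : z = g * (g⁻¹ * z * g) * g⁻¹ := by group
        rw [this]
        exact hMnorm g hg _ (hCM hz)
      exact hsub M hMP hMne _ (hF.conj C hC h hh) _ (hF.conj C hC h' hh') (hsubM h hh)
        (hsubM h' hh') x hx y hy
    by_cases hAP : A = P
    · -- then A1 ≤ A
      rcases hF.ti A1 hA1 A hA with heq | hti
      · intro x hx y hy
        exact hF.comm A hA x hx y (heq ▸ hy)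
      · exfalso
        obtain ⟨x0, hx0, _, hx02⟩ := hF.four A1 hA1
        apply hx02
        rw [hti x0 hx0 (hAP ▸ hF.le A1 hA1 hx0), one_pow]
    by_cases hA1P : A1 = P
    · rcases hF.ti A hA A1 hA1 with heq | hti
      · intro x hx y hy
        exact hF.comm A1 hA1 x (heq ▸ hx) y hy
      · exfalso
        obtain ⟨x0, hx0, _, hx02⟩ := hF.four A hA
        apply hx02
        rw [hti x0 hx0 (hA1P ▸ hF.le A hA hx0), one_pow]
    -- the two normal closures
    obtain ⟨Na, hNa_def⟩ : ∃ Na, Na = Subgroup.closure {z : X | ∃ h ∈ P, z ∈ cj h A} := ⟨_, rfl⟩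
    obtain ⟨Nb, hNb_def⟩ : ∃ Nb, Nb = Subgroup.closure {z : X | ∃ h ∈ P, z ∈ cj h A1} := ⟨_, rfl⟩
    have hNa_comm : ∀ x ∈ Na, ∀ y ∈ Na, x * y = y * x := by
      have := Subgroup.isMulCommutative_closure (k := {z : X | ∃ h ∈ P, z ∈ cj h A})
        (by
          rintro x ⟨h, hh, hx⟩ y ⟨h', hh', hy⟩
          exact hclosure A hA hAP h hh h' hh' x hx y hy)
      intro x hx y hy
      rw [hNa_def] at hx hy
      have h1 := this.is_comm.comm ⟨x, hx⟩ ⟨y, hy⟩
      exact congrArg Subtype.val h1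
    have hNb_comm : ∀ x ∈ Nb, ∀ y ∈ Nb, x * y = y * x := by
      have := Subgroup.isMulCommutative_closure (k := {z : X | ∃ h ∈ P, z ∈ cj h A1})
        (by
          rintro x ⟨h, hh, hx⟩ y ⟨h', hh', hy⟩
          exact hclosure A1 hA1 hA1P h hh h' hh' x hx y hy)
      intro x hx y hy
      rw [hNb_def] at hx hy
      have h1 := this.is_comm.comm ⟨x, hx⟩ ⟨y, hy⟩
      exact congrArg Subtype.val h1
    have hcj_one : ∀ C : Subgroup X, ∀ z ∈ C, z ∈ cj 1 C := by
      intro C z hz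
      rw [mem_cj]; simpa using hz
    have hANa : A ≤ Na := by
      intro z hz
      rw [hNa_def]
      exact Subgroup.subset_closure ⟨1, P.one_mem, hcj_one A z hz⟩
    have hA1Nb : A1 ≤ Nb := by
      intro z hz
      rw [hNb_def]
      exact Subgroup.subset_closure ⟨1, P.one_mem, hcj_one A1 z hz⟩
    -- normalized by P
    have hnormgen : ∀ (C : Subgroup X), ∀ g ∈ P,
        ∀ z ∈ Subgroup.closure {z : X | ∃ h ∈ P, z ∈ cj h C},
          g * z * g⁻¹ ∈ Subgroup.closure {z : X | ∃ h ∈ P, z ∈ cj h C} := by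
      intro C g hg z hz
      induction hz using Subgroup.closure_induction with
      | mem z hz =>
        obtain ⟨h, hh, hz⟩ := hz
        apply Subgroup.subset_closure
        refine ⟨g * h, P.mul_mem hg hh, ?_⟩
        rw [mem_cj] at hz ⊢
        have : (g * h)⁻¹ * (g * z * g⁻¹) * (g * h) = h⁻¹ * z * h := by group
        rw [this]; exact hz
      | one => simp
      | mul a b _ _ iha ihb =>
        have : g * (a * b) * g⁻¹ = (g * a * g⁻¹) * (g * b * g⁻¹) := by group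
        rw [this]; exact Subgroup.mul_mem _ iha ihb
      | inv a _ iha =>
        have : g * a⁻¹ * g⁻¹ = (g * a * g⁻¹)⁻¹ := by group
        rw [this]; exact Subgroup.inv_mem _ iha
    have hNa_norm : ∀ g ∈ P, ∀ z ∈ Na, g * z * g⁻¹ ∈ Na := by
      intro g hg z hz
      rw [hNa_def] at hz ⊢
      exact hnormgen A g hg z hz
    have hNb_norm : ∀ g ∈ P, ∀ z ∈ Nb, g * z * g⁻¹ ∈ Nb := by
      intro g hg z hz
      rw [hNb_def] at hz ⊢
      exact hnormgen A1 g hg z hz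
    have hNaP : Na ≤ P := by
      rw [hNa_def, Subgroup.closure_le]
      rintro z ⟨h, hh, hz⟩
      exact hF.le _ (hF.conj A hA h hh) hz
    have hNbP : Nb ≤ P := by
      rw [hNb_def, Subgroup.closure_le]
      rintro z ⟨h, hh, hz⟩
      exact hF.le _ (hF.conj A1 hA1 h hh) hz
    -- commutators
    have hD : ∀ u ∈ Na, ∀ v ∈ Nb, u * v * u⁻¹ * v⁻¹ ∈ Na ∧ u * v * u⁻¹ * v⁻¹ ∈ Nb := by
      intro u hu v hv
      constructor
      · have : u * v * u⁻¹ * v⁻¹ = u * (v * u⁻¹ * v⁻¹) := by group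
        rw [this]
        exact Na.mul_mem hu (hNa_norm v (hNbP hv) _ (Na.inv_mem hu))
      · exact Nb.mul_mem (hNb_norm u (hNaP hu) v hv) (Nb.inv_mem hv)
    -- it suffices that A normalizes A1
    suffices hnorm : ∀ x ∈ A, ∀ y ∈ A1, x * y * x⁻¹ ∈ A1 from
      commute_of_normalizes hP hF hA hA1 hnorm
    obtain ⟨y0, hy0, hy04, hy02⟩ := hF.four A1 hA1
    have hy0sq : y0 ^ 2 ∈ A1 := A1.pow_mem hy0 2
    -- an element of A commuting with a nonidentity element of A1 normalizes A1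
    have hnorm_of : ∀ x ∈ A, ∀ z ∈ A1, z ≠ 1 → z * x = x * z → ∀ y ∈ A1, x * y * x⁻¹ ∈ A1 := by
      intro x hx z hz hz1 hzx y hy
      have := cj_eq_of_commute hF hA1 hz hz1 (hF.le A hA hx) hzx
      exact conj_mem_of_cj_eq this hy
    by_cases hcase : ∃ z ∈ A1, z ∈ Na ∧ z ∈ Nb ∧ z ≠ 1
    · obtain ⟨z, hzA1, hzNa, _, hz1⟩ := hcase
      intro x hx y hy
      exact hnorm_of x hx z hzA1 hz1 (hNa_comm z hzNa x (hANa hx)) y hy
    · push Not at hcase
      -- d x = [x, y0]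
      have hd_mem : ∀ x ∈ A, x * y0 * x⁻¹ * y0⁻¹ ∈ Na ∧ x * y0 * x⁻¹ * y0⁻¹ ∈ Nb :=
        fun x hx => hD x (hANa hx) y0 (hA1Nb hy0)
      have hd_sq : ∀ x ∈ A, (x ^ 2) * y0 * (x ^ 2)⁻¹ * y0⁻¹ = (x * y0 * x⁻¹ * y0⁻¹) ^ 2 := by
        intro x hx
        have hc := hNa_comm _ (hd_mem x hx).1 x (hANa hx)
        rw [pow_two, pow_two]
        calc x * x * y0 * (x * x)⁻¹ * y0⁻¹
            = (x * (x * y0 * x⁻¹ * y0⁻¹)) * x⁻¹ * (x * y0 * x⁻¹ * y0⁻¹) := by group
          _ = ((x * y0 * x⁻¹ * y0⁻¹) * x) * x⁻¹ * (x * y0 * x⁻¹ * y0⁻¹) := by rw [hc]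
          _ = (x * y0 * x⁻¹ * y0⁻¹) * (x * y0 * x⁻¹ * y0⁻¹) := by group
      have hd_ysq : ∀ x ∈ A, x * y0 ^ 2 * x⁻¹ * (y0 ^ 2)⁻¹ = (x * y0 * x⁻¹ * y0⁻¹) ^ 2 := by
        intro x hx
        have hc := hNb_comm _ (hd_mem x hx).2 y0 (hA1Nb hy0)
        rw [pow_two, pow_two]
        calc x * (y0 * y0) * x⁻¹ * (y0 * y0)⁻¹
            = (x * y0 * x⁻¹ * y0⁻¹) * (y0 * (x * y0 * x⁻¹ * y0⁻¹)) * y0⁻¹ := by group
          _ = (x * y0 * x⁻¹ * y0⁻¹) * ((x * y0 * x⁻¹ * y0⁻¹) * y0) * y0⁻¹ := by rw [hc]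
          _ = (x * y0 * x⁻¹ * y0⁻¹) * (x * y0 * x⁻¹ * y0⁻¹) := by group
      have hstar : ∀ x ∈ A, (x * y0 * x⁻¹ * y0⁻¹) ^ 2 = 1 → x * y0 * x⁻¹ * y0⁻¹ = 1 := by
        intro x hx hsq
        have h1 : y0 ^ 2 * x = x * y0 ^ 2 := by
          have h2 := hd_ysq x hx
          rw [hsq] at h2
          calc y0 ^ 2 * x = (x * y0 ^ 2 * x⁻¹ * (y0 ^ 2)⁻¹)⁻¹ * (x * y0 ^ 2) := by group
            _ = x * y0 ^ 2 := by rw [h2, inv_one, one_mul]
        have h3 : x * y0 * x⁻¹ ∈ A1 := hnorm_of x hx _ hy0sq hy02 h1 y0 hy0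
        have h4 : x * y0 * x⁻¹ * y0⁻¹ ∈ A1 := A1.mul_mem h3 (A1.inv_mem hy0)
        exact hcase _ h4 (hd_mem x hx).1 (hd_mem x hx).2
      have hpow : ∀ j : ℕ, ∀ x ∈ A, (x * y0 * x⁻¹ * y0⁻¹) ^ 2 ^ j = 1 →
          x * y0 * x⁻¹ * y0⁻¹ = 1 := by
        intro j
        induction j with
        | zero =>
          intro x _ h
          rw [pow_zero, pow_one] at h
          exact h
        | succ j ihj =>
          intro x hx h
          apply hstar x hx
          rw [← hd_sq x hx]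
          apply ihj (x ^ 2) (A.pow_mem hx 2)
          rw [hd_sq x hx, ← pow_mul, ← pow_succ']
          exact h
      have hcent : ∀ x ∈ A, y0 * x = x * y0 := by
        intro x hx
        obtain ⟨j, hj⟩ := hP ⟨x * y0 * x⁻¹ * y0⁻¹, hNaP (hd_mem x hx).1⟩
        have hj' : (x * y0 * x⁻¹ * y0⁻¹) ^ 2 ^ j = 1 := by
          have := congrArg Subtype.val hj
          simpa using this
        have h1 := hpow j x hx hj'
        calc y0 * x = (x * y0 * x⁻¹ * y0⁻¹)⁻¹ * (x * y0) := by group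
          _ = x * y0 := by rw [h1, inv_one, one_mul]
      have hy01 : y0 ≠ 1 := by
        intro h; apply hy02; rw [h, one_pow]
      intro x hx y hy
      exact hnorm_of x hx y0 hy0 hy01 (hcent x hx) y hy

end Cfsg.Agent.Lib.Lead.TIFam
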