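import Mathlib
import Cfsg.Agent.Lib.Lead.TIFam
import Cfsg.Agent.Lib.Helper7.Core

/-!
Squares of an abelian TI 2-subgroup `A` of a finite group `X` with `C_X(O_2(X)) ≤ O_2(X)` lie in
`O_2(X)`; if some square has order `≥ 4`, squares of conjugates commute (author: lead).
-/

set_option autoImplicit false

namespace Cfsg.Agent.Lib.Lead.TISquares

open Cfsg Cfsg.Agent.Lib.Lead.TIFam

variable {X : Type*} [Group X]

/-- In a 2-group, an element whose square is nontrivial has a power of order exactly 4. -/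
theorem exists_order_four {A : Subgroup X} (hA2 : IsPGroup 2 A) {β : X} (hβ : β ∈ A)
    (hβ2 : β ^ 2 ≠ 1) : ∃ j : ℕ, (β ^ j) ^ 4 = 1 ∧ (β ^ j) ^ 2 ≠ 1 := by
  classical
  have hex : ∃ k : ℕ, β ^ 2 ^ k = 1 := by
    obtain ⟨k, hk⟩ := hA2 ⟨β, hβ⟩
    refine ⟨k, ?_⟩
    have := congrArg Subtype.val hk
    simpa using this
  obtain ⟨k, hk, hmin⟩ : ∃ k, β ^ 2 ^ k = 1 ∧ ∀ m < k, β ^ 2 ^ m ≠ 1 :=
    ⟨Nat.find hex, Nat.find_spec hex, fun m hm => Nat.find_min hex hm⟩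
  have hk2 : 2 ≤ k := by
    by_contra h
    push Not at h
    interval_cases k
    · apply hβ2
      rw [pow_zero, pow_one] at hk
      rw [hk, one_pow]
    · apply hβ2
      rw [pow_one] at hk
      exact hk
  obtain ⟨k', rfl⟩ : ∃ k', k = k' + 2 := ⟨k - 2, by omega⟩
  refine ⟨2 ^ k', ?_, ?_⟩
  · rw [← pow_mul]
    have : 2 ^ k' * 4 = 2 ^ (k' + 2) := by ring
    rw [this]; exact hk
  · rw [← pow_mul]
    have : 2 ^ k' * 2 = 2 ^ (k' + 1) := by ring
    rw [this]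
    exact hmin (k' + 1) (by omega)

section KP

variable [Finite X] (Q A : Subgroup X) [hQn : Q.Normal]

/-- The key property: `A` commutes with its `Q`-conjugates. -/
theorem commute_conj (hQ2 : IsPGroup 2 Q) (hA2 : IsPGroup 2 A)
    (hAa : ∀ x ∈ A, ∀ y ∈ A, x * y = y * x)
    (hti : ∀ h : X, A.map (MulAut.conj h).toMonoidHom = A ∨
      A.map (MulAut.conj h).toMonoidHom ⊓ A = ⊥)
    (x0 : X) (hx0 : x0 ∈ A) (hx04 : x0 ^ 4 = 1) (hx02 : x0 ^ 2 ≠ 1) :
    ∀ q ∈ Q, ∀ a ∈ A, ∀ a' ∈ A, a * (q * a' * q⁻¹) = (q * a' * q⁻¹) * a := by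
  obtain ⟨P, hP_def⟩ : ∃ P, P = A ⊔ Q := ⟨_, rfl⟩
  have hP2 : IsPGroup 2 P := hP_def ▸ hA2.to_sup_of_normal_right hQ2
  have hAP : A ≤ P := hP_def ▸ le_sup_left
  have hQP : Q ≤ P := hP_def ▸ le_sup_right
  have hcjcj : ∀ (g h : X) (C : Subgroup X), cj g (cj h C) = cj (g * h) C := by
    intro g h C
    ext y
    rw [mem_cj, mem_cj, mem_cj]
    have : h⁻¹ * (g⁻¹ * y * g) * h = (g * h)⁻¹ * y * (g * h) := by group
    rw [this]
  have hF : Fam P {C | ∃ h ∈ P, C = cj h A} := by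
    refine ⟨?_, ?_, ?_, ?_, ?_⟩
    · rintro C ⟨h, hh, rfl⟩ y hy
      rw [mem_cj] at hy
      have : y = h * (h⁻¹ * y * h) * h⁻¹ := by group
      rw [this]
      exact P.mul_mem (P.mul_mem hh (hAP hy)) (P.inv_mem hh)
    · rintro C ⟨h, hh, rfl⟩ g hg
      exact ⟨g * h, P.mul_mem hg hh, hcjcj g h A⟩
    · rintro C ⟨h, hh, rfl⟩ x hx y hy
      rw [mem_cj] at hx hy
      have h1 := hAa _ hx _ hy
      calc x * y = h * ((h⁻¹ * x * h) * (h⁻¹ * y * h)) * h⁻¹ := by group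
        _ = h * ((h⁻¹ * y * h) * (h⁻¹ * x * h)) * h⁻¹ := by rw [h1]
        _ = y * x := by group
    · rintro C ⟨h, hh, rfl⟩
      refine ⟨h * x0 * h⁻¹, conj_mem_cj hx0, ?_, ?_⟩
      · rw [conj_pow, hx04]; group
      · rw [conj_pow]
        intro hc
        apply hx02
        have : x0 ^ 2 = h⁻¹ * (h * x0 ^ 2 * h⁻¹) * h := by group
        rw [this, hc]; group
    · rintro C ⟨h, hh, rfl⟩ C' ⟨h', hh', rfl⟩
      rcases hti (h⁻¹ * h') with heq | hbot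
      · left
        have h1 : cj h' A = cj h (cj (h⁻¹ * h') A) := by
          rw [hcjcj]; congr 1; group
        rw [h1]
        congr 1
        exact heq.symm
      · right
        intro x hx hx'
        rw [mem_cj] at hx hx'
        have h1 : h⁻¹ * x * h ∈ A.map (MulAut.conj (h⁻¹ * h')).toMonoidHom ⊓ A := by
          refine Subgroup.mem_inf.mpr ⟨?_, hx⟩
          have h2 : h⁻¹ * x * h ∈ cj (h⁻¹ * h') A := by
            rw [mem_cj]
            have : (h⁻¹ * h')⁻¹ * (h⁻¹ * x * h) * (h⁻¹ * h') = h'⁻¹ * x * h' := by group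
            rw [this]; exact hx'
          exact h2
        rw [hbot, Subgroup.mem_bot] at h1
        have : x = h * (h⁻¹ * x * h) * h⁻¹ := by group
        rw [this, h1]; group
  have hmain := fam_commute (Nat.card P) P _ le_rfl hP2 hF
  intro q hq a ha a' ha'
  have hA_mem : A ∈ {C | ∃ h ∈ P, C = cj h A} := by
    refine ⟨1, P.one_mem, ?_⟩
    ext y
    rw [mem_cj]; simp
  have hqA_mem : cj q A ∈ {C | ∃ h ∈ P, C = cj h A} := ⟨q, hQP hq, rfl⟩
  exact hmain A hA_mem (cj q A) hqA_mem a ha _ (conj_mem_cj ha')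

end KP

/-- Generated by the squares. -/
def sq (H : Subgroup X) : Subgroup X := Subgroup.closure {z | ∃ q ∈ H, z = q ^ 2}

theorem sq_le (H : Subgroup X) : sq H ≤ H := by
  rw [sq, Subgroup.closure_le]
  rintro z ⟨q, hq, rfl⟩
  exact H.pow_mem hq 2

theorem sq_mem {H : Subgroup X} {q : X} (hq : q ∈ H) : q ^ 2 ∈ sq H :=
  Subgroup.subset_closure ⟨q, hq, rfl⟩

theorem sq_conj {H : Subgroup X} (hH : ∀ g : X, ∀ q ∈ H, g * q * g⁻¹ ∈ H) :
    ∀ g : X, ∀ q ∈ sq H, g * q * g⁻¹ ∈ sq H := by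
  intro g q hq
  rw [sq] at hq
  induction hq using Subgroup.closure_induction with
  | mem z hz =>
    obtain ⟨q, hq, rfl⟩ := hz
    rw [← conj_pow]
    exact sq_mem (hH g q hq)
  | one => simp
  | mul a b _ _ iha ihb =>
    have : g * (a * b) * g⁻¹ = (g * a * g⁻¹) * (g * b * g⁻¹) := by group
    rw [this]; exact Subgroup.mul_mem _ iha ihb
  | inv a _ iha =>
    have : g * a⁻¹ * g⁻¹ = (g * a * g⁻¹)⁻¹ := by group
    rw [this]; exact Subgroup.inv_mem _ iha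

/-- The squares of a nontrivial finite 2-group generate a proper subgroup. -/
theorem sq_ne [Finite X] {H : Subgroup X} (hH2 : IsPGroup 2 H) (hne : H ≠ ⊥) : sq H ≠ H := by
  haveI : Fact (Nat.Prime 2) := ⟨Nat.prime_two⟩
  haveI : Nontrivial H := (Subgroup.nontrivial_iff_ne_bot H).mpr hne
  obtain ⟨k, hk0, hk⟩ := hH2.nontrivial_iff_card.mp inferInstance
  obtain ⟨k', rfl⟩ : ∃ k', k = k' + 1 := ⟨k - 1, by omega⟩
  obtain ⟨H', hH'⟩ := Sylow.exists_subgroup_card_pow_prime (G := ↥H) 2 (n := k')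
    (by rw [hk]; exact pow_dvd_pow 2 (Nat.le_succ k'))
  have hidx : H'.index = 2 := by
    have h1 := H'.card_mul_index
    rw [hH', hk, pow_succ] at h1
    exact Nat.eq_of_mul_eq_mul_left (by positivity) h1
  intro heq
  -- all squares of `H` lie in `H'`
  have hle : ∀ z ∈ sq H, ∃ hz : z ∈ H, (⟨z, hz⟩ : H) ∈ H' := by
    intro z hz
    rw [sq] at hz
    induction hz using Subgroup.closure_induction with
    | mem z hz =>
      obtain ⟨q, hq, rfl⟩ := hz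
      refine ⟨H.pow_mem hq 2, ?_⟩
      have := Subgroup.sq_mem_of_index_two hidx (⟨q, hq⟩ : H)
      exact this
    | one => exact ⟨H.one_mem, H'.one_mem⟩
    | mul a b _ _ iha ihb =>
      obtain ⟨ha, ha'⟩ := iha
      obtain ⟨hb, hb'⟩ := ihb
      exact ⟨H.mul_mem ha hb, H'.mul_mem ha' hb'⟩
    | inv a _ iha =>
      obtain ⟨ha, ha'⟩ := iha
      exact ⟨H.inv_mem ha, H'.inv_mem ha'⟩
  have htop : H' = ⊤ := by
    rw [eq_top_iff]
    intro x _
    obtain ⟨_, hx'⟩ := hle x.1 (by rw [heq]; exact x.2)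
    exact hx'
  rw [htop, Subgroup.index_top] at hidx
  omega

/-- The descending series of iterated squares. -/
def ser (Q : Subgroup X) : ℕ → Subgroup X
  | 0 => Q
  | (i + 1) => sq (ser Q i)

theorem ser_succ_le (Q : Subgroup X) (i : ℕ) : ser Q (i + 1) ≤ ser Q i := sq_le _

theorem ser_le (Q : Subgroup X) (i : ℕ) : ser Q i ≤ Q := by
  induction i with
  | zero => exact le_rfl
  | succ i ih => exact (ser_succ_le Q i).trans ih

theorem ser_conj (Q : Subgroup X) [hQn : Q.Normal] (i : ℕ) :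
    ∀ g : X, ∀ q ∈ ser Q i, g * q * g⁻¹ ∈ ser Q i := by
  induction i with
  | zero => exact fun g q hq => hQn.conj_mem q hq g
  | succ i ih => exact sq_conj ih

theorem ser_eventually_bot [Finite X] (Q : Subgroup X) (hQ2 : IsPGroup 2 Q) :
    ∃ n, ser Q n = ⊥ := by
  have key : ∀ i, ser Q i = ⊥ ∨ Nat.card (ser Q i) + i ≤ Nat.card Q := by
    intro i
    induction i with
    | zero => right; simp [ser]
    | succ i ih =>
      rcases ih with h | h
      · left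
        have := ser_succ_le Q i
        rw [h] at this
        exact le_bot_iff.mp this
      · by_cases hb : ser Q i = ⊥
        · left
          have := ser_succ_le Q i
          rw [hb] at this
          exact le_bot_iff.mp this
        · right
          have hne := sq_ne (hQ2.to_le (ser_le Q i)) hb
          have hlt := card_lt_of_ne (ser_succ_le Q i) hne
          omega
  refine ⟨Nat.card Q, ?_⟩
  rcases key (Nat.card Q) with h | h
  · exact h
  · have : 0 < Nat.card (ser Q (Nat.card Q)) := Nat.card_pos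
    omega

/-- The stabilizer of the series. -/
def stab (Q : Subgroup X) [hQn : Q.Normal] : Subgroup X where
  carrier := {y | ∀ i, ∀ q ∈ ser Q i, y * q * y⁻¹ * q⁻¹ ∈ ser Q (i + 1)}
  one_mem' := by
    intro i q _
    have : (1 : X) * q * 1⁻¹ * q⁻¹ = 1 := by group
    rw [this]; exact Subgroup.one_mem _
  mul_mem' := by
    intro y y' hy hy' i q hq
    have : y * y' * q * (y * y')⁻¹ * q⁻¹ = (y * (y' * q * y'⁻¹ * q⁻¹) * y⁻¹) * (y * q * y⁻¹ * q⁻¹) := by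
      group
    rw [this]
    exact Subgroup.mul_mem _ (ser_conj Q (i + 1) y _ (hy' i q hq)) (hy i q hq)
  inv_mem' := by
    intro y hy i q hq
    have hq' : y⁻¹ * q * y ∈ ser Q i := by
      have := ser_conj Q i y⁻¹ q hq
      simpa using this
    have h1 := hy i _ hq'
    have : y⁻¹ * q * y⁻¹⁻¹ * q⁻¹ = (y * (y⁻¹ * q * y) * y⁻¹ * (y⁻¹ * q * y)⁻¹)⁻¹ := by group
    rw [this]
    exact Subgroup.inv_mem _ h1

theorem mem_stab (Q : Subgroup X) [hQn : Q.Normal] {y : X} :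
    y ∈ stab Q ↔ ∀ i, ∀ q ∈ ser Q i, y * q * y⁻¹ * q⁻¹ ∈ ser Q (i + 1) := Iff.rfl

theorem stab_normal (Q : Subgroup X) [hQn : Q.Normal] : (stab Q).Normal := by
  refine ⟨fun y hy g => ?_⟩
  rw [mem_stab] at hy ⊢
  intro i q hq
  have hq' : g⁻¹ * q * g ∈ ser Q i := by
    have := ser_conj Q i g⁻¹ q hq
    simpa using this
  have h1 := hy i _ hq'
  have : g * y * g⁻¹ * q * (g * y * g⁻¹)⁻¹ * q⁻¹ =
      g * (y * (g⁻¹ * q * g) * y⁻¹ * (g⁻¹ * q * g)⁻¹) * g⁻¹ := by group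
  rw [this]
  exact ser_conj Q (i + 1) g _ h1

/-- An element of odd order stabilizing the series centralizes `Q`. -/
theorem centralizes_of_odd [Finite X] (Q : Subgroup X) [hQn : Q.Normal] (hQ2 : IsPGroup 2 Q)
    {y : X} (hy : y ∈ stab Q) {m : ℕ} (hm : Odd m) (hym : y ^ m = 1) :
    ∀ q ∈ Q, y * q = q * y := by
  obtain ⟨n, hn⟩ := ser_eventually_bot Q hQ2
  have key : ∀ j, j ≤ n → ∀ q ∈ ser Q (n - j), y * q = q * y := by
    intro j
    induction j with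
    | zero =>
      intro _ q hq
      rw [Nat.sub_zero, hn, Subgroup.mem_bot] at hq
      rw [hq]; group
    | succ j ih =>
      intro hj q hq
      have hidx : n - (j + 1) + 1 = n - j := by omega
      obtain ⟨z, hz_def⟩ : ∃ z, z = y * q * y⁻¹ * q⁻¹ := ⟨_, rfl⟩
      have hz : z ∈ ser Q (n - j) := by
        have := (mem_stab Q).mp hy (n - (j + 1)) q hq
        rw [hidx] at this
        exact hz_def ▸ this
      have hyz : y * z = z * y := ih (by omega) z hz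
      have hconj : y * q * y⁻¹ = z * q := by rw [hz_def]; group
      have hpow : ∀ k : ℕ, y ^ k * q * (y ^ k)⁻¹ = z ^ k * q := by
        intro k
        induction k with
        | zero => simp
        | succ k ihk =>
          have hyzk : y * z ^ k = z ^ k * y := (Commute.pow_right (show Commute y z from hyz) k)
          calc y ^ (k + 1) * q * (y ^ (k + 1))⁻¹ = y * (y ^ k * q * (y ^ k)⁻¹) * y⁻¹ := by
                rw [pow_succ']; group
            _ = y * (z ^ k * q) * y⁻¹ := by rw [ihk]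
            _ = (y * z ^ k) * q * y⁻¹ := by group
            _ = (z ^ k * y) * q * y⁻¹ := by rw [hyzk]
            _ = z ^ k * (y * q * y⁻¹) := by group
            _ = z ^ k * (z * q) := by rw [hconj]
            _ = z ^ (k + 1) * q := by rw [pow_succ]; group
      have hzm : z ^ m = 1 := by
        have := hpow m
        rw [hym] at this
        have h2 : q = z ^ m * q := by simpa using this
        have h3 : z ^ m * q = 1 * q := by rw [one_mul]; exact h2.symm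
        exact mul_right_cancel h3
      have hzQ : z ∈ Q := ser_le Q _ hz
      obtain ⟨r, hr⟩ := hQ2 ⟨z, hzQ⟩
      have hr' : z ^ 2 ^ r = 1 := by
        have := congrArg Subtype.val hr
        simpa using this
      have hz1 : z = 1 := by
        have h1 : orderOf z ∣ m := orderOf_dvd_of_pow_eq_one hzm
        have h2 : orderOf z ∣ 2 ^ r := orderOf_dvd_of_pow_eq_one hr'
        have hcop : Nat.Coprime m (2 ^ r) :=
          Nat.Coprime.pow_right r (Nat.coprime_comm.mp (Nat.coprime_two_left.mpr hm))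
        exact orderOf_eq_one_iff.mp (Nat.eq_one_of_dvd_coprimes hcop h1 h2)
      calc y * q = (y * q * y⁻¹ * q⁻¹) * (q * y) := by group
        _ = q * y := by rw [← hz_def, hz1, one_mul]
  intro q hq
  have := key n le_rfl q
  rw [Nat.sub_self] at this
  exact this hq

/-- The stabilizer of the series is a 2-group when `C_X(Q) ≤ Q`. -/
theorem stab_isPGroup [Finite X] (Q : Subgroup X) [hQn : Q.Normal] (hQ2 : IsPGroup 2 Q)
    (hcent : ∀ g : X, (∀ q ∈ Q, g * q = q * g) → g ∈ Q) : IsPGroup 2 (stab Q) := by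
  intro ⟨y, hy⟩
  have hpos : 0 < orderOf y := orderOf_pos y
  obtain ⟨r, m, hm, hrm⟩ := Nat.exists_eq_two_pow_mul_odd (n := orderOf y) (by omega)
  have hy' : y ^ 2 ^ r ∈ stab Q := Subgroup.pow_mem _ hy _
  have hym : (y ^ 2 ^ r) ^ m = 1 := by
    rw [← pow_mul, ← hrm]; exact pow_orderOf_eq_one y
  have hc := centralizes_of_odd Q hQ2 hy' hm hym
  have hQmem := hcent _ hc
  obtain ⟨s, hs⟩ := hQ2 ⟨_, hQmem⟩
  have hs' : (y ^ 2 ^ r) ^ 2 ^ s = 1 := by
    have := congrArg Subtype.val hs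
    simpa using this
  refine ⟨r + s, ?_⟩
  apply Subtype.ext
  simp only [Subgroup.coe_pow, Subgroup.coe_one]
  rw [pow_add, pow_mul]
  exact hs'

section Main

variable [Finite X]

/-- Part 1: squares of elements of `A` lie in `Q = O_2(X)`. -/
theorem sq_mem_core (Q A : Subgroup X) [hQn : Q.Normal] (hQ2 : IsPGroup 2 Q)
    (hQmax : ∀ K : Subgroup X, K.Normal → IsPGroup 2 K → K ≤ Q)
    (hcent : ∀ g : X, (∀ q ∈ Q, g * q = q * g) → g ∈ Q)
    (hKP : ∀ q ∈ Q, ∀ a ∈ A, ∀ a' ∈ A, a * (q * a' * q⁻¹) = (q * a' * q⁻¹) * a) :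
    ∀ a ∈ A, a ^ 2 ∈ Q := by
  intro a ha
  have hstab : a ^ 2 ∈ stab Q := by
    rw [mem_stab]
    intro i q hq
    have hqQ := ser_le Q i hq
    obtain ⟨t, ht⟩ : ∃ t, t = a * q * a⁻¹ * q⁻¹ := ⟨_, rfl⟩
    have ht_mem : t ∈ ser Q i :=
      ht ▸ Subgroup.mul_mem _ (ser_conj Q i a q hq) (Subgroup.inv_mem _ hq)
    have hat : a * t = t * a := by
      have h1 := hKP q hqQ a ha a⁻¹ (A.inv_mem ha)
      calc a * t = a * (a * (q * a⁻¹ * q⁻¹)) := by rw [ht]; group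
        _ = a * ((q * a⁻¹ * q⁻¹) * a) := by rw [h1]
        _ = t * a := by rw [ht]; group
    have hsq : a ^ 2 * q * (a ^ 2)⁻¹ * q⁻¹ = t ^ 2 := by
      rw [pow_two, pow_two]
      calc a * a * q * (a * a)⁻¹ * q⁻¹ = (a * t) * a⁻¹ * t := by rw [ht]; group
        _ = (t * a) * a⁻¹ * t := by rw [hat]
        _ = t * t := by group
    rw [hsq]
    exact sq_mem ht_mem
  exact hQmax (stab Q) (stab_normal Q) (stab_isPGroup Q hQ2 hcent) hstab

/-- Claim 3: elements of `C' ∩ Q` normalize `C`, when `C ∩ Q` has an element of order 4. -/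
theorem normalizes_of_four (Q C C' : Subgroup X)
    (hCti : ∀ g : X, (∀ c ∈ C, g * c * g⁻¹ ∈ C) ∨ (∀ c ∈ C, g * c * g⁻¹ ∈ C → c = 1))
    (hCKP : ∀ q ∈ Q, ∀ a ∈ C, ∀ a' ∈ C, a * (q * a' * q⁻¹) = (q * a' * q⁻¹) * a)
    (hC'KP : ∀ q ∈ Q, ∀ a ∈ C', ∀ a' ∈ C', a * (q * a' * q⁻¹) = (q * a' * q⁻¹) * a)
    (b : X) (hbC : b ∈ C) (hbQ : b ∈ Q) (hb4 : b ^ 4 = 1) (hb2 : b ^ 2 ≠ 1)
    (y : X) (hyC' : y ∈ C') (hyQ : y ∈ Q) : ∀ c ∈ C, y * c * y⁻¹ ∈ C := by
  rcases hCti y with h | hH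
  · exact h
  exfalso
  obtain ⟨b', hb'⟩ : ∃ b', b' = y * b * y⁻¹ := ⟨_, rfl⟩
  have hbb' : b * b' = b' * b := hb' ▸ hCKP y hyQ b hbC b hbC
  have hyy' : y * (b * y * b⁻¹) = (b * y * b⁻¹) * y := hC'KP b hbQ y hyC' y hyC'
  obtain ⟨s, hs⟩ : ∃ s, s = b' * b⁻¹ := ⟨_, rfl⟩
  have hsb : s * b = b * s := by
    rw [hs]
    calc b' * b⁻¹ * b = b⁻¹ * (b * b') := by group
      _ = b⁻¹ * (b' * b) := by rw [hbb']
      _ = b * (b⁻¹ * (b⁻¹ * (b' * b))) := by group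
      _ = b * (b⁻¹ * (b⁻¹ * (b * b'))) := by rw [hbb']
      _ = b * (b' * b⁻¹) := by
          have : b⁻¹ * (b * b') = b' := by group
          rw [this]
          have h2 : b⁻¹ * b' = b' * b⁻¹ := by
            calc b⁻¹ * b' = b⁻¹ * (b' * b) * b⁻¹ := by group
              _ = b⁻¹ * (b * b') * b⁻¹ := by rw [hbb']
              _ = b' * b⁻¹ := by group
          rw [h2]
  have hsy : y * s = s * y := by
    have h1 : s = y * (b * y * b⁻¹)⁻¹ := by rw [hs, hb']; group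
    have hinv : y * (b * y * b⁻¹)⁻¹ = (b * y * b⁻¹)⁻¹ * y := by
      calc y * (b * y * b⁻¹)⁻¹ = (b * y * b⁻¹)⁻¹ * ((b * y * b⁻¹) * y) * (b * y * b⁻¹)⁻¹ := by group
        _ = (b * y * b⁻¹)⁻¹ * (y * (b * y * b⁻¹)) * (b * y * b⁻¹)⁻¹ := by rw [hyy']
        _ = (b * y * b⁻¹)⁻¹ * y := by group
    rw [h1]
    calc y * (y * (b * y * b⁻¹)⁻¹) = y * ((b * y * b⁻¹)⁻¹ * y) := by rw [hinv]
      _ = (y * (b * y * b⁻¹)⁻¹) * y := by group
  have hyb : y * b * y⁻¹ = s * b := by rw [hs, hb']; group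
  have hy2b : y ^ 2 * b * (y ^ 2)⁻¹ = s * s * b := by
    rw [pow_two]
    calc y * y * b * (y * y)⁻¹ = y * (y * b * y⁻¹) * y⁻¹ := by group
      _ = y * (s * b) * y⁻¹ := by rw [hyb]
      _ = (y * s) * (b * y⁻¹) := by group
      _ = (s * y) * (b * y⁻¹) := by rw [hsy]
      _ = s * (y * b * y⁻¹) := by group
      _ = s * (s * b) := by rw [hyb]
      _ = s * s * b := by group
  -- `y² b² y⁻² = b²`
  have hb'4 : b' ^ 4 = 1 := by
    rw [hb', conj_pow, hb4]; group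
  have hbinv2 : (b ^ 2)⁻¹ = b ^ 2 := by
    have : b ^ 2 * b ^ 2 = 1 := by rw [← pow_add]; exact hb4
    exact inv_eq_of_mul_eq_one_left this
  have hsb' : s * b' = b' * s := by
    -- s = b' * b⁻¹ and b, b' commute
    rw [hs]
    calc b' * b⁻¹ * b' = b' * (b⁻¹ * (b' * b) * b⁻¹) := by group
      _ = b' * (b⁻¹ * (b * b') * b⁻¹) := by rw [hbb']
      _ = b' * (b' * b⁻¹) := by group
  have hss : s * s * b = b' ^ 2 * b⁻¹ := by
    have h1 : s * b = b' := by rw [hs]; group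
    calc s * s * b = s * (s * b) := by group
      _ = s * b' := by rw [h1]
      _ = b' * s := hsb'
      _ = b' * (b' * b⁻¹) := by rw [hs]
      _ = b' ^ 2 * b⁻¹ := by rw [pow_two]; group
  have hbinvb' : b⁻¹ * b' = b' * b⁻¹ := by
    calc b⁻¹ * b' = b⁻¹ * (b' * b) * b⁻¹ := by group
      _ = b⁻¹ * (b * b') * b⁻¹ := by rw [hbb']
      _ = b' * b⁻¹ := by group
  have hy2b2 : y ^ 2 * b ^ 2 * (y ^ 2)⁻¹ = b ^ 2 := by
    have h1 : y ^ 2 * b ^ 2 * (y ^ 2)⁻¹ = (y ^ 2 * b * (y ^ 2)⁻¹) ^ 2 := by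
      rw [conj_pow]
    rw [h1, hy2b, hss, pow_two]
    have hc : b⁻¹ * b' ^ 2 = b' ^ 2 * b⁻¹ := by
      rw [pow_two]
      calc b⁻¹ * (b' * b') = (b⁻¹ * b') * b' := by group
        _ = (b' * b⁻¹) * b' := by rw [hbinvb']
        _ = b' * (b⁻¹ * b') := by group
        _ = b' * (b' * b⁻¹) := by rw [hbinvb']
        _ = b' * b' * b⁻¹ := by group
    calc b' ^ 2 * b⁻¹ * (b' ^ 2 * b⁻¹) = b' ^ 2 * (b⁻¹ * b' ^ 2) * b⁻¹ := by group
      _ = b' ^ 2 * (b' ^ 2 * b⁻¹) * b⁻¹ := by rw [hc]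
      _ = b' ^ 4 * (b ^ 2)⁻¹ := by
          rw [show (4 : ℕ) = 2 + 2 by rfl, pow_add, pow_two b]; group
      _ = b ^ 2 := by rw [hb'4, one_mul, hbinv2]
  have hb2C : b ^ 2 ∈ C := C.pow_mem hbC 2
  -- `y²` normalizes `C`
  have hy2norm : ∀ c ∈ C, y ^ 2 * c * (y ^ 2)⁻¹ ∈ C := by
    rcases hCti (y ^ 2) with h | h
    · exact h
    · exfalso
      apply hb2
      apply h _ hb2C
      rw [hy2b2]; exact hb2C
  have h1 : b' ^ 2 * b⁻¹ ∈ C := by
    have := hy2norm b hbC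
    rw [hy2b, hss] at this
    exact this
  have h2 : b' ^ 2 ∈ C := by
    have : b' ^ 2 = (b' ^ 2 * b⁻¹) * b := by group
    rw [this]; exact C.mul_mem h1 hbC
  apply hb2
  apply hH _ hb2C
  rw [← conj_pow, ← hb']
  exact h2

/-- The three properties of conjugates of `A`. -/
theorem props_cj (Q A : Subgroup X) [hQn : Q.Normal]
    (hti : ∀ h : X, A.map (MulAut.conj h).toMonoidHom = A ∨
      A.map (MulAut.conj h).toMonoidHom ⊓ A = ⊥)
    (hKP : ∀ q ∈ Q, ∀ a ∈ A, ∀ a' ∈ A, a * (q * a' * q⁻¹) = (q * a' * q⁻¹) * a) (x : X) :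
    (∀ g : X, (∀ c ∈ cj x A, g * c * g⁻¹ ∈ cj x A) ∨
      (∀ c ∈ cj x A, g * c * g⁻¹ ∈ cj x A → c = 1)) ∧
    (∀ q ∈ Q, ∀ a ∈ cj x A, ∀ a' ∈ cj x A, a * (q * a' * q⁻¹) = (q * a' * q⁻¹) * a) := by
  constructor
  · intro g
    rcases hti (x⁻¹ * g * x) with heq | hbot
    · left
      intro c hc
      rw [mem_cj] at hc ⊢
      have h1 : (x⁻¹ * g * x) * (x⁻¹ * c * x) * (x⁻¹ * g * x)⁻¹ ∈ cj (x⁻¹ * g * x) A :=
        conj_mem_cj hc
      have h2 : cj (x⁻¹ * g * x) A = A := heq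
      rw [h2] at h1
      have : x⁻¹ * (g * c * g⁻¹) * x = (x⁻¹ * g * x) * (x⁻¹ * c * x) * (x⁻¹ * g * x)⁻¹ := by group
      rw [this]; exact h1
    · right
      intro c hc hgc
      rw [mem_cj] at hc hgc
      have h1 : x⁻¹ * (g * c * g⁻¹) * x ∈ A.map (MulAut.conj (x⁻¹ * g * x)).toMonoidHom ⊓ A := by
        refine Subgroup.mem_inf.mpr ⟨?_, hgc⟩
        have h2 : x⁻¹ * (g * c * g⁻¹) * x ∈ cj (x⁻¹ * g * x) A := by
          rw [mem_cj]
          have : (x⁻¹ * g * x)⁻¹ * (x⁻¹ * (g * c * g⁻¹) * x) * (x⁻¹ * g * x) = x⁻¹ * c * x := by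
            group
          rw [this]; exact hc
        exact h2
      rw [hbot, Subgroup.mem_bot] at h1
      have : c = g⁻¹ * (x * (x⁻¹ * (g * c * g⁻¹) * x) * x⁻¹) * g := by group
      rw [this, h1]; group
  · intro q hq a ha a' ha'
    rw [mem_cj] at ha ha'
    have hq' : x⁻¹ * q * x ∈ Q := by
      have := hQn.conj_mem q hq x⁻¹
      simpa using this
    have h1 := hKP _ hq' _ ha _ ha'
    calc a * (q * a' * q⁻¹)
        = x * ((x⁻¹ * a * x) * ((x⁻¹ * q * x) * (x⁻¹ * a' * x) * (x⁻¹ * q * x)⁻¹)) * x⁻¹ := by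
          group
      _ = x * (((x⁻¹ * q * x) * (x⁻¹ * a' * x) * (x⁻¹ * q * x)⁻¹) * (x⁻¹ * a * x)) * x⁻¹ := by
          rw [h1]
      _ = (q * a' * q⁻¹) * a := by group

/-- Part 2: if some square in `A` has nontrivial square, squares of conjugates commute. -/
theorem sq_commute (Q A : Subgroup X) [hQn : Q.Normal] (hA2 : IsPGroup 2 A)
    (hAa : ∀ x ∈ A, ∀ y ∈ A, x * y = y * x)
    (hti : ∀ h : X, A.map (MulAut.conj h).toMonoidHom = A ∨
      A.map (MulAut.conj h).toMonoidHom ⊓ A = ⊥)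
    (hKP : ∀ q ∈ Q, ∀ a ∈ A, ∀ a' ∈ A, a * (q * a' * q⁻¹) = (q * a' * q⁻¹) * a)
    (hsqQ : ∀ a ∈ A, a ^ 2 ∈ Q)
    (hne : ∃ a ∈ A, (a ^ 2) ^ 2 ≠ 1) :
    ∀ a ∈ A, ∀ a' ∈ A, ∀ g : X, a ^ 2 * (g * a' ^ 2 * g⁻¹) = (g * a' ^ 2 * g⁻¹) * a ^ 2 := by
  obtain ⟨a0, ha0, ha0sq⟩ := hne
  obtain ⟨j, hj4, hj2⟩ := exists_order_four hA2 (A.pow_mem ha0 2) ha0sq
  obtain ⟨b0, hb0⟩ : ∃ b0, b0 = (a0 ^ 2) ^ j := ⟨_, rfl⟩
  rw [← hb0] at hj4 hj2
  have hb0A : b0 ∈ A := hb0 ▸ A.pow_mem (A.pow_mem ha0 2) j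
  have hb0Q : b0 ∈ Q := hb0 ▸ Q.pow_mem (hsqQ a0 ha0) j
  intro a ha a' ha' g
  have hA1 : cj 1 A = A := by
    ext y; rw [mem_cj]; simp
  obtain ⟨hti1, hKP1⟩ := props_cj Q A hti hKP 1
  rw [hA1] at hti1 hKP1
  obtain ⟨htig, hKPg⟩ := props_cj Q A hti hKP g
  -- u = a², u' = g a'² g⁻¹
  obtain ⟨u, hu⟩ : ∃ u, u = a ^ 2 := ⟨_, rfl⟩
  obtain ⟨u', hu'⟩ : ∃ u', u' = g * a' ^ 2 * g⁻¹ := ⟨_, rfl⟩
  rw [← hu, ← hu']
  have huA : u ∈ A := hu ▸ A.pow_mem ha 2
  have huQ : u ∈ Q := hu ▸ hsqQ a ha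
  have hu'C : u' ∈ cj g A := hu' ▸ conj_mem_cj (A.pow_mem ha' 2)
  have hu'Q : u' ∈ Q := hu' ▸ hQn.conj_mem _ (hsqQ a' ha') g
  -- u' normalizes A
  have hn1 := normalizes_of_four Q A (cj g A) hti1 hKP1 hKPg b0 hb0A hb0Q hj4 hj2 u' hu'C hu'Q
  -- u normalizes cj g A
  have hgb4 : (g * b0 * g⁻¹) ^ 4 = 1 := by rw [conj_pow, hj4]; group
  have hgb2 : (g * b0 * g⁻¹) ^ 2 ≠ 1 := by
    rw [conj_pow]
    intro hc
    apply hj2
    have : b0 ^ 2 = g⁻¹ * (g * b0 ^ 2 * g⁻¹) * g := by group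
    rw [this, hc]; group
  have hn2 := normalizes_of_four Q (cj g A) A htig hKPg hKP1 (g * b0 * g⁻¹) (conj_mem_cj hb0A)
    (hQn.conj_mem _ hb0Q g) hgb4 hgb2 u huA huQ
  -- the commutator lies in both
  have hc1 : u * u' * u⁻¹ * u'⁻¹ ∈ cj g A :=
    Subgroup.mul_mem _ (hn2 u' hu'C) (Subgroup.inv_mem _ hu'C)
  have hc2 : u * u' * u⁻¹ * u'⁻¹ ∈ A := by
    have : u * u' * u⁻¹ * u'⁻¹ = u * (u' * u⁻¹ * u'⁻¹) := by group
    rw [this]
    exact A.mul_mem huA (hn1 _ (A.inv_mem huA))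
  have hcomm1 : u * u' * u⁻¹ * u'⁻¹ = 1 := by
    rcases hti g with heq | hbot
    · have h3 : cj g A = A := heq
      rw [h3] at hu'C
      have := hAa u huA u' hu'C
      rw [this]; group
    · have h3 : u * u' * u⁻¹ * u'⁻¹ ∈ A.map (MulAut.conj g).toMonoidHom ⊓ A :=
        Subgroup.mem_inf.mpr ⟨hc1, hc2⟩
      rw [hbot, Subgroup.mem_bot] at h3
      exact h3
  calc u * u' = (u * u' * u⁻¹ * u'⁻¹) * (u' * u) := by group
    _ = u' * u := by rw [hcomm1, one_mul]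

end Main

end Cfsg.Agent.Lib.Lead.TISquares
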