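import Mathlib

/-!
# 3-transposition sets whose commuting neighbourhoods are `S₃`: basics

`TT3.Base D`: `D` is a conjugation-invariant set of involutions, any two of which commute or have
product of order 3.  `Nbr D d` is the set of members of `D` other than `d` commuting with `d`.
-/

set_option autoImplicit false

namespace Cfsg.Agent.Lib.Lead.TT3

variable {G : Type*} [Group G]

/-- The neighbourhood of `d` in the commuting graph on `D`. -/
def Nbr (D : Set G) (d : G) : Set G := {y | y ∈ D ∧ y ≠ d ∧ Commute d y}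

/-- Basic hypotheses. -/
structure Base (D : Set G) : Prop where
  sq : ∀ d ∈ D, d * d = 1
  ne_one : ∀ d ∈ D, d ≠ 1
  comm_or : ∀ d ∈ D, ∀ e ∈ D, Commute d e ∨ (d * e) ^ 3 = 1
  conj : ∀ g : G, ∀ d ∈ D, g * d * g⁻¹ ∈ D

section pure

variable {x y z : G}

theorem inv_of_sq (hx : x * x = 1) : x⁻¹ = x := inv_eq_of_mul_eq_one_right hx

/-- braid relation -/
theorem braid (hx : x * x = 1) (hy : y * y = 1) (h : (x * y) ^ 3 = 1) : x * y * x = y * x * y := by
  have h' : x * y * (x * y) * (x * y) = 1 := by rw [← h, pow_succ, pow_two]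
  have hxi := inv_of_sq hx
  have hyi := inv_of_sq hy
  have h1 : x * y * x = (y * x * y)⁻¹ := by
    apply eq_inv_of_mul_eq_one_left
    calc x * y * x * (y * x * y) = x * y * (x * y) * (x * y) := by group
      _ = 1 := h'
  rw [h1, mul_inv_rev, mul_inv_rev, hxi, hyi, mul_assoc]

/-- `y = (x y) x (x y)⁻¹` for braided involutions -/
theorem conj_of_braid (hx : x * x = 1) (hy : y * y = 1) (h : x * y * x = y * x * y) :
    (x * y) * x * (x * y)⁻¹ = y := by
  have hxi := inv_of_sq hx
  have hyi := inv_of_sq hy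
  rw [mul_inv_rev, hxi, hyi]
  calc x * y * x * (y * x) = (x * y * x) * y * x := by group
    _ = (y * x * y) * y * x := by rw [h]
    _ = y * x * (y * y) * x := by group
    _ = y := by rw [hy, mul_one, mul_assoc, hx, mul_one]

/-- If `x z x = y z y` with both braided then `x = y`. -/
theorem eq_of_conj_eq (hx : x * x = 1) (hy : y * y = 1) (hz : z * z = 1)
    (hxz : x * z * x = z * x * z) (hyz : y * z * y = z * y * z) (h : x * z * x = y * z * y) :
    x = y := by
  have h2 : z * x * z = z * y * z := by rw [← hxz, ← hyz, h]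
  have h3 : z * (z * x * z) * z = z * (z * y * z) * z := by rw [h2]
  have e1 : z * (z * x * z) * z = (z * z) * x * (z * z) := by group
  have e2 : z * (z * y * z) * z = (z * z) * y * (z * z) := by group
  rw [e1, e2, hz, one_mul, mul_one, one_mul, mul_one] at h3
  exact h3

/-- A₃ configuration `d - e - y`, `[d,y]=1`: `e` commutes with `(dy) e (dy)⁻¹`. -/
theorem comm_conj_of_A3 {d e : G} (hd : d * d = 1) (hy : y * y = 1) (he : e * e = 1)
    (hdy : d * y = y * d) (hde : d * e * d = e * d * e) (hye : y * e * y = e * y * e) :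
    Commute e ((d * y) * e * (d * y)⁻¹) := by
  have hdi := inv_of_sq hd
  have hyi := inv_of_sq hy
  have hf : (d * y) * e * (d * y)⁻¹ = d * e * y * e * d := by
    rw [mul_inv_rev, hdi, hyi]
    calc d * y * e * (y * d) = d * (y * e * y) * d := by group
      _ = d * (e * y * e) * d := by rw [hye]
      _ = d * e * y * e * d := by group
  have hf2 : d * e * y * e * d = e * d * e * y * e * d * e := by
    calc d * e * y * e * d = (d * e * d) * (d * y * d) * (d * e * d) := by
          have : d * y * d = y := by rw [hdy, mul_assoc, hd, mul_one]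
          rw [this]
          calc d * e * y * e * d = d * e * (d * d) * y * (d * d) * e * d := by
                rw [hd, mul_one, mul_one]
            _ = d * e * d * (d * y) * d * (d * e * d) := by group
            _ = d * e * d * (y * d) * d * (d * e * d) := by rw [hdy]
            _ = d * e * d * y * (d * d) * (d * e * d) := by group
            _ = d * e * d * y * (d * e * d) := by rw [hd, mul_one]
      _ = (e * d * e) * (d * y * d) * (e * d * e) := by rw [hde]
      _ = e * d * e * y * e * d * e := by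
          have : d * y * d = y := by rw [hdy, mul_assoc, hd, mul_one]
          rw [this]; group
  rw [hf]
  show e * (d * e * y * e * d) = (d * e * y * e * d) * e
  calc e * (d * e * y * e * d) = e * (e * d * e * y * e * d * e) := by rw [← hf2]
    _ = (e * e) * d * e * y * e * d * e := by group
    _ = d * e * y * e * d * e := by rw [he, one_mul]

end pure

namespace Base

variable {D : Set G} (hB : Base D)
include hB

theorem inv_eq {d : G} (hd : d ∈ D) : d⁻¹ = d := inv_of_sq (hB.sq d hd)

theorem conj' {d g : G} (hd : d ∈ D) (hg : g ∈ D) : g * d * g ∈ D := by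
  have := hB.conj g d hd
  rwa [hB.inv_eq hg] at this

theorem cube {x y : G} (hx : x ∈ D) (hy : y ∈ D) (h : ¬ Commute x y) : (x * y) ^ 3 = 1 :=
  (hB.comm_or x hx y hy).resolve_left h

theorem braid' {x y : G} (hx : x ∈ D) (hy : y ∈ D) (h : ¬ Commute x y) :
    x * y * x = y * x * y :=
  braid (hB.sq x hx) (hB.sq y hy) (hB.cube hx hy h)

theorem nbr_symm {d y : G} (hd : d ∈ D) (h : y ∈ Nbr D d) : d ∈ Nbr D y :=
  ⟨hd, fun e => h.2.1 e.symm, h.2.2.symm⟩

theorem nbr_conj {d y : G} (g : G) (h : y ∈ Nbr D d) : g * y * g⁻¹ ∈ Nbr D (g * d * g⁻¹) := by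
  refine ⟨hB.conj g y h.1, ?_, ?_⟩
  · intro e
    apply h.2.1
    have := congrArg (fun u => g⁻¹ * u * g) e
    simpa [mul_assoc] using this
  · have h2 : d * y = y * d := h.2.2
    show (g * d * g⁻¹) * (g * y * g⁻¹) = (g * y * g⁻¹) * (g * d * g⁻¹)
    calc (g * d * g⁻¹) * (g * y * g⁻¹) = g * (d * y) * g⁻¹ := by group
      _ = g * (y * d) * g⁻¹ := by rw [h2]
      _ = (g * y * g⁻¹) * (g * d * g⁻¹) := by group

theorem nbr_conj_iff {d y : G} (g : G) : g * y * g⁻¹ ∈ Nbr D (g * d * g⁻¹) ↔ y ∈ Nbr D d := by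
  refine ⟨fun h => ?_, hB.nbr_conj g⟩
  have := hB.nbr_conj g⁻¹ h
  simpa [mul_assoc] using this

/-- `Nbr (g d g⁻¹) = g (Nbr d) g⁻¹` in the form: membership. -/
theorem mem_nbr_conj {d u : G} (g : G) : u ∈ Nbr D (g * d * g⁻¹) ↔ g⁻¹ * u * g ∈ Nbr D d := by
  have := hB.nbr_conj_iff (d := d) (y := g⁻¹ * u * g) g
  rw [← this]
  have e : g * (g⁻¹ * u * g) * g⁻¹ = u := by group
  rw [e]

end Base

end Cfsg.Agent.Lib.Lead.TT3
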