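import Mathlib
import Cfsg.Agent.Lib.Lead.TT3A

/-!
# 3-transposition sets whose commuting neighbourhoods are `S₃`: the local structure
-/

set_option autoImplicit false

namespace Cfsg.Agent.Lib.Lead.TT3

open Equiv

variable {G : Type*} [Group G]

theorem s3_ncomm : ∀ p q : Perm (Fin 3), p * p = 1 → q * q = 1 → p ≠ 1 → q ≠ 1 → p ≠ q →
    p * q ≠ q * p := by decide

theorem s3_three_aux : ∀ p q s : Perm (Fin 3), (p * p = 1 ∧ q * q = 1 ∧ s * s = 1 ∧ p ≠ 1 ∧ q ≠ 1 ∧
    s ≠ 1 ∧ p ≠ q) → s = p ∨ s = q ∨ s = p * q * p := by decide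

theorem s3_three (p q s : Perm (Fin 3)) (h1 : p * p = 1) (h2 : q * q = 1) (h3 : s * s = 1) (h4 : p ≠ 1)
    (h5 : q ≠ 1) (h6 : s ≠ 1) (h7 : p ≠ q) : s = p ∨ s = q ∨ s = p * q * p :=
  s3_three_aux p q s ⟨h1, h2, h3, h4, h5, h6, h7⟩

theorem s3_not_comm : ¬ ∀ p q : Perm (Fin 3), p * q = q * p := by decide

/-- The local structure. -/
structure Loc (D : Set G) : Prop extends Base D where
  ncomm : ∀ d ∈ D, ∀ x ∈ Nbr D d, ∀ y ∈ Nbr D d, x ≠ y → ¬ Commute x y
  two : ∀ d ∈ D, ∃ x ∈ Nbr D d, ∃ y ∈ Nbr D d, x ≠ y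
  three : ∀ d ∈ D, ∀ x ∈ Nbr D d, ∀ y ∈ Nbr D d, ∀ z ∈ Nbr D d, x ≠ y →
    z = x ∨ z = y ∨ z = x * y * x

theorem Loc.of_iso {D : Set G} (hB : Base D)
    (hloc : ∀ d ∈ D, Nonempty (↥(Subgroup.closure (Nbr D d)) ≃* Perm (Fin 3))) : Loc D := by
  -- transported involutions
  have key : ∀ d ∈ D, ∀ e : ↥(Subgroup.closure (Nbr D d)) ≃* Perm (Fin 3),
      ∀ x (hx : x ∈ Nbr D d), e ⟨x, Subgroup.subset_closure hx⟩ * e ⟨x, Subgroup.subset_closure hx⟩ = 1
        ∧ e ⟨x, Subgroup.subset_closure hx⟩ ≠ 1 := by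
    intro d _ e x hx
    constructor
    · rw [← map_mul]
      have : (⟨x, Subgroup.subset_closure hx⟩ : ↥(Subgroup.closure (Nbr D d))) *
          ⟨x, Subgroup.subset_closure hx⟩ = 1 := Subtype.ext (hB.sq x hx.1)
      rw [this, map_one]
    · intro h
      have h1 : (⟨x, Subgroup.subset_closure hx⟩ : ↥(Subgroup.closure (Nbr D d))) = 1 :=
        e.injective (by rw [h, map_one])
      exact hB.ne_one x hx.1 (congrArg Subtype.val h1)
  refine { toBase := hB, ncomm := ?_, two := ?_, three := ?_ }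
  · intro d hd x hx y hy hxy hc
    obtain ⟨e⟩ := hloc d hd
    obtain ⟨hx1, hx2⟩ := key d hd e x hx
    obtain ⟨hy1, hy2⟩ := key d hd e y hy
    have hne : e ⟨x, Subgroup.subset_closure hx⟩ ≠ e ⟨y, Subgroup.subset_closure hy⟩ := by
      intro h
      exact hxy (congrArg Subtype.val (e.injective h))
    apply s3_ncomm _ _ hx1 hy1 hx2 hy2 hne
    rw [← map_mul, ← map_mul]
    congr 1
    exact Subtype.ext hc
  · intro d hd
    obtain ⟨e⟩ := hloc d hd
    by_contra hcon
    push Not at hcon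
    apply s3_not_comm
    -- the closure is commutative
    have hcomm : ∀ u ∈ Subgroup.closure (Nbr D d), ∀ v ∈ Subgroup.closure (Nbr D d), u * v = v * u := by
      intro u hu v hv
      have hsub : Nbr D d ⊆ (Subgroup.centralizer (Nbr D d) : Set G) := by
        intro a ha
        rw [SetLike.mem_coe, Subgroup.mem_centralizer_iff]
        intro b hb
        rw [hcon a ha b hb]
      have h1 : Subgroup.closure (Nbr D d) ≤ Subgroup.centralizer (Nbr D d) :=
        (Subgroup.closure_le _).mpr hsub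
      have h2 : Subgroup.closure (Nbr D d) ≤
          Subgroup.centralizer (Subgroup.closure (Nbr D d) : Set G) := by
        rw [Subgroup.centralizer_closure]
        exact h1
      have := Subgroup.mem_centralizer_iff.mp (h2 hu) v hv
      exact this.symm
    intro p q
    obtain ⟨u, rfl⟩ := e.surjective p
    obtain ⟨v, rfl⟩ := e.surjective q
    rw [← map_mul, ← map_mul]
    congr 1
    exact Subtype.ext (hcomm u u.2 v v.2)
  · intro d hd x hx y hy z hz hxy
    obtain ⟨e⟩ := hloc d hd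
    obtain ⟨hx1, hx2⟩ := key d hd e x hx
    obtain ⟨hy1, hy2⟩ := key d hd e y hy
    obtain ⟨hz1, hz2⟩ := key d hd e z hz
    have hne : e ⟨x, Subgroup.subset_closure hx⟩ ≠ e ⟨y, Subgroup.subset_closure hy⟩ := by
      intro h
      exact hxy (congrArg Subtype.val (e.injective h))
    rcases s3_three _ _ _ hx1 hy1 hz1 hx2 hy2 hz2 hne with h | h | h
    · left; exact congrArg Subtype.val (e.injective h)
    · right; left; exact congrArg Subtype.val (e.injective h)
    · right; right
      rw [← map_mul, ← map_mul] at h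
      exact congrArg Subtype.val (e.injective h)

namespace Loc

variable {D : Set G} (hL : Loc D)
include hL

/-- for distinct `x y` in `Nbr d`, `x y x` is the third member -/
theorem third_mem {d x y : G} (hd : d ∈ D) (hx : x ∈ Nbr D d) (hy : y ∈ Nbr D d) (hxy : x ≠ y) :
    x * y * x ∈ Nbr D d ∧ x * y * x ≠ x ∧ x * y * x ≠ y := by
  have hB := hL.toBase
  have hnc := hL.ncomm d hd x hx y hy hxy
  refine ⟨⟨hB.conj' hy.1 hx.1, ?_, ?_⟩, ?_, ?_⟩
  · intro h
    -- y = x d x = d
    apply hy.2.1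
    have hdx : d * x = x * d := hx.2.2
    have : y = x * (x * y * x) * x := by
      calc y = (x * x) * y * (x * x) := by rw [hB.sq x hx.1, one_mul, mul_one]
        _ = x * (x * y * x) * x := by group
    rw [this, h, mul_assoc, hdx, ← mul_assoc, hB.sq x hx.1, one_mul]
  · have hdx : d * x = x * d := hx.2.2
    have hdy : d * y = y * d := hy.2.2
    show d * (x * y * x) = (x * y * x) * d
    calc d * (x * y * x) = (d * x) * y * x := by group
      _ = (x * d) * y * x := by rw [hdx]
      _ = x * (d * y) * x := by group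
      _ = x * (y * d) * x := by rw [hdy]
      _ = x * y * (d * x) := by group
      _ = x * y * (x * d) := by rw [hdx]
      _ = (x * y * x) * d := by group
  · intro h
    -- x y x = x → y x = 1 → y = x
    apply hxy
    have h1 : y * x = 1 := by
      have := congrArg (fun u => x⁻¹ * u) h
      simpa [mul_assoc] using this
    have h2 : y = x⁻¹ := eq_inv_of_mul_eq_one_left h1
    rw [h2, hB.inv_eq hx.1]
  · intro h
    apply hnc
    show x * y = y * x
    have := congrArg (fun u => u * x) h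
    simp only [mul_assoc, hB.sq x hx.1, mul_one] at this
    exact this

/-- `Nbr d = {x, y, x y x}` -/
theorem nbr_eq {d x y : G} (hd : d ∈ D) (hx : x ∈ Nbr D d) (hy : y ∈ Nbr D d) (hxy : x ≠ y) :
    Nbr D d = {x, y, x * y * x} := by
  ext z
  simp only [Set.mem_insert_iff, Set.mem_singleton_iff]
  constructor
  · intro hz
    exact hL.three d hd x hx y hy z hz hxy
  · rintro (rfl | rfl | rfl)
    · exact hx
    · exact hy
    · exact (hL.third_mem hd hx hy hxy).1

theorem exists_ne {d : G} (hd : d ∈ D) (u : G) : ∃ x ∈ Nbr D d, x ≠ u := by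
  obtain ⟨x, hx, y, hy, hxy⟩ := hL.two d hd
  by_cases h : x = u
  · exact ⟨y, hy, fun e => hxy (h.trans e.symm)⟩
  · exact ⟨x, hx, h⟩

end Loc

end Cfsg.Agent.Lib.Lead.TT3
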