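import Mathlib
import Cfsg.Agent.Lib.Lead.TT3B

/-!
# Twins and the twin lemma
-/

set_option autoImplicit false

namespace Cfsg.Agent.Lib.Lead.TT3

variable {G : Type*} [Group G]

/-- `x` and `y` have the same neighbours. -/
def Twin (D : Set G) (x y : G) : Prop := Nbr D x = Nbr D y

theorem Twin.symm {D : Set G} {x y : G} (h : Twin D x y) : Twin D y x := Eq.symm h

theorem Twin.trans {D : Set G} {x y z : G} (h : Twin D x y) (h' : Twin D y z) : Twin D x z :=
  Eq.trans h h'

theorem Twin.refl (D : Set G) (x : G) : Twin D x x := rfl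

section pure

variable {a b d e : G}

/-- `(d y) e (d y)⁻¹ = d (y e y) d` -/
theorem conj_dy {y : G} (hd : d * d = 1) (hy : y * y = 1) (hdy : d * y = y * d) :
    (d * y) * e * (d * y)⁻¹ = d * (y * e * y) * d := by
  rw [mul_inv_rev, inv_of_sq hd, inv_of_sq hy]; group

theorem cancel_d {u v : G} (hd : d * d = 1) (h : d * u * d = d * v * d) : u = v := by
  have := congrArg (fun w => d * w * d) h
  beta_reduce at this
  have e1 : ∀ w : G, d * (d * w * d) * d = (d * d) * w * (d * d) := by intro w; group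
  rw [e1, e1, hd, one_mul, one_mul, mul_one, mul_one] at this
  exact this

end pure

namespace Loc

variable {D : Set G} (hL : Loc D)
include hL

theorem twin_ncomm {x y : G} (hy : y ∈ D) (h : Twin D x y) (hxy : x ≠ y) : ¬ Commute x y := by
  intro hc
  have : y ∈ Nbr D x := ⟨hy, fun e => hxy e.symm, hc⟩
  rw [h] at this
  exact this.2.1 rfl

theorem twin_conj {x y : G} (g : G) (h : Twin D x y) : Twin D (g * x * g⁻¹) (g * y * g⁻¹) := by
  have hB := hL.toBase
  ext u
  rw [hB.mem_nbr_conj, hB.mem_nbr_conj, h]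

/-- twins `x ≠ y` and a common neighbour `z`: `Nbr z = {x, y, x y x}`. -/
theorem twin_nbr {x y z : G} (hx : x ∈ D) (hy : y ∈ D) (h : Twin D x y) (hxy : x ≠ y)
    (hz : z ∈ Nbr D x) : x ∈ Nbr D z ∧ y ∈ Nbr D z ∧ Nbr D z = {x, y, x * y * x} := by
  have hB := hL.toBase
  have hx' : x ∈ Nbr D z := hB.nbr_symm hx hz
  have hy' : y ∈ Nbr D z := hB.nbr_symm hy (h ▸ hz)
  exact ⟨hx', hy', hL.nbr_eq hz.1 hx' hy' hxy⟩

theorem twin_third {x y : G} (hx : x ∈ D) (h : Twin D x y) : Twin D x (x * y * x) := by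
  have hB := hL.toBase
  have := hL.twin_conj x h
  rw [hB.inv_eq hx, mul_assoc x x x, hB.sq x hx, mul_one] at this
  exact this

/-- all twins of `x` lie in `Nbr z` for a neighbour `z` of `x` -/
theorem twin_mem_nbr {x v z : G} (hv : v ∈ D) (h : Twin D x v) (hz : z ∈ Nbr D x) : v ∈ Nbr D z := by
  have hB := hL.toBase
  exact hB.nbr_symm hv (h ▸ hz)

/-- The element `(d y) e (d y)⁻¹` is a neighbour of `e` when `e` commutes with neither `d` nor
`y ∈ Nbr d`. -/
theorem f_mem {d y e : G} (hd : d ∈ D) (hy : y ∈ Nbr D d) (he : e ∈ D) (hed : ¬ Commute e d)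
    (hey : ¬ Commute e y) : (d * y) * e * (d * y)⁻¹ ∈ Nbr D e := by
  have hB := hL.toBase
  have hdd := hB.sq d hd
  have hyy := hB.sq y hy.1
  have hee := hB.sq e he
  have hde : d * e * d = e * d * e := hB.braid' hd he (fun h => hed h.symm)
  have hye : y * e * y = e * y * e := hB.braid' hy.1 he (fun h => hey h.symm)
  refine ⟨hB.conj _ e he, ?_, comm_conj_of_A3 hdd hyy hee hy.2.2 hde hye⟩
  intro h
  rw [conj_dy hdd hyy hy.2.2] at h
  -- d (y e y) d = e → y e y = d e d → y = d
  have h2 : y * e * y = d * e * d := by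
    apply cancel_d hdd
    rw [h]
    calc e = (d * d) * e * (d * d) := by rw [hdd, one_mul, mul_one]
      _ = d * (d * e * d) * d := by group
  exact hy.2.1 (eq_of_conj_eq hyy hdd hee hye hde h2)

theorem f_inj {d x y e : G} (hd : d ∈ D) (hx : x ∈ Nbr D d) (hy : y ∈ Nbr D d) (he : e ∈ D)
    (hex : ¬ Commute e x) (hey : ¬ Commute e y)
    (h : (d * x) * e * (d * x)⁻¹ = (d * y) * e * (d * y)⁻¹) : x = y := by
  have hB := hL.toBase
  have hdd := hB.sq d hd
  have hxx := hB.sq x hx.1
  have hyy := hB.sq y hy.1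
  have hee := hB.sq e he
  have hxe : x * e * x = e * x * e := hB.braid' hx.1 he (fun h => hex h.symm)
  have hye : y * e * y = e * y * e := hB.braid' hy.1 he (fun h => hey h.symm)
  rw [conj_dy hdd hxx hx.2.2, conj_dy hdd hyy hy.2.2] at h
  exact eq_of_conj_eq hxx hyy hee hxe hye (cancel_d hdd h)

/-- **Twin lemma.** -/
theorem twin_lemma {d a b e : G} (hd : d ∈ D) (ha : a ∈ Nbr D d) (hb : b ∈ Nbr D d) (hab : a ≠ b)
    (he : e ∈ D) (hed : ¬ Commute e d) (hea : ¬ Commute e a) (heb : ¬ Commute e b)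
    (hec : ¬ Commute e (a * b * a)) :
    (a * b) * e * (a * b)⁻¹ ≠ e ∧ Twin D e ((a * b) * e * (a * b)⁻¹) := by
  have hB := hL.toBase
  have hdd := hB.sq d hd
  have haa := hB.sq a ha.1
  have hbb := hB.sq b hb.1
  have hee := hB.sq e he
  have hda : d * a = a * d := ha.2.2
  have hdb : d * b = b * d := hb.2.2
  obtain ⟨hc, hca, hcb⟩ := hL.third_mem hd ha hb hab
  have hncab : ¬ Commute a b := hL.ncomm d hd a ha b hb hab
  have hbr : a * b * a = b * a * b := hB.braid' ha.1 hb.1 hncab
  have hae : a * e * a = e * a * e := hB.braid' ha.1 he (fun h => hea h.symm)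
  have hbe : b * e * b = e * b * e := hB.braid' hb.1 he (fun h => heb h.symm)
  -- the three neighbours
  have hfa := hL.f_mem hd ha he hed hea
  have hfb := hL.f_mem hd hb he hed heb
  have hfc := hL.f_mem hd hc he hed hec
  have hfab : (d * a) * e * (d * a)⁻¹ ≠ (d * b) * e * (d * b)⁻¹ :=
    fun h => hab (hL.f_inj hd ha hb he hea heb h)
  have hfca : (d * (a * b * a)) * e * (d * (a * b * a))⁻¹ ≠ (d * a) * e * (d * a)⁻¹ :=
    fun h => hca (hL.f_inj hd hc ha he hec hea h)
  have hfcb : (d * (a * b * a)) * e * (d * (a * b * a))⁻¹ ≠ (d * b) * e * (d * b)⁻¹ :=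
    fun h => hcb (hL.f_inj hd hc hb he hec heb h)
  have hN : ∀ u ∈ Nbr D e, u = (d * a) * e * (d * a)⁻¹ ∨ u = (d * b) * e * (d * b)⁻¹ ∨
      u = (d * (a * b * a)) * e * (d * (a * b * a))⁻¹ := by
    intro u hu
    rcases hL.three e he _ hfa _ hfb u hu hfab with h | h | h
    · left; exact h
    · right; left; exact h
    · right; right
      rcases hL.three e he _ hfa _ hfb _ hfc hfab with h' | h' | h'
      · exact absurd h' hfca
      · exact absurd h' hfcb
      · rw [h, h']
  -- the action of r = a b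
  have hr1 : (a * b) * (d * a) = d * (a * b * a) := by
    calc (a * b) * (d * a) = a * (b * d) * a := by group
      _ = a * (d * b) * a := by rw [hdb]
      _ = (a * d) * b * a := by group
      _ = (d * a) * b * a := by rw [hda]
      _ = d * (a * b * a) := by group
  have hr2 : (a * b) * (d * b) = d * a := by
    calc (a * b) * (d * b) = a * (b * d) * b := by group
      _ = a * (d * b) * b := by rw [hdb]
      _ = (a * d) * (b * b) := by group
      _ = d * a := by rw [hbb, mul_one, hda]
  have hr3 : (a * b) * (d * (a * b * a)) = d * b := by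
    calc (a * b) * (d * (a * b * a)) = a * (b * d) * (a * b * a) := by group
      _ = a * (d * b) * (a * b * a) := by rw [hdb]
      _ = (a * d) * b * (a * b * a) := by group
      _ = (d * a) * b * (a * b * a) := by rw [hda]
      _ = d * (a * b * a) * (b * a) := by group
      _ = d * (b * a * b) * (b * a) := by rw [hbr]
      _ = d * b * a * (b * b) * a := by group
      _ = d * b := by rw [hbb, mul_one, mul_assoc, haa, mul_one]
  have hconj : ∀ g h : G, g * (h * e * h⁻¹) * g⁻¹ = (g * h) * e * (g * h)⁻¹ := by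
    intro g h; group
  have hperm : ∀ u ∈ Nbr D e, (a * b) * u * (a * b)⁻¹ ∈ Nbr D e := by
    intro u hu
    rcases hN u hu with h | h | h
    · rw [h, hconj, hr1]; exact hfc
    · rw [h, hconj, hr2]; exact hfa
    · rw [h, hconj, hr3]; exact hfb
  have hr3' : (a * b) ^ 3 = 1 := hB.cube ha.1 hb.1 hncab
  have hrinv : (a * b)⁻¹ = (a * b) * (a * b) := by
    apply inv_eq_of_mul_eq_one_right
    rw [← hr3', pow_succ, pow_two]
    group
  have hperm' : ∀ u ∈ Nbr D e, (a * b)⁻¹ * u * (a * b) ∈ Nbr D e := by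
    intro u hu
    have h1 := hperm _ (hperm u hu)
    have e1 : (a * b)⁻¹ * u * (a * b) = (a * b) * ((a * b) * u * (a * b)⁻¹) * (a * b)⁻¹ := by
      have : (a * b) * ((a * b) * u * (a * b)⁻¹) * (a * b)⁻¹
          = ((a * b) * (a * b)) * u * ((a * b) * (a * b))⁻¹ := by group
      rw [this, ← hrinv, inv_inv]
    rw [e1]; exact h1
  refine ⟨?_, ?_⟩
  · intro h
    -- a b e b a = e → b e b = a e a → a = b
    have h1 : a * (b * e * b) * a = e := by
      rw [mul_inv_rev, hB.inv_eq ha.1, hB.inv_eq hb.1] at h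
      have e0 : a * (b * e * b) * a = a * b * e * (b * a) := by group
      rw [e0]; exact h
    have h2 : b * e * b = a * e * a := by
      apply cancel_d haa
      rw [h1]
      calc e = (a * a) * e * (a * a) := by rw [haa, one_mul, mul_one]
        _ = a * (a * e * a) * a := by group
    exact hab (eq_of_conj_eq haa hbb hee hae hbe h2.symm)
  · ext u
    rw [hB.mem_nbr_conj]
    constructor
    · intro hu
      exact hperm' u hu
    · intro hu
      have := hperm _ hu
      have e1 : (a * b) * ((a * b)⁻¹ * u * (a * b)) * (a * b)⁻¹ = u := by group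
      rwa [e1] at this

end Loc

end Cfsg.Agent.Lib.Lead.TT3
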