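import Mathlib
import Cfsg.Agent.Lib.Lead.TT3C

/-!
# The normal abelian 3-subgroup generated by products of twins
-/

set_option autoImplicit false

namespace Cfsg.Agent.Lib.Lead.TT3

variable {G : Type*} [Group G]

/-- products of twins -/
def TGen (D : Set G) : Set G := {g | ∃ x ∈ D, ∃ y ∈ D, Twin D x y ∧ g = x * y}

/-- the subgroup generated by products of twins -/
def TT (D : Set G) : Subgroup G := Subgroup.closure (TGen D)

section pure

variable {x y : G}

/-- commuting with powers of `r = x y` -/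
theorem comm_r_aux (hx : x * x = 1) (hy : y * y = 1) :
    Commute (x * y) (y * x) := by
  have : y * x = (x * y)⁻¹ := by rw [mul_inv_rev, inv_of_sq hx, inv_of_sq hy]
  rw [this]
  exact (Commute.refl _).inv_right

end pure

namespace Loc

variable {D : Set G} (hL : Loc D)
include hL

theorem tgen_conj {u : G} (g : G) (hu : u ∈ TGen D) : g * u * g⁻¹ ∈ TGen D := by
  have hB := hL.toBase
  obtain ⟨x, hx, y, hy, hxy, rfl⟩ := hu
  refine ⟨g * x * g⁻¹, hB.conj g x hx, g * y * g⁻¹, hB.conj g y hy, hL.twin_conj g hxy, ?_⟩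
  group

theorem tt_normal : (TT D).Normal := by
  constructor
  intro n hn g
  unfold TT at hn ⊢
  induction hn using Subgroup.closure_induction with
  | mem u hu => exact Subgroup.subset_closure (hL.tgen_conj g hu)
  | one => simp
  | mul a b _ _ iha ihb =>
    have : g * (a * b) * g⁻¹ = (g * a * g⁻¹) * (g * b * g⁻¹) := by group
    rw [this]; exact mul_mem iha ihb
  | inv a _ iha =>
    have : g * a⁻¹ * g⁻¹ = (g * a * g⁻¹)⁻¹ := by group
    rw [this]; exact inv_mem iha

theorem tgen_cube {u : G} (hu : u ∈ TGen D) : u ^ 3 = 1 := by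
  have hB := hL.toBase
  obtain ⟨x, hx, y, hy, hxy, rfl⟩ := hu
  by_cases h : x = y
  · subst h; rw [hB.sq x hx, one_pow]
  · exact hB.cube hx hy (hL.twin_ncomm hy hxy h)

/-- products of two distinct members of `{x, y, x y x}` commute with `x y` -/
theorem comm_case0 {x y u v : G} (hx : x ∈ D) (hy : y ∈ D) (hnc : ¬ Commute x y)
    (hu : u = x ∨ u = y ∨ u = x * y * x) (hv : v = x ∨ v = y ∨ v = x * y * x) :
    Commute (x * y) (u * v) := by
  have hB := hL.toBase
  have hxx := hB.sq x hx
  have hyy := hB.sq y hy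
  have hbr := hB.braid' hx hy hnc
  have c1 : Commute (x * y) (y * x) := comm_r_aux hxx hyy
  have c0 : Commute (x * y) (x * y) := Commute.refl _
  have c11 : Commute (x * y) 1 := Commute.one_right _
  rcases hu with h | h | h <;> rcases hv with h' | h' | h'
  · rw [h, h', hxx]; exact c11
  · rw [h, h']
  · rw [h, h']
    have : x * (x * y * x) = y * x := by rw [← mul_assoc, ← mul_assoc, hxx, one_mul]
    rw [this]; exact c1
  · rw [h, h']; exact c1
  · rw [h, h', hyy]; exact c11
  · rw [h, h']
    have : y * (x * y * x) = (y * x) * (y * x) := by group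
    rw [this]; exact c1.mul_right c1
  · rw [h, h']
    have : x * y * x * x = x * y := by rw [mul_assoc, hxx, mul_one]
    rw [this]
  · rw [h, h']
    have : x * y * x * y = (x * y) * (x * y) := by group
    rw [this]; exact c0.mul_right c0
  · rw [h, h']
    have : x * y * x * (x * y * x) = 1 := by
      calc x * y * x * (x * y * x) = x * y * (x * x) * y * x := by group
        _ = 1 := by rw [hxx, mul_one, mul_assoc x y y, hyy, mul_one, hxx]
    rw [this]; exact c11

/-- generators of `TT D` commute -/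
theorem tgen_comm {p q : G} (hp : p ∈ TGen D) (hq : q ∈ TGen D) : Commute p q := by
  have hB := hL.toBase
  obtain ⟨x, hx, y, hy, hxy, rfl⟩ := hp
  obtain ⟨u, hu, v, hv, huv, rfl⟩ := hq
  by_cases hxy' : x = y
  · subst hxy'; rw [hB.sq x hx]; exact Commute.one_left _
  by_cases huv' : u = v
  · subst huv'; rw [hB.sq u hu]; exact Commute.one_right _
  have hncxy := hL.twin_ncomm hy hxy hxy'
  obtain ⟨z, hz, -⟩ := hL.exists_ne hx x
  obtain ⟨hxz, hyz, hNz⟩ := hL.twin_nbr hx hy hxy hxy' hz
  by_cases h0 : u ∈ Nbr D z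
  · -- case 0
    have hvz : v ∈ Nbr D z := hL.twin_mem_nbr hv huv (hB.nbr_symm hz.1 h0)
    rw [hNz] at h0 hvz
    simp only [Set.mem_insert_iff, Set.mem_singleton_iff] at h0 hvz
    exact hL.comm_case0 hx hy hncxy h0 hvz
  by_cases h1 : Commute u x
  · -- case 1
    have hux : u ≠ x := fun e => h0 (e ▸ hxz)
    have hu1 : u ∈ Nbr D x := ⟨hu, hux, h1.symm⟩
    have hu2 : u ∈ Nbr D y := hxy ▸ hu1
    have hx1 : x ∈ Nbr D v := huv ▸ hB.nbr_symm hx hu1
    have hy1 : y ∈ Nbr D v := huv ▸ hB.nbr_symm hy hu2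
    have c1 : Commute x u := hu1.2.2
    have c2 : Commute y u := hu2.2.2
    have c3 : Commute x v := hx1.2.2.symm
    have c4 : Commute y v := hy1.2.2.symm
    exact (c1.mul_right c3).mul_left (c2.mul_right c4)
  -- case 2
  have h2 : ¬ Commute u y := by
    intro hc
    have huy : u ≠ y := fun e => h0 (e ▸ hyz)
    have : u ∈ Nbr D y := ⟨hu, huy, hc.symm⟩
    rw [← hxy] at this
    exact h1 this.2.2.symm
  have h3 : ¬ Commute u (x * y * x) := by
    intro hc
    have hcz : x * y * x ∈ Nbr D z := (hL.third_mem hz.1 hxz hyz hxy').1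
    have huc : u ≠ x * y * x := fun e => h0 (e ▸ hcz)
    have : u ∈ Nbr D (x * y * x) := ⟨hu, huc, hc.symm⟩
    rw [← hL.twin_third hx hxy] at this
    exact h1 this.2.2.symm
  have h4 : ¬ Commute u z := by
    intro hc
    by_cases e : u = z
    · apply h1
      rw [e]
      exact hz.2.2.symm
    · exact h0 ⟨hu, e, hc.symm⟩
  obtain ⟨hne, htw⟩ := hL.twin_lemma hz.1 hxz hyz hxy' hu h4 h1 h2 h3
  set r := x * y with hr
  set u' := r * u * r⁻¹ with hu'
  have hu'D : u' ∈ D := hB.conj r u hu
  obtain ⟨f, hf, -⟩ := hL.exists_ne hu u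
  obtain ⟨huf, hu'f, hNf⟩ := hL.twin_nbr hu hu'D htw (Ne.symm hne) hf
  have hncuu' : ¬ Commute u u' := hL.twin_ncomm hu'D htw (Ne.symm hne)
  have hbr : u * u' * u = u' * u * u' := hB.braid' hu hu'D hncuu'
  have huu := hB.sq u hu
  have hu'u' := hB.sq u' hu'D
  -- r u' r⁻¹ = u u' u
  have hr3 : r ^ 3 = 1 := hB.cube hx hy hncxy
  have hu'' : r * u' * r⁻¹ = u * u' * u := by
    have htw' : Twin D u' (r * u' * r⁻¹) := hL.twin_conj r htw
    have hD'' : r * u' * r⁻¹ ∈ D := hB.conj r u' hu'D
    have hmem : r * u' * r⁻¹ ∈ Nbr D f := hL.twin_mem_nbr hD'' (htw.trans htw') hf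
    rw [hNf] at hmem
    simp only [Set.mem_insert_iff, Set.mem_singleton_iff] at hmem
    rcases hmem with h | h | h
    · -- r² u r⁻² = u → u' = u
      exfalso
      apply hne
      have e1 : r * u' * r⁻¹ = r * r * u * (r * r)⁻¹ := by rw [hu']; group
      have e2 : (r * r)⁻¹ = r := by
        apply inv_eq_of_mul_eq_one_left
        have : r * (r * r) = r ^ 3 := by
          rw [pow_succ, pow_two]; exact (mul_assoc r r r).symm
        rw [this, hr3]
      have e3 : r * r = r⁻¹ := by
        apply eq_inv_of_mul_eq_one_left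
        have : r * r * r = r ^ 3 := by rw [pow_succ, pow_two]
        rw [this, hr3]
      rw [e1, e2, e3] at h
      -- r⁻¹ u r = u
      calc r * u * r⁻¹ = r * (r⁻¹ * u * r) * r⁻¹ := by rw [h]
        _ = u := by group
    · exfalso
      apply hne
      have := congrArg (fun w => r⁻¹ * w * r) h
      beta_reduce at this
      have e1 : r⁻¹ * (r * u' * r⁻¹) * r = u' := by group
      have e2 : r⁻¹ * u' * r = u := by rw [hu']; group
      rw [e1, e2] at this
      exact this
    · exact h
  have hcomm : Commute r (u * u') := by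
    show r * (u * u') = (u * u') * r
    have e1 : r * (u * u') * r⁻¹ = u * u' := by
      calc r * (u * u') * r⁻¹ = (r * u * r⁻¹) * (r * u' * r⁻¹) := by group
        _ = u' * (u * u' * u) := by rw [hu'']
        _ = (u' * u * u') * u := by group
        _ = (u * u' * u) * u := by rw [hbr]
        _ = u * u' := by rw [mul_assoc, huu, mul_one]
    calc r * (u * u') = (r * (u * u') * r⁻¹) * r := by group
      _ = (u * u') * r := by rw [e1]
  -- v ∈ {u', u u' u}
  have hvf : v ∈ Nbr D f := hL.twin_mem_nbr hv huv hf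
  rw [hNf] at hvf
  simp only [Set.mem_insert_iff, Set.mem_singleton_iff] at hvf
  rcases hvf with h | h | h
  · exact absurd h.symm huv'
  · rw [h]; exact hcomm
  · rw [h]
    have : u * (u * u' * u) = (u * u')⁻¹ := by
      rw [mul_inv_rev, hB.inv_eq hu, hB.inv_eq hu'D, ← mul_assoc, ← mul_assoc, huu, one_mul]
    rw [this]
    exact hcomm.inv_right

theorem tt_comm {p q : G} (hp : p ∈ TT D) (hq : q ∈ TT D) : Commute p q := by
  have h1 : TGen D ⊆ (Subgroup.centralizer (TGen D) : Set G) := by
    intro a ha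
    rw [SetLike.mem_coe, Subgroup.mem_centralizer_iff]
    intro b hb
    exact (hL.tgen_comm hb ha).eq
  have h2 : TT D ≤ Subgroup.centralizer (TGen D) := (Subgroup.closure_le _).mpr h1
  have h3 : TT D ≤ Subgroup.centralizer (TT D : Set G) := by
    unfold TT
    rw [Subgroup.centralizer_closure]
    exact h2
  exact (Subgroup.mem_centralizer_iff.mp (h3 hq) p hp)

theorem tt_cube {p : G} (hp : p ∈ TT D) : p ^ 3 = 1 := by
  have hp' := hp
  unfold TT at hp
  induction hp using Subgroup.closure_induction with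
  | mem u hu => exact hL.tgen_cube hu
  | one => simp
  | mul a b ha hb iha ihb =>
    have hc : Commute a b := hL.tt_comm ha hb
    rw [hc.mul_pow, iha ha, ihb hb, one_mul]
  | inv a ha iha => rw [inv_pow, iha ha, inv_one]

theorem tt_isPGroup : IsPGroup 3 (TT D) := by
  intro g
  refine ⟨1, ?_⟩
  rw [pow_one]
  exact Subtype.ext (hL.tt_cube g.2)

end Loc

end Cfsg.Agent.Lib.Lead.TT3
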