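import Mathlib
import Cfsg.Prelude.Def_Solvable
import Cfsg.Agent.Lib.Lead.TT3D

/-!
# The centralizer bound and the algebraic contradiction
-/

set_option autoImplicit false

namespace Cfsg.Agent.Lib.Lead.TT3

variable {G : Type*} [Group G]

/-- closure of two commuting elements is commutative -/
theorem closure_pair_comm {r t : G} (hrt : Commute r t) {u v : G}
    (hu : u ∈ Subgroup.closure ({r, t} : Set G)) (hv : v ∈ Subgroup.closure ({r, t} : Set G)) :
    Commute u v := by
  have h1 : ({r, t} : Set G) ⊆ (Subgroup.centralizer ({r, t} : Set G) : Set G) := by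
    intro a ha
    rw [SetLike.mem_coe, Subgroup.mem_centralizer_iff]
    intro b hb
    simp only [Set.mem_insert_iff, Set.mem_singleton_iff] at ha hb
    rcases ha with rfl | rfl <;> rcases hb with rfl | rfl
    · rfl
    · exact hrt.symm.eq
    · exact hrt.eq
    · rfl
  have h2 : Subgroup.closure ({r, t} : Set G) ≤ Subgroup.centralizer ({r, t} : Set G) :=
    (Subgroup.closure_le _).mpr h1
  have h3 : Subgroup.closure ({r, t} : Set G) ≤
      Subgroup.centralizer (Subgroup.closure ({r, t} : Set G) : Set G) := by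
    rw [Subgroup.centralizer_closure]
    exact h2
  exact (Subgroup.mem_centralizer_iff.mp (h3 hv) u hu)

/-- The algebraic contradiction. -/
theorem alg_contra {a d e r t ρ : G} (ha : a * a = 1) (hd : d * d = 1) (he : e * e = 1)
    (hae3 : (a * e) ^ 3 = 1) (hde3 : (d * e) ^ 3 = 1) (hr3 : r ^ 3 = 1) (hρ3 : ρ ^ 3 = 1)
    (hrt : Commute r t)
    (har : a * r * a = r⁻¹) (hat : a * t * a = t) (hdr : d * r * d = r) (hdt : d * t * d = t⁻¹)
    (her : e * r * e = ρ * r) (heρ : e * ρ * e = ρ⁻¹)
    (hw : t * ρ * ρ = 1 ∨ t * ρ * ρ = r ∨ t * ρ * ρ = r * r) (hr1 : r ≠ 1) : False := by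
  set O := Subgroup.closure ({r, t} : Set G) with hO
  have hrO : r ∈ O := Subgroup.subset_closure (by simp)
  have htO : t ∈ O := Subgroup.subset_closure (by simp)
  have hai : a⁻¹ = a := inv_eq_of_mul_eq_one_right ha
  have hdi : d⁻¹ = d := inv_eq_of_mul_eq_one_right hd
  have hei : e⁻¹ = e := inv_eq_of_mul_eq_one_right he
  -- ρ ∈ O
  have hwO : t * ρ * ρ ∈ O := by
    rcases hw with h | h | h <;> rw [h]
    · exact one_mem _
    · exact hrO
    · exact mul_mem hrO hrO
  have hρρ : ρ * ρ ∈ O := by
    have : ρ * ρ = t⁻¹ * (t * ρ * ρ) := by group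
    rw [this]; exact mul_mem (inv_mem htO) hwO
  have hρO : ρ ∈ O := by
    have : ρ = (ρ * ρ) * (ρ * ρ) := by
      have h4 : (ρ * ρ) * (ρ * ρ) = ρ ^ 3 * ρ := by
        rw [pow_succ, pow_two]; simp only [mul_assoc]
      rw [h4, hρ3, one_mul]
    rw [this]; exact mul_mem hρρ hρρ
  -- the three conjugation maps preserve O
  have hα : ∀ u ∈ O, a * u * a ∈ O := by
    intro u hu
    have : O ≤ O.comap (MulAut.conj a).toMonoidHom := by
      rw [hO, Subgroup.closure_le]
      intro x hx
      simp only [Set.mem_insert_iff, Set.mem_singleton_iff] at hx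
      rw [SetLike.mem_coe, Subgroup.mem_comap]
      show (MulAut.conj a) x ∈ O
      rw [MulAut.conj_apply, hai]
      rcases hx with rfl | rfl
      · rw [har]; exact inv_mem hrO
      · rw [hat]; exact htO
    have := this hu
    rw [Subgroup.mem_comap] at this
    have h2 : (MulAut.conj a).toMonoidHom u = a * u * a := by
      show (MulAut.conj a) u = _
      rw [MulAut.conj_apply, hai]
    rwa [h2] at this
  have hδ : ∀ u ∈ O, d * u * d ∈ O := by
    intro u hu
    have : O ≤ O.comap (MulAut.conj d).toMonoidHom := by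
      rw [hO, Subgroup.closure_le]
      intro x hx
      simp only [Set.mem_insert_iff, Set.mem_singleton_iff] at hx
      rw [SetLike.mem_coe, Subgroup.mem_comap]
      show (MulAut.conj d) x ∈ O
      rw [MulAut.conj_apply, hdi]
      rcases hx with rfl | rfl
      · rw [hdr]; exact hrO
      · rw [hdt]; exact inv_mem htO
    have := this hu
    rw [Subgroup.mem_comap] at this
    have h2 : (MulAut.conj d).toMonoidHom u = d * u * d := by
      show (MulAut.conj d) u = _
      rw [MulAut.conj_apply, hdi]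
    rwa [h2] at this
  have hεmul : ∀ u v : G, e * (u * v) * e = (e * u * e) * (e * v * e) := by
    intro u v
    calc e * (u * v) * e = e * u * (e * e) * v * e := by rw [he, mul_one]; group
      _ = (e * u * e) * (e * v * e) := by group
  have hεinv : ∀ u : G, e * u⁻¹ * e = (e * u * e)⁻¹ := by
    intro u
    rw [mul_inv_rev, mul_inv_rev, hei]; group
  have hεr : e * r * e ∈ O := by rw [her]; exact mul_mem hρO hrO
  have hεw : e * (t * ρ * ρ) * e ∈ O := by
    rcases hw with h | h | h <;> rw [h]
    · rw [mul_one, he]; exact one_mem _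
    · exact hεr
    · rw [hεmul]; exact mul_mem hεr hεr
  have hεt : e * t * e ∈ O := by
    have h1 : t = (t * ρ * ρ) * ρ⁻¹ * ρ⁻¹ := by group
    have h2 : e * t * e = (e * (t * ρ * ρ) * e) * (e * ρ⁻¹ * e) * (e * ρ⁻¹ * e) := by
      rw [← hεmul, ← hεmul, ← h1]
    rw [h2, hεinv, heρ, inv_inv]
    exact mul_mem (mul_mem hεw hρO) hρO
  have hε : ∀ u ∈ O, e * u * e ∈ O := by
    intro u hu
    have : O ≤ O.comap (MulAut.conj e).toMonoidHom := by
      rw [hO, Subgroup.closure_le]
      intro x hx
      simp only [Set.mem_insert_iff, Set.mem_singleton_iff] at hx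
      rw [SetLike.mem_coe, Subgroup.mem_comap]
      show (MulAut.conj e) x ∈ O
      rw [MulAut.conj_apply, hei]
      rcases hx with rfl | rfl
      · exact hεr
      · exact hεt
    have := this hu
    rw [Subgroup.mem_comap] at this
    have h2 : (MulAut.conj e).toMonoidHom u = e * u * e := by
      show (MulAut.conj e) u = _
      rw [MulAut.conj_apply, hei]
    rwa [h2] at this
  -- δ = ι ∘ α on O
  have hcomm : ∀ u ∈ O, ∀ v ∈ O, Commute u v := fun u hu v hv => closure_pair_comm hrt hu hv
  have hαmul : ∀ u v : G, a * (u * v) * a = (a * u * a) * (a * v * a) := by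
    intro u v
    calc a * (u * v) * a = a * u * (a * a) * v * a := by rw [ha, mul_one]; group
      _ = (a * u * a) * (a * v * a) := by group
  have hδmul : ∀ u v : G, d * (u * v) * d = (d * u * d) * (d * v * d) := by
    intro u v
    calc d * (u * v) * d = d * u * (d * d) * v * d := by rw [hd, mul_one]; group
      _ = (d * u * d) * (d * v * d) := by group
  have hδinv : ∀ u : G, d * u⁻¹ * d = (d * u * d)⁻¹ := by
    intro u
    rw [mul_inv_rev, mul_inv_rev, hdi]; group
  have hαinv : ∀ u : G, a * u⁻¹ * a = (a * u * a)⁻¹ := by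
    intro u
    rw [mul_inv_rev, mul_inv_rev, hai]; group
  have hδα : ∀ u ∈ O, d * u * d = (a * u * a)⁻¹ := by
    intro u hu
    rw [hO] at hu
    induction hu using Subgroup.closure_induction with
    | mem x hx =>
      simp only [Set.mem_insert_iff, Set.mem_singleton_iff] at hx
      rcases hx with rfl | rfl
      · rw [hdr, har, inv_inv]
      · rw [hdt, hat]
    | one => rw [mul_one, mul_one, hd, ha, inv_one]
    | mul x y hx hy ihx ihy =>
      rw [← hO] at hx hy
      rw [hδmul, hαmul, ihx, ihy, mul_inv_rev (a * x * a) (a * y * a)]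
      exact ((hcomm _ (hα x hx) _ (hα y hy)).inv_inv).eq
    | inv x hx ih =>
      rw [hδinv, hαinv, ih]
  -- (de) u (de)⁻¹ = ((ae) u (ae)⁻¹)⁻¹ on O
  have hφ : ∀ u ∈ O, a * (e * u * e) * a ∈ O := fun u hu => hα _ (hε u hu)
  have hψ : ∀ u ∈ O, d * (e * u * e) * d = (a * (e * u * e) * a)⁻¹ := fun u hu => hδα _ (hε u hu)
  -- conjugation by (a e)^3 and (d e)^3
  have he' : ∀ x : G, e * (e * x) = x := by intro x; rw [← mul_assoc, he, one_mul]
  have ha' : ∀ x : G, a * (a * x) = x := by intro x; rw [← mul_assoc, ha, one_mul]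
  have hd' : ∀ x : G, d * (d * x) = x := by intro x; rw [← mul_assoc, hd, one_mul]
  have hφ3 : ∀ u : G, a * (e * (a * (e * (a * (e * u * e) * a) * e) * a) * e) * a = u := by
    intro u
    have h1 : a * (e * (a * (e * (a * (e * u * e) * a) * e) * a) * e) * a
        = (a * e) ^ 3 * u * ((a * e) ^ 3)⁻¹ := by
      have : ((a * e) ^ 3)⁻¹ = e * a * (e * a) * (e * a) := by
        apply inv_eq_of_mul_eq_one_right
        rw [pow_succ, pow_two]
        simp only [mul_assoc, he', ha', he, ha, mul_one]
      rw [this, pow_succ, pow_two]; simp only [mul_assoc]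
    rw [h1, hae3, one_mul, inv_one, mul_one]
  have hψ3 : ∀ u : G, d * (e * (d * (e * (d * (e * u * e) * d) * e) * d) * e) * d = u := by
    intro u
    have h1 : d * (e * (d * (e * (d * (e * u * e) * d) * e) * d) * e) * d
        = (d * e) ^ 3 * u * ((d * e) ^ 3)⁻¹ := by
      have : ((d * e) ^ 3)⁻¹ = e * d * (e * d) * (e * d) := by
        apply inv_eq_of_mul_eq_one_right
        rw [pow_succ, pow_two]
        simp only [mul_assoc, he', hd', he, hd, mul_one]
      rw [this, pow_succ, pow_two]; simp only [mul_assoc]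
    rw [h1, hde3, one_mul, inv_one, mul_one]
  -- so r = r⁻¹
  have hkey : r = r⁻¹ := by
    have h1 := hψ3 r
    -- rewrite innermost
    rw [hψ r hrO] at h1
    -- d (e (φ r)⁻¹ e) d with φ r ∈ O
    have hφr : a * (e * r * e) * a ∈ O := hφ r hrO
    rw [hεinv, hδinv, hψ _ hφr, inv_inv] at h1
    have hφφr : a * (e * (a * (e * r * e) * a) * e) * a ∈ O := hφ _ hφr
    rw [hψ _ hφφr, hφ3 r] at h1
    exact h1.symm
  apply hr1
  have h2 : r * r = 1 := by
    have := congrArg (fun u => r * u) hkey
    simpa using this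
  have h3 : r ^ 3 = r * r * r := by rw [pow_succ, pow_two]
  rw [h3, h2, one_mul] at hr3
  exact hr3

end Cfsg.Agent.Lib.Lead.TT3
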