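import Mathlib
import Cfsg.Prelude.Def_Solvable
import Cfsg.Agent.Lib.Lead.TT3E

/-!
# The commuting graph is connected
-/

set_option autoImplicit false

namespace Cfsg.Agent.Lib.Lead.TT3

variable {G : Type*} [Group G]

namespace Loc

variable {D : Set G} (hL : Loc D)
include hL

/-- The centralizer bound. -/
theorem cent_TT [Finite G]
    (hO3 : ∀ d ∈ D, Nat.card (Cfsg.pCore 3 ↥(Subgroup.centralizer ({d} : Set G))) = 3)
    {d r w : G} (hd : d ∈ D) (hr : r ∈ TT D) (hrd : Commute d r) (hr1 : r ≠ 1) (hw : w ∈ TT D)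
    (hwd : Commute d w) : w = 1 ∨ w = r ∨ w = r * r := by
  have : Fact (Nat.Prime 3) := ⟨by norm_num⟩
  set C := Subgroup.centralizer ({d} : Set G) with hC
  set N := (TT D).subgroupOf C with hN
  have hNn : N.Normal := (hL.tt_normal).subgroupOf C
  have hNp : IsPGroup 3 N := hL.tt_isPGroup.comap_of_injective C.subtype (Subgroup.subtype_injective C)
  have hle : N ≤ Cfsg.pCore 3 ↥C := le_sSup ⟨hNn, hNp⟩
  have hcard : Nat.card N ≤ 3 := (Subgroup.card_le_of_le hle).trans (hO3 d hd).le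
  have hrC : r ∈ C := by
    rw [hC, Subgroup.mem_centralizer_iff]
    intro h hh
    rw [Set.mem_singleton_iff] at hh
    rw [hh]; exact hrd.eq
  have hwC : w ∈ C := by
    rw [hC, Subgroup.mem_centralizer_iff]
    intro h hh
    rw [Set.mem_singleton_iff] at hh
    rw [hh]; exact hwd.eq
  have hrN : (⟨r, hrC⟩ : ↥C) ∈ N := Subgroup.mem_subgroupOf.mpr hr
  have hwN : (⟨w, hwC⟩ : ↥C) ∈ N := Subgroup.mem_subgroupOf.mpr hw
  have hr1' : (⟨⟨r, hrC⟩, hrN⟩ : ↥N) ≠ 1 := by
    intro h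
    apply hr1
    have := congrArg (fun x : ↥N => ((x : ↥C) : G)) h
    exact this
  obtain ⟨n, hn⟩ := hNp.exists_card_eq
  have hn1 : n = 1 := by
    rcases n with _ | _ | n
    · exfalso
      rw [pow_zero] at hn
      have : Subsingleton ↥N := (Nat.card_eq_one_iff_unique.mp hn).1
      exact hr1' (Subsingleton.elim _ _)
    · rfl
    · exfalso
      rw [hn] at hcard
      have : 3 ^ (n + 1 + 1) ≥ 9 := by
        have : 3 ^ (n + 1 + 1) = 9 * 3 ^ n := by ring
        rw [this]; exact Nat.le_mul_of_pos_right 9 (by positivity)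
      omega
  rw [hn1, pow_one] at hn
  have hmem := mem_powers_of_prime_card hn (g := (⟨⟨r, hrC⟩, hrN⟩ : ↥N))
    (g' := (⟨⟨w, hwC⟩, hwN⟩ : ↥N)) hr1'
  obtain ⟨k, hk⟩ := hmem
  have hk' : r ^ k = w := by
    have := congrArg (fun x : ↥N => ((x : ↥C) : G)) hk
    simpa using this
  have hr3 : r ^ 3 = 1 := hL.tt_cube hr
  have hk3 : r ^ k = r ^ (k % 3) := by
    conv_lhs => rw [← Nat.div_add_mod k 3]
    rw [pow_add, pow_mul, hr3, one_pow, one_mul]
  rw [hk3] at hk'
  have hlt : k % 3 < 3 := Nat.mod_lt _ (by norm_num)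
  interval_cases (k % 3)
  · left; rw [← hk', pow_zero]
  · right; left; rw [← hk', pow_one]
  · right; right; rw [← hk', pow_two]

/-- **Connectivity**: a nonempty subset of `D` closed under taking neighbours is all of `D`. -/
theorem no_outside [Finite G]
    (hO3 : ∀ d ∈ D, Nat.card (Cfsg.pCore 3 ↥(Subgroup.centralizer ({d} : Set G))) = 3)
    {D₀ : Set G} (hsub : D₀ ⊆ D) (hcl : ∀ x ∈ D₀, Nbr D x ⊆ D₀) {d e : G} (hd : d ∈ D₀)
    (he : e ∈ D) (he0 : e ∉ D₀) : False := by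
  have hB := hL.toBase
  have hdD := hsub hd
  have hsep : ∀ x ∈ D₀, ∀ y ∈ D, y ∉ D₀ → ¬ Commute x y := by
    intro x hx y hy hy0 hc
    apply hy0
    by_cases h : y = x
    · rw [h]; exact hx
    · exact hcl x hx ⟨hy, h, hc⟩
  have hcl' : ∀ y ∈ D, y ∉ D₀ → ∀ u ∈ Nbr D y, u ∉ D₀ := by
    intro y hy hy0 u hu hu0
    exact hy0 (hcl u hu0 (hB.nbr_symm hy hu))
  obtain ⟨a, ha, b, hb, hab⟩ := hL.two d hdD
  have ha0 : a ∈ D₀ := hcl d hd ha
  have hb0 : b ∈ D₀ := hcl d hd hb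
  obtain ⟨hc, -, -⟩ := hL.third_mem hdD ha hb hab
  have hc0 : a * b * a ∈ D₀ := hcl d hd hc
  obtain ⟨hne, htw⟩ := hL.twin_lemma hdD ha hb hab he (fun h => hsep d hd e he he0 h.symm)
    (fun h => hsep a ha0 e he he0 h.symm) (fun h => hsep b hb0 e he he0 h.symm)
    (fun h => hsep _ hc0 e he he0 h.symm)
  have he'D : (a * b) * e * (a * b)⁻¹ ∈ D := hB.conj (a * b) e he
  obtain ⟨f, hf, -⟩ := hL.exists_ne he e
  have hf0 : f ∉ D₀ := hcl' e he he0 f hf
  have he'0 : (a * b) * e * (a * b)⁻¹ ∉ D₀ := by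
    intro h
    have : f ∈ Nbr D ((a * b) * e * (a * b)⁻¹) := htw ▸ hf
    exact hf0 (hcl _ h this)
  obtain ⟨hef, he'f, -⟩ := hL.twin_nbr he he'D htw (Ne.symm hne) hf
  obtain ⟨hc', -, -⟩ := hL.third_mem hf.1 hef he'f (Ne.symm hne)
  have he''0 : e * ((a * b) * e * (a * b)⁻¹) * e ∉ D₀ := by
    intro h
    exact hf0 (hcl _ h (hB.nbr_symm hf.1 hc'))
  obtain ⟨hne2, htw2⟩ := hL.twin_lemma hf.1 hef he'f (Ne.symm hne) hdD
    (hsep d hd f hf.1 hf0) (hsep d hd e he he0) (hsep d hd _ he'D he'0)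
    (hsep d hd _ hc'.1 he''0)
  set r := a * b with hr
  set e' := r * e * r⁻¹ with he'
  set ρ := e * e' with hρ
  set d' := ρ * d * ρ⁻¹ with hd'
  have hd'D : d' ∈ D := hB.conj ρ d hdD
  have htwab : Twin D a b := by
    obtain ⟨-, -, hNa⟩ := hL.twin_nbr hdD hd'D htw2 (Ne.symm hne2) ha
    obtain ⟨-, -, hNb⟩ := hL.twin_nbr hdD hd'D htw2 (Ne.symm hne2) hb
    rw [Twin, hNa, hNb]
  have hrT : r ∈ TT D := Subgroup.subset_closure ⟨a, ha.1, b, hb.1, htwab, rfl⟩
  have hρT : ρ ∈ TT D := Subgroup.subset_closure ⟨e, he, e', he'D, htw, rfl⟩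
  set t := d * d' with ht
  have htT : t ∈ TT D := Subgroup.subset_closure ⟨d, hdD, d', hd'D, htw2, rfl⟩
  have haa := hB.sq a ha.1
  have hbb := hB.sq b hb.1
  have hdd := hB.sq d hdD
  have hee := hB.sq e he
  have he'e' := hB.sq e' he'D
  have hd'd' := hB.sq d' hd'D
  have hda : d * a = a * d := ha.2.2
  have hdb : d * b = b * d := hb.2.2
  have hd'a : d' * a = a * d' := by
    have : a ∈ Nbr D d' := htw2 ▸ ha
    exact this.2.2
  have hr1 : r ≠ 1 := by
    intro h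
    apply hab
    have : a = b⁻¹ := eq_inv_of_mul_eq_one_left h
    rw [this, hB.inv_eq hb.1]
  have hdr : d * r * d = r := by
    rw [hr]
    calc d * (a * b) * d = (d * a) * b * d := by group
      _ = (a * d) * b * d := by rw [hda]
      _ = a * (d * b) * d := by group
      _ = a * (b * d) * d := by rw [hdb]
      _ = a * b * (d * d) := by group
      _ = a * b := by rw [hdd, mul_one]
  have hdrc : Commute d r := by
    show d * r = r * d
    calc d * r = (d * r * d) * d := by rw [mul_assoc (d * r), hdd, mul_one]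
      _ = r * d := by rw [hdr]
  have htρ : Commute t ρ := hL.tt_comm htT hρT
  have hdρd : d * ρ * d = t * ρ := by
    rw [ht, hd']; group
  have hdt : d * t * d = t⁻¹ := by
    rw [ht, mul_inv_rev, hB.inv_eq hdD, hB.inv_eq hd'D, ← mul_assoc, hdd, one_mul]
  -- w = t ρ ρ
  have hwT : t * ρ * ρ ∈ TT D := mul_mem (mul_mem htT hρT) hρT
  have hdw : d * (t * ρ * ρ) * d = t * ρ * ρ := by
    calc d * (t * ρ * ρ) * d = (d * t * d) * (d * ρ * d) * (d * ρ * d) := by
          have : (d * t * d) * (d * ρ * d) * (d * ρ * d)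
              = d * t * (d * d) * ρ * (d * d) * ρ * d := by group
          rw [this, hdd, mul_one, mul_one]; group
      _ = t⁻¹ * (t * ρ) * (t * ρ) := by rw [hdt, hdρd]
      _ = ρ * t * ρ := by group
      _ = t * ρ * ρ := by rw [htρ.eq]
  have hdwc : Commute d (t * ρ * ρ) := by
    show d * (t * ρ * ρ) = (t * ρ * ρ) * d
    calc d * (t * ρ * ρ) = (d * (t * ρ * ρ) * d) * d := by
          rw [mul_assoc (d * (t * ρ * ρ)), hdd, mul_one]
      _ = (t * ρ * ρ) * d := by rw [hdw]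
  have hw := hL.cent_TT hO3 hdD hrT hdrc hr1 hwT hdwc
  have hnae : ¬ Commute a e := hsep a ha0 e he he0
  have hnde : ¬ Commute d e := hsep d hd e he he0
  apply alg_contra haa hdd hee (hB.cube ha.1 he hnae) (hB.cube hdD he hnde) (hL.tt_cube hrT)
    (hL.tt_cube hρT) (hL.tt_comm hrT htT) ?_ ?_ hdr hdt ?_ ?_ hw hr1
  · -- a r a = r⁻¹
    rw [hr, mul_inv_rev, hB.inv_eq ha.1, hB.inv_eq hb.1, ← mul_assoc, haa, one_mul]
  · -- a t a = t
    rw [ht]
    calc a * (d * d') * a = (a * d) * d' * a := by group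
      _ = (d * a) * d' * a := by rw [hda]
      _ = d * (a * d') * a := by group
      _ = d * (d' * a) * a := by rw [hd'a]
      _ = d * d' * (a * a) := by group
      _ = d * d' := by rw [haa, mul_one]
  · -- e r e = ρ r
    rw [hρ, he']; group
  · -- e ρ e = ρ⁻¹
    rw [hρ, mul_inv_rev, hB.inv_eq he, hB.inv_eq he'D, ← mul_assoc, hee, one_mul]

end Loc

end Cfsg.Agent.Lib.Lead.TT3
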