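import Mathlib
import Cfsg.Prelude.Def_Solvable
import Cfsg.Agent.Lib.Lead.TT3F

/-!
# The two cases: `S₃ × S₃` and `S₅`
-/

set_option autoImplicit false

namespace Cfsg.Agent.Lib.Lead.TT3

open Equiv

variable {G : Type*} [Group G]

theorem s3_center : ∀ p : Perm (Fin 3), (∀ q : Perm (Fin 3), p * q = q * p) → p = 1 := by decide

/-- elementwise commuting generating sets give elementwise commuting closures -/
theorem closure_comm_closure {S T : Set G} (h : ∀ u ∈ S, ∀ v ∈ T, Commute u v) {p q : G}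
    (hp : p ∈ Subgroup.closure S) (hq : q ∈ Subgroup.closure T) : Commute p q := by
  have h1 : S ⊆ (Subgroup.centralizer T : Set G) := by
    intro a ha
    rw [SetLike.mem_coe, Subgroup.mem_centralizer_iff]
    intro b hb
    exact (h a ha b hb).symm.eq
  have h2 : Subgroup.closure S ≤ Subgroup.centralizer T := (Subgroup.closure_le _).mpr h1
  have h3 : Subgroup.closure S ≤ Subgroup.centralizer (Subgroup.closure T : Set G) := by
    rw [Subgroup.centralizer_closure]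
    exact h2
  exact (Subgroup.mem_centralizer_iff.mp (h3 hp) q hq).symm

/-- two commuting copies of `S₃` generating `H` -/
theorem prod_of_commuting {B₁ B₂ : Subgroup G} (e₁ : ↥B₁ ≃* Perm (Fin 3)) (e₂ : ↥B₂ ≃* Perm (Fin 3))
    (hcomm : ∀ p ∈ B₁, ∀ q ∈ B₂, Commute p q) :
    Nonempty (↥(B₁ ⊔ B₂) ≃* Perm (Fin 3) × Perm (Fin 3)) := by
  let f : Perm (Fin 3) →* G := B₁.subtype.comp e₁.symm.toMonoidHom
  let g : Perm (Fin 3) →* G := B₂.subtype.comp e₂.symm.toMonoidHom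
  have hf : Function.Injective f := B₁.subtype_injective.comp e₁.symm.injective
  have hg : Function.Injective g := B₂.subtype_injective.comp e₂.symm.injective
  have hfr : f.range = B₁ := by
    ext u
    constructor
    · rintro ⟨p, rfl⟩; exact (e₁.symm p).2
    · intro hu
      exact ⟨e₁ ⟨u, hu⟩, by simp [f]⟩
  have hgr : g.range = B₂ := by
    ext u
    constructor
    · rintro ⟨p, rfl⟩; exact (e₂.symm p).2
    · intro hu
      exact ⟨e₂ ⟨u, hu⟩, by simp [g]⟩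
  have comm : ∀ m n : Perm (Fin 3), Commute (f m) (g n) :=
    fun m n => hcomm _ (e₁.symm m).2 _ (e₂.symm n).2
  have hdisj : Disjoint f.range g.range := by
    rw [hfr, hgr, Subgroup.disjoint_def]
    intro u hu1 hu2
    -- e₂ ⟨u, hu2⟩ is central
    have hc : e₂ ⟨u, hu2⟩ = 1 := by
      apply s3_center
      intro q
      obtain ⟨v, rfl⟩ := e₂.surjective q
      rw [← map_mul, ← map_mul]
      congr 1
      exact Subtype.ext (hcomm u hu1 v v.2).eq
    have : (⟨u, hu2⟩ : ↥B₂) = 1 := e₂.injective (by rw [hc, map_one])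
    exact congrArg Subtype.val this
  have hinj : Function.Injective (MonoidHom.noncommCoprod f g comm) :=
    (MonoidHom.noncommCoprod_injective f g comm).mpr ⟨hf, hg, hdisj⟩
  have hrange : (MonoidHom.noncommCoprod f g comm).range = B₁ ⊔ B₂ := by
    rw [MonoidHom.noncommCoprod_range, hfr, hgr]
  exact ⟨((MonoidHom.ofInjective hinj).trans (MulEquiv.subgroupCongr hrange)).symm⟩

namespace Loc

variable {D : Set G} (hL : Loc D)
include hL

/-- Case K -/
theorem caseK [Finite G]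
    (hO3 : ∀ d ∈ D, Nat.card (Cfsg.pCore 3 ↥(Subgroup.centralizer ({d} : Set G))) = 3)
    (hloc : ∀ d ∈ D, Nonempty (↥(Subgroup.closure (Nbr D d)) ≃* Perm (Fin 3)))
    {d x y z : G} (hd : d ∈ D) (hx : x ∈ Nbr D d) (hy : y ∈ Nbr D d) (hxy : x ≠ y) (hz : z ∈ D)
    (hzd : z ≠ d) (hzx : Commute z x) (hzy : Commute z y) :
    Nonempty (↥(Subgroup.closure D) ≃* Perm (Fin 3) × Perm (Fin 3)) := by
  have hB := hL.toBase
  have hncxy : ¬ Commute x y := hL.ncomm d hd x hx y hy hxy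
  have hzx' : z ≠ x := fun e => hncxy (e ▸ hzy)
  have hzy' : z ≠ y := fun e => hncxy (e ▸ hzx).symm
  obtain ⟨hc, hcx, hcy⟩ := hL.third_mem hd hx hy hxy
  have hzc : Commute z (x * y * x) := (hzx.mul_right hzy).mul_right hzx
  have hzc' : z ≠ x * y * x := by
    intro e
    apply hL.ncomm d hd _ hc x hx hcx
    rw [← e]; exact hzx
  -- neighbourhoods
  have hdx : d ∈ Nbr D x := hB.nbr_symm hd hx
  have hdy : d ∈ Nbr D y := hB.nbr_symm hd hy
  have hdc : d ∈ Nbr D (x * y * x) := hB.nbr_symm hd hc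
  have hzNx : z ∈ Nbr D x := ⟨hz, hzx', hzx.symm⟩
  have hzNy : z ∈ Nbr D y := ⟨hz, hzy', hzy.symm⟩
  have hzNc : z ∈ Nbr D (x * y * x) := ⟨hz, hzc', hzc.symm⟩
  have hNx := hL.nbr_eq hx.1 hdx hzNx (Ne.symm hzd)
  have hNy := hL.nbr_eq hy.1 hdy hzNy (Ne.symm hzd)
  have hNc := hL.nbr_eq hc.1 hdc hzNc (Ne.symm hzd)
  have hNd := hL.nbr_eq hd hx hy hxy
  have hxz : x ∈ Nbr D z := hB.nbr_symm hx.1 hzNx
  have hyz : y ∈ Nbr D z := hB.nbr_symm hy.1 hzNy
  have hNz := hL.nbr_eq hz hxz hyz hxy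
  obtain ⟨hz'x, -, -⟩ := hL.third_mem hx.1 hdx hzNx (Ne.symm hzd)
  obtain ⟨hz'y, -, -⟩ := hL.third_mem hy.1 hdy hzNy (Ne.symm hzd)
  have hxz' : x ∈ Nbr D (d * z * d) := hB.nbr_symm hx.1 hz'x
  have hyz' : y ∈ Nbr D (d * z * d) := hB.nbr_symm hy.1 hz'y
  have hNz' := hL.nbr_eq hz'x.1 hxz' hyz' hxy
  -- the closed set
  have hsub : Nbr D d ∪ Nbr D x ⊆ D := by
    rintro u (hu | hu)
    · exact hu.1
    · exact hu.1
  have hcl : ∀ u ∈ Nbr D d ∪ Nbr D x, Nbr D u ⊆ Nbr D d ∪ Nbr D x := by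
    rintro u (hu | hu)
    · rw [hNd] at hu
      simp only [Set.mem_insert_iff, Set.mem_singleton_iff] at hu
      rcases hu with rfl | rfl | rfl
      · exact Set.subset_union_right
      · rw [hNy, ← hNx]; exact Set.subset_union_right
      · rw [hNc, ← hNx]; exact Set.subset_union_right
    · rw [hNx] at hu
      simp only [Set.mem_insert_iff, Set.mem_singleton_iff] at hu
      rcases hu with rfl | rfl | rfl
      · exact Set.subset_union_left
      · rw [hNz, ← hNd]; exact Set.subset_union_left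
      · rw [hNz', ← hNd]; exact Set.subset_union_left
  have hDeq : D = Nbr D d ∪ Nbr D x := by
    apply Set.Subset.antisymm _ hsub
    intro e he
    by_contra he0
    exact hL.no_outside hO3 hsub hcl (Or.inl hx) he he0
  -- commuting
  have hcomm0 : ∀ u ∈ Nbr D d, ∀ v ∈ Nbr D x, Commute u v := by
    intro u hu v hv
    have : Nbr D u = Nbr D x := by
      rw [hNd] at hu
      simp only [Set.mem_insert_iff, Set.mem_singleton_iff] at hu
      rcases hu with rfl | rfl | rfl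
      · rfl
      · rw [hNy, hNx]
      · rw [hNc, hNx]
    rw [← this] at hv
    exact hv.2.2
  obtain ⟨e₁⟩ := hloc d hd
  obtain ⟨e₂⟩ := hloc x hx.1
  obtain ⟨φ⟩ := prod_of_commuting e₁ e₂ (fun p hp q hq => closure_comm_closure hcomm0 hp hq)
  have hcl_eq : Subgroup.closure D = Subgroup.closure (Nbr D d) ⊔ Subgroup.closure (Nbr D x) := by
    rw [← Subgroup.closure_union, ← hDeq]
  exact ⟨(MulEquiv.subgroupCongr hcl_eq).trans φ⟩

/-- Case P -/
theorem caseP [Finite G]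
    (hO3 : ∀ d ∈ D, Nat.card (Cfsg.pCore 3 ↥(Subgroup.centralizer ({d} : Set G))) = 3)
    (hcox : ∀ {a b c d : G}, a * a = 1 → b * b = 1 → c * c = 1 → d * d = 1 → (a * b) ^ 3 = 1 →
      (b * c) ^ 3 = 1 → (c * d) ^ 3 = 1 → a * c = c * a → a * d = d * a → b * d = d * b →
      a * b ≠ b * a → Nonempty (↥(Subgroup.closure ({a, b, c, d} : Set G)) ≃* Perm (Fin 5)))
    (hP : ∀ d ∈ D, ∀ x ∈ Nbr D d, ∀ y ∈ Nbr D d, x ≠ y → ∀ z ∈ D, Commute z x → Commute z y → z = d)
    (hne : D.Nonempty) : Nonempty (↥(Subgroup.closure D) ≃* Perm (Fin 5)) := by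
  have hB := hL.toBase
  obtain ⟨d, hd⟩ := hne
  obtain ⟨a, ha, b, hb, hab⟩ := hL.two d hd
  have hda : d ∈ Nbr D a := hB.nbr_symm hd ha
  obtain ⟨a₁, ha₁, ha₁d⟩ := hL.exists_ne ha.1 d
  have hn1 : ¬ Commute d a₁ := hL.ncomm a ha.1 d hda a₁ ha₁ (Ne.symm ha₁d)
  have hn2 : ¬ Commute a₁ b := by
    intro h
    exact ha₁d (hP d hd a ha b hb hab a₁ ha₁.1 ha₁.2.2.symm h)
  have hn3 : ¬ Commute b a := hL.ncomm d hd b hb a ha (Ne.symm hab)
  have hdd := hB.sq d hd
  have h11 := hB.sq a₁ ha₁.1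
  have hbb := hB.sq b hb.1
  have haa := hB.sq a ha.1
  obtain ⟨φ⟩ := hcox hdd h11 hbb haa (hB.cube hd ha₁.1 hn1) (hB.cube ha₁.1 hb.1 hn2)
    (hB.cube hb.1 ha.1 hn3) hb.2.2.eq ha.2.2.eq ha₁.2.2.eq.symm (fun h => hn1 h)
  set L₀ := Subgroup.closure ({d, a₁, b, a} : Set G) with hL₀
  have hdL : d ∈ L₀ := Subgroup.subset_closure (by simp)
  have h1L : a₁ ∈ L₀ := Subgroup.subset_closure (by simp)
  have hbL : b ∈ L₀ := Subgroup.subset_closure (by simp)
  have haL : a ∈ L₀ := Subgroup.subset_closure (by simp)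
  set D₀ : Set G := {u | ∃ g ∈ L₀, u = g * d * g⁻¹} with hD₀
  have hsub : D₀ ⊆ D := by
    rintro u ⟨g, -, rfl⟩
    exact hB.conj g d hd
  have hd0 : d ∈ D₀ := ⟨1, one_mem _, by simp⟩
  have hconj0 : ∀ u ∈ D₀, ∀ g ∈ L₀, g * u * g⁻¹ ∈ D₀ := by
    rintro u ⟨k, hk, rfl⟩ g hg
    exact ⟨g * k, mul_mem hg hk, by group⟩
  have h10 : a₁ ∈ D₀ := by
    have := conj_of_braid hdd h11 (hB.braid' hd ha₁.1 hn1)
    rw [← this]
    exact hconj0 d hd0 _ (mul_mem hdL h1L)
  have hb0 : b ∈ D₀ := by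
    have := conj_of_braid h11 hbb (hB.braid' ha₁.1 hb.1 hn2)
    rw [← this]
    exact hconj0 a₁ h10 _ (mul_mem h1L hbL)
  have ha0 : a ∈ D₀ := by
    have := conj_of_braid hbb haa (hB.braid' hb.1 ha.1 hn3)
    rw [← this]
    exact hconj0 b hb0 _ (mul_mem hbL haL)
  have hc0 : a * b * a ∈ D₀ := by
    have := hconj0 b hb0 a haL
    rwa [hB.inv_eq ha.1] at this
  have hNd := hL.nbr_eq hd ha hb hab
  have hcl : ∀ u ∈ D₀, Nbr D u ⊆ D₀ := by
    rintro u ⟨g, hg, rfl⟩ v hv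
    rw [hB.mem_nbr_conj, hNd] at hv
    simp only [Set.mem_insert_iff, Set.mem_singleton_iff] at hv
    have hv' : g⁻¹ * v * g ∈ D₀ := by
      rcases hv with h | h | h <;> rw [h]
      · exact ha0
      · exact hb0
      · exact hc0
    have := hconj0 _ hv' g hg
    have e : g * (g⁻¹ * v * g) * g⁻¹ = v := by group
    rwa [e] at this
  have hDsub : D ⊆ D₀ := by
    intro e he
    by_contra he0
    exact hL.no_outside hO3 hsub hcl hd0 he he0
  have hcl_eq : Subgroup.closure D = L₀ := by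
    apply le_antisymm
    · rw [Subgroup.closure_le]
      intro u hu
      obtain ⟨g, hg, rfl⟩ := hDsub hu
      exact mul_mem (mul_mem hg hdL) (inv_mem hg)
    · rw [hL₀, Subgroup.closure_le]
      intro u hu
      simp only [Set.mem_insert_iff, Set.mem_singleton_iff] at hu
      rcases hu with rfl | rfl | rfl | rfl
      · exact Subgroup.subset_closure hd
      · exact Subgroup.subset_closure ha₁.1
      · exact Subgroup.subset_closure hb.1
      · exact Subgroup.subset_closure ha.1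
  exact ⟨(MulEquiv.subgroupCongr hcl_eq).trans φ⟩

/-- The dichotomy. -/
theorem main [Finite G]
    (hO3 : ∀ d ∈ D, Nat.card (Cfsg.pCore 3 ↥(Subgroup.centralizer ({d} : Set G))) = 3)
    (hloc : ∀ d ∈ D, Nonempty (↥(Subgroup.closure (Nbr D d)) ≃* Perm (Fin 3)))
    (hcox : ∀ {a b c d : G}, a * a = 1 → b * b = 1 → c * c = 1 → d * d = 1 → (a * b) ^ 3 = 1 →
      (b * c) ^ 3 = 1 → (c * d) ^ 3 = 1 → a * c = c * a → a * d = d * a → b * d = d * b →
      a * b ≠ b * a → Nonempty (↥(Subgroup.closure ({a, b, c, d} : Set G)) ≃* Perm (Fin 5)))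
    (hne : D.Nonempty) :
    Nonempty (↥(Subgroup.closure D) ≃* Perm (Fin 5)) ∨
      Nonempty (↥(Subgroup.closure D) ≃* Perm (Fin 3) × Perm (Fin 3)) := by
  by_cases hK : ∃ d ∈ D, ∃ x ∈ Nbr D d, ∃ y ∈ Nbr D d, x ≠ y ∧ ∃ z ∈ D, z ≠ d ∧ Commute z x ∧
      Commute z y
  · obtain ⟨d, hd, x, hx, y, hy, hxy, z, hz, hzd, hzx, hzy⟩ := hK
    exact Or.inr (hL.caseK hO3 hloc hd hx hy hxy hz hzd hzx hzy)
  · left
    apply hL.caseP hO3 hcox _ hne
    intro d hd x hx y hy hxy z hz hzx hzy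
    by_contra hzd
    exact hK ⟨d, hd, x, hx, y, hy, hxy, z, hz, hzd, hzx, hzy⟩

end Loc

end Cfsg.Agent.Lib.Lead.TT3
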