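import Mathlib
import Cfsg.Agent.Lib.Lead.AlperinTame
import Cfsg.Agent.Lib.Lead.NormalPComplement

/-!
# Control of fusion from tame intersections
-/

set_option autoImplicit false
set_option linter.style.haveILetI false
set_option linter.unusedSectionVars false
set_option linter.unusedVariables false

namespace Cfsg.Agent.Lib.Lead.TameControl

open Cfsg Cfsg.Agent.Lib.Helper7 Cfsg.Agent.Lib.Lead.Conj Cfsg.Agent.Lib.Lead.ConjFamily Cfsg.Agent.S1963
  Cfsg.Agent.S1959 Cfsg.Agent.Lib.Lead.DecP Cfsg.Agent.Lib.Lead.LocalControl Cfsg.Agent.Lib.Lead.AlperinTame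
  Cfsg.Agent.Lib.Lead.Frobenius

universe u
variable {G : Type u} [Group G] [Finite G] {p : ℕ} [hp : Fact p.Prime] (P : Sylow p G)

/-- local control at the nontrivial tame intersections gives control of fusion by `X` -/
theorem control_of_tame (X : Subgroup G)
    (h : ∀ T x, Tame P T x → T ≠ ⊥ → x ∈ Subgroup.normalizer (T : Set G) →
      ∃ y ∈ X, ∀ u ∈ T, x⁻¹ * u * x = y⁻¹ * u * y)
    (A : Set G) (g : G) (hA : A ⊆ ((P : Subgroup G) : Set G))
    (hrc : rc g A ⊆ ((P : Subgroup G) : Set G)) :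
    ∃ y ∈ X, ∀ a ∈ A, g⁻¹ * a * g = y⁻¹ * a * y := by
  obtain ⟨l, hl, hd⟩ := alperin_tame P A g hA hrc
  have := control_of_decP (𝓟 := Tame P) X (fun T x hT hx => by
    by_cases hne : T = ⊥
    · refine ⟨1, X.one_mem, fun u hu => ?_⟩
      rw [hne] at hu
      have : u = 1 := Subgroup.mem_bot.1 hu
      rw [this]; group
    · exact h T x hT hne hx) l A hd
  rwa [hl] at this

/-- local control at the nontrivial tame intersections gives control of fusion -/
theorem controls_of_tame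
    (h : ∀ T x, Tame P T x → T ≠ ⊥ → x ∈ Subgroup.normalizer (T : Set G) →
      ∃ y ∈ (P : Subgroup G), ∀ u ∈ T, x⁻¹ * u * x = y⁻¹ * u * y) :
    Controls (P : Subgroup G) := by
  intro x hx g hgx
  have hA : ({x} : Set G) ⊆ ((P : Subgroup G) : Set G) := by
    rintro _ rfl; exact hx
  have hrc : rc g⁻¹ ({x} : Set G) ⊆ ((P : Subgroup G) : Set G) := by
    rintro _ ⟨a, rfl, rfl⟩
    show g⁻¹⁻¹ * a * g⁻¹ ∈ (P : Subgroup G)
    rw [inv_inv]; exact hgx
  obtain ⟨y, hy, h'⟩ := control_of_tame P (P : Subgroup G) h {x} g⁻¹ hA hrc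
  refine ⟨y⁻¹, Subgroup.inv_mem _ hy, ?_⟩
  have := h' x rfl
  rw [inv_inv] at this ⊢
  exact this.symm

end Cfsg.Agent.Lib.Lead.TameControl
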