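import Mathlib

/-!
# Automorphisms of an elementary abelian 2-group are products of transvections

`aut_gen` : if every element of the finite group `W` is an involution and the subgroup `A` of
`MulAut W` contains a transvection for every centre `d ≠ 1` and every hyperplane `H ∋ d`, then
`A = ⊤`.
-/

set_option autoImplicit false

namespace Cfsg.Agent.Lead.TransvectionGen

variable {W : Type*} [Group W]

theorem comm_of_inv (hinv : ∀ a : W, a * a = 1) (a b : W) : a * b = b * a := by
  have h1 : (a * b) * (a * b) = 1 := hinv _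
  have ha : a⁻¹ = a := inv_eq_of_mul_eq_one_right (hinv a)
  have hb : b⁻¹ = b := inv_eq_of_mul_eq_one_right (hinv b)
  have h2 : (a * b)⁻¹ = a * b := inv_eq_of_mul_eq_one_right h1
  calc a * b = (a * b)⁻¹ := h2.symm
    _ = b⁻¹ * a⁻¹ := mul_inv_rev a b
    _ = b * a := by rw [ha, hb]

/-- `F ∪ xF` -/
def adjoin (hinv : ∀ a : W, a * a = 1) (F : Subgroup W) (x : W) : Subgroup W where
  carrier := {a | a ∈ F ∨ x * a ∈ F}
  one_mem' := Or.inl F.one_mem
  mul_mem' := by
    rintro a b (ha | ha) (hb | hb)
    · exact Or.inl (F.mul_mem ha hb)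
    · right
      have : x * (a * b) = a * (x * b) := by
        rw [← mul_assoc, comm_of_inv hinv x a, mul_assoc]
      rw [this]; exact F.mul_mem ha hb
    · right
      have : x * (a * b) = (x * a) * b := by rw [mul_assoc]
      rw [this]; exact F.mul_mem ha hb
    · left
      have : a * b = (x * a) * (x * b) := by
        symm
        calc (x * a) * (x * b) = x * (a * x) * b := by group
          _ = x * (x * a) * b := by rw [comm_of_inv hinv a x]
          _ = (x * x) * (a * b) := by group
          _ = a * b := by rw [hinv x, one_mul]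
      rw [this]; exact F.mul_mem ha hb
  inv_mem' := by
    intro a ha
    rw [inv_eq_of_mul_eq_one_right (hinv a)]; exact ha

theorem mem_adjoin (hinv : ∀ a : W, a * a = 1) (F : Subgroup W) (x a : W) :
    a ∈ adjoin hinv F x ↔ a ∈ F ∨ x * a ∈ F := Iff.rfl

theorem le_adjoin (hinv : ∀ a : W, a * a = 1) (F : Subgroup W) (x : W) : F ≤ adjoin hinv F x :=
  fun _ ha => Or.inl ha

theorem self_mem_adjoin (hinv : ∀ a : W, a * a = 1) (F : Subgroup W) (x : W) :
    x ∈ adjoin hinv F x := Or.inr (by rw [hinv x]; exact F.one_mem)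

theorem card_lt_adjoin [Finite W] (hinv : ∀ a : W, a * a = 1) (F : Subgroup W) {x : W}
    (hx : x ∉ F) : Nat.card F < Nat.card (adjoin hinv F x) := by
  have hlt : (F : Set W) ⊂ (adjoin hinv F x : Set W) := by
    rw [Set.ssubset_iff_of_subset (le_adjoin hinv F x)]
    exact ⟨x, self_mem_adjoin hinv F x, hx⟩
  have := Set.ncard_lt_ncard hlt (Set.toFinite _)
  exact this

/-- `H` is a hyperplane -/
def IsHyp (H : Subgroup W) : Prop := (∃ x, x ∉ H) ∧ ∀ x y, x ∉ H → y ∉ H → x * y ∈ H

theorem exists_hyp [Finite W] (hinv : ∀ a : W, a * a = 1) :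
    ∀ n : ℕ, ∀ F : Subgroup W, Nat.card W ≤ Nat.card F + n → ∀ w : W, w ∉ F →
      ∃ H : Subgroup W, F ≤ H ∧ w ∉ H ∧ ∀ x y, x ∉ H → y ∉ H → x * y ∈ H := by
  intro n
  induction n with
  | zero =>
    intro F hF w hw
    have : F = ⊤ := Subgroup.eq_top_of_le_card F (by simpa using hF)
    rw [this] at hw
    exact absurd (Subgroup.mem_top w) hw
  | succ n ih =>
    intro F hF w hw
    by_cases hh : ∀ x y, x ∉ F → y ∉ F → x * y ∈ F
    · exact ⟨F, le_rfl, hw, hh⟩
    · push_neg at hh
      obtain ⟨x, y, hx, hy, hxy⟩ := hh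
      have hcomm := comm_of_inv hinv
      by_cases h1 : w ∈ adjoin hinv F x
      · by_cases h2 : w ∈ adjoin hinv F y
        · exfalso
          have h1' : x * w ∈ F := h1.resolve_left hw
          have h2' : y * w ∈ F := h2.resolve_left hw
          apply hxy
          have : x * y = (x * w) * (y * w) := by
            symm
            calc (x * w) * (y * w) = x * (w * y) * w := by group
              _ = x * (y * w) * w := by rw [hcomm w y]
              _ = (x * y) * (w * w) := by group
              _ = x * y := by rw [hinv w, mul_one]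
          rw [this]; exact F.mul_mem h1' h2'
        · have hc := card_lt_adjoin hinv F hy
          obtain ⟨H, hFH, hwH, hH⟩ := ih (adjoin hinv F y) (by omega) w h2
          exact ⟨H, (le_adjoin hinv F y).trans hFH, hwH, hH⟩
      · have hc := card_lt_adjoin hinv F hx
        obtain ⟨H, hFH, hwH, hH⟩ := ih (adjoin hinv F x) (by omega) w h1
        exact ⟨H, (le_adjoin hinv F x).trans hFH, hwH, hH⟩

theorem exists_hyp' [Finite W] (hinv : ∀ a : W, a * a = 1) (F : Subgroup W) (w : W) (hw : w ∉ F) :
    ∃ H : Subgroup W, F ≤ H ∧ w ∉ H ∧ IsHyp H := by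
  obtain ⟨H, h1, h2, h3⟩ := exists_hyp hinv (Nat.card W) F (by omega) w hw
  exact ⟨H, h1, h2, ⟨w, h2⟩, h3⟩

theorem aut_gen_aux [Finite W] (hinv : ∀ a : W, a * a = 1) (A : Subgroup (MulAut W))
    (hT : ∀ d : W, d ≠ 1 → ∀ H : Subgroup W, d ∈ H → IsHyp H →
      ∃ τ ∈ A, (∀ x ∈ H, τ x = x) ∧ (∀ x, x ∉ H → τ x = x * d)) :
    ∀ n : ℕ, ∀ F : Subgroup W, Nat.card W ≤ Nat.card F + n →
      ∀ φ : MulAut W, (∀ x ∈ F, φ x = x) → φ ∈ A := by
  have hcomm := comm_of_inv hinv
  have hinv' : ∀ a : W, a⁻¹ = a := fun a => inv_eq_of_mul_eq_one_right (hinv a)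
  intro n
  induction n with
  | zero =>
    intro F hF φ hφ
    have : F = ⊤ := Subgroup.eq_top_of_le_card F (by simpa using hF)
    have h1 : φ = 1 := by
      ext x
      exact hφ x (this ▸ Subgroup.mem_top x)
    rw [h1]; exact A.one_mem
  | succ n ih =>
    intro F hF φ hφ
    by_cases hid : ∀ x, φ x = x
    · have h1 : φ = 1 := by ext x; exact hid x
      rw [h1]; exact A.one_mem
    · push_neg at hid
      obtain ⟨v, hv⟩ := hid
      obtain ⟨w, hw⟩ : ∃ w, w = φ v := ⟨_, rfl⟩
      have hwv : w ≠ v := by rw [hw]; exact hv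
      have hvF : v ∉ F := fun h => hv (hφ v h)
      have hwF : w ∉ F := by
        intro h
        have : φ w = φ v := by rw [hφ w h, hw]
        exact hwv (φ.injective this)
      obtain ⟨d, hd⟩ : ∃ d, d = v * w := ⟨_, rfl⟩
      have hd1 : d ≠ 1 := by
        intro h
        rw [hd] at h
        have : w = v⁻¹ := eq_inv_of_mul_eq_one_right h
        rw [hinv' v] at this
        exact hwv this
      have hwd : w * d = v := by
        rw [hd, hcomm v w, ← mul_assoc, hinv w, one_mul]
      -- it suffices to find `τ ∈ A` fixing `F` with `τ w = v`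
      suffices h : ∃ τ ∈ A, (∀ x ∈ F, τ x = x) ∧ τ w = v by
        obtain ⟨τ, hτA, hτF, hτw⟩ := h
        have hc := card_lt_adjoin hinv F hvF
        have hψ : τ * φ ∈ A := by
          apply ih (adjoin hinv F v) (by omega)
          intro x hx
          have hψv : (τ * φ) v = v := by
            rw [MulAut.mul_apply, ← hw, hτw]
          rcases hx with hx | hx
          · rw [MulAut.mul_apply, hφ x hx, hτF x hx]
          · have h1 : (τ * φ) (v * x) = v * x := by
              rw [MulAut.mul_apply, hφ _ hx, hτF _ hx]
            rw [map_mul, hψv] at h1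
            exact mul_left_cancel h1
        have : φ = τ⁻¹ * (τ * φ) := by group
        rw [this]
        exact A.mul_mem (A.inv_mem hτA) hψ
      by_cases hdF : d ∈ F
      · by_cases hx : ∃ x, x ∉ adjoin hinv F v
        · -- two transvections
          obtain ⟨x, hx⟩ := hx
          have hxF : x ∉ F := fun h => hx (Or.inl h)
          have hvx : v * x ∉ F := fun h => hx (Or.inr h)
          have hx1 : x ≠ 1 := fun h => hxF (h ▸ F.one_mem)
          -- w ∉ F ∪ xF
          have hw1 : w ∉ adjoin hinv F x := by
            rintro (h | h)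
            · exact hwF h
            · -- x * w ∈ F, w = v d
              apply hvx
              have : v * x = (x * w) * d := by
                rw [mul_assoc, hwd, hcomm]
              rw [this]; exact F.mul_mem h hdF
          obtain ⟨H₁, hFH₁, hwH₁, hH₁⟩ := exists_hyp' hinv _ w hw1
          obtain ⟨τ₁, hτ₁A, hτ₁H, hτ₁n⟩ := hT x hx1 H₁ (hFH₁ (self_mem_adjoin hinv F x)) hH₁
          obtain ⟨c, hc⟩ : ∃ c, c = d * x := ⟨_, rfl⟩
          have hc1 : c ≠ 1 := by
            intro h
            rw [hc] at h
            have : x = d⁻¹ := eq_inv_of_mul_eq_one_right h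
            rw [hinv' d] at this
            exact hxF (this ▸ hdF)
          have hw2 : w * x ∉ adjoin hinv F c := by
            rintro (h | h)
            · -- w x ∈ F ⇒ v x = d (w x) ∈ F
              apply hvx
              have : v * x = d * (w * x) := by
                rw [← mul_assoc, hcomm d w, hwd]
              rw [this]; exact F.mul_mem hdF h
            · -- c w x = d x w x = d w = v
              apply hvF
              have : c * (w * x) = v := by
                rw [hc]
                calc d * x * (w * x) = d * (x * w) * x := by group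
                  _ = d * (w * x) * x := by rw [hcomm x w]
                  _ = (d * w) * (x * x) := by group
                  _ = v := by rw [hinv x, mul_one, hcomm d w, hwd]
              rw [← this]; exact h
          obtain ⟨H₂, hFH₂, hwH₂, hH₂⟩ := exists_hyp' hinv _ (w * x) hw2
          obtain ⟨τ₂, hτ₂A, hτ₂H, hτ₂n⟩ := hT c hc1 H₂ (hFH₂ (self_mem_adjoin hinv F c)) hH₂
          refine ⟨τ₂ * τ₁, A.mul_mem hτ₂A hτ₁A, ?_, ?_⟩
          · intro a ha
            rw [MulAut.mul_apply, hτ₁H a (hFH₁ (le_adjoin hinv F x ha)),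
              hτ₂H a (hFH₂ (le_adjoin hinv F c ha))]
          · rw [MulAut.mul_apply, hτ₁n w hwH₁, hτ₂n (w * x) hwH₂, hc]
            calc w * x * (d * x) = w * (x * d) * x := by group
              _ = w * (d * x) * x := by rw [hcomm x d]
              _ = (w * d) * (x * x) := by group
              _ = v := by rw [hinv x, mul_one, hwd]
        · -- `F` is a hyperplane
          push_neg at hx
          have hF : IsHyp F := by
            refine ⟨⟨v, hvF⟩, ?_⟩
            intro a b ha hb
            have ha' : v * a ∈ F := (hx a).resolve_left ha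
            have hb' : v * b ∈ F := (hx b).resolve_left hb
            have : a * b = (v * a) * (v * b) := by
              symm
              calc (v * a) * (v * b) = v * (a * v) * b := by group
                _ = v * (v * a) * b := by rw [hcomm a v]
                _ = (v * v) * (a * b) := by group
                _ = a * b := by rw [hinv v, one_mul]
            rw [this]; exact F.mul_mem ha' hb'
          obtain ⟨τ, hτA, hτH, hτn⟩ := hT d hd1 F hdF hF
          exact ⟨τ, hτA, hτH, by rw [hτn w hwF, hwd]⟩
      · -- one transvection with centre `d`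
        have hw1 : w ∉ adjoin hinv F d := by
          rintro (h | h)
          · exact hwF h
          · apply hvF
            have : d * w = v := by rw [hcomm d w, hwd]
            rw [← this]; exact h
        obtain ⟨H, hFH, hwH, hH⟩ := exists_hyp' hinv _ w hw1
        obtain ⟨τ, hτA, hτH, hτn⟩ := hT d hd1 H (hFH (self_mem_adjoin hinv F d)) hH
        exact ⟨τ, hτA, fun a ha => hτH a (hFH (le_adjoin hinv F d ha)), by rw [hτn w hwH, hwd]⟩

theorem aut_gen [Finite W] (hinv : ∀ a : W, a * a = 1) (A : Subgroup (MulAut W))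
    (hT : ∀ d : W, d ≠ 1 → ∀ H : Subgroup W, d ∈ H → IsHyp H →
      ∃ τ ∈ A, (∀ x ∈ H, τ x = x) ∧ (∀ x, x ∉ H → τ x = x * d)) : A = ⊤ := by
  rw [eq_top_iff]
  intro φ _
  apply aut_gen_aux hinv A hT (Nat.card W) ⊥ (by omega) φ
  intro x hx
  rw [Subgroup.mem_bot] at hx
  rw [hx, map_one]

end Cfsg.Agent.Lead.TransvectionGen
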