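import Cfsg.Agent.Lib.Lead.TwD4ShapeA
import Mathlib

/-!
# The algebra step of `Out(³D₄(q))` (lead, for helper5's S2129)

`d4_shape` : let `K = F_{q³}`, `q = p^f`, and let `G` be a group with an injective homomorphism
`i : G → GL` whose image contains the root elements `x_A(t), y_A(t)` (`t ∈ K`) and
`x_B(u), y_B(u)` (`u ∈ F_q`) of `³D₄(q)`.  An automorphism `θ` of `G` permuting each of these four
families agrees on them with `g ↦ h φ_ψ(g) h⁻¹` for a field automorphism `ψ` of `K` and a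
(diagonal) element `h` of `G`.
-/

set_option autoImplicit false

namespace Cfsg.Agent.TwRankOne.D4
open Cfsg Cfsg.Lie Cfsg.Agent.Lib.Helper5.Chev Cfsg.Agent.ChevAut
open scoped Matrix

variable {K : Type*} [Field K]

/-- the facts on `q` used below -/
structure QOK (K : Type*) [Field K] (q : ℕ) : Prop where
  q0 : q ≠ 0
  neg : (-1 : K) ^ q = -1
  add : ∀ s t : K, (s + t) ^ q = s ^ q + t ^ q
  nrm : ∀ a : K, (a ^ (1 + q + q ^ 2)) ^ q = a ^ (1 + q + q ^ 2)

/-- the fixed field of `t ↦ t^q` -/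
def fixQ {q : ℕ} (Q : QOK K q) : Subfield K where
  carrier := {u | u ^ q = u}
  mul_mem' := fun {a b} (ha : a ^ q = a) (hb : b ^ q = b) =>
    show (a * b) ^ q = a * b by rw [mul_pow, ha, hb]
  one_mem' := one_pow q
  add_mem' := fun {a b} (ha : a ^ q = a) (hb : b ^ q = b) =>
    show (a + b) ^ q = a + b by rw [Q.add, ha, hb]
  zero_mem' := zero_pow Q.q0
  neg_mem' := fun {a} (ha : a ^ q = a) =>
    show (-a) ^ q = -a by rw [neg_eq_neg_one_mul, mul_pow, Q.neg, ha]
  inv_mem' := fun a (ha : a ^ q = a) =>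
    show (a⁻¹) ^ q = a⁻¹ by rw [inv_pow, ha]

theorem mem_fixQ {q : ℕ} (Q : QOK K q) (u : K) : u ∈ fixQ Q ↔ u ^ q = u := Iff.rfl

/-- the norm `a ↦ a^(1+q+q²)`, with values in the fixed field -/
def nrm {q : ℕ} (Q : QOK K q) (a : K) : fixQ Q := ⟨a ^ (1 + q + q ^ 2), Q.nrm a⟩

/-- the data of `d4_shape` -/
structure D4Data (K : Type*) [Field K] (q : ℕ) (G : Type*) [Group G] where
  i : G →* GL chevD4.Idx K
  hi : Function.Injective i
  gxA : K → G
  gyA : K → G
  gxB : K → G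
  gyB : K → G
  hxA : ∀ t, (i (gxA t)).val = xA q t
  hyA : ∀ t, (i (gyA t)).val = yA q t
  hxB : ∀ u, u ^ q = u → (i (gxB u)).val = xB u
  hyB : ∀ u, u ^ q = u → (i (gyB u)).val = yB u

namespace D4Data

variable {q : ℕ} {G : Type*} [Group G] (S : D4Data K q G) (Q : QOK K q)

theorem ext {g g' : G} (h : (S.i g).val = (S.i g').val) : g = g' := S.hi (Units.ext h)

/-- the root elements of the orbit `B`, parametrized by the fixed field -/
def XB (u : fixQ Q) : G := S.gxB u.1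
def YB (u : fixQ Q) : G := S.gyB u.1

theorem XB_val (u : fixQ Q) : (S.i (S.XB Q u)).val = xB (u : K) := S.hxB u.1 u.2
theorem YB_val (u : fixQ Q) : (S.i (S.YB Q u)).val = yB (u : K) := S.hyB u.1 u.2

def gnA (a : K) : G := S.gxA a * S.gyA (-a⁻¹) * S.gxA a
def ghA (a : K) : G := S.gnA a * (S.gnA 1)⁻¹
def gnB (b : fixQ Q) : G := S.XB Q b * S.YB Q (-b⁻¹) * S.XB Q b
def ghB (b : fixQ Q) : G := S.gnB Q b * (S.gnB Q 1)⁻¹

theorem gnA_val (a : K) : (S.i (S.gnA a)).val = nA q a := by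
  unfold gnA nA
  rw [map_mul, map_mul, Units.val_mul, Units.val_mul, S.hxA, S.hyA]

theorem gnB_val (b : fixQ Q) : (S.i (S.gnB Q b)).val = nB (b : K) := by
  unfold gnB nB
  rw [map_mul, map_mul, Units.val_mul, Units.val_mul, S.XB_val, S.YB_val]
  simp

include Q

theorem ghA_val (a : K) (ha : a ≠ 0) : (S.i (S.ghA a)).val = hA q a := by
  have hu : IsUnit (nA q (1 : K)) := by
    rw [← S.gnA_val]
    exact (S.i (S.gnA 1)).isUnit
  apply hu.mul_left_inj.1
  rw [← nA_eq q Q.neg a ha, ← S.gnA_val, ← S.gnA_val, ← Units.val_mul, ← map_mul]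
  unfold ghA
  rw [inv_mul_cancel_right]

theorem ghB_val (b : fixQ Q) (hb : b ≠ 0) : (S.i (S.ghB Q b)).val = hB (b : K) := by
  have hb' : (b : K) ≠ 0 := fun h => hb (Subtype.ext h)
  have hu : IsUnit (nB (1 : K)) := by
    have := S.gnB_val Q 1
    rw [Subfield.coe_one] at this
    rw [← this]
    exact (S.i (S.gnB Q 1)).isUnit
  apply hu.mul_left_inj.1
  rw [← nB_eq' (b : K) hb']
  have h1 := S.gnB_val Q 1
  rw [Subfield.coe_one] at h1
  rw [← S.gnB_val, ← h1, ← Units.val_mul, ← map_mul]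
  unfold ghB
  rw [inv_mul_cancel_right]

/-! ### the families are additive and injective -/

theorem gxA_add (s t : K) : S.gxA (s + t) = S.gxA s * S.gxA t := by
  apply S.ext
  rw [map_mul, Units.val_mul, S.hxA, S.hxA, S.hxA, xA_add q Q.add]

theorem gyA_add (s t : K) : S.gyA (s + t) = S.gyA s * S.gyA t := by
  apply S.ext
  rw [map_mul, Units.val_mul, S.hyA, S.hyA, S.hyA, yA_add q Q.add]

theorem XB_add (s t : fixQ Q) : S.XB Q (s + t) = S.XB Q s * S.XB Q t := by
  apply S.ext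
  rw [map_mul, Units.val_mul, S.XB_val, S.XB_val, S.XB_val, Subfield.coe_add, xB_add]

theorem YB_add (s t : fixQ Q) : S.YB Q (s + t) = S.YB Q s * S.YB Q t := by
  apply S.ext
  rw [map_mul, Units.val_mul, S.YB_val, S.YB_val, S.YB_val, Subfield.coe_add, yB_add]

omit Q in
theorem gxA_inj : Function.Injective S.gxA := by
  intro s t h
  have := congrArg (fun g => (S.i g).val) h
  simp only [S.hxA] at this
  exact xA_inj q this

omit Q in
theorem gyA_inj : Function.Injective S.gyA := by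
  intro s t h
  have := congrArg (fun g => (S.i g).val) h
  simp only [S.hyA] at this
  exact yA_inj q this

theorem XB_inj : Function.Injective (S.XB Q) := by
  intro s t h
  have := congrArg (fun g => (S.i g).val) h
  simp only [S.XB_val] at this
  exact Subtype.ext (xB_inj this)

theorem YB_inj : Function.Injective (S.YB Q) := by
  intro s t h
  have := congrArg (fun g => (S.i g).val) h
  simp only [S.YB_val] at this
  exact Subtype.ext (yB_inj this)

/-! ### swaps and rank one relations -/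

theorem swapA (a s : K) (ha : a ≠ 0) :
    S.gxA a * S.gyA (-a⁻¹) * S.gxA a * S.gxA s
      = S.gyA (-((a ^ 2)⁻¹ * s)) * (S.gxA a * S.gyA (-a⁻¹) * S.gxA a) := by
  apply S.ext
  have := S.gnA_val a
  unfold gnA at this
  rw [map_mul, Units.val_mul, map_mul _ (S.gyA _), Units.val_mul, this, S.hxA, S.hyA]
  exact nA_swap q Q.neg a s ha

theorem swapB (a s : fixQ Q) (ha : a ≠ 0) :
    S.XB Q a * S.YB Q (-a⁻¹) * S.XB Q a * S.XB Q s
      = S.YB Q (-((a ^ 2)⁻¹ * s)) * (S.XB Q a * S.YB Q (-a⁻¹) * S.XB Q a) := by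
  have ha' : (a : K) ≠ 0 := fun h => ha (Subtype.ext h)
  apply S.ext
  have := S.gnB_val Q a
  unfold gnB at this
  rw [map_mul, Units.val_mul, map_mul _ (S.YB Q _), Units.val_mul, this, S.XB_val, S.YB_val]
  have := nB_swap (a : K) (s : K) ha'
  simpa using this

omit Q in
theorem rankA (a b s c : K)
    (h : S.gxA a * S.gyA b * S.gxA a * S.gxA s = S.gyA c * (S.gxA a * S.gyA b * S.gxA a)) :
    c * (1 + a * b) ^ 2 = 0 := by
  have := congrArg (fun g => (S.i g).val) h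
  simp only [map_mul, Units.val_mul, S.hxA, S.hyA] at this
  exact rank_one_A' q a b s c this

theorem rankB (a b s c : fixQ Q)
    (h : S.XB Q a * S.YB Q b * S.XB Q a * S.XB Q s
      = S.YB Q c * (S.XB Q a * S.YB Q b * S.XB Q a)) :
    c * (1 + a * b) ^ 2 = 0 := by
  have := congrArg (fun g => (S.i g).val) h
  simp only [map_mul, Units.val_mul, S.XB_val, S.YB_val] at this
  have h2 := rank_one_B (a : K) b s c this
  apply Subtype.ext
  simpa using h2

/-! ### the torus relations -/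

theorem actsA_xA (a : K) (ha : a ≠ 0) : Shape.Acts S.gxA (S.ghA a) (a ^ 2) := by
  intro t
  apply S.ext
  rw [map_mul, map_mul, Units.val_mul, Units.val_mul, S.ghA_val Q a ha, S.hxA, S.hxA]
  exact hA_xA q a t ha

theorem actsA_yA (a : K) (ha : a ≠ 0) : Shape.Acts S.gyA (S.ghA a) (a ^ 2)⁻¹ := by
  intro t
  apply S.ext
  rw [map_mul, map_mul, Units.val_mul, Units.val_mul, S.ghA_val Q a ha, S.hyA, S.hyA]
  exact hA_yA q a t ha

theorem actsA_xB (a : K) (ha : a ≠ 0) : Shape.Acts (S.XB Q) (S.ghA a) (nrm Q a)⁻¹ := by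
  intro u
  apply S.ext
  rw [map_mul, map_mul, Units.val_mul, Units.val_mul, S.ghA_val Q a ha, S.XB_val, S.XB_val,
    xB_eq, xB_eq]
  have := hA_xB q a (u : K) ha
  simpa [nrm] using this

theorem actsA_yB (a : K) (ha : a ≠ 0) : Shape.Acts (S.YB Q) (S.ghA a) (nrm Q a) := by
  intro u
  apply S.ext
  rw [map_mul, map_mul, Units.val_mul, Units.val_mul, S.ghA_val Q a ha, S.YB_val, S.YB_val,
    yB_eq, yB_eq]
  have := hA_yB q a (u : K) ha
  simpa [nrm] using this

theorem actsB_xA (b : fixQ Q) (hb : b ≠ 0) : Shape.Acts S.gxA (S.ghB Q b) (b : K)⁻¹ := by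
  have hb' : (b : K) ≠ 0 := fun h => hb (Subtype.ext h)
  intro t
  apply S.ext
  rw [map_mul, map_mul, Units.val_mul, Units.val_mul, S.ghB_val Q b hb, S.hxA, S.hxA]
  exact hB_xA q (b : K) t hb' b.2

theorem actsB_yA (b : fixQ Q) (hb : b ≠ 0) : Shape.Acts S.gyA (S.ghB Q b) (b : K) := by
  have hb' : (b : K) ≠ 0 := fun h => hb (Subtype.ext h)
  intro t
  apply S.ext
  rw [map_mul, map_mul, Units.val_mul, Units.val_mul, S.ghB_val Q b hb, S.hyA, S.hyA]
  exact hB_yA q (b : K) t hb' b.2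

theorem actsB_xB (b : fixQ Q) (hb : b ≠ 0) : Shape.Acts (S.XB Q) (S.ghB Q b) (b ^ 2) := by
  have hb' : (b : K) ≠ 0 := fun h => hb (Subtype.ext h)
  intro u
  apply S.ext
  rw [map_mul, map_mul, Units.val_mul, Units.val_mul, S.ghB_val Q b hb, S.XB_val, S.XB_val,
    xB_eq, xB_eq]
  have := hB_xB (b : K) (u : K) hb'
  simpa using this

theorem actsB_yB (b : fixQ Q) (hb : b ≠ 0) : Shape.Acts (S.YB Q) (S.ghB Q b) (b ^ 2)⁻¹ := by
  have hb' : (b : K) ≠ 0 := fun h => hb (Subtype.ext h)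
  intro u
  apply S.ext
  rw [map_mul, map_mul, Units.val_mul, Units.val_mul, S.ghB_val Q b hb, S.YB_val, S.YB_val,
    yB_eq, yB_eq]
  have := hB_yB (b : K) (u : K) hb'
  simpa using this

end D4Data

/-- the facts on `q = p^f` for a field of order `q³` -/
theorem qok_of_card [Fintype K] (p f : ℕ) [Fact p.Prime] [CharP K p]
    (hK : Fintype.card K = p ^ (3 * f)) : QOK K (p ^ f) := by
  have hp := (Fact.out : p.Prime)
  have hcard : ∀ a : K, a ^ ((p ^ f) ^ 3) = a := by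
    intro a
    rw [← pow_mul, mul_comm, ← hK]
    exact FiniteField.pow_card a
  refine ⟨pow_ne_zero _ hp.ne_zero, ?_, fun s t => add_pow_char_pow s t p f, ?_⟩
  · rcases hp.eq_two_or_odd' with h2 | hodd
    · subst h2
      have : (-1 : K) = 1 := CharTwo.neg_eq 1
      rw [this, one_pow]
    · exact (hodd.pow).neg_one_pow
  · intro a
    rw [← pow_mul]
    have : (1 + p ^ f + (p ^ f) ^ 2) * p ^ f = p ^ f + (p ^ f) ^ 2 + (p ^ f) ^ 3 := by ring
    rw [this, pow_add a (p ^ f + (p ^ f) ^ 2) ((p ^ f) ^ 3), hcard a, pow_add a (p ^ f) ((p ^ f) ^ 2),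
      pow_add a (1 + p ^ f) ((p ^ f) ^ 2), pow_add a 1 (p ^ f), pow_one]
    ring

/-- the algebra step, in terms of the bundled data -/
theorem d4_shape_aux [Finite K] {q : ℕ} (Q : QOK K q) (hK : Nat.card K = q ^ 3)
    {G : Type*} [Group G] (S : D4Data K q G) (th : G ≃* G)
    (hthxA : ∀ t, ∃ t', th (S.gxA t) = S.gxA t') (hthyA : ∀ t, ∃ t', th (S.gyA t) = S.gyA t')
    (hthxB : ∀ u, u ^ q = u → ∃ u', u' ^ q = u' ∧ th (S.gxB u) = S.gxB u')
    (hthyB : ∀ u, u ^ q = u → ∃ u', u' ^ q = u' ∧ th (S.gyB u) = S.gyB u') :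
    ∃ (g : G) (psi : K ≃+* K),
      (∀ t, th (S.gxA t) = g * S.gxA (psi t) * g⁻¹) ∧
      (∀ t, th (S.gyA t) = g * S.gyA (psi t) * g⁻¹) ∧
      (∀ u, u ^ q = u → th (S.gxB u) = g * S.gxB (psi u) * g⁻¹) ∧
      (∀ u, u ^ q = u → th (S.gyB u) = g * S.gyB (psi u) * g⁻¹) := by
  choose al hal using hthxA
  choose ga hga using hthyA
  have hB1 : ∀ u : fixQ Q, ∃ u' : fixQ Q, th (S.XB Q u) = S.XB Q u' := fun u => by
    obtain ⟨u', h1, h2⟩ := hthxB u.1 u.2
    exact ⟨⟨u', h1⟩, h2⟩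
  have hB2 : ∀ u : fixQ Q, ∃ u' : fixQ Q, th (S.YB Q u) = S.YB Q u' := fun u => by
    obtain ⟨u', h1, h2⟩ := hthyB u.1 u.2
    exact ⟨⟨u', h1⟩, h2⟩
  choose be hbe using hB1
  choose de hde using hB2
  have XAi := S.gxA_inj
  have YAi := S.gyA_inj
  have XBi := S.XB_inj Q
  have YBi := S.YB_inj Q
  have XAa := S.gxA_add Q
  have YAa := S.gyA_add Q
  have XBa := S.XB_add Q
  have YBa := S.YB_add Q
  have rA : ∀ a, a ≠ 0 → ga (-a⁻¹) = -(al a)⁻¹ :=
    Shape.rank_one_transport th XAi YAi XAa YAa hal hga (fun a s ha => S.swapA Q a s ha) S.rankA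
  have rB : ∀ b : fixQ Q, b ≠ 0 → de (-b⁻¹) = -(be b)⁻¹ :=
    Shape.rank_one_transport th XBi YBi XBa YBa hbe hde (fun a s ha => S.swapB Q a s ha)
      (S.rankB Q)
  have alne : ∀ a, a ≠ 0 → al a ≠ 0 := fun a ha => Shape.transport_ne_zero th XAi hal XAa ha
  have bene : ∀ b : fixQ Q, b ≠ 0 → be b ≠ 0 := fun b hb =>
    Shape.transport_ne_zero th XBi hbe XBa hb
  have al1 : al 1 ≠ 0 := alne 1 one_ne_zero
  have be1 : be 1 ≠ 0 := bene 1 one_ne_zero
  have cne : ∀ b : fixQ Q, b ≠ 0 → (b : K) ≠ 0 := fun b hb h => hb (Subtype.ext h)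
  have tA : ∀ a, a ≠ 0 → th (S.ghA a) = S.ghA (al a) * (S.ghA (al 1))⁻¹ := by
    intro a ha
    exact Shape.torus_transport th hal hga rA a ha
  have tB : ∀ b : fixQ Q, b ≠ 0 → th (S.ghB Q b) = S.ghB Q (be b) * (S.ghB Q (be 1))⁻¹ := by
    intro b hb
    exact Shape.torus_transport th hbe hde rB b hb
  have E1 : ∀ a, a ≠ 0 → ∀ t, al (a ^ 2 * t) = (al a) ^ 2 * ((al 1) ^ 2)⁻¹ * al t := by
    intro a ha t
    refine Shape.acts_transport th XAi hal (S.actsA_xA Q a ha) ?_ t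
    rw [tA a ha]
    exact (S.actsA_xA Q _ (alne a ha)).mul ((S.actsA_xA Q _ al1).inv (pow_ne_zero _ al1))
  have E2 : ∀ b : fixQ Q, b ≠ 0 → ∀ t,
      al ((b : K)⁻¹ * t) = ((be b : K)⁻¹ * ((be 1 : K)⁻¹)⁻¹) * al t := by
    intro b hb t
    refine Shape.acts_transport th XAi hal (S.actsB_xA Q b hb) ?_ t
    rw [tB b hb]
    exact (S.actsB_xA Q _ (bene b hb)).mul ((S.actsB_xA Q _ be1).inv (inv_ne_zero (cne _ be1)))
  obtain ⟨psi, hpsi⟩ := exists_ringEquiv_of_sq (fun t => (al 1)⁻¹ * al t)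
    (fun a b => by
      show (al 1)⁻¹ * al (a + b) = (al 1)⁻¹ * al a + (al 1)⁻¹ * al b
      rw [Shape.transport_add th XAi hal XAa, mul_add])
    (inv_mul_cancel₀ al1)
    (fun t u ht => by
      show (al 1)⁻¹ * al (t ^ 2 * u) = ((al 1)⁻¹ * al t) ^ 2 * ((al 1)⁻¹ * al u)
      rw [E1 t ht u]
      field_simp)
  have hal' : ∀ t, al t = al 1 * psi t := fun t => by
    rw [hpsi, mul_inv_cancel_left₀ al1]
  have ga0 := Shape.transport_zero th YAi hga YAa
  have be0 := Shape.transport_zero th XBi hbe XBa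
  have de0 := Shape.transport_zero th YBi hde YBa
  have hga' : ∀ t, ga t = (al 1)⁻¹ * psi t := by
    intro t
    by_cases ht : t = 0
    · subst ht
      rw [ga0, map_zero, mul_zero]
    · have h1 := rA (-t⁻¹) (neg_ne_zero.2 (inv_ne_zero ht))
      rw [inv_neg, neg_neg, inv_inv] at h1
      have hp : psi t ≠ 0 := (map_ne_zero psi).2 ht
      rw [h1, hal', map_neg, map_inv₀]
      field_simp
  have hbe' : ∀ u : fixQ Q, (be u : K) = (be 1 : K) * psi u := by
    intro u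
    by_cases hu : u = 0
    · subst hu
      rw [be0]
      simp
    · have h1 := E2 u hu 1
      have hp : psi (u : K) ≠ 0 := (map_ne_zero psi).2 (cne u hu)
      have hb := cne _ (bene u hu)
      have hb1 := cne _ be1
      rw [mul_one, hal', hal' 1, map_one, mul_one, map_inv₀, inv_inv] at h1
      field_simp at h1
      linear_combination h1
  have hde' : ∀ u : fixQ Q, (de u : K) = (be 1 : K)⁻¹ * psi u := by
    intro u
    by_cases hu : u = 0
    · subst hu
      rw [de0]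
      simp
    · have h1 := rB (-u⁻¹) (neg_ne_zero.2 (inv_ne_zero hu))
      rw [inv_neg, neg_neg, inv_inv] at h1
      have hp : psi (u : K) ≠ 0 := (map_ne_zero psi).2 (cne u hu)
      have hb1 := cne _ be1
      rw [h1]
      push_cast
      rw [hbe']
      push_cast
      rw [map_neg, map_inv₀]
      field_simp
  obtain ⟨a0, b0, ha0, hb0, hb0q, eA, eB⟩ :=
    exists_torus_params q hK Q.neg (al 1) (be 1 : K) al1 (cne _ be1) (be 1).2
  obtain ⟨b0', hb0e⟩ : ∃ b0' : fixQ Q, (b0' : K) = b0 := ⟨⟨b0, hb0q⟩, rfl⟩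
  have hb0' : b0' ≠ 0 := by
    intro h
    apply hb0
    rw [← hb0e, h]
    rfl
  refine ⟨S.ghA a0 * S.ghB Q b0', psi, ?_, ?_, ?_, ?_⟩
  · intro t
    rw [hal, hal', ← eA, ((S.actsA_xA Q a0 ha0).mul (S.actsB_xA Q b0' hb0')).conj (psi t), hb0e]
  · intro t
    rw [hga, hga', ← eA, ((S.actsA_yA Q a0 ha0).mul (S.actsB_yA Q b0' hb0')).conj (psi t), hb0e]
    congr 1
    field_simp
  · intro u hu
    have hpu : (psi u) ^ q = psi u := by rw [← map_pow, hu]
    have h1 := hbe ⟨u, hu⟩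
    have h2 := ((S.actsA_xB Q a0 ha0).mul (S.actsB_xB Q b0' hb0')).conj ⟨psi u, hpu⟩
    show th (S.XB Q ⟨u, hu⟩) = _ * S.XB Q ⟨psi u, hpu⟩ * _
    rw [h1, h2]
    congr 1
    apply Subtype.ext
    rw [hbe']
    simp only [nrm, Subfield.coe_mul, Subfield.coe_inv, SubmonoidClass.coe_pow, hb0e, ← eB]
    ring
  · intro u hu
    have hpu : (psi u) ^ q = psi u := by rw [← map_pow, hu]
    have h1 := hde ⟨u, hu⟩
    have h2 := ((S.actsA_yB Q a0 ha0).mul (S.actsB_yB Q b0' hb0')).conj ⟨psi u, hpu⟩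
    show th (S.YB Q ⟨u, hu⟩) = _ * S.YB Q ⟨psi u, hpu⟩ * _
    rw [h1, h2]
    congr 1
    apply Subtype.ext
    rw [hde']
    simp only [nrm, Subfield.coe_mul, Subfield.coe_inv, SubmonoidClass.coe_pow, hb0e, ← eB]
    have hN : a0 ^ (1 + q + q ^ 2) ≠ 0 := pow_ne_zero _ ha0
    field_simp

/-- **the algebra step of `Out(³D₄(q))`** : an automorphism of a group generated by root elements
`x_A(t), y_A(t)` (`t ∈ K = F_{q³}`) and `x_B(u), y_B(u)` (`u ∈ F_q`) of `³D₄(q)` which permutes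
these four families is, on these elements, the composite of a field automorphism and the
conjugation by a diagonal element -/
theorem d4_shape {K : Type*} [Field K] [Fintype K] (p f : ℕ) [Fact p.Prime] [CharP K p]
    (hK : Fintype.card K = p ^ (3 * f)) (hf : 1 ≤ f)
    {G : Type*} [Group G] (i : G →* GL chevD4.Idx K) (hi : Function.Injective i)
    (gxA gyA gxB gyB : K → G)
    (hxA : ∀ t, (i (gxA t)).val = xA (p ^ f) t) (hyA : ∀ t, (i (gyA t)).val = yA (p ^ f) t)
    (hxB : ∀ u, u ^ (p ^ f) = u → (i (gxB u)).val = chevD4.x K 14 u)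
    (hyB : ∀ u, u ^ (p ^ f) = u → (i (gyB u)).val = chevD4.x K 9 u)
    (th : G ≃* G)
    (hthxA : ∀ t, ∃ t', th (gxA t) = gxA t') (hthyA : ∀ t, ∃ t', th (gyA t) = gyA t')
    (hthxB : ∀ u, u ^ (p ^ f) = u → ∃ u', u' ^ (p ^ f) = u' ∧ th (gxB u) = gxB u')
    (hthyB : ∀ u, u ^ (p ^ f) = u → ∃ u', u' ^ (p ^ f) = u' ∧ th (gyB u) = gyB u') :
    ∃ (g : G) (psi : K ≃+* K),
      (∀ t, th (gxA t) = g * gxA (psi t) * g⁻¹) ∧ (∀ t, th (gyA t) = g * gyA (psi t) * g⁻¹) ∧
      (∀ u, u ^ (p ^ f) = u → th (gxB u) = g * gxB (psi u) * g⁻¹) ∧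
      (∀ u, u ^ (p ^ f) = u → th (gyB u) = g * gyB (psi u) * g⁻¹) := by
  have _ := hf
  have Q := qok_of_card (K := K) p f hK
  have hK' : Nat.card K = (p ^ f) ^ 3 := by
    rw [Nat.card_eq_fintype_card, hK, ← pow_mul, mul_comm]
  let S : D4Data K (p ^ f) G :=
    { i := i, hi := hi, gxA := gxA, gyA := gyA, gxB := gxB, gyB := gyB, hxA := hxA, hyA := hyA
      hxB := fun u hu => by rw [xB_eq]; exact hxB u hu
      hyB := fun u hu => by rw [yB_eq]; exact hyB u hu }
  exact d4_shape_aux Q hK' S th hthxA hthyA hthxB hthyB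

end Cfsg.Agent.TwRankOne.D4
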