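import Cfsg.Agent.Lib.Lead.TwRankOne
import Cfsg.Agent.Lib.Helper5.Chev.HAll
import Cfsg.Agent.Lib.Lead.ChevAutAlg
import Mathlib

/-!
# The algebra step of `Out(³D₄(q))` : preliminaries (lead, for helper5's S2129)

* `XJ_add`, `YJ_add`, `XJ_inj`, `YJ_inj`, `NJ_swap` for products over pairwise orthogonal fundamental roots;
* namespace `Shape`: abstract transport lemmas (`Acts`, `acts_transport`, `rank_one_transport`,
  `torus_transport`);
* namespace `D4`: `xB`, `yB`, `nB`, `swap1`, `xA_add`, `xA_inj`, `nA_swap`, `nB_swap`, `rank_one_B`,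
  `torus_ker`, `exists_torus_params`.
-/

set_option autoImplicit false
set_option linter.unusedSectionVars false

namespace Cfsg.Agent.TwRankOne
open Cfsg Cfsg.Lie Cfsg.Agent.Lib.Helper5.Chev Cfsg.Agent.ChevAut
open scoped Matrix

variable {F : Type*} [Field F] {D : ChevalleyDatum}

section more

variable (hD : D ∈ [chevG2, chevB2, chevD4, chevF4, chevE6, chevE7, chevE8])
include hD

/-- `XJ` is additive in the parameters -/
theorem XJ_add (L : List ℕ) (hL : ∀ k ∈ L, k < D.rank) (hp : L.Pairwise (Orth D)) (a b : ℕ → F) :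
    XJ F D L (fun i => a i + b i) = XJ F D L a * XJ F D L b := by
  induction L with
  | nil => rw [XJ_nil, XJ_nil, XJ_nil, mul_one]
  | cons j L ih =>
    rw [List.pairwise_cons] at hp
    have hL' : ∀ k ∈ L, k < D.rank := fun k hk => hL k (List.mem_cons_of_mem _ hk)
    have hj := hL j List.mem_cons_self
    have c := commute_x_XJ hD hj L hL' hp.1 (b j) a
    rw [XJ_cons, XJ_cons, XJ_cons, ih hL' hp.2, ← (allAdd_all (F := F) D hD).x_add]
    calc D.x F (D.simple j) (a j) * D.x F (D.simple j) (b j) * (XJ F D L a * XJ F D L b)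
        = D.x F (D.simple j) (a j) * (D.x F (D.simple j) (b j) * XJ F D L a) * XJ F D L b := by
          simp only [mul_assoc]
      _ = D.x F (D.simple j) (a j) * (XJ F D L a * D.x F (D.simple j) (b j)) * XJ F D L b := by
          rw [c.eq]
      _ = _ := by simp only [mul_assoc]

/-- `YJ` is additive in the parameters -/
theorem YJ_add (L : List ℕ) (hL : ∀ k ∈ L, k < D.rank) (hp : L.Pairwise (Orth D)) (a b : ℕ → F) :
    YJ F D L (fun i => a i + b i) = YJ F D L a * YJ F D L b := by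
  induction L with
  | nil => rw [YJ_nil, YJ_nil, YJ_nil, mul_one]
  | cons j L ih =>
    rw [List.pairwise_cons] at hp
    have hL' : ∀ k ∈ L, k < D.rank := fun k hk => hL k (List.mem_cons_of_mem _ hk)
    have hj := hL j List.mem_cons_self
    have c := commute_y_YJ hD hj L hL' hp.1 (b j) a
    rw [YJ_cons, YJ_cons, YJ_cons, ih hL' hp.2, ← (allAdd_all (F := F) D hD).x_add]
    calc D.x F (D.neg (D.simple j)) (a j) * D.x F (D.neg (D.simple j)) (b j) * (YJ F D L a * YJ F D L b)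
        = D.x F (D.neg (D.simple j)) (a j) * (D.x F (D.neg (D.simple j)) (b j) * YJ F D L a) * YJ F D L b := by
          simp only [mul_assoc]
      _ = D.x F (D.neg (D.simple j)) (a j) * (YJ F D L a * D.x F (D.neg (D.simple j)) (b j)) * YJ F D L b := by
          rw [c.eq]
      _ = _ := by simp only [mul_assoc]

/-- the parameters of `XJ` are determined by the matrix -/
theorem XJ_inj (L : List ℕ) (hL : ∀ k ∈ L, k < D.rank) (hp : L.Pairwise (Orth D)) (a a' : ℕ → F)
    (h : XJ F D L a = XJ F D L a') (i : ℕ) (hi : i ∈ L) : a i = a' i := by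
  have key : ∀ b : ℕ → F, (1 + a i * b i) ^ 2 = (1 + a' i * b i) ^ 2 := by
    intro b
    rw [← MJ_entry hD L hL hp i hi a b, ← MJ_entry hD L hL hp i hi a' b]
    unfold MJ
    rw [h]
  by_cases h0 : a i = 0
  · by_contra hne
    have h1 : a' i ≠ 0 := fun h' => hne (h0.trans h'.symm)
    have := key (fun _ => -(a' i)⁻¹)
    simp [h0, h1] at this
  · have e := key (fun _ => -(a i)⁻¹)
    beta_reduce at e
    rw [mul_neg, mul_inv_cancel₀ h0, add_neg_cancel, zero_pow two_ne_zero] at e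
    have e2 : 1 + a' i * -(a i)⁻¹ = 0 := (pow_eq_zero_iff two_ne_zero).1 e.symm
    have h3 : a i * (a i)⁻¹ = 1 := mul_inv_cancel₀ h0
    linear_combination (a i) * e2 + a' i * h3

/-- the parameters of `YJ` are determined by the matrix -/
theorem YJ_inj (L : List ℕ) (hL : ∀ k ∈ L, k < D.rank) (hp : L.Pairwise (Orth D)) (b b' : ℕ → F)
    (h : YJ F D L b = YJ F D L b') (i : ℕ) (hi : i ∈ L) : b i = b' i := by
  have key : ∀ a : ℕ → F, (1 + a i * b i) ^ 2 = (1 + a i * b' i) ^ 2 := by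
    intro a
    rw [← MJ_entry hD L hL hp i hi a b, ← MJ_entry hD L hL hp i hi a b']
    unfold MJ
    rw [h]
  by_cases h0 : b i = 0
  · by_contra hne
    have h1 : b' i ≠ 0 := fun h' => hne (h0.trans h'.symm)
    have := key (fun _ => -(b' i)⁻¹)
    simp [h0, h1] at this
  · have e := key (fun _ => -(b i)⁻¹)
    beta_reduce at e
    rw [neg_mul, inv_mul_cancel₀ h0, add_neg_cancel, zero_pow two_ne_zero] at e
    have e2 : 1 + -(b i)⁻¹ * b' i = 0 := (pow_eq_zero_iff two_ne_zero).1 e.symm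
    have h3 : b i * (b i)⁻¹ = 1 := mul_inv_cancel₀ h0
    linear_combination (b i) * e2 + b' i * h3

theorem NJ_one_cons {j : ℕ} (hj : j < D.rank) (L : List ℕ) (hL : ∀ k ∈ L, k < D.rank)
    (ho : ∀ k ∈ L, Orth D j k) :
    NJ F D (j :: L) (fun _ => (1 : F)) = D.nMat F (D.simple j) 1 * NJ F D L (fun _ => 1) := by
  unfold NJ
  rw [MJ_cons hD hj L hL ho, M1_eq_nMat]

theorem commute_nMat_YJ {j : ℕ} (hj : j < D.rank) (L : List ℕ) (hL : ∀ k ∈ L, k < D.rank)
    (ho : ∀ k ∈ L, Orth D j k) (c : F) (b : ℕ → F) :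
    Commute (D.nMat F (D.simple j) c) (YJ F D L b) := by
  unfold YJ
  apply Commute.list_prod_right
  intro g hg
  rw [List.mem_map] at hg
  obtain ⟨k, hk, rfl⟩ := hg
  exact (commute_y_nMat hD (ho k hk).symm (hL k hk) hj (b k) c).symm

/-- the swap: `NJ 1 * XJ s = YJ (c s) * NJ 1`, given the rank one swaps -/
theorem NJ_swap (L : List ℕ) (hL : ∀ k ∈ L, k < D.rank) (hp : L.Pairwise (Orth D))
    (c : ℕ → F → F)
    (hsw : ∀ i ∈ L, ∀ s : F, D.nMat F (D.simple i) 1 * D.x F (D.simple i) s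
      = D.x F (D.neg (D.simple i)) (c i s) * D.nMat F (D.simple i) 1) (s : ℕ → F) :
    NJ F D L (fun _ => 1) * XJ F D L s
      = YJ F D L (fun i => c i (s i)) * NJ F D L (fun _ => 1) := by
  induction L with
  | nil => rw [XJ_nil, YJ_nil, mul_one, one_mul]
  | cons j L ih =>
    rw [List.pairwise_cons] at hp
    have hL' : ∀ k ∈ L, k < D.rank := fun k hk => hL k (List.mem_cons_of_mem _ hk)
    have hj := hL j List.mem_cons_self
    have ih' := ih hL' hp.2 (fun i hi => hsw i (List.mem_cons_of_mem _ hi))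
    have c1 : Commute (D.x F (D.simple j) (s j)) (NJ F D L (fun _ => (1 : F))) := by
      unfold NJ MJ
      exact ((commute_x_XJ hD hj L hL' hp.1 _ _).mul_right (commute_x_YJ hD hj L hL' hp.1 _ _)).mul_right
        (commute_x_XJ hD hj L hL' hp.1 _ _)
    have c2 := commute_nMat_YJ hD hj L hL' hp.1 (1 : F) (fun i => c i (s i))
    have hj' := hsw j List.mem_cons_self (s j)
    rw [NJ_one_cons hD hj L hL' hp.1, XJ_cons, YJ_cons]
    set n := D.nMat F (D.simple j) 1
    set N := NJ F D L (fun _ => (1 : F))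
    calc n * N * (D.x F (D.simple j) (s j) * XJ F D L s)
        = n * (N * D.x F (D.simple j) (s j)) * XJ F D L s := by simp only [mul_assoc]
      _ = n * D.x F (D.simple j) (s j) * (N * XJ F D L s) := by rw [← c1.eq]; simp only [mul_assoc]
      _ = D.x F (D.neg (D.simple j)) (c j (s j)) * (n * YJ F D L (fun i => c i (s i))) * N := by
          rw [hj', ih']; simp only [mul_assoc]
      _ = _ := by rw [c2.eq]; simp only [mul_assoc]

end more

namespace Shape

variable {k : Type*} [Field k] {G : Type*} [Group G]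

/-- `h` acts on the family `Z` through the scalar `l` -/
def Acts (Z : k → G) (h : G) (l : k) : Prop := ∀ u, h * Z u = Z (l * u) * h

theorem Acts.mul {Z : k → G} {h h' : G} {l l' : k} (H : Acts Z h l) (H' : Acts Z h' l') :
    Acts Z (h * h') (l * l') := by
  intro u
  rw [mul_assoc, H' u, ← mul_assoc, H (l' * u), mul_assoc, mul_assoc l]

theorem Acts.inv {Z : k → G} {h : G} {l : k} (H : Acts Z h l) (hl : l ≠ 0) :
    Acts Z h⁻¹ l⁻¹ := by
  intro u
  have := H (l⁻¹ * u)
  rw [← mul_assoc, mul_inv_cancel₀ hl, one_mul] at this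
  rw [inv_mul_eq_iff_eq_mul, ← mul_assoc, this, mul_assoc, mul_inv_cancel, mul_one]

theorem Acts.conj {Z : k → G} {h : G} {l : k} (H : Acts Z h l) (u : k) :
    h * Z u * h⁻¹ = Z (l * u) := by
  rw [H u, mul_assoc, mul_inv_cancel, mul_one]

/-- an additive family sends `0` to `1` -/
theorem zero_of_add {Z : k → G} (Zadd : ∀ s t, Z (s + t) = Z s * Z t) : Z 0 = 1 := by
  have := Zadd 0 0
  rw [add_zero] at this
  exact (left_eq_mul.1 this)

section transport

variable (th : G ≃* G) {Z : k → G} (Zinj : Function.Injective Z) {φ : k → k}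
  (hφ : ∀ u, th (Z u) = Z (φ u))

include Zinj hφ

theorem transport_inj : Function.Injective φ := by
  intro s t h
  apply Zinj
  apply th.injective
  rw [hφ, hφ, h]

theorem transport_add (Zadd : ∀ s t, Z (s + t) = Z s * Z t) (s t : k) :
    φ (s + t) = φ s + φ t := by
  apply Zinj
  rw [← hφ, Zadd, map_mul, hφ, hφ, Zadd]

theorem transport_zero (Zadd : ∀ s t, Z (s + t) = Z s * Z t) : φ 0 = 0 := by
  have := transport_add th Zinj hφ Zadd 0 0
  rw [add_zero] at this
  exact left_eq_add.1 this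

theorem transport_ne_zero (Zadd : ∀ s t, Z (s + t) = Z s * Z t) {a : k} (ha : a ≠ 0) : φ a ≠ 0 := by
  intro h
  apply ha
  apply transport_inj th Zinj hφ
  rw [h, transport_zero th Zinj hφ Zadd]

/-- the functional equation obtained by applying `θ` to a torus relation -/
theorem acts_transport {h : G} {l l' : k} (H : Acts Z h l) (H' : Acts Z (th h) l') (u : k) :
    φ (l * u) = l' * φ u := by
  apply Zinj
  have e := congrArg th (H u)
  rw [map_mul, map_mul, hφ, hφ, H' (φ u)] at e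
  exact (mul_right_cancel e).symm

end transport

/-- the rank one relation, transported by `θ` -/
theorem rank_one_transport (th : G ≃* G) {X Y : k → G}
    (Xinj : Function.Injective X) (Yinj : Function.Injective Y)
    (Xadd : ∀ s t, X (s + t) = X s * X t) (Yadd : ∀ s t, Y (s + t) = Y s * Y t)
    {φ γ : k → k} (hφ : ∀ u, th (X u) = X (φ u)) (hγ : ∀ u, th (Y u) = Y (γ u))
    (swap : ∀ a s, a ≠ 0 → X a * Y (-a⁻¹) * X a * X s
      = Y (-((a ^ 2)⁻¹ * s)) * (X a * Y (-a⁻¹) * X a))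
    (rank : ∀ a b s c, X a * Y b * X a * X s = Y c * (X a * Y b * X a) → c * (1 + a * b) ^ 2 = 0)
    (a : k) (ha : a ≠ 0) : γ (-a⁻¹) = -(φ a)⁻¹ := by
  have h1 := congrArg th (swap a 1 ha)
  simp only [map_mul, hφ, hγ] at h1
  have h2 := rank _ _ _ _ h1
  have hc : γ (-((a ^ 2)⁻¹ * 1)) ≠ 0 := by
    apply transport_ne_zero th Yinj hγ Yadd
    rw [mul_one]
    exact neg_ne_zero.2 (inv_ne_zero (pow_ne_zero _ ha))
  have ha' : φ a ≠ 0 := transport_ne_zero th Xinj hφ Xadd ha
  have h3 : 1 + φ a * γ (-a⁻¹) = 0 := by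
    rcases mul_eq_zero.1 h2 with h | h
    · exact absurd h hc
    · exact (pow_eq_zero_iff two_ne_zero).1 h
  apply mul_left_cancel₀ ha'
  rw [mul_neg, mul_inv_cancel₀ ha']
  linear_combination h3

/-- `θ` maps `h(a) = n(a) n(1)⁻¹` to `h(φ a) h(φ 1)⁻¹` -/
theorem torus_transport (th : G ≃* G) {X Y : k → G} {φ γ : k → k}
    (hφ : ∀ u, th (X u) = X (φ u)) (hγ : ∀ u, th (Y u) = Y (γ u))
    (hr : ∀ a, a ≠ 0 → γ (-a⁻¹) = -(φ a)⁻¹) (a : k) (ha : a ≠ 0) :
    th (X a * Y (-a⁻¹) * X a * (X 1 * Y (-1⁻¹) * X 1)⁻¹)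
      = (X (φ a) * Y (-(φ a)⁻¹) * X (φ a) * (X 1 * Y (-1⁻¹) * X 1)⁻¹) *
        (X (φ 1) * Y (-(φ 1)⁻¹) * X (φ 1) * (X 1 * Y (-1⁻¹) * X 1)⁻¹)⁻¹ := by
  simp only [map_mul, map_inv, hφ, hγ, hr a ha, hr 1 one_ne_zero]
  group

end Shape

namespace D4

variable {K : Type*} [Field K]

/-- `x_B(u) = x_{p₂}(u)` -/
def xB (u : K) : Matrix chevD4.Idx chevD4.Idx K := XJ K chevD4 LB (fun _ => u)
/-- `y_B(u) = x_{-p₂}(u)` -/
def yB (u : K) : Matrix chevD4.Idx chevD4.Idx K := YJ K chevD4 LB (fun _ => u)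

theorem xB_eq (u : K) : xB u = chevD4.x K 14 u := by
  unfold xB XJ LB
  simp only [List.map_cons, List.map_nil, List.prod_cons, List.prod_nil, mul_one]
  rfl

theorem yB_eq (u : K) : yB u = chevD4.x K 9 u := by
  unfold yB YJ LB
  simp only [List.map_cons, List.map_nil, List.prod_cons, List.prod_nil, mul_one]
  rfl

/-- the rank one swap for the four fundamental roots of `D₄` -/
theorem swap1 (i : ℕ) (hi : i < 4) (s : K) :
    chevD4.nMat K (chevD4.simple i) 1 * chevD4.x K (chevD4.simple i) s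
      = chevD4.x K (chevD4.neg (chevD4.simple i)) (-s) * chevD4.nMat K (chevD4.simple i) 1 := by
  have hadd := allAdd_all (F := K) chevD4 hD4
  obtain ⟨hp, hq⟩ := simple_lt_all chevD4 hD4 i hi
  have e := nU_conj_xU DataD4.agrees hadd i (BsD4.Bs.getD i 0) hi (HsD4.reflBs' i hi) hp hq s
  rw [mul_inv_eq_iff_eq_mul] at e
  have e' := congrArg Units.val e
  have heta : etaOf (BsD4.Bs.getD i 0) (chevD4.simple i) = -1 := by
    interval_cases i <;> decide
  rw [heta] at e'
  have : ((-1 : ℤ) : K) * s = -s := by push_cast; ring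
  rw [this] at e'
  exact e'

theorem pA_neg (q : ℕ) (hq : (-1 : K) ^ q = -1) (s : K) : pA q (-s) = fun i => -(pA q s i) := by
  have h1 : (-1 : K) ^ (q ^ 2) = -1 := by rw [pow_two, pow_mul, hq, hq]
  funext i
  unfold pA
  split_ifs
  · rfl
  · rw [neg_eq_neg_one_mul, mul_pow, hq, neg_one_mul]
  · rw [neg_eq_neg_one_mul, mul_pow, h1, neg_one_mul]

theorem pA_add (q : ℕ) (hfr : ∀ s t : K, (s + t) ^ q = s ^ q + t ^ q) (s t : K) :
    pA q (s + t) = fun i => pA q s i + pA q t i := by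
  funext i
  unfold pA
  split_ifs
  · rfl
  · exact hfr s t
  · rw [pow_two, pow_mul, pow_mul, pow_mul, hfr, hfr]

theorem xA_add (q : ℕ) (hfr : ∀ s t : K, (s + t) ^ q = s ^ q + t ^ q) (s t : K) :
    xA q (s + t) = xA q s * xA q t := by
  unfold xA
  rw [pA_add q hfr, XJ_add hD4 LA ltA orthA]

theorem yA_add (q : ℕ) (hfr : ∀ s t : K, (s + t) ^ q = s ^ q + t ^ q) (s t : K) :
    yA q (s + t) = yA q s * yA q t := by
  unfold yA
  rw [pA_add q hfr, YJ_add hD4 LA ltA orthA]

theorem xA_inj (q : ℕ) {s t : K} (h : xA q s = xA q t) : s = t :=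
  XJ_inj hD4 LA ltA orthA _ _ h 0 (by decide)

theorem yA_inj (q : ℕ) {s t : K} (h : yA q s = yA q t) : s = t :=
  YJ_inj hD4 LA ltA orthA _ _ h 0 (by decide)

theorem xB_add (s t : K) : xB (s + t) = xB s * xB t := by
  rw [xB_eq, xB_eq, xB_eq, (allAdd_all (F := K) chevD4 hD4).x_add]

theorem yB_add (s t : K) : yB (s + t) = yB s * yB t := by
  rw [yB_eq, yB_eq, yB_eq, (allAdd_all (F := K) chevD4 hD4).x_add]

theorem xB_inj {s t : K} (h : xB s = xB t) : s = t :=
  XJ_inj hD4 LB ltB orthB _ _ h 1 (by decide)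

theorem yB_inj {s t : K} (h : yB s = yB t) : s = t :=
  YJ_inj hD4 LB ltB orthB _ _ h 1 (by decide)

/-- the swap for the orbit `A` -/
theorem nA_swap (q : ℕ) (hq : (-1 : K) ^ q = -1) (a s : K) (ha : a ≠ 0) :
    nA q a * xA q s = yA q (-((a ^ 2)⁻¹ * s)) * nA q a := by
  have h2 : nA q (1 : K) = NJ K chevD4 LA (fun _ => 1) := by
    unfold nA NJ MJ xA yA
    rw [pA_neg_inv q hq, pA_one]
  have h3 : nA q (1 : K) * xA q s = yA q (-s) * nA q 1 := by
    rw [h2]
    unfold xA yA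
    rw [pA_neg q hq]
    exact NJ_swap hD4 LA ltA orthA (fun _ s => -s)
      (fun i hi s => swap1 i (ltA i hi) s) (pA q s)
  rw [nA_eq q hq a ha, mul_assoc, h3, ← mul_assoc, hA_yA q a _ ha, mul_assoc, mul_neg]

/-- `n_B(b) = x_B(b) y_B(-b⁻¹) x_B(b)` -/
def nB (b : K) : Matrix chevD4.Idx chevD4.Idx K := xB b * yB (-b⁻¹) * xB b

theorem nB_eq_nMat (b : K) : nB b = chevD4.nMat K 14 b := by
  unfold nB
  rw [xB_eq, yB_eq, mul_assoc]
  exact (nMat_eq_prod (D := chevD4) 14 b).symm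

theorem nB_eq' (b : K) (hb : b ≠ 0) : nB b = hB b * nB 1 := by
  rw [nB_eq_nMat, nB_eq_nMat, nB_eq b hb]

/-- the swap for the orbit `B` -/
theorem nB_swap (b s : K) (hb : b ≠ 0) :
    nB b * xB s = yB (-((b ^ 2)⁻¹ * s)) * nB b := by
  have h3 : nB (1 : K) * xB s = yB (-s) * nB 1 := by
    rw [nB_eq_nMat, xB_eq, yB_eq]
    exact swap1 1 (by decide) s
  rw [nB_eq' b hb, mul_assoc, h3, ← mul_assoc, yB_eq, hB_yB _ _ hb, mul_assoc, mul_neg, yB_eq]

/-- rank one relation for the orbit `B` -/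
theorem rank_one_B (a b s c : K)
    (h : xB a * yB b * xB a * xB s = yB c * (xB a * yB b * xB a)) :
    c * (1 + a * b) ^ 2 = 0 :=
  rank_one hD4 LB ltB orthB (fun _ => a) (fun _ => b) (fun _ => s) (fun _ => c) h 1 (by decide)


/-- the kernel of `(a, b) ↦ (a² / b, b² / N(a))` is trivial -/
theorem torus_ker (q : ℕ) (hq : (-1 : K) ^ q = -1) (a b : K) (ha : a ≠ 0)
    (hbq : b ^ q = b) (h1 : a ^ 2 = b) (h2 : b ^ 2 = a ^ (1 + q + q ^ 2)) : a = 1 ∧ b = 1 := by
  have e1 : (a ^ q) ^ 2 = a ^ 2 := by rw [← pow_mul, mul_comm, pow_mul, h1, hbq]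
  have e2 : (a ^ q - a) * (a ^ q + a) = 0 := by linear_combination e1
  have hN : a ^ (1 + q + q ^ 2) = a * a ^ q * (a ^ q) ^ q := by
    rw [pow_add, pow_add, pow_one, pow_two, pow_mul]
  have ha1 : a = 1 := by
    rcases mul_eq_zero.1 e2 with h | h
    · have h' : a ^ q = a := sub_eq_zero.1 h
      rw [hN, h', h', ← h1] at h2
      have : a ^ 3 * (a - 1) = 0 := by linear_combination h2
      rcases mul_eq_zero.1 this with h3 | h3
      · exact absurd (pow_eq_zero_iff (by norm_num) |>.1 h3) ha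
      · exact sub_eq_zero.1 h3
    · have h' : a ^ q = -a := eq_neg_of_add_eq_zero_left h
      have h'' : (-a) ^ q = a := by rw [neg_eq_neg_one_mul, mul_pow, hq, h']; ring
      rw [hN, h', h'', ← h1] at h2
      have : a ^ 3 * (a + 1) = 0 := by linear_combination h2
      rcases mul_eq_zero.1 this with h3 | h3
      · exact absurd (pow_eq_zero_iff (by norm_num) |>.1 h3) ha
      · have ham : a = -1 := eq_neg_of_add_eq_zero_left h3
        rw [ham, hq] at h'
        rw [ham]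
        rw [neg_neg] at h'
        exact h'
  exact ⟨ha1, by rw [← h1, ha1, one_pow]⟩

/-- every pair `(A, B)` with `A ∈ Kˣ`, `B ∈ F_qˣ` is of the form `(a² / b, b² / N(a))` -/
theorem exists_torus_params [Finite K] (q : ℕ) (hK : Nat.card K = q ^ 3)
    (hq : (-1 : K) ^ q = -1) (A B : K) (hA : A ≠ 0) (hB : B ≠ 0) (hBq : B ^ q = B) :
    ∃ a0 b0 : K, a0 ≠ 0 ∧ b0 ≠ 0 ∧ b0 ^ q = b0 ∧ a0 ^ 2 * b0⁻¹ = A ∧
      b0 ^ 2 * (a0 ^ (1 + q + q ^ 2))⁻¹ = B := by
  classical
  have := Fintype.ofFinite K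
  have hcard : ∀ a : K, a ^ (q ^ 3) = a := by
    intro a
    rw [← hK, Nat.card_eq_fintype_card]
    exact FiniteField.pow_card a
  have hNq : ∀ a : K, (a ^ (1 + q + q ^ 2)) ^ q = a ^ (1 + q + q ^ 2) := by
    intro a
    rw [← pow_mul]
    have : (1 + q + q ^ 2) * q = q + q ^ 2 + q ^ 3 := by ring
    rw [this, pow_add a (q + q ^ 2) (q ^ 3), hcard a, pow_add a q (q ^ 2),
      pow_add a (1 + q) (q ^ 2), pow_add a 1 q, pow_one]
    ring
  let T := {p : K × K // p.1 ≠ 0 ∧ p.2 ≠ 0 ∧ p.2 ^ q = p.2}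
  let f : T → T := fun p => ⟨(p.1.1 ^ 2 * p.1.2⁻¹, p.1.2 ^ 2 * (p.1.1 ^ (1 + q + q ^ 2))⁻¹),
    mul_ne_zero (pow_ne_zero _ p.2.1) (inv_ne_zero p.2.2.1),
    mul_ne_zero (pow_ne_zero _ p.2.2.1) (inv_ne_zero (pow_ne_zero _ p.2.1)), by
      show (p.1.2 ^ 2 * (p.1.1 ^ (1 + q + q ^ 2))⁻¹) ^ q = p.1.2 ^ 2 * (p.1.1 ^ (1 + q + q ^ 2))⁻¹
      rw [mul_pow, inv_pow, hNq, ← pow_mul, mul_comm 2 q, pow_mul, p.2.2.2]⟩
  have hinj : Function.Injective f := by
    rintro ⟨⟨a, b⟩, ha, hb, hbq⟩ ⟨⟨a', b'⟩, ha', hb', hbq'⟩ h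
    have h' := congrArg Subtype.val h
    simp only [f, Prod.mk.injEq] at h'
    obtain ⟨e1, e2⟩ := h'
    have hN' : a' ^ (1 + q + q ^ 2) ≠ 0 := pow_ne_zero _ ha'
    have hN : a ^ (1 + q + q ^ 2) ≠ 0 := pow_ne_zero _ ha
    have k := torus_ker q hq (a / a') (b / b') (div_ne_zero ha ha')
      (by rw [div_pow, hbq, hbq'])
      (by rw [div_pow]; field_simp; field_simp at e1; linear_combination e1)
      (by rw [div_pow, div_pow]; field_simp; field_simp at e2; linear_combination e2)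
    have ea : a = a' := by
      have := k.1
      field_simp at this
      exact this
    have eb : b = b' := by
      have := k.2
      field_simp at this
      exact this
    subst ea; subst eb
    rfl
  have hsurj : Function.Surjective f := Finite.injective_iff_surjective.1 hinj
  obtain ⟨⟨⟨a0, b0⟩, ha0, hb0, hb0q⟩, h⟩ := hsurj ⟨(A, B), hA, hB, hBq⟩
  have h' := congrArg Subtype.val h
  simp only [f, Prod.mk.injEq] at h'
  exact ⟨a0, b0, ha0, hb0, hb0q, h'.1, h'.2⟩


end D4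

end Cfsg.Agent.TwRankOne
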