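import Cfsg.Agent.Lib.Lead.TwD4ShapeA
import Mathlib

/-!
# Orbits of pairwise orthogonal fundamental roots, parametrised by ring homomorphisms (lead)

For a list `L` of pairwise orthogonal fundamental roots and ring homomorphisms `ρ i : k →+* F`
(`i ∈ L`; e.g. the identity and a Frobenius power, or the inclusion of the fixed field), the root
elements `XR t = ∏ x_{p_i}(ρ_i t)`, `YR`, the torus elements `HR a` and `NR a = XR a * YR (-a⁻¹) * XR a`
satisfy: additivity, injectivity, `NR a = HR a * NR 1`, `HR a * XR t = XR (a² t) * HR a`, the swap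
`NR a * XR s = YR (-a⁻² s) * NR a`, the rank one relation, and links between different orbits.
-/

set_option autoImplicit false
set_option linter.unusedSectionVars false

namespace Cfsg.Agent.TwRankOne
open Cfsg Cfsg.Lie Cfsg.Agent.Lib.Helper5.Chev Cfsg.Agent.ChevAut
open scoped Matrix

variable {k F : Type*} [Field k] [Field F] {D : ChevalleyDatum}

/-- root elements of an orbit, parametrised through ring homomorphisms `ρ i : k →+* F` -/
def XR (D : ChevalleyDatum) (L : List ℕ) (ρ : ℕ → k →+* F) (t : k) : Matrix D.Idx D.Idx F :=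
  XJ F D L (fun i => ρ i t)
def YR (D : ChevalleyDatum) (L : List ℕ) (ρ : ℕ → k →+* F) (t : k) : Matrix D.Idx D.Idx F :=
  YJ F D L (fun i => ρ i t)
/-- the torus element of the orbit -/
def HR (D : ChevalleyDatum) (L : List ℕ) (ρ : ℕ → k →+* F) (a : k) : Matrix D.Idx D.Idx F :=
  dProdL F D L (fun i => ρ i a)
/-- the monomial element of the orbit -/
def NR (D : ChevalleyDatum) (L : List ℕ) (ρ : ℕ → k →+* F) (a : k) : Matrix D.Idx D.Idx F :=
  XR D L ρ a * YR D L ρ (-a⁻¹) * XR D L ρ a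

/-- the Cartan integers inside an orbit of pairwise orthogonal fundamental roots -/
def CartOrth (D : ChevalleyDatum) (L : List ℕ) : Prop :=
  ∀ i ∈ L, ∀ j ∈ L, D.cartan i (D.simple j) = (if i = j then 2 else 0) ∧
    D.cartan i (D.neg (D.simple j)) = (if i = j then -2 else 0)

instance (D : ChevalleyDatum) (L : List ℕ) : Decidable (CartOrth D L) := by
  unfold CartOrth; infer_instance

theorem prod_ite_eq (L : List ℕ) (hnd : L.Nodup) (j : ℕ) (hj : j ∈ L) (c : ℕ → F) :
    (L.map fun i => if i = j then c i else 1).prod = c j := by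
  induction L with
  | nil => exact absurd hj List.not_mem_nil
  | cons a L ih =>
    rw [List.nodup_cons] at hnd
    rw [List.map_cons, List.prod_cons]
    by_cases haj : a = j
    · subst haj
      rw [if_pos rfl]
      have : (L.map fun i => if i = a then c i else 1) = L.map fun _ => (1 : F) := by
        apply List.map_congr_left
        intro i hi
        rw [if_neg]
        rintro rfl
        exact hnd.1 hi
      rw [this, List.map_const', List.prod_replicate, one_pow, mul_one]
    · rw [if_neg haj, one_mul]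
      apply ih hnd.2
      rcases List.mem_cons.1 hj with h | h
      · exact absurd h.symm haj
      · exact h

section orbit

variable (hD : D ∈ [chevG2, chevB2, chevD4, chevF4, chevE6, chevE7, chevE8])
include hD
variable (L : List ℕ) (hL : ∀ i ∈ L, i < D.rank) (hp : L.Pairwise (Orth D)) (ρ : ℕ → k →+* F)
include hL hp

theorem orbit_nodup : L.Nodup := hp.imp (fun h => h.ne)

theorem XR_add (s t : k) : XR D L ρ (s + t) = XR D L ρ s * XR D L ρ t := by
  unfold XR
  rw [← XJ_add hD L hL hp]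
  simp only [map_add]

theorem YR_add (s t : k) : YR D L ρ (s + t) = YR D L ρ s * YR D L ρ t := by
  unfold YR
  rw [← YJ_add hD L hL hp]
  simp only [map_add]

theorem XR_inj (i0 : ℕ) (hi0 : i0 ∈ L) {s t : k} (h : XR D L ρ s = XR D L ρ t) : s = t :=
  (ρ i0).injective (XJ_inj hD L hL hp _ _ h i0 hi0)

theorem YR_inj (i0 : ℕ) (hi0 : i0 ∈ L) {s t : k} (h : YR D L ρ s = YR D L ρ t) : s = t :=
  (ρ i0).injective (YJ_inj hD L hL hp _ _ h i0 hi0)

theorem NR_eq_NJ (a : k) : NR D L ρ a = NJ F D L (fun i => ρ i a) := by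
  unfold NR NJ MJ XR YR
  congr 2
  apply YJ_congr
  intro i _
  rw [map_neg, map_inv₀]

theorem NR_one : NR D L ρ (1 : k) = NJ F D L (fun _ => 1) := by
  rw [NR_eq_NJ hD L hL hp]
  congr 1
  funext i
  exact map_one _

/-- `n(a) = h(a) n(1)` -/
theorem NR_eq (a : k) (ha : a ≠ 0) : NR D L ρ a = HR D L ρ a * NR D L ρ 1 := by
  rw [NR_eq_NJ hD L hL hp, NR_one hD L hL hp]
  exact NJ_eq hD L hL hp _ (fun i _ => (map_ne_zero (ρ i)).2 ha)

/-- `h(a) x(t) h(a)⁻¹ = x(a² t)` -/
theorem HR_XR (hc : CartOrth D L) (a t : k) (ha : a ≠ 0) :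
    HR D L ρ a * XR D L ρ t = XR D L ρ (a ^ 2 * t) * HR D L ρ a := by
  unfold HR XR
  rw [dProdL_conj_XJ hD L hL _ (fun i _ => (map_ne_zero (ρ i)).2 ha) L hL]
  congr 1
  apply XJ_congr
  intro j hj
  have : (L.map fun i => (ρ i) a ^ D.cartan i (D.simple j))
      = L.map fun i => if i = j then (ρ i a) ^ 2 else 1 := by
    apply List.map_congr_left
    intro i hi
    rw [(hc i hi j hj).1]
    split_ifs
    · norm_cast
    · simp
  rw [this, prod_ite_eq L (orbit_nodup hD L hL hp) j hj, map_mul, map_pow]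

/-- `h(a) y(t) h(a)⁻¹ = y(a⁻² t)` -/
theorem HR_YR (hc : CartOrth D L) (a t : k) (ha : a ≠ 0) :
    HR D L ρ a * YR D L ρ t = YR D L ρ ((a ^ 2)⁻¹ * t) * HR D L ρ a := by
  unfold HR YR
  rw [dProdL_conj_YJ hD L hL _ (fun i _ => (map_ne_zero (ρ i)).2 ha) L hL]
  congr 1
  apply YJ_congr
  intro j hj
  have : (L.map fun i => (ρ i) a ^ D.cartan i (D.neg (D.simple j)))
      = L.map fun i => if i = j then ((ρ i a) ^ 2)⁻¹ else 1 := by
    apply List.map_congr_left
    intro i hi
    rw [(hc i hi j hj).2]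
    split_ifs
    · rw [zpow_neg]; norm_cast
    · simp
  rw [this, prod_ite_eq L (orbit_nodup hD L hL hp) j hj, map_mul, map_inv₀, map_pow]

/-- the swap `n(a) x(s) = y(-a⁻² s) n(a)` -/
theorem NR_swap (hc : CartOrth D L)
    (hsw : ∀ i ∈ L, ∀ s : F, D.nMat F (D.simple i) 1 * D.x F (D.simple i) s
      = D.x F (D.neg (D.simple i)) (-s) * D.nMat F (D.simple i) 1)
    (a s : k) (ha : a ≠ 0) :
    NR D L ρ a * XR D L ρ s = YR D L ρ (-((a ^ 2)⁻¹ * s)) * NR D L ρ a := by
  have h3 : NR D L ρ (1 : k) * XR D L ρ s = YR D L ρ (-s) * NR D L ρ 1 := by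
    rw [NR_one hD L hL hp]
    unfold XR YR
    have := NJ_swap hD L hL hp (fun _ s => -s) hsw (fun i => ρ i s)
    rw [this]
    congr 2
    funext i
    rw [map_neg]
  rw [NR_eq hD L hL hp ρ a ha, mul_assoc, h3, ← mul_assoc, HR_YR hD L hL hp ρ hc a _ ha, mul_assoc,
    mul_neg]

/-- the rank one relation -/
theorem rank_one_R (i0 : ℕ) (hi0 : i0 ∈ L) (a b s c : k)
    (h : XR D L ρ a * YR D L ρ b * XR D L ρ a * XR D L ρ s
      = YR D L ρ c * (XR D L ρ a * YR D L ρ b * XR D L ρ a)) :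
    c * (1 + a * b) ^ 2 = 0 := by
  have := rank_one hD L hL hp (fun i => ρ i a) (fun i => ρ i b) (fun i => ρ i s) (fun i => ρ i c) h
    i0 hi0
  apply (ρ i0).injective
  rw [map_zero, map_mul, map_pow, map_add, map_one, map_mul]
  exact this

omit hp in
/-- a link: the torus of the orbit `(L, ρ)` acts on the orbit `(L', ρ')` through `ι(a)⁻¹` -/
theorem HR_XR_link {k' : Type*} [Field k'] (L' : List ℕ) (hL' : ∀ i ∈ L', i < D.rank)
    (ρ' : ℕ → k' →+* F) (ι : k →+* k')
    (hlink : ∀ j ∈ L', ∀ a : k, a ≠ 0 →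
      (L.map fun i => (ρ i a) ^ D.cartan i (D.simple j)).prod = (ρ' j (ι a))⁻¹)
    (a : k) (ha : a ≠ 0) (t : k') :
    HR D L ρ a * XR D L' ρ' t = XR D L' ρ' ((ι a)⁻¹ * t) * HR D L ρ a := by
  unfold HR XR
  rw [dProdL_conj_XJ hD L hL _ (fun i _ => (map_ne_zero (ρ i)).2 ha) L' hL']
  congr 1
  apply XJ_congr
  intro j hj
  rw [hlink j hj a ha, map_mul, map_inv₀]

end orbit

end Cfsg.Agent.TwRankOne
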