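import Cfsg.Agent.Lib.Lead.TwRankOne
import Cfsg.Agent.Lib.Helper5.Tw.SigmaStab
import Mathlib

/-!
# Torus relations at the level of `GL` (lead), in the shape asked for by helper5 (S2129 / S2130)
-/

set_option autoImplicit false

namespace Cfsg.Agent.TwRankOne
open Cfsg Cfsg.Lie Cfsg.Agent.Lib.Helper5.Chev Cfsg.Agent.Lib.Helper5.Tw
open scoped Matrix

variable {K : Type*} [Field K] {D : ChevalleyDatum}

/-- the torus element `∏_{i ∈ L} h_{p_i}(t_i)`, `h_r(t) = n_r(t) n_r(-1)`, as an element of `GL` -/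
def HU (hadd : AllAdd K D) (L : List ℕ) (t : ℕ → K) : GL D.Idx K :=
  (L.map fun i => nUt hadd (D.simple i) (t i) * nUt hadd (D.simple i) (-1)).prod

theorem HU_val (hD : D ∈ [chevG2, chevB2, chevD4, chevF4, chevE6, chevE7, chevE8])
    (hadd : AllAdd K D) (L : List ℕ) (hL : ∀ k ∈ L, k < D.rank) (t : ℕ → K)
    (ht : ∀ k ∈ L, t k ≠ 0) :
    ((HU hadd L t : GL D.Idx K) : Matrix D.Idx D.Idx K) = dProdL K D L t := by
  rw [← prod_hMat_eq hD L hL t ht]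
  unfold HU
  induction L with
  | nil => rfl
  | cons j L ih =>
    rw [List.map_cons, List.prod_cons, List.map_cons, List.prod_cons, Units.val_mul,
      ih (fun k hk => hL k (List.mem_cons_of_mem _ hk)) (fun k hk => ht k (List.mem_cons_of_mem _ hk)),
      Cfsg.Agent.Lib.Helper5.Tw.hMat_eq]

/-- **(R2)** at the level of `GL`: conjugation of a root element by `∏ h_{p_i}(t_i)` -/
theorem HU_conj_xU (hD : D ∈ [chevG2, chevB2, chevD4, chevF4, chevE6, chevE7, chevE8])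
    (hadd : AllAdd K D) (L : List ℕ) (hL : ∀ k ∈ L, k < D.rank) (t : ℕ → K)
    (ht : ∀ k ∈ L, t k ≠ 0) (s : ℕ) (hs : s < D.nroots) (u : K) :
    HU hadd L t * hadd.xU s u * (HU hadd L t)⁻¹
      = hadd.xU s ((L.map fun i => t i ^ (D.cartan i s)).prod * u) := by
  rw [mul_inv_eq_iff_eq_mul]
  apply Units.ext
  rw [Units.val_mul, Units.val_mul, HU_val hD hadd L hL t ht, AllAdd.xU_val, AllAdd.xU_val]
  exact dProdL_conj_x hD L hL t ht s hs u


namespace D4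

theorem cartan_table :
    chevD4.cartan 0 18 = 2 ∧ chevD4.cartan 2 18 = 0 ∧ chevD4.cartan 3 18 = 0 ∧
    chevD4.cartan 0 13 = 0 ∧ chevD4.cartan 2 13 = 2 ∧ chevD4.cartan 3 13 = 0 ∧
    chevD4.cartan 0 12 = 0 ∧ chevD4.cartan 2 12 = 0 ∧ chevD4.cartan 3 12 = 2 ∧
    chevD4.cartan 0 14 = -1 ∧ chevD4.cartan 2 14 = -1 ∧ chevD4.cartan 3 14 = -1 ∧
    chevD4.cartan 0 5 = -2 ∧ chevD4.cartan 2 5 = 0 ∧ chevD4.cartan 3 5 = 0 ∧
    chevD4.cartan 0 10 = 0 ∧ chevD4.cartan 2 10 = -2 ∧ chevD4.cartan 3 10 = 0 ∧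
    chevD4.cartan 0 11 = 0 ∧ chevD4.cartan 2 11 = 0 ∧ chevD4.cartan 3 11 = -2 ∧
    chevD4.cartan 0 9 = 1 ∧ chevD4.cartan 2 9 = 1 ∧ chevD4.cartan 3 9 = 1 ∧
    chevD4.cartan 1 18 = -1 ∧ chevD4.cartan 1 13 = -1 ∧ chevD4.cartan 1 12 = -1 ∧
    chevD4.cartan 1 14 = 2 ∧ chevD4.cartan 1 5 = 1 ∧ chevD4.cartan 1 10 = 1 ∧
    chevD4.cartan 1 11 = 1 ∧ chevD4.cartan 1 9 = -2 := by decide +kernel

/-- the action of `h_{p₁}(t 0) h_{p₃}(t 2) h_{p₄}(t 3)` on the root elements of `±p₁, ±p₃, ±p₄, ±p₂` -/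
theorem HU_A (hadd : AllAdd K chevD4) (t : ℕ → K) (h0 : t 0 ≠ 0) (h2 : t 2 ≠ 0) (h3 : t 3 ≠ 0)
    (u : K) :
    HU hadd [0, 2, 3] t * hadd.xU 18 u * (HU hadd [0, 2, 3] t)⁻¹ = hadd.xU 18 (t 0 ^ 2 * u) ∧
    HU hadd [0, 2, 3] t * hadd.xU 13 u * (HU hadd [0, 2, 3] t)⁻¹ = hadd.xU 13 (t 2 ^ 2 * u) ∧
    HU hadd [0, 2, 3] t * hadd.xU 12 u * (HU hadd [0, 2, 3] t)⁻¹ = hadd.xU 12 (t 3 ^ 2 * u) ∧
    HU hadd [0, 2, 3] t * hadd.xU 14 u * (HU hadd [0, 2, 3] t)⁻¹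
      = hadd.xU 14 ((t 0 * t 2 * t 3)⁻¹ * u) ∧
    HU hadd [0, 2, 3] t * hadd.xU 5 u * (HU hadd [0, 2, 3] t)⁻¹ = hadd.xU 5 ((t 0 ^ 2)⁻¹ * u) ∧
    HU hadd [0, 2, 3] t * hadd.xU 10 u * (HU hadd [0, 2, 3] t)⁻¹ = hadd.xU 10 ((t 2 ^ 2)⁻¹ * u) ∧
    HU hadd [0, 2, 3] t * hadd.xU 11 u * (HU hadd [0, 2, 3] t)⁻¹ = hadd.xU 11 ((t 3 ^ 2)⁻¹ * u) ∧
    HU hadd [0, 2, 3] t * hadd.xU 9 u * (HU hadd [0, 2, 3] t)⁻¹ = hadd.xU 9 (t 0 * t 2 * t 3 * u) := by
  have hL : ∀ k ∈ [0, 2, 3], k < chevD4.rank := by decide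
  have ht : ∀ k ∈ [0, 2, 3], t k ≠ 0 := by
    intro k hk
    simp only [List.mem_cons, List.not_mem_nil, or_false] at hk
    rcases hk with rfl | rfl | rfl <;> assumption
  obtain ⟨c1, c2, c3, c4, c5, c6, c7, c8, c9, c10, c11, c12, c13, c14, c15, c16, c17, c18, c19,
    c20, c21, c22, c23, c24, -⟩ := cartan_table
  have key := fun s (hs : s < chevD4.nroots) => HU_conj_xU hD4 hadd [0, 2, 3] hL t ht s hs u
  simp only [List.map_cons, List.map_nil, List.prod_cons, List.prod_nil, mul_one] at key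
  refine ⟨?_, ?_, ?_, ?_, ?_, ?_, ?_, ?_⟩
  · rw [key 18 (by decide), c1, c2, c3]
    congr 2
    first | (simp [zpow_neg]; done) | (simp [zpow_neg]; ring) | (field_simp)
  · rw [key 13 (by decide), c4, c5, c6]
    congr 2
    first | (simp [zpow_neg]; done) | (simp [zpow_neg]; ring) | (field_simp)
  · rw [key 12 (by decide), c7, c8, c9]
    congr 2
    first | (simp [zpow_neg]; done) | (simp [zpow_neg]; ring) | (field_simp)
  · rw [key 14 (by decide), c10, c11, c12]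
    congr 2
    first | (simp [zpow_neg]; done) | (simp [zpow_neg]; ring) | (field_simp)
  · rw [key 5 (by decide), c13, c14, c15]
    congr 2
    first | (simp [zpow_neg]; done) | (simp [zpow_neg]; ring) | (field_simp)
  · rw [key 10 (by decide), c16, c17, c18]
    congr 2
    first | (simp [zpow_neg]; done) | (simp [zpow_neg]; ring) | (field_simp)
  · rw [key 11 (by decide), c19, c20, c21]
    congr 2
    first | (simp [zpow_neg]; done) | (simp [zpow_neg]; ring) | (field_simp)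
  · rw [key 9 (by decide), c22, c23, c24]
    congr 2
    first | (simp [zpow_neg]; done) | (simp [zpow_neg]; ring) | (field_simp)

/-- the action of `h_{p₂}(b)` on the root elements of `±p₁, ±p₃, ±p₄, ±p₂` -/
theorem HU_B (hadd : AllAdd K chevD4) (t : ℕ → K) (h1 : t 1 ≠ 0) (u : K) :
    HU hadd [1] t * hadd.xU 18 u * (HU hadd [1] t)⁻¹ = hadd.xU 18 ((t 1)⁻¹ * u) ∧
    HU hadd [1] t * hadd.xU 13 u * (HU hadd [1] t)⁻¹ = hadd.xU 13 ((t 1)⁻¹ * u) ∧
    HU hadd [1] t * hadd.xU 12 u * (HU hadd [1] t)⁻¹ = hadd.xU 12 ((t 1)⁻¹ * u) ∧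
    HU hadd [1] t * hadd.xU 14 u * (HU hadd [1] t)⁻¹ = hadd.xU 14 (t 1 ^ 2 * u) ∧
    HU hadd [1] t * hadd.xU 5 u * (HU hadd [1] t)⁻¹ = hadd.xU 5 (t 1 * u) ∧
    HU hadd [1] t * hadd.xU 10 u * (HU hadd [1] t)⁻¹ = hadd.xU 10 (t 1 * u) ∧
    HU hadd [1] t * hadd.xU 11 u * (HU hadd [1] t)⁻¹ = hadd.xU 11 (t 1 * u) ∧
    HU hadd [1] t * hadd.xU 9 u * (HU hadd [1] t)⁻¹ = hadd.xU 9 ((t 1 ^ 2)⁻¹ * u) := by
  have hL : ∀ k ∈ [1], k < chevD4.rank := by decide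
  have ht : ∀ k ∈ [1], t k ≠ 0 := by
    intro k hk
    simp only [List.mem_cons, List.not_mem_nil, or_false] at hk
    subst hk; assumption
  obtain ⟨-, -, -, -, -, -, -, -, -, -, -, -, -, -, -, -, -, -, -, -, -, -, -, -, c1, c2, c3, c4,
    c5, c6, c7, c8⟩ := cartan_table
  have key := fun s (hs : s < chevD4.nroots) => HU_conj_xU hD4 hadd [1] hL t ht s hs u
  simp only [List.map_cons, List.map_nil, List.prod_cons, List.prod_nil, mul_one] at key
  refine ⟨?_, ?_, ?_, ?_, ?_, ?_, ?_, ?_⟩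
  · rw [key 18 (by decide), c1]
    congr 2
    first | (simp [zpow_neg]; done) | (simp [zpow_neg]; ring) | (field_simp)
  · rw [key 13 (by decide), c2]
    congr 2
    first | (simp [zpow_neg]; done) | (simp [zpow_neg]; ring) | (field_simp)
  · rw [key 12 (by decide), c3]
    congr 2
    first | (simp [zpow_neg]; done) | (simp [zpow_neg]; ring) | (field_simp)
  · rw [key 14 (by decide), c4]
    congr 2
    first | (simp [zpow_neg]; done) | (simp [zpow_neg]; ring) | (field_simp)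
  · rw [key 5 (by decide), c5]
    congr 2
    first | (simp [zpow_neg]; done) | (simp [zpow_neg]; ring) | (field_simp)
  · rw [key 10 (by decide), c6]
    congr 2
    first | (simp [zpow_neg]; done) | (simp [zpow_neg]; ring) | (field_simp)
  · rw [key 11 (by decide), c7]
    congr 2
    first | (simp [zpow_neg]; done) | (simp [zpow_neg]; ring) | (field_simp)
  · rw [key 9 (by decide), c8]
    congr 2
    first | (simp [zpow_neg]; done) | (simp [zpow_neg]; ring) | (field_simp)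

end D4

end Cfsg.Agent.TwRankOne
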