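import Mathlib
import Cfsg.Prelude.Def_Transfer
import Cfsg.Agent.H2.CosetFixedPoint

/-!
# Ward's theorem (S3796): the relative "Fitting height two" predicate and its quotient calculus
-/

set_option autoImplicit false
set_option linter.unusedVariables false
set_option linter.unusedSectionVars false

open scoped commutatorElement Pointwise

namespace Cfsg.Agent.Lib.Lead.WardA

variable {X : Type*} [Group X]

/-- `G / M` has a normal nilpotent subgroup `N / M` with nilpotent quotient -/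
def FH2 (G M : Subgroup X) : Prop :=
  ∃ N : Subgroup X, M ≤ N ∧ N ≤ G ∧ G ≤ Subgroup.normalizer (N : Set X) ∧
    (∃ k, N.lowerCentralSeries k ≤ M) ∧ ∃ k, G.lowerCentralSeries k ≤ N

theorem lcs_mono {S T : Subgroup X} (h : S ≤ T) (k : ℕ) :
    S.lowerCentralSeries k ≤ T.lowerCentralSeries k := by
  induction k with
  | zero => exact h
  | succ k ih =>
    rw [Subgroup.lowerCentralSeries_succ, Subgroup.lowerCentralSeries_succ]
    exact Subgroup.commutator_mono ih h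

theorem lcs_le_of_le {S : Subgroup X} {k l : ℕ} (h : k ≤ l) :
    S.lowerCentralSeries l ≤ S.lowerCentralSeries k :=
  Subgroup.lowerCentralSeries_antitone S h

theorem mem_normalizer_inf {N₁ N₂ : Subgroup X} {g : X}
    (h₁ : g ∈ Subgroup.normalizer (N₁ : Set X)) (h₂ : g ∈ Subgroup.normalizer (N₂ : Set X)) :
    g ∈ Subgroup.normalizer ((N₁ ⊓ N₂ : Subgroup X) : Set X) := by
  rw [Subgroup.mem_normalizer_iff] at h₁ h₂ ⊢
  intro x
  rw [Subgroup.mem_inf, Subgroup.mem_inf, h₁ x, h₂ x]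

theorem FH2_inf {G M₁ M₂ : Subgroup X} (h₁ : FH2 G M₁) (h₂ : FH2 G M₂) : FH2 G (M₁ ⊓ M₂) := by
  obtain ⟨N₁, hM₁, hN₁, hn₁, ⟨k₁, hk₁⟩, ⟨l₁, hl₁⟩⟩ := h₁
  obtain ⟨N₂, hM₂, hN₂, hn₂, ⟨k₂, hk₂⟩, ⟨l₂, hl₂⟩⟩ := h₂
  refine ⟨N₁ ⊓ N₂, inf_le_inf hM₁ hM₂, inf_le_left.trans hN₁,
    fun g hg => mem_normalizer_inf (hn₁ hg) (hn₂ hg), ⟨max k₁ k₂, ?_⟩, ⟨max l₁ l₂, ?_⟩⟩
  · apply le_inf
    · exact (lcs_le_of_le (le_max_left k₁ k₂)).trans ((lcs_mono inf_le_left k₁).trans hk₁)
    · exact (lcs_le_of_le (le_max_right k₁ k₂)).trans ((lcs_mono inf_le_right k₂).trans hk₂)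
  · apply le_inf
    · exact (lcs_le_of_le (le_max_left l₁ l₂)).trans hl₁
    · exact (lcs_le_of_le (le_max_right l₁ l₂)).trans hl₂

/-- transfer from the quotient group -/
theorem FH2_of_quotient (G M : Subgroup X) [M.Normal] (hMG : M ≤ G)
    (h : FH2 (G.map (QuotientGroup.mk' M)) ⊥) : FH2 G M := by
  obtain ⟨N', -, hN'G, hn, ⟨k, hk⟩, ⟨l, hl⟩⟩ := h
  have hsurj : Function.Surjective (QuotientGroup.mk' M) := QuotientGroup.mk'_surjective M
  refine ⟨N'.comap (QuotientGroup.mk' M), ?_, ?_, ?_, ⟨k, ?_⟩, ⟨l, ?_⟩⟩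
  · intro m hm
    rw [Subgroup.mem_comap]
    have : QuotientGroup.mk' M m = 1 := (QuotientGroup.eq_one_iff m).2 hm
    rw [this]; exact N'.one_mem
  · intro x hx
    rw [Subgroup.mem_comap] at hx
    obtain ⟨g, hg, hgx⟩ := Subgroup.mem_map.1 (hN'G hx)
    have h1 : g⁻¹ * x ∈ M := by
      rw [← QuotientGroup.eq]
      exact hgx
    have : x = g * (g⁻¹ * x) := by group
    rw [this]
    exact G.mul_mem hg (hMG h1)
  · intro g hg
    have h1 := hn (Subgroup.mem_map_of_mem (QuotientGroup.mk' M) hg)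
    rw [Subgroup.mem_normalizer_iff] at h1 ⊢
    intro x
    rw [Subgroup.mem_comap, Subgroup.mem_comap, h1 (QuotientGroup.mk' M x)]
    simp only [map_mul, map_inv]
  · intro x hx
    have h1 : QuotientGroup.mk' M x ∈ ((N'.comap (QuotientGroup.mk' M)).lowerCentralSeries k).map
        (QuotientGroup.mk' M) := Subgroup.mem_map_of_mem _ hx
    rw [Subgroup.map_lowerCentralSeries, Subgroup.map_comap_eq_self_of_surjective hsurj] at h1
    have h2 := hk h1
    rw [Subgroup.mem_bot] at h2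
    exact (QuotientGroup.eq_one_iff x).1 h2
  · intro x hx
    rw [Subgroup.mem_comap]
    apply hl
    rw [← Subgroup.map_lowerCentralSeries]
    exact Subgroup.mem_map_of_mem _ hx

/-- coprime action: no fixed points on the quotient -/
theorem fix_quotient [Finite X] {p : ℕ} [Fact p.Prime] (G A M : Subgroup X) [M.Normal]
    (hMG : M ≤ G) (hA : IsPGroup p A) (hpM : ¬ p ∣ Nat.card M)
    (hfix : G ⊓ Subgroup.centralizer (A : Set X) = ⊥) :
    (G.map (QuotientGroup.mk' M)) ⊓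
      Subgroup.centralizer ((A.map (QuotientGroup.mk' M) : Subgroup (X ⧸ M)) : Set (X ⧸ M)) = ⊥ := by
  rw [eq_bot_iff]
  rintro y' ⟨hy'G, hy'C⟩
  obtain ⟨y, hyG, rfl⟩ := Subgroup.mem_map.1 hy'G
  rw [Subgroup.mem_bot]
  have hAst : A ≤ Cfsg.Agent.H2.cosetStab M y := by
    intro a ha
    refine ⟨?_, ?_⟩
    · rw [Subgroup.normalizer_eq_top]; exact Subgroup.mem_top a
    · have h1 := Subgroup.mem_centralizer_iff.1 hy'C (QuotientGroup.mk' M a)
        (Subgroup.mem_map_of_mem _ ha)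
      -- mk a * mk y = mk y * mk a
      show y⁻¹ * a * y * a⁻¹ ∈ M
      rw [← QuotientGroup.eq_one_iff]
      have e : ((y⁻¹ * a * y * a⁻¹ : X) : X ⧸ M)
          = (QuotientGroup.mk' M y)⁻¹ * (QuotientGroup.mk' M a * QuotientGroup.mk' M y)
            * (QuotientGroup.mk' M a)⁻¹ := by
        simp only [QuotientGroup.mk'_apply, QuotientGroup.mk_mul, QuotientGroup.mk_inv, mul_assoc]
      rw [e, h1]
      group
  obtain ⟨m, hm, hfixm⟩ := Cfsg.Agent.H2.exists_mem_coset_fixed A M hA hpM y hAst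
  have h2 : y * m ∈ G ⊓ Subgroup.centralizer (A : Set X) := by
    refine Subgroup.mem_inf.2 ⟨G.mul_mem hyG (hMG hm), ?_⟩
    rw [Subgroup.mem_centralizer_iff]
    intro a ha
    have := hfixm a ha
    calc a * (y * m) = (a * (y * m) * a⁻¹) * a := by group
      _ = y * m * a := by rw [this]
  rw [hfix, Subgroup.mem_bot] at h2
  have h3 : y = m⁻¹ := eq_inv_of_mul_eq_one_left h2
  rw [h3]
  exact (QuotientGroup.eq_one_iff _).2 (M.inv_mem hm)

/-- the image of `A` in a quotient by a subgroup meeting `A` trivially has the same order -/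
theorem card_map_of_disjoint {Y : Type*} [Group Y] (f : X →* Y) (A : Subgroup X)
    (h : A ⊓ f.ker = ⊥) : Nat.card (A.map f) = Nat.card A := by
  symm
  apply Nat.card_congr
  refine Equiv.ofBijective (f.subgroupMap A) ⟨?_, f.subgroupMap_surjective A⟩
  intro a b hab
  have h1 : f (a : X) = f (b : X) := congrArg Subtype.val hab
  have h2 : (a : X)⁻¹ * b ∈ A ⊓ f.ker := by
    refine Subgroup.mem_inf.2 ⟨A.mul_mem (A.inv_mem a.2) b.2, ?_⟩
    rw [MonoidHom.mem_ker, map_mul, map_inv, h1, inv_mul_cancel]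
  rw [h, Subgroup.mem_bot, inv_mul_eq_one] at h2
  exact Subtype.ext h2

theorem isElementaryAbelian_map {Y : Type*} [Group Y] (f : X →* Y) {p : ℕ} {A : Subgroup X}
    (hA : Cfsg.IsElementaryAbelian p A) : Cfsg.IsElementaryAbelian p (A.map f) := by
  obtain ⟨hc, he⟩ := hA
  refine ⟨⟨⟨?_⟩⟩, ?_⟩
  · rintro ⟨_, a, ha, rfl⟩ ⟨_, b, hb, rfl⟩
    apply Subtype.ext
    show f a * f b = f b * f a
    have : (⟨a, ha⟩ : A) * ⟨b, hb⟩ = ⟨b, hb⟩ * ⟨a, ha⟩ := hc.is_comm.comm _ _
    have h2 : a * b = b * a := congrArg Subtype.val this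
    rw [← map_mul, h2, map_mul]
  · rintro _ ⟨a, ha, rfl⟩
    rw [← map_pow, he a ha, map_one]

end Cfsg.Agent.Lib.Lead.WardA
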