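import Mathlib
import Cfsg.Agent.Lib.Lead.WardA
import Cfsg.Agent.Lib.Lead.SylowAmb
import Cfsg.Agent.H2.BGU.Fit
import Cfsg.Agent.H1.Card

/-!
# Ward's theorem (S3796): numeric Sylow lemmas and a Gaschütz-type lemma
-/

set_option autoImplicit false
set_option linter.unusedVariables false
set_option linter.unusedSectionVars false
set_option linter.style.haveILetI false

open scoped commutatorElement Pointwise

namespace Cfsg.Agent.Lib.Lead.WardB

open Cfsg.Agent.Lib.Lead.WardA Cfsg.Agent.H2.BGU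

universe u

variable {X : Type u} [Group X] [Finite X]

/-- existence of Sylow subgroups in ambient form -/
theorem exists_sylow_in (q : ℕ) [Fact q.Prime] (K : Subgroup X) :
    ∃ S : Subgroup X, S ≤ K ∧ Nat.card S = q ^ (Nat.card K).factorization q := by
  obtain ⟨P⟩ : Nonempty (Sylow q K) := inferInstance
  refine ⟨(P : Subgroup K).map K.subtype, Subgroup.map_subtype_le _, ?_⟩
  rw [Subgroup.card_map_of_injective K.subtype_injective]
  exact P.card_eq_multiplicity

/-- a subgroup of `K` containing a Sylow `q`-subgroup of `K` for every prime `q` is `K` -/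
theorem le_of_forall_sylow_le (K L : Subgroup X) (hLK : L ≤ K)
    (h : ∀ q : ℕ, q.Prime → ∃ S : Subgroup X, S ≤ L ∧ Nat.card S = q ^ (Nat.card K).factorization q) :
    K ≤ L := by
  have hdvd : Nat.card K ∣ Nat.card L := by
    rw [← Nat.factorization_le_iff_dvd Nat.card_pos.ne' Nat.card_pos.ne']
    intro q
    by_cases hq : q.Prime
    · obtain ⟨S, hSL, hS⟩ := h q hq
      have h1 : Nat.card S ∣ Nat.card L := Subgroup.card_dvd_of_le hSL
      rw [hS] at h1
      exact (hq.pow_dvd_iff_le_factorization Nat.card_pos.ne').1 h1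
    · rw [Nat.factorization_eq_zero_of_not_prime _ hq]
      exact Nat.zero_le _
  have hle : Nat.card K ≤ Nat.card L := Nat.le_of_dvd Nat.card_pos hdvd
  exact (Subgroup.eq_of_le_of_card_ge hLK hle).ge

theorem isPGroup_of_card_eq {q : ℕ} [Fact q.Prime] {S : Subgroup X} {n : ℕ}
    (h : Nat.card S = q ^ n) : IsPGroup q S := IsPGroup.of_card h

/-- a Sylow subgroup of `H` lying in `K ≤ H` is a Sylow subgroup of `K` -/
theorem card_sylow_of_le {q : ℕ} [hq : Fact q.Prime] {T K H : Subgroup X} (hTK : T ≤ K) (hKH : K ≤ H)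
    (hT : Nat.card T = q ^ (Nat.card H).factorization q) :
    Nat.card T = q ^ (Nat.card K).factorization q := by
  rw [hT]
  congr 1
  apply le_antisymm
  · have h1 : Nat.card T ∣ Nat.card K := Subgroup.card_dvd_of_le hTK
    rw [hT] at h1
    exact (hq.out.pow_dvd_iff_le_factorization Nat.card_pos.ne').1 h1
  · exact (Nat.factorization_le_iff_dvd Nat.card_pos.ne' Nat.card_pos.ne').2
      (Subgroup.card_dvd_of_le hKH) q

/-- the order of a subgroup containing the kernel -/
theorem card_eq_card_ker_mul {Y : Type*} [Group Y] (f : X →* Y) (K : Subgroup X) (h : f.ker ≤ K) :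
    Nat.card K = Nat.card (K.map f) * Nat.card f.ker := by
  rw [← Subgroup.relIndex_ker (K := K) f]
  exact Cfsg.Agent.H1.card_eq_relIndex_mul_card h

/-- if `K / D` is a `q`-group and `P` is a Sylow `q`-subgroup of `K`, then `K = P D` -/
theorem le_sylow_sup_of_quotient_pgroup {q : ℕ} [hq : Fact q.Prime] (K P D : Subgroup X) [D.Normal]
    (hDK : D ≤ K) (hPK : P ≤ K) (hP : Nat.card P = q ^ (Nat.card K).factorization q)
    (hquot : IsPGroup q (K.map (QuotientGroup.mk' D))) : K ≤ P ⊔ D := by
  apply le_of_forall_sylow_le K (P ⊔ D) (sup_le hPK hDK)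
  intro r hr
  by_cases hrq : r = q
  · subst hrq
    exact ⟨P, le_sup_left, hP⟩
  · haveI : Fact r.Prime := ⟨hr⟩
    obtain ⟨S, hSD, hS⟩ := exists_sylow_in r D
    refine ⟨S, hSD.trans le_sup_right, ?_⟩
    rw [hS]
    congr 1
    have hker : (QuotientGroup.mk' D).ker ≤ K := by rw [QuotientGroup.ker_mk']; exact hDK
    have h1 := card_eq_card_ker_mul (QuotientGroup.mk' D) K hker
    rw [QuotientGroup.ker_mk'] at h1
    obtain ⟨n, hn⟩ := hquot.exists_card_eq
    rw [h1, hn, Nat.factorization_mul (pow_pos hq.out.pos n).ne' Nat.card_pos.ne']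
    simp only [Finsupp.coe_add, Pi.add_apply]
    rw [Nat.factorization_pow]
    simp only [Finsupp.coe_smul, Pi.smul_apply, smul_eq_mul]
    rw [Nat.Prime.factorization hq.out, Finsupp.single_apply, if_neg (fun h => hrq h.symm)]
    simp

theorem isNilpotent_of_le {S T : Subgroup X} (h : S ≤ T) (hT : Group.IsNilpotent T) :
    ∃ k, S.lowerCentralSeries k = ⊥ := by
  obtain ⟨k, hk⟩ := (Subgroup.isNilpotent_iff_lowerCentralSeries T).1 hT
  exact ⟨k, le_bot_iff.1 ((lcs_mono h k).trans hk.le)⟩

/-- a Gaschütz-type lemma: if `N / D` is nilpotent with `D` a non-generating normal subgroup, then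
`N` is nilpotent -/
theorem gaschutz_in (G N D : Subgroup X) [D.Normal] (hDN : D ≤ N) (hNG : N ≤ G)
    (hn : G ≤ Subgroup.normalizer (N : Set X))
    (hnongen : ∀ K : Subgroup X, K ≤ G → G ≤ K ⊔ D → G ≤ K)
    (hDnil : Group.IsNilpotent D)
    (hnil : ∃ k, N.lowerCentralSeries k ≤ D) : ∃ k, N.lowerCentralSeries k = ⊥ := by
  classical
  set mk := QuotientGroup.mk' D with hmk
  have hsurj : Function.Surjective mk := QuotientGroup.mk'_surjective D
  have hker : mk.ker = D := QuotientGroup.ker_mk' D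
  set N' : Subgroup (X ⧸ D) := N.map mk with hN'
  have hN'nil : Group.IsNilpotent N' := by
    rw [Subgroup.isNilpotent_iff_lowerCentralSeries]
    obtain ⟨k, hk⟩ := hnil
    refine ⟨k, ?_⟩
    rw [eq_bot_iff, hN', ← Subgroup.map_lowerCentralSeries]
    rintro _ ⟨x, hx, rfl⟩
    rw [Subgroup.mem_bot]
    exact (QuotientGroup.eq_one_iff x).2 (hk hx)
  have hDG : D ≤ G := hDN.trans hNG
  have hDF : D ≤ Cfsg.fittingOf G :=
    le_fittingOf hDG (by rw [Subgroup.normalizer_eq_top]; exact le_top) hDnil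
  have hcomapN : N'.comap mk = N := by
    rw [hN', Subgroup.comap_map_eq, hker]
    exact sup_eq_left.2 hDN
  have hG'n : G.map mk ≤ Subgroup.normalizer (N' : Set (X ⧸ D)) := by
    rintro _ ⟨g, hg, rfl⟩
    have h1 := hn hg
    rw [Subgroup.mem_normalizer_iff] at h1 ⊢
    intro y
    obtain ⟨x, rfl⟩ := hsurj y
    constructor
    · rintro ⟨n, hnN, hnx⟩
      exact ⟨g * n * g⁻¹, (h1 n).1 hnN, by rw [map_mul, map_mul, map_inv, hnx]⟩
    · rintro ⟨n, hnN, hnx⟩
      refine ⟨g⁻¹ * n * g, ?_, ?_⟩
      · have := (h1 (g⁻¹ * n * g)).2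
        apply this
        have e : g * (g⁻¹ * n * g) * g⁻¹ = n := by group
        rw [e]; exact hnN
      · rw [map_mul, map_mul, map_inv, hnx]; group
  -- each `K_q` lies in `F(G)`
  have hK : ∀ q : ℕ, q.Prime → (Oq q N').comap mk ≤ Cfsg.fittingOf G := by
    intro q hq
    haveI : Fact q.Prime := ⟨hq⟩
    set K := (Oq q N').comap mk with hKdef
    have hDK : D ≤ K := by
      intro d hd
      rw [hKdef, Subgroup.mem_comap]
      have : mk d = 1 := (QuotientGroup.eq_one_iff d).2 hd
      rw [this]; exact Subgroup.one_mem _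
    have hKN : K ≤ N := by
      rw [← hcomapN]
      exact Subgroup.comap_mono (Oq_le q N')
    have hKG : K ≤ G := hKN.trans hNG
    have hGK : G ≤ Subgroup.normalizer (K : Set X) := by
      intro g hg
      have h1 : mk g ∈ Subgroup.normalizer (Oq q N' : Set (X ⧸ D)) :=
        normalizer_le_normalizer_Oq q N' (hG'n (Subgroup.mem_map_of_mem mk hg))
      rw [Subgroup.mem_normalizer_iff] at h1 ⊢
      intro x
      rw [hKdef, Subgroup.mem_comap, Subgroup.mem_comap, h1 (mk x)]
      simp only [map_mul, map_inv]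
    obtain ⟨P, hPK, hP⟩ := exists_sylow_in q K
    have hKmap : K.map mk = Oq q N' := Subgroup.map_comap_eq_self_of_surjective hsurj _
    have hKPD : K ≤ P ⊔ D := by
      apply le_sylow_sup_of_quotient_pgroup K P D hDK hPK hP
      rw [show QuotientGroup.mk' D = mk from rfl, hKmap]
      exact isPGroup_Oq hq N'
    have hfr := Cfsg.Agent.Lib.Lead.SylowAmb.frattini_in q G K P hKG hGK hPK hP
    have hGP : G ≤ Subgroup.normalizer (P : Set X) := by
      have h1 : G ≤ (G ⊓ Subgroup.normalizer (P : Set X)) ⊔ D := by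
        intro g hg
        obtain ⟨a, ha, y, hyG, hyN, rfl⟩ := hfr g hg
        have ha' := hKPD ha
        have hPle : P ≤ G ⊓ Subgroup.normalizer (P : Set X) :=
          le_inf (hPK.trans hKG) Subgroup.le_normalizer
        have h2 : P ⊔ D ≤ (G ⊓ Subgroup.normalizer (P : Set X)) ⊔ D :=
          sup_le (hPle.trans le_sup_left) le_sup_right
        -- a * y with a ∈ (…) ⊔ D, y ∈ G ⊓ N(P): use normality of D
        have h3 : a * y = y * (y⁻¹ * a * y) := by group
        have h4 : y⁻¹ * a * y ∈ (G ⊓ Subgroup.normalizer (P : Set X)) ⊔ D := by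
          -- conjugate: a ∈ P ⊔ D; write via sup being a subgroup containing y
          have hy' : y ∈ (G ⊓ Subgroup.normalizer (P : Set X)) ⊔ D :=
            Subgroup.mem_sup_left (Subgroup.mem_inf.2 ⟨hyG, hyN⟩)
          exact Subgroup.mul_mem _ (Subgroup.mul_mem _ (Subgroup.inv_mem _ hy') (h2 ha')) hy'
        rw [h3]
        exact Subgroup.mul_mem _ (Subgroup.mem_sup_left (Subgroup.mem_inf.2 ⟨hyG, hyN⟩)) h4
      exact (hnongen _ inf_le_left h1).trans inf_le_right
    have hPF : P ≤ Cfsg.fittingOf G :=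
      le_fittingOf (hPK.trans hKG) hGP (isPGroup_of_card_eq hP).isNilpotent
    exact hKPD.trans (sup_le hPF hDF)
  have hNF : N ≤ Cfsg.fittingOf G := by
    have h1 : N' ≤ (Cfsg.fittingOf G).map mk := by
      apply le_of_forall_Oq_le hN'nil
      intro q hq y hy
      obtain ⟨x, rfl⟩ := hsurj y
      exact Subgroup.mem_map_of_mem mk (hK q hq (Subgroup.mem_comap.2 hy))
    intro x hx
    obtain ⟨f, hf, hfx⟩ := h1 (Subgroup.mem_map_of_mem mk hx)
    have h2 : f⁻¹ * x ∈ D := by
      rw [← QuotientGroup.eq]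
      exact hfx
    have : x = f * (f⁻¹ * x) := by group
    rw [this]
    exact Subgroup.mul_mem _ hf (hDF h2)
  exact isNilpotent_of_le hNF (fittingOf_nilpotent G)

end Cfsg.Agent.Lib.Lead.WardB
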