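import Mathlib
import Cfsg.Agent.Lib.Lead.WardB
import Cfsg.Agent.H1.SylowMore
import Cfsg.Agent.H2.HyperplaneGen

/-!
# Ward's theorem (S3796): a nilpotency criterion (Lemma N)

A solvable group in which, for all primes `s ≠ t`, the `t`-subgroups centralize `O_s`, is nilpotent.
-/

set_option autoImplicit false
set_option linter.unusedVariables false
set_option linter.unusedSectionVars false
set_option linter.style.haveILetI false

open scoped commutatorElement Pointwise

namespace Cfsg.Agent.Lib.Lead.WardC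

open Cfsg.Agent.Lib.Lead.WardA Cfsg.Agent.Lib.Lead.WardB Cfsg.Agent.H2.BGU

universe u

variable {Y : Type u} [Group Y] [Finite Y]

theorem ward_norm_cent (D : Subgroup Y) :
    Subgroup.normalizer (D : Set Y) ≤
      Subgroup.normalizer ((Subgroup.centralizer (D : Set Y) : Subgroup Y) : Set Y) := by
  have key : ∀ g ∈ Subgroup.normalizer (D : Set Y), ∀ c ∈ Subgroup.centralizer (D : Set Y),
      g * c * g⁻¹ ∈ Subgroup.centralizer (D : Set Y) := by
    intro g hg c hc
    rw [Subgroup.mem_centralizer_iff] at hc ⊢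
    intro d hd
    have h1 : g⁻¹ * d * g ∈ D := by
      have := (Subgroup.mem_normalizer_iff.1 (Subgroup.inv_mem _ hg) d).1 hd
      simpa using this
    have h2 := hc _ h1
    calc d * (g * c * g⁻¹) = g * ((g⁻¹ * d * g) * c) * g⁻¹ := by group
      _ = g * (c * (g⁻¹ * d * g)) * g⁻¹ := by rw [h2]
      _ = g * c * g⁻¹ * d := by group
  intro g hg
  rw [Subgroup.mem_normalizer_iff]
  intro x
  constructor
  · exact key g hg x
  · intro hx
    have := key g⁻¹ (Subgroup.inv_mem _ hg) _ hx
    have e : g⁻¹ * (g * x * g⁻¹) * g⁻¹⁻¹ = x := by group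
    rwa [e] at this

/-- the key step of Lemma N: the Sylow subgroups are normal -/
theorem sylow_normal_of_central_cores (H : Subgroup Y) [Group.IsSolvable H]
    (hyp : ∀ s t : ℕ, s.Prime → t.Prime → s ≠ t → ∀ S : Subgroup Y, S ≤ H → IsPGroup t S →
      S ≤ Subgroup.centralizer (Oq s (Cfsg.fittingOf H) : Set Y))
    (t : ℕ) [ht : Fact t.Prime] (T : Subgroup Y) (hTH : T ≤ H)
    (hT : Nat.card T = t ^ (Nat.card H).factorization t) :
    H ≤ Subgroup.normalizer (T : Set Y) := by
  classical
  set F := Cfsg.fittingOf H with hF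
  have hFnil : Group.IsNilpotent F := fittingOf_nilpotent H
  set Fp : Subgroup Y := ⨆ s : {s : ℕ // s.Prime ∧ s ≠ t}, Oq (s : ℕ) F with hFp
  set K : Subgroup Y := H ⊓ Subgroup.centralizer (Fp : Set Y) with hK
  have hTp : IsPGroup t T := isPGroup_of_card_eq hT
  have hKH : K ≤ H := inf_le_left
  have hHFp : H ≤ Subgroup.normalizer (Fp : Set Y) := by
    apply Cfsg.Agent.H2.HyperGen.le_normalizer_iSup
    intro s
    exact (le_normalizer_fittingOf H).trans (normalizer_le_normalizer_Oq _ _)
  have hHK : H ≤ Subgroup.normalizer (K : Set Y) := by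
    intro h hh
    exact mem_normalizer_inf (Subgroup.le_normalizer hh) (ward_norm_cent Fp (hHFp hh))
  have hOle : ∀ s : ℕ, s.Prime → s ≠ t → Oq s F ≤ Fp := by
    intro s hs hst
    exact le_iSup (fun s : {s : ℕ // s.Prime ∧ s ≠ t} => Oq (s : ℕ) F) ⟨s, hs, hst⟩
  have hTK : T ≤ K := by
    refine le_inf hTH ?_
    rw [Subgroup.le_centralizer_iff]
    apply iSup_le
    rintro ⟨s, hs, hst⟩
    rw [← Subgroup.le_centralizer_iff]
    exact hyp s t hs ht.out hst T hTH hTp
  -- `t'`-subgroups of `K` are central in `K`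
  have hcentral : ∀ q : ℕ, q.Prime → q ≠ t → ∀ S : Subgroup Y, S ≤ K → IsPGroup q S →
      S ≤ K ⊓ Subgroup.centralizer (K : Set Y) := by
    intro q hq hqt S hSK hS
    haveI : Fact q.Prime := ⟨hq⟩
    have hSH : S ≤ H := hSK.trans hKH
    have h1 : ∀ s : ℕ, s.Prime → Oq s F ≤ Subgroup.centralizer (S : Set Y) := by
      intro s hs
      rw [Subgroup.le_centralizer_iff]
      by_cases hst : s = t
      · subst hst
        exact hyp s q hs hq (fun h => hqt h.symm) S hSH hS
      · exact (hSK.trans inf_le_right).trans (Subgroup.centralizer_le (hOle s hs hst))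
    have h2 : F ≤ Subgroup.centralizer (S : Set Y) := le_of_forall_Oq_le hFnil h1
    have h3 : S ≤ F := by
      exact le_trans (le_inf hSH (Subgroup.le_centralizer_iff.1 h2)) (inf_centralizer_fittingOf_le H)
    have h4 : S ≤ Oq q F := le_Oq_of_isPGroup hFnil h3 hS
    refine le_inf hSK ?_
    rw [Subgroup.le_centralizer_iff]
    exact (inf_le_right : K ≤ _).trans
      (Subgroup.centralizer_le ((h4.trans (hOle q hq hqt))))
  set C : Subgroup Y := K ⊓ Subgroup.centralizer (K : Set Y) with hC
  have hKTC : K ≤ T ⊔ C := by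
    apply le_of_forall_sylow_le K (T ⊔ C) (sup_le hTK inf_le_left)
    intro q hq
    by_cases hqt : q = t
    · subst hqt
      exact ⟨T, le_sup_left, card_sylow_of_le hTK hKH hT⟩
    · haveI : Fact q.Prime := ⟨hq⟩
      obtain ⟨S, hSK, hS⟩ := exists_sylow_in q K
      exact ⟨S, (hcentral q hq hqt S hSK (isPGroup_of_card_eq hS)).trans le_sup_right, hS⟩
  have hKN : K ≤ Subgroup.normalizer (T : Set Y) := by
    refine hKTC.trans (sup_le Subgroup.le_normalizer ?_)
    intro c hc
    have h1 : c ∈ Subgroup.centralizer (T : Set Y) :=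
      Subgroup.centralizer_le hTK hc.2
    exact Subgroup.centralizer_le_normalizer (T : Set Y) h1
  have hfr := Cfsg.Agent.Lib.Lead.SylowAmb.frattini_in t H K T hKH hHK hTK
    (card_sylow_of_le hTK hKH hT)
  intro h hh
  obtain ⟨a, ha, y, hyH, hyN, rfl⟩ := hfr h hh
  exact Subgroup.mul_mem _ (hKN ha) hyN

/-- **Lemma N** -/
theorem nilpotent_of_central_cores (H : Subgroup Y) [Group.IsSolvable H]
    (hyp : ∀ s t : ℕ, s.Prime → t.Prime → s ≠ t → ∀ S : Subgroup Y, S ≤ H → IsPGroup t S →
      S ≤ Subgroup.centralizer (Oq s (Cfsg.fittingOf H) : Set Y)) :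
    Group.IsNilpotent H := by
  have q := (Group.isNilpotent_of_finite_tfae (G := H)).out 0 3
  rw [q]
  intro p hp P
  have h1 := sylow_normal_of_central_cores H hyp p ((P : Subgroup H).map H.subtype)
    (Subgroup.map_subtype_le _)
    (by rw [Subgroup.card_map_of_injective H.subtype_injective]; exact P.card_eq_multiplicity)
  have h2 := Subgroup.normal_subgroupOf_of_le_normalizer h1
  have h3 : ((P : Subgroup H).map H.subtype).subgroupOf H = (P : Subgroup H) :=
    Subgroup.comap_map_eq_self_of_injective H.subtype_injective _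
  rwa [h3] at h2

/-- one centralizing Sylow subgroup suffices -/
theorem centralizer_of_exists_sylow (H O : Subgroup Y) (hOn : H ≤ Subgroup.normalizer (O : Set Y))
    (t : ℕ) [ht : Fact t.Prime] (T : Subgroup Y) (hTH : T ≤ H)
    (hT : Nat.card T = t ^ (Nat.card H).factorization t)
    (hTO : T ≤ Subgroup.centralizer (O : Set Y)) :
    ∀ S : Subgroup Y, S ≤ H → IsPGroup t S → S ≤ Subgroup.centralizer (O : Set Y) := by
  intro S hSH hS
  have hidx : ¬ t ∣ T.relIndex H := by
    intro hdvd
    have h1 := Cfsg.Agent.H1.card_eq_relIndex_mul_card hTH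
    obtain ⟨c, hc⟩ := hdvd
    rw [hc, hT] at h1
    have h3 : ∀ v : ℕ, (Nat.card H).factorization t = v → Nat.card H = t * c * t ^ v → False := by
      intro v hv h1'
      have h2 : t ^ (v + 1) ∣ Nat.card H := by
        rw [h1', pow_succ]
        exact ⟨c, by ring⟩
      have h3 := (ht.out.pow_dvd_iff_le_factorization Nat.card_pos.ne').1 h2
      omega
    exact h3 _ rfl h1
  obtain ⟨k, hk, hSk⟩ := Cfsg.Agent.H1.exists_le_map_conj_of_pgroup H T S hTH
    (isPGroup_of_card_eq hT) hidx hSH hS
  intro x hx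
  obtain ⟨y, hy, hyx⟩ := hSk hx
  have hyx' : k * y * k⁻¹ = x := hyx
  rw [Subgroup.mem_centralizer_iff]
  intro o ho
  have h1 : k⁻¹ * o * k ∈ O := by
    have := (Subgroup.mem_normalizer_iff.1 (hOn (H.inv_mem hk)) o).1 ho
    simpa using this
  have h2 := Subgroup.mem_centralizer_iff.1 (hTO hy) _ h1
  rw [← hyx']
  calc o * (k * y * k⁻¹) = k * ((k⁻¹ * o * k) * y) * k⁻¹ := by group
    _ = k * (y * (k⁻¹ * o * k)) * k⁻¹ := by rw [h2]
    _ = k * y * k⁻¹ * o := by group

end Cfsg.Agent.Lib.Lead.WardC
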