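import Mathlib
import Cfsg.Agent.Lib.Lead.WardC
import Cfsg.Agent.H2.Equivariant
import Cfsg.Agent.S0033

/-!
# Ward's theorem (S3796): the centralizers of the subgroups of order `p` of `A` are nilpotent
-/

set_option autoImplicit false
set_option linter.unusedVariables false
set_option linter.unusedSectionVars false
set_option linter.style.haveILetI false

open scoped commutatorElement Pointwise

namespace Cfsg.Agent.Lib.Lead.WardD

open Cfsg.Agent.Lib.Lead.WardA Cfsg.Agent.Lib.Lead.WardB Cfsg.Agent.Lib.Lead.WardC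
  Cfsg.Agent.H2.BGU

universe u

variable {X : Type u} [Group X] [Finite X]

theorem conj_pow_apply (C : Subgroup X) (a : X) (ha : a ∈ Subgroup.normalizer (C : Set X)) (n : ℕ)
    (x : C) : (((Cfsg.Agent.H2.conjNormalizerEquiv C a ha) ^ n) x : X) = a ^ n * x * (a ^ n)⁻¹ := by
  induction n generalizing x with
  | zero => simp
  | succ n ih =>
    rw [pow_succ', MulAut.mul_apply, Cfsg.Agent.H2.conjNormalizerEquiv_apply, ih, pow_succ']
    group

/-- elements of `A` commute -/
theorem comm_of_mem {p : ℕ} {A : Subgroup X} (hA : Cfsg.IsElementaryAbelian p A) {a b : X}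
    (ha : a ∈ A) (hb : b ∈ A) : a * b = b * a := by
  have : (⟨a, ha⟩ : A) * ⟨b, hb⟩ = ⟨b, hb⟩ * ⟨a, ha⟩ := hA.1.is_comm.comm _ _
  exact congrArg Subtype.val this

/-- `C_G(B)` is nilpotent for `B ≤ A` of order `p` -/
theorem centralizer_nilpotent {p : ℕ} [hp : Fact p.Prime] (G A B : Subgroup X)
    (hAG : A ≤ Subgroup.normalizer (G : Set X)) (hA : Cfsg.IsElementaryAbelian p A)
    (hAcard : Nat.card A = p ^ 2) (hfix : G ⊓ Subgroup.centralizer (A : Set X) = ⊥)
    (hBA : B ≤ A) (hB : Nat.card B = p) :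
    Group.IsNilpotent ↥(G ⊓ Subgroup.centralizer (B : Set X)) := by
  classical
  set C : Subgroup X := G ⊓ Subgroup.centralizer (B : Set X) with hC
  -- an element of `A` outside `B`
  obtain ⟨a, haA, haB⟩ : ∃ a ∈ A, a ∉ B := by
    by_contra hcon
    push_neg at hcon
    have h1 : A ≤ B := fun a ha => hcon a ha
    have h2 := Subgroup.card_le_of_le h1
    rw [hAcard, hB] at h2
    have := hp.out.one_lt
    nlinarith
  have haCB : a ∈ Subgroup.centralizer (B : Set X) := by
    rw [Subgroup.mem_centralizer_iff]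
    intro b hb
    exact comm_of_mem hA (hBA hb) haA
  have haC : a ∈ Subgroup.normalizer (C : Set X) :=
    mem_normalizer_inf (hAG haA)
      (ward_norm_cent B (Subgroup.centralizer_le_normalizer (B : Set X) haCB))
  set φ := Cfsg.Agent.H2.conjNormalizerEquiv C a haC with hφ
  have hAgen : A ≤ B ⊔ Subgroup.zpowers a := by
    have hle : B ⊔ Subgroup.zpowers a ≤ A := sup_le hBA (Subgroup.zpowers_le.2 haA)
    have hdvd1 : Nat.card B ∣ Nat.card (B ⊔ Subgroup.zpowers a : Subgroup X) :=
      Subgroup.card_dvd_of_le le_sup_left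
    have hdvd2 : Nat.card (B ⊔ Subgroup.zpowers a : Subgroup X) ∣ Nat.card A :=
      Subgroup.card_dvd_of_le hle
    rw [hAcard] at hdvd2
    rw [hB] at hdvd1
    obtain ⟨i, hi, hcard⟩ := (Nat.dvd_prime_pow hp.out).1 hdvd2
    have hne : Nat.card (B ⊔ Subgroup.zpowers a : Subgroup X) ≠ p := by
      intro h
      have h3 : B = B ⊔ Subgroup.zpowers a :=
        Subgroup.eq_of_le_of_card_ge le_sup_left (by rw [h, hB])
      apply haB
      rw [h3]
      exact Subgroup.mem_sup_right (Subgroup.mem_zpowers a)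
    have hi2 : i = 2 := by
      interval_cases i
      · rw [pow_zero] at hcard
        rw [hcard] at hdvd1
        exact absurd (Nat.le_of_dvd one_pos hdvd1) (not_le.2 hp.out.one_lt)
      · rw [pow_one] at hcard
        exact absurd hcard hne
      · rfl
    exact (Subgroup.eq_of_le_of_card_ge hle (by rw [hcard, hi2, hAcard])).ge
  have hfpf : MonoidHom.FixedPointFree ((φ : C ≃* C) : C →* C) := by
    intro c hc
    have h1 : a * (c : X) * a⁻¹ = c := congrArg Subtype.val hc
    have h1' : a * (c : X) = c * a := by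
      calc a * (c : X) = (a * c * a⁻¹) * a := by group
        _ = c * a := by rw [h1]
    have hcC : (c : X) ∈ G ∧ (c : X) ∈ Subgroup.centralizer (B : Set X) := Subgroup.mem_inf.1 c.2
    have h2 : (c : X) ∈ G ⊓ Subgroup.centralizer (A : Set X) := by
      refine Subgroup.mem_inf.2 ⟨hcC.1, ?_⟩
      have h3 : B ⊔ Subgroup.zpowers a ≤ Subgroup.centralizer ({(c : X)} : Set X) := by
        apply sup_le
        · intro b hb
          rw [Subgroup.mem_centralizer_iff]
          intro y hy
          rw [Set.mem_singleton_iff] at hy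
          rw [hy]
          exact Subgroup.mem_centralizer_iff.1 hcC.2 b hb |>.symm
        · rw [Subgroup.zpowers_le, Subgroup.mem_centralizer_iff]
          intro y hy
          rw [Set.mem_singleton_iff] at hy
          rw [hy]
          exact h1'.symm
      rw [Subgroup.mem_centralizer_iff]
      intro x hx
      have := Subgroup.mem_centralizer_iff.1 (h3 (hAgen hx)) (c : X) (Set.mem_singleton _)
      exact this.symm
    rw [hfix, Subgroup.mem_bot] at h2
    exact Subtype.ext h2
  have hpow : φ ^ p = 1 := by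
    ext x
    rw [conj_pow_apply, hA.2 a haA]
    simp
  have hdvd : orderOf φ ∣ p := orderOf_dvd_of_pow_eq_one hpow
  rcases (Nat.dvd_prime hp.out).1 hdvd with h1 | h1
  · rw [orderOf_eq_one_iff] at h1
    have hsub : Subsingleton C := by
      constructor
      intro x y
      have hx : x = 1 := hfpf x (by rw [h1]; rfl)
      have hy : y = 1 := hfpf y (by rw [h1]; rfl)
      rw [hx, hy]
    infer_instance
  · exact Cfsg.Agent.S0033.result φ hfpf p hp.out h1

/-- coprime subgroups of `C_G(B)` commute -/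
theorem commute_in_centralizer {p : ℕ} [hp : Fact p.Prime] (G A B : Subgroup X)
    (hAG : A ≤ Subgroup.normalizer (G : Set X)) (hA : Cfsg.IsElementaryAbelian p A)
    (hAcard : Nat.card A = p ^ 2) (hfix : G ⊓ Subgroup.centralizer (A : Set X) = ⊥)
    (hBA : B ≤ A) (hB : Nat.card B = p) {s r : ℕ} [hs : Fact s.Prime] [hr : Fact r.Prime]
    (hsr : s ≠ r) (S₁ S₂ : Subgroup X) (h₁G : S₁ ≤ G) (h₂G : S₂ ≤ G) (h₁ : IsPGroup s S₁)
    (h₂ : IsPGroup r S₂) :
    ∀ x ∈ S₁ ⊓ Subgroup.centralizer (B : Set X), ∀ y ∈ S₂ ⊓ Subgroup.centralizer (B : Set X),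
      x * y = y * x := by
  have hnil := centralizer_nilpotent G A B hAG hA hAcard hfix hBA hB
  set C : Subgroup X := G ⊓ Subgroup.centralizer (B : Set X) with hC
  have hle₁ : S₁ ⊓ Subgroup.centralizer (B : Set X) ≤ Oq s C :=
    le_Oq_of_isPGroup hnil (inf_le_inf_right _ h₁G) (h₁.to_le inf_le_left)
  have hle₂ : S₂ ⊓ Subgroup.centralizer (B : Set X) ≤ Oq r C :=
    le_Oq_of_isPGroup hnil (inf_le_inf_right _ h₂G) (h₂.to_le inf_le_left)
  intro x hx y hy
  have h := Oq_commute hs.out hr.out hsr C (hle₁ hx)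
  exact (Subgroup.mem_centralizer_iff.1 h y (hle₂ hy)).symm

end Cfsg.Agent.Lib.Lead.WardD
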