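import Mathlib
import Cfsg.Agent.Lib.Lead.WardD
import Cfsg.Agent.H1.CoprimeHall

/-!
# Ward's theorem (S3796): numeric lemmas on Hall/Sylow subgroups and images
-/

set_option autoImplicit false
set_option linter.unusedVariables false
set_option linter.unusedSectionVars false
set_option linter.style.haveILetI false

open scoped commutatorElement Pointwise

namespace Cfsg.Agent.Lib.Lead.WardE

open Cfsg.Agent.Lib.Lead.WardA Cfsg.Agent.Lib.Lead.WardB Cfsg.Agent.Lib.Lead.WardC
  Cfsg.Agent.Lib.Lead.WardD Cfsg.Agent.H2.BGU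

universe u

variable {X : Type u} [Group X] [Finite X]

/-- a Hall `{s}`-subgroup is a Sylow `s`-subgroup, numerically -/
theorem card_of_isPiHallOf_singleton {s : ℕ} [hs : Fact s.Prime] {Q K : Subgroup X}
    (h : Cfsg.IsPiHallOf {s} Q K) : Q ≤ K ∧ Nat.card Q = s ^ (Nat.card K).factorization s := by
  obtain ⟨hQK, h1, h2⟩ := h
  refine ⟨hQK, ?_⟩
  have hpow : Nat.card Q = s ^ (Nat.card Q).primeFactorsList.length := by
    apply Nat.eq_prime_pow_of_unique_prime_dvd Nat.card_pos.ne'
    intro d hd hdvd
    exact h1 d hd hdvd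
  have hK := Cfsg.Agent.H1.card_eq_relIndex_mul_card hQK
  have hidx : ¬ s ∣ Q.relIndex K := h2 s hs.out rfl
  have hidx0 : Q.relIndex K ≠ 0 := by
    intro h0
    rw [h0, zero_mul] at hK
    exact Nat.card_pos.ne' hK
  set n := (Nat.card Q).primeFactorsList.length with hn
  have hfac : (Nat.card K).factorization s = n := by
    rw [hK, Nat.factorization_mul hidx0 Nat.card_pos.ne']
    simp only [Finsupp.coe_add, Pi.add_apply]
    rw [Nat.factorization_eq_zero_of_not_dvd hidx, zero_add, hpow, Nat.factorization_pow]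
    simp [Nat.Prime.factorization hs.out]
  rw [hfac]
  exact hpow

/-- `|K| = |f(K)| · |K ∩ ker f|` -/
theorem card_eq_card_map_mul_card_inf_ker {Y : Type*} [Group Y] (f : X →* Y) (K : Subgroup X) :
    Nat.card K = Nat.card (K.map f) * Nat.card (K ⊓ f.ker : Subgroup X) := by
  set g : K →* Y := f.comp K.subtype with hg
  have h1 : g.range = K.map f := by
    rw [hg, MonoidHom.range_comp, Subgroup.range_subtype]
  have h2 : Nat.card g.ker = Nat.card (K ⊓ f.ker : Subgroup X) := by
    have e : g.ker = (K ⊓ f.ker).subgroupOf K := by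
      ext x
      rw [MonoidHom.mem_ker, Subgroup.mem_subgroupOf, Subgroup.mem_inf, MonoidHom.mem_ker]
      constructor
      · intro hx; exact ⟨x.2, hx⟩
      · intro hx; exact hx.2
    rw [e]
    exact Nat.card_congr (Subgroup.subgroupOfEquivOfLe inf_le_left).toEquiv
  have h3 := Subgroup.card_mul_index g.ker
  rw [Subgroup.index_ker, h1, h2] at h3
  rw [← h3, mul_comm]

/-- the image of a Sylow subgroup is a Sylow subgroup of the image, numerically -/
theorem card_map_sylow {t : ℕ} [ht : Fact t.Prime] {Y : Type*} [Group Y] (f : X →* Y)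
    (M R : Subgroup X) (hRM : R ≤ M) (hR : Nat.card R = t ^ (Nat.card M).factorization t) :
    Nat.card (R.map f) = t ^ (Nat.card (M.map f)).factorization t := by
  haveI : Finite (M.map f) := Finite.of_surjective _ (f.subgroupMap_surjective M)
  haveI : Finite (R.map f) := Finite.of_surjective _ (f.subgroupMap_surjective R)
  have hRt : IsPGroup t R := isPGroup_of_card_eq hR
  have hM := card_eq_card_map_mul_card_inf_ker f M
  have hRc := card_eq_card_map_mul_card_inf_ker f R
  obtain ⟨a, ha⟩ := (hRt.map f).exists_card_eq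
  obtain ⟨b, hb⟩ := (hRt.to_le (inf_le_left : R ⊓ f.ker ≤ R)).exists_card_eq
  have hpos1 : Nat.card (M.map f) ≠ 0 := Nat.card_pos.ne'
  have hpos2 : Nat.card (M ⊓ f.ker : Subgroup X) ≠ 0 := Nat.card_pos.ne'
  have hv : (Nat.card M).factorization t
      = (Nat.card (M.map f)).factorization t + (Nat.card (M ⊓ f.ker : Subgroup X)).factorization t := by
    rw [hM, Nat.factorization_mul hpos1 hpos2]
    rfl
  have hab : a + b = (Nat.card M).factorization t := by
    have h1 : t ^ (a + b) = t ^ (Nat.card M).factorization t := by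
      rw [pow_add, ← ha, ← hb, ← hRc, hR]
    exact Nat.pow_right_injective ht.out.two_le h1
  have ha' : a ≤ (Nat.card (M.map f)).factorization t := by
    have h1 : Nat.card (R.map f) ∣ Nat.card (M.map f) :=
      Subgroup.card_dvd_of_le (Subgroup.map_mono hRM)
    rw [ha] at h1
    exact (ht.out.pow_dvd_iff_le_factorization hpos1).1 h1
  have hb' : b ≤ (Nat.card (M ⊓ f.ker : Subgroup X)).factorization t := by
    have h1 : Nat.card (R ⊓ f.ker : Subgroup X) ∣ Nat.card (M ⊓ f.ker : Subgroup X) :=
      Subgroup.card_dvd_of_le (inf_le_inf_right _ hRM)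
    rw [hb] at h1
    exact (ht.out.pow_dvd_iff_le_factorization hpos2).1 h1
  rw [ha]
  congr 1
  omega

theorem le_normalizer_of_normal (N S : Subgroup X) [N.Normal] :
    S ≤ Subgroup.normalizer (N : Set X) := by
  rw [Subgroup.normalizer_eq_top]
  exact le_top

theorem isPGroup_of_isElementaryAbelian {r : ℕ} {V : Subgroup X}
    (hV : Cfsg.IsElementaryAbelian r V) : IsPGroup r V := by
  intro v
  refine ⟨1, ?_⟩
  rw [pow_one]
  exact Subtype.ext (by simpa using hV.2 v v.2)

/-- images of commuting subgroups commute -/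
theorem map_le_centralizer_map {Y : Type*} [Group Y] (f : X →* Y) {R Q : Subgroup X}
    (h : R ≤ Subgroup.centralizer (Q : Set X)) :
    R.map f ≤ Subgroup.centralizer ((Q.map f : Subgroup Y) : Set Y) := by
  rintro _ ⟨x, hx, rfl⟩
  rw [Subgroup.mem_centralizer_iff]
  rintro _ ⟨q, hq, rfl⟩
  have := Subgroup.mem_centralizer_iff.1 (h hx) q hq
  rw [← map_mul, this, map_mul]

end Cfsg.Agent.Lib.Lead.WardE
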