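import Mathlib
import Cfsg.Agent.Lib.Lead.WardE

/-!
# Ward's theorem (S3796): the case `F(G)` elementary abelian, modulo the configuration theorem
-/

set_option autoImplicit false
set_option linter.unusedVariables false
set_option linter.unusedSectionVars false
set_option linter.style.haveILetI false
set_option maxHeartbeats 1600000

open scoped commutatorElement Pointwise

namespace Cfsg.Agent.Lib.Lead.WardF

open Cfsg.Agent.Lib.Lead.WardA Cfsg.Agent.Lib.Lead.WardB Cfsg.Agent.Lib.Lead.WardC
  Cfsg.Agent.Lib.Lead.WardD Cfsg.Agent.Lib.Lead.WardE Cfsg.Agent.H2.BGU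

universe u

/-- the statement of the configuration theorem (the heart of Ward's theorem) -/
def ConfigHolds : Prop :=
  ∀ {X : Type u} [Group X] [Finite X] {p r s t : ℕ} [Fact p.Prime] [Fact r.Prime] [Fact s.Prime]
    [Fact t.Prime], s ≠ r → t ≠ s → p ≠ r → p ≠ s → p ≠ t →
    ∀ (A V Q R : Subgroup X), Cfsg.IsElementaryAbelian p A → Nat.card A = p ^ 2 →
    Cfsg.IsElementaryAbelian r V → IsPGroup s Q → IsPGroup t R →
    Q ≤ Subgroup.normalizer (V : Set X) → R ≤ Subgroup.normalizer (V : Set X) →
    A ≤ Subgroup.normalizer (V : Set X) → R ≤ Subgroup.normalizer (Q : Set X) →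
    A ≤ Subgroup.normalizer (Q : Set X) → A ≤ Subgroup.normalizer (R : Set X) →
    Q ⊓ Subgroup.centralizer (V : Set X) = ⊥ →
    V ⊓ Subgroup.centralizer (A : Set X) = ⊥ →
    Q ⊓ Subgroup.centralizer (A : Set X) = ⊥ →
    R ⊓ Subgroup.centralizer (A : Set X) = ⊥ →
    (∀ B : Subgroup X, B ≤ A → Nat.card B = p →
      ∀ q ∈ Q ⊓ Subgroup.centralizer (B : Set X), ∀ v ∈ V ⊓ Subgroup.centralizer (B : Set X),
        q * v = v * q) →
    (∀ B : Subgroup X, B ≤ A → Nat.card B = p →
      ∀ x ∈ R ⊓ Subgroup.centralizer (B : Set X), ∀ q ∈ Q ⊓ Subgroup.centralizer (B : Set X),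
        x * q = q * x) →
    R ≤ Subgroup.centralizer (Q : Set X)

variable {X : Type u} [Group X] [Finite X]

theorem eq_bot_of_le_inf_eq_bot {S T : Subgroup X} (h : S ≤ T) (hT : T = ⊥) : S = ⊥ := by
  rw [eq_bot_iff, ← hT]; exact h

theorem step_elementary (hE : ConfigHolds.{u}) {p : ℕ} [hp : Fact p.Prime]
    (G A : Subgroup X) [hGn : G.Normal] (hsol : Group.IsSolvable G)
    (hA : Cfsg.IsElementaryAbelian p A) (hAcard : Nat.card A = p ^ 2)
    (hfix : G ⊓ Subgroup.centralizer (A : Set X) = ⊥) (hpG : ¬ p ∣ Nat.card G)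
    {r : ℕ} [hr : Fact r.Prime] (V : Subgroup X) (hVdef : V = Cfsg.fittingOf G) [hVn : V.Normal]
    (hV : Cfsg.IsElementaryAbelian r V) :
    ∃ k, G.lowerCentralSeries k ≤ V := by
  classical
  haveI := hsol
  set mk := QuotientGroup.mk' V with hmk
  have hsurj : Function.Surjective mk := QuotientGroup.mk'_surjective V
  have hker : mk.ker = V := QuotientGroup.ker_mk' V
  set H : Subgroup (X ⧸ V) := G.map mk with hH
  haveI hHsol : Group.IsSolvable H :=
    solvable_of_surjective (f := mk.subgroupMap G) (mk.subgroupMap_surjective G)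
  haveI hHn : H.Normal := Subgroup.Normal.map hGn mk hsurj
  have hVG : V ≤ G := by rw [hVdef]; exact fittingOf_le G
  have hCV : G ⊓ Subgroup.centralizer (V : Set X) ≤ V := by
    rw [hVdef]; exact inf_centralizer_fittingOf_le G
  have hVr : IsPGroup r V := isPGroup_of_isElementaryAbelian hV
  have hAG : A ≤ Subgroup.normalizer (G : Set X) := le_normalizer_of_normal G A
  have hcomapH : H.comap mk = G := by
    rw [hH, Subgroup.comap_map_eq, hker]
    exact sup_eq_left.2 hVG
  have hApG : IsPGroup p A := isPGroup_of_isElementaryAbelian hA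
  have hcopG : ∀ K : Subgroup X, K ≤ G → (Nat.card A).Coprime (Nat.card K) := by
    intro K hK
    rw [hAcard]
    apply Nat.Coprime.pow_left
    rw [Nat.Prime.coprime_iff_not_dvd hp.out]
    intro h
    exact hpG (h.trans (Subgroup.card_dvd_of_le hK))
  have hsolK : ∀ K : Subgroup X, K ≤ G → Group.IsSolvable K := by
    intro K hK
    exact solvable_of_solvable_injective (f := Subgroup.inclusion hK) (Subgroup.inclusion_injective hK)
  -- the criterion
  have hyp : ∀ s t : ℕ, s.Prime → t.Prime → s ≠ t → ∀ S : Subgroup (X ⧸ V), S ≤ H → IsPGroup t S →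
      S ≤ Subgroup.centralizer (Oq s (Cfsg.fittingOf H) : Set (X ⧸ V)) := by
    intro s t hs ht hst
    haveI : Fact s.Prime := ⟨hs⟩
    haveI : Fact t.Prime := ⟨ht⟩
    set O := Oq s (Cfsg.fittingOf H) with hO
    have hOn : H ≤ Subgroup.normalizer (O : Set (X ⧸ V)) := le_normalizer_Oq_fittingOf s H
    have hOtop : ∀ y : X ⧸ V, y ∈ Subgroup.normalizer (O : Set (X ⧸ V)) := by
      intro y
      apply normalizer_le_normalizer_Oq s (Cfsg.fittingOf H)
      apply normalizer_le_normalizer_fittingOf H
      rw [Subgroup.normalizer_eq_top]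
      exact Subgroup.mem_top y
    have hOH : O ≤ H := (Oq_le s _).trans (fittingOf_le H)
    have hOs : IsPGroup s O := isPGroup_Oq hs _
    suffices hex : ∃ T : Subgroup (X ⧸ V), T ≤ H ∧ Nat.card T = t ^ (Nat.card H).factorization t ∧
        T ≤ Subgroup.centralizer (O : Set (X ⧸ V)) by
      obtain ⟨T, hTH, hT, hTO⟩ := hex
      exact centralizer_of_exists_sylow H O hOn t T hTH hT hTO
    by_cases hObot : O = ⊥
    · obtain ⟨T, hTH, hT⟩ := exists_sylow_in t H
      refine ⟨T, hTH, hT, ?_⟩
      intro x hx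
      rw [Subgroup.mem_centralizer_iff]
      intro o ho
      rw [hObot] at ho
      have : o = 1 := by simpa using ho
      rw [this, one_mul, mul_one]
    -- the main case
    set Q' : Subgroup X := O.comap mk with hQ'
    have hVQ' : V ≤ Q' := by
      intro v hv
      rw [hQ', Subgroup.mem_comap]
      have : mk v = 1 := (QuotientGroup.eq_one_iff v).2 hv
      rw [this]; exact O.one_mem
    have hQ'G : Q' ≤ G := by
      rw [← hcomapH]
      exact Subgroup.comap_mono hOH
    have hQ'n : ∀ x : X, x ∈ Subgroup.normalizer (Q' : Set X) := by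
      intro x
      have h1 := hOtop (mk x)
      rw [Subgroup.mem_normalizer_iff] at h1 ⊢
      intro z
      rw [hQ', Subgroup.mem_comap, Subgroup.mem_comap, h1 (mk z)]
      simp only [map_mul, map_inv]
    have hQ'map : Q'.map mk = O := Subgroup.map_comap_eq_self_of_surjective hsurj _
    have hQ'card : Nat.card Q' = Nat.card O * Nat.card V := by
      have := card_eq_card_ker_mul mk Q' (by rw [hker]; exact hVQ')
      rw [hQ'map, hker] at this
      exact this
    obtain ⟨c, hc⟩ := hOs.exists_card_eq
    obtain ⟨d, hd⟩ := hVr.exists_card_eq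
    have hsr : s ≠ r := by
      intro hsr
      apply hObot
      have h1 : IsPGroup r Q' := by
        apply IsPGroup.of_card (n := c + d)
        rw [hQ'card, hc, hd, hsr, pow_add]
      have h2 : Q' ≤ V := by
        rw [hVdef]
        exact le_fittingOf hQ'G (fun g _ => hQ'n g) h1.isNilpotent
      rw [eq_bot_iff, ← hQ'map]
      rintro _ ⟨x, hx, rfl⟩
      rw [Subgroup.mem_bot]
      exact (QuotientGroup.eq_one_iff x).2 (h2 hx)
    have hcpos : 0 < c := by
      rcases Nat.eq_zero_or_pos c with h0 | h0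
      · exfalso
        apply hObot
        rw [h0, pow_zero] at hc
        exact Subgroup.card_eq_one.1 hc
      · exact h0
    have hsG : s ∣ Nat.card G := by
      have h1 : s ∣ Nat.card O := by rw [hc]; exact dvd_pow_self s hcpos.ne'
      have h2 : Nat.card O ∣ Nat.card Q' := ⟨_, hQ'card⟩
      exact h1.trans (h2.trans (Subgroup.card_dvd_of_le hQ'G))
    have hps : p ≠ s := fun h => hpG (h ▸ hsG)
    -- the invariant Sylow `s`-subgroup `Q` of `Q'`
    obtain ⟨Q, hQhall, hAQ⟩ := Cfsg.Agent.H1.exists_invariant_isPiHallOf A Q'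
      (fun a _ => hQ'n a) (hcopG Q' hQ'G) (hsolK Q' hQ'G) {s}
    obtain ⟨hQQ', hQcard⟩ := card_of_isPiHallOf_singleton hQhall
    have hQs : IsPGroup s Q := isPGroup_of_card_eq hQcard
    have hQG : Q ≤ G := hQQ'.trans hQ'G
    have hQV : Q ⊓ V = ⊥ := (IsPGroup.disjoint_of_ne s r hsr Q V hQs hVr).eq_bot
    have hfacQ' : (Nat.card Q').factorization s = c := by
      rw [hQ'card, hc, hd, Nat.factorization_mul (pow_pos hs.pos c).ne' (pow_pos hr.out.pos d).ne']
      simp only [Finsupp.coe_add, Pi.add_apply]
      rw [Nat.factorization_pow, Nat.factorization_pow]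
      simp only [Finsupp.coe_smul, Pi.smul_apply, smul_eq_mul]
      rw [Nat.Prime.factorization hs, Nat.Prime.factorization hr.out, Finsupp.single_apply,
        Finsupp.single_apply, if_pos rfl, if_neg (fun h => hsr h.symm)]
      simp
    have hQmap : Q.map mk = O := by
      apply Subgroup.eq_of_le_of_card_ge
      · rw [← hQ'map]
        exact Subgroup.map_mono hQQ'
      · rw [card_map_of_disjoint mk Q (by rw [hker]; exact hQV), hQcard, hfacQ', hc]
    -- `M = N_G(Q)` and its invariant Sylow `t`-subgroup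
    set M : Subgroup X := G ⊓ Subgroup.normalizer (Q : Set X) with hM
    have hMG : M ≤ G := inf_le_left
    have hAM : A ≤ Subgroup.normalizer (M : Set X) := by
      intro a ha
      exact mem_normalizer_inf (hAG ha) (Subgroup.le_normalizer (hAQ ha))
    obtain ⟨R, hRhall, hAR⟩ := Cfsg.Agent.H1.exists_invariant_isPiHallOf A M hAM (hcopG M hMG)
      (hsolK M hMG) {t}
    obtain ⟨hRM, hRcard⟩ := card_of_isPiHallOf_singleton hRhall
    have hRt : IsPGroup t R := isPGroup_of_card_eq hRcard
    have hRG : R ≤ G := hRM.trans hMG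
    -- the configuration theorem
    have hRQ : R ≤ Subgroup.centralizer (Q : Set X) := by
      by_cases hpt : p = t
      · have h1 : ¬ t ∣ Nat.card M := fun h =>
          hpG (hpt ▸ (h.trans (Subgroup.card_dvd_of_le hMG)))
        rw [Nat.factorization_eq_zero_of_not_dvd h1, pow_zero] at hRcard
        rw [Subgroup.card_eq_one.1 hRcard]
        exact bot_le
      · have hrG : r ∣ Nat.card G := by
          have hdpos : 0 < d := by
            rcases Nat.eq_zero_or_pos d with h0 | h0
            · exfalso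
              rw [h0, pow_zero] at hd
              have hVbot : V = ⊥ := Subgroup.card_eq_one.1 hd
              have hGbot : G = ⊥ := eq_bot_of_fittingOf_eq_bot (hVdef ▸ hVbot)
              rw [hGbot, Subgroup.card_bot] at hsG
              exact hs.one_lt.ne' (Nat.dvd_one.1 hsG)
            · exact h0
          have h1 : r ∣ Nat.card V := by rw [hd]; exact dvd_pow_self r hdpos.ne'
          exact h1.trans (Subgroup.card_dvd_of_le hVG)
        have hpr : p ≠ r := fun h => hpG (h ▸ hrG)
        apply hE hsr (fun h => hst h.symm) hpr hps hpt A V Q R hA hAcard hV hQs hRt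
          (le_normalizer_of_normal V Q) (le_normalizer_of_normal V R) (le_normalizer_of_normal V A)
          (hRM.trans inf_le_right) hAQ hAR
        · apply eq_bot_of_le_inf_eq_bot _ hQV
          exact le_inf inf_le_left ((inf_le_inf_right _ hQG).trans hCV)
        · exact eq_bot_of_le_inf_eq_bot (inf_le_inf_right _ hVG) hfix
        · exact eq_bot_of_le_inf_eq_bot (inf_le_inf_right _ hQG) hfix
        · exact eq_bot_of_le_inf_eq_bot (inf_le_inf_right _ hRG) hfix
        · intro B hBA hB
          exact commute_in_centralizer G A B hAG hA hAcard hfix hBA hB hsr Q V hQG hVG hQs hVr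
        · intro B hBA hB
          exact commute_in_centralizer G A B hAG hA hAcard hfix hBA hB (fun h => hst h.symm) R Q
            hRG hQG hRt hQs
    -- the image of `R`
    have hMmap : M.map mk = H := by
      apply le_antisymm (Subgroup.map_mono hMG)
      rintro _ ⟨g, hg, rfl⟩
      obtain ⟨a, ha, y, hyG, hyN, rfl⟩ := Cfsg.Agent.Lib.Lead.SylowAmb.frattini_in s G Q' Q hQ'G
        (fun g _ => hQ'n g) hQQ' hQcard g hg
      have h1 : mk a ∈ Q.map mk := by
        rw [hQmap]
        exact ha
      obtain ⟨q, hq, hqa⟩ := h1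
      refine ⟨q * y, ?_, ?_⟩
      · exact M.mul_mem (Subgroup.mem_inf.2 ⟨hQG hq, Subgroup.le_normalizer hq⟩)
          (Subgroup.mem_inf.2 ⟨hyG, hyN⟩)
      · rw [map_mul, map_mul, hqa]
    refine ⟨R.map mk, ?_, ?_, ?_⟩
    · rw [← hMmap]; exact Subgroup.map_mono hRM
    · rw [← hMmap]; exact card_map_sylow mk M R hRM hRcard
    · rw [← hQmap]; exact map_le_centralizer_map mk hRQ
  have hnil : Group.IsNilpotent H := nilpotent_of_central_cores H hyp
  obtain ⟨k, hk⟩ := (Subgroup.isNilpotent_iff_lowerCentralSeries H).1 hnil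
  refine ⟨k, ?_⟩
  intro x hx
  have h1 : mk x ∈ (G.lowerCentralSeries k).map mk := Subgroup.mem_map_of_mem mk hx
  rw [Subgroup.map_lowerCentralSeries, hk, Subgroup.mem_bot] at h1
  exact (QuotientGroup.eq_one_iff x).1 h1

end Cfsg.Agent.Lib.Lead.WardF
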