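import Mathlib
import Cfsg.Agent.Lib.Lead.WardF
import Cfsg.Agent.H1.Frattini
import Cfsg.Agent.H1.PGroup

/-!
# Ward's theorem (S3796): the induction, modulo the configuration theorem
-/

set_option autoImplicit false
set_option linter.unusedVariables false
set_option linter.unusedSectionVars false
set_option linter.style.haveILetI false
set_option maxHeartbeats 1600000

open scoped commutatorElement Pointwise

namespace Cfsg.Agent.Lib.Lead.WardG

open Cfsg.Agent.Lib.Lead.WardA Cfsg.Agent.Lib.Lead.WardB Cfsg.Agent.Lib.Lead.WardC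
  Cfsg.Agent.Lib.Lead.WardD Cfsg.Agent.Lib.Lead.WardE Cfsg.Agent.Lib.Lead.WardF Cfsg.Agent.H2.BGU

universe u

variable {X : Type u} [Group X] [Finite X]

/-- a `p`-group acting without fixed points on `G` has order prime to `|G|` -/
theorem not_dvd_card_of_fix {p : ℕ} [hp : Fact p.Prime] (G A : Subgroup X)
    (hAG : A ≤ Subgroup.normalizer (G : Set X)) (hA : IsPGroup p A)
    (hfix : G ⊓ Subgroup.centralizer (A : Set X) = ⊥) : ¬ p ∣ Nat.card G := by
  intro hdvd
  have hAst : A ≤ Cfsg.Agent.H2.cosetStab G (1 : X) := by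
    intro a ha
    refine ⟨hAG ha, ?_⟩
    show (1 : X)⁻¹ * a * 1 * a⁻¹ ∈ G
    simp
  have hB' : IsPGroup p (A.subgroupOf (Cfsg.Agent.H2.cosetStab G (1 : X))) :=
    hA.comap_of_injective _ (Subgroup.subtype_injective _)
  have hcard : Nat.card {g : X // (1 : X)⁻¹ * g ∈ G} = Nat.card G := by
    apply Nat.card_congr
    exact {
      toFun := fun g => ⟨g.1, by simpa using g.2⟩
      invFun := fun m => ⟨m.1, by simp⟩
      left_inv := fun g => rfl
      right_inv := fun m => rfl }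
  let a0 : {g : X // (1 : X)⁻¹ * g ∈ G} := ⟨1, by simp⟩
  have ha0 : a0 ∈ MulAction.fixedPoints (A.subgroupOf (Cfsg.Agent.H2.cosetStab G (1 : X)))
      {g : X // (1 : X)⁻¹ * g ∈ G} := by
    intro z
    apply Subtype.ext
    show ((z : Cfsg.Agent.H2.cosetStab G (1 : X)) : X) * 1 * ((z : Cfsg.Agent.H2.cosetStab G (1 : X)) : X)⁻¹ = 1
    simp
  obtain ⟨b, hb, hab⟩ := hB'.exists_fixed_point_of_prime_dvd_card_of_fixed_point
    {g : X // (1 : X)⁻¹ * g ∈ G} (by rw [hcard]; exact hdvd) ha0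
  apply hab
  apply Subtype.ext
  show (1 : X) = b.1
  have hbG : b.1 ∈ G := by simpa using b.2
  have h2 : b.1 ∈ G ⊓ Subgroup.centralizer (A : Set X) := by
    refine Subgroup.mem_inf.2 ⟨hbG, ?_⟩
    rw [Subgroup.mem_centralizer_iff]
    intro a ha
    have h3 := hb ⟨⟨a, hAst ha⟩, Subgroup.mem_subgroupOf.2 ha⟩
    have h4 : a * b.1 * a⁻¹ = b.1 := congrArg Subtype.val h3
    calc a * b.1 = (a * b.1 * a⁻¹) * a := by group
      _ = b.1 * a := by rw [h4]
  rw [hfix, Subgroup.mem_bot] at h2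
  exact h2.symm

theorem inf_eq_bot_of_fix {p : ℕ} (G A : Subgroup X) (hA : Cfsg.IsElementaryAbelian p A)
    (hfix : G ⊓ Subgroup.centralizer (A : Set X) = ⊥) : A ⊓ G = ⊥ := by
  apply eq_bot_of_le_inf_eq_bot _ hfix
  intro x hx
  refine Subgroup.mem_inf.2 ⟨hx.2, ?_⟩
  rw [Subgroup.mem_centralizer_iff]
  intro a ha
  exact comm_of_mem hA ha hx.1

/-- the hypotheses pass to quotients -/
theorem quot_step {p : ℕ} [hp : Fact p.Prime]
    (IH : ∀ {X' : Type u} [Group X'] [Finite X'], Nat.card X' < Nat.card X →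
      ∀ (G' A' : Subgroup X') [G'.Normal], Group.IsSolvable G' → Cfsg.IsElementaryAbelian p A' →
      Nat.card A' = p ^ 2 → G' ⊓ Subgroup.centralizer (A' : Set X') = ⊥ → FH2 G' ⊥)
    (G A : Subgroup X) [hGn : G.Normal] (hsol : Group.IsSolvable G)
    (hA : Cfsg.IsElementaryAbelian p A) (hAcard : Nat.card A = p ^ 2)
    (hfix : G ⊓ Subgroup.centralizer (A : Set X) = ⊥)
    (M : Subgroup X) [hMn : M.Normal] (hMG : M ≤ G) (hM : M ≠ ⊥) : FH2 G M := by
  apply FH2_of_quotient G M hMG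
  have hAG : A ≤ Subgroup.normalizer (G : Set X) := le_normalizer_of_normal G A
  have hAp : IsPGroup p A := isPGroup_of_isElementaryAbelian hA
  have hpG := not_dvd_card_of_fix G A hAG hAp hfix
  have hsurj : Function.Surjective (QuotientGroup.mk' M) := QuotientGroup.mk'_surjective M
  haveI := hsol
  haveI : (G.map (QuotientGroup.mk' M)).Normal := Subgroup.Normal.map hGn _ hsurj
  have hlt : Nat.card (X ⧸ M) < Nat.card X := by
    have h1 := Subgroup.card_eq_card_quotient_mul_card_subgroup M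
    rw [h1]
    have h2 : 1 < Nat.card M := by
      rw [Subgroup.one_lt_card_iff_ne_bot]
      exact hM
    have h3 : 0 < Nat.card (X ⧸ M) := Nat.card_pos
    nlinarith
  refine IH hlt (G.map (QuotientGroup.mk' M)) (A.map (QuotientGroup.mk' M)) ?_ ?_ ?_ ?_
  · exact solvable_of_surjective (f := (QuotientGroup.mk' M).subgroupMap G)
      ((QuotientGroup.mk' M).subgroupMap_surjective G)
  · exact isElementaryAbelian_map _ hA
  · rw [card_map_of_disjoint (QuotientGroup.mk' M) A, hAcard]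
    rw [QuotientGroup.ker_mk']
    apply eq_bot_of_le_inf_eq_bot _ (inf_eq_bot_of_fix G A hA hfix)
    exact inf_le_inf_left _ hMG
  · exact fix_quotient G A M hMG hAp (fun h => hpG (h.trans (Subgroup.card_dvd_of_le hMG))) hfix

theorem normal_of_normalizer_le {S T : Subgroup X} [hS : S.Normal]
    (h : Subgroup.normalizer (S : Set X) ≤ Subgroup.normalizer (T : Set X)) : T.Normal := by
  rw [← Subgroup.normalizer_eq_top_iff, eq_top_iff]
  refine le_trans ?_ h
  rw [Subgroup.normalizer_eq_top]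

/-- the Frattini subgroup of `F`, in ambient form -/
def phiOf (F : Subgroup X) : Subgroup X := (frattini F).map F.subtype

theorem phiOf_le (F : Subgroup X) : phiOf F ≤ F := Subgroup.map_subtype_le _

theorem normalizer_le_normalizer_phiOf (F : Subgroup X) :
    Subgroup.normalizer (F : Set X) ≤ Subgroup.normalizer (phiOf F : Set X) := by
  apply Cfsg.Agent.H2.normalizer_le_normalizer_map_subtype F (frattini F)
  exact Subgroup.characteristic_iff_map_eq.1 inferInstance

/-- the nongenerating property, in ambient form -/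
theorem phiOf_nongen (G F K : Subgroup X) (hFG : F ≤ G) [hn : (phiOf F).Normal]
    (hKG : K ≤ G) (h : G ≤ K ⊔ phiOf F) : G ≤ K := by
  have h1 : F ≤ K := by
    have h2 : (K.subgroupOf F) ⊔ frattini F = ⊤ := by
      rw [eq_top_iff]
      intro x _
      have hx : (x : X) ∈ K ⊔ phiOf F := h (hFG x.2)
      rw [← SetLike.mem_coe, Subgroup.mul_normal, Set.mem_mul] at hx
      obtain ⟨k, hk, d, hd, hkd⟩ := hx
      obtain ⟨d', hd', rfl⟩ := hd
      have hkF : k ∈ F := by
        have : k = (x : X) * (d' : X)⁻¹ := by rw [← hkd]; simp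
        rw [this]
        exact F.mul_mem x.2 (F.inv_mem d'.2)
      have : x = (⟨k, hkF⟩ : F) * d' := Subtype.ext hkd.symm
      rw [this]
      exact Subgroup.mul_mem _ (Subgroup.mem_sup_left (Subgroup.mem_subgroupOf.2 hk))
        (Subgroup.mem_sup_right hd')
    have h3 := frattini_nongenerating h2
    rw [Subgroup.subgroupOf_eq_top] at h3
    exact h3
  have h4 : K ⊔ phiOf F ≤ K := sup_le le_rfl ((phiOf_le F).trans h1)
  exact h.trans h4

/-- an `r`-group with trivial Frattini subgroup is elementary abelian -/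
theorem isElementaryAbelian_of_phiOf_eq_bot {r : ℕ} [hr : Fact r.Prime] (F : Subgroup X)
    (hF : IsPGroup r F) (h : phiOf F = ⊥) : Cfsg.IsElementaryAbelian r F := by
  have hfr : frattini F = ⊥ := by
    rw [eq_bot_iff]
    intro x hx
    have : (x : X) ∈ phiOf F := ⟨x, hx, rfl⟩
    rw [h, Subgroup.mem_bot] at this
    rw [Subgroup.mem_bot]
    exact Subtype.ext this
  refine ⟨⟨⟨?_⟩⟩, ?_⟩
  · intro a b
    have h1 : ⁅a, b⁆ ∈ commutator F := by
      rw [commutator_def]
      exact Subgroup.commutator_mem_commutator (Subgroup.mem_top a) (Subgroup.mem_top b)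
    have h2 := Cfsg.Agent.H1.commutator_le_frattini hF h1
    rw [hfr, Subgroup.mem_bot, commutatorElement_eq_one_iff_mul_comm] at h2
    exact h2
  · intro a ha
    have h1 := Cfsg.Agent.H1.pow_p_mem_frattini hF (⟨a, ha⟩ : F)
    rw [hfr, Subgroup.mem_bot] at h1
    exact congrArg Subtype.val h1

theorem ward_in_aux (hE : ConfigHolds.{u}) (n : ℕ) :
    ∀ {X : Type u} [Group X] [Finite X], Nat.card X = n →
      ∀ {p : ℕ} [Fact p.Prime] (G A : Subgroup X) [G.Normal], Group.IsSolvable G →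
      Cfsg.IsElementaryAbelian p A → Nat.card A = p ^ 2 →
      G ⊓ Subgroup.centralizer (A : Set X) = ⊥ → FH2 G ⊥ := by
  induction n using Nat.strong_induction_on with
  | _ n ih =>
  intro X _ _ hn p hp G A hGn hsol hA hAcard hfix
  classical
  haveI := hsol
  have IH : ∀ {X' : Type u} [Group X'] [Finite X'], Nat.card X' < Nat.card X →
      ∀ (G' A' : Subgroup X') [G'.Normal], Group.IsSolvable G' → Cfsg.IsElementaryAbelian p A' →
      Nat.card A' = p ^ 2 → G' ⊓ Subgroup.centralizer (A' : Set X') = ⊥ → FH2 G' ⊥ := by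
    intro X' _ _ hlt G' A' _ hs' hA' hc' hf'
    exact ih (Nat.card X') (hn ▸ hlt) rfl G' A' hs' hA' hc' hf'
  have hAG : A ≤ Subgroup.normalizer (G : Set X) := le_normalizer_of_normal G A
  have hAp : IsPGroup p A := isPGroup_of_isElementaryAbelian hA
  have hpG := not_dvd_card_of_fix G A hAG hAp hfix
  by_cases hGbot : G = ⊥
  · refine ⟨⊥, le_rfl, bot_le, le_normalizer_of_normal _ _, ⟨0, le_rfl⟩, ⟨0, ?_⟩⟩
    rw [Subgroup.lowerCentralSeries_zero, hGbot]
  set F := Cfsg.fittingOf G with hF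
  have hFnil : Group.IsNilpotent F := fittingOf_nilpotent G
  have hFG : F ≤ G := fittingOf_le G
  have hFne : F ≠ ⊥ := fun h => hGbot (eq_bot_of_fittingOf_eq_bot h)
  haveI hFn : F.Normal := normal_of_normalizer_le (normalizer_le_normalizer_fittingOf G)
  have hOqn : ∀ q : ℕ, (Oq q F).Normal := fun q =>
    normal_of_normalizer_le (normalizer_le_normalizer_Oq q F)
  by_cases h2 : ∃ r₁ r₂ : ℕ, r₁.Prime ∧ r₂.Prime ∧ r₁ ≠ r₂ ∧ Oq r₁ F ≠ ⊥ ∧ Oq r₂ F ≠ ⊥
  · obtain ⟨r₁, r₂, hr₁, hr₂, hne, h₁, h₂⟩ := h2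
    haveI := hOqn r₁
    haveI := hOqn r₂
    have s₁ := quot_step IH G A hsol hA hAcard hfix (Oq r₁ F) ((Oq_le r₁ F).trans hFG) h₁
    have s₂ := quot_step IH G A hsol hA hAcard hfix (Oq r₂ F) ((Oq_le r₂ F).trans hFG) h₂
    have h3 := FH2_inf s₁ s₂
    haveI : Fact r₁.Prime := ⟨hr₁⟩
    haveI : Fact r₂.Prime := ⟨hr₂⟩
    have hdisj : Oq r₁ F ⊓ Oq r₂ F = ⊥ :=
      (IsPGroup.disjoint_of_ne r₁ r₂ hne _ _ (isPGroup_Oq hr₁ F) (isPGroup_Oq hr₂ F)).eq_bot
    rwa [hdisj] at h3
  -- `F` is an `r`-group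
  have hcardF : Nat.card F ≠ 1 := by
    intro h
    exact hFne (Subgroup.card_eq_one.1 h)
  obtain ⟨r, hr, hrF⟩ := Nat.exists_prime_and_dvd hcardF
  haveI : Fact r.Prime := ⟨hr⟩
  have hOr : Oq r F ≠ ⊥ := Oq_ne_bot_of_dvd hFnil hrF
  have hFr : IsPGroup r F := by
    have hle : F ≤ Oq r F := by
      apply le_of_forall_Oq_le hFnil
      intro s hs
      by_cases hsr : s = r
      · rw [hsr]
      · have : Oq s F = ⊥ := by
          by_contra hne
          exact h2 ⟨s, r, hs, hr, hsr, hne, hOr⟩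
        rw [this]
        exact bot_le
    exact (isPGroup_Oq hr F).to_le hle
  haveI hDn : (phiOf F).Normal := normal_of_normalizer_le (normalizer_le_normalizer_phiOf F)
  by_cases hD : phiOf F = ⊥
  · have hV := isElementaryAbelian_of_phiOf_eq_bot F hFr hD
    obtain ⟨k, hk⟩ := step_elementary hE G A hsol hA hAcard hfix hpG F rfl hV
    obtain ⟨k', hk'⟩ := (Subgroup.isNilpotent_iff_lowerCentralSeries F).1 hFnil
    exact ⟨F, bot_le, hFG, le_normalizer_fittingOf G, ⟨k', hk'.le⟩, ⟨k, hk⟩⟩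
  · obtain ⟨N, hDN, hNG, hNn, ⟨k, hk⟩, ⟨l, hl⟩⟩ :=
      quot_step IH G A hsol hA hAcard hfix (phiOf F) ((phiOf_le F).trans hFG) hD
    have hDnil : Group.IsNilpotent (phiOf F) := by
      rw [Subgroup.isNilpotent_iff_lowerCentralSeries]
      exact isNilpotent_of_le (phiOf_le F) hFnil
    obtain ⟨k', hk'⟩ := gaschutz_in G N (phiOf F) hDN hNG hNn
      (fun K hKG h => phiOf_nongen G F K hFG hKG h) hDnil ⟨k, hk⟩
    exact ⟨N, bot_le, hNG, hNn, ⟨k', hk'.le⟩, ⟨l, hl⟩⟩

/-- **Ward's theorem, internal form**, modulo the configuration theorem -/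
theorem ward_in (hE : ConfigHolds.{u}) {p : ℕ} [Fact p.Prime] (G A : Subgroup X) [G.Normal]
    (hsol : Group.IsSolvable G) (hA : Cfsg.IsElementaryAbelian p A) (hAcard : Nat.card A = p ^ 2)
    (hfix : G ⊓ Subgroup.centralizer (A : Set X) = ⊥) : FH2 G ⊥ :=
  ward_in_aux hE (Nat.card X) rfl G A hsol hA hAcard hfix

end Cfsg.Agent.Lib.Lead.WardG
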