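import Mathlib
import Cfsg.Agent.Lib.Lead.WardG

/-!
# Ward's theorem (S3796): the external statement, modulo the configuration theorem
-/

set_option autoImplicit false
set_option linter.unusedVariables false
set_option linter.unusedSectionVars false
set_option linter.style.haveILetI false
set_option maxHeartbeats 1600000

open scoped commutatorElement Pointwise

namespace Cfsg.Agent.Lib.Lead.WardH

open Cfsg.Agent.Lib.Lead.WardA Cfsg.Agent.Lib.Lead.WardB Cfsg.Agent.Lib.Lead.WardC
  Cfsg.Agent.Lib.Lead.WardD Cfsg.Agent.Lib.Lead.WardE Cfsg.Agent.Lib.Lead.WardF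
  Cfsg.Agent.Lib.Lead.WardG Cfsg.Agent.H2.BGU

universe u

theorem ward_of_config (hE : ConfigHolds.{u}) {G : Type u} [Group G] [Finite G]
    (hG : Group.IsSolvable G) {p : ℕ}
    (hp : p.Prime) (A : Subgroup (MulAut G)) (hA : Cfsg.IsElementaryAbelian p A)
    (hcard : Nat.card A = p ^ 2) (hfpf : ∀ g : G, (∀ a ∈ A, a g = g) → g = 1) :
    ∃ F : Fin (2 + 1) → Subgroup G, F 0 = ⊥ ∧ F (Fin.last 2) = ⊤ ∧ Monotone F ∧
      (∀ i, (F i).Normal) ∧ ∀ i : Fin 2, ∃ k : ℕ, (F i.succ).lowerCentralSeries k ≤ F i.castSucc := by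
  classical
  haveI : Fact p.Prime := ⟨hp⟩
  haveI : Finite A := Nat.finite_of_card_ne_zero (by rw [hcard]; exact (pow_pos hp.pos 2).ne')
  set φ : A →* MulAut G := A.subtype with hφ
  let X := G ⋊[φ] A
  haveI : Finite X := Finite.of_equiv (G × A) (SemidirectProduct.equivProd).symm
  set inl : G →* X := SemidirectProduct.inl with hinl
  set inr : A →* X := SemidirectProduct.inr with hinr
  have hinl_inj : Function.Injective inl := SemidirectProduct.inl_injective
  have hinr_inj : Function.Injective inr := SemidirectProduct.inr_injective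
  set G' : Subgroup X := inl.range with hG'
  set A' : Subgroup X := inr.range with hA'
  haveI hG'n : G'.Normal := by
    rw [hG', hinl, SemidirectProduct.range_inl_eq_ker_rightHom]
    infer_instance
  have hG'sol : Group.IsSolvable G' := by
    haveI := hG
    exact solvable_of_surjective (f := inl.rangeRestrict) inl.rangeRestrict_surjective
  have hA'ea : Cfsg.IsElementaryAbelian p A' := by
    refine ⟨⟨⟨?_⟩⟩, ?_⟩
    · rintro ⟨_, a, rfl⟩ ⟨_, b, rfl⟩
      apply Subtype.ext
      show inr a * inr b = inr b * inr a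
      have : a * b = b * a := hA.1.is_comm.comm a b
      rw [← map_mul, this, map_mul]
    · rintro _ ⟨a, rfl⟩
      rw [← map_pow]
      have : a ^ p = 1 := Subtype.ext (by simpa using hA.2 a a.2)
      rw [this, map_one]
  have hA'card : Nat.card A' = p ^ 2 := by
    rw [← hcard]
    exact (Nat.card_congr (MonoidHom.ofInjective hinr_inj).toEquiv).symm
  have hfix : G' ⊓ Subgroup.centralizer (A' : Set X) = ⊥ := by
    rw [eq_bot_iff]
    rintro x ⟨⟨g, rfl⟩, hx⟩
    rw [Subgroup.mem_bot]
    have hg : g = 1 := by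
      apply hfpf
      intro a ha
      have h1 := Subgroup.mem_centralizer_iff.1 hx (inr ⟨a, ha⟩) ⟨⟨a, ha⟩, rfl⟩
      have h2 : inl (φ ⟨a, ha⟩ g) = inr ⟨a, ha⟩ * inl g * inr (⟨a, ha⟩ : A)⁻¹ :=
        SemidirectProduct.inl_aut _ _
      have h3 : inl (φ ⟨a, ha⟩ g) = inl g := by
        rw [h2, h1, map_inv]
        group
      exact hinl_inj h3
    rw [hg, map_one]
  obtain ⟨N', -, hN'G', hnorm, ⟨k, hk⟩, ⟨l, hl⟩⟩ := ward_in hE G' A' hG'sol hA'ea hA'card hfix
  set N : Subgroup G := N'.comap inl with hN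
  have hNmap : N.map inl = N' := by
    rw [hN, Subgroup.map_comap_eq]
    exact inf_eq_right.2 hN'G'
  have hNn : N.Normal := by
    constructor
    intro n hn g
    rw [hN, Subgroup.mem_comap] at hn ⊢
    have h1 := hnorm (⟨g, rfl⟩ : inl g ∈ G')
    have h2 := (Subgroup.mem_normalizer_iff.1 h1 (inl n)).1 hn
    rwa [map_mul, map_mul, map_inv]
  refine ⟨![⊥, N, ⊤], rfl, rfl, ?_, ?_, ?_⟩
  · intro i j hij
    fin_cases i <;> fin_cases j <;> first | exact le_rfl | exact bot_le | exact le_top | (exfalso; revert hij; decide)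
  · intro i
    fin_cases i
    · show (⊥ : Subgroup G).Normal
      infer_instance
    · exact hNn
    · show (⊤ : Subgroup G).Normal
      infer_instance
  · intro i
    fin_cases i
    · refine ⟨k, ?_⟩
      show N.lowerCentralSeries k ≤ ⊥
      intro x hx
      have h1 : inl x ∈ (N.lowerCentralSeries k).map inl := Subgroup.mem_map_of_mem inl hx
      rw [Subgroup.map_lowerCentralSeries, hNmap] at h1
      have h2 := hk h1
      rw [Subgroup.mem_bot] at h2 ⊢
      exact hinl_inj (by rw [h2, map_one])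
    · refine ⟨l, ?_⟩
      show (⊤ : Subgroup G).lowerCentralSeries l ≤ N
      intro x hx
      rw [hN, Subgroup.mem_comap]
      apply hl
      have h1 : inl x ∈ ((⊤ : Subgroup G).lowerCentralSeries l).map inl :=
        Subgroup.mem_map_of_mem inl hx
      rw [Subgroup.map_lowerCentralSeries, ← MonoidHom.range_eq_map] at h1
      exact h1

end Cfsg.Agent.Lib.Lead.WardH
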