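import Mathlib
import Cfsg.Prelude.Def_TwoFusion
import Cfsg.Prelude.Def_CaseTheorems
import Cfsg.Agent.H2.Isolated

/-!
# Consequences of Glauberman's Z*-theorem

All results here take the exact statement of the Z*-theorem (row S0215) as a hypothesis
`ZStarStatement`, so that they become unconditional once that row is proved.
-/

set_option autoImplicit false

universe u

namespace Cfsg.Agent.ZStarCons

open Cfsg Cfsg.Agent.H2

/-- The exact statement of Glauberman's Z*-theorem (row S0215), in universe `u`. -/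
def ZStarStatement : Prop :=
  ∀ {G : Type u} [Group G] [Finite G] (P : Sylow 2 G) (u : G), orderOf u = 2 → u ∈ P →
    (∀ g : G, g * u * g⁻¹ ∈ P → g * u * g⁻¹ = u) →
    ∃ N : Subgroup G, N.Normal ∧ Odd (Nat.card N) ∧ ∀ g : G, (u * g * u⁻¹ * g⁻¹) ∈ N

/-- A normal subgroup of odd order lies in the odd core. -/
lemma le_oddCore {G : Type u} [Group G] (N : Subgroup G) (hN : N.Normal) (hodd : Odd (Nat.card N)) :
    N ≤ oddCore G := by
  apply le_sSup
  exact ⟨hN, (Nat.coprime_two_right).mpr hodd⟩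

/-- An isolated involution of `G` is the only one of its conjugates in any Sylow 2-subgroup
containing it. -/
lemma isolated_unique_in_sylow {G : Type u} [Group G] [Finite G] {z : G}
    (hz : IsIsolatedInvolution z) (P : Sylow 2 G) (hzP : z ∈ P) (g : G)
    (hg : g * z * g⁻¹ ∈ P) : g * z * g⁻¹ = z := by
  have : Fact (Nat.Prime 2) := ⟨Nat.prime_two⟩
  have hodd := IsIsolatedInvolution.odd_orderOf_conj_mul hz g
  have hmem : g * z * g⁻¹ * z ∈ (P : Subgroup G) := Subgroup.mul_mem _ hg hzP
  obtain ⟨k, hk⟩ := (IsPGroup.iff_orderOf.mp P.isPGroup') ⟨_, hmem⟩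
  rw [Subgroup.orderOf_mk] at hk
  have h1 : orderOf (g * z * g⁻¹ * z) = 1 := by
    rcases Nat.eq_zero_or_pos k with rfl | hkpos
    · simpa using hk
    · exfalso
      rw [hk] at hodd
      exact (Nat.not_even_iff_odd.mpr hodd) (Nat.even_pow.mpr ⟨even_two, hkpos.ne'⟩)
  have h2 := orderOf_eq_one_iff.mp h1
  have hzz := IsIsolatedInvolution.mul_self hz
  calc g * z * g⁻¹ = (g * z * g⁻¹) * (z * z) := by rw [hzz, mul_one]
    _ = (g * z * g⁻¹ * z) * z := by group
    _ = z := by rw [h2, one_mul]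

/-- Z* for isolated involutions: commutators with `z` lie in the odd core. -/
theorem zstar_isolated (hZ : ZStarStatement.{u}) {G : Type u} [Group G] [Finite G] (z : G)
    (hz : IsIsolatedInvolution z) : ∀ g : G, z * g * z⁻¹ * g⁻¹ ∈ oddCore G := by
  have : Fact (Nat.Prime 2) := ⟨Nat.prime_two⟩
  have hzp : IsPGroup 2 (Subgroup.zpowers z) := by
    apply IsPGroup.of_card (n := 1)
    rw [Nat.card_zpowers, hz.1, pow_one]
  obtain ⟨P, hP⟩ := hzp.exists_le_sylow
  have hzP : z ∈ P := hP (Subgroup.mem_zpowers z)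
  obtain ⟨N, hN, hodd, hcomm⟩ := hZ P z hz.1 hzP (isolated_unique_in_sylow hz P hzP)
  intro g
  exact le_oddCore N hN hodd (hcomm g)

end Cfsg.Agent.ZStarCons
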