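import Cfsg.Agent.Lib.Lead.ZStarCons9

/-!
# Central Sylow intersections (row S3184), assuming the Z*-theorem
-/

set_option autoImplicit false

universe u

namespace Cfsg.Agent.ZStarCons

open Cfsg Cfsg.Agent.H2
open scoped Pointwise

variable {G : Type u} [Group G] [Finite G]

omit [Finite G] in
lemma mem_smul_sylow {p : ℕ} [Fact p.Prime] (a : G) (S : Sylow p G) (x : G) :
    x ∈ ((a • S : Sylow p G) : Subgroup G) ↔ a⁻¹ * x * a ∈ (S : Subgroup G) := by
  rw [Sylow.coe_subgroup_smul, Subgroup.mem_pointwise_smul_iff_inv_smul_mem, MulAut.smul_def,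
    ← map_inv, MulAut.conj_apply, inv_inv]

/-- A cyclic group has at most one element of order two. -/
lemma eq_of_orderOf_two_of_isCyclic {C : Type u} [Group C] [Finite C] [IsCyclic C] (x y : C)
    (hx : orderOf x = 2) (hy : orderOf y = 2) : x = y := by
  classical
  have : Fintype C := Fintype.ofFinite C
  have h2 : 2 ∣ Fintype.card C := by
    rw [← hx]; exact orderOf_dvd_card
  have h1 := IsCyclic.card_orderOf_eq_totient (α := C) h2
  rw [Nat.totient_two] at h1
  have hxm : x ∈ Finset.univ.filter (fun a : C => orderOf a = 2) := by simp [hx]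
  have hym : y ∈ Finset.univ.filter (fun a : C => orderOf a = 2) := by simp [hy]
  exact Finset.card_le_one.mp h1.le x hxm y hym

section Char

variable (S : Sylow 2 G) (C : Subgroup ↥(S : Subgroup G)) (hCc : IsCyclic ↥C)
  (hCh : C.Characteristic) (c : ↥(S : Subgroup G)) (hc : c ∈ C) (hc2 : orderOf c = 2)

include hCc hCh hc hc2

omit [Finite G] in
/-- The normalizer of `S` fixes the involution of a cyclic characteristic subgroup. -/
lemma conj_fix_of_char [Finite ↥(S : Subgroup G)] (k : G)
    (hk : k ∈ Subgroup.normalizer ((S : Subgroup G) : Set G)) :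
    k * (c : G) * k⁻¹ = c := by
  have hk' : k⁻¹ ∈ Subgroup.normalizer ((S : Subgroup G) : Set G) := Subgroup.inv_mem _ hk
  let φ : ↥(S : Subgroup G) ≃* ↥(S : Subgroup G) :=
    { toFun := fun x => ⟨k * x * k⁻¹, (Subgroup.mem_normalizer_iff.mp hk x).mp x.2⟩
      invFun := fun x => ⟨k⁻¹ * x * k, by
        have := (Subgroup.mem_normalizer_iff.mp hk' x).mp x.2
        rwa [inv_inv] at this⟩
      left_inv := fun x => by
        apply Subtype.ext
        change k⁻¹ * (k * (x : G) * k⁻¹) * k = x
        group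
      right_inv := fun x => by
        apply Subtype.ext
        change k * (k⁻¹ * (x : G) * k) * k⁻¹ = x
        group
      map_mul' := fun x y => by
        apply Subtype.ext
        change k * ((x : G) * (y : G)) * k⁻¹ = (k * x * k⁻¹) * (k * y * k⁻¹)
        group }
  have hφc : φ c ∈ C := by
    have h1 := hCh.fixed φ
    have h2 : c ∈ C.comap φ.toMonoidHom := by rw [h1]; exact hc
    exact h2
  have hφo : orderOf (φ c) = 2 := by rw [MulEquiv.orderOf_eq, hc2]
  have : Finite ↥C := inferInstance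
  have h3 := eq_of_orderOf_two_of_isCyclic (C := ↥C) ⟨φ c, hφc⟩ ⟨c, hc⟩
    (by rw [Subgroup.orderOf_mk]; exact hφo) (by rw [Subgroup.orderOf_mk]; exact hc2)
  have h4 : φ c = c := congrArg Subtype.val h3
  exact congrArg Subtype.val h4

/-- Transfer of the distinguished involution between Sylow subgroups of a centralizer. -/
lemma inv_transfer (a b x : G) (hx : a * (c : G) * a⁻¹ = x)
    (hA : ((a • S : Sylow 2 G) : Subgroup G) ≤ Subgroup.centralizer ({x} : Set G))
    (hB : ((b • S : Sylow 2 G) : Subgroup G) ≤ Subgroup.centralizer ({x} : Set G)) :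
    b * (c : G) * b⁻¹ = x := by
  have : Fact (Nat.Prime 2) := ⟨Nat.prime_two⟩
  set H := Subgroup.centralizer ({x} : Set G) with hH
  have hfac : (Nat.card H).factorization 2 = (Nat.card G).factorization 2 := by
    apply le_antisymm
    · exact (Nat.factorization_le_iff_dvd Nat.card_pos.ne' Nat.card_pos.ne').mpr
        (Subgroup.card_subgroup_dvd_card H) 2
    · have h1 : 2 ^ (Nat.card G).factorization 2 ∣ Nat.card H := by
        rw [← Sylow.card_eq_multiplicity (a • S)]
        exact Subgroup.card_dvd_of_le hA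
      exact (Nat.prime_two.pow_dvd_iff_le_factorization Nat.card_pos.ne').mp h1
  obtain ⟨m, hmH, hm⟩ := exists_conj_of_card_eq (p := 2) H
    ((b • S : Sylow 2 G) : Subgroup G) ((a • S : Sylow 2 G) : Subgroup G) hB hA
    (by rw [hfac]; exact Sylow.card_eq_multiplicity _)
    (by rw [hfac]; exact Sylow.card_eq_multiplicity _)
  have heq : (m * a) • S = b • S := by
    apply Sylow.ext
    ext y
    rw [mem_smul_sylow, hm, mem_smul_sylow]
    have : (m * a)⁻¹ * y * (m * a) = a⁻¹ * (m⁻¹ * y * m) * a := by group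
    rw [this]
  have hnorm : (b⁻¹ * (m * a)) ∈ Subgroup.normalizer ((S : Subgroup G) : Set G) := by
    apply Sylow.smul_eq_iff_mem_normalizer.mp
    rw [mul_smul, heq, inv_smul_smul]
  have : Finite ↥(S : Subgroup G) := inferInstance
  have h1 := conj_fix_of_char S C hCc hCh c hc hc2 _ hnorm
  have hmx : m * x = x * m := by
    have := Subgroup.mem_centralizer_iff.mp hmH x (Set.mem_singleton x)
    exact this.symm
  calc b * (c : G) * b⁻¹ = b * ((b⁻¹ * (m * a)) * (c : G) * (b⁻¹ * (m * a))⁻¹) * b⁻¹ := by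
        rw [h1]
    _ = m * (a * (c : G) * a⁻¹) * m⁻¹ := by group
    _ = (m * x) * m⁻¹ := by rw [hx]
    _ = x := by rw [hmx]; group

/-- Under the central-intersection hypothesis the distinguished involution is isolated in `S`. -/
theorem isolated_of_central_intersections
    (hCI : ∀ S T : Sylow 2 G, S ≠ T → ∃ U : Sylow 2 G,
      (S : Subgroup G) ⊓ (T : Subgroup G) ≤
        (Subgroup.center ↥(U : Subgroup G)).map (U : Subgroup G).subtype)
    (g : G) (hg : g * (c : G) * g⁻¹ ∈ (S : Subgroup G)) : g * (c : G) * g⁻¹ = c := by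
  have : Fact (Nat.Prime 2) := ⟨Nat.prime_two⟩
  have : Finite ↥(S : Subgroup G) := inferInstance
  set c' := g * (c : G) * g⁻¹ with hc'
  -- `c` is central in `S`
  have hcS : ∀ s ∈ (S : Subgroup G), s * (c : G) * s⁻¹ = c := fun s hs =>
    conj_fix_of_char S C hCc hCh c hc hc2 s (Subgroup.le_normalizer hs)
  have hScen : (S : Subgroup G) ≤ Subgroup.centralizer ({(c : G)} : Set G) := by
    intro s hs
    rw [Subgroup.mem_centralizer_iff]
    intro y hy
    rw [Set.mem_singleton_iff] at hy
    subst hy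
    have := hcS s hs
    calc (c : G) * s = (s * (c : G) * s⁻¹) * s := by rw [this]
      _ = s * (c : G) := by group
  have hone : ((1 : G) • S : Sylow 2 G) = S := one_smul G S
  -- `T = g • S` centralizes `c'`
  have hTcen : ((g • S : Sylow 2 G) : Subgroup G) ≤ Subgroup.centralizer ({c'} : Set G) := by
    intro y hy
    rw [mem_smul_sylow] at hy
    rw [Subgroup.mem_centralizer_iff]
    intro z hz
    rw [Set.mem_singleton_iff] at hz
    subst hz
    have h1 := hcS _ hy
    calc c' * y = g * ((c : G) * (g⁻¹ * y * g)) * g⁻¹ := by rw [hc']; group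
      _ = g * (((g⁻¹ * y * g) * (c : G) * (g⁻¹ * y * g)⁻¹) * (g⁻¹ * y * g)) * g⁻¹ := by rw [h1]
      _ = y * c' := by rw [hc']; group
  set H := Subgroup.centralizer ({c'} : Set G) with hH
  -- a Sylow subgroup `R` of `G` inside `H` containing `C_S(c')`
  set D := (S : Subgroup G) ⊓ H with hD
  have hDp : IsPGroup 2 (D.subgroupOf H) :=
    (S.isPGroup'.to_le inf_le_left).of_equiv (Subgroup.subgroupOfEquivOfLe inf_le_right).symm
  obtain ⟨R₀, hR₀⟩ := hDp.exists_le_sylow
  have hfac : (Nat.card H).factorization 2 = (Nat.card G).factorization 2 := by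
    apply le_antisymm
    · exact (Nat.factorization_le_iff_dvd Nat.card_pos.ne' Nat.card_pos.ne').mpr
        (Subgroup.card_subgroup_dvd_card H) 2
    · have h1 : 2 ^ (Nat.card G).factorization 2 ∣ Nat.card H := by
        rw [← Sylow.card_eq_multiplicity (g • S)]
        exact Subgroup.card_dvd_of_le hTcen
      exact (Nat.prime_two.pow_dvd_iff_le_factorization Nat.card_pos.ne').mp h1
  have hRcard : Nat.card ((R₀ : Subgroup H).map H.subtype) = 2 ^ (Nat.card G).factorization 2 := by
    rw [Subgroup.card_map_of_injective H.subtype_injective, Sylow.card_eq_multiplicity, hfac]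
  set R : Sylow 2 G := Sylow.ofCard ((R₀ : Subgroup H).map H.subtype) hRcard with hR
  have hRcoe : (R : Subgroup G) = (R₀ : Subgroup H).map H.subtype := Sylow.coe_ofCard _ _
  have hRH : (R : Subgroup G) ≤ H := by rw [hRcoe]; exact Subgroup.map_subtype_le _
  have hDR : D ≤ (R : Subgroup G) := by
    intro y hy
    rw [hRcoe]
    exact ⟨⟨y, (Subgroup.mem_inf.mp hy).2⟩, hR₀ (Subgroup.mem_subgroupOf.mpr hy), rfl⟩
  obtain ⟨r, hr⟩ := MulAction.exists_smul_eq G S R
  -- the distinguished involution of `R` is `c'`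
  have hRinv : r * (c : G) * r⁻¹ = c' :=
    inv_transfer S C hCc hCh c hc hc2 g r c' rfl hTcen (hr ▸ hRH)
  -- `c` and `c'` lie in `D`
  have hcc' : (c : G) * c' = c' * (c : G) := by
    have := hcS c' hg
    calc (c : G) * c' = (c' * (c : G) * c'⁻¹) * c' := by rw [this]
      _ = c' * (c : G) := by group
  have hcD : (c : G) ∈ D := by
    refine Subgroup.mem_inf.mpr ⟨c.2, ?_⟩
    rw [hH, Subgroup.mem_centralizer_iff]
    intro z hz
    rw [Set.mem_singleton_iff] at hz
    subst hz
    exact hcc'.symm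
  have hc'D : c' ∈ D := by
    refine Subgroup.mem_inf.mpr ⟨hg, ?_⟩
    rw [hH, Subgroup.mem_centralizer_iff]
    intro z hz
    rw [Set.mem_singleton_iff] at hz
    subst hz
    rfl
  by_cases hRS : S = R
  · -- `R = S`
    have hr' : r ∈ Subgroup.normalizer ((S : Subgroup G) : Set G) := by
      apply Sylow.smul_eq_iff_mem_normalizer.mp
      rw [hr, ← hRS]
    have := conj_fix_of_char S C hCc hCh c hc hc2 r hr'
    rw [← hRinv, this]
  · obtain ⟨U, hU⟩ := hCI S R hRS
    obtain ⟨w, hw⟩ := MulAction.exists_smul_eq G S U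
    have hcenU : ∀ z : G, z ∈ (S : Subgroup G) ⊓ (R : Subgroup G) →
        (U : Subgroup G) ≤ Subgroup.centralizer ({z} : Set G) := by
      intro z hz v hv
      obtain ⟨z0, hz0, rfl⟩ := hU hz
      rw [Subgroup.mem_centralizer_iff]
      intro y hy
      rw [Set.mem_singleton_iff] at hy
      subst hy
      have := Subgroup.mem_center_iff.mp hz0 ⟨v, hv⟩
      have := congrArg Subtype.val this
      simpa using this.symm
    have h1 : w * (c : G) * w⁻¹ = c := by
      have hA : (((1 : G) • S : Sylow 2 G) : Subgroup G) ≤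
          Subgroup.centralizer ({(c : G)} : Set G) := by
        rw [hone]; exact hScen
      exact inv_transfer S C hCc hCh c hc hc2 1 w (c : G) (by simp) hA
        (hw ▸ hcenU _ (Subgroup.mem_inf.mpr ⟨c.2, hDR hcD⟩))
    have h2 : w * (c : G) * w⁻¹ = c' :=
      inv_transfer S C hCc hCh c hc hc2 g w c' rfl hTcen
        (hw ▸ hcenU _ (Subgroup.mem_inf.mpr ⟨hg, hDR hc'D⟩))
    rw [← h2, h1]

end Char

/-- Row S3184 from Z*. -/
theorem row3184 (hZ : ZStarStatement.{u})
    (hCI : ∀ S T : Sylow 2 G, S ≠ T → ∃ U : Sylow 2 G,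
      (S : Subgroup G) ⊓ (T : Subgroup G) ≤
        (Subgroup.center ↥(U : Subgroup G)).map (U : Subgroup G).subtype)
    (S : Sylow 2 G) (C : Subgroup ↥(S : Subgroup G)) (hC : C ≠ ⊥) (hCc : IsCyclic ↥C)
    (hCh : C.Characteristic) (c : ↥(S : Subgroup G)) (hc : c ∈ C) (hc2 : orderOf c = 2) :
    ∀ g : G, (QuotientGroup.mk (s := Cfsg.oddCore G) (g * (c : G) * g⁻¹)) =
      QuotientGroup.mk (s := Cfsg.oddCore G) (c : G) := by
  have hco : orderOf (c : G) = 2 := by rw [Subgroup.orderOf_coe, hc2]
  obtain ⟨N, hNn, hNodd, hNc⟩ := hZ S (c : G) hco c.2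
    (isolated_of_central_intersections S C hCc hCh c hc hc2 hCI)
  intro g
  rw [QuotientGroup.eq]
  have h1 := le_oddCore N hNn hNodd (hNc g)
  have hcc : (c : G) * (c : G) = 1 := by
    have := pow_orderOf_eq_one (c : G)
    rwa [hco, pow_two] at this
  have hcinv : (c : G)⁻¹ = c := inv_eq_of_mul_eq_one_left hcc
  have h2 : (g * (c : G) * g⁻¹)⁻¹ * (c : G) = g * ((c : G) * g⁻¹ * (c : G)⁻¹ * g⁻¹⁻¹) * g⁻¹ := by
    rw [hcinv]
    have : (g * (c : G) * g⁻¹)⁻¹ = g * (c : G)⁻¹ * g⁻¹ := by group
    rw [this, hcinv]; group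
  rw [h2]
  exact (pPrimeCore_normal 2 G).conj_mem _ (le_oddCore N hNn hNodd (hNc g⁻¹)) g

end Cfsg.Agent.ZStarCons
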