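import Cfsg.Agent.Lib.Lead.ZStarCons9

/-!
# Z* for subgroups all of whose elements are isolated in a Sylow 2-subgroup
-/

set_option autoImplicit false

universe u

namespace Cfsg.Agent.ZStarCons

open Cfsg Cfsg.Agent.H2
open scoped Pointwise

/-- Every element of `Q ≤ S` is the only one of its conjugates in `S`. -/
def IsoProp {G : Type u} [Group G] (S Q : Subgroup G) : Prop :=
  Q ≤ S ∧ ∀ y ∈ Q, ∀ g : G, g * y * g⁻¹ ∈ S → g * y * g⁻¹ = y

theorem IsoProp.map_mk' {G : Type u} [Group G] [Finite G] (S : Sylow 2 G) (Q : Subgroup G)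
    (N : Subgroup G) [N.Normal] (h : IsoProp (S : Subgroup G) Q) :
    IsoProp ((S : Subgroup G).map (QuotientGroup.mk' N)) (Q.map (QuotientGroup.mk' N)) := by
  have : Fact (Nat.Prime 2) := ⟨Nat.prime_two⟩
  obtain ⟨hQS, hiso⟩ := h
  set π := QuotientGroup.mk' N with hπ
  refine ⟨Subgroup.map_mono hQS, ?_⟩
  rintro _ ⟨y, hy, rfl⟩ gb hgb
  obtain ⟨g, rfl⟩ := QuotientGroup.mk'_surjective N gb
  set X := (S : Subgroup G) ⊔ N with hX
  have h1 : g * y * g⁻¹ ∈ X := by
    have h2 : π (g * y * g⁻¹) ∈ (S : Subgroup G).map π := by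
      rwa [← map_inv, ← map_mul, ← map_mul] at hgb
    have h3 : g * y * g⁻¹ ∈ ((S : Subgroup G).map π).comap π := h2
    rwa [Subgroup.comap_map_eq, QuotientGroup.ker_mk'] at h3
  set T := (Subgroup.zpowers y).map (MulAut.conj g).toMonoidHom with hT
  have hTX : T ≤ X := by
    rintro _ ⟨w, hw, rfl⟩
    obtain ⟨k, rfl⟩ := Subgroup.mem_zpowers_iff.mp hw
    change g * y ^ k * g⁻¹ ∈ X
    rw [← conj_zpow]
    exact Subgroup.zpow_mem _ h1 k
  have hTp : IsPGroup 2 T :=
    (S.isPGroup'.to_le (Subgroup.zpowers_le.mpr (hQS hy))).map _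
  obtain ⟨x', hx'X, hx'⟩ := exists_conj_into_sylow S X T le_sup_left hTX hTp
  obtain ⟨s, hs, n, hn, rfl⟩ := Subgroup.mem_sup_of_normal_right.mp hx'X
  have h4 : (n * g) * y * (n * g)⁻¹ ∈ (S : Subgroup G) := by
    have h5 := hx' (g * y * g⁻¹) ⟨y, Subgroup.mem_zpowers y, rfl⟩
    have h6 : (n * g) * y * (n * g)⁻¹ = s⁻¹ * (s * n * (g * y * g⁻¹) * (s * n)⁻¹) * s := by group
    rw [h6]
    exact Subgroup.mul_mem _ (Subgroup.mul_mem _ (Subgroup.inv_mem _ hs) h5) hs
  have h7 := hiso y hy (n * g) h4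
  have hπn : π n = 1 := (QuotientGroup.eq_one_iff n).mpr hn
  calc π g * π y * (π g)⁻¹ = π n * π g * π y * (π n * π g)⁻¹ := by rw [hπn, one_mul]
    _ = π (n * g * y * (n * g)⁻¹) := by simp
    _ = π y := by rw [h7]

/-- A subgroup of a Sylow `2`-subgroup all of whose elements are isolated lies in `Z*(G)`
(assuming the Z*-theorem). -/
theorem iso_le_zstar (hZ : ZStarStatement.{u}) : ∀ (n : ℕ) (G : Type u) [Group G] [Finite G],
    Nat.card G = n → ∀ (S : Sylow 2 G) (Q : Subgroup G), IsoProp (S : Subgroup G) Q →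
      ∀ x ∈ Q, ∀ g : G, g * x * g⁻¹ * x⁻¹ ∈ oddCore G := by
  intro n
  induction n using Nat.strong_induction_on with
  | _ n ih =>
  intro G _ _ hn S Q hQ x hx g
  have : Fact (Nat.Prime 2) := ⟨Nat.prime_two⟩
  obtain ⟨hQS, hext⟩ := id hQ
  by_cases hO : oddCore G = ⊥
  · -- `O(G) = 1`
    by_cases hQbot : Q = ⊥
    · have hx1 : x = 1 := by rw [hQbot] at hx; exact Subgroup.mem_bot.mp hx
      rw [hx1]; simp
    -- elements of `Q` are centralized by `S`
    have hQcen : ∀ y ∈ Q, ∀ s ∈ (S : Subgroup G), s * y * s⁻¹ = y := by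
      intro y hy s hs
      exact hext y hy s
        (Subgroup.mul_mem _ (Subgroup.mul_mem _ hs (hQS hy)) (Subgroup.inv_mem _ hs))
    -- an involution of `Q`
    have hQp : IsPGroup 2 Q := S.isPGroup'.to_le hQS
    have h2dvd : 2 ∣ Nat.card Q := by
      obtain ⟨k, hk⟩ := IsPGroup.iff_card.mp hQp
      rcases Nat.eq_zero_or_pos k with rfl | hkpos
      · exfalso
        rw [pow_zero] at hk
        exact hQbot (Subgroup.card_eq_one.mp hk)
      · rw [hk]; exact dvd_pow_self 2 hkpos.ne'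
    obtain ⟨u0, hu0⟩ := exists_prime_orderOf_dvd_card' (G := Q) 2 h2dvd
    set u : G := (u0 : G) with hu
    have huo : orderOf u = 2 := by rw [hu, Subgroup.orderOf_coe, hu0]
    have huQ : u ∈ Q := u0.2
    have huu : u * u = 1 := by rw [← pow_two, ← huo, pow_orderOf_eq_one]
    have huinv : u⁻¹ = u := inv_eq_of_mul_eq_one_left huu
    have hu1 : u ≠ 1 := by
      intro h; rw [h, orderOf_one] at huo; omega
    obtain ⟨N, hNn, hNodd, hNc⟩ := hZ S u huo (hQS huQ) (hext u huQ)
    have hNbot : N = ⊥ := le_bot_iff.mp (hO ▸ le_oddCore N hNn hNodd)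
    have hucen : ∀ g' : G, g' * u = u * g' := by
      intro g'
      have h1 := hNc g'
      rw [hNbot, Subgroup.mem_bot] at h1
      calc g' * u = (u * g' * u⁻¹ * g'⁻¹)⁻¹ * (u * g') := by group
        _ = u * g' := by rw [h1, inv_one, one_mul]
    set Z := Subgroup.zpowers u with hZdef
    have hZn : Z.Normal := by
      constructor
      intro z hz g'
      obtain ⟨k, rfl⟩ := Subgroup.mem_zpowers_iff.mp hz
      have h1 : Commute g' u := hucen g'
      have h2 : g' * u ^ k * g'⁻¹ = u ^ k := by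
        rw [(h1.zpow_right k).eq]; group
      rw [h2]; exact Subgroup.zpow_mem _ (Subgroup.mem_zpowers u) k
    have hZc : Nat.card Z = 2 := by rw [hZdef, Nat.card_zpowers, huo]
    have hZmem : ∀ z ∈ Z, z = 1 ∨ z = u := by
      intro z hz
      obtain ⟨k, rfl⟩ := Subgroup.mem_zpowers_iff.mp hz
      rcases Int.even_or_odd' k with ⟨j, rfl | rfl⟩
      · left
        rw [zpow_mul, zpow_two, huu, one_zpow]
      · right
        rw [zpow_add, zpow_mul, zpow_two, huu, one_zpow, one_mul, zpow_one]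
    have hcardlt : Nat.card (G ⧸ Z) < n := by
      have h1 := Subgroup.card_eq_card_quotient_mul_card_subgroup Z
      rw [hZc, hn] at h1
      have : 0 < Nat.card (G ⧸ Z) := Nat.card_pos
      omega
    set π := QuotientGroup.mk' Z with hπ
    have hObar : oddCore (G ⧸ Z) = ⊥ := oddCore_quotient_central_two u huo hucen hO
    have hQbar := IsoProp.map_mk' S Q Z hQ
    rw [← Sylow.coe_mapSurjective (QuotientGroup.mk'_surjective Z) S] at hQbar
    -- all commutators with elements of `Q` lie in `Z`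
    have hcommZ : ∀ y ∈ Q, ∀ g' : G, g' * y * g'⁻¹ * y⁻¹ ∈ Z := by
      intro y hy g'
      have h1 := ih (Nat.card (G ⧸ Z)) hcardlt (G ⧸ Z) rfl
        (Sylow.mapSurjective (QuotientGroup.mk'_surjective Z) S) (Q.map π) hQbar
        (π y) (Subgroup.mem_map_of_mem _ hy) (π g')
      rw [hObar, Subgroup.mem_bot, ← map_inv, ← map_inv, ← map_mul, ← map_mul, ← map_mul] at h1
      exact (QuotientGroup.eq_one_iff _).mp h1
    -- conclude by an index argument
    rw [hO, Subgroup.mem_bot]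
    by_contra hne
    have hgx : g * x * g⁻¹ * x⁻¹ = u := (hZmem _ (hcommZ x hx g)).resolve_left hne
    set C := Subgroup.centralizer ({x} : Set G) with hC
    have hmemC : ∀ b : G, b ∈ C ↔ b * x * b⁻¹ * x⁻¹ = 1 := by
      intro b
      rw [hC, Subgroup.mem_centralizer_iff]
      simp only [Set.mem_singleton_iff, forall_eq]
      constructor
      · intro h
        calc b * x * b⁻¹ * x⁻¹ = (b * x) * b⁻¹ * x⁻¹ := by group
          _ = 1 := by rw [← h]; group
      · intro h
        calc x * b = (b * x * b⁻¹ * x⁻¹)⁻¹ * (b * x) := by group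
          _ = b * x := by rw [h, inv_one, one_mul]
    have hSC : (S : Subgroup G) ≤ C := by
      intro s hs
      rw [hmemC, hQcen x hx s hs]; group
    have hgC : g ∉ C := fun h => hne ((hmemC g).mp h)
    have hidx : C.index = 2 := by
      rw [Subgroup.index_eq_two_iff]
      refine ⟨g⁻¹, fun b => ?_⟩
      by_cases hb : b ∈ C
      · right
        refine ⟨hb, fun h => hgC ?_⟩
        have h1 : g = (b * g⁻¹)⁻¹ * b := by group
        rw [h1]
        exact C.mul_mem (C.inv_mem h) hb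
      · left
        refine ⟨?_, hb⟩
        have hbx : b * x * b⁻¹ * x⁻¹ = u :=
          (hZmem _ (hcommZ x hx b)).resolve_left (fun h => hb ((hmemC b).mpr h))
        rw [hmemC]
        have h1 : g * x * g⁻¹ = u * x := by
          calc g * x * g⁻¹ = (g * x * g⁻¹ * x⁻¹) * x := by group
            _ = u * x := by rw [hgx]
        have h2 : g⁻¹ * x * g = u * x := by
          have h3 : x = g⁻¹ * (u * x) * g := by rw [← h1]; group
          have h4 : g⁻¹ * (u * x) * g = u * (g⁻¹ * x * g) := by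
            calc g⁻¹ * (u * x) * g = (g⁻¹ * u) * x * g := by group
              _ = (u * g⁻¹) * x * g := by rw [hucen g⁻¹]
              _ = u * (g⁻¹ * x * g) := by group
          calc g⁻¹ * x * g = (u * u) * (g⁻¹ * x * g) := by rw [huu, one_mul]
            _ = u * (u * (g⁻¹ * x * g)) := by group
            _ = u * x := by rw [← h4, ← h3]
        have h5 : b * x * b⁻¹ = u * x := by
          calc b * x * b⁻¹ = (b * x * b⁻¹ * x⁻¹) * x := by group
            _ = u * x := by rw [hbx]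
        calc b * g⁻¹ * x * (b * g⁻¹)⁻¹ * x⁻¹ = b * (g⁻¹ * x * g) * b⁻¹ * x⁻¹ := by group
          _ = b * (u * x) * b⁻¹ * x⁻¹ := by rw [h2]
          _ = (b * u) * x * b⁻¹ * x⁻¹ := by group
          _ = (u * b) * x * b⁻¹ * x⁻¹ := by rw [hucen b]
          _ = u * (b * x * b⁻¹) * x⁻¹ := by group
          _ = u * (u * x) * x⁻¹ := by rw [h5]
          _ = u * u := by group
          _ = 1 := huu
    have h1 : C.index ∣ (S : Subgroup G).index := Subgroup.index_dvd_of_le hSC
    rw [hidx] at h1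
    exact S.not_dvd_index h1
  · -- `O(G) ≠ 1`
    set O := oddCore G with hOdef
    have hcardlt : Nat.card (G ⧸ O) < n := by
      have h1 := Subgroup.card_eq_card_quotient_mul_card_subgroup O
      rw [hn] at h1
      have h2 : 1 < Nat.card O := (Subgroup.one_lt_card_iff_ne_bot O).mpr hO
      have h3 : 0 < Nat.card (G ⧸ O) := Nat.card_pos
      nlinarith
    set π := QuotientGroup.mk' O with hπ
    have hObar : oddCore (G ⧸ O) = ⊥ :=
      Cfsg.Agent.Lib.Lead.PiCore.pPrimeCore_quotient_eq_bot Nat.prime_two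
    have hQbar := IsoProp.map_mk' S Q O hQ
    rw [← Sylow.coe_mapSurjective (QuotientGroup.mk'_surjective O) S] at hQbar
    have h1 := ih (Nat.card (G ⧸ O)) hcardlt (G ⧸ O) rfl
      (Sylow.mapSurjective (QuotientGroup.mk'_surjective O) S) (Q.map π) hQbar
      (π x) (Subgroup.mem_map_of_mem _ hx) (π g)
    rw [hObar, Subgroup.mem_bot, ← map_inv, ← map_inv, ← map_mul, ← map_mul, ← map_mul] at h1
    exact (QuotientGroup.eq_one_iff _).mp h1

/-- If `Q ≤ S` lies in `Z*(G)` then `G = O(G) C_G(Q)`. -/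
theorem exists_oddCore_mul_centralizer {G : Type u} [Group G] [Finite G] (S : Sylow 2 G)
    (Q : Subgroup G) (hQS : Q ≤ S) (hQZ : ∀ x ∈ Q, ∀ g : G, g * x * g⁻¹ * x⁻¹ ∈ oddCore G)
    (hQab : ∀ x ∈ Q, ∀ y ∈ Q, x * y = y * x) (h : G) :
    ∃ o ∈ oddCore G, ∃ c ∈ Subgroup.centralizer (Q : Set G), h = o * c := by
  have : Fact (Nat.Prime 2) := ⟨Nat.prime_two⟩
  set O := oddCore G with hO
  have hOodd : Odd (Nat.card O) := oddCore_odd
  have hOS : ∀ x, x ∈ O → x ∈ (S : Subgroup G) → x = 1 :=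
    eq_one_of_mem_odd_of_mem_two O S hOodd S.isPGroup'
  have hnorm : ∀ n : G, (∀ q ∈ Q, n * q * n⁻¹ ∈ Q) → ∀ q ∈ Q, n * q * n⁻¹ = q := by
    intro n hn q hq
    have h1 := hOS _ (hQZ q hq n)
      (Subgroup.mul_mem _ (hQS (hn q hq)) (Subgroup.inv_mem _ (hQS hq)))
    calc n * q * n⁻¹ = (n * q * n⁻¹ * q⁻¹) * q := by group
      _ = q := by rw [h1, one_mul]
  set L := O ⊔ Q with hL
  set B := Q.map (MulAut.conj h).toMonoidHom with hB
  have hBmem : ∀ y, y ∈ B ↔ ∃ q ∈ Q, h * q * h⁻¹ = y := by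
    intro y
    rw [hB, Subgroup.mem_map]
    rfl
  have hBL : B ≤ L := by
    intro y hy
    obtain ⟨q, hq, rfl⟩ := (hBmem y).mp hy
    have h1 : h * q * h⁻¹ = (h * q * h⁻¹ * q⁻¹) * q := by group
    rw [h1]
    exact L.mul_mem (le_sup_left (b := Q) (hQZ q hq h)) (le_sup_right (a := O) hq)
  have hQp : IsPGroup 2 Q := S.isPGroup'.to_le hQS
  obtain ⟨a, ha⟩ := IsPGroup.iff_card.mp hQp
  have hBc : Nat.card B = 2 ^ a := by
    rw [hB, Subgroup.card_map_of_injective (MulAut.conj h).injective, ha]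
  have hLfac : (Nat.card L).factorization 2 = a := by
    apply le_antisymm
    · by_contra hlt
      rw [not_le] at hlt
      have h1 : 2 ^ (a + 1) ∣ Nat.card L :=
        (Nat.prime_two.pow_dvd_iff_le_factorization Nat.card_pos.ne').mpr hlt
      have h3 : Nat.card L = Nat.card O * O.relIndex Q := by
        rw [← card_mul_relIndex_of_le O L le_sup_left, hL, Subgroup.relIndex_sup_left]
      have h4 : O.relIndex Q ∣ 2 ^ a := ha ▸ Subgroup.relIndex_dvd_card O Q
      have h5 : 2 ^ (a + 1) ∣ Nat.card O * 2 ^ a :=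
        h1.trans (h3 ▸ Nat.mul_dvd_mul_left _ h4)
      rw [pow_succ, mul_comm (Nat.card O)] at h5
      have h6 : 2 ∣ Nat.card O := Nat.dvd_of_mul_dvd_mul_left (by positivity) h5
      exact (Nat.not_even_iff_odd.mpr hOodd) (even_iff_two_dvd.mpr h6)
    · have h1 : 2 ^ a ∣ Nat.card L := ha ▸ Subgroup.card_dvd_of_le (le_sup_right (a := O))
      exact (Nat.prime_two.pow_dvd_iff_le_factorization Nat.card_pos.ne').mp h1
  obtain ⟨m, hmL, hm⟩ := exists_conj_of_card_eq (p := 2) L Q B le_sup_right hBL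
    (by rw [hLfac, ha]) (by rw [hLfac, hBc])
  -- `m * h` centralizes `Q`
  have hcen : ∀ q ∈ Q, (m * h) * q * (m * h)⁻¹ = q := by
    apply hnorm
    intro q hq
    rw [hm]
    have h1 : m⁻¹ * (m * h * q * (m * h)⁻¹) * m = h * q * h⁻¹ := by group
    rw [h1]
    exact (hBmem _).mpr ⟨q, hq, rfl⟩
  -- decompose `m⁻¹ ∈ L = O Q`
  have hminv : m⁻¹ ∈ O ⊔ Q := L.inv_mem hmL
  rw [sup_comm] at hminv
  obtain ⟨q, hq, o, ho, hqo⟩ := Subgroup.mem_sup_of_normal_right.mp hminv
  -- `m⁻¹ = q * o = (q o q⁻¹) q`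
  refine ⟨q * o * q⁻¹, (pPrimeCore_normal 2 G).conj_mem o ho q, q * (m * h), ?_, ?_⟩
  · rw [Subgroup.mem_centralizer_iff]
    intro y hy
    have h1 := hcen y hy
    have h2 : y * (m * h) = (m * h) * y := by
      calc y * (m * h) = ((m * h) * y * (m * h)⁻¹) * (m * h) := by rw [h1]
        _ = (m * h) * y := by group
    calc y * (q * (m * h)) = (y * q) * (m * h) := by group
      _ = (q * y) * (m * h) := by rw [hQab y hy q hq]
      _ = q * (y * (m * h)) := by group
      _ = q * ((m * h) * y) := by rw [h2]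
      _ = q * (m * h) * y := by group
  · calc h = m⁻¹ * (m * h) := by group
      _ = (q * o) * (m * h) := by rw [hqo]
      _ = q * o * q⁻¹ * (q * (m * h)) := by group

end Cfsg.Agent.ZStarCons
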