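import Cfsg.Agent.Lib.Lead.ZStarCons12
import Cfsg.Prelude.Def_Transfer

/-!
# Weakly closed subgroups of `Z(S)` (row S1215), assuming the Z*-theorem
-/

set_option autoImplicit false

universe u

namespace Cfsg.Agent.ZStarCons

open Cfsg Cfsg.Agent.H2
open scoped Pointwise

variable {H : Type u} [Group H] [Finite H]

/-- An element of `N_H(⟨y⟩)` centralizes `y`, when `y` is centralized by a Sylow `2`-subgroup
containing it. -/
lemma normalizer_zpowers_centralizes (S : Sylow 2 H) (y : H) (hyS : y ∈ (S : Subgroup H))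
    (hcen : ∀ s ∈ (S : Subgroup H), s * y = y * s) (g : H)
    (hg : g ∈ Subgroup.normalizer ((Subgroup.zpowers y : Subgroup H) : Set H)) :
    g * y * g⁻¹ = y := by
  have : Fact (Nat.Prime 2) := ⟨Nat.prime_two⟩
  set W := Subgroup.zpowers y with hW
  set A := Subgroup.normalizer (W : Set H) with hA
  have hWA : W ≤ A := Subgroup.le_normalizer
  have hnorm : (W.subgroupOf A).Normal := Subgroup.normal_in_normalizer
  let θ : ↥A →* MulAut ↥(W.subgroupOf A) := MulAut.conjNormal
  have hcyc : IsCyclic ↥(W.subgroupOf A) :=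
    (Subgroup.subgroupOfEquivOfLe hWA).isCyclic.mpr inferInstance
  -- `Aut(W)` is a `2`-group
  obtain ⟨n, hn⟩ := (IsPGroup.iff_orderOf.mp S.isPGroup') ⟨y, hyS⟩
  rw [Subgroup.orderOf_mk] at hn
  have hWc : Nat.card ↥(W.subgroupOf A) = 2 ^ n := by
    rw [Nat.card_congr (Subgroup.subgroupOfEquivOfLe hWA).toEquiv, hW, Nat.card_zpowers, hn]
  have hAutp : IsPGroup 2 (MulAut ↥(W.subgroupOf A)) := by
    have h1 := IsCyclic.card_mulAut ↥(W.subgroupOf A)
    rw [hWc] at h1
    rcases Nat.eq_zero_or_pos n with rfl | hnpos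
    · apply IsPGroup.of_card (n := 0)
      rw [h1]; simp
    · apply IsPGroup.of_card (n := n - 1)
      rw [h1, Nat.totient_prime_pow Nat.prime_two hnpos]; simp
  -- `S ≤ A` and `S` acts trivially
  have hSA : (S : Subgroup H) ≤ A := by
    intro s hs
    rw [hA, Subgroup.mem_normalizer_iff]
    have hsw : ∀ w ∈ W, s * w * s⁻¹ = w := by
      intro w hw
      obtain ⟨k, rfl⟩ := Subgroup.mem_zpowers_iff.mp hw
      have h1 : Commute s y := hcen s hs
      rw [(h1.zpow_right k).eq]; group
    intro w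
    constructor
    · intro hw; rw [hsw w hw]; exact hw
    · intro hw
      have h1 := hsw _ hw
      have h2 : s * w * s⁻¹ = w := by
        calc s * w * s⁻¹ = s⁻¹ * (s * (s * w * s⁻¹) * s⁻¹) * s := by group
          _ = s⁻¹ * (s * w * s⁻¹) * s := by rw [h1]
          _ = w := by group
      rw [← h2]; exact hw
  have hSker : (S : Subgroup H).subgroupOf A ≤ θ.ker := by
    intro s hs
    rw [MonoidHom.mem_ker]
    apply MulEquiv.ext
    intro w
    apply Subtype.ext
    apply Subtype.ext
    rw [MulAut.conjNormal_apply]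
    change (s : H) * ((w : ↥A) : H) * (s : H)⁻¹ = ((w : ↥A) : H)
    have hwW : ((w : ↥A) : H) ∈ W := Subgroup.mem_subgroupOf.mp w.2
    obtain ⟨k, hk⟩ := Subgroup.mem_zpowers_iff.mp hwW
    have h1 : Commute (s : H) y := hcen s (Subgroup.mem_subgroupOf.mp hs)
    rw [← hk, (h1.zpow_right k).eq]; group
  -- the kernel has odd index which is a power of `2`
  have hidx1 : θ.ker.index ∣ ((S : Subgroup H).subgroupOf A).index := Subgroup.index_dvd_of_le hSker
  have hidx2 : ((S : Subgroup H).subgroupOf A).index ∣ (S : Subgroup H).index :=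
    Subgroup.relIndex_dvd_index_of_le hSA
  have hodd : ¬ 2 ∣ θ.ker.index := fun h => S.not_dvd_index (h.trans (hidx1.trans hidx2))
  obtain ⟨j, hj⟩ := IsPGroup.iff_card.mp (hAutp.to_subgroup θ.range)
  have hker : θ.ker = ⊤ := by
    rw [← Subgroup.index_eq_one, Subgroup.index_ker, hj]
    rcases Nat.eq_zero_or_pos j with rfl | hjpos
    · simp
    · exfalso
      apply hodd
      rw [Subgroup.index_ker, hj]
      exact dvd_pow_self 2 hjpos.ne'
  have hθg : θ ⟨g, hg⟩ = 1 := by
    rw [← MonoidHom.mem_ker, hker]; exact Subgroup.mem_top _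
  have hyW : y ∈ W := Subgroup.mem_zpowers y
  have h1 := MulAut.conjNormal_apply (H := W.subgroupOf A) (⟨g, hg⟩ : ↥A)
    ⟨⟨y, hWA hyW⟩, Subgroup.mem_subgroupOf.mpr hyW⟩
  change ((θ ⟨g, hg⟩) _ : ↥A) = _ at h1
  rw [hθg] at h1
  have h2 := congrArg Subtype.val h1
  simpa using h2.symm

/-- Row S1215 from Z* (the hypotheses on the Sylow type and on `K` are not needed). -/
theorem row1215 (hZ : ZStarStatement.{u}) (S : Sylow 2 H)
    (hWc : ∀ Z₀ : Subgroup H,
      Z₀ ≤ ((Subgroup.center (S : Subgroup H)).map (S : Subgroup H).subtype) →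
        Cfsg.IsWeaklyClosed Z₀ (S : Subgroup H)) (h : H) :
    ∃ o ∈ Cfsg.oddCore H, ∃ c ∈ Subgroup.centralizer
      (((Subgroup.center (S : Subgroup H)).map (S : Subgroup H).subtype : Subgroup H) : Set H),
      h = o * c := by
  set Q := (Subgroup.center (S : Subgroup H)).map (S : Subgroup H).subtype with hQ
  have hQS : Q ≤ S := Subgroup.map_subtype_le _
  have hQcen : ∀ y ∈ Q, ∀ s ∈ (S : Subgroup H), s * y = y * s := by
    rintro _ ⟨z, hz, rfl⟩ s hs
    have := Subgroup.mem_center_iff.mp hz ⟨s, hs⟩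
    have := congrArg Subtype.val this
    simpa using this
  have hQab : ∀ x ∈ Q, ∀ y ∈ Q, x * y = y * x := fun x hx y hy => hQcen y hy x (hQS hx)
  have hiso : IsoProp (S : Subgroup H) Q := by
    refine ⟨hQS, fun y hy g hg => ?_⟩
    set W := Subgroup.zpowers y with hW
    obtain ⟨-, hWcl⟩ := hWc W (Subgroup.zpowers_le.mpr hy)
    have hmapS : W.map (MulAut.conj g).toMonoidHom ≤ S := by
      rintro _ ⟨w, hw, rfl⟩
      obtain ⟨k, rfl⟩ := Subgroup.mem_zpowers_iff.mp hw
      change g * y ^ k * g⁻¹ ∈ (S : Subgroup H)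
      rw [← conj_zpow]
      exact Subgroup.zpow_mem _ hg k
    have hmap := hWcl g hmapS
    have hgN : g ∈ Subgroup.normalizer (W : Set H) := by
      rw [Subgroup.mem_normalizer_iff]
      intro w
      constructor
      · intro hw
        rw [← hmap]
        exact ⟨w, hw, rfl⟩
      · intro hw
        rw [← hmap] at hw
        obtain ⟨w', hw', hww'⟩ := hw
        have : w' = w := by
          have h1 : g * w' * g⁻¹ = g * w * g⁻¹ := hww'
          calc w' = g⁻¹ * (g * w' * g⁻¹) * g := by group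
            _ = w := by rw [h1]; group
        rw [← this]; exact hw'
    exact normalizer_zpowers_centralizes S y (hQS hy) (hQcen y hy) g hgN
  have hQZ := iso_le_zstar hZ _ H rfl S Q hiso
  exact exists_oddCore_mul_centralizer S Q hQS hQZ hQab h

end Cfsg.Agent.ZStarCons
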