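import Cfsg.Agent.Lib.Lead.ZStarCons
import Cfsg.Agent.H9.KleinGeneral

set_option autoImplicit false

universe u

namespace Cfsg.Agent.ZStarCons

open Cfsg Cfsg.Agent.H2

/-- A finite group of even order without Klein four-subgroups: Z*-conclusion (row S0225). -/
theorem two_rank_one (hZ : ZStarStatement.{u}) {G : Type u} [Group G] [Finite G]
    (heven : Even (Nat.card G)) (hrank : ∀ E : Subgroup G, ¬ IsKleinFour E) :
    ∃ z : G, orderOf z = 2 ∧ ∃ N : Subgroup G, N.Normal ∧ Odd (Nat.card N) ∧
      ∀ g : G, z * g * z⁻¹ * g⁻¹ ∈ N := by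
  have : Fact (Nat.Prime 2) := ⟨Nat.prime_two⟩
  let P : Sylow 2 G := default
  have hPne : (P : Subgroup G) ≠ ⊥ := Sylow.ne_bot_of_dvd_card P (even_iff_two_dvd.mp heven)
  have : Nontrivial (P : Subgroup G) := (Subgroup.nontrivial_iff_ne_bot _).mpr hPne
  have hcen : Nontrivial (Subgroup.center (P : Subgroup G)) := P.isPGroup'.center_nontrivial
  -- a central involution of `P`
  have h2dvd : 2 ∣ Nat.card (Subgroup.center (P : Subgroup G)) := by
    have hp : IsPGroup 2 (Subgroup.center (P : Subgroup G)) := P.isPGroup'.to_subgroup _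
    obtain ⟨k, hk⟩ := IsPGroup.iff_card.mp hp
    rcases Nat.eq_zero_or_pos k with rfl | hkpos
    · exfalso
      rw [pow_zero] at hk
      have := (Nat.card_eq_one_iff_unique.mp hk).1
      exact not_subsingleton _ this
    · rw [hk]; exact dvd_pow_self 2 hkpos.ne'
  obtain ⟨c0, hc0⟩ := exists_prime_orderOf_dvd_card' (G := Subgroup.center (P : Subgroup G)) 2 h2dvd
  set c : G := ((c0 : (P : Subgroup G)) : G) with hc
  have hco : orderOf c = 2 := by rw [hc, Subgroup.orderOf_coe, Subgroup.orderOf_coe, hc0]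
  have hcP : c ∈ P := (c0 : (P : Subgroup G)).2
  have hcc : c * c = 1 := by rw [← pow_two, ← hco, pow_orderOf_eq_one]
  have hc1 : c ≠ 1 := by
    intro h; rw [h, orderOf_one] at hco; omega
  have hccomm : ∀ v ∈ (P : Subgroup G), c * v = v * c := by
    intro v hv
    have := Subgroup.mem_center_iff.mp c0.2 ⟨v, hv⟩
    have := congrArg Subtype.val this
    simpa [hc] using this.symm
  -- uniqueness of the involution in `P`
  have huniq : ∀ v ∈ (P : Subgroup G), orderOf v = 2 → v = c := by
    intro v hv hvo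
    by_contra hne
    have hvv : v * v = 1 := by rw [← pow_two, ← hvo, pow_orderOf_eq_one]
    have hv1 : v ≠ 1 := by
      intro h; rw [h, orderOf_one] at hvo; omega
    exact hrank _ (Cfsg.Agent.H9.KleinGeneral.isKleinFour_closure_pair c v hcc hvv
      (hccomm v hv) hc1 hv1 (Ne.symm hne))
  refine ⟨c, hco, ?_⟩
  apply hZ P c hco hcP
  intro g hg
  apply huniq _ hg
  rw [orderOf_eq_iff (by norm_num)]
  constructor
  · rw [pow_two]
    calc g * c * g⁻¹ * (g * c * g⁻¹) = g * (c * c) * g⁻¹ := by group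
      _ = 1 := by rw [hcc]; group
  · intro m hm hmpos
    have hm1 : m = 1 := by omega
    subst hm1
    rw [pow_one]
    intro h
    apply hc1
    calc c = g⁻¹ * (g * c * g⁻¹) * g := by group
      _ = 1 := by rw [h]; group

end Cfsg.Agent.ZStarCons
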