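import Cfsg.Agent.Lib.Lead.ZStarCons

set_option autoImplicit false

universe u

namespace Cfsg.Agent.ZStarCons

open Cfsg Cfsg.Agent.H2

section InvSylow

variable {G : Type u} [Group G] [Finite G]

/-- Conjugation by `z` of a subgroup. -/
abbrev cj (z : G) (S : Subgroup G) : Subgroup G := S.map (MulAut.conj z).toMonoidHom

omit [Finite G] in
lemma mem_cj (z : G) (S : Subgroup G) (x : G) : x ∈ cj z S ↔ z⁻¹ * x * z ∈ S := by
  constructor
  · rintro ⟨y, hy, rfl⟩
    simp only [MulEquiv.coe_toMonoidHom, MulAut.conj_apply]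
    have : z⁻¹ * (z * y * z⁻¹) * z = y := by group
    rwa [this]
  · intro h
    exact ⟨z⁻¹ * x * z, h, by simp only [MulEquiv.coe_toMonoidHom, MulAut.conj_apply]; group⟩

omit [Finite G] in
lemma card_cj (z : G) (S : Subgroup G) : Nat.card (cj z S) = Nat.card S :=
  Subgroup.card_map_of_injective (MulAut.conj z).injective

/-- An involution normalizing an odd-order subgroup `X` normalizes some Sylow `p`-subgroup
of `X`. -/
theorem exists_invariant_sylow (z : G) (hz2 : z * z = 1) (X : Subgroup G) (hX : Odd (Nat.card X))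
    (hzX : ∀ x ∈ X, z * x * z⁻¹ ∈ X) (p : ℕ) [Fact p.Prime] :
    ∃ S : Subgroup G, S ≤ X ∧ Nat.card S = p ^ (Nat.card X).factorization p ∧
      ∀ s ∈ S, z * s * z⁻¹ ∈ S := by
  classical
  set k := (Nat.card X).factorization p with hk
  let 𝒮 := {S : Subgroup G // S ≤ X ∧ Nat.card S = p ^ k}
  have hzinv : z⁻¹ = z := inv_eq_of_mul_eq_one_left hz2
  have hcjX : ∀ S : Subgroup G, S ≤ X → cj z S ≤ X := by
    intro S hS x hx
    rw [mem_cj] at hx
    have := hzX _ (hS hx)
    have h2 : z * (z⁻¹ * x * z) * z⁻¹ = x := by group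
    rwa [h2] at this
  have hcjcj : ∀ S : Subgroup G, cj z (cj z S) = S := by
    intro S
    ext x
    rw [mem_cj, mem_cj]
    have : z⁻¹ * (z⁻¹ * x * z) * z = (z⁻¹ * z⁻¹) * x * (z * z) := by group
    rw [this, hz2, hzinv, hz2, one_mul, mul_one]
  let f : 𝒮 → 𝒮 := fun S => ⟨cj z S.1, hcjX S.1 S.2.1, by rw [card_cj]; exact S.2.2⟩
  have hf : Function.Involutive f := fun S => Subtype.ext (hcjcj S.1)
  let σ : Equiv.Perm 𝒮 := hf.toPerm f
  have : Fintype 𝒮 := Fintype.ofFinite 𝒮
  -- the cardinality of `𝒮` is the number of Sylow subgroups of `X`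
  let e : Sylow p X → 𝒮 := fun P => ⟨(P : Subgroup X).map X.subtype, Subgroup.map_subtype_le _, by
    rw [Subgroup.card_map_of_injective X.subtype_injective]; exact Sylow.card_eq_multiplicity P⟩
  have he : Function.Bijective e := by
    constructor
    · intro P Q hPQ
      have h1 : (P : Subgroup X).map X.subtype = (Q : Subgroup X).map X.subtype :=
        congrArg Subtype.val hPQ
      exact Sylow.ext (Subgroup.map_injective X.subtype_injective h1)
    · rintro ⟨S, hSX, hSc⟩
      have hc : Nat.card (S.subgroupOf X) = p ^ (Nat.card X).factorization p := by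
        rw [Nat.card_congr (Subgroup.subgroupOfEquivOfLe hSX).toEquiv, hSc]
      refine ⟨Sylow.ofCard (S.subgroupOf X) hc, ?_⟩
      apply Subtype.ext
      change (S.subgroupOf X).map X.subtype = S
      rw [Subgroup.map_subgroupOf_eq_of_le hSX]
  have hcard : Fintype.card 𝒮 = Nat.card (Sylow p X) := by
    rw [← Nat.card_eq_fintype_card]
    exact (Nat.card_congr (Equiv.ofBijective e he)).symm
  have hodd : ¬ 2 ∣ Fintype.card 𝒮 := by
    rw [hcard]
    intro h2
    have P : Sylow p X := default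
    have h3 := (Sylow.card_dvd_index P).trans (Subgroup.index_dvd_card _)
    exact (Nat.not_even_iff_odd.mpr hX) (even_iff_two_dvd.mpr (h2.trans h3))
  have : Fact (Nat.Prime 2) := ⟨Nat.prime_two⟩
  have hσ2 : σ ^ 2 ^ 1 = 1 := by
    apply Equiv.ext
    intro T
    simp only [pow_one, pow_two, Equiv.Perm.coe_mul, Function.comp_apply, Equiv.Perm.coe_one, id_eq]
    exact hf T
  obtain ⟨S, hS⟩ := Equiv.Perm.exists_fixed_point_of_prime (p := 2) (n := 1) hodd (σ := σ) hσ2
  refine ⟨S.1, S.2.1, S.2.2, ?_⟩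
  intro s hs
  have h1 : cj z S.1 = S.1 := congrArg Subtype.val hS
  rw [← h1]
  exact ⟨s, hs, rfl⟩

/-- A `p`-subgroup of a subgroup `M` has order at most the `p`-part of `|M|`. -/
lemma card_le_of_isPGroup_le {p : ℕ} [Fact p.Prime] (T M : Subgroup G) (hT : IsPGroup p T)
    (hTM : T ≤ M) : Nat.card T ≤ p ^ (Nat.card M).factorization p := by
  obtain ⟨j, hj⟩ := IsPGroup.iff_card.mp hT
  have hdvd : p ^ j ∣ Nat.card M := hj ▸ Subgroup.card_dvd_of_le hTM
  have hp := (Fact.out : p.Prime)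
  rw [hj]
  exact Nat.pow_le_pow_right hp.pos
    ((hp.pow_dvd_iff_le_factorization Nat.card_pos.ne').mp hdvd)

/-- A maximal `z`-invariant `p`-subgroup of a `z`-invariant odd-order subgroup `X` is a Sylow
`p`-subgroup of `X`. -/
theorem card_of_max_invariant (z : G) (hz2 : z * z = 1) (X : Subgroup G) (hX : Odd (Nat.card X))
    (hzX : ∀ x ∈ X, z * x * z⁻¹ ∈ X) (p : ℕ) [Fact p.Prime]
    (Q : Subgroup G) (hQX : Q ≤ X) (hQp : IsPGroup p Q) (hzQ : ∀ q ∈ Q, z * q * z⁻¹ ∈ Q)
    (hmax : ∀ R : Subgroup G, R ≤ X → IsPGroup p R → (∀ r ∈ R, z * r * z⁻¹ ∈ R) → Q ≤ R → R = Q) :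
    Nat.card Q = p ^ (Nat.card X).factorization p := by
  have hzinv : z⁻¹ = z := inv_eq_of_mul_eq_one_left hz2
  have hzN : z ∈ Subgroup.normalizer (Q : Set G) := by
    rw [Subgroup.mem_normalizer_iff]
    intro h
    refine ⟨hzQ h, fun hh => ?_⟩
    have := hzQ _ hh
    have h2 : z * (z * h * z⁻¹) * z⁻¹ = (z * z) * h * (z * z)⁻¹ := by group
    rwa [h2, hz2, one_mul, inv_one, mul_one] at this
  set M := X ⊓ Subgroup.normalizer (Q : Set G) with hM
  have hMX : M ≤ X := inf_le_left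
  have hModd : Odd (Nat.card M) := Odd.of_dvd_nat hX (Subgroup.card_dvd_of_le hMX)
  have hzM : ∀ m ∈ M, z * m * z⁻¹ ∈ M := by
    intro m hm
    exact ⟨hzX m hm.1, Subgroup.mul_mem _ (Subgroup.mul_mem _ hzN hm.2) (Subgroup.inv_mem _ hzN)⟩
  have hQM : Q ≤ M := le_inf hQX Subgroup.le_normalizer
  obtain ⟨S, hSM, hSc, hzS⟩ := exists_invariant_sylow z hz2 M hModd hzM p
  have hSp : IsPGroup p S := IsPGroup.of_card hSc
  have hQS : Q ≤ S := by
    have hT : IsPGroup p (Q ⊔ S : Subgroup G) :=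
      IsPGroup.to_sup_of_normal_left' hQp hSp (hSM.trans inf_le_right)
    have hTM : Q ⊔ S ≤ M := sup_le hQM hSM
    have h1 := card_le_of_isPGroup_le (Q ⊔ S) M hT hTM
    rw [← hSc] at h1
    have h2 : S = Q ⊔ S := Subgroup.eq_of_le_of_card_ge le_sup_right h1
    rw [h2]; exact le_sup_left
  have hSQ : S = Q := hmax S (hSM.trans hMX) hSp hzS hQS
  rw [hSQ] at hSc
  -- now `Q` is Sylow in `M`; show it is Sylow in `X`
  have hQXp : IsPGroup p (Q.subgroupOf X) :=
    hQp.of_equiv (Subgroup.subgroupOfEquivOfLe hQX).symm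
  obtain ⟨P₀, hP₀⟩ := hQXp.exists_le_sylow
  set P := (P₀ : Subgroup X).map X.subtype with hP
  have hPX : P ≤ X := Subgroup.map_subtype_le _
  have hPc : Nat.card P = p ^ (Nat.card X).factorization p := by
    rw [hP, Subgroup.card_map_of_injective X.subtype_injective]
    exact Sylow.card_eq_multiplicity P₀
  have hQP : Q ≤ P := by
    intro q hq
    exact ⟨⟨q, hQX hq⟩, hP₀ (Subgroup.mem_subgroupOf.mpr hq), rfl⟩
  have hPp : IsPGroup p P := IsPGroup.of_card hPc
  have hPnil : Group.IsNilpotent P := hPp.isNilpotent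
  by_cases htop : Q.subgroupOf P = ⊤
  · have hPQ : P ≤ Q := Subgroup.subgroupOf_eq_top.mp htop
    rw [← hPc, le_antisymm hPQ hQP]
  · exfalso
    have hlt := Group.normalizerCondition_of_isNilpotent (G := P) (Q.subgroupOf P)
      (lt_top_iff_ne_top.mpr htop)
    obtain ⟨y, hyN, hyQ⟩ := SetLike.exists_of_lt hlt
    have hyQ' : (y : G) ∉ Q := fun h => hyQ (Subgroup.mem_subgroupOf.mpr h)
    have hyNQ : (y : G) ∈ Subgroup.normalizer (Q : Set G) := by
      rw [Subgroup.mem_normalizer_iff]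
      intro h
      rw [Subgroup.mem_normalizer_iff] at hyN
      constructor
      · intro hh
        have := (hyN ⟨h, hQP hh⟩).mp (Subgroup.mem_subgroupOf.mpr hh)
        exact Subgroup.mem_subgroupOf.mp this
      · intro hh
        have hhP : h ∈ P := by
          have h1 : (y : G)⁻¹ * ((y : G) * h * (y : G)⁻¹) * (y : G) ∈ P :=
            P.mul_mem (P.mul_mem (P.inv_mem y.2) (hQP hh)) y.2
          have h2 : (y : G)⁻¹ * ((y : G) * h * (y : G)⁻¹) * (y : G) = h := by group
          rwa [h2] at h1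
        have := (hyN ⟨h, hhP⟩).mpr (Subgroup.mem_subgroupOf.mpr hh)
        exact Subgroup.mem_subgroupOf.mp this
    have hyp : IsPGroup p (Subgroup.zpowers (y : G)) :=
      (hPp.to_subgroup ((Subgroup.zpowers (y : G)).subgroupOf P)).of_equiv
        (Subgroup.subgroupOfEquivOfLe (Subgroup.zpowers_le.mpr y.2))
    have hT : IsPGroup p (Q ⊔ Subgroup.zpowers (y : G) : Subgroup G) :=
      IsPGroup.to_sup_of_normal_left' hQp hyp (Subgroup.zpowers_le.mpr hyNQ)
    have hTM : Q ⊔ Subgroup.zpowers (y : G) ≤ M :=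
      sup_le hQM (Subgroup.zpowers_le.mpr ⟨hPX y.2, hyNQ⟩)
    have h1 := card_le_of_isPGroup_le _ M hT hTM
    rw [← hSc] at h1
    have h2 : Q = Q ⊔ Subgroup.zpowers (y : G) := Subgroup.eq_of_le_of_card_ge le_sup_left h1
    apply hyQ'
    rw [h2]
    exact Subgroup.mem_sup_right (Subgroup.mem_zpowers _)

end InvSylow


/-- Existence form of Z* for an isolated involution. -/
theorem zstar_isolated_exists (hZ : ZStarStatement.{u}) {G : Type u} [Group G] [Finite G] (z : G)
    (hz : IsIsolatedInvolution z) :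
    ∃ N : Subgroup G, N.Normal ∧ Odd (Nat.card N) ∧ ∀ g : G, z * g * z⁻¹ * g⁻¹ ∈ N := by
  have : Fact (Nat.Prime 2) := ⟨Nat.prime_two⟩
  have hzp : IsPGroup 2 (Subgroup.zpowers z) := by
    apply IsPGroup.of_card (n := 1)
    rw [Nat.card_zpowers, hz.1, pow_one]
  obtain ⟨P, hP⟩ := hzp.exists_le_sylow
  have hzP : z ∈ P := hP (Subgroup.mem_zpowers z)
  exact hZ P z hz.1 hzP (isolated_unique_in_sylow hz P hzP)

lemma card_mul_relIndex_of_le {G : Type u} [Group G] [Finite G] (N X : Subgroup G) (h : N ≤ X) :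
    Nat.card N * N.relIndex X = Nat.card X := by
  have := Subgroup.card_mul_index (N.subgroupOf X)
  rwa [Nat.card_congr (Subgroup.subgroupOfEquivOfLe h).toEquiv] at this

/-- Row S1187 from Z*. -/
theorem invariant_sylow (hZ : ZStarStatement.{u}) {G : Type u} [Group G] [Finite G] (z : G)
    (hz : IsIsolatedInvolution z) {p : ℕ} [Fact p.Prime] (Q : Subgroup G) (hQ : IsPGroup p Q)
    (hzQ : z ∈ Subgroup.normalizer (Q : Set G))
    (hmax : ∀ R : Subgroup G, IsPGroup p R → z ∈ Subgroup.normalizer (R : Set G) → Q ≤ R → R = Q) :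
    ∃ P : Sylow p G, (P : Subgroup G) = Q := by
  have hz2 : z * z = 1 := IsIsolatedInvolution.mul_self hz
  have hzinv : z⁻¹ = z := inv_eq_of_mul_eq_one_left hz2
  obtain ⟨P₁, hP₁⟩ := hQ.exists_le_sylow
  by_cases hp2 : p = 2
  · subst hp2
    have hzp : IsPGroup 2 (Subgroup.zpowers z) := by
      apply IsPGroup.of_card (n := 1)
      rw [Nat.card_zpowers, hz.1, pow_one]
    have h1 : IsPGroup 2 (Q ⊔ Subgroup.zpowers z : Subgroup G) :=
      IsPGroup.to_sup_of_normal_left' hQ hzp (Subgroup.zpowers_le.mpr hzQ)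
    have hzm : z ∈ Q ⊔ Subgroup.zpowers z := Subgroup.mem_sup_right (Subgroup.mem_zpowers z)
    have h2 := hmax _ h1 (Subgroup.le_normalizer hzm) le_sup_left
    have hzQ' : z ∈ Q := h2 ▸ hzm
    have h3 := hmax P₁ P₁.isPGroup' (Subgroup.le_normalizer (hP₁ hzQ')) hP₁
    exact ⟨P₁, h3⟩
  · have hpodd : Odd p := (Fact.out : p.Prime).odd_of_ne_two hp2
    obtain ⟨N, hNn, hNodd, hNc⟩ := zstar_isolated_exists hZ z hz
    set X := N ⊔ (P₁ : Subgroup G) with hX
    have hXodd : Odd (Nat.card X) := by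
      rw [← card_mul_relIndex_of_le N X le_sup_left, hX, Subgroup.relIndex_sup_left]
      apply Odd.mul hNodd
      apply Odd.of_dvd_nat _ (Subgroup.relIndex_dvd_card N (P₁ : Subgroup G))
      obtain ⟨k, hk⟩ := IsPGroup.iff_card.mp P₁.isPGroup'
      rw [hk]; exact hpodd.pow
    have hzX : ∀ x ∈ X, z * x * z⁻¹ ∈ X := by
      intro x hx
      have h1 : z * x * z⁻¹ = (z * x * z⁻¹ * x⁻¹) * x := by group
      rw [h1]
      exact X.mul_mem (le_sup_left (a := N) (hNc x)) hx
    have hzQ' : ∀ q ∈ Q, z * q * z⁻¹ ∈ Q := fun q hq =>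
      (Subgroup.mem_normalizer_iff.mp hzQ q).mp hq
    have hQX : Q ≤ X := hP₁.trans le_sup_right
    have hcard := card_of_max_invariant z hz2 X hXodd hzX p Q hQX hQ hzQ' (by
      intro R hRX hRp hzR hQR
      apply hmax R hRp _ hQR
      rw [Subgroup.mem_normalizer_iff]
      intro h
      refine ⟨hzR h, fun hh => ?_⟩
      have := hzR _ hh
      have h2 : z * (z * h * z⁻¹) * z⁻¹ = (z * z) * h * (z * z)⁻¹ := by group
      rwa [h2, hz2, one_mul, inv_one, mul_one] at this)
    -- the `p`-parts of `|X|` and `|G|` agree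
    have hfac : (Nat.card X).factorization p = (Nat.card G).factorization p := by
      apply le_antisymm
      · exact (Nat.factorization_le_iff_dvd Nat.card_pos.ne' Nat.card_pos.ne').mpr
          (Subgroup.card_subgroup_dvd_card X) p
      · have h1 : p ^ (Nat.card G).factorization p ∣ Nat.card X := by
          rw [← Sylow.card_eq_multiplicity P₁]
          exact Subgroup.card_dvd_of_le le_sup_right
        exact ((Fact.out : p.Prime).pow_dvd_iff_le_factorization Nat.card_pos.ne').mp h1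
    rw [hfac] at hcard
    exact ⟨Sylow.ofCard Q hcard, rfl⟩

end Cfsg.Agent.ZStarCons
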