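import Cfsg.Agent.Lib.Lead.ZStarCons4
import Cfsg.Agent.Lib.Lead.PiCore
import Cfsg.Prelude.Def_FusionSystem

/-!
# Z* in fusion language (row S5094), part 1: elementary reformulations and the easy inclusion
-/

set_option autoImplicit false

universe u

namespace Cfsg.Agent.ZStarCons

open Cfsg Cfsg.Agent.H2
open scoped Pointwise

section Basic

variable {G : Type u} [Group G]

/-- Elementary form of centrality of `Q` in the fusion system of `G` on `S`. -/
def CentralProp (S Q : Subgroup G) : Prop :=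
  Q ≤ S ∧ ∀ P : Subgroup G, P ≤ S → ∀ g : G, (∀ x ∈ P, g * x * g⁻¹ ∈ S) →
    ∃ h : G, (∀ x ∈ P, h * x * h⁻¹ = g * x * g⁻¹) ∧ ∀ y ∈ Q, h * y * h⁻¹ = y

theorem centralProp_of_isCentral {S Q : Subgroup G}
    (h : (groupFusionSystem S).IsCentral Q) : CentralProp S Q := by
  obtain ⟨hQS, hext⟩ := h
  refine ⟨hQS, fun P hPS g hg => ?_⟩
  have hφ : conjHom P g ∈ (groupFusionSystem S).Hom P :=
    ⟨hPS, fun x => hg x x.2, g, fun x => rfl⟩
  obtain ⟨ψ, hψ, hψP, hψQ⟩ := hext P (conjHom P g) hφ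
  obtain ⟨-, -, k, hk⟩ := hψ
  refine ⟨k, fun x hx => ?_, fun y hy => ?_⟩
  · have := hψP ⟨x, hx⟩
    rw [hk] at this
    exact this
  · have := hψQ ⟨y, hy⟩
    rw [hk] at this
    exact this

theorem isCentral_of_centralProp {S Q : Subgroup G} (h : CentralProp S Q) :
    (groupFusionSystem S).IsCentral Q := by
  obtain ⟨hQS, hext⟩ := h
  refine ⟨hQS, fun P φ hφ => ?_⟩
  obtain ⟨hPS, hφS, g, hg⟩ := hφ
  have hgS : ∀ x ∈ P, g * x * g⁻¹ ∈ S := by
    intro x hx
    have := hφS ⟨x, hx⟩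
    rwa [hg] at this
  obtain ⟨k, hkP, hkQ⟩ := hext P hPS g hgS
  have hle : P ⊔ Q ≤ S := sup_le hPS hQS
  have himg : ∀ x ∈ P ⊔ Q, k * x * k⁻¹ ∈ S := by
    intro x hx
    have hsub : P ⊔ Q ≤ S.comap (MulAut.conj k).toMonoidHom := by
      apply sup_le
      · intro y hy
        rw [Subgroup.mem_comap]
        change k * y * k⁻¹ ∈ S
        rw [hkP y hy]; exact hgS y hy
      · intro y hy
        rw [Subgroup.mem_comap]
        change k * y * k⁻¹ ∈ S
        rw [hkQ y hy]; exact hQS hy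
    exact hsub hx
  refine ⟨conjHom (P ⊔ Q) k, ⟨hle, fun x => himg x x.2, k, fun x => rfl⟩, fun x => ?_, fun y => ?_⟩
  · change k * (x : G) * k⁻¹ = φ x
    rw [hg, hkP x x.2]
  · change k * (y : G) * k⁻¹ = y
    exact hkQ y y.2

/-- Membership in the preimage of `Z(G/O(G))`. -/
lemma mem_zs_iff (x : G) :
    x ∈ (Subgroup.center (G ⧸ oddCore G)).comap (QuotientGroup.mk' (oddCore G)) ↔
      ∀ g : G, g * x * g⁻¹ * x⁻¹ ∈ oddCore G := by
  rw [Subgroup.mem_comap, Subgroup.mem_center_iff]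
  constructor
  · intro h g
    have h1 := h (QuotientGroup.mk' (oddCore G) g)
    rw [← QuotientGroup.eq_one_iff]
    have h2 : ((g * x * g⁻¹ * x⁻¹ : G) : G ⧸ oddCore G)
        = (QuotientGroup.mk' (oddCore G) g * QuotientGroup.mk' (oddCore G) x)
          * (QuotientGroup.mk' (oddCore G) g)⁻¹ * (QuotientGroup.mk' (oddCore G) x)⁻¹ := by
      simp
    rw [h2, h1]; group
  · intro h q
    obtain ⟨g, rfl⟩ := QuotientGroup.mk'_surjective (oddCore G) q
    have h1 := (QuotientGroup.eq_one_iff (N := oddCore G) _).mpr (h g)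
    have h2 : ((g * x * g⁻¹ * x⁻¹ : G) : G ⧸ oddCore G)
        = (QuotientGroup.mk' (oddCore G) g * QuotientGroup.mk' (oddCore G) x)
          * (QuotientGroup.mk' (oddCore G) g)⁻¹ * (QuotientGroup.mk' (oddCore G) x)⁻¹ := by
      simp
    rw [h2] at h1
    calc QuotientGroup.mk' (oddCore G) g * QuotientGroup.mk' (oddCore G) x
        = ((QuotientGroup.mk' (oddCore G) g * QuotientGroup.mk' (oddCore G) x)
          * (QuotientGroup.mk' (oddCore G) g)⁻¹ * (QuotientGroup.mk' (oddCore G) x)⁻¹)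
          * QuotientGroup.mk' (oddCore G) x * QuotientGroup.mk' (oddCore G) g := by group
      _ = QuotientGroup.mk' (oddCore G) x * QuotientGroup.mk' (oddCore G) g := by
          rw [h1, one_mul]

end Basic

section Conj

variable {G : Type u} [Group G] [Finite G]

/-- Two subgroups of `H` of full `p`-power order are conjugate in `H`. -/
lemma exists_conj_of_card_eq {p : ℕ} [Fact p.Prime] (H A B : Subgroup G) (hA : A ≤ H)
    (hB : B ≤ H) (hcA : Nat.card A = p ^ (Nat.card H).factorization p)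
    (hcB : Nat.card B = p ^ (Nat.card H).factorization p) :
    ∃ m ∈ H, ∀ x, x ∈ A ↔ m⁻¹ * x * m ∈ B := by
  have hcA' : Nat.card (A.subgroupOf H) = p ^ (Nat.card H).factorization p := by
    rw [Nat.card_congr (Subgroup.subgroupOfEquivOfLe hA).toEquiv, hcA]
  have hcB' : Nat.card (B.subgroupOf H) = p ^ (Nat.card H).factorization p := by
    rw [Nat.card_congr (Subgroup.subgroupOfEquivOfLe hB).toEquiv, hcB]
  obtain ⟨m, hm⟩ := MulAction.exists_smul_eq H (Sylow.ofCard (B.subgroupOf H) hcB')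
    (Sylow.ofCard (A.subgroupOf H) hcA')
  have hmem : ∀ x : H, x ∈ A.subgroupOf H ↔ m⁻¹ * x * m ∈ B.subgroupOf H := by
    intro x
    have h1 : (A.subgroupOf H) = MulAut.conj m • (B.subgroupOf H) := by
      have := congrArg (fun P : Sylow p H => (P : Subgroup H)) hm
      simp only [Sylow.coe_subgroup_smul, Sylow.coe_ofCard] at this
      exact this.symm
    rw [h1, Subgroup.mem_pointwise_smul_iff_inv_smul_mem, MulAut.smul_def, ← map_inv,
      MulAut.conj_apply, inv_inv]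
  refine ⟨m, m.2, fun x => ?_⟩
  constructor
  · intro hx
    have := (hmem ⟨x, hA hx⟩).mp (Subgroup.mem_subgroupOf.mpr hx)
    exact Subgroup.mem_subgroupOf.mp this
  · intro hx
    have hxH : x ∈ H := by
      have h1 : (m : G) * ((m : G)⁻¹ * x * m) * (m : G)⁻¹ ∈ H :=
        H.mul_mem (H.mul_mem m.2 (hB hx)) (H.inv_mem m.2)
      have h2 : (m : G) * ((m : G)⁻¹ * x * m) * (m : G)⁻¹ = x := by group
      rwa [h2] at h1
    have := (hmem ⟨x, hxH⟩).mpr (Subgroup.mem_subgroupOf.mpr hx)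
    exact Subgroup.mem_subgroupOf.mp this

/-- A `p`-subgroup of `X ≥ S` is `X`-conjugate into the Sylow `p`-subgroup `S`. -/
lemma exists_conj_into_sylow {p : ℕ} [Fact p.Prime] (S : Sylow p G) (X T : Subgroup G)
    (hSX : (S : Subgroup G) ≤ X) (hTX : T ≤ X) (hT : IsPGroup p T) :
    ∃ y ∈ X, ∀ t ∈ T, y * t * y⁻¹ ∈ S := by
  have hT' : IsPGroup p (T.subgroupOf X) :=
    hT.of_equiv (Subgroup.subgroupOfEquivOfLe hTX).symm
  obtain ⟨R, hR⟩ := hT'.exists_le_sylow
  obtain ⟨y, hy⟩ := MulAction.exists_smul_eq X R (S.subtype hSX)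
  refine ⟨y, y.2, fun t ht => ?_⟩
  have h1 : ((S : Subgroup G).subgroupOf X) = MulAut.conj y • (R : Subgroup X) := by
    have := congrArg (fun P : Sylow p X => (P : Subgroup X)) hy
    simp only [Sylow.coe_subgroup_smul, Sylow.coe_subtype] at this
    exact this.symm
  have h2 : y * ⟨t, hTX ht⟩ * y⁻¹ ∈ (S : Subgroup G).subgroupOf X := by
    rw [h1, Subgroup.mem_pointwise_smul_iff_inv_smul_mem, MulAut.smul_def, ← map_inv,
      MulAut.conj_apply, inv_inv]
    have h3 : y⁻¹ * (y * ⟨t, hTX ht⟩ * y⁻¹) * y = ⟨t, hTX ht⟩ := by group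
    rw [h3]
    exact hR (Subgroup.mem_subgroupOf.mpr ht)
  exact Subgroup.mem_subgroupOf.mp h2

end Conj

end Cfsg.Agent.ZStarCons
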