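import Cfsg.Agent.Lib.Lead.ZStarCons5

/-!
# Z* in fusion language (row S5094), part 2: `S ∩ Z*(G)` is central in the fusion system
-/

set_option autoImplicit false

universe u

namespace Cfsg.Agent.ZStarCons

open Cfsg Cfsg.Agent.H2
open scoped Pointwise

variable {G : Type u} [Group G] [Finite G]

lemma oddCore_odd : Odd (Nat.card (oddCore G)) :=
  Nat.coprime_two_right.mp (Cfsg.Agent.Lib.Lead.PiCore.pPrimeCore_coprime Nat.prime_two)

omit [Finite G] in
/-- An element of odd order in a `2`-group is trivial. -/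
lemma eq_one_of_mem_odd_of_mem_two (O S : Subgroup G) (hO : Odd (Nat.card O))
    (hS : IsPGroup 2 S) (x : G) (hxO : x ∈ O) (hxS : x ∈ S) : x = 1 := by
  have h1 : orderOf x ∣ Nat.card O := by
    have := orderOf_dvd_natCard (⟨x, hxO⟩ : O)
    rwa [Subgroup.orderOf_mk] at this
  obtain ⟨k, hk⟩ := (IsPGroup.iff_orderOf.mp hS) ⟨x, hxS⟩
  rw [Subgroup.orderOf_mk] at hk
  have hodd : Odd (orderOf x) := Odd.of_dvd_nat hO h1
  rcases Nat.eq_zero_or_pos k with rfl | hkpos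
  · rw [pow_zero] at hk; exact orderOf_eq_one_iff.mp hk
  · exfalso
    rw [hk] at hodd
    exact (Nat.not_even_iff_odd.mpr hodd) (Nat.even_pow.mpr ⟨even_two, hkpos.ne'⟩)

/-- `S ∩ Z*(G)` is central in the fusion system of `G` on `S`. -/
theorem zs_inf_central (S : Sylow 2 G) :
    CentralProp (S : Subgroup G) ((S : Subgroup G) ⊓
      (Subgroup.center (G ⧸ oddCore G)).comap (QuotientGroup.mk' (oddCore G))) := by
  have : Fact (Nat.Prime 2) := ⟨Nat.prime_two⟩
  set O := oddCore G with hO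
  set Q₀ := (S : Subgroup G) ⊓
      (Subgroup.center (G ⧸ oddCore G)).comap (QuotientGroup.mk' (oddCore G)) with hQ₀
  have hOodd : Odd (Nat.card O) := oddCore_odd
  have hQS : Q₀ ≤ S := inf_le_left
  have hQz : ∀ q ∈ Q₀, ∀ g : G, g * q * g⁻¹ * q⁻¹ ∈ O := fun q hq => (mem_zs_iff q).mp hq.2
  have hOS : ∀ x, x ∈ O → x ∈ (S : Subgroup G) → x = 1 :=
    eq_one_of_mem_odd_of_mem_two O S hOodd S.isPGroup'
  -- (1) `Q₀` is central in `S`
  have hcen : ∀ q ∈ Q₀, ∀ s ∈ (S : Subgroup G), s * q * s⁻¹ = q := by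
    intro q hq s hs
    have h1 := hOS _ (hQz q hq s)
      (Subgroup.mul_mem _ (Subgroup.mul_mem _ (Subgroup.mul_mem _ hs (hQS hq)) (Subgroup.inv_mem _ hs))
        (Subgroup.inv_mem _ (hQS hq)))
    calc s * q * s⁻¹ = (s * q * s⁻¹ * q⁻¹) * q := by group
      _ = q := by rw [h1, one_mul]
  -- (2) an element normalizing `Q₀` centralizes it
  have hnorm : ∀ n : G, (∀ q ∈ Q₀, n * q * n⁻¹ ∈ Q₀) → ∀ q ∈ Q₀, n * q * n⁻¹ = q := by
    intro n hn q hq
    have h1 := hOS _ (hQz q hq n)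
      (Subgroup.mul_mem _ (hQS (hn q hq)) (Subgroup.inv_mem _ (hQS hq)))
    calc n * q * n⁻¹ = (n * q * n⁻¹ * q⁻¹) * q := by group
      _ = q := by rw [h1, one_mul]
  refine ⟨hQS, fun P hPS g hg => ?_⟩
  set L := O ⊔ Q₀ with hL
  set P' := P.map (MulAut.conj g).toMonoidHom with hP'
  have hP'mem : ∀ y, y ∈ P' ↔ ∃ x ∈ P, g * x * g⁻¹ = y := by
    intro y
    rw [hP', Subgroup.mem_map]
    rfl
  set M := L ⊓ Subgroup.centralizer (P' : Set G) with hM
  set B := Q₀.map (MulAut.conj g).toMonoidHom with hB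
  have hBmem : ∀ y, y ∈ B ↔ ∃ q ∈ Q₀, g * q * g⁻¹ = y := by
    intro y
    rw [hB, Subgroup.mem_map]
    rfl
  have hAM : Q₀ ≤ M := by
    intro q hq
    refine Subgroup.mem_inf.mpr ⟨le_sup_right (a := O) hq, ?_⟩
    rw [Subgroup.mem_centralizer_iff]
    intro y hy
    obtain ⟨x, hx, rfl⟩ := (hP'mem y).mp hy
    have h1 := hcen q hq _ (hg x hx)
    calc g * x * g⁻¹ * q = ((g * x * g⁻¹) * q * (g * x * g⁻¹)⁻¹) * (g * x * g⁻¹) := by group
      _ = q * (g * x * g⁻¹) := by rw [h1]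
  have hBM : B ≤ M := by
    intro y hy
    obtain ⟨q, hq, rfl⟩ := (hBmem y).mp hy
    refine Subgroup.mem_inf.mpr ⟨?_, ?_⟩
    · have h1 : g * q * g⁻¹ = (g * q * g⁻¹ * q⁻¹) * q := by group
      rw [h1]
      exact L.mul_mem (le_sup_left (b := Q₀) (hQz q hq g)) (le_sup_right (a := O) hq)
    · rw [Subgroup.mem_centralizer_iff]
      intro y hy
      obtain ⟨x, hx, rfl⟩ := (hP'mem y).mp hy
      have h1 := hcen q hq x (hPS hx)
      have h2 : x * q = q * x := by
        calc x * q = (x * q * x⁻¹) * x := by group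
          _ = q * x := by rw [h1]
      calc g * x * g⁻¹ * (g * q * g⁻¹) = g * (x * q) * g⁻¹ := by group
        _ = g * (q * x) * g⁻¹ := by rw [h2]
        _ = g * q * g⁻¹ * (g * x * g⁻¹) := by group
  -- cardinalities
  have hQp : IsPGroup 2 Q₀ := S.isPGroup'.to_le hQS
  obtain ⟨a, ha⟩ := IsPGroup.iff_card.mp hQp
  have hBc : Nat.card B = 2 ^ a := by
    rw [hB, Subgroup.card_map_of_injective (MulAut.conj g).injective, ha]
  have hMfac : (Nat.card M).factorization 2 = a := by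
    apply le_antisymm
    · by_contra hlt
      rw [not_le] at hlt
      have h1 : 2 ^ (a + 1) ∣ Nat.card M :=
        (Nat.prime_two.pow_dvd_iff_le_factorization Nat.card_pos.ne').mpr hlt
      have h2 : Nat.card M ∣ Nat.card L := Subgroup.card_dvd_of_le inf_le_left
      have h3 : Nat.card L = Nat.card O * O.relIndex Q₀ := by
        rw [← card_mul_relIndex_of_le O L le_sup_left, hL, Subgroup.relIndex_sup_left]
      have h4 : O.relIndex Q₀ ∣ 2 ^ a := ha ▸ Subgroup.relIndex_dvd_card O Q₀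
      have h5 : 2 ^ (a + 1) ∣ Nat.card O * 2 ^ a :=
        (h1.trans h2).trans (h3 ▸ Nat.mul_dvd_mul_left _ h4)
      rw [pow_succ, mul_comm (Nat.card O)] at h5
      have h6 : 2 ∣ Nat.card O := Nat.dvd_of_mul_dvd_mul_left (by positivity) h5
      exact (Nat.not_even_iff_odd.mpr hOodd) (even_iff_two_dvd.mpr h6)
    · have h1 : 2 ^ a ∣ Nat.card M := ha ▸ Subgroup.card_dvd_of_le hAM
      exact (Nat.prime_two.pow_dvd_iff_le_factorization Nat.card_pos.ne').mp h1
  obtain ⟨m, hmM, hm⟩ := exists_conj_of_card_eq (p := 2) M Q₀ B hAM hBM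
    (by rw [hMfac, ha]) (by rw [hMfac, hBc])
  refine ⟨m * g, fun x hx => ?_, ?_⟩
  · have h1 := Subgroup.mem_centralizer_iff.mp (Subgroup.mem_inf.mp hmM).2 (g * x * g⁻¹) ((hP'mem _).mpr ⟨x, hx, rfl⟩)
    calc m * g * x * (m * g)⁻¹ = m * (g * x * g⁻¹) * m⁻¹ := by group
      _ = (g * x * g⁻¹ * m) * m⁻¹ := by rw [h1]
      _ = g * x * g⁻¹ := by group
  · apply hnorm
    intro q hq
    rw [hm]
    have h1 : m⁻¹ * (m * g * q * (m * g)⁻¹) * m = g * q * g⁻¹ := by group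
    rw [h1]
    exact (hBmem _).mpr ⟨q, hq, rfl⟩

end Cfsg.Agent.ZStarCons
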