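import Cfsg.Agent.Lib.Lead.ZStarCons6

/-!
# Z* in fusion language (row S5094), part 3: passage to quotients
-/

set_option autoImplicit false

universe u

namespace Cfsg.Agent.ZStarCons

open Cfsg Cfsg.Agent.H2
open scoped Pointwise

variable {G : Type u} [Group G] [Finite G]

/-- Centrality in the fusion system passes to quotients. -/
theorem CentralProp.map_mk' (S : Sylow 2 G) (Q : Subgroup G) (N : Subgroup G) [N.Normal]
    (h : CentralProp (S : Subgroup G) Q) :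
    CentralProp ((S : Subgroup G).map (QuotientGroup.mk' N)) (Q.map (QuotientGroup.mk' N)) := by
  have : Fact (Nat.Prime 2) := ⟨Nat.prime_two⟩
  obtain ⟨hQS, hext⟩ := h
  set π := QuotientGroup.mk' N with hπ
  refine ⟨Subgroup.map_mono hQS, fun Pb hPb gb hgb => ?_⟩
  obtain ⟨g, rfl⟩ := QuotientGroup.mk'_surjective N gb
  set P := (S : Subgroup G) ⊓ Pb.comap π with hP
  have hPS : P ≤ S := inf_le_left
  set X := (S : Subgroup G) ⊔ N with hX
  set P₁ := P.map (MulAut.conj g).toMonoidHom with hP₁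
  have hP₁X : P₁ ≤ X := by
    rintro _ ⟨x, hx, rfl⟩
    change g * x * g⁻¹ ∈ X
    have h1 : π (g * x * g⁻¹) ∈ (S : Subgroup G).map π := by
      have := hgb (π x) (Subgroup.mem_inf.mp hx).2
      rwa [← map_inv, ← map_mul, ← map_mul] at this
    have h2 : g * x * g⁻¹ ∈ ((S : Subgroup G).map π).comap π := h1
    rwa [Subgroup.comap_map_eq, QuotientGroup.ker_mk'] at h2
  have hP₁p : IsPGroup 2 P₁ := (S.isPGroup'.to_le hPS).map _
  obtain ⟨y, hyX, hy⟩ := exists_conj_into_sylow S X P₁ le_sup_left hP₁X hP₁p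
  obtain ⟨s, hs, n, hn, rfl⟩ := Subgroup.mem_sup_of_normal_right.mp hyX
  have hg' : ∀ x ∈ P, (n * g) * x * (n * g)⁻¹ ∈ (S : Subgroup G) := by
    intro x hx
    have h1 := hy (g * x * g⁻¹) ⟨x, hx, rfl⟩
    have h2 : (n * g) * x * (n * g)⁻¹ = s⁻¹ * (s * n * (g * x * g⁻¹) * (s * n)⁻¹) * s := by group
    rw [h2]
    exact Subgroup.mul_mem _ (Subgroup.mul_mem _ (Subgroup.inv_mem _ hs) h1) hs
  obtain ⟨k, hkP, hkQ⟩ := hext P hPS (n * g) hg'
  have hπn : π n = 1 := (QuotientGroup.eq_one_iff n).mpr hn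
  refine ⟨π k, fun xb hxb => ?_, fun yb hyb => ?_⟩
  · obtain ⟨x, hxS, rfl⟩ := hPb hxb
    have hxP : x ∈ P := Subgroup.mem_inf.mpr ⟨hxS, hxb⟩
    have h1 := hkP x hxP
    calc π k * π x * (π k)⁻¹ = π (k * x * k⁻¹) := by simp
      _ = π (n * g * x * (n * g)⁻¹) := by rw [h1]
      _ = π n * π g * π x * (π n * π g)⁻¹ := by simp
      _ = π g * π x * (π g)⁻¹ := by rw [hπn, one_mul]
  · obtain ⟨y, hyQ, rfl⟩ := hyb
    calc π k * π y * (π k)⁻¹ = π (k * y * k⁻¹) := by simp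
      _ = π y := by rw [hkQ y hyQ]

end Cfsg.Agent.ZStarCons
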