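import Cfsg.Agent.Lib.Lead.ZStarCons7

/-!
# Z* in fusion language (row S5094), part 4: `O(G/Z) = 1` for a central subgroup `Z` of order two
-/

set_option autoImplicit false

universe u

namespace Cfsg.Agent.ZStarCons

open Cfsg Cfsg.Agent.H2
open scoped Pointwise

variable {G : Type u} [Group G] [Finite G]

/-- The preimage of a subgroup under a quotient map has order `|H̄| * |N|`. -/
theorem card_comap_mk_aux (N : Subgroup G) [N.Normal] (Hbar : Subgroup (G ⧸ N)) :
    Nat.card (Hbar.comap (QuotientGroup.mk' N)) = Nat.card Hbar * Nat.card N := by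
  have h1 : (Hbar.comap (QuotientGroup.mk' N)).index = Hbar.index :=
    Subgroup.index_comap_of_surjective _ (QuotientGroup.mk'_surjective N)
  have h2 := Subgroup.card_mul_index (Hbar.comap (QuotientGroup.mk' N))
  have h3 := Subgroup.card_mul_index Hbar
  have h4 := Subgroup.card_eq_card_quotient_mul_card_subgroup N
  have hpos : 0 < Hbar.index := Nat.pos_of_ne_zero Subgroup.index_ne_zero_of_finite
  apply Nat.eq_of_mul_eq_mul_right hpos
  rw [← h1] at h3 hpos ⊢
  rw [h2, h4, ← h3]
  ring

theorem oddCore_quotient_central_two (u : G) (hu : orderOf u = 2) (hc : ∀ g : G, g * u = u * g)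
    [hn : (Subgroup.zpowers u).Normal] (hO : oddCore G = ⊥) :
    oddCore (G ⧸ Subgroup.zpowers u) = ⊥ := by
  have : Fact (Nat.Prime 2) := ⟨Nat.prime_two⟩
  set Z := Subgroup.zpowers u with hZ
  set π := QuotientGroup.mk' Z with hπ
  set Nb := oddCore (G ⧸ Z) with hNb
  have hNbodd : Odd (Nat.card Nb) := oddCore_odd
  set N := Nb.comap π with hN
  have hNn : N.Normal := Subgroup.Normal.comap inferInstance _
  have hZc : Nat.card Z = 2 := by rw [hZ, Nat.card_zpowers, hu]
  have hNc : Nat.card N = Nat.card Nb * 2 := by rw [hN, card_comap_mk_aux, hZc]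
  have hZN : Z ≤ N := by
    intro z hz
    rw [hN, Subgroup.mem_comap]
    have h1 : π z = 1 := (QuotientGroup.eq_one_iff z).mpr hz
    rw [h1]; exact Subgroup.one_mem _
  have hZcomm : ∀ z ∈ Z, ∀ g : G, g * z = z * g := by
    intro z hz g
    obtain ⟨k, rfl⟩ := Subgroup.mem_zpowers_iff.mp hz
    have : Commute g u := hc g
    exact (this.zpow_right k).eq
  have hfac : (Nat.card N).factorization 2 = 1 := by
    rw [hNc, Nat.factorization_mul Nat.card_pos.ne' two_ne_zero]
    have h0 : (Nat.card Nb).factorization 2 = 0 := by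
      apply Nat.factorization_eq_zero_of_not_dvd
      intro h2
      exact (Nat.not_even_iff_odd.mpr hNbodd) (even_iff_two_dvd.mpr h2)
    simp [h0, Nat.prime_two.factorization_self]
  have hZ'c : Nat.card (Z.subgroupOf N) = 2 ^ (Nat.card N).factorization 2 := by
    rw [Nat.card_congr (Subgroup.subgroupOfEquivOfLe hZN).toEquiv, hZc, hfac, pow_one]
  let P : Sylow 2 N := Sylow.ofCard (Z.subgroupOf N) hZ'c
  have hPcoe : (P : Subgroup N) = Z.subgroupOf N := Sylow.coe_ofCard _ _
  have hPc : Nat.card (P : Subgroup N) = 2 := by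
    rw [hPcoe, hZ'c, hfac, pow_one]
  have hPcen : Subgroup.normalizer ((P : Subgroup N) : Set N) ≤
      Subgroup.centralizer ((P : Subgroup N) : Set N) := by
    intro n _
    rw [Subgroup.mem_centralizer_iff]
    intro z hz
    have hz' : (z : G) ∈ Z := by
      have : z ∈ Z.subgroupOf N := hPcoe ▸ hz
      exact Subgroup.mem_subgroupOf.mp this
    apply Subtype.ext
    have := hZcomm _ hz' (n : G)
    simpa using this.symm
  let f := MonoidHom.transferSylow P hPcen
  have hcompl := MonoidHom.ker_transferSylow_isComplement' P hPcen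
  set K' := f.ker with hK'
  have hK'c : Nat.card K' = Nat.card Nb := by
    have h1 := hcompl.card_mul_card
    rw [hPc, hNc] at h1
    exact Nat.eq_of_mul_eq_mul_right (by norm_num) h1
  have hoddK : ∀ n : N, Odd (orderOf n) → n ∈ K' := by
    intro n hn
    rw [hK', MonoidHom.mem_ker]
    have h1 : (f n) ^ orderOf n = 1 := by rw [← map_pow, pow_orderOf_eq_one, map_one]
    have h2 : (f n) ^ 2 = 1 := by
      have := pow_card_eq_one' (G := (P : Subgroup N)) (x := f n)
      rwa [hPc] at this
    have h3 : orderOf (f n) ∣ orderOf n := orderOf_dvd_of_pow_eq_one h1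
    have h4 : orderOf (f n) ∣ 2 := orderOf_dvd_of_pow_eq_one h2
    have h5 : orderOf (f n) = 1 := by
      rcases (Nat.dvd_prime Nat.prime_two).mp h4 with h | h
      · exact h
      · exfalso
        rw [h] at h3
        exact (Nat.not_even_iff_odd.mpr hn) (even_iff_two_dvd.mpr h3)
    exact orderOf_eq_one_iff.mp h5
  set K := K'.map N.subtype with hK
  have hKc : Nat.card K = Nat.card Nb := by
    rw [hK, Subgroup.card_map_of_injective N.subtype_injective, hK'c]
  have hKodd : Odd (Nat.card K) := hKc ▸ hNbodd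
  have hKn : K.Normal := by
    constructor
    intro k hk g
    obtain ⟨k', hk', rfl⟩ := hk
    have hmem : g * (k' : G) * g⁻¹ ∈ N := hNn.conj_mem _ k'.2 g
    refine ⟨⟨g * k' * g⁻¹, hmem⟩, hoddK _ ?_, rfl⟩
    have h1 : orderOf (⟨g * k' * g⁻¹, hmem⟩ : N) = orderOf (k' : G) := by
      rw [Subgroup.orderOf_mk]
      exact orderOf_injective (MulAut.conj g).toMonoidHom (MulAut.conj g).injective (k' : G)
    rw [h1]
    apply Odd.of_dvd_nat (hK'c ▸ hNbodd : Odd (Nat.card K'))
    have h2 := orderOf_dvd_natCard (⟨k', hk'⟩ : K')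
    rw [Subgroup.orderOf_mk] at h2
    rwa [Subgroup.orderOf_coe]
  have hK_le : K ≤ oddCore G := le_oddCore K hKn hKodd
  rw [hO] at hK_le
  have h1 : Nat.card K = 1 := Subgroup.card_eq_one.mpr (le_bot_iff.mp hK_le)
  rw [hKc] at h1
  exact Subgroup.card_eq_one.mp h1

end Cfsg.Agent.ZStarCons
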