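import Cfsg.Agent.Lib.Lead.ZStarCons11
import Cfsg.Agent.Lib.Lead.ZStarCons12

/-!
# Group-theoretic preliminaries for the proof of Glauberman's Z*-theorem
-/

set_option autoImplicit false

universe u

namespace Cfsg.Agent.ZStarMain

open Cfsg Cfsg.Agent.H2 Cfsg.Agent.ZStarCons
open scoped Pointwise

section Conversions

variable {G : Type u} [Group G]

/-- An involution which is the only one of its conjugates in a Sylow `2`-subgroup is isolated. -/
theorem isolated_of_unique_in_sylow [Finite G] (P : Sylow 2 G) (u : G) (hu : orderOf u = 2)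
    (hiso : ∀ g : G, g * u * g⁻¹ ∈ P → g * u * g⁻¹ = u) :
    IsIsolatedInvolution u := by
  have : Fact (Nat.Prime 2) := ⟨Nat.prime_two⟩
  refine ⟨hu, fun g hcomm => ?_⟩
  set w := g * u * g⁻¹ with hw
  have hwo : orderOf w = 2 := by
    have := orderOf_injective (MulAut.conj g).toMonoidHom (MulAut.conj g).injective u
    simpa [MulAut.conj_apply] using this.trans hu
  have hup : IsPGroup 2 (Subgroup.zpowers u) := by
    apply IsPGroup.of_card (n := 1); rw [Nat.card_zpowers, hu, pow_one]
  have hwp : IsPGroup 2 (Subgroup.zpowers w) := by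
    apply IsPGroup.of_card (n := 1); rw [Nat.card_zpowers, hwo, pow_one]
  have hnorm : Subgroup.zpowers w ≤ Subgroup.normalizer ((Subgroup.zpowers u : Subgroup G) : Set G) := by
    rw [Subgroup.zpowers_le]
    rw [Subgroup.mem_normalizer_iff]
    intro h
    have hcw : ∀ k : ℤ, w * u ^ k * w⁻¹ = u ^ k := by
      intro k
      have h1 : Commute w u := hcomm.symm
      rw [(h1.zpow_right k).eq]; group
    constructor
    · intro hh
      obtain ⟨k, rfl⟩ := Subgroup.mem_zpowers_iff.mp hh
      rw [hcw k]; exact hh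
    · intro hh
      obtain ⟨k, hk⟩ := Subgroup.mem_zpowers_iff.mp hh
      have h2 : h = w⁻¹ * (w * h * w⁻¹) * w := by group
      rw [h2, ← hk]
      have h3 : w⁻¹ * u ^ k * w = u ^ k := by
        have := hcw k
        calc w⁻¹ * u ^ k * w = w⁻¹ * (w * u ^ k * w⁻¹) * w := by rw [this]
          _ = u ^ k := by group
      rw [h3]; exact Subgroup.zpow_mem _ (Subgroup.mem_zpowers u) k
  have hE : IsPGroup 2 (Subgroup.zpowers u ⊔ Subgroup.zpowers w : Subgroup G) :=
    IsPGroup.to_sup_of_normal_left' hup hwp hnorm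
  obtain ⟨Q, hQ⟩ := hE.exists_le_sylow
  obtain ⟨h, hh⟩ := MulAction.exists_smul_eq G P Q
  have huQ : u ∈ (Q : Subgroup G) := hQ (Subgroup.mem_sup_left (Subgroup.mem_zpowers u))
  have hwQ : w ∈ (Q : Subgroup G) := hQ (Subgroup.mem_sup_right (Subgroup.mem_zpowers w))
  rw [← hh, mem_smul_sylow] at huQ hwQ
  have h1 := hiso h⁻¹ (by rwa [inv_inv])
  have h2 := hiso (h⁻¹ * g) (by
    have : h⁻¹ * g * u * (h⁻¹ * g)⁻¹ = h⁻¹ * w * h := by rw [hw]; group
    rw [this]; exact hwQ)
  rw [inv_inv] at h1
  have h3 : h⁻¹ * w * h = u := by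
    rw [← h2, hw]; group
  calc w = h * (h⁻¹ * w * h) * h⁻¹ := by group
    _ = h * u * h⁻¹ := by rw [h3]
    _ = h * (h⁻¹ * u * h) * h⁻¹ := by rw [h1]
    _ = u := by group

/-- An isolated involution is isolated in every subgroup containing it. -/
theorem isolated_subgroup {t : G} (ht : IsIsolatedInvolution t) (H : Subgroup G) (htH : t ∈ H) :
    IsIsolatedInvolution (⟨t, htH⟩ : H) := by
  refine ⟨by rw [Subgroup.orderOf_mk]; exact ht.1, fun g hcomm => ?_⟩
  apply Subtype.ext
  have h1 : Commute t ((g : G) * t * (g : G)⁻¹) := by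
    have := congrArg Subtype.val hcomm.eq
    exact this
  exact ht.2 (g : G) h1

/-- The image of an isolated involution in the quotient by a normal subgroup of odd order is
isolated. -/
theorem isolated_quotient_odd [Finite G] {t : G} (ht : IsIsolatedInvolution t) (N : Subgroup G)
    [N.Normal] (hN : Odd (Nat.card N)) :
    IsIsolatedInvolution (QuotientGroup.mk' N t) := by
  set π := QuotientGroup.mk' N with hπ
  have htt := IsIsolatedInvolution.mul_self ht
  have hπtt : π t * π t = 1 := by rw [← map_mul, htt, map_one]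
  have htN : t ∉ N := by
    intro h
    have h1 : orderOf t ∣ Nat.card N := by
      have := orderOf_dvd_natCard (⟨t, h⟩ : N)
      rwa [Subgroup.orderOf_mk] at this
    rw [ht.1] at h1
    exact (Nat.not_even_iff_odd.mpr hN) (even_iff_two_dvd.mpr h1)
  have hπt1 : π t ≠ 1 := fun h => htN ((QuotientGroup.eq_one_iff t).mp h)
  refine ⟨orderOf_eq_prime (by rw [pow_two]; exact hπtt) hπt1, fun gb hcomm => ?_⟩
  obtain ⟨g, rfl⟩ := QuotientGroup.mk'_surjective N gb
  set w := g * t * g⁻¹ with hw
  have hπw : π g * π t * (π g)⁻¹ = π w := by rw [hw]; simp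
  rw [hπw] at hcomm ⊢
  have hww : w * w = 1 := by
    rw [hw]
    calc g * t * g⁻¹ * (g * t * g⁻¹) = g * (t * t) * g⁻¹ := by group
      _ = 1 := by rw [htt]; group
  have hπww : π w * π w = 1 := by rw [← map_mul, hww, map_one]
  obtain ⟨j, hj⟩ := IsIsolatedInvolution.odd_orderOf_conj_mul ht g
  rw [← hw] at hj
  -- `π (w * t)` has order dividing `2` and dividing the odd order of `w * t`
  have h2 : (π (w * t)) ^ 2 = 1 := by
    rw [pow_two, map_mul]
    calc π w * π t * (π w * π t) = π w * (π t * π w) * π t := by group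
      _ = π w * (π w * π t) * π t := by rw [hcomm.eq]
      _ = (π w * π w) * (π t * π t) := by group
      _ = 1 := by rw [hπww, hπtt, one_mul]
  have h3 : (π (w * t)) ^ (2 * j + 1) = 1 := by
    rw [← map_pow, ← hj, pow_orderOf_eq_one, map_one]
  have h4 : π (w * t) = 1 := by
    have : (π (w * t)) ^ (2 * j + 1) = ((π (w * t)) ^ 2) ^ j * π (w * t) := by
      rw [pow_succ, pow_mul]
    rw [this, h2, one_pow, one_mul] at h3
    exact h3
  rw [map_mul] at h4
  calc π w = (π w * π t) * π t := by rw [mul_assoc, hπtt, mul_one]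
    _ = π t := by rw [h4, one_mul]

/-- The image of an isolated involution `t` in the quotient by `⟨z⟩`, `z ≠ t` a central involution,
is isolated. -/
theorem isolated_quotient_central_two [Finite G] {t : G} (ht : IsIsolatedInvolution t) (z : G)
    (hz : orderOf z = 2) (hzt : z ≠ t)
    [(Subgroup.zpowers z).Normal] :
    IsIsolatedInvolution (QuotientGroup.mk' (Subgroup.zpowers z) t) := by
  set Z := Subgroup.zpowers z with hZ
  set π := QuotientGroup.mk' Z with hπ
  have htt := IsIsolatedInvolution.mul_self ht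
  have hzz : z * z = 1 := by rw [← pow_two, ← hz, pow_orderOf_eq_one]
  have hπtt : π t * π t = 1 := by rw [← map_mul, htt, map_one]
  have hZmem : ∀ y ∈ Z, y = 1 ∨ y = z := by
    intro y hy
    obtain ⟨k, rfl⟩ := Subgroup.mem_zpowers_iff.mp hy
    rcases Int.even_or_odd' k with ⟨j, rfl | rfl⟩
    · left
      rw [zpow_mul, zpow_two, hzz, one_zpow]
    · right
      rw [zpow_add, zpow_mul, zpow_two, hzz, one_zpow, one_mul, zpow_one]
  have htZ : t ∉ Z := by
    intro h
    rcases hZmem t h with h1 | h1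
    · exact IsIsolatedInvolution.ne_one ht h1
    · exact hzt h1.symm
  have hπt1 : π t ≠ 1 := fun h => htZ ((QuotientGroup.eq_one_iff t).mp h)
  refine ⟨orderOf_eq_prime (by rw [pow_two]; exact hπtt) hπt1, fun gb hcomm => ?_⟩
  obtain ⟨g, rfl⟩ := QuotientGroup.mk'_surjective Z gb
  set w := g * t * g⁻¹ with hw
  have hπw : π g * π t * (π g)⁻¹ = π w := by rw [hw]; simp
  rw [hπw] at hcomm ⊢
  have hww : w * w = 1 := by
    rw [hw]
    calc g * t * g⁻¹ * (g * t * g⁻¹) = g * (t * t) * g⁻¹ := by group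
      _ = 1 := by rw [htt]; group
  have hπww : π w * π w = 1 := by rw [← map_mul, hww, map_one]
  obtain ⟨j, hj⟩ := IsIsolatedInvolution.odd_orderOf_conj_mul ht g
  rw [← hw] at hj
  have h2 : (π (w * t)) ^ 2 = 1 := by
    rw [pow_two, map_mul]
    calc π w * π t * (π w * π t) = π w * (π t * π w) * π t := by group
      _ = π w * (π w * π t) * π t := by rw [hcomm.eq]
      _ = (π w * π w) * (π t * π t) := by group
      _ = 1 := by rw [hπww, hπtt, one_mul]
  have h3 : (π (w * t)) ^ (2 * j + 1) = 1 := by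
    rw [← map_pow, ← hj, pow_orderOf_eq_one, map_one]
  have h4 : π (w * t) = 1 := by
    have : (π (w * t)) ^ (2 * j + 1) = ((π (w * t)) ^ 2) ^ j * π (w * t) := by
      rw [pow_succ, pow_mul]
    rw [this, h2, one_pow, one_mul] at h3
    exact h3
  rw [map_mul] at h4
  calc π w = (π w * π t) * π t := by rw [mul_assoc, hπtt, mul_one]
    _ = π t := by rw [h4, one_mul]

/-- Fusion of elements of `C(t)` is controlled by `C(t)` when `t` is an isolated involution. -/
theorem fusion_in_centralizer [Finite G] {t : G} (ht : IsIsolatedInvolution t) (u g : G)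
    (hu : t * u = u * t) (hu' : t * (g * u * g⁻¹) = (g * u * g⁻¹) * t) :
    ∃ c : G, c * t = t * c ∧ c * u * c⁻¹ = g * u * g⁻¹ := by
  set u' := g * u * g⁻¹ with hu'def
  -- `t` and `g t g⁻¹` both centralize `u'`
  obtain ⟨j, hj⟩ := IsIsolatedInvolution.exists_pow_conj ht g
  set m := (g * t * g⁻¹ * t) ^ j with hm
  -- `m t m⁻¹ = g t g⁻¹`, and `m` centralizes `u'`
  have hgt : (g * t * g⁻¹) * u' = u' * (g * t * g⁻¹) := by
    rw [hu'def]
    calc g * t * g⁻¹ * (g * u * g⁻¹) = g * (t * u) * g⁻¹ := by group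
      _ = g * (u * t) * g⁻¹ := by rw [hu]
      _ = g * u * g⁻¹ * (g * t * g⁻¹) := by group
  have hmu : m * u' = u' * m := by
    have h1 : Commute (g * t * g⁻¹ * t) u' := by
      have a1 : Commute (g * t * g⁻¹) u' := hgt
      have a2 : Commute t u' := hu'
      exact a1.mul_left a2
    exact (h1.pow_left j).eq
  refine ⟨m⁻¹ * g, ?_, ?_⟩
  · have h1 : g * t = m * t * m⁻¹ * g := by rw [hj]; group
    calc m⁻¹ * g * t = m⁻¹ * (g * t) := by group
      _ = m⁻¹ * (m * t * m⁻¹ * g) := by rw [h1]
      _ = t * (m⁻¹ * g) := by group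
  · calc m⁻¹ * g * u * (m⁻¹ * g)⁻¹ = m⁻¹ * u' * m := by rw [hu'def]; group
      _ = m⁻¹ * (u' * m) := by group
      _ = m⁻¹ * (m * u') := by rw [hmu]
      _ = u' := by group

end Conversions

end Cfsg.Agent.ZStarMain
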