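import Cfsg.Agent.Lib.Lead.ZStarMain1

/-!
# The dihedral group generated by two involutions
-/

set_option autoImplicit false

universe u

namespace Cfsg.Agent.ZStarMain

open Cfsg Cfsg.Agent.H2 Cfsg.Agent.ZStarCons

variable {G : Type u} [Group G]

/-- Analysis of the dihedral group generated by two involutions `x`, `y`. -/
theorem dihedral_analysis [Finite G] (x y : G) (hx : x * x = 1) (hy : y * y = 1) :
    (∃ c : G, c * y * c⁻¹ = x) ∨
    (∃ z c : G, z * z = 1 ∧ z ≠ 1 ∧ z * x = x * z ∧ c * x * c⁻¹ = z * x) ∨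
    (∃ z c d : G, z * z = 1 ∧ z ≠ 1 ∧ z * x = x * z ∧ z * y = y * z ∧ c * z = z * c ∧
      c * x * c⁻¹ = z * y ∧ d = x * (z * y) ∧ Odd (orderOf d) ∧ x * y = z * d ∧ d * z = z * d) := by
  set r := x * y with hr
  have hxr : x * r * x⁻¹ = r⁻¹ := inv_conj_of_invol' hy hx
  have hyr : y * r * y⁻¹ = r⁻¹ := inv_conj_of_invol hy hx
  have hpos : 0 < orderOf r := orderOf_pos r
  rcases Nat.even_or_odd' (orderOf r) with ⟨k, hk | hk⟩
  · -- even order `2k`
    right
    have hk1 : 1 ≤ k := by omega
    set z := r ^ k with hz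
    have hzz : z * z = 1 := by
      rw [hz, ← pow_add]
      have : k + k = orderOf r := by omega
      rw [this, pow_orderOf_eq_one]
    have hz1 : z ≠ 1 := by
      intro h
      have := orderOf_dvd_of_pow_eq_one h
      have := Nat.le_of_dvd (by omega) this
      omega
    have hzinv : z⁻¹ = z := inv_eq_of_mul_eq_one_left hzz
    have hzx : z * x = x * z := by
      have h1 := conj_pow_of_inverts hxr k
      rw [← hz, hzinv] at h1
      calc z * x = (x * z * x⁻¹) * x := by rw [h1]
        _ = x * z := by group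
    have hzy : z * y = y * z := by
      have h1 := conj_pow_of_inverts hyr k
      rw [← hz, hzinv] at h1
      calc z * y = (y * z * y⁻¹) * y := by rw [h1]
        _ = y * z := by group
    rcases Nat.even_or_odd' k with ⟨j, hj | hj⟩
    · -- `k = 2j`
      left
      refine ⟨z, r ^ j, hzz, hz1, hzx, ?_⟩
      rw [pow_conj_of_inverts hxr j, hz, hj]
    · -- `k = 2j + 1`
      right
      have hzy' : z * y = r ^ (2 * j) * x := by
        rw [hz, hj, pow_succ, hr]
        calc (x * y) ^ (2 * j) * (x * y) * y = (x * y) ^ (2 * j) * x * (y * y) := by group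
          _ = (x * y) ^ (2 * j) * x := by rw [hy, mul_one]
      have hcz : r ^ j * z = z * r ^ j := by
        rw [hz, ← pow_add, ← pow_add, add_comm]
      have hd : x * (z * y) = r ^ (k + 1) := by
        calc x * (z * y) = (x * z) * y := by group
          _ = (z * x) * y := by rw [hzx]
          _ = z * (x * y) := by group
          _ = r ^ (k + 1) := by rw [hz, ← hr, pow_succ]
      refine ⟨z, r ^ j, x * (z * y), hzz, hz1, hzx, hzy, hcz, ?_, rfl, ?_, ?_, ?_⟩
      · rw [pow_conj_of_inverts hxr j, hzy']
      · rw [hd]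
        have h1 : (r ^ (k + 1)) ^ k = 1 := by
          rw [← pow_mul]
          have : (k + 1) * k = orderOf r * (j + 1) := by
            rw [hk, hj]; ring
          rw [this, pow_mul, pow_orderOf_eq_one, one_pow]
        have h2 := orderOf_dvd_of_pow_eq_one h1
        exact Odd.of_dvd_nat ⟨j, hj⟩ h2
      · rw [hd, hz, ← pow_add]
        have : k + (k + 1) = orderOf r + 1 := by omega
        rw [this, pow_succ, pow_orderOf_eq_one, one_mul]
      · rw [hd, hz, ← pow_add, ← pow_add, add_comm]
  · -- odd order
    left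
    refine ⟨r ^ (k + 1), ?_⟩
    rw [pow_conj_of_inverts hyr (k + 1)]
    have : 2 * (k + 1) = orderOf r + 1 := by omega
    rw [this, pow_succ, pow_orderOf_eq_one, one_mul, hr, mul_assoc, hy, mul_one]

end Cfsg.Agent.ZStarMain
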