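import Cfsg.Agent.Lib.Lead.ZStarMain2
import Cfsg.Agent.S0942
import Cfsg.Agent.S0943

/-!
# Z*-theorem: the character identity `χ(t) χ(u) = χ(1) χ(tu)` in a minimal situation
-/

set_option autoImplicit false

universe u

namespace Cfsg.Agent.ZStarMain

open Cfsg Cfsg.Agent.H2 Cfsg.Agent.ZStarCons

/-- Z* (elementary form) for all groups of order `n` in universe `u`. -/
def ZStarAt (n : ℕ) : Prop :=
  ∀ (G : Type u) [Group G] [Finite G], Nat.card G = n → ∀ t : G, IsIsolatedInvolution t →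
    ∀ g : G, t * g * t⁻¹ * g⁻¹ ∈ oddCore G

lemma card_lt_of_ne_top {G : Type u} [Group G] [Finite G] (H : Subgroup G) (h : H ≠ ⊤) :
    Nat.card H < Nat.card G := by
  have h1 := Subgroup.card_mul_index H
  have h2 : H.index ≠ 1 := fun h' => h (Subgroup.index_eq_one.mp h')
  have h3 : H.index ≠ 0 := Subgroup.index_ne_zero_of_finite
  have h4 : 0 < Nat.card H := Nat.card_pos
  have h5 : 2 ≤ H.index := by omega
  nlinarith

lemma irr_conj {G : Type u} [Group G] (χ : IrrCharacter G) (g h : G) :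
    (χ : G → ℂ) (h * g * h⁻¹) = (χ : G → ℂ) g := by
  obtain ⟨n, ρ, -, hρ⟩ := χ.2
  rw [← hρ]
  exact Representation.char_conj ρ g h

theorem class_constancy {G : Type u} [Group G] [Finite G]
    (hIH : ∀ m < Nat.card G, ZStarAt.{u} m) (t : G) (ht : IsIsolatedInvolution t)
    (hnc : ∀ z : G, orderOf z = 2 → ∃ g : G, g * z ≠ z * g)
    (u : G) (htu : t * u = u * t) (hntu : ¬ IsConj t u)
    (M : Ideal AlgInt) (hM : IsPModular 2 M) (χ : IrrCharacter G) (hχ : χ ∈ principalBlock M G)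
    (x y : G) (hx : IsConj t x) (hy : IsConj u y) (hu : u * u = 1) :
    (χ : G → ℂ) (x * y) = (χ : G → ℂ) (t * u) := by
  have : Fact (Nat.Prime 2) := ⟨Nat.prime_two⟩
  obtain ⟨a, ha⟩ := isConj_iff.mp hx
  obtain ⟨b, hb⟩ := isConj_iff.mp hy
  have htt := IsIsolatedInvolution.mul_self ht
  have hxx : x * x = 1 := by
    rw [← ha]
    calc a * t * a⁻¹ * (a * t * a⁻¹) = a * (t * t) * a⁻¹ := by group
      _ = 1 := by rw [htt]; group
  have hyy : y * y = 1 := by
    rw [← hb]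
    calc b * u * b⁻¹ * (b * u * b⁻¹) = b * (u * u) * b⁻¹ := by group
      _ = 1 := by rw [hu]; group
  have hxinv : x⁻¹ = x := inv_eq_of_mul_eq_one_left hxx
  have hxiso : IsIsolatedInvolution x := ha ▸ IsIsolatedInvolution.conj ht a
  rcases dihedral_analysis x y hxx hyy with ⟨c, hc⟩ | ⟨z, c, hzz, hz1, hzx, hc⟩ |
    ⟨z, c, d, hzz, hz1, hzx, hzy, hcz, hc, hd, -, hxy, -⟩
  · exfalso
    apply hntu
    rw [isConj_iff]
    refine ⟨(c * b)⁻¹ * a, ?_⟩
    calc (c * b)⁻¹ * a * t * ((c * b)⁻¹ * a)⁻¹ = (c * b)⁻¹ * (a * t * a⁻¹) * (c * b) := by group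
      _ = (c * b)⁻¹ * (c * y * c⁻¹) * (c * b) := by rw [ha, hc]
      _ = b⁻¹ * y * b := by group
      _ = u := by rw [← hb]; group
  · exfalso
    have hcomm : Commute x (c * x * c⁻¹) := by
      rw [hc]
      unfold Commute SemiconjBy
      calc x * (z * x) = (x * z) * x := by group
        _ = (z * x) * x := by rw [hzx]
    have h1 := hxiso.2 c hcomm
    rw [hc] at h1
    apply hz1
    calc z = (z * x) * x⁻¹ := by group
      _ = 1 := by rw [h1]; group
  · set C := Subgroup.centralizer ({z} : Set G) with hC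
    have hzo : orderOf z = 2 := orderOf_eq_prime (by rw [pow_two]; exact hzz) hz1
    obtain ⟨g0, hg0⟩ := hnc z hzo
    have hCne : C ≠ ⊤ := by
      intro h
      apply hg0
      have h1 : g0 ∈ C := h ▸ Subgroup.mem_top g0
      rw [hC, Subgroup.mem_centralizer_iff] at h1
      exact (h1 z (Set.mem_singleton z)).symm
    have hClt : Nat.card C < Nat.card G := card_lt_of_ne_top C hCne
    have hxC : x ∈ C := by
      rw [hC, Subgroup.mem_centralizer_iff]
      intro w hw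
      rw [Set.mem_singleton_iff] at hw
      rw [hw]; exact hzx
    have hcC : c ∈ C := by
      rw [hC, Subgroup.mem_centralizer_iff]
      intro w hw
      rw [Set.mem_singleton_iff] at hw
      rw [hw]; exact hcz.symm
    have hxCiso : IsIsolatedInvolution (⟨x, hxC⟩ : C) := isolated_subgroup hxiso C hxC
    have h1 := hIH (Nat.card C) hClt C rfl ⟨x, hxC⟩ hxCiso ⟨c, hcC⟩
    have hdmem : d ∈ centralizerPPrimeCore 2 z := by
      unfold centralizerPPrimeCore
      refine ⟨_, h1, ?_⟩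
      change x * c * x⁻¹ * c⁻¹ = d
      rw [hd, ← hc, hxinv]; group
    have h2 := Cfsg.Agent.S0942.result 2 M hM z ⟨1, by rw [hzo, pow_one]⟩ d hdmem χ hχ
    rw [hxy, h2]
    -- `z = (c x c⁻¹) y` is conjugate to `t u`
    set e := (c * a)⁻¹ with he
    have he1 : e * (c * x * c⁻¹) * e⁻¹ = t := by rw [he, ← ha]; group
    have hy₁ : e * y * e⁻¹ = (e * b) * u * (e * b)⁻¹ := by rw [← hb]; group
    have hcomm1 : (c * x * c⁻¹) * y = y * (c * x * c⁻¹) := by
      rw [hc]
      calc z * y * y = y * z * y := by rw [hzy]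
        _ = y * (z * y) := by group
    have hty₁ : t * (e * y * e⁻¹) = (e * y * e⁻¹) * t := by
      rw [← he1]
      calc e * (c * x * c⁻¹) * e⁻¹ * (e * y * e⁻¹) = e * ((c * x * c⁻¹) * y) * e⁻¹ := by group
        _ = e * (y * (c * x * c⁻¹)) * e⁻¹ := by rw [hcomm1]
        _ = e * y * e⁻¹ * (e * (c * x * c⁻¹) * e⁻¹) := by group
    obtain ⟨c₂, hc₂t, hc₂u⟩ := fusion_in_centralizer ht u (e * b) htu (by rw [← hy₁]; exact hty₁)
    have hz_eq : z = (e⁻¹ * c₂) * (t * u) * (e⁻¹ * c₂)⁻¹ := by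
      have h3 : c₂ * t * c₂⁻¹ = t := by
        calc c₂ * t * c₂⁻¹ = (t * c₂) * c₂⁻¹ := by rw [hc₂t]
          _ = t := by group
      have h4 : z = (c * x * c⁻¹) * y := by
        rw [hc]
        calc z = z * (y * y) := by rw [hyy, mul_one]
          _ = z * y * y := by group
      calc z = (c * x * c⁻¹) * y := h4
        _ = e⁻¹ * ((e * (c * x * c⁻¹) * e⁻¹) * (e * y * e⁻¹)) * e := by group
        _ = e⁻¹ * (t * (c₂ * u * c₂⁻¹)) * e := by rw [he1, hy₁, hc₂u]
        _ = e⁻¹ * ((c₂ * t * c₂⁻¹) * (c₂ * u * c₂⁻¹)) * e := by rw [h3]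
        _ = (e⁻¹ * c₂) * (t * u) * (e⁻¹ * c₂)⁻¹ := by group
    rw [hz_eq, irr_conj]

theorem key_identity {G : Type u} [Group G] [Finite G]
    (hIH : ∀ m < Nat.card G, ZStarAt.{u} m) (t : G) (ht : IsIsolatedInvolution t)
    (hnc : ∀ z : G, orderOf z = 2 → ∃ g : G, g * z ≠ z * g)
    (u : G) (htu : t * u = u * t) (hntu : ¬ IsConj t u) (hu : u * u = 1)
    (M : Ideal AlgInt) (hM : IsPModular 2 M) (χ : IrrCharacter G) (hχ : χ ∈ principalBlock M G) :
    (χ : G → ℂ) t * (χ : G → ℂ) u = (χ : G → ℂ) 1 * (χ : G → ℂ) (t * u) :=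
  Cfsg.Agent.S0943.result χ t u (fun x y hx hy =>
    class_constancy hIH t ht hnc u htu hntu M hM χ hχ x y hx hy hu)

end Cfsg.Agent.ZStarMain
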