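import Cfsg.Agent.Lib.Lead.ZStarMain3
import Cfsg.Agent.Lib.helper3.SecMain5
import Cfsg.Agent.Lib.helper3.CharBasic2
import Cfsg.Agent.Lib.helper3.Irr11

/-!
# Z*-theorem: the contradiction from block orthogonality
-/

set_option autoImplicit false
set_option linter.style.haveILetI false

universe u

namespace Cfsg.Agent.ZStarMain

open Cfsg Cfsg.Agent.H2 Cfsg.Agent.ZStarCons
open Cfsg.Agent.Lib.helper3.Block Cfsg.Agent.Lib.helper3.CharBasic Cfsg.Agent.Lib.helper3.Irr
open Cfsg.Agent.Lib.helper3.Central Cfsg.Agent.Lib.helper3.IndFun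
open scoped ComplexConjugate

/-- An irreducible character having `t` in its kernel is trivial when `G` is the normal closure
of `t`. -/
theorem eq_one_of_mem_ker {G : Type u} [Group G] [Finite G] (χ : IrrCharacter G) (t : G)
    (hgen : Subgroup.normalClosure ({t} : Set G) = ⊤)
    (hχt : (χ : G → ℂ) t = (χ : G → ℂ) 1) : (χ : G → ℂ) = fun _ => 1 := by
  classical
  letI : Fintype G := Fintype.ofFinite G
  have hχirr := χ.2
  obtain ⟨n, ρ, hirr, hρ⟩ := χ.2
  haveI := hirr
  have h1 : ρ.character 1 = (Module.finrank ℂ (Fin n → ℂ) : ℂ) := Representation.char_one ρ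
  have ht : ρ t = LinearMap.id := by
    rw [← character_eq_finrank_iff, ← h1, hρ]
    exact hχt
  -- the kernel of `ρ`
  let K : Subgroup G :=
    { carrier := {g | ρ g = 1}
      one_mem' := map_one ρ
      mul_mem' := by
        intro a b ha hb
        change ρ (a * b) = 1
        rw [map_mul, ha, hb, one_mul]
      inv_mem' := by
        intro a ha
        change ρ a⁻¹ = 1
        have h2 : ρ a⁻¹ * ρ a = 1 := by rw [← map_mul, inv_mul_cancel, map_one]
        rw [ha, mul_one] at h2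
        exact h2 }
  have hKn : K.Normal := by
    constructor
    intro a ha g
    change ρ (g * a * g⁻¹) = 1
    have ha' : ρ a = 1 := ha
    rw [map_mul, map_mul, ha', mul_one, ← map_mul, mul_inv_cancel, map_one]
  have htK : ({t} : Set G) ⊆ (K : Set G) := by
    intro x hx
    rw [Set.mem_singleton_iff] at hx
    rw [hx]
    exact ht
  have hKtop : K = ⊤ := top_le_iff.mp (hgen ▸ Subgroup.normalClosure_le_normal htK)
  have hall : ∀ g : G, (χ : G → ℂ) g = (χ : G → ℂ) 1 := by
    intro g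
    have hg : ρ g = 1 := by
      have : g ∈ K := hKtop ▸ Subgroup.mem_top g
      exact this
    rw [← hρ, h1]
    unfold Representation.character
    rw [hg]
    exact LinearMap.trace_one ℂ (Fin n → ℂ)
  -- `⟨χ, χ⟩ = χ(1)^2 = 1`
  have hd : (χ : G → ℂ) 1 = (n : ℂ) := by
    rw [← hρ, h1]; simp
  have hself := irr_classInner_self hχirr
  rw [classInner_apply] at hself
  have hsum : ∑ g : G, (χ : G → ℂ) g * conj ((χ : G → ℂ) g) = (Nat.card G : ℂ) * ((n : ℂ) * (n : ℂ)) := by
    have : ∀ g : G, (χ : G → ℂ) g * conj ((χ : G → ℂ) g) = (n : ℂ) * (n : ℂ) := by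
      intro g
      rw [hall g, hd, Complex.conj_natCast]
    rw [Finset.sum_congr rfl (fun g _ => this g), Finset.sum_const, Finset.card_univ,
      nsmul_eq_mul, Nat.card_eq_fintype_card]
  rw [hsum, ← mul_assoc, inv_mul_cancel₀ (card_ne_zero_complex G), one_mul] at hself
  have hn : n = 1 := by
    have h2 : ((n * n : ℕ) : ℂ) = ((1 : ℕ) : ℂ) := by push_cast; exact hself
    have h3 : n * n = 1 := by exact_mod_cast h2
    exact Nat.eq_one_of_mul_eq_one_left h3
  funext g
  rw [hall g, hd, hn]; simp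

/-- The contradiction in the proof of the Z*-theorem. -/
theorem endgame {G : Type u} [Group G] [Finite G] (t u : G) (hto : orderOf t = 2)
    (huo : orderOf u = 2) (hgen : Subgroup.normalClosure ({t} : Set G) = ⊤)
    (hntu : ¬ IsConj t u) (M : Ideal AlgInt) (hM : IsPModular 2 M)
    (h1 : ∀ χ : IrrCharacter G, χ ∈ principalBlock M G →
      (χ : G → ℂ) t * (χ : G → ℂ) u = (χ : G → ℂ) 1 * (χ : G → ℂ) (t * u))
    (h2 : ∀ χ : IrrCharacter G, χ ∈ principalBlock M G →
      (χ : G → ℂ) t * (χ : G → ℂ) (t * u) = (χ : G → ℂ) 1 * (χ : G → ℂ) u) : False := by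
  classical
  letI : Fintype G := Fintype.ofFinite G
  set B0 := principalBlock M G with hB0
  set triv : IrrCharacter G := ⟨fun _ => 1, isIrrCharacter_one⟩ with htriv
  have hB0blk : IsPBlock M B0 := ⟨triv, rfl⟩
  have hMtop : M ≠ ⊤ := hM.2.1.ne_top
  have htrivmem : triv ∈ B0 := sameBlock_refl hMtop _
  have huu : u * u = 1 := by rw [← pow_two, ← huo, pow_orderOf_eq_one]
  have huinv : u⁻¹ = u := inv_eq_of_mul_eq_one_left huu
  have hu1 : u ≠ 1 := by
    intro h; rw [h, orderOf_one] at huo; omega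
  have hp1 : IsPPart 2 (1 : G) 1 :=
    ⟨1, one_mul 1, Commute.one_right 1, ⟨0, by simp⟩, by simp⟩
  have hpt : IsPPart 2 t t :=
    ⟨1, mul_one t, Commute.one_right t, ⟨1, by rw [hto, pow_one]⟩, by simp⟩
  have hpu : IsPPart 2 u u :=
    ⟨1, mul_one u, Commute.one_right u, ⟨1, by rw [huo, pow_one]⟩, by simp⟩
  have hn1u : ¬ IsConj (1 : G) u := by
    intro h
    obtain ⟨c, hc⟩ := isConj_iff.mp h
    apply hu1
    rw [← hc]; group
  have o1 := block_orthogonality hM B0 hB0blk 1 u 1 u hp1 hpu hn1u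
  have o2 := block_orthogonality hM B0 hB0blk t u t u hpt hpu hntu
  rw [huinv] at o1 o2
  have o3 : ∑ χ : IrrCharacter G, (if χ ∈ B0 then (1 : ℂ) else 0)
      * (((χ : G → ℂ) 1 + (χ : G → ℂ) t) * (χ : G → ℂ) u) = 0 := by
    have : ∀ χ : IrrCharacter G, (if χ ∈ B0 then (1 : ℂ) else 0)
        * (((χ : G → ℂ) 1 + (χ : G → ℂ) t) * (χ : G → ℂ) u)
        = (if χ ∈ B0 then (1 : ℂ) else 0) * ((χ : G → ℂ) 1 * (χ : G → ℂ) u)
          + (if χ ∈ B0 then (1 : ℂ) else 0) * ((χ : G → ℂ) t * (χ : G → ℂ) u) := by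
      intro χ; ring
    rw [Finset.sum_congr rfl (fun χ _ => this χ), Finset.sum_add_distrib, o1, o2, add_zero]
  rw [Finset.sum_eq_single triv] at o3
  · rw [if_pos htrivmem] at o3
    norm_num [htriv] at o3
  · intro χ _ hne
    by_cases hχ : χ ∈ B0
    · rw [if_pos hχ, one_mul]
      by_cases hχu : (χ : G → ℂ) u = 0
      · rw [hχu, mul_zero]
      · have e1 := h1 χ hχ
        have e2 := h2 χ hχ
        have e3 : ((χ : G → ℂ) t - (χ : G → ℂ) 1) * ((χ : G → ℂ) t + (χ : G → ℂ) 1) = 0 := by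
          have : ((χ : G → ℂ) t * (χ : G → ℂ) t - (χ : G → ℂ) 1 * (χ : G → ℂ) 1) * (χ : G → ℂ) u = 0 := by
            calc ((χ : G → ℂ) t * (χ : G → ℂ) t - (χ : G → ℂ) 1 * (χ : G → ℂ) 1) * (χ : G → ℂ) u
                = (χ : G → ℂ) t * ((χ : G → ℂ) t * (χ : G → ℂ) u)
                  - (χ : G → ℂ) 1 * ((χ : G → ℂ) 1 * (χ : G → ℂ) u) := by ring
              _ = (χ : G → ℂ) t * ((χ : G → ℂ) 1 * (χ : G → ℂ) (t * u))
                  - (χ : G → ℂ) 1 * ((χ : G → ℂ) t * (χ : G → ℂ) (t * u)) := by rw [e1, e2]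
              _ = 0 := by ring
          rcases mul_eq_zero.mp this with h | h
          · rw [← h]; ring
          · exact absurd h hχu
        rcases mul_eq_zero.mp e3 with h | h
        · exfalso
          apply hne
          apply Subtype.ext
          exact eq_one_of_mem_ker χ t hgen (sub_eq_zero.mp h)
        · rw [add_comm, h, zero_mul]
    · rw [if_neg hχ, zero_mul]
  · intro h
    exact absurd (Finset.mem_univ triv) h

end Cfsg.Agent.ZStarMain
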