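import Cfsg.Agent.Lib.Lead.ZStarMain4
import Cfsg.Agent.Lib.helper3.LocalM3
import Cfsg.Agent.H2.UniqueOrderP

/-!
# Glauberman's Z*-theorem, assuming the Brauer–Suzuki theorem
-/

set_option autoImplicit false

universe u

namespace Cfsg.Agent.ZStarMain

open Cfsg Cfsg.Agent.H2 Cfsg.Agent.ZStarCons
open scoped Pointwise

/-- The exact statement of the Brauer–Suzuki theorem (row S0201), in universe `u`. -/
def BrauerSuzukiStatement : Prop :=
  ∀ {G : Type u} [Group G] [Finite G] (S : Sylow 2 G) (n : ℕ)
    (_ : (S : Subgroup G) ≃* QuaternionGroup (2 ^ (n + 1)))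
    (_ : ∀ N : Subgroup G, N.Normal → Odd (Nat.card N) → N = ⊥),
    Nat.card (Subgroup.center G) = 2

section Cases

variable {G : Type u} [Group G] [Finite G]

omit [Finite G] in
/-- If `g t g⁻¹ = t` for all `g` then all commutators are trivial. -/
lemma comm_of_conj_eq {t : G} (h : ∀ g : G, g * t * g⁻¹ = t) (g : G) : g * t = t * g := by
  calc g * t = (g * t * g⁻¹) * g := by group
    _ = t * g := by rw [h g]

/-- Case of a central involution different from `t`. -/
theorem central_of_central_involution (hIH : ∀ m < Nat.card G, ZStarAt.{u} m) {t : G}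
    (ht : IsIsolatedInvolution t) (hO : oddCore G = ⊥) (z : G) (hz : orderOf z = 2)
    (hzc : ∀ g : G, g * z = z * g) (hzt : z ≠ t) : ∀ g : G, g * t * g⁻¹ = t := by
  set Z := Subgroup.zpowers z with hZ
  have hzz : z * z = 1 := by rw [← pow_two, ← hz, pow_orderOf_eq_one]
  have htt := IsIsolatedInvolution.mul_self ht
  have htinv := IsIsolatedInvolution.inv_eq ht
  have hZn : Z.Normal := by
    constructor
    intro y hy g'
    obtain ⟨k, rfl⟩ := Subgroup.mem_zpowers_iff.mp hy
    have h1 : Commute g' z := hzc g'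
    have h2 : g' * z ^ k * g'⁻¹ = z ^ k := by
      rw [(h1.zpow_right k).eq]; group
    rw [h2]; exact Subgroup.zpow_mem _ (Subgroup.mem_zpowers z) k
  have hZc : Nat.card Z = 2 := by rw [hZ, Nat.card_zpowers, hz]
  have hZmem : ∀ y ∈ Z, y = 1 ∨ y = z := by
    intro y hy
    obtain ⟨k, rfl⟩ := Subgroup.mem_zpowers_iff.mp hy
    rcases Int.even_or_odd' k with ⟨j, rfl | rfl⟩
    · left
      rw [zpow_mul, zpow_two, hzz, one_zpow]
    · right
      rw [zpow_add, zpow_mul, zpow_two, hzz, one_zpow, one_mul, zpow_one]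
  have hcardlt : Nat.card (G ⧸ Z) < Nat.card G := by
    have h1 := Subgroup.card_eq_card_quotient_mul_card_subgroup Z
    rw [hZc] at h1
    have : 0 < Nat.card (G ⧸ Z) := Nat.card_pos
    omega
  have hObar : oddCore (G ⧸ Z) = ⊥ := oddCore_quotient_central_two z hz hzc hO
  have hiso := isolated_quotient_central_two ht z hz hzt
  intro g
  have h1 := hIH _ hcardlt (G ⧸ Z) rfl _ hiso (QuotientGroup.mk' Z g)
  rw [hObar, Subgroup.mem_bot, ← map_inv, ← map_inv, ← map_mul, ← map_mul, ← map_mul] at h1
  have h2 : t * g * t⁻¹ * g⁻¹ ∈ Z := (QuotientGroup.eq_one_iff _).mp h1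
  have h3 : t * g * t⁻¹ * g⁻¹ = t * (g * t * g⁻¹) := by rw [htinv]; group
  rw [h3] at h2
  rcases hZmem _ h2 with h | h
  · calc g * t * g⁻¹ = t⁻¹ * (t * (g * t * g⁻¹)) := by group
      _ = t := by rw [h, mul_one, htinv]
  · apply ht.2 g
    have h4 : g * t * g⁻¹ = t * z := by
      calc g * t * g⁻¹ = t⁻¹ * (t * (g * t * g⁻¹)) := by group
        _ = t * z := by rw [h, htinv]
    rw [h4]
    unfold Commute SemiconjBy
    calc t * (t * z) = t * (z * t) := by rw [hzc t]
      _ = t * z * t := by group

/-- Case where the normal closure of `t` is proper. -/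
theorem central_of_normalClosure_ne_top (hIH : ∀ m < Nat.card G, ZStarAt.{u} m) {t : G}
    (ht : IsIsolatedInvolution t) (hO : oddCore G = ⊥)
    (hK : Subgroup.normalClosure ({t} : Set G) ≠ ⊤) : ∀ g : G, g * t * g⁻¹ = t := by
  set K := Subgroup.normalClosure ({t} : Set G) with hKdef
  have htK : t ∈ K := Subgroup.subset_normalClosure (Set.mem_singleton t)
  have hKn : K.Normal := Subgroup.normalClosure_normal
  have hlt : Nat.card K < Nat.card G := card_lt_of_ne_top K hK
  have hiso := isolated_subgroup ht K htK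
  have hle : (oddCore ↥K).map K.subtype ≤ oddCore G := by
    change (pPrimeCore 2 ↥K).map K.subtype ≤ pPrimeCore 2 G
    rw [Cfsg.Agent.Lib.Lead.PiCore.pPrimeCore_eq_piCore Nat.prime_two,
      Cfsg.Agent.Lib.Lead.PiCore.pPrimeCore_eq_piCore Nat.prime_two]
    exact Cfsg.Agent.Lib.Lead.PiCore.map_subtype_piCore_le_of_normal _ K
  have hcomm : ∀ k ∈ K, t * k = k * t := by
    intro k hk
    have h1 := hIH _ hlt K rfl ⟨t, htK⟩ hiso ⟨k, hk⟩
    have h2 : t * k * t⁻¹ * k⁻¹ ∈ (oddCore ↥K).map K.subtype := ⟨_, h1, rfl⟩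
    have h3 := hle h2
    rw [hO, Subgroup.mem_bot] at h3
    calc t * k = (t * k * t⁻¹ * k⁻¹) * (k * t) := by group
      _ = k * t := by rw [h3, one_mul]
  intro g
  apply ht.2 g
  exact hcomm _ (hKn.conj_mem t htK g)

/-- Case where `t` is the only involution of a Sylow `2`-subgroup. -/
theorem central_of_unique_involution (hBS : BrauerSuzukiStatement.{u}) {t : G}
    (ht : IsIsolatedInvolution t) (hO : oddCore G = ⊥) (S : Sylow 2 G)
    (htS : t ∈ (S : Subgroup G))
    (huniq : ∀ u ∈ (S : Subgroup G), orderOf u = 2 → u = t) : ∀ g : G, g * t * g⁻¹ = t := by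
  have : Fact (Nat.Prime 2) := ⟨Nat.prime_two⟩
  have hO' : ∀ N : Subgroup G, N.Normal → Odd (Nat.card N) → N = ⊥ := fun N hN hodd =>
    le_bot_iff.mp (hO ▸ le_oddCore N hN hodd)
  -- the cyclic case
  have hcyc_case : IsCyclic ↥(S : Subgroup G) → ∀ g : G, g * t * g⁻¹ = t := by
    intro hcyc
    have h2 : 2 ∣ Nat.card G := by
      rw [← ht.1]; exact orderOf_dvd_natCard t
    have hNC := IsCyclic.normalizer_le_centralizer ((Nat.minFac_eq_two_iff _).mpr h2) hcyc
    have hcompl := MonoidHom.ker_transferSylow_isComplement' S hNC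
    set N := (MonoidHom.transferSylow S hNC).ker with hN
    have hNn : N.Normal := MonoidHom.normal_ker _
    have hcard := hcompl.card_mul_card
    have hNodd : Odd (Nat.card N) := by
      have h3 := Subgroup.card_mul_index (S : Subgroup G)
      have h4 : Nat.card N = (S : Subgroup G).index := by
        have hpos : 0 < Nat.card (S : Subgroup G) := Nat.card_pos
        have : Nat.card N * Nat.card (S : Subgroup G)
            = (S : Subgroup G).index * Nat.card (S : Subgroup G) := by
          rw [hcard, mul_comm, h3]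
        exact Nat.eq_of_mul_eq_mul_right hpos this
      rw [h4]
      exact Nat.odd_iff.mpr (Nat.two_dvd_ne_zero.mp S.not_dvd_index)
    have hNbot : N = ⊥ := hO' N hNn hNodd
    rw [hNbot, Subgroup.card_bot, one_mul] at hcard
    have hStop : (S : Subgroup G) = ⊤ := Subgroup.eq_top_of_card_eq _ hcard
    intro g
    apply isolated_unique_in_sylow ht S htS g
    have : g * t * g⁻¹ ∈ (⊤ : Subgroup G) := Subgroup.mem_top _
    rw [← hStop] at this
    exact this
  -- uniqueness of the subgroup of order `2`
  have hS2 : ∀ H K : Subgroup ↥(S : Subgroup G), Nat.card H = 2 → Nat.card K = 2 → H = K := by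
    have key : ∀ H : Subgroup ↥(S : Subgroup G), Nat.card H = 2 →
        H = Subgroup.zpowers (⟨t, htS⟩ : ↥(S : Subgroup G)) := by
      intro H hH
      obtain ⟨h, hh⟩ := exists_prime_orderOf_dvd_card' (G := H) 2 (by rw [hH])
      have h1 : orderOf ((h : ↥(S : Subgroup G)) : G) = 2 := by
        rw [Subgroup.orderOf_coe, Subgroup.orderOf_coe, hh]
      have h2 := huniq _ (h : ↥(S : Subgroup G)).2 h1
      have h3 : (h : ↥(S : Subgroup G)) = ⟨t, htS⟩ := Subtype.ext h2
      symm
      apply Subgroup.eq_of_le_of_card_ge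
      · rw [Subgroup.zpowers_le, ← h3]; exact h.2
      · rw [hH, Nat.card_zpowers, Subgroup.orderOf_mk, ht.1]
    intro H K hH hK
    rw [key H hH, key K hK]
  rcases Cfsg.Agent.H2.UOP.main 2 S.isPGroup' hS2 with hcyc | ⟨-, n, ⟨e⟩⟩
  · exact hcyc_case hcyc
  · rcases Nat.eq_zero_or_pos n with rfl | hnpos
    · apply hcyc_case
      rw [pow_zero] at e
      exact e.isCyclic.mpr QuaternionGroup.quaternionGroup_one_isCyclic
    · obtain ⟨k, rfl⟩ : ∃ k, n = k + 1 := ⟨n - 1, by omega⟩
      have hc := hBS S k e hO'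
      obtain ⟨z0, hz0⟩ := exists_prime_orderOf_dvd_card' (G := Subgroup.center G) 2 (by rw [hc])
      set z : G := (z0 : G) with hz
      have hzo : orderOf z = 2 := by rw [hz, Subgroup.orderOf_coe, hz0]
      have hzc : ∀ g : G, g * z = z * g := fun g => Subgroup.mem_center_iff.mp z0.2 g
      -- `z ∈ S`
      have hzp : IsPGroup 2 (Subgroup.zpowers z) := by
        apply IsPGroup.of_card (n := 1); rw [Nat.card_zpowers, hzo, pow_one]
      obtain ⟨Q, hQ⟩ := hzp.exists_le_sylow
      obtain ⟨h, hh⟩ := MulAction.exists_smul_eq G S Q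
      have hzQ : z ∈ (Q : Subgroup G) := hQ (Subgroup.mem_zpowers z)
      rw [← hh, mem_smul_sylow] at hzQ
      have hzS : z ∈ (S : Subgroup G) := by
        have : h⁻¹ * z * h = z := by rw [hzc h⁻¹]; group
        rwa [this] at hzQ
      have hzt : z = t := huniq z hzS hzo
      intro g
      rw [← hzt]
      calc g * z * g⁻¹ = (z * g) * g⁻¹ := by rw [hzc g]
        _ = z := by group

end Cases

/-- **Glauberman's Z*-theorem**, assuming the Brauer–Suzuki theorem. -/
theorem zstar_all (hBS : BrauerSuzukiStatement.{u}) : ∀ n : ℕ, ZStarAt.{u} n := by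
  intro n
  induction n using Nat.strong_induction_on with
  | _ n ih =>
  intro G _ _ hn t ht g
  have : Fact (Nat.Prime 2) := ⟨Nat.prime_two⟩
  have hIH : ∀ m < Nat.card G, ZStarAt.{u} m := fun m hm => ih m (hn ▸ hm)
  have htt := IsIsolatedInvolution.mul_self ht
  by_cases hO : oddCore G = ⊥
  · -- it suffices to show that `t` is central
    suffices hcen : ∀ g : G, g * t * g⁻¹ = t by
      have h1 : t * g * t⁻¹ * g⁻¹ = 1 := by
        have := hcen g
        calc t * g * t⁻¹ * g⁻¹ = t * (g * t * g⁻¹)⁻¹ := by group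
          _ = 1 := by rw [this, mul_inv_cancel]
      rw [h1]; exact Subgroup.one_mem _
    by_contra hnot
    -- no central involutions
    have hnc : ∀ z : G, orderOf z = 2 → ∃ g : G, g * z ≠ z * g := by
      intro z hz
      by_contra hcz
      push Not at hcz
      by_cases hzt : z = t
      · apply hnot
        intro g'
        rw [← hzt]
        calc g' * z * g'⁻¹ = (z * g') * g'⁻¹ := by rw [hcz g']
          _ = z := by group
      · exact hnot (central_of_central_involution hIH ht hO z hz hcz hzt)
    -- `G` is the normal closure of `t`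
    have hgen : Subgroup.normalClosure ({t} : Set G) = ⊤ := by
      by_contra hK
      exact hnot (central_of_normalClosure_ne_top hIH ht hO hK)
    -- a Sylow `2`-subgroup containing `t`
    have htp : IsPGroup 2 (Subgroup.zpowers t) := by
      apply IsPGroup.of_card (n := 1); rw [Nat.card_zpowers, ht.1, pow_one]
    obtain ⟨S, hS⟩ := htp.exists_le_sylow
    have htS : t ∈ (S : Subgroup G) := hS (Subgroup.mem_zpowers t)
    by_cases huniq : ∀ u ∈ (S : Subgroup G), orderOf u = 2 → u = t
    · exact hnot (central_of_unique_involution hBS ht hO S htS huniq)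
    · push Not at huniq
      obtain ⟨u, huS, huo, hut⟩ := huniq
      have huu : u * u = 1 := by rw [← pow_two, ← huo, pow_orderOf_eq_one]
      have huinv : u⁻¹ = u := inv_eq_of_mul_eq_one_left huu
      have htinv := IsIsolatedInvolution.inv_eq ht
      -- `t` is central in `S`
      have htu : t * u = u * t := by
        have h1 := isolated_unique_in_sylow ht S htS u
          (Subgroup.mul_mem _ (Subgroup.mul_mem _ huS htS) (Subgroup.inv_mem _ huS))
        calc t * u = (u * t * u⁻¹)⁻¹⁻¹ * u := by rw [inv_inv, h1]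
          _ = u * t := by group
      have hnconj : ∀ v ∈ (S : Subgroup G), v ≠ t → ¬ IsConj t v := by
        intro v hvS hvt hc
        obtain ⟨c, hc⟩ := isConj_iff.mp hc
        apply hvt
        rw [← hc]
        exact isolated_unique_in_sylow ht S htS c (hc ▸ hvS)
      have hntu : ¬ IsConj t u := hnconj u huS hut
      obtain ⟨v, hv⟩ : ∃ v : G, v = t * u := ⟨_, rfl⟩
      have hvS : v ∈ (S : Subgroup G) := hv ▸ Subgroup.mul_mem _ htS huS
      have hvt : v ≠ t := by
        intro h
        have : u = 1 := by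
          calc u = t⁻¹ * (t * u) := by group
            _ = 1 := by rw [← hv, h, inv_mul_cancel]
        rw [this, orderOf_one] at huo; omega
      have hvv : v * v = 1 := by
        rw [hv]
        calc t * u * (t * u) = t * (u * t) * u := by group
          _ = t * (t * u) * u := by rw [htu]
          _ = (t * t) * (u * u) := by group
          _ = 1 := by rw [htt, huu, one_mul]
      have htv : t * v = v * t := by
        rw [hv]
        calc t * (t * u) = t * (u * t) := by rw [htu]
          _ = t * u * t := by group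
      have hntv : ¬ IsConj t v := hnconj v hvS hvt
      have htv_u : t * v = u := by
        rw [hv]
        calc t * (t * u) = (t * t) * u := by group
          _ = u := by rw [htt, one_mul]
      obtain ⟨M, hM⟩ := Cfsg.Agent.Lib.helper3.LocalM.exists_isPModular 2 Nat.prime_two
      apply endgame t u ht.1 huo hgen hntu M hM
      · intro χ hχ
        exact key_identity hIH t ht hnc u htu hntu huu M hM χ hχ
      · intro χ hχ
        have := key_identity hIH t ht hnc v htv hntv hvv M hM χ hχ
        rw [htv_u, hv] at this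
        exact this
  · -- `O(G) ≠ 1`
    set O := oddCore G with hOdef
    have hcardlt : Nat.card (G ⧸ O) < Nat.card G := by
      have h1 := Subgroup.card_eq_card_quotient_mul_card_subgroup O
      have h2 : 1 < Nat.card O := (Subgroup.one_lt_card_iff_ne_bot O).mpr hO
      have h3 : 0 < Nat.card (G ⧸ O) := Nat.card_pos
      nlinarith
    have hObar : oddCore (G ⧸ O) = ⊥ :=
      Cfsg.Agent.Lib.Lead.PiCore.pPrimeCore_quotient_eq_bot Nat.prime_two
    have hiso := isolated_quotient_odd ht O oddCore_odd
    have h1 := hIH _ hcardlt (G ⧸ O) rfl _ hiso (QuotientGroup.mk' O g)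
    rw [hObar, Subgroup.mem_bot, ← map_inv, ← map_inv, ← map_mul, ← map_mul, ← map_mul] at h1
    exact (QuotientGroup.eq_one_iff _).mp h1

/-- Row S0215 from the Brauer–Suzuki theorem (row S0201). -/
theorem row0215 (hBS : BrauerSuzukiStatement.{u}) {G : Type u} [Group G] [Finite G] (P : Sylow 2 G)
    (u : G) (hu : orderOf u = 2)
    (hiso : ∀ g : G, g * u * g⁻¹ ∈ P → g * u * g⁻¹ = u) :
    ∃ N : Subgroup G, N.Normal ∧ Odd (Nat.card N) ∧ ∀ g : G, (u * g * u⁻¹ * g⁻¹) ∈ N :=
  ⟨oddCore G, inferInstance, oddCore_odd,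
    zstar_all hBS _ G rfl u (isolated_of_unique_in_sylow P u hu hiso)⟩

end Cfsg.Agent.ZStarMain
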