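import Mathlib
import Cfsg.Prelude.Def_Involutions
import Cfsg.Agent.Lib.Lead.StrEmb2
import Cfsg.Agent.Lib.Lead.Conj
import Cfsg.Agent.Lib.Lead.ProdCard
import Cfsg.Agent.S1224
import Cfsg.Agent.S1225
import Cfsg.Agent.S1226

/-!
# Groups whose involution centralizers are elementary abelian 2-groups

Standing hypotheses: `T` a noncyclic, non-normal Sylow 2-subgroup of the finite group `G`, and
`C_G(t)` is an elementary abelian 2-group for all involutions `t`.  `N = N_G(T)`, and for an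
involution `u ∉ N`, `D u = N ⊓ N^u`.
-/

set_option autoImplicit false

namespace Cfsg.Agent.Lib.Lead.Zass

open Cfsg.Agent.Lib.Lead
open scoped Pointwise

variable {G : Type*} [Group G] [Finite G] (T : Sylow 2 G)
  (hnc : ¬ IsCyclic (T : Subgroup G)) (hnn : ¬ (T : Subgroup G).Normal)
  (hC : ∀ t : G, orderOf t = 2 → IsMulCommutative (Subgroup.centralizer ({t} : Set G)) ∧
    ∀ c ∈ Subgroup.centralizer ({t} : Set G), c ^ 2 = 1)

/-- membership in the conjugate `N^u` in terms of the action on cosets -/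
theorem mem_map_conj_iff (N : Subgroup G) (u x : G) :
    x ∈ N.map (MulAut.conj u).toMonoidHom ↔ x • ((u : G) : G ⧸ N) = ((u : G) : G ⧸ N) := by
  rw [StrEmb2.smul_mk_eq_iff, Conj.mem_map_conj]

include hnc hC

/-- Basic structure: `T` is elementary abelian, and `C(t) = T` for `t ∈ T` an involution. -/
theorem basic :
    (∀ a ∈ (T : Subgroup G), ∀ b ∈ (T : Subgroup G), a * b = b * a) ∧
    (∀ a ∈ (T : Subgroup G), a ^ 2 = 1) ∧
    (∀ t ∈ (T : Subgroup G), orderOf t = 2 → Subgroup.centralizer ({t} : Set G) = (T : Subgroup G)) ∧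
    (∀ t ∈ Subgroup.normalizer ((T : Subgroup G) : Set G), orderOf t = 2 → t ∈ (T : Subgroup G)) := by
  classical
  have hT2 : IsPGroup 2 ↥(T : Subgroup G) := T.isPGroup'
  have hTne : (T : Subgroup G) ≠ ⊥ := by
    intro h
    apply hnc
    rw [h]
    exact inferInstance
  haveI : Nontrivial ↥(T : Subgroup G) := (Subgroup.nontrivial_iff_ne_bot _).2 hTne
  haveI hcn : Nontrivial ↥(Subgroup.center ↥(T : Subgroup G)) := hT2.center_nontrivial
  have h2c : 2 ∣ Nat.card ↥(Subgroup.center ↥(T : Subgroup G)) := by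
    have hcp : IsPGroup 2 ↥(Subgroup.center ↥(T : Subgroup G)) := hT2.to_subgroup _
    obtain ⟨k, hk⟩ := IsPGroup.iff_card.mp hcp
    have hk0 : k ≠ 0 := by
      rintro rfl
      rw [pow_zero] at hk
      have := (Nat.card_eq_one_iff_unique.1 hk).1
      exact not_subsingleton _ this
    rw [hk]; exact dvd_pow_self 2 hk0
  haveI : Fact (Nat.Prime 2) := ⟨Nat.prime_two⟩
  obtain ⟨⟨⟨z, hzT⟩, hzc⟩, hzo⟩ :=
    exists_prime_orderOf_dvd_card' (G := ↥(Subgroup.center ↥(T : Subgroup G))) 2 h2c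
  rw [Subgroup.orderOf_mk, Subgroup.orderOf_mk] at hzo
  have h2grp : ∀ t : G, orderOf t = 2 → IsPGroup 2 ↥(Subgroup.centralizer ({t} : Set G)) := by
    intro t ht c
    refine ⟨1, ?_⟩
    apply Subtype.ext
    have := (hC t ht).2 c c.2
    simpa using this
  have hTleCz : (T : Subgroup G) ≤ Subgroup.centralizer ({z} : Set G) := by
    intro x hx
    rw [Subgroup.mem_centralizer_singleton_iff]
    have := (Subgroup.mem_center_iff.1 hzc) ⟨x, hx⟩
    have h1 : x * z = z * x := congrArg Subtype.val this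
    exact h1
  have hCz : Subgroup.centralizer ({z} : Set G) = (T : Subgroup G) :=
    T.is_maximal' (h2grp z hzo) hTleCz
  have hTcomm : ∀ a ∈ (T : Subgroup G), ∀ b ∈ (T : Subgroup G), a * b = b * a := by
    intro a ha b hb
    have hcm := (hC z hzo).1
    rw [← hCz] at ha hb
    have := hcm.is_comm.comm (⟨a, ha⟩ : ↥(Subgroup.centralizer ({z} : Set G))) ⟨b, hb⟩
    exact congrArg Subtype.val this
  refine ⟨hTcomm, ?_, ?_, ?_⟩
  · intro a ha
    rw [← hCz] at ha
    exact (hC z hzo).2 a ha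
  · intro t htT hto
    apply T.is_maximal' (h2grp t hto)
    intro x hx
    rw [Subgroup.mem_centralizer_singleton_iff]
    exact hTcomm x hx t htT
  · intro t htN hto
    have hz : IsPGroup 2 ↥(Subgroup.zpowers t) := by
      apply IsPGroup.of_card (n := 1)
      rw [Nat.card_zpowers, hto, pow_one]
    have hle : Subgroup.zpowers t ≤ Subgroup.normalizer ((T : Subgroup G) : Set G) := by
      rw [Subgroup.zpowers_le]; exact htN
    have hsup : IsPGroup 2 ↥(Subgroup.zpowers t ⊔ (T : Subgroup G) : Subgroup G) :=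
      IsPGroup.to_sup_of_normal_right' hz hT2 hle
    have := T.is_maximal' hsup le_sup_right
    rw [← this]
    exact Subgroup.mem_sup_left (Subgroup.mem_zpowers t)

/-- Nonidentity elements of `T` are involutions. -/
theorem orderOf_eq_two {t : G} (ht : t ∈ (T : Subgroup G)) (h1 : t ≠ 1) : orderOf t = 2 := by
  apply StrEmb2.orderOf_eq_two_of _ h1
  rw [← pow_two]
  exact (basic T hnc hC).2.1 t ht

/-- `4 ≤ |T|`. -/
theorem four_le_card : 4 ≤ Nat.card ↥(T : Subgroup G) := by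
  have hT2 : IsPGroup 2 ↥(T : Subgroup G) := T.isPGroup'
  obtain ⟨k, hk⟩ := IsPGroup.iff_card.mp hT2
  rcases k with _ | _ | k
  · exfalso; apply hnc
    rw [pow_zero] at hk
    haveI : Subsingleton ↥(T : Subgroup G) := (Nat.card_eq_one_iff_unique.1 hk).1
    exact inferInstance
  · exfalso; apply hnc
    haveI : Fact (Nat.Prime 2) := ⟨Nat.prime_two⟩
    exact isCyclic_of_prime_card (p := 2) (by simpa using hk)
  · rw [hk, pow_succ, pow_succ]
    have : 1 ≤ 2 ^ k := Nat.one_le_two_pow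
    omega


include hnn

theorem se : Cfsg.IsStronglyEmbedded (Subgroup.normalizer ((T : Subgroup G) : Set G)) :=
  Cfsg.Agent.S1226.result T hnc hnn hC

theorem D_inf_T (u : G) (huN : u ∉ Subgroup.normalizer ((T : Subgroup G) : Set G)) :
    (Subgroup.normalizer ((T : Subgroup G) : Set G) ⊓
      (Subgroup.normalizer ((T : Subgroup G) : Set G)).map (MulAut.conj u).toMonoidHom) ⊓
      (T : Subgroup G) = ⊥ := by
  rw [eq_bot_iff]
  intro x hx
  obtain ⟨hxD, hxT⟩ := Subgroup.mem_inf.mp hx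
  rw [Subgroup.mem_bot]
  by_contra hx1
  exact StrEmb2.not_odd_of_mem _ x hxD (orderOf_eq_two T hnc hC hxT hx1)
    ((se T hnc hnn hC).2.2 u huN)

theorem free (u : G) (huN : u ∉ Subgroup.normalizer ((T : Subgroup G) : Set G)) {d t : G}
    (hd : d ∈ Subgroup.normalizer ((T : Subgroup G) : Set G) ⊓
      (Subgroup.normalizer ((T : Subgroup G) : Set G)).map (MulAut.conj u).toMonoidHom)
    (ht : t ∈ (T : Subgroup G)) (ht1 : t ≠ 1) (h : d * t * d⁻¹ = t) : d = 1 := by
  have hdT : d ∈ (T : Subgroup G) := by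
    rw [← (basic T hnc hC).2.2.1 t ht (orderOf_eq_two T hnc hC ht ht1),
      Subgroup.mem_centralizer_singleton_iff]
    exact mul_inv_eq_iff_eq_mul.mp h
  have : d ∈ (⊥ : Subgroup G) := by
    rw [← D_inf_T T hnc hnn hC u huN]
    exact Subgroup.mem_inf.mpr ⟨hd, hdT⟩
  exact Subgroup.mem_bot.mp this

theorem trans' (u : G) (hu : orderOf u = 2)
    (huN : u ∉ Subgroup.normalizer ((T : Subgroup G) : Set G)) {t s : G}
    (ht : t ∈ (T : Subgroup G)) (ht1 : t ≠ 1) (hs : s ∈ (T : Subgroup G)) (hs1 : s ≠ 1) :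
    ∃ d ∈ Subgroup.normalizer ((T : Subgroup G) : Set G) ⊓
      (Subgroup.normalizer ((T : Subgroup G) : Set G)).map (MulAut.conj u).toMonoidHom,
      d * t * d⁻¹ = s :=
  Cfsg.Agent.S1225.conj_in_H _ (se T hnc hnn hC) u hu huN t s (orderOf_eq_two T hnc hC ht ht1)
    (Subgroup.le_normalizer ht) (orderOf_eq_two T hnc hC hs hs1) (Subgroup.le_normalizer hs)

theorem exists_ne_one : ∃ t ∈ (T : Subgroup G), t ≠ 1 := by
  have h4 := four_le_card T hnc hC
  haveI : Nontrivial ↥(T : Subgroup G) := Finite.one_lt_card_iff_nontrivial.mp (by omega)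
  obtain ⟨x, hx⟩ := exists_ne (1 : ↥(T : Subgroup G))
  refine ⟨x.1, x.2, ?_⟩
  intro h
  exact hx (Subtype.ext h)

theorem card_diff_one : ((T : Subgroup G) : Set G).ncard = (((T : Subgroup G) : Set G) \ {1}).ncard + 1 := by
  rw [Set.ncard_sdiff_singleton_add_one (Subgroup.one_mem _) (Set.toFinite _)]

theorem card_D (u : G) (hu : orderOf u = 2)
    (huN : u ∉ Subgroup.normalizer ((T : Subgroup G) : Set G)) :
    Nat.card ↥(Subgroup.normalizer ((T : Subgroup G) : Set G) ⊓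
      (Subgroup.normalizer ((T : Subgroup G) : Set G)).map (MulAut.conj u).toMonoidHom) + 1 =
      Nat.card ↥(T : Subgroup G) := by
  obtain ⟨t₀, ht₀, ht₀1⟩ := exists_ne_one T hnc hnn hC
  set D := Subgroup.normalizer ((T : Subgroup G) : Set G) ⊓
      (Subgroup.normalizer ((T : Subgroup G) : Set G)).map (MulAut.conj u).toMonoidHom with hD
  have h1 : Nat.card ↥D = (D : Set G).ncard := (_root_.Nat.card_coe_set_eq _)
  have h2 : Nat.card ↥(T : Subgroup G) = ((T : Subgroup G) : Set G).ncard :=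
    (_root_.Nat.card_coe_set_eq _)
  rw [h1, h2, card_diff_one T hnc hnn hC]
  congr 1
  apply Set.ncard_congr (fun d _ => d * t₀ * d⁻¹)
  · intro d hd
    refine ⟨?_, ?_⟩
    · exact (Subgroup.mem_normalizer_iff.mp (Subgroup.mem_inf.mp hd).1 t₀).mp ht₀
    · intro h
      apply ht₀1
      have h' : d * t₀ * d⁻¹ = 1 := h
      have : t₀ = d⁻¹ * (d * t₀ * d⁻¹) * d := by group
      rw [this, h']; group
  · intro d d' hd hd' h
    have h' : d * t₀ * d⁻¹ = d' * t₀ * d'⁻¹ := h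
    have h3 : (d'⁻¹ * d) * t₀ * (d'⁻¹ * d)⁻¹ = t₀ := by
      calc (d'⁻¹ * d) * t₀ * (d'⁻¹ * d)⁻¹ = d'⁻¹ * (d * t₀ * d⁻¹) * d' := by group
        _ = d'⁻¹ * (d' * t₀ * d'⁻¹) * d' := by rw [h']
        _ = t₀ := by group
    have h4 := free T hnc hnn hC u huN (D.mul_mem (D.inv_mem hd') hd) ht₀ ht₀1 h3
    calc d = d' * (d'⁻¹ * d) := by group
      _ = d' := by rw [h4, mul_one]
  · intro s hs
    obtain ⟨d, hd, hds⟩ := trans' T hnc hnn hC u hu huN ht₀ ht₀1 hs.1 hs.2
    exact ⟨d, hd, hds⟩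


/-- involutions of `N` are the nonidentity elements of `T` -/
theorem invol_set_eq :
    {t : G | orderOf t = 2 ∧ t ∈ Subgroup.normalizer ((T : Subgroup G) : Set G)} =
      ((T : Subgroup G) : Set G) \ {1} := by
  ext t
  constructor
  · rintro ⟨ht, htN⟩
    refine ⟨(basic T hnc hC).2.2.2 t htN ht, ?_⟩
    intro h
    rw [Set.mem_singleton_iff] at h
    rw [h, orderOf_one] at ht
    omega
  · rintro ⟨htT, ht1⟩
    exact ⟨orderOf_eq_two T hnc hC htT ht1, Subgroup.le_normalizer htT⟩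

theorem inverts (u : G) (hu : orderOf u = 2)
    (huN : u ∉ Subgroup.normalizer ((T : Subgroup G) : Set G)) :
    ∀ d ∈ Subgroup.normalizer ((T : Subgroup G) : Set G) ⊓
      (Subgroup.normalizer ((T : Subgroup G) : Set G)).map (MulAut.conj u).toMonoidHom,
      u * d * u⁻¹ = d⁻¹ := by
  set N := Subgroup.normalizer ((T : Subgroup G) : Set G) with hN
  set D := N ⊓ N.map (MulAut.conj u).toMonoidHom with hD
  have hse := se T hnc hnn hC
  have huu : u * u = 1 := StrEmb2.invol_mul_self hu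
  have huinv : u⁻¹ = u := inv_eq_of_mul_eq_one_right huu
  have hxy : ((1 : G) : G ⧸ N) ≠ ((u : G) : G ⧸ N) := by
    intro h
    apply huN
    have := QuotientGroup.eq.mp h
    simpa using this
  have hux : u • ((1 : G) : G ⧸ N) = ((u : G) : G ⧸ N) := by
    rw [MulAction.Quotient.smul_mk, smul_eq_mul, mul_one]
  have hcount := Cfsg.Agent.S1224.result N hse _ _ hxy
  have hJ : {i : G | orderOf i = 2 ∧ i • ((1 : G) : G ⧸ N) = ((u : G) : G ⧸ N)}.ncard + 1
      = Nat.card ↥(T : Subgroup G) := by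
    have h1 : Nat.card {i : G // orderOf i = 2 ∧ i • ((1 : G) : G ⧸ N) = ((u : G) : G ⧸ N)}
        = {i : G | orderOf i = 2 ∧ i • ((1 : G) : G ⧸ N) = ((u : G) : G ⧸ N)}.ncard :=
      _root_.Nat.card_coe_set_eq _
    have h2 : Nat.card {t : G // orderOf t = 2 ∧ t ∈ N}
        = {t : G | orderOf t = 2 ∧ t ∈ N}.ncard := _root_.Nat.card_coe_set_eq _
    rw [← h1, hcount, h2, invol_set_eq T hnc hnn hC]
    have h3 : Nat.card ↥(T : Subgroup G) = ((T : Subgroup G) : Set G).ncard :=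
      (_root_.Nat.card_coe_set_eq _)
    rw [h3, card_diff_one T hnc hnn hC]
  have hDcard : Nat.card ↥D + 1 = Nat.card ↥(T : Subgroup G) := card_D T hnc hnn hC u hu huN
  have hmaps : ∀ w ∈ {i : G | orderOf i = 2 ∧ i • ((1 : G) : G ⧸ N) = ((u : G) : G ⧸ N)},
      u * w ∈ {d : G | d ∈ D ∧ u * d * u⁻¹ = d⁻¹} := by
    rintro w ⟨hw, hwx⟩
    have hww : w * w = 1 := StrEmb2.invol_mul_self hw
    have hwinv : w⁻¹ = w := inv_eq_of_mul_eq_one_right hww
    have hwy : w • ((u : G) : G ⧸ N) = ((1 : G) : G ⧸ N) := by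
      rw [← hwx, ← mul_smul, hww, one_smul]
    have huy : u • ((u : G) : G ⧸ N) = ((1 : G) : G ⧸ N) := by
      rw [← hux, ← mul_smul, huu, one_smul]
    refine ⟨Subgroup.mem_inf.mpr ⟨?_, ?_⟩, ?_⟩
    · rw [← StrEmb2.smul_one_eq_iff (H := N), mul_smul, hwx, huy]
    · rw [mem_map_conj_iff, mul_smul, hwy, hux]
    · calc u * (u * w) * u⁻¹ = (u * u) * w * u⁻¹ := by group
        _ = w⁻¹ * u⁻¹ := by rw [huu, one_mul, hwinv]
        _ = (u * w)⁻¹ := by group
  have hinj : Set.InjOn (fun w => u * w)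
      {i : G | orderOf i = 2 ∧ i • ((1 : G) : G ⧸ N) = ((u : G) : G ⧸ N)} := by
    intro a _ b _ h
    exact mul_left_cancel h
  have hle := Set.ncard_le_ncard_of_injOn (fun w => u * w) hmaps hinj (Set.toFinite _)
  have hsub : {d : G | d ∈ D ∧ u * d * u⁻¹ = d⁻¹} ⊆ (D : Set G) := fun d hd => hd.1
  have hDn : Nat.card ↥D = (D : Set G).ncard := _root_.Nat.card_coe_set_eq _
  have heq : {d : G | d ∈ D ∧ u * d * u⁻¹ = d⁻¹} = (D : Set G) := by
    apply Set.eq_of_subset_of_ncard_le hsub _ (Set.toFinite _)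
    omega
  intro d hd
  have : d ∈ {d : G | d ∈ D ∧ u * d * u⁻¹ = d⁻¹} := by rw [heq]; exact hd
  exact this.2

theorem exists_mul (u : G) (hu : orderOf u = 2)
    (huN : u ∉ Subgroup.normalizer ((T : Subgroup G) : Set G)) :
    ∀ n ∈ Subgroup.normalizer ((T : Subgroup G) : Set G),
      ∃ d ∈ Subgroup.normalizer ((T : Subgroup G) : Set G) ⊓
        (Subgroup.normalizer ((T : Subgroup G) : Set G)).map (MulAut.conj u).toMonoidHom,
        d⁻¹ * n ∈ (T : Subgroup G) := by
  intro n hn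
  obtain ⟨t₀, ht₀, ht₀1⟩ := exists_ne_one T hnc hnn hC
  have hs : n * t₀ * n⁻¹ ∈ (T : Subgroup G) := (Subgroup.mem_normalizer_iff.mp hn t₀).mp ht₀
  have hs1 : n * t₀ * n⁻¹ ≠ 1 := by
    intro h
    apply ht₀1
    have : t₀ = n⁻¹ * (n * t₀ * n⁻¹) * n := by group
    rw [this, h]; group
  obtain ⟨d, hd, hds⟩ := trans' T hnc hnn hC u hu huN ht₀ ht₀1 hs hs1
  refine ⟨d, hd, ?_⟩
  rw [← (basic T hnc hC).2.2.1 t₀ ht₀ (orderOf_eq_two T hnc hC ht₀ ht₀1),
    Subgroup.mem_centralizer_singleton_iff]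
  calc d⁻¹ * n * t₀ = d⁻¹ * (n * t₀ * n⁻¹) * n := by group
    _ = d⁻¹ * (d * t₀ * d⁻¹) * n := by rw [hds]
    _ = t₀ * (d⁻¹ * n) := by group

theorem card_N (u : G) (hu : orderOf u = 2)
    (huN : u ∉ Subgroup.normalizer ((T : Subgroup G) : Set G)) :
    Nat.card ↥(Subgroup.normalizer ((T : Subgroup G) : Set G)) =
      Nat.card ↥(Subgroup.normalizer ((T : Subgroup G) : Set G) ⊓
        (Subgroup.normalizer ((T : Subgroup G) : Set G)).map (MulAut.conj u).toMonoidHom) *
      Nat.card ↥(T : Subgroup G) := by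
  set N := Subgroup.normalizer ((T : Subgroup G) : Set G) with hN
  set D := N ⊓ N.map (MulAut.conj u).toMonoidHom with hD
  have h1 := ProdCard.card_mul_card_eq D (T : Subgroup G)
  rw [D_inf_T T hnc hnn hC u huN, Subgroup.card_bot, mul_one] at h1
  rw [h1]
  have h2 : (D : Set G) * ((T : Subgroup G) : Set G) = (N : Set G) := by
    ext n
    constructor
    · rintro ⟨d, hd, t, ht, rfl⟩
      exact N.mul_mem (Subgroup.mem_inf.mp hd).1 (Subgroup.le_normalizer ht)
    · intro hn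
      obtain ⟨d, hd, hdn⟩ := exists_mul T hnc hnn hC u hu huN n hn
      exact ⟨d, hd, d⁻¹ * n, hdn, by group⟩
  rw [h2]
  exact (_root_.Nat.card_coe_set_eq _)

end Cfsg.Agent.Lib.Lead.Zass
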