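import Mathlib
import Cfsg.Agent.Lib.Lead.Zass

/-!
# Groups whose involution centralizers are elementary abelian 2-groups, II

The normalizer of the two point stabilizer `D = N ⊓ N^u` is `D⟨u⟩` and `D` fixes exactly two cosets.
-/

set_option autoImplicit false

namespace Cfsg.Agent.Lib.Lead.Zass

open Cfsg.Agent.Lib.Lead
open scoped Pointwise

variable {G : Type*} [Group G] [Finite G] (T : Sylow 2 G)
  (hnc : ¬ IsCyclic (T : Subgroup G)) (hnn : ¬ (T : Subgroup G).Normal)
  (hC : ∀ t : G, orderOf t = 2 → IsMulCommutative (Subgroup.centralizer ({t} : Set G)) ∧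
    ∀ c ∈ Subgroup.centralizer ({t} : Set G), c ^ 2 = 1)

include hnc hnn hC

/-- every coset other than `N` is `w N` for an involution `w`. -/
theorem exists_invol_swap (z : G ⧸ Subgroup.normalizer ((T : Subgroup G) : Set G))
    (hz : z ≠ ((1 : G) : G ⧸ Subgroup.normalizer ((T : Subgroup G) : Set G))) :
    ∃ w : G, orderOf w = 2 ∧ w ∉ Subgroup.normalizer ((T : Subgroup G) : Set G) ∧
      ((w : G) : G ⧸ Subgroup.normalizer ((T : Subgroup G) : Set G)) = z := by
  have hse := se T hnc hnn hC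
  have hcount := Cfsg.Agent.S1224.result _ hse _ _ hz.symm
  obtain ⟨t, htN, ht⟩ := StrEmb2.exists_invol_mem hse
  haveI : Nonempty {t : G // orderOf t = 2 ∧ t ∈ Subgroup.normalizer ((T : Subgroup G) : Set G)} :=
    ⟨⟨t, ht, htN⟩⟩
  have hpos : 0 < Nat.card {i : G // orderOf i = 2 ∧
      i • ((1 : G) : G ⧸ Subgroup.normalizer ((T : Subgroup G) : Set G)) = z} := by
    rw [hcount]; exact Nat.card_pos
  obtain ⟨⟨w, hw, hwz⟩⟩ := (Nat.card_pos_iff.mp hpos).1
  have hwz' : ((w : G) : G ⧸ Subgroup.normalizer ((T : Subgroup G) : Set G)) = z := by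
    rw [← hwz, MulAction.Quotient.smul_mk, smul_eq_mul, mul_one]
  refine ⟨w, hw, ?_, hwz'⟩
  intro hwN
  apply hz
  rw [← hwz']
  exact (QuotientGroup.eq.mpr (by simpa using Subgroup.inv_mem _ hwN))

/-- if `D_u` fixes the coset `wN` then `D_w = D_u`. -/
theorem D_eq_of_fix (u : G) (hu : orderOf u = 2)
    (huN : u ∉ Subgroup.normalizer ((T : Subgroup G) : Set G)) (w : G) (hw : orderOf w = 2)
    (hwN : w ∉ Subgroup.normalizer ((T : Subgroup G) : Set G))
    (hfix : ∀ d ∈ Subgroup.normalizer ((T : Subgroup G) : Set G) ⊓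
      (Subgroup.normalizer ((T : Subgroup G) : Set G)).map (MulAut.conj u).toMonoidHom,
      d • ((w : G) : G ⧸ Subgroup.normalizer ((T : Subgroup G) : Set G)) = (w : G)) :
    Subgroup.normalizer ((T : Subgroup G) : Set G) ⊓
      (Subgroup.normalizer ((T : Subgroup G) : Set G)).map (MulAut.conj u).toMonoidHom =
    Subgroup.normalizer ((T : Subgroup G) : Set G) ⊓
      (Subgroup.normalizer ((T : Subgroup G) : Set G)).map (MulAut.conj w).toMonoidHom := by
  apply Subgroup.eq_of_le_of_card_ge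
  · intro d hd
    exact Subgroup.mem_inf.mpr ⟨(Subgroup.mem_inf.mp hd).1, (mem_map_conj_iff _ w d).mpr (hfix d hd)⟩
  · have h1 := card_D T hnc hnn hC u hu huN
    have h2 := card_D T hnc hnn hC w hw hwN
    omega

/-- `D_u` has a nonidentity element. -/
theorem exists_D_ne_one (u : G) (hu : orderOf u = 2)
    (huN : u ∉ Subgroup.normalizer ((T : Subgroup G) : Set G)) :
    ∃ d ∈ Subgroup.normalizer ((T : Subgroup G) : Set G) ⊓
      (Subgroup.normalizer ((T : Subgroup G) : Set G)).map (MulAut.conj u).toMonoidHom, d ≠ 1 := by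
  have h1 := card_D T hnc hnn hC u hu huN
  have h4 := four_le_card T hnc hC
  haveI : Nontrivial ↥(Subgroup.normalizer ((T : Subgroup G) : Set G) ⊓
      (Subgroup.normalizer ((T : Subgroup G) : Set G)).map (MulAut.conj u).toMonoidHom) :=
    Finite.one_lt_card_iff_nontrivial.mp (by omega)
  obtain ⟨x, hx⟩ := exists_ne (1 : ↥(Subgroup.normalizer ((T : Subgroup G) : Set G) ⊓
      (Subgroup.normalizer ((T : Subgroup G) : Set G)).map (MulAut.conj u).toMonoidHom))
  exact ⟨x.1, x.2, fun h => hx (Subtype.ext h)⟩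

/-- `D_u` is abelian. -/
theorem D_comm (u : G) (hu : orderOf u = 2)
    (huN : u ∉ Subgroup.normalizer ((T : Subgroup G) : Set G)) :
    ∀ d ∈ Subgroup.normalizer ((T : Subgroup G) : Set G) ⊓
      (Subgroup.normalizer ((T : Subgroup G) : Set G)).map (MulAut.conj u).toMonoidHom,
    ∀ e ∈ Subgroup.normalizer ((T : Subgroup G) : Set G) ⊓
      (Subgroup.normalizer ((T : Subgroup G) : Set G)).map (MulAut.conj u).toMonoidHom,
      d * e = e * d := by
  intro d hd e he
  have h1 := inverts T hnc hnn hC u hu huN d hd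
  have h2 := inverts T hnc hnn hC u hu huN e he
  have h3 := inverts T hnc hnn hC u hu huN (d * e) (Subgroup.mul_mem _ hd he)
  have h4 : u * (d * e) * u⁻¹ = (u * d * u⁻¹) * (u * e * u⁻¹) := by group
  rw [h4, h1, h2, mul_inv_rev] at h3
  -- d⁻¹ * e⁻¹ = e⁻¹ * d⁻¹
  have h5 := congrArg (fun x => x⁻¹) h3
  simp only [mul_inv_rev, inv_inv] at h5
  exact h5.symm

/-- an element of `D_u` equal to its inverse is trivial. -/
theorem D_eq_one_of_inv (u : G) (huN : u ∉ Subgroup.normalizer ((T : Subgroup G) : Set G)) {d : G}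
    (hd : d ∈ Subgroup.normalizer ((T : Subgroup G) : Set G) ⊓
      (Subgroup.normalizer ((T : Subgroup G) : Set G)).map (MulAut.conj u).toMonoidHom)
    (h : d = d⁻¹) : d = 1 := by
  by_contra h1
  have hdd : d * d = 1 := by
    nth_rewrite 2 [h]
    exact mul_inv_cancel d
  exact StrEmb2.not_odd_of_mem _ d hd (StrEmb2.orderOf_eq_two_of hdd h1)
    ((se T hnc hnn hC).2.2 u huN)

/-- an element of `T` normalizing `D_u` is trivial. -/
theorem T_normalizer_D (u : G) (hu : orderOf u = 2)
    (huN : u ∉ Subgroup.normalizer ((T : Subgroup G) : Set G)) {t : G} (ht : t ∈ (T : Subgroup G))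
    (hn : t ∈ Subgroup.normalizer ((Subgroup.normalizer ((T : Subgroup G) : Set G) ⊓
      (Subgroup.normalizer ((T : Subgroup G) : Set G)).map (MulAut.conj u).toMonoidHom : Subgroup G)
        : Set G)) : t = 1 := by
  by_contra ht1
  obtain ⟨d, hd, hd1⟩ := exists_D_ne_one T hnc hnn hC u hu huN
  apply hd1
  have hdN := (Subgroup.mem_inf.mp hd).1
  -- the commutator lies in `D ⊓ T`
  have h1 : t * d * t⁻¹ * d⁻¹ ∈ Subgroup.normalizer ((T : Subgroup G) : Set G) ⊓
      (Subgroup.normalizer ((T : Subgroup G) : Set G)).map (MulAut.conj u).toMonoidHom :=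
    Subgroup.mul_mem _ ((Subgroup.mem_normalizer_iff.mp hn d).mp hd) (Subgroup.inv_mem _ hd)
  have h2 : t * d * t⁻¹ * d⁻¹ ∈ (T : Subgroup G) := by
    have h3 : d * t⁻¹ * d⁻¹ ∈ (T : Subgroup G) :=
      (Subgroup.mem_normalizer_iff.mp hdN t⁻¹).mp (Subgroup.inv_mem _ ht)
    have : t * d * t⁻¹ * d⁻¹ = t * (d * t⁻¹ * d⁻¹) := by group
    rw [this]
    exact Subgroup.mul_mem _ ht h3
  have h4 : t * d * t⁻¹ * d⁻¹ ∈ (⊥ : Subgroup G) := by
    rw [← D_inf_T T hnc hnn hC u huN]
    exact Subgroup.mem_inf.mpr ⟨h1, h2⟩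
  rw [Subgroup.mem_bot] at h4
  apply free T hnc hnn hC u huN hd ht ht1
  have h5 : t * d = d * t := by
    have : t * d = (t * d * t⁻¹ * d⁻¹) * (d * t) := by group
    rw [this, h4, one_mul]
  calc d * t * d⁻¹ = (d * t) * d⁻¹ := rfl
    _ = (t * d) * d⁻¹ := by rw [h5]
    _ = t := by group

/-- `N ⊓ N_G(D_u) = D_u`. -/
theorem N_inf_normalizer_D (u : G) (hu : orderOf u = 2)
    (huN : u ∉ Subgroup.normalizer ((T : Subgroup G) : Set G)) {n : G}
    (hnN : n ∈ Subgroup.normalizer ((T : Subgroup G) : Set G))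
    (hn : n ∈ Subgroup.normalizer ((Subgroup.normalizer ((T : Subgroup G) : Set G) ⊓
      (Subgroup.normalizer ((T : Subgroup G) : Set G)).map (MulAut.conj u).toMonoidHom : Subgroup G)
        : Set G)) :
    n ∈ Subgroup.normalizer ((T : Subgroup G) : Set G) ⊓
      (Subgroup.normalizer ((T : Subgroup G) : Set G)).map (MulAut.conj u).toMonoidHom := by
  obtain ⟨d, hd, hdn⟩ := exists_mul T hnc hnn hC u hu huN n hnN
  have h1 : d⁻¹ * n ∈ Subgroup.normalizer ((Subgroup.normalizer ((T : Subgroup G) : Set G) ⊓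
      (Subgroup.normalizer ((T : Subgroup G) : Set G)).map (MulAut.conj u).toMonoidHom : Subgroup G)
        : Set G) :=
    Subgroup.mul_mem _ (Subgroup.inv_mem _ (Subgroup.le_normalizer hd)) hn
  have h2 := T_normalizer_D T hnc hnn hC u hu huN hdn h1
  have : n = d := by
    calc n = d * (d⁻¹ * n) := by group
      _ = d := by rw [h2, mul_one]
  rw [this]; exact hd


/-- if `g` normalizes `D_u` then `D_u` fixes the coset `gN`. -/
theorem D_fix_of_normalizer (u : G) {g : G}
    (hg : g ∈ Subgroup.normalizer ((Subgroup.normalizer ((T : Subgroup G) : Set G) ⊓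
      (Subgroup.normalizer ((T : Subgroup G) : Set G)).map (MulAut.conj u).toMonoidHom : Subgroup G)
        : Set G)) :
    ∀ d ∈ Subgroup.normalizer ((T : Subgroup G) : Set G) ⊓
      (Subgroup.normalizer ((T : Subgroup G) : Set G)).map (MulAut.conj u).toMonoidHom,
      d • ((g : G) : G ⧸ Subgroup.normalizer ((T : Subgroup G) : Set G)) = (g : G) := by
  intro d hd
  rw [StrEmb2.smul_mk_eq_iff]
  have h1 := (Subgroup.mem_normalizer_iff.mp (Subgroup.inv_mem _ hg) d).mp hd
  rw [inv_inv] at h1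
  exact (Subgroup.mem_inf.mp h1).1

/-- the involution `u` normalizes `D_u`. -/
theorem u_mem_normalizer_D (u : G) (hu : orderOf u = 2)
    (huN : u ∉ Subgroup.normalizer ((T : Subgroup G) : Set G)) :
    u ∈ Subgroup.normalizer ((Subgroup.normalizer ((T : Subgroup G) : Set G) ⊓
      (Subgroup.normalizer ((T : Subgroup G) : Set G)).map (MulAut.conj u).toMonoidHom : Subgroup G)
        : Set G) := by
  apply Conj.mem_normalizer_of_conj_mem
  intro d hd
  rw [inverts T hnc hnn hC u hu huN d hd]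
  exact Subgroup.inv_mem _ hd

/-- an involution normalizing `D_u` lies outside `N` and has the same two point stabilizer. -/
theorem invol_normalizer_D (u : G) (hu : orderOf u = 2)
    (huN : u ∉ Subgroup.normalizer ((T : Subgroup G) : Set G)) {w : G} (hw : orderOf w = 2)
    (hwn : w ∈ Subgroup.normalizer ((Subgroup.normalizer ((T : Subgroup G) : Set G) ⊓
      (Subgroup.normalizer ((T : Subgroup G) : Set G)).map (MulAut.conj u).toMonoidHom : Subgroup G)
        : Set G)) :
    w ∉ Subgroup.normalizer ((T : Subgroup G) : Set G) ∧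
    Subgroup.normalizer ((T : Subgroup G) : Set G) ⊓
      (Subgroup.normalizer ((T : Subgroup G) : Set G)).map (MulAut.conj u).toMonoidHom =
    Subgroup.normalizer ((T : Subgroup G) : Set G) ⊓
      (Subgroup.normalizer ((T : Subgroup G) : Set G)).map (MulAut.conj w).toMonoidHom := by
  have hwN : w ∉ Subgroup.normalizer ((T : Subgroup G) : Set G) := by
    intro h
    have hwT := (basic T hnc hC).2.2.2 w h hw
    have := T_normalizer_D T hnc hnn hC u hu huN hwT hwn
    rw [this, orderOf_one] at hw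
    omega
  exact ⟨hwN, D_eq_of_fix T hnc hnn hC u hu huN w hw hwN (D_fix_of_normalizer T hnc hnn hC u hwn)⟩

/-- decomposition of the normalizer of `D_u`. -/
theorem key_decomp (u : G) (hu : orderOf u = 2)
    (huN : u ∉ Subgroup.normalizer ((T : Subgroup G) : Set G)) {g : G}
    (hg : g ∈ Subgroup.normalizer ((Subgroup.normalizer ((T : Subgroup G) : Set G) ⊓
      (Subgroup.normalizer ((T : Subgroup G) : Set G)).map (MulAut.conj u).toMonoidHom : Subgroup G)
        : Set G)) :
    g ∈ Subgroup.normalizer ((T : Subgroup G) : Set G) ⊓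
      (Subgroup.normalizer ((T : Subgroup G) : Set G)).map (MulAut.conj u).toMonoidHom ∨
    ∃ w : G, orderOf w = 2 ∧ w ∉ Subgroup.normalizer ((T : Subgroup G) : Set G) ∧
      (Subgroup.normalizer ((T : Subgroup G) : Set G) ⊓
        (Subgroup.normalizer ((T : Subgroup G) : Set G)).map (MulAut.conj u).toMonoidHom =
      Subgroup.normalizer ((T : Subgroup G) : Set G) ⊓
        (Subgroup.normalizer ((T : Subgroup G) : Set G)).map (MulAut.conj w).toMonoidHom) ∧
      w⁻¹ * g ∈ Subgroup.normalizer ((T : Subgroup G) : Set G) ⊓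
        (Subgroup.normalizer ((T : Subgroup G) : Set G)).map (MulAut.conj u).toMonoidHom := by
  by_cases hgN : g ∈ Subgroup.normalizer ((T : Subgroup G) : Set G)
  · left
    exact N_inf_normalizer_D T hnc hnn hC u hu huN hgN hg
  · right
    have hz : ((g : G) : G ⧸ Subgroup.normalizer ((T : Subgroup G) : Set G)) ≠ ((1 : G) : G ⧸ _) := by
      intro h
      apply hgN
      have := QuotientGroup.eq.mp h.symm
      simpa using this
    obtain ⟨w, hw, hwN, hwz⟩ := exists_invol_swap T hnc hnn hC _ hz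
    have hfix := D_fix_of_normalizer T hnc hnn hC u hg
    rw [← hwz] at hfix
    have hDw := D_eq_of_fix T hnc hnn hC u hu huN w hw hwN hfix
    refine ⟨w, hw, hwN, hDw, ?_⟩
    have hwn : w ∈ Subgroup.normalizer ((Subgroup.normalizer ((T : Subgroup G) : Set G) ⊓
      (Subgroup.normalizer ((T : Subgroup G) : Set G)).map (MulAut.conj u).toMonoidHom : Subgroup G)
        : Set G) := by
      rw [hDw]
      exact u_mem_normalizer_D T hnc hnn hC w hw hwN
    apply N_inf_normalizer_D T hnc hnn hC u hu huN (QuotientGroup.eq.mp hwz)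
    exact Subgroup.mul_mem _ (Subgroup.inv_mem _ hwn) hg

/-- the product of two involutions normalizing `D_u` lies in `D_u`. -/
theorem mul_invol_mem_D (u : G) (hu : orderOf u = 2)
    (huN : u ∉ Subgroup.normalizer ((T : Subgroup G) : Set G)) {w₁ w₂ : G}
    (h₁ : orderOf w₁ = 2) (h₂ : orderOf w₂ = 2)
    (hn₁ : w₁ ∈ Subgroup.normalizer ((Subgroup.normalizer ((T : Subgroup G) : Set G) ⊓
      (Subgroup.normalizer ((T : Subgroup G) : Set G)).map (MulAut.conj u).toMonoidHom : Subgroup G)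
        : Set G))
    (hn₂ : w₂ ∈ Subgroup.normalizer ((Subgroup.normalizer ((T : Subgroup G) : Set G) ⊓
      (Subgroup.normalizer ((T : Subgroup G) : Set G)).map (MulAut.conj u).toMonoidHom : Subgroup G)
        : Set G)) :
    w₁ * w₂ ∈ Subgroup.normalizer ((T : Subgroup G) : Set G) ⊓
      (Subgroup.normalizer ((T : Subgroup G) : Set G)).map (MulAut.conj u).toMonoidHom := by
  -- both invert `D_u`
  have hinv : ∀ w : G, orderOf w = 2 →
      w ∈ Subgroup.normalizer ((Subgroup.normalizer ((T : Subgroup G) : Set G) ⊓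
      (Subgroup.normalizer ((T : Subgroup G) : Set G)).map (MulAut.conj u).toMonoidHom : Subgroup G)
        : Set G) →
      ∀ d ∈ Subgroup.normalizer ((T : Subgroup G) : Set G) ⊓
        (Subgroup.normalizer ((T : Subgroup G) : Set G)).map (MulAut.conj u).toMonoidHom,
        w * d * w⁻¹ = d⁻¹ := by
    intro w hw hwn d hd
    obtain ⟨hwN, hDw⟩ := invol_normalizer_D T hnc hnn hC u hu huN hw hwn
    rw [hDw] at hd
    exact inverts T hnc hnn hC w hw hwN d hd
  rcases key_decomp T hnc hnn hC u hu huN (Subgroup.mul_mem _ hn₁ hn₂) with h | ⟨w, hw, hwN, hDw, hd₀⟩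
  · exact h
  · exfalso
    obtain ⟨d, hd, hd1⟩ := exists_D_ne_one T hnc hnn hC u hu huN
    apply hd1
    apply D_eq_one_of_inv T hnc hnn hC u huN hd
    -- conjugation by `w₁ * w₂` fixes `d`
    have e1 : (w₁ * w₂) * d * (w₁ * w₂)⁻¹ = d := by
      have a2 := hinv w₂ h₂ hn₂ d hd
      have a1 := hinv w₁ h₁ hn₁ d⁻¹ (Subgroup.inv_mem _ hd)
      calc (w₁ * w₂) * d * (w₁ * w₂)⁻¹ = w₁ * (w₂ * d * w₂⁻¹) * w₁⁻¹ := by group
        _ = w₁ * d⁻¹ * w₁⁻¹ := by rw [a2]
        _ = d := by rw [a1, inv_inv]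
    -- but `w₁ * w₂ = w * d₀` inverts `d`
    have hwn : w ∈ Subgroup.normalizer ((Subgroup.normalizer ((T : Subgroup G) : Set G) ⊓
      (Subgroup.normalizer ((T : Subgroup G) : Set G)).map (MulAut.conj u).toMonoidHom : Subgroup G)
        : Set G) := by
      rw [hDw]
      exact u_mem_normalizer_D T hnc hnn hC w hw hwN
    have e2 : (w₁ * w₂) * d * (w₁ * w₂)⁻¹ = d⁻¹ := by
      have hcomm := D_comm T hnc hnn hC u hu huN _ hd₀ d hd
      have a3 := hinv w hw hwn d hd
      calc (w₁ * w₂) * d * (w₁ * w₂)⁻¹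
          = w * ((w⁻¹ * (w₁ * w₂)) * d) * (w⁻¹ * (w₁ * w₂))⁻¹ * w⁻¹ := by group
        _ = w * (d * (w⁻¹ * (w₁ * w₂))) * (w⁻¹ * (w₁ * w₂))⁻¹ * w⁻¹ := by rw [hcomm]
        _ = w * d * w⁻¹ := by group
        _ = d⁻¹ := a3
    exact e1.symm.trans e2

end Cfsg.Agent.Lib.Lead.Zass
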