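import Mathlib
import Cfsg.Agent.Lib.Lead.Zass2
import Cfsg.Agent.S1228

/-!
# Groups whose involution centralizers are elementary abelian 2-groups, III

Three point stabilizers are trivial, `T` is regular on the cosets `≠ N`, `D_u` is regular on the
cosets `≠ N, uN`.
-/

set_option autoImplicit false

namespace Cfsg.Agent.Lib.Lead.Zass

open Cfsg.Agent.Lib.Lead
open scoped Pointwise

variable {G : Type*} [Group G] [Finite G] (T : Sylow 2 G)
  (hnc : ¬ IsCyclic (T : Subgroup G)) (hnn : ¬ (T : Subgroup G).Normal)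
  (hC : ∀ t : G, orderOf t = 2 → IsMulCommutative (Subgroup.centralizer ({t} : Set G)) ∧
    ∀ c ∈ Subgroup.centralizer ({t} : Set G), c ^ 2 = 1)

include hnc hnn hC

/-- membership in `D_w` via fixed cosets -/
theorem mem_D_iff (w g : G) :
    g ∈ Subgroup.normalizer ((T : Subgroup G) : Set G) ⊓
      (Subgroup.normalizer ((T : Subgroup G) : Set G)).map (MulAut.conj w).toMonoidHom ↔
    g • ((1 : G) : G ⧸ Subgroup.normalizer ((T : Subgroup G) : Set G)) = ((1 : G) : G ⧸ _) ∧
    g • ((w : G) : G ⧸ Subgroup.normalizer ((T : Subgroup G) : Set G)) = ((w : G) : G ⧸ _) := by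
  rw [Subgroup.mem_inf, StrEmb2.smul_one_eq_iff, mem_map_conj_iff]

/-- an element fixing `N` and two further distinct cosets is trivial. -/
theorem three_fix (g : G) (a b : G ⧸ Subgroup.normalizer ((T : Subgroup G) : Set G))
    (ha : a ≠ ((1 : G) : G ⧸ _)) (hb : b ≠ ((1 : G) : G ⧸ _)) (hab : a ≠ b)
    (h0 : g • ((1 : G) : G ⧸ Subgroup.normalizer ((T : Subgroup G) : Set G)) = ((1 : G) : G ⧸ _))
    (h1 : g • a = a) (h2 : g • b = b) : g = 1 := by
  obtain ⟨w₁, hw₁, hw₁N, rfl⟩ := exists_invol_swap T hnc hnn hC a ha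
  obtain ⟨w₂, hw₂, hw₂N, rfl⟩ := exists_invol_swap T hnc hnn hC b hb
  have hg1 := (mem_D_iff T hnc hnn hC w₁ g).mpr ⟨h0, h1⟩
  have hg2 := (mem_D_iff T hnc hnn hC w₂ g).mpr ⟨h0, h2⟩
  by_contra hg
  -- `D_{w₁} ≤ D_{w₂}`
  have hle : ∀ d ∈ Subgroup.normalizer ((T : Subgroup G) : Set G) ⊓
      (Subgroup.normalizer ((T : Subgroup G) : Set G)).map (MulAut.conj w₁).toMonoidHom,
      d ∈ Subgroup.normalizer ((T : Subgroup G) : Set G) ⊓
      (Subgroup.normalizer ((T : Subgroup G) : Set G)).map (MulAut.conj w₂).toMonoidHom := by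
    intro d hd
    obtain ⟨d₂, hd₂, hdt⟩ := exists_mul T hnc hnn hC w₂ hw₂ hw₂N d (Subgroup.mem_inf.mp hd).1
    have c1 : d * g = g * d := D_comm T hnc hnn hC w₁ hw₁ hw₁N d hd g hg1
    have c2 : d₂ * g = g * d₂ := D_comm T hnc hnn hC w₂ hw₂ hw₂N d₂ hd₂ g hg2
    have c3 : g * (d₂⁻¹ * d) * g⁻¹ = d₂⁻¹ * d := by
      have c2' : g * d₂⁻¹ = d₂⁻¹ * g := by
        calc g * d₂⁻¹ = d₂⁻¹ * (d₂ * g) * d₂⁻¹ := by group
          _ = d₂⁻¹ * (g * d₂) * d₂⁻¹ := by rw [c2]
          _ = d₂⁻¹ * g := by group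
      calc g * (d₂⁻¹ * d) * g⁻¹ = (g * d₂⁻¹) * d * g⁻¹ := by group
        _ = d₂⁻¹ * (g * d) * g⁻¹ := by rw [c2']; group
        _ = d₂⁻¹ * (d * g) * g⁻¹ := by rw [c1]
        _ = d₂⁻¹ * d := by group
    have ht1 : d₂⁻¹ * d = 1 := by
      by_contra hne
      exact hg (free T hnc hnn hC w₁ hw₁N hg1 hdt hne c3)
    have : d = d₂ := by
      calc d = d₂ * (d₂⁻¹ * d) := by group
        _ = d₂ := by rw [ht1, mul_one]
    rw [this]; exact hd₂
  have hfix : ∀ d ∈ Subgroup.normalizer ((T : Subgroup G) : Set G) ⊓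
      (Subgroup.normalizer ((T : Subgroup G) : Set G)).map (MulAut.conj w₁).toMonoidHom,
      d • ((w₂ : G) : G ⧸ Subgroup.normalizer ((T : Subgroup G) : Set G)) = (w₂ : G) := by
    intro d hd
    exact ((mem_D_iff T hnc hnn hC w₂ d).mp (hle d hd)).2
  rcases ((Cfsg.Agent.S1228.result T hnc hnn hC w₁ hw₁ hw₁N).2 w₂).mp hfix with h | h
  · exact hb h
  · exact hab h.symm

/-- a nonidentity element of `T` fixes only the coset `N`. -/
theorem T_semiregular {t : G} (ht : t ∈ (T : Subgroup G))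
    (z : G ⧸ Subgroup.normalizer ((T : Subgroup G) : Set G)) (hz : z ≠ ((1 : G) : G ⧸ _))
    (h : t • z = z) : t = 1 := by
  by_contra ht1
  apply hz
  have ho := orderOf_eq_two T hnc hC ht ht1
  exact StrEmb2.fix_unique (se T hnc hnn hC) t ho z _ h
    ((StrEmb2.smul_one_eq_iff t).mpr (Subgroup.le_normalizer ht))


/-- there is a coset different from `N`. -/
theorem exists_ne_base : ∃ z : G ⧸ Subgroup.normalizer ((T : Subgroup G) : Set G),
    z ≠ ((1 : G) : G ⧸ _) := by
  have hN : Subgroup.normalizer ((T : Subgroup G) : Set G) ≠ ⊤ := (se T hnc hnn hC).1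
  obtain ⟨g, -, hg⟩ := SetLike.exists_of_lt (lt_top_iff_ne_top.mpr hN)
  refine ⟨(g : G ⧸ _), ?_⟩
  intro h
  apply hg
  have := QuotientGroup.eq.mp h.symm
  simpa using this

theorem card_ne_base :
    Nat.card {z : G ⧸ Subgroup.normalizer ((T : Subgroup G) : Set G) // z ≠ ((1 : G) : G ⧸ _)} + 1
      = Nat.card (G ⧸ Subgroup.normalizer ((T : Subgroup G) : Set G)) := by
  have h1 : Nat.card {z : G ⧸ Subgroup.normalizer ((T : Subgroup G) : Set G) //
      z ≠ ((1 : G) : G ⧸ _)} = ({((1 : G) : G ⧸ Subgroup.normalizer ((T : Subgroup G) : Set G))}ᶜ :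
        Set (G ⧸ Subgroup.normalizer ((T : Subgroup G) : Set G))).ncard :=
    _root_.Nat.card_coe_set_eq _
  rw [h1, ← Set.ncard_compl_add_ncard ({((1 : G) : G ⧸ Subgroup.normalizer ((T : Subgroup G) : Set G))} :
    Set (G ⧸ Subgroup.normalizer ((T : Subgroup G) : Set G))), Set.ncard_singleton]

/-- `|T| ≤ n - 1`. -/
theorem card_T_le :
    Nat.card ↥(T : Subgroup G) ≤
      Nat.card {z : G ⧸ Subgroup.normalizer ((T : Subgroup G) : Set G) // z ≠ ((1 : G) : G ⧸ _)} := by
  obtain ⟨z₀, hz₀⟩ := exists_ne_base T hnc hnn hC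
  have hmove : ∀ t : ↥(T : Subgroup G), (t : G) • z₀ ≠ ((1 : G) : G ⧸ _) := by
    intro t h
    apply hz₀
    have h1 : (t : G)⁻¹ • ((t : G) • z₀) = (t : G)⁻¹ • ((1 : G) : G ⧸ Subgroup.normalizer ((T : Subgroup G) : Set G)) := by
      rw [h]
    rw [inv_smul_smul] at h1
    rw [h1, StrEmb2.smul_one_eq_iff]
    exact Subgroup.inv_mem _ (Subgroup.le_normalizer t.2)
  apply Nat.card_le_card_of_injective (fun t : ↥(T : Subgroup G) => (⟨(t : G) • z₀, hmove t⟩ :
    {z : G ⧸ Subgroup.normalizer ((T : Subgroup G) : Set G) // z ≠ ((1 : G) : G ⧸ _)}))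
  intro t t' h
  have h1 : (t : G) • z₀ = (t' : G) • z₀ := congrArg Subtype.val h
  have h2 : ((t' : G)⁻¹ * t) • z₀ = z₀ := by
    rw [mul_smul, h1, inv_smul_smul]
  have h3 := T_semiregular T hnc hnn hC
    (Subgroup.mul_mem _ (Subgroup.inv_mem _ t'.2) t.2) z₀ hz₀ h2
  apply Subtype.ext
  calc (t : G) = t' * ((t' : G)⁻¹ * t) := by group
    _ = t' := by rw [h3, mul_one]

/-- the number of nonidentity elements in a two point stabilizer. -/
theorem card_two_stab (z : G ⧸ Subgroup.normalizer ((T : Subgroup G) : Set G))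
    (hz : z ≠ ((1 : G) : G ⧸ Subgroup.normalizer ((T : Subgroup G) : Set G))) :
    Nat.card {g : G // g • ((1 : G) : G ⧸ Subgroup.normalizer ((T : Subgroup G) : Set G)) =
      ((1 : G) : G ⧸ Subgroup.normalizer ((T : Subgroup G) : Set G)) ∧ g • z = z ∧ g ≠ 1} + 2 =
      Nat.card ↥(T : Subgroup G) := by
  obtain ⟨w, hw, hwN, rfl⟩ := exists_invol_swap T hnc hnn hC z hz
  have h1 : Nat.card {g : G // g • ((1 : G) : G ⧸ Subgroup.normalizer ((T : Subgroup G) : Set G)) =
      ((1 : G) : G ⧸ Subgroup.normalizer ((T : Subgroup G) : Set G)) ∧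
      g • ((w : G) : G ⧸ Subgroup.normalizer ((T : Subgroup G) : Set G)) =
        ((w : G) : G ⧸ Subgroup.normalizer ((T : Subgroup G) : Set G)) ∧ g ≠ 1} =
      {g : G | g • ((1 : G) : G ⧸ Subgroup.normalizer ((T : Subgroup G) : Set G)) =
      ((1 : G) : G ⧸ Subgroup.normalizer ((T : Subgroup G) : Set G)) ∧
      g • ((w : G) : G ⧸ Subgroup.normalizer ((T : Subgroup G) : Set G)) =
        ((w : G) : G ⧸ Subgroup.normalizer ((T : Subgroup G) : Set G)) ∧ g ≠ 1}.ncard :=
    _root_.Nat.card_coe_set_eq _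
  have h2 : {g : G | g • ((1 : G) : G ⧸ Subgroup.normalizer ((T : Subgroup G) : Set G)) =
      ((1 : G) : G ⧸ Subgroup.normalizer ((T : Subgroup G) : Set G)) ∧
      g • ((w : G) : G ⧸ Subgroup.normalizer ((T : Subgroup G) : Set G)) =
        ((w : G) : G ⧸ Subgroup.normalizer ((T : Subgroup G) : Set G)) ∧ g ≠ 1} =
      ((Subgroup.normalizer ((T : Subgroup G) : Set G) ⊓
      (Subgroup.normalizer ((T : Subgroup G) : Set G)).map (MulAut.conj w).toMonoidHom : Subgroup G)
        : Set G) \ {1} := by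
    ext g
    constructor
    · rintro ⟨a, b, c⟩
      exact ⟨(mem_D_iff T hnc hnn hC w g).mpr ⟨a, b⟩, c⟩
    · rintro ⟨a, c⟩
      obtain ⟨a1, a2⟩ := (mem_D_iff T hnc hnn hC w g).mp a
      exact ⟨a1, a2, c⟩
  have h3 := card_D T hnc hnn hC w hw hwN
  have h4 : Nat.card ↥(Subgroup.normalizer ((T : Subgroup G) : Set G) ⊓
      (Subgroup.normalizer ((T : Subgroup G) : Set G)).map (MulAut.conj w).toMonoidHom) =
      ((Subgroup.normalizer ((T : Subgroup G) : Set G) ⊓
      (Subgroup.normalizer ((T : Subgroup G) : Set G)).map (MulAut.conj w).toMonoidHom : Subgroup G)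
        : Set G).ncard := _root_.Nat.card_coe_set_eq _
  have h5 := Set.ncard_sdiff_singleton_add_one (Subgroup.one_mem (Subgroup.normalizer ((T : Subgroup G) : Set G) ⊓
      (Subgroup.normalizer ((T : Subgroup G) : Set G)).map (MulAut.conj w).toMonoidHom)) (Set.toFinite _)
  rw [h1, h2]
  omega


/-- `|N| = (|T| - 1) * |T|`. -/
theorem card_N' : ∃ b : ℕ, Nat.card ↥(T : Subgroup G) = b + 2 ∧
    Nat.card ↥(Subgroup.normalizer ((T : Subgroup G) : Set G)) = (b + 1) * (b + 2) := by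
  obtain ⟨z₀, hz₀⟩ := exists_ne_base T hnc hnn hC
  obtain ⟨u, hu, huN, -⟩ := exists_invol_swap T hnc hnn hC z₀ hz₀
  have h1 := card_N T hnc hnn hC u hu huN
  have h2 := card_D T hnc hnn hC u hu huN
  have h4 := four_le_card T hnc hC
  refine ⟨Nat.card ↥(T : Subgroup G) - 2, by omega, ?_⟩
  rw [h1]
  have : Nat.card ↥(Subgroup.normalizer ((T : Subgroup G) : Set G) ⊓
      (Subgroup.normalizer ((T : Subgroup G) : Set G)).map (MulAut.conj u).toMonoidHom) =
      Nat.card ↥(T : Subgroup G) - 2 + 1 := by omega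
  rw [this]
  congr 1
  omega

/-- `n - 1 ≤ |T|`. -/
theorem card_ne_base_le :
    Nat.card {z : G ⧸ Subgroup.normalizer ((T : Subgroup G) : Set G) //
      z ≠ ((1 : G) : G ⧸ Subgroup.normalizer ((T : Subgroup G) : Set G))} ≤
      Nat.card ↥(T : Subgroup G) := by
  classical
  haveI := Fintype.ofFinite {z : G ⧸ Subgroup.normalizer ((T : Subgroup G) : Set G) //
      z ≠ ((1 : G) : G ⧸ Subgroup.normalizer ((T : Subgroup G) : Set G))}
  obtain ⟨b, hb, hNb⟩ := card_N' T hnc hnn hC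
  have hβ : ∀ z : {z : G ⧸ Subgroup.normalizer ((T : Subgroup G) : Set G) //
      z ≠ ((1 : G) : G ⧸ Subgroup.normalizer ((T : Subgroup G) : Set G))},
      Nat.card {g : G // g • ((1 : G) : G ⧸ Subgroup.normalizer ((T : Subgroup G) : Set G)) =
      ((1 : G) : G ⧸ Subgroup.normalizer ((T : Subgroup G) : Set G)) ∧ g • z.1 = z.1 ∧ g ≠ 1} = b := by
    intro z
    have := card_two_stab T hnc hnn hC z.1 z.2
    omega
  let Ψ : (Σ z : {z : G ⧸ Subgroup.normalizer ((T : Subgroup G) : Set G) //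
      z ≠ ((1 : G) : G ⧸ Subgroup.normalizer ((T : Subgroup G) : Set G))},
      {g : G // g • ((1 : G) : G ⧸ Subgroup.normalizer ((T : Subgroup G) : Set G)) =
      ((1 : G) : G ⧸ Subgroup.normalizer ((T : Subgroup G) : Set G)) ∧ g • z.1 = z.1 ∧ g ≠ 1}) →
      {g : G // g ∈ Subgroup.normalizer ((T : Subgroup G) : Set G) ∧ g ∉ (T : Subgroup G)} :=
    fun p => ⟨p.2.1, (StrEmb2.smul_one_eq_iff _).mp p.2.2.1,
      fun h => p.2.2.2.2 (T_semiregular T hnc hnn hC h p.1.1 p.1.2 p.2.2.2.1)⟩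
  have hΨ : Function.Injective Ψ := by
    rintro ⟨z, g, hg0, hgz, hg1⟩ ⟨z', g', hg0', hgz', hg1'⟩ h
    have hgg : g = g' := congrArg Subtype.val h
    subst hgg
    have hzz : z = z' := by
      by_contra hne
      exact hg1 (three_fix T hnc hnn hC g z.1 z'.1 z.2 z'.2 (fun h => hne (Subtype.ext h))
        hg0 hgz hgz')
    subst hzz
    rfl
  have h1 := Nat.card_le_card_of_injective Ψ hΨ
  rw [Nat.card_sigma] at h1
  rw [Finset.sum_congr rfl (fun z _ => hβ z), Finset.sum_const, smul_eq_mul, Finset.card_univ,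
    ← Nat.card_eq_fintype_card] at h1
  have h3 : Nat.card {g : G // g ∈ Subgroup.normalizer ((T : Subgroup G) : Set G) ∧
      g ∉ (T : Subgroup G)} = (b + 1) * (b + 2) - (b + 2) := by
    have e1 : Nat.card {g : G // g ∈ Subgroup.normalizer ((T : Subgroup G) : Set G) ∧
        g ∉ (T : Subgroup G)} =
        ((Subgroup.normalizer ((T : Subgroup G) : Set G) : Set G) \ ((T : Subgroup G) : Set G)).ncard :=
      _root_.Nat.card_coe_set_eq _
    have e2 : ((T : Subgroup G) : Set G) ⊆ (Subgroup.normalizer ((T : Subgroup G) : Set G) : Set G) :=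
      fun x hx => Subgroup.le_normalizer hx
    have e3 : Nat.card ↥(Subgroup.normalizer ((T : Subgroup G) : Set G)) =
        (Subgroup.normalizer ((T : Subgroup G) : Set G) : Set G).ncard :=
      _root_.Nat.card_coe_set_eq _
    have e4 : Nat.card ↥(T : Subgroup G) = ((T : Subgroup G) : Set G).ncard :=
      _root_.Nat.card_coe_set_eq _
    rw [e1, Set.ncard_sdiff e2 (Set.toFinite _), ← e3, ← e4, hNb, hb]
  have h5 : (b + 1) * (b + 2) - (b + 2) = (b + 2) * b := by
    have : (b + 1) * (b + 2) = (b + 2) * b + (b + 2) := by ring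
    omega
  have hb0 : 0 < b := by
    have := four_le_card T hnc hC
    omega
  rw [h3, h5] at h1
  rw [hb]
  exact Nat.le_of_mul_le_mul_right h1 hb0


/-- `T` is transitive on the cosets other than `N`. -/
theorem T_transitive (x y : G ⧸ Subgroup.normalizer ((T : Subgroup G) : Set G))
    (hx : x ≠ ((1 : G) : G ⧸ Subgroup.normalizer ((T : Subgroup G) : Set G)))
    (hy : y ≠ ((1 : G) : G ⧸ Subgroup.normalizer ((T : Subgroup G) : Set G))) :
    ∃ t ∈ (T : Subgroup G), t • x = y := by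
  have hmove : ∀ t : ↥(T : Subgroup G), (t : G) • x ≠
      ((1 : G) : G ⧸ Subgroup.normalizer ((T : Subgroup G) : Set G)) := by
    intro t h
    apply hx
    have h1 : (t : G)⁻¹ • ((t : G) • x) =
        (t : G)⁻¹ • ((1 : G) : G ⧸ Subgroup.normalizer ((T : Subgroup G) : Set G)) := by
      rw [h]
    rw [inv_smul_smul] at h1
    rw [h1, StrEmb2.smul_one_eq_iff]
    exact Subgroup.inv_mem _ (Subgroup.le_normalizer t.2)
  have hinj : Function.Injective (fun t : ↥(T : Subgroup G) => (⟨(t : G) • x, hmove t⟩ :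
    {z : G ⧸ Subgroup.normalizer ((T : Subgroup G) : Set G) //
      z ≠ ((1 : G) : G ⧸ Subgroup.normalizer ((T : Subgroup G) : Set G))})) := by
    intro t t' h
    have h1 : (t : G) • x = (t' : G) • x := congrArg Subtype.val h
    have h2 : ((t' : G)⁻¹ * t) • x = x := by
      rw [mul_smul, h1, inv_smul_smul]
    have h3 := T_semiregular T hnc hnn hC
      (Subgroup.mul_mem _ (Subgroup.inv_mem _ t'.2) t.2) x hx h2
    apply Subtype.ext
    calc (t : G) = t' * ((t' : G)⁻¹ * t) := by group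
      _ = t' := by rw [h3, mul_one]
  have hbij := hinj.bijective_of_nat_card_le (card_ne_base_le T hnc hnn hC)
  obtain ⟨t, ht⟩ := hbij.2 ⟨y, hy⟩
  exact ⟨t.1, t.2, congrArg Subtype.val ht⟩

/-- `n = |T| + 1`. -/
theorem card_points :
    Nat.card (G ⧸ Subgroup.normalizer ((T : Subgroup G) : Set G)) = Nat.card ↥(T : Subgroup G) + 1 := by
  have h1 := card_ne_base T hnc hnn hC
  have h2 := card_ne_base_le T hnc hnn hC
  have h3 := card_T_le T hnc hnn hC
  omega

/-- `D_u` is transitive on the cosets other than `N`, `uN`. -/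
theorem D_transitive (u : G) (hu : orderOf u = 2)
    (huN : u ∉ Subgroup.normalizer ((T : Subgroup G) : Set G))
    (p c : G ⧸ Subgroup.normalizer ((T : Subgroup G) : Set G))
    (hp0 : p ≠ ((1 : G) : G ⧸ Subgroup.normalizer ((T : Subgroup G) : Set G)))
    (hpu : p ≠ ((u : G) : G ⧸ Subgroup.normalizer ((T : Subgroup G) : Set G)))
    (hc0 : c ≠ ((1 : G) : G ⧸ Subgroup.normalizer ((T : Subgroup G) : Set G)))
    (hcu : c ≠ ((u : G) : G ⧸ Subgroup.normalizer ((T : Subgroup G) : Set G))) :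
    ∃ d ∈ Subgroup.normalizer ((T : Subgroup G) : Set G) ⊓
      (Subgroup.normalizer ((T : Subgroup G) : Set G)).map (MulAut.conj u).toMonoidHom,
      d • p = c := by
  have hx0u : ((1 : G) : G ⧸ Subgroup.normalizer ((T : Subgroup G) : Set G)) ≠
      ((u : G) : G ⧸ Subgroup.normalizer ((T : Subgroup G) : Set G)) := by
    intro h
    apply huN
    have := QuotientGroup.eq.mp h
    simpa using this
  have hmove : ∀ d : ↥(Subgroup.normalizer ((T : Subgroup G) : Set G) ⊓
      (Subgroup.normalizer ((T : Subgroup G) : Set G)).map (MulAut.conj u).toMonoidHom),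
      (d : G) • p ≠ ((1 : G) : G ⧸ Subgroup.normalizer ((T : Subgroup G) : Set G)) ∧
      (d : G) • p ≠ ((u : G) : G ⧸ Subgroup.normalizer ((T : Subgroup G) : Set G)) := by
    intro d
    obtain ⟨h0, h1⟩ := (mem_D_iff T hnc hnn hC u d).mp d.2
    constructor
    · intro h
      apply hp0
      have e : (d : G)⁻¹ • ((d : G) • p) = (d : G)⁻¹ •
          ((1 : G) : G ⧸ Subgroup.normalizer ((T : Subgroup G) : Set G)) := by rw [h]
      rw [inv_smul_smul] at e
      rw [e, inv_smul_eq_iff, h0]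
    · intro h
      apply hpu
      have e : (d : G)⁻¹ • ((d : G) • p) = (d : G)⁻¹ •
          ((u : G) : G ⧸ Subgroup.normalizer ((T : Subgroup G) : Set G)) := by rw [h]
      rw [inv_smul_smul] at e
      rw [e, inv_smul_eq_iff, h1]
  have hinj : Function.Injective (fun d : ↥(Subgroup.normalizer ((T : Subgroup G) : Set G) ⊓
      (Subgroup.normalizer ((T : Subgroup G) : Set G)).map (MulAut.conj u).toMonoidHom) =>
      (⟨(d : G) • p, hmove d⟩ : {z : G ⧸ Subgroup.normalizer ((T : Subgroup G) : Set G) //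
        z ≠ ((1 : G) : G ⧸ Subgroup.normalizer ((T : Subgroup G) : Set G)) ∧
        z ≠ ((u : G) : G ⧸ Subgroup.normalizer ((T : Subgroup G) : Set G))})) := by
    intro d d' h
    have h1 : (d : G) • p = (d' : G) • p := congrArg Subtype.val h
    have h2 : ((d' : G)⁻¹ * d) • p = p := by
      rw [mul_smul, h1, inv_smul_smul]
    have hmem := Subgroup.mul_mem _ (Subgroup.inv_mem _ d'.2) d.2
    obtain ⟨a0, a1⟩ := (mem_D_iff T hnc hnn hC u _).mp hmem
    have h3 := three_fix T hnc hnn hC _ _ _ (Ne.symm hx0u) hp0 (Ne.symm hpu) a0 a1 h2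
    apply Subtype.ext
    calc (d : G) = d' * ((d' : G)⁻¹ * d) := by group
      _ = d' := by rw [h3, mul_one]
  have hcard : Nat.card {z : G ⧸ Subgroup.normalizer ((T : Subgroup G) : Set G) //
        z ≠ ((1 : G) : G ⧸ Subgroup.normalizer ((T : Subgroup G) : Set G)) ∧
        z ≠ ((u : G) : G ⧸ Subgroup.normalizer ((T : Subgroup G) : Set G))} ≤
      Nat.card ↥(Subgroup.normalizer ((T : Subgroup G) : Set G) ⊓
      (Subgroup.normalizer ((T : Subgroup G) : Set G)).map (MulAut.conj u).toMonoidHom) := by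
    have e1 : Nat.card {z : G ⧸ Subgroup.normalizer ((T : Subgroup G) : Set G) //
        z ≠ ((1 : G) : G ⧸ Subgroup.normalizer ((T : Subgroup G) : Set G)) ∧
        z ≠ ((u : G) : G ⧸ Subgroup.normalizer ((T : Subgroup G) : Set G))} =
        ({((1 : G) : G ⧸ Subgroup.normalizer ((T : Subgroup G) : Set G)),
          ((u : G) : G ⧸ Subgroup.normalizer ((T : Subgroup G) : Set G))}ᶜ :
          Set (G ⧸ Subgroup.normalizer ((T : Subgroup G) : Set G))).ncard := by
      rw [← _root_.Nat.card_coe_set_eq]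
      apply Nat.card_congr
      apply Equiv.subtypeEquivRight
      intro z
      simp only [Set.mem_compl_iff, Set.mem_insert_iff, Set.mem_singleton_iff, not_or]
    have e2 := Set.ncard_compl_add_ncard ({((1 : G) : G ⧸ Subgroup.normalizer ((T : Subgroup G) : Set G)),
          ((u : G) : G ⧸ Subgroup.normalizer ((T : Subgroup G) : Set G))} :
          Set (G ⧸ Subgroup.normalizer ((T : Subgroup G) : Set G)))
    rw [Set.ncard_pair hx0u] at e2
    have e3 := card_points T hnc hnn hC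
    have e4 := card_D T hnc hnn hC u hu huN
    omega
  have hbij := hinj.bijective_of_nat_card_le hcard
  obtain ⟨d, hd⟩ := hbij.2 ⟨c, hc0, hcu⟩
  exact ⟨d.1, d.2, congrArg Subtype.val hd⟩

end Cfsg.Agent.Lib.Lead.Zass
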